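import Mathlib
import Cfsg.Agent.Lib.Classical.AltFiveIso

/-!
A simple group of order 60 is alternating.
-/

set_option autoImplicit false

namespace Cfsg.Agent.Lie

theorem simple_sixty {G : Type*} [Group G] [Finite G] [hs : IsSimpleGroup G]
    (h : Nat.card G = 60) : Nonempty (G ≃* alternatingGroup (Fin 5)) := by
  haveI := Fact.mk Nat.prime_two
  obtain ⟨P⟩ : Nonempty (Sylow 2 G) := inferInstance
  have hfac : (60 : ℕ).factorization 2 = 2 := by
    rw [show (60 : ℕ) = 2 ^ 2 * 15 by norm_num, Nat.factorization_mul (by norm_num) (by norm_num),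
      Finsupp.add_apply, Nat.factorization_pow_self Nat.prime_two,
      Nat.factorization_eq_zero_of_not_dvd (by norm_num : ¬ 2 ∣ 15)]
  have hP : Nat.card (P : Subgroup G) = 4 := by
    rw [P.card_eq_multiplicity, h, hfac]; rfl
  have hPne : (P : Subgroup G) ≠ ⊥ := fun e => by rw [e, Subgroup.card_bot] at hP; omega
  have hPnt : (P : Subgroup G) ≠ ⊤ := fun e => by rw [e, Subgroup.card_top, h] at hP; omega
  have hdvd : Nat.card (Sylow 2 G) ∣ 15 := by
    have h1 := P.card_dvd_index
    have h2 := (P : Subgroup G).card_mul_index
    rw [hP, h] at h2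
    rwa [show (P : Subgroup G).index = 15 by omega] at h1
  by_cases h5 : Nat.card (Sylow 2 G) = 5
  · refine Cfsg.Agent.Classical.nonempty_equiv_alt_five hs h h5 ?_
    by_contra hne
    push Not at hne
    have h1 : Subsingleton (Sylow 2 G) := ⟨fun a b => by
      obtain ⟨g, hg⟩ := MulAction.exists_smul_eq G a b
      rw [← hg, hne g a]⟩
    rw [Nat.card_of_subsingleton P] at h5
    omega
  · exfalso
    have hle := Nat.le_of_dvd (by norm_num) hdvd
    have hcases : Nat.card (Sylow 2 G) = 1 ∨ Nat.card (Sylow 2 G) = 3 ∨ Nat.card (Sylow 2 G) = 15 := by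
      obtain ⟨k, hk⟩ : ∃ k, Nat.card (Sylow 2 G) = k := ⟨_, rfl⟩
      rw [hk] at hdvd hle h5 ⊢
      interval_cases k <;> norm_num at *
    rcases hcases with h1 | h3 | h15
    · have : (P : Subgroup G).Normal := by
        haveI := (Nat.card_eq_one_iff_unique.1 h1).1
        exact Sylow.normal_of_subsingleton P
      rcases hs.eq_bot_or_eq_top_of_normal _ this with e | e
      · exact hPne e
      · exact hPnt e
    · let f := MulAction.toPermHom G (Sylow 2 G)
      rcases hs.eq_bot_or_eq_top_of_normal f.ker f.normal_ker with e | e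
      · have := Nat.card_le_card_of_injective f ((MonoidHom.ker_eq_bot_iff f).1 e)
        rw [Nat.card_perm, h3, h] at this
        norm_num [Nat.factorial] at this
      · have h1 : Subsingleton (Sylow 2 G) := ⟨fun a b => by
          obtain ⟨g, hg⟩ := MulAction.exists_smul_eq G a b
          have hk : f g = 1 := MonoidHom.mem_ker.1 (e ▸ Subgroup.mem_top g)
          rw [← hg]
          exact (congrArg (fun σ : Equiv.Perm (Sylow 2 G) => σ a) hk).symm⟩
        rw [Nat.card_of_subsingleton P] at h3
        omega
    · have hN : Subgroup.normalizer ((P : Subgroup G) : Set G) = (P : Subgroup G) := by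
        refine (Subgroup.eq_of_le_of_card_ge Subgroup.le_normalizer ?_).symm
        have h1 := P.card_eq_index_normalizer
        have h2 := (Subgroup.normalizer ((P : Subgroup G) : Set G)).card_mul_index
        rw [show ((P : Subgroup G) : Set G) = ((P : Sylow 2 G) : Set G) from rfl, ← h1, h15, h] at h2
        rw [hP, show ((P : Subgroup G) : Set G) = ((P : Sylow 2 G) : Set G) from rfl]
        omega
      have hab : ∀ a b : (P : Subgroup G), a * b = b * a := by
        haveI : IsMulCommutative (P : Subgroup G) :=
          IsPGroup.isMulCommutative_of_card_eq_prime_sq (p := 2) (by rw [hP]; rfl)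
        exact fun a b => (IsMulCommutative.is_comm.comm a b)
      have hle' : Subgroup.normalizer ((P : Subgroup G) : Set G) ≤
          Subgroup.centralizer ((P : Subgroup G) : Set G) := by
        rw [hN]
        exact fun x hx y hy => congrArg Subtype.val (hab ⟨y, hy⟩ ⟨x, hx⟩)
      have hc := MonoidHom.ker_transferSylow_isComplement' P hle'
      have hcard := hc.card_mul
      rcases hs.eq_bot_or_eq_top_of_normal _ (MonoidHom.normal_ker (MonoidHom.transferSylow P hle')) with e | e
      · rw [e, Subgroup.card_bot, hP, h] at hcard; omega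
      · rw [e, Subgroup.card_top, hP, h] at hcard; omega

end Cfsg.Agent.Lie
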