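import Cfsg.Agent.Lib.SSF.Equivariant
import Cfsg.Agent.Lib.OddChar.FT.NoMinimal
import Cfsg.Agent.Lib.OddChar.FT.Final
import Cfsg.Agent.S0502

/-!
The functor of odd cores of involution centralisers in a group all of whose 2-locals are constrained,
and its closure over the elementary subgroups of a connected Sylow 2-subgroup.
-/

set_option autoImplicit false
set_option linter.style.haveILetI false

open Cfsg Cfsg.Agent Cfsg.Agent.Fusion
open scoped Pointwise

namespace Cfsg.Agent.Lie.CoreFun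

universe u

variable {G : Type u} [Group G] [Finite G]

theorem solvable_of_odd (hodd : Odd (Nat.card G)) : Group.IsSolvable G :=
  OddFT.odd_solvable_of_no_min (fun G _ _ h => OddFT.no_minSimple G h) hodd

/-- Every 2-local subgroup is 2-constrained. -/
def LocCons (G : Type u) [Group G] : Prop :=
  ∀ T : Subgroup G, IsPGroup 2 T → T ≠ ⊥ →
    Cfsg.IsPConstrained 2 ↥(Subgroup.normalizer (T : Set G))

theorem layer_bot (h : LocCons G) {j : G} (hj : orderOf j = 2) :
    Cfsg.pLayer 2 ↥(Subgroup.centralizer ({j} : Set G)) = ⊥ := by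
  haveI : Fact (Nat.Prime 2) := ⟨Nat.prime_two⟩
  refine isPConstrained_iff_pLayer.1 ?_
  have hN : Subgroup.normalizer (Subgroup.zpowers j : Set G) = Subgroup.centralizer ({j} : Set G) := by
    refine le_antisymm (fun g hg => ?_) (fun g hg => ?_)
    · have h1 : g * j * g⁻¹ ∈ Subgroup.zpowers j :=
        (Subgroup.mem_normalizer_iff.1 hg j).1 (Subgroup.mem_zpowers j)
      obtain ⟨i, hi⟩ := Subgroup.mem_zpowers_iff.1 h1
      have hij : j ^ i = 1 ∨ j ^ i = j := by
        rw [← zpow_mod_orderOf, hj]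
        rcases Int.emod_two_eq_zero_or_one i with e | e <;> simp [e]
      rcases hij with e | e
      · exfalso
        rw [e] at hi
        rw [conj_eq_one_iff.1 hi.symm, orderOf_one] at hj
        omega
      · rw [e] at hi
        exact Subgroup.mem_centralizer_singleton_iff.2 (mul_inv_eq_iff_eq_mul.1 hi.symm)
    · have h1 := Subgroup.centralizer_le_normalizer (G := G) (Subgroup.zpowers j : Set G)
      refine h1 ?_
      rw [Subgroup.mem_centralizer_iff]
      rintro y hy
      obtain ⟨i, rfl⟩ := Subgroup.mem_zpowers_iff.1 hy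
      exact ((show Commute g j from Subgroup.mem_centralizer_singleton_iff.1 hg).zpow_right i).symm.eq
  rw [← hN]
  refine h _ (IsPGroup.of_card (n := 1) (by rw [Nat.card_zpowers, hj, pow_one])) ?_
  simp only [ne_eq, Subgroup.zpowers_eq_bot]
  rintro rfl
  simp at hj

/-- Balance of cores at a 2-element. -/
theorem core_balance_two (h : LocCons G) {a b : G} (ha : ∃ k : ℕ, orderOf a = 2 ^ k)
    (hb : orderOf b = 2) (hab : a * b = b * a) :
    Cfsg.centralizerPPrimeCore 2 a ⊓ Subgroup.centralizer {b} ≤ Cfsg.centralizerPPrimeCore 2 b := by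
  haveI : Fact (Nat.Prime 2) := ⟨Nat.prime_two⟩
  obtain ⟨k, hk⟩ := ha
  have hL := layer_bot h hb
  have haK : a ∈ Subgroup.centralizer ({b} : Set G) := Subgroup.mem_centralizer_singleton_iff.2 hab
  have hSC : Cfsg.centralizerPPrimeCore 2 a ≤ Subgroup.centralizer {a} := SSF.Opc_le 2 _
  obtain ⟨S, hS⟩ : ∃ S, S = Cfsg.centralizerPPrimeCore 2 a ⊓ Subgroup.centralizer ({b} : Set G) :=
    ⟨_, rfl⟩
  have hle : S.subgroupOf (Subgroup.centralizer ({b} : Set G)) ≤
      Cfsg.pPrimeCore 2 ↥(Subgroup.centralizer ({b} : Set G)) := by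
    refine SSF.le_core_of_cent hL (P := Subgroup.zpowers ⟨a, haK⟩) ?_ ?_ (fun x hx => ?_) fun x hx => ?_
    · refine IsPGroup.of_card (n := k) ?_
      rw [Nat.card_zpowers, Subgroup.orderOf_mk, hk]
    · rw [Nat.card_congr (Subgroup.subgroupOfEquivOfLe (hS ▸ inf_le_right)).toEquiv]
      exact (SSF.Opc_coprime 2 _).coprime_dvd_left (Subgroup.card_dvd_of_le (hS ▸ inf_le_left : S ≤
        SSF.Opc 2 (Subgroup.centralizer ({a} : Set G))))
    · refine Subgroup.mem_centralizer_iff.2 fun y hy => ?_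
      obtain ⟨i, rfl⟩ := Subgroup.mem_zpowers_iff.1 hy
      refine Subtype.ext ?_
      rw [Subgroup.coe_mul, Subgroup.coe_mul, Subgroup.coe_zpow]
      exact ((show Commute (x : G) a from Subgroup.mem_centralizer_singleton_iff.1
        (hSC (Subgroup.mem_inf.1 (hS ▸ Subgroup.mem_subgroupOf.1 hx)).1)).zpow_right i).eq.symm
    · have hxa : (x : G) ∈ Subgroup.centralizer ({a} : Set G) :=
        Subgroup.mem_centralizer_singleton_iff.2 (congrArg Subtype.val
          (Subgroup.mem_centralizer_iff.1 hx ⟨a, haK⟩ (Subgroup.mem_zpowers _))).symm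
      rw [← Subgroup.subgroupOf_normalizer_eq (hS ▸ inf_le_right)]
      refine mem_normalizer_of_cj_le ?_
      rw [hS, cj_inf, cj_eq_self_of_mem (show (Subgroup.centralizer ({b} : Set G)).subtype x ∈
        Subgroup.centralizer ({b} : Set G) from x.2)]
      exact inf_le_inf_right _ (cj_eq_self (SSF.self_le_normalizer_Opc 2 _ hxa)).le
  intro x hx
  have hxS : x ∈ S := hS ▸ hx
  exact ⟨⟨x, (Subgroup.mem_inf.1 hx).2⟩, hle hxS, rfl⟩

theorem core_equivariant (a g : G) :
    Cfsg.centralizerPPrimeCore 2 (g * a * g⁻¹) =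
      (Cfsg.centralizerPPrimeCore 2 a).map (MulAut.conj g).toMonoidHom := by
  haveI : Fact (Nat.Prime 2) := ⟨Nat.prime_two⟩
  show SSF.Opc 2 (Subgroup.centralizer ({g * a * g⁻¹} : Set G)) =
    cj (SSF.Opc 2 (Subgroup.centralizer ({a} : Set G))) g
  rw [SSF.cj_Opc]
  congr 1
  ext x
  rw [mem_cj, Subgroup.mem_centralizer_singleton_iff, Subgroup.mem_centralizer_singleton_iff]
  constructor <;> intro h1
  · calc g⁻¹ * x * g * a = g⁻¹ * (x * (g * a * g⁻¹)) * g := by group
      _ = g⁻¹ * ((g * a * g⁻¹) * x) * g := by rw [h1]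
      _ = a * (g⁻¹ * x * g) := by group
  · calc x * (g * a * g⁻¹) = g * ((g⁻¹ * x * g) * a) * g⁻¹ := by group
      _ = g * (a * (g⁻¹ * x * g)) * g⁻¹ := by rw [h1]
      _ = (g * a * g⁻¹) * x := by group

theorem core_hC (a : G) (_ : SSF.Big3 2 a) :
    Cfsg.centralizerPPrimeCore 2 a ≤ Subgroup.centralizer ({a} : Set G) ∧
      ¬ 2 ∣ Nat.card ↥(Cfsg.centralizerPPrimeCore 2 a) ∧
      Group.IsSolvable ↥(Cfsg.centralizerPPrimeCore 2 a) := by
  have h2 : ¬ 2 ∣ Nat.card ↥(Cfsg.centralizerPPrimeCore 2 a) :=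
    (Nat.Prime.coprime_iff_not_dvd Nat.prime_two).1
      (SSF.Opc_coprime 2 (Subgroup.centralizer ({a} : Set G))).symm
  exact ⟨SSF.Opc_le 2 _, h2, solvable_of_odd (Nat.odd_iff.2 (Nat.two_dvd_ne_zero.1 h2))⟩

/-- Closure of the cores over the nonidentity elements of a subgroup. -/
def Wc (E : Subgroup G) : Subgroup G :=
  ⨆ e : {e : G // e ∈ E ∧ e ≠ 1}, Cfsg.centralizerPPrimeCore 2 (e : G)

theorem Wc_eq (h : LocCons G) {A E : Subgroup G} (hA : Cfsg.IsElementaryAbelian 2 A)
    (h3 : 8 ≤ Nat.card A) (hEA : E ≤ A) (hE : 4 ≤ Nat.card E) : Wc E = Wc A := by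
  haveI : Fact (Nat.Prime 2) := ⟨Nat.prime_two⟩
  exact SSF.closure_eq core_hC (fun a g _ => core_equivariant a g)
    (fun a b ha hb hab => core_balance_two h ⟨1, by rw [ha.1, pow_one]⟩ hb.1 hab) hA
    (by norm_num; exact h3) hEA (by norm_num; exact hE)

theorem Wc_odd (h : LocCons G) {A : Subgroup G} (hA : Cfsg.IsElementaryAbelian 2 A)
    (h3 : 8 ≤ Nat.card A) : Odd (Nat.card ↥(Wc A)) := by
  haveI : Fact (Nat.Prime 2) := ⟨Nat.prime_two⟩
  obtain ⟨hW, -⟩ := SSF.complete hA (by norm_num; exact h3)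
    (SSF.functor_of_equivariant core_hC (fun a g _ => core_equivariant a g)
      (fun a b ha hb hab => core_balance_two h ⟨1, by rw [ha.1, pow_one]⟩ hb.1 hab) hA
      (by norm_num; exact h3))
  exact Nat.odd_iff.2 (Nat.two_dvd_ne_zero.1 hW.2.1)

/-- Four-groups in a 2-group with a normal elementary subgroup of order eight have one closure. -/
theorem Wc_four (h : LocCons G) (S : Subgroup G) (hS : IsPGroup 2 S) (E : Subgroup ↥S) [E.Normal]
    (hE : Cfsg.IsElementaryAbelian 2 E) (hE8 : 8 ≤ Nat.card E) (U : Subgroup ↥S) (hU : IsKleinFour U) :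
    Wc (U.map S.subtype) = Wc (E.map S.subtype) := by
  obtain ⟨W, hW, hWE, hchain, -⟩ := S0502.reach hS E hE hE8 U hU
  have hEm : Cfsg.IsElementaryAbelian 2 (E.map S.subtype) := by
    refine ⟨Fusion.isMulCommutative_map _ hE.1, ?_⟩
    rintro _ ⟨e, he, rfl⟩
    rw [← map_pow, hE.2 e he, map_one]
  have hcard : ∀ K : Subgroup ↥S, Nat.card ↥(K.map S.subtype) = Nat.card K := fun K =>
    Subgroup.card_map_of_injective S.subtype_injective
  have step : ∀ A B, S0502.R A B → Wc (A.map S.subtype) = Wc (B.map S.subtype) := by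
    rintro A B ⟨hA, hB, hc⟩
    by_cases hAB : A = B
    · rw [hAB]
    have hj := Local.elemAb_sup (Local.isKleinFour_elemAb hA) (Local.isKleinFour_elemAb hB) hc
    have hjm : Cfsg.IsElementaryAbelian 2 ((A ⊔ B).map S.subtype) := by
      refine ⟨Fusion.isMulCommutative_map _ hj.1, ?_⟩
      rintro _ ⟨e, he, rfl⟩
      rw [← map_pow, hj.2 e he, map_one]
    have hA4 : Nat.card A = 4 := by haveI := hA; exact IsKleinFour.card_four
    have hB4 : Nat.card B = 4 := by haveI := hB; exact IsKleinFour.card_four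
    have h8 : 8 ≤ Nat.card ↥((A ⊔ B).map S.subtype) := by
      rw [hcard]
      obtain ⟨k, hk⟩ := Local.elemAb_card_pow hj
      have hne : A ≠ A ⊔ B := fun e => hAB ((Subgroup.eq_of_le_of_card_ge
        (e ▸ le_sup_right : B ≤ A) (by rw [hA4, hB4])).symm)
      have h4 : 4 < Nat.card ↥(A ⊔ B) := by
        by_contra hlt
        exact hne (Subgroup.eq_of_le_of_card_ge le_sup_left (by omega))
      rw [hk] at h4 ⊢
      have : 3 ≤ k := by
        by_contra hk3
        have := Nat.pow_le_pow_right (by norm_num : 1 ≤ 2) (by omega : k ≤ 2)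
        omega
      exact (by norm_num : 8 ≤ 2 ^ 3).trans (Nat.pow_le_pow_right (by norm_num) this)
    rw [Wc_eq h hjm h8 (Subgroup.map_mono le_sup_left) (by rw [hcard, hA4]),
      Wc_eq h hjm h8 (Subgroup.map_mono le_sup_right) (by rw [hcard, hB4])]
  have hW4 : Nat.card W = 4 := by haveI := hW; exact IsKleinFour.card_four
  refine Eq.trans ?_ (Wc_eq h hEm (by rw [hcard]; exact hE8) (Subgroup.map_mono hWE) (by rw [hcard, hW4]))
  clear hWE hW hW4
  induction hchain with
  | refl => rfl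
  | tail _ hst ih => exact ih.trans (step _ _ hst)

/-- An involution of such a 2-group has core inside the common closure. -/
theorem core_le_Wc (h : LocCons G) (S : Subgroup G) (hS : IsPGroup 2 S) (E : Subgroup ↥S) [E.Normal]
    (hE : Cfsg.IsElementaryAbelian 2 E) (hE8 : 8 ≤ Nat.card E) (j : ↥S) (hj : orderOf j = 2) :
    Cfsg.centralizerPPrimeCore 2 (j : G) ≤ Wc (E.map S.subtype) := by
  have hj2 : j ^ 2 = 1 := hj ▸ pow_orderOf_eq_one j
  have h4 : 4 ≤ Nat.card ↥(E ⊓ Subgroup.centralizer {j}) := by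
    have h1 := Local.two_pow_bound (A := E ⊓ Subgroup.centralizer {j}) (Local.elemAb_mono hE inf_le_left)
      (le_trans hE8 (Local.card_le_sq_card_fixed hE (fun e he => ‹E.Normal›.conj_mem e he j)
        (fun e _ => by rw [hj2]; simp))) (m := 1) (by norm_num)
    simpa using h1
  have hz : Cfsg.IsElementaryAbelian 2 (Subgroup.zpowers j) := Local.elemAb_zpowers hj2
  have hjn : Cfsg.IsElementaryAbelian 2 ((E ⊓ Subgroup.centralizer {j}) ⊔ Subgroup.zpowers j) := by
    refine Local.elemAb_sup (Local.elemAb_mono hE inf_le_left) hz fun e he b hb => ?_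
    obtain ⟨i, rfl⟩ := Subgroup.mem_zpowers_iff.1 hb
    exact ((show Commute e j from Subgroup.mem_centralizer_singleton_iff.1
      (Subgroup.mem_inf.1 he).2).zpow_right i).eq
  obtain ⟨U, hjU, hUle, hU4⟩ := Local.exists_subgroup_two_pow hjn
    (S := Subgroup.zpowers j) le_sup_right (n := 1) (m := 2) (by rw [Nat.card_zpowers, hj, pow_one])
    (by norm_num) (le_trans (by norm_num; exact h4) (Subgroup.card_le_of_le le_sup_left))
  rw [← Wc_four h S hS E hE hE8 U (Local.elemAb_isKleinFour (Local.elemAb_mono hjn hUle) (by simpa using hU4))]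
  refine le_iSup_of_le ⟨(j : G), ⟨j, hjU (Subgroup.mem_zpowers j), rfl⟩, fun e => ?_⟩ le_rfl
  have : j = 1 := Subtype.ext e
  rw [this, orderOf_one] at hj
  omega

end Cfsg.Agent.Lie.CoreFun
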