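import Mathlib
import Cfsg.Agent.Lib.Classical.SL2FourSylow

/-!
Any two involutions of `PSL₂(q)` have a third one making products of odd order with both.
-/

set_option autoImplicit false
set_option linter.unusedSectionVars false

namespace Cfsg.Agent.Lie.OddGraphPSL2

open Matrix Cfsg.Agent.Small Cfsg.Agent.Small.SL2C Cfsg.Agent.Classical.SL2Four

variable {F : Type*} [Field F] [Fintype F]

local notation "M2" => Matrix (Fin 2) (Fin 2) F
local notation "SL2" => Matrix.SpecialLinearGroup (Fin 2) F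
local notation "P2" => Matrix.ProjectiveSpecialLinearGroup (Fin 2) F

theorem sum_char_sq_add [DecidableEq F] (h2 : ringChar F ≠ 2) {c : F} (hc : c ≠ 0) :
    ∑ r : F, quadraticChar F (r * r + c) = -1 := by
  have h20 : (2 : F) ≠ 0 := Ring.two_ne_zero h2
  let e : Fˣ ≃ Σ r : F, {y : F // y * y = r * r + c} :=
    { toFun := fun u => ⟨((u : F) - c / u) / 2, ((u : F) + c / u) / 2, by
        have := u.ne_zero
        field_simp; ring⟩
      invFun := fun p => Units.mk0 (p.2.1 + p.1) (fun h => hc (by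
        linear_combination -p.2.2 + (p.2.1 - p.1) * h))
      left_inv := fun u => by
        apply Units.ext
        show ((u : F) + c / u) / 2 + ((u : F) - c / u) / 2 = u
        field_simp; ring
      right_inv := fun ⟨r, y, hy⟩ => by
        have hne : y + r ≠ 0 := fun h => hc (by linear_combination -hy + (y - r) * h)
        have h1 : (y + r - c / (y + r)) / 2 = r := by
          field_simp; linear_combination hy
        apply Sigma.subtype_ext
        · exact h1
        · show (y + r + c / (y + r)) / 2 = y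
          field_simp; linear_combination -hy }
  have h1 := Fintype.card_congr e
  rw [Fintype.card_units, Fintype.card_sigma] at h1
  have h3 : ∀ r : F, (Fintype.card {y : F // y * y = r * r + c} : ℤ) = quadraticChar F (r * r + c) + 1 := by
    intro r
    rw [← quadraticChar_card_sqrts h2 (r * r + c)]
    congr 1
    rw [Set.toFinset_card]
    exact Fintype.card_congr (Equiv.subtypeEquivRight fun y => by simp [pow_two])
  have h4 : ((Fintype.card F - 1 : ℕ) : ℤ) = ∑ r : F, (quadraticChar F (r * r + c) + 1) := by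
    rw [h1]; push_cast; exact Finset.sum_congr rfl fun r _ => h3 r
  rw [Finset.sum_add_distrib, Finset.sum_const, Finset.card_univ, nsmul_eq_mul, mul_one,
    Nat.cast_sub Fintype.card_pos] at h4
  push_cast at h4
  linarith

theorem sum_sq_mul_pow (c : F) (m : ℕ) (hm : Fintype.card F = 2 * m + 1) (hm2 : 2 ≤ m) :
    ∑ r : F, r * r * (r * r + c) ^ m = -((m : F) * c) := by
  classical
  have hlt : ∀ j, j < Fintype.card F - 1 → ∑ r : F, r ^ j = 0 := fun j hj => FiniteField.sum_pow_lt_card_sub_one F j hj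
  calc ∑ r : F, r * r * (r * r + c) ^ m
      = ∑ i ∈ Finset.range (m + 1), (∑ r : F, r ^ (2 * i + 2)) * c ^ (m - i) * (m.choose i : F) := by
        simp only [Finset.sum_mul]
        rw [Finset.sum_comm]
        refine Finset.sum_congr rfl fun r _ => ?_
        rw [add_pow, Finset.mul_sum]
        exact Finset.sum_congr rfl fun i _ => by ring
    _ = (∑ r : F, r ^ (2 * (m - 1) + 2)) * c ^ (m - (m - 1)) * (m.choose (m - 1) : F) := by
        refine Finset.sum_eq_single_of_mem _ (Finset.mem_range.2 (by omega)) fun i hi hne => ?_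
        rw [Finset.mem_range] at hi
        rcases Nat.lt_or_ge i (m - 1) with h | h
        · rw [hlt _ (by omega), zero_mul, zero_mul]
        · obtain rfl : i = m := by omega
          have : ∑ r : F, r ^ (2 * i + 2) = 0 := by
            rw [← hlt 2 (by omega)]
            refine Finset.sum_congr rfl fun r _ => ?_
            rw [show 2 * i + 2 = Fintype.card F + 1 by omega, pow_succ, FiniteField.pow_card, pow_two]
          rw [this, zero_mul, zero_mul]
    _ = _ := by
        have hq1 : ∑ r : F, r ^ (Fintype.card F - 1) = -1 := by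
          have h : ∀ r : F, r ^ (Fintype.card F - 1) = 1 - if r = 0 then (1 : F) else 0 := fun r => by
            by_cases h0 : r = 0
            · rw [h0, zero_pow (by omega), if_pos rfl, sub_self]
            · rw [FiniteField.pow_card_sub_one_eq_one r h0, if_neg h0, sub_zero]
          simp only [h, Finset.sum_sub_distrib, Finset.sum_const, Finset.card_univ, nsmul_eq_mul, mul_one,
            FiniteField.cast_card_eq_zero, Finset.sum_ite_eq', Finset.mem_univ, if_true, zero_sub]
        rw [show 2 * (m - 1) + 2 = Fintype.card F - 1 by omega, hq1, show m - (m - 1) = 1 by omega,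
          show m.choose (m - 1) = m by rw [Nat.choose_symm (by omega : 1 ≤ m), Nat.choose_one_right], pow_one]
        ring

theorem exists_param (h2 : (2 : F) ≠ 0) (h3 : Fintype.card F % 4 = 3) (h4 : 4 ≤ Fintype.card F)
    {T : F} (hT : T ≠ 0) (hT4 : T ≠ 4) (hT3 : 3 * T ≠ 4) :
    ∃ r s w : F, r ≠ 0 ∧ s * s = 4 + r * r ∧ w * w * T = -(T + r * r) := by
  classical
  have hch : ringChar F ≠ 2 := fun h => h2 (by
    have := ringChar.Nat.cast_ringChar (R := F); rw [h, Nat.cast_ofNat] at this; exact this)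
  have h40 : (4 : F) ≠ 0 := by intro h; exact mul_ne_zero h2 h2 (by linear_combination h)
  set m := Fintype.card F / 2 with hm
  have hqm : Fintype.card F = 2 * m + 1 := by omega
  have hcast : ∀ a : F, (quadraticChar F a : F) = a ^ m := fun a => by
    by_cases ha : a = 0
    · rw [ha, quadraticChar_zero, zero_pow (by omega)]; simp
    · rw [quadraticChar_eq_pow_of_char_ne_two hch ha]
      rcases FiniteField.pow_dichotomy hch ha with h | h <;> rw [← hm] at h <;> rw [h]
      · simp
      · rw [if_neg (Ring.neg_one_ne_one_of_char_ne_two hch)]; simp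
  have hneg : quadraticChar F (-1) = -1 := by
    rw [quadraticChar_neg_one hch, ZMod.χ₄_nat_three_mod_four h3]
  by_contra hne
  push Not at hne
  let u : F → ℤ := fun r => quadraticChar F (r * r + 4)
  let v : F → ℤ := fun r => quadraticChar F T * quadraticChar F (r * r + T)
  have hu0 : ∀ r : F, r * r + 4 ≠ 0 := fun r h => by
    have : IsSquare (-1 : F) := ⟨r / 2, by field_simp; linear_combination -h⟩
    have h' := (quadraticChar_one_iff_isSquare (by simp : (-1 : F) ≠ 0)).2 this
    rw [hneg] at h'; exact absurd h' (by decide)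
  have hkey : ∀ r : F, r ≠ 0 → u r = 1 → v r = 1 := fun r hr hu => by
    obtain ⟨s, hs⟩ := (quadraticChar_one_iff_isSquare (hu0 r)).1 hu
    have hne0 : r * r + T ≠ 0 := fun h => hne r s 0 hr (by linear_combination -hs) (by linear_combination h)
    have hv : v r = quadraticChar F (T * (r * r + T)) := (map_mul _ _ _).symm
    rw [hv]
    rcases quadraticChar_dichotomy (mul_ne_zero hT hne0) with h | h
    · exact h
    exfalso
    have h' : quadraticChar F (-(T * (r * r + T))) = 1 := by
      rw [neg_eq_neg_one_mul, map_mul, hneg, h]; norm_num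
    obtain ⟨w, hw⟩ := (quadraticChar_one_iff_isSquare (neg_ne_zero.2 (mul_ne_zero hT hne0))).1 h'
    refine hne r s (w / T) hr (by linear_combination -hs) ?_
    field_simp
    linear_combination -hw
  have hu1 : ∀ r, u r = 1 ∨ u r = -1 := fun r => quadraticChar_dichotomy (hu0 r)
  have hvb : ∀ r, v r = 1 ∨ v r = 0 ∨ v r = -1 := fun r => by
    by_cases h : r * r + T = 0
    · exact Or.inr (Or.inl (by simp [v, h]))
    · rcases quadraticChar_dichotomy (mul_ne_zero hT h) with h | h <;> rw [map_mul] at h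
      · exact Or.inl h
      · exact Or.inr (Or.inr h)
  have hv00 : v 0 = 1 := by
    show quadraticChar F T * quadraticChar F (0 * 0 + T) = 1
    rw [mul_zero, zero_add, ← pow_two, quadraticChar_sq_one hT]
  have hu00 : u 0 = 1 := by
    show quadraticChar F (0 * 0 + 4) = 1
    rw [mul_zero, zero_add, show (4 : F) = 2 ^ 2 by norm_num, quadraticChar_sq_one' h2]
  have hnn : ∀ r, 0 ≤ v r - u r := fun r => by
    by_cases hr : r = 0
    · rw [hr, hu00, hv00]; norm_num
    rcases hu1 r with h | h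
    · rw [h, hkey r hr h]; norm_num
    · rcases hvb r with h' | h' | h' <;> rw [h, h'] <;> norm_num
  have hsum : ∑ r : F, (v r - u r) = 1 - quadraticChar F T := by
    rw [Finset.sum_sub_distrib, ← Finset.mul_sum, sum_char_sq_add hch hT, sum_char_sq_add hch h40]
    ring
  -- the points where the two characters differ
  let Z : Finset F := Finset.univ.filter fun r => r * r + T = 0
  have hZv : ∀ r ∈ Z, v r = 0 ∧ u r = -1 := fun r hr => by
    simp only [Z, Finset.mem_filter, Finset.mem_univ, true_and] at hr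
    have hv : v r = 0 := by
      show _ * quadraticChar F (r * r + T) = 0
      rw [hr, quadraticChar_zero, mul_zero]
    have hr0 : r ≠ 0 := fun h => hT (by rw [h, mul_zero, zero_add] at hr; exact hr)
    refine ⟨hv, (hu1 r).resolve_left fun h => ?_⟩
    rw [hkey r hr0 h] at hv; exact one_ne_zero hv
  have hZcard : (Z.card : ℤ) = 1 - quadraticChar F T := by
    have h := quadraticChar_card_sqrts hch (-T)
    rw [neg_eq_neg_one_mul, map_mul, hneg] at h
    rw [show (1 : ℤ) - quadraticChar F T = -1 * quadraticChar F T + 1 by ring, ← h]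
    congr 2
    ext r
    simp [Z, pow_two, eq_neg_iff_add_eq_zero]
  have hout : ∀ r, r ∉ Z → v r = u r := by
    have h := Finset.sum_sdiff (Finset.subset_univ Z) (f := fun r => v r - u r)
    rw [hsum, show ∑ r ∈ Z, (v r - u r) = (Z.card : ℤ) by
      rw [Finset.sum_congr rfl fun r hr => show v r - u r = 1 by rw [(hZv r hr).1, (hZv r hr).2]; norm_num]
      simp, hZcard, add_eq_right] at h
    intro r hr
    have := (Finset.sum_eq_zero_iff_of_nonneg fun i _ => hnn i).1 h r (by simp [hr])
    linarith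
  have hF : ∀ r : F, (r * r + 4) ^ m - T ^ m * (r * r + T) ^ m = if r ∈ Z then -1 else 0 := fun r => by
    rw [← hcast, ← hcast, ← hcast, ← Int.cast_mul, ← Int.cast_sub]
    show ((u r - v r : ℤ) : F) = _
    split_ifs with h
    · rw [(hZv r h).1, (hZv r h).2]; simp
    · rw [hout r h]; simp
  have h := Finset.sum_congr (rfl : (Finset.univ : Finset F) = Finset.univ) fun r _ => congrArg (fun x => r * r * x) (hF r)
  have hlhs : ∑ r : F, r * r * ((r * r + 4) ^ m - T ^ m * (r * r + T) ^ m) = -((m : F) * 4) + T ^ m * ((m : F) * T) := by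
    simp only [mul_sub, Finset.sum_sub_distrib]
    rw [sum_sq_mul_pow 4 m hqm (by omega)]
    have : ∑ r : F, r * r * (T ^ m * (r * r + T) ^ m) = T ^ m * ∑ r : F, r * r * (r * r + T) ^ m := by
      rw [Finset.mul_sum]; exact Finset.sum_congr rfl fun r _ => by ring
    rw [this, sum_sq_mul_pow T m hqm (by omega)]
    ring
  have hrhs : ∑ r : F, r * r * (if r ∈ Z then (-1 : F) else 0) = ((Z.card : ℤ) : F) * T := by
    simp only [mul_ite, mul_zero, Finset.sum_ite_mem, Finset.univ_inter]
    rw [Finset.sum_congr rfl fun r hr => show r * r * -1 = T by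
      simp only [Z, Finset.mem_filter] at hr
      linear_combination -hr.2]
    simp
  rw [hlhs, hrhs, hZcard] at h
  push_cast at h
  rw [hcast T] at h
  have hmF : 2 * (m : F) = -1 := by
    have := FiniteField.cast_card_eq_zero F
    rw [hqm] at this
    push_cast at this
    linear_combination this
  rcases FiniteField.pow_dichotomy hch hT with hc | hc <;> rw [← hm] at hc <;> rw [hc] at h
  · exact hT4 (by linear_combination -2 * h + (T - 4) * hmF)
  · exact hT3 (by linear_combination -2 * h - (T + 4) * hmF)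

theorem orderOf_mul_comm' {G : Type*} [Group G] (a b : G) : orderOf (a * b) = orderOf (b * a) := by
  rw [← orderOf_injective (MulAut.conj b).toMonoidHom (MulAut.conj b).injective (a * b)]
  congr 1
  simp [mul_assoc]

theorem odd_of_trace_four {p : ℕ} [Fact p.Prime] [CharP F p] (hp : p ≠ 2) {g : SL2}
    (ht : g.1.trace * g.1.trace = 4) : Odd (orderOf (PSL2.pr g)) := by
  by_cases hg : IsSc g.1
  · rw [pr_eq_one_iff.mpr hg, orderOf_one]; exact odd_one
  obtain ⟨x, hx, hc⟩ := exists_pr_uS hg ht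
  obtain ⟨c, hc⟩ := isConj_iff.mp hc
  have h := pr_uS_pow p x
  rw [← hc, conj_pow] at h
  exact Odd.of_dvd_nat ((Fact.out : p.Prime).odd_of_ne_two hp)
    (orderOf_dvd_of_pow_eq_one (conj_eq_one_iff.mp h))

theorem odd_of_split (h2 : (2 : F) ≠ 0) (h3 : Fintype.card F % 4 = 3) {g : SL2} {r : F} (hr : r ≠ 0)
    (ht : g.1.trace * g.1.trace = 4 + r * r) : Odd (orderOf (PSL2.pr g)) := by
  have hne : g.1.trace * g.1.trace ≠ 4 := fun h => hr (mul_self_eq_zero.1 (by linear_combination h - ht))
  have h := orderOf_dvd_of_pow_eq_one (pr_pow_sol hne)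
  rcases sol_eq hne with ⟨-, hs⟩ | ⟨h0, -⟩
  · rw [hs, center_card_odd h2] at h
    exact Odd.of_dvd_nat (Nat.odd_iff.2 (by omega)) h
  · rw [roots, Nat.card_eq_zero] at h0
    rcases h0 with h0 | h0
    · exact (h0.false ⟨(-g.1.trace + r) / 2, by field_simp; linear_combination -ht⟩).elim
    · exact absurd (inferInstance : Finite _) (not_finite_iff_infinite.2 h0)

theorem odd_of_trace_ne_zero (h2 : (2 : F) = 0) {g : SL2} (ht : g.1.trace ≠ 0) :
    Odd (orderOf (PSL2.pr g)) := by
  have hne : g.1.trace * g.1.trace ≠ 4 := fun h => ht (mul_self_eq_zero.1 (by linear_combination h + 2 * h2))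
  have h := orderOf_dvd_of_pow_eq_one (pr_pow_sol hne)
  rw [center_card_even h2, Nat.div_one] at h
  have hq := Nat.dvd_iff_mod_eq_zero.mp (two_dvd_iff.mpr h2)
  have := Fintype.one_lt_card (α := F)
  rcases sol_eq hne with ⟨-, hs⟩ | ⟨-, hs⟩ <;> rw [hs] at h <;>
    exact Odd.of_dvd_nat (Nat.odd_iff.2 (by omega)) h

theorem mul_self_of_trace_zero {g : SL2} (h : g.1.trace = 0) : g.1 * g.1 = -1 := by
  rw [sq_eq, h, zero_smul, zero_sub]

theorem even_involution_iff (h2 : (2 : F) = 0) (g : SL2) :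
    orderOf (PSL2.pr g) = 2 ↔ g.1.trace = 0 ∧ ¬ IsSc g.1 := by
  rw [orderOf_eq_prime_iff, pow_two, ← map_mul, Ne, pr_eq_one_iff, pr_eq_one_iff]
  refine ⟨fun ⟨h, h1⟩ => ⟨?_, h1⟩, fun ⟨ht, h1⟩ => ⟨?_, h1⟩⟩
  · by_contra ht
    obtain ⟨c, hc⟩ := h
    refine h1 ⟨g.1.trace⁻¹ * (c + 1), ?_⟩
    rw [Matrix.SpecialLinearGroup.coe_mul, sq_eq] at hc
    rw [mul_smul, add_smul, one_smul, ← hc, sub_add_cancel, smul_smul, inv_mul_cancel₀ ht, one_smul]
  · exact ⟨-1, by rw [Matrix.SpecialLinearGroup.coe_mul, mul_self_of_trace_zero ht, neg_one_smul]⟩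

theorem involutions_isConj {x y : P2} (hx : orderOf x = 2) (hy : orderOf y = 2) : IsConj x y := by
  by_cases h2 : (2 : F) = 0
  · obtain ⟨X, rfl⟩ := PSL2.pr_surjective x
    obtain ⟨Y, rfl⟩ := PSL2.pr_surjective y
    rw [even_involution_iff h2] at hx hy
    exact MonoidHom.map_isConj _ (isConj_of_trace hx.2 hy.2 (by rw [hx.1, hy.1]) (Or.inl h2))
  · exact involutions_conj h2 hx hy

theorem exists_mid_even (h2 : (2 : F) = 0) {X Y : SL2} (hX : orderOf (PSL2.pr X) = 2)
    (hY : orderOf (PSL2.pr Y) = 2) (hxy : ¬ Odd (orderOf (PSL2.pr X * PSL2.pr Y))) :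
    ∃ Z : SL2, orderOf (PSL2.pr Z) = 2 ∧ Odd (orderOf (PSL2.pr X * PSL2.pr Z)) ∧
      Odd (orderOf (PSL2.pr Y * PSL2.pr Z)) := by
  rw [even_involution_iff h2] at hX hY
  have ht : (X * Y).1.trace = 0 := by
    by_contra h
    exact hxy (map_mul PSL2.pr X Y ▸ odd_of_trace_ne_zero h2 h)
  have hd : ∀ g : SL2, g.1.trace = 0 → g.1 0 0 = g.1 1 1 := fun g h => by
    rw [Matrix.trace_fin_two] at h; linear_combination h - g.1 1 1 * h2
  have eX := hd X hX.1
  have eY := hd Y hY.1
  have tu : ∀ g : SL2, g.1.trace = 0 → (g * PSL2.uS 1).1.trace = g.1 1 0 := fun g h => by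
    rw [Matrix.trace_fin_two] at h
    rw [Matrix.SpecialLinearGroup.coe_mul]
    simp [PSL2.uS, Matrix.trace_fin_two, Matrix.mul_apply, Fin.sum_univ_two]
    linear_combination h
  have tv : ∀ g : SL2, g.1.trace = 0 → (g * PSL2.vS 1).1.trace = g.1 0 1 := fun g h => by
    rw [Matrix.trace_fin_two] at h
    rw [Matrix.SpecialLinearGroup.coe_mul]
    simp [PSL2.vS, Matrix.trace_fin_two, Matrix.mul_apply, Fin.sum_univ_two]
    linear_combination h
  have hu : orderOf (PSL2.pr (PSL2.uS (1 : F))) = 2 := by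
    rw [even_involution_iff h2]
    refine ⟨?_, not_isSc_of_01 (by simp [PSL2.uS])⟩
    simp [PSL2.uS, Matrix.trace_fin_two]; linear_combination h2
  have hv : orderOf (PSL2.pr (PSL2.vS (1 : F))) = 2 := by
    rw [even_involution_iff h2]
    refine ⟨?_, not_isSc_of_10 (by simp [PSL2.vS])⟩
    simp [PSL2.vS, Matrix.trace_fin_two]; linear_combination h2
  simp only [Matrix.SpecialLinearGroup.coe_mul, Matrix.trace_fin_two, Matrix.mul_apply, Fin.sum_univ_two] at ht
  by_cases hc : X.1 1 0 ≠ 0 ∧ Y.1 1 0 ≠ 0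
  · refine ⟨_, hu, ?_, ?_⟩ <;> rw [← map_mul] <;> refine odd_of_trace_ne_zero h2 ?_
    · rw [tu X hX.1]; exact hc.1
    · rw [tu Y hY.1]; exact hc.2
  by_cases hb : X.1 0 1 ≠ 0 ∧ Y.1 0 1 ≠ 0
  · refine ⟨_, hv, ?_, ?_⟩ <;> rw [← map_mul] <;> refine odd_of_trace_ne_zero h2 ?_
    · rw [tv X hX.1]; exact hb.1
    · rw [tv Y hY.1]; exact hb.2
  exfalso
  have nX : X.1 0 1 ≠ 0 ∨ X.1 1 0 ≠ 0 := by
    by_contra h; push Not at h; exact hX.2 ((isSc_iff _).2 ⟨h.1, h.2, eX⟩)
  have nY : Y.1 0 1 ≠ 0 ∨ Y.1 1 0 ≠ 0 := by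
    by_contra h; push Not at h; exact hY.2 ((isSc_iff _).2 ⟨h.1, h.2, eY⟩)
  have key : X.1 0 1 * Y.1 1 0 + X.1 1 0 * Y.1 0 1 = 0 := by
    linear_combination ht - (X.1 1 1 * Y.1 1 1) * h2 - Y.1 0 0 * eX - X.1 1 1 * eY
  rw [not_and_or, not_not, not_not] at hc hb
  rcases hc with hc | hc <;> rcases hb with hb | hb
  · rcases nX with h | h <;> contradiction
  · rw [hc, zero_mul, add_zero, mul_eq_zero] at key
    rcases key with h | h
    · rcases nX with h' | h' <;> contradiction
    · rcases nY with h' | h' <;> contradiction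
  · rw [hc, mul_zero, zero_add, mul_eq_zero] at key
    rcases key with h | h
    · rcases nX with h' | h' <;> contradiction
    · rcases nY with h' | h' <;> contradiction
  · rcases nY with h | h <;> contradiction

theorem exists_mid_odd (p : ℕ) [Fact p.Prime] [CharP F p] (hp : p ≠ 2) (h4 : 4 ≤ Fintype.card F)
    {X Y : SL2} (hX : X.1.trace = 0) (hY : Y.1.trace = 0)
    (hxy : ¬ Odd (orderOf (PSL2.pr X * PSL2.pr Y))) :
    ∃ Z : SL2, Z.1.trace = 0 ∧ Odd (orderOf (PSL2.pr X * PSL2.pr Z)) ∧
      Odd (orderOf (PSL2.pr Y * PSL2.pr Z)) := by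
  have h2 : (2 : F) ≠ 0 := two_ne_zero_of_char p hp
  have h40 : (4 : F) ≠ 0 := fun h => mul_ne_zero h2 h2 (by linear_combination h)
  have hne : (X * Y).1.trace * (X * Y).1.trace ≠ 4 := fun h =>
    hxy (map_mul PSL2.pr X Y ▸ odd_of_trace_four hp h)
  set t := (X * Y).1.trace with ht
  have hmain : ∀ (Y' : SL2) (r s w : F), Y'.1.trace = 0 → (X.1 * Y'.1).trace * (X.1 * Y'.1).trace ≠ 4 →
      s * s = 4 + r * r → w * w * ((X.1 * Y'.1).trace + 2) = -((X.1 * Y'.1).trace + 2 + r * r) →
      ∃ Z : SL2, Z.1.trace = 0 ∧ (X * Z).1.trace * (X * Z).1.trace = 4 + r * r ∧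
        (Y' * Z).1.trace * (Y' * Z).1.trace = 4 + r * r := by
    intro Y' r s w hY' hne' hs hw
    set u := (X.1 * Y'.1).trace with hu
    have hu2 : u - 2 ≠ 0 := fun h => hne' (by linear_combination (u + 2) * h)
    have hXX := mul_self_of_trace_zero hX
    have hYY := mul_self_of_trace_zero hY'
    let M : M2 := (s / (u - 2)) • (X.1 + Y'.1) + (w / (u - 2)) • (X.1 * Y'.1 - Y'.1 * X.1)
    have hMt : M.trace = 0 := by
      simp [M, Matrix.trace_add, Matrix.trace_smul, Matrix.trace_sub, hX, hY', Matrix.trace_mul_comm Y'.1 X.1]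
    have hXM : (X.1 * M).trace = s := by
      simp only [M, mul_add, mul_sub, Matrix.mul_smul, Matrix.trace_add, Matrix.trace_smul, Matrix.trace_sub, smul_eq_mul,
        ← Matrix.mul_assoc, hXX, Matrix.trace_neg, Matrix.trace_one, Fintype.card_fin, neg_mul, one_mul, ← hu]
      rw [Matrix.trace_mul_cycle X.1 Y'.1 X.1, hXX]
      simp only [neg_mul, one_mul, Matrix.trace_neg, hY']
      push_cast
      field_simp
      ring
    have hYM : (Y'.1 * M).trace = s := by
      simp only [M, mul_add, mul_sub, Matrix.mul_smul, Matrix.trace_add, Matrix.trace_smul, Matrix.trace_sub, smul_eq_mul,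
        ← Matrix.mul_assoc, hYY, Matrix.trace_neg, Matrix.trace_one, Fintype.card_fin, neg_mul, one_mul,
        Matrix.trace_mul_comm Y'.1 X.1, ← hu]
      rw [Matrix.trace_mul_cycle Y'.1 X.1 Y'.1, hYY]
      simp only [neg_mul, one_mul, Matrix.trace_neg, hX]
      push_cast
      field_simp
      ring
    have hMd : M.det = 1 := by
      have dX : X.1.det = 1 := X.2
      have dY : Y'.1.det = 1 := Y'.2
      rw [Matrix.det_fin_two] at dX dY
      rw [Matrix.trace_fin_two] at hX hY'
      have hu' : u = X.1 0 0 * Y'.1 0 0 + X.1 0 1 * Y'.1 1 0 + (X.1 1 0 * Y'.1 0 1 + X.1 1 1 * Y'.1 1 1) := by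
        simp [hu, Matrix.trace_fin_two, Matrix.mul_apply, Fin.sum_univ_two]
      have eX : X.1 1 1 = -X.1 0 0 := by linear_combination hX
      have eY : Y'.1 1 1 = -Y'.1 0 0 := by linear_combination hY'
      rw [eX] at dX hu'
      rw [eY] at dY hu'
      set a := s / (u - 2) with ha
      set b := w / (u - 2) with hb
      have hrec : a * a * (2 - u) + b * b * (4 - u * u) = 1 := by
        rw [ha, hb]; field_simp
        linear_combination (-(u - 2)) * hw + (2 - u) * hs
      rw [← hrec, Matrix.det_fin_two]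
      simp [M, Matrix.mul_apply, Fin.sum_univ_two, eX, eY, ← ha, ← hb]
      grind
    refine ⟨mkSL M hMd, hMt, ?_, ?_⟩
    · show (X.1 * M).trace * (X.1 * M).trace = _
      rw [hXM, hs]
    · show (Y'.1 * M).trace * (Y'.1 * M).trace = _
      rw [hYM, hs]
  by_cases h3 : Fintype.card F % 4 = 3
  · -- choose the sign of `Y`
    obtain ⟨Y', hY't, hY'p, hT3⟩ : ∃ Y' : SL2, Y'.1.trace = 0 ∧ PSL2.pr Y' = PSL2.pr Y ∧
        3 * ((X.1 * Y'.1).trace + 2) ≠ 4 := by
      by_cases hT : 3 * (t + 2) = 4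
      · refine ⟨mkSL (-Y.1) (by rw [Matrix.det_neg, Y.2, Fintype.card_fin]; norm_num), ?_, ?_, ?_⟩
        · rw [mkSL_val, Matrix.trace_neg, hY, neg_zero]
        · exact (PSL2.pr_eq_iff _ _).2 ⟨-1, by ring, by rw [mkSL_val, neg_one_smul]⟩
        · rw [mkSL_val, Matrix.mul_neg, Matrix.trace_neg]
          intro h
          rw [show (X.1 * Y.1).trace = t from rfl] at h
          exact h40 (by linear_combination h + hT)
      · exact ⟨Y, hY, rfl, hT⟩
    have hne' : (X.1 * Y'.1).trace * (X.1 * Y'.1).trace ≠ 4 := by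
      obtain ⟨ε, hε, he⟩ := (PSL2.pr_eq_iff _ _).1 hY'p
      rw [he, Matrix.mul_smul, Matrix.trace_smul, smul_eq_mul]
      intro h; exact hne (by rw [show t = (X.1 * Y.1).trace from rfl]; linear_combination h - (X.1 * Y.1).trace * (X.1 * Y.1).trace * hε)
    set u := (X.1 * Y'.1).trace with hu
    obtain ⟨r, s, w, hr, hs, hw⟩ := exists_param h2 h3 h4 (T := u + 2)
      (fun h => hne' (by linear_combination (u - 2) * h)) (fun h => hne' (by linear_combination (u + 2) * h)) hT3
    obtain ⟨Z, hZ, hxz, hyz⟩ := hmain Y' r s w hY't hne' hs hw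
    refine ⟨Z, hZ, ?_, ?_⟩
    · rw [← map_mul]; exact odd_of_split h2 h3 hr hxz
    · rw [← hY'p, ← map_mul]; exact odd_of_split h2 h3 hr hyz
  · obtain ⟨i, hi⟩ := (FiniteField.isSquare_neg_one_iff (F := F)).2 h3
    obtain ⟨Z, hZ, hxz, hyz⟩ := hmain Y 0 2 i hY hne (by norm_num) (by
      rw [← hi]; ring)
    refine ⟨Z, hZ, ?_, ?_⟩
    · rw [← map_mul]; exact odd_of_trace_four hp (by rw [hxz]; ring)
    · rw [← map_mul]; exact odd_of_trace_four hp (by rw [hyz]; ring)

theorem exists_mid (h4 : 4 ≤ Fintype.card F) {x y : P2} (hx : orderOf x = 2) (hy : orderOf y = 2)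
    (hxy : ¬ Odd (orderOf (x * y))) :
    ∃ z : P2, orderOf z = 2 ∧ Odd (orderOf (x * z)) ∧ Odd (orderOf (y * z)) := by
  obtain ⟨X, rfl⟩ := PSL2.pr_surjective x
  obtain ⟨Y, rfl⟩ := PSL2.pr_surjective y
  by_cases h2 : (2 : F) = 0
  · obtain ⟨Z, hZ⟩ := exists_mid_even h2 hx hy hxy
    exact ⟨_, hZ⟩
  · obtain ⟨p, hp⟩ := CharP.exists F
    obtain ⟨n, hpp, -⟩ := FiniteField.card F p
    haveI : Fact p.Prime := ⟨hpp⟩
    have hp2 : p ≠ 2 := fun h => h2 (by subst h; exact_mod_cast CharP.cast_eq_zero F 2)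
    obtain ⟨Z, hZ, h⟩ := exists_mid_odd p hp2 h4 ((orderOf_pr_eq_two_iff h2).1 hx)
      ((orderOf_pr_eq_two_iff h2).1 hy) hxy
    exact ⟨_, (orderOf_pr_eq_two_iff h2).2 hZ, h⟩

theorem exists_commuting (h4 : 4 ≤ Fintype.card F) :
    ∃ x y : P2, orderOf x = 2 ∧ orderOf y = 2 ∧ orderOf (x * y) = 2 := by
  classical
  by_cases h2 : (2 : F) = 0
  · obtain ⟨a, ha, ha1⟩ := exists_sq_ne_one h4
    refine ⟨PSL2.pr (PSL2.uS 1), PSL2.pr (PSL2.uS a), ?_, ?_, ?_⟩
    all_goals try rw [← map_mul, ← PSL2.uS_add]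
    all_goals rw [even_involution_iff h2]
    all_goals refine ⟨by simp [PSL2.uS, Matrix.trace_fin_two]; linear_combination h2, not_isSc_of_01 ?_⟩
    · simp [PSL2.uS]
    · simpa [PSL2.uS] using ha
    · simp only [PSL2.uS, Matrix.of_apply, Matrix.cons_val', Matrix.cons_val_zero, Matrix.cons_val_one,
        Matrix.cons_val_fin_one]
      intro h; exact ha1 (by linear_combination (a - 1) * h)
  · obtain ⟨a, b, hab⟩ := FiniteField.exists_root_sum_quadratic (f := (Polynomial.X ^ 2 : Polynomial F))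
      (g := Polynomial.X ^ 2 + Polynomial.C 1) (by simp) (Polynomial.degree_X_pow_add_C two_pos 1) (card_odd_of_two_ne_zero h2)
    simp at hab
    refine ⟨PSL2.pr PSL2.wS, PSL2.pr (mkSL !![a, b; b, -a] (by
      simp [Matrix.det_fin_two]; linear_combination -hab)), ?_, ?_, ?_⟩
    all_goals try rw [← map_mul]
    all_goals rw [orderOf_pr_eq_two_iff h2]
    · simp [PSL2.wS, Matrix.trace_fin_two]
    · simp [mkSL_val, Matrix.trace_fin_two]
    · rw [Matrix.SpecialLinearGroup.coe_mul]
      simp [PSL2.wS, mkSL_val, Matrix.trace_fin_two, Matrix.mul_apply, Fin.sum_univ_two]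

end Cfsg.Agent.Lie.OddGraphPSL2
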