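import Cfsg.Agent.Lib.Lie.SuzukiSylow
import Cfsg.Prelude.Def_Sz

/-!
# The two models of the Suzuki groups agree

The ovoid stabiliser `Cfsg.Sz F m` is isomorphic to `Cfsg.Lie.Sz F (2 ^ (m + 1))`.
-/

set_option autoImplicit false

namespace Cfsg.Agent.Lie.Suzuki

open Matrix

variable {F : Type*} [Field F] {m : ℕ}

/-- Plücker coordinates modulo the invariant line. -/
def pl (v u : Fin 4 → F) : Fin 4 → F :=
  ![v 0 * u 1 - v 1 * u 0, v 0 * u 2 - v 2 * u 0, v 1 * u 3 - v 3 * u 1, v 2 * u 3 - v 3 * u 2]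

/-- Absolute vectors of the polarity. -/
def IsAbs (m : ℕ) (v : Fin 4 → F) : Prop :=
  ∃ u : Fin 4 → F, Cfsg.Lie.altForm4 v u = 0 ∧ pl v u = fun i => v i ^ (2 ^ (m + 1))

theorem toGL_coe (g : Matrix.SpecialLinearGroup (Fin 4) F) :
    ((Matrix.SpecialLinearGroup.toGL g : GL (Fin 4) F) : Matrix (Fin 4) (Fin 4) F) = g := rfl

theorem altForm_eq (u v : Fin 4 → F) :
    Cfsg.Lie.altForm4 u v = u ⬝ᵥ (Cfsg.suzukiForm F *ᵥ v) := by
  simp [Cfsg.Lie.altForm4, Cfsg.suzukiForm, Matrix.mulVec, dotProduct, Fin.sum_univ_four]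

variable [Fintype F] (hF : Fintype.card F = 2 ^ (2 * m + 1))
include hF

theorem form_of_mem {g : GL (Fin 4) F} (hg : g ∈ Cfsg.Lie.Sp4 F) :
    (g : Matrix (Fin 4) (Fin 4) F).transpose * Cfsg.suzukiForm F * (g : Matrix (Fin 4) (Fin 4) F) =
      Cfsg.suzukiForm F := by
  ext i j
  have h := hg (Pi.single i (1 : F)) (Pi.single j (1 : F))
  simp only [Units.coeHom_apply, altForm_eq] at h
  rw [Matrix.mul_assoc]
  fin_cases i <;> fin_cases j <;>
    · simp [Matrix.mul_apply, Matrix.mulVec, Matrix.vecMul, dotProduct, Fin.sum_univ_four, Cfsg.suzukiForm] at h ⊢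
      linear_combination h

omit [Fintype F] hF in
theorem mem_Sp4_of {g : GL (Fin 4) F}
    (h : (g : Matrix (Fin 4) (Fin 4) F).transpose * Cfsg.suzukiForm F *
      (g : Matrix (Fin 4) (Fin 4) F) = Cfsg.suzukiForm F) : g ∈ Cfsg.Lie.Sp4 F := by
  intro u v
  simp only [Units.coeHom_apply, altForm_eq]
  rw [← Matrix.vecMul_transpose, ← Matrix.dotProduct_mulVec, Matrix.mulVec_mulVec,
    Matrix.mulVec_mulVec, h]

theorem det_eq_one {g : GL (Fin 4) F} (hg : g ∈ Cfsg.Lie.Sp4 F) :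
    (g : Matrix (Fin 4) (Fin 4) F).det = 1 := by
  have h := congrArg Matrix.det (form_of_mem hF hg)
  rw [Matrix.det_mul, Matrix.det_mul, Matrix.det_transpose] at h
  have hJ : (Cfsg.suzukiForm F).det = 1 := (wM F).2
  rw [hJ] at h
  apply sq_inj hF
  linear_combination h

/-- Rows of a symplectic matrix also satisfy the form relations. -/
theorem form_rows {M : Matrix (Fin 4) (Fin 4) F}
    (h : M.transpose * Cfsg.suzukiForm F * M = Cfsg.suzukiForm F) :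
    M * Cfsg.suzukiForm F * M.transpose = Cfsg.suzukiForm F := by
  have hJ : Cfsg.suzukiForm F * Cfsg.suzukiForm F = 1 :=
    congrArg Subtype.val (wM_mul_self (F := F))
  have h1 : (Cfsg.suzukiForm F * M.transpose * Cfsg.suzukiForm F) * M = 1 := by
    rw [Matrix.mul_assoc, Matrix.mul_assoc, ← Matrix.mul_assoc M.transpose, h, hJ]
  have h2 := mul_eq_one_comm.1 h1
  calc M * Cfsg.suzukiForm F * M.transpose
      = M * (Cfsg.suzukiForm F * M.transpose * Cfsg.suzukiForm F) * Cfsg.suzukiForm F := by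
        simp only [Matrix.mul_assoc, hJ, Matrix.mul_one]
    _ = _ := by rw [h2, Matrix.one_mul]

theorem pl_mulVec {M : Matrix (Fin 4) (Fin 4) F}
    (hM : M.transpose * Cfsg.suzukiForm F * M = Cfsg.suzukiForm F) {v u : Fin 4 → F}
    (hB : Cfsg.Lie.altForm4 v u = 0) :
    pl (M *ᵥ v) (M *ᵥ u) = Cfsg.Lie.star4 M *ᵥ pl v u := by
  have hR : ∀ k l : Fin 4, M k 0 * M l 3 + M k 1 * M l 2 + M k 2 * M l 1 + M k 3 * M l 0 =
      Cfsg.suzukiForm F k l := by
    intro k l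
    have h := congrFun (congrFun (form_rows hF hM) k) l
    simp [Matrix.mul_apply, Matrix.vecMul, dotProduct, Fin.sum_univ_four, Cfsg.suzukiForm] at h
    simp [Cfsg.suzukiForm]
    linear_combination h
  simp only [Cfsg.Lie.altForm4] at hB
  have key : ∀ k l : Fin 4, Cfsg.suzukiForm F k l = 0 →
      (M *ᵥ v) k * (M *ᵥ u) l - (M *ᵥ v) l * (M *ᵥ u) k =
        (M k 0 * M l 1 - M l 0 * M k 1) * (v 0 * u 1 - v 1 * u 0) +
        (M k 0 * M l 2 - M l 0 * M k 2) * (v 0 * u 2 - v 2 * u 0) +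
        (M k 1 * M l 3 - M l 1 * M k 3) * (v 1 * u 3 - v 3 * u 1) +
        (M k 2 * M l 3 - M l 2 * M k 3) * (v 2 * u 3 - v 3 * u 2) := by
    intro k l hkl
    have hR' := (hR k l).trans hkl
    simp only [Matrix.mulVec, dotProduct, Fin.sum_univ_four]
    linear_combination (v 0 * u 3 - v 3 * u 0) * hR' + (M k 1 * M l 2 - M l 1 * M k 2) * hB
      + (-((v 0 * u 3 - v 3 * u 0) * (M l 0 * M k 3 + M l 1 * M k 2))
        - (M k 1 * M l 2 - M l 1 * M k 2) * (v 2 * u 1 + v 0 * u 3)) * two_eq_zero hF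
  funext i
  fin_cases i
  · have := key 0 1 (by simp [Cfsg.suzukiForm])
    simp [pl, Matrix.mulVec, dotProduct, Fin.sum_univ_four, Cfsg.Lie.star4, Cfsg.Lie.pairOf] at this ⊢
    linear_combination this
  · have := key 0 2 (by simp [Cfsg.suzukiForm])
    simp [pl, Matrix.mulVec, dotProduct, Fin.sum_univ_four, Cfsg.Lie.star4, Cfsg.Lie.pairOf] at this ⊢
    linear_combination this
  · have := key 1 3 (by simp [Cfsg.suzukiForm])
    simp [pl, Matrix.mulVec, dotProduct, Fin.sum_univ_four, Cfsg.Lie.star4, Cfsg.Lie.pairOf] at this ⊢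
    linear_combination this
  · have := key 2 3 (by simp [Cfsg.suzukiForm])
    simp [pl, Matrix.mulVec, dotProduct, Fin.sum_univ_four, Cfsg.Lie.star4, Cfsg.Lie.pairOf] at this ⊢
    linear_combination this

theorem map_mulVec_sg (M : Matrix (Fin 4) (Fin 4) F) (v : Fin 4 → F) :
    M.map (fun x => x ^ (2 ^ (m + 1))) *ᵥ (fun i => v i ^ (2 ^ (m + 1))) =
      fun i => (M *ᵥ v) i ^ (2 ^ (m + 1)) := by
  funext i
  simp [Matrix.mulVec, dotProduct, Fin.sum_univ_four, add_pow_sg hF, mul_pow]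

theorem abs_smul {g : GL (Fin 4) F} (hg : g ∈ Cfsg.Lie.Sp4 F)
    (hs : Cfsg.Lie.star4 (g : Matrix (Fin 4) (Fin 4) F) =
      (g : Matrix (Fin 4) (Fin 4) F).map (fun x => x ^ (2 ^ (m + 1))))
    {v : Fin 4 → F} (hv : IsAbs m v) : IsAbs m ((g : Matrix (Fin 4) (Fin 4) F) *ᵥ v) := by
  obtain ⟨u, hB, hu⟩ := hv
  refine ⟨(g : Matrix (Fin 4) (Fin 4) F) *ᵥ u, ?_, ?_⟩
  · exact (hg v u).trans hB
  · rw [pl_mulVec hF (form_of_mem hF hg) hB, hu, hs, map_mulVec_sg hF]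

theorem abs_inf : IsAbs m (![1, 0, 0, 0] : Fin 4 → F) := by
  refine ⟨![0, 1, 0, 0], ?_, ?_⟩
  · simp [Cfsg.Lie.altForm4]
  · funext i
    fin_cases i <;> simp [pl]

theorem abs_pt (x y : F) : IsAbs m (vPt m x y) := by
  refine ⟨![y + x * x ^ (2 ^ (m + 1)), x ^ (2 ^ (m + 1)), 1, 0], ?_, ?_⟩
  · simp [Cfsg.Lie.altForm4, vPt]
    linear_combination (y + x * x ^ (2 ^ (m + 1))) * two_eq_zero hF
  · have h2 := two_eq_zero hF
    funext i
    fin_cases i <;> simp [pl, vPt, neg_eq hF, sub_eq_add_neg]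
    · simp only [fv, pow_add x (2 ^ (m + 1)), add_pow_sg hF, mul_pow, sg_sg hF]
      rw [← pow_mul x 2, Nat.mul_comm 2, pow_mul x _ 2]
      ring_nf
      simp [h2]
    · simp only [fv, pow_add x (2 ^ (m + 1))]
      ring_nf
      simp [h2]

theorem mem_of_abs {v : Fin 4 → F} (hv : v ≠ 0) (h : IsAbs m v) :
    Projectivization.mk F v hv ∈ Cfsg.suzukiOvoid F m := by
  have h2 := two_eq_zero hF
  obtain ⟨u, hB, hu⟩ := h
  have e0 := congrFun hu 0
  have e1 := congrFun hu 1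
  have e2 := congrFun hu 2
  have e3 := congrFun hu 3
  simp [pl] at e0 e1 e2 e3
  simp only [Cfsg.Lie.altForm4] at hB
  have hz : (2 : ℕ) ^ (m + 1) ≠ 0 := by positivity
  rw [mem_ovoid]
  by_cases h3 : v 3 = 0
  · left
    rw [h3, zero_pow hz, zero_mul, sub_zero] at e3
    rw [h3, zero_mul, sub_zero] at e2
    rw [h3, zero_mul, add_zero] at hB
    have hv2 : v 2 = 0 := by
      by_contra hv2
      have hu3 := (mul_eq_zero.1 e3).resolve_left hv2
      rw [hu3, mul_zero] at e2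
      exact hv2 (eq_zero_of_pow_eq_zero e2.symm)
    rw [hv2, zero_pow hz] at e2
    rw [hv2, zero_mul, add_zero] at hB
    rw [hv2, zero_mul, sub_zero] at e1
    have hv1 : v 1 = 0 := by
      by_contra hv1
      have hu3 := (mul_eq_zero.1 e2).resolve_left hv1
      rw [hu3, mul_zero, zero_add] at hB
      rw [(mul_eq_zero.1 hB).resolve_left hv1, mul_zero] at e1
      exact hv1 (eq_zero_of_pow_eq_zero e1.symm)
    rw [Cfsg.suzukiPointInfinity, Projectivization.mk_eq_mk_iff']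
    refine ⟨v 0, ?_⟩
    funext i
    fin_cases i <;> simp [hv1, hv2, h3]
  · right
    refine ⟨v 2 / v 3, v 1 / v 3, ?_⟩
    rw [pt, Projectivization.mk_eq_mk_iff']
    refine ⟨v 3, ?_⟩
    have e0' : v 3 * fv m (v 2 / v 3) (v 1 / v 3) = v 0 := by
      have hP : v 3 ^ (2 ^ (m + 1)) ≠ 0 := pow_ne_zero _ h3
      have hkey : v 1 * v 2 * v 3 ^ 2 ^ (m + 1) + v 2 ^ 2 ^ (m + 1) * v 2 ^ 2
          + v 1 ^ 2 ^ (m + 1) * v 3 ^ 2 = v 0 * (v 3 ^ 2 ^ (m + 1) * v 3) := by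
        linear_combination (v 1 * v 2 - v 0 * v 3) * (-e3) + v 2 ^ 2 * (-e2) + v 3 ^ 2 * (-e1)
          + (-(v 2 * v 3)) * hB + (v 1 * v 2 ^ 2 * u 3 + v 0 * v 3 ^ 2 * u 2) * h2
      have hexp : v 3 * fv m (v 2 / v 3) (v 1 / v 3) = (v 1 * v 2 * v 3 ^ 2 ^ (m + 1)
          + v 2 ^ 2 ^ (m + 1) * v 2 ^ 2 + v 1 ^ 2 ^ (m + 1) * v 3 ^ 2) /
            (v 3 ^ 2 ^ (m + 1) * v 3) := by
        simp only [fv, div_pow, pow_add (v 2) (2 ^ (m + 1)), pow_add (v 3) (2 ^ (m + 1))]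
        field_simp
      rw [hexp, hkey, mul_div_assoc, div_self (mul_ne_zero hP h3), mul_one]
    funext i
    fin_cases i <;> simp [vPt, e0'] <;> field_simp

theorem mem_range_of {g : GL (Fin 4) F} (hg : g ∈ Cfsg.Lie.Sp4 F)
    (hs : Cfsg.Lie.star4 (g : Matrix (Fin 4) (Fin 4) F) =
      (g : Matrix (Fin 4) (Fin 4) F).map (fun x => x ^ (2 ^ (m + 1)))) :
    ∃ s ∈ Cfsg.Sz F m, Matrix.SpecialLinearGroup.toGL s = g := by
  refine ⟨⟨_, det_eq_one hF hg⟩, mem_Sz_of hF fun p hp => ?_, Units.ext rfl⟩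
  rcases mem_ovoid.1 hp with rfl | ⟨x, y, rfl⟩
  · rw [Cfsg.suzukiPointInfinity,
      smul_mk (F := F) ⟨_, det_eq_one hF hg⟩ _ (mulVec_ne_zero _ (by simp))]
    exact mem_of_abs hF _ (abs_smul hF hg hs (abs_inf hF))
  · rw [pt, smul_mk (F := F) ⟨_, det_eq_one hF hg⟩ _ (mulVec_ne_zero _ (vPt_ne x y))]
    exact mem_of_abs hF _ (abs_smul hF hg hs (abs_pt hF x y))

theorem star_tM (a b : F) :
    Cfsg.Lie.star4 (tMat m a b) = (tMat m a b).map (fun x => x ^ (2 ^ (m + 1))) := by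
  have h2 := two_eq_zero hF
  have hz : (2 : ℕ) ^ (m + 1) ≠ 0 := by positivity
  ext i j
  fin_cases i <;> fin_cases j <;>
    simp [tMat, Cfsg.Lie.star4, Cfsg.Lie.pairOf, zero_pow hz, neg_eq hF, sub_eq_add_neg]
  all_goals simp only [fv, pow_add a (2 ^ (m + 1)), pow_one, add_pow_sg hF, mul_pow, sg_sg hF]
  all_goals try rw [← pow_mul a 2, Nat.mul_comm 2, pow_mul a _ 2]
  all_goals ring_nf
  all_goals simp [h2]

theorem star_wM :
    Cfsg.Lie.star4 (wM F : Matrix (Fin 4) (Fin 4) F) =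
      (wM F : Matrix (Fin 4) (Fin 4) F).map (fun x => x ^ (2 ^ (m + 1))) := by
  have hz : (2 : ℕ) ^ (m + 1) ≠ 0 := by positivity
  ext i j
  fin_cases i <;> fin_cases j <;> simp [wM, Cfsg.Lie.star4, Cfsg.Lie.pairOf, zero_pow hz, neg_eq hF]

theorem star_dM (k : Fˣ) :
    Cfsg.Lie.star4 (dM m k : Matrix (Fin 4) (Fin 4) F) =
      (dM m k : Matrix (Fin 4) (Fin 4) F).map (fun x => x ^ (2 ^ (m + 1))) := by
  have hz : (2 : ℕ) ^ (m + 1) ≠ 0 := by positivity
  have hk := k.ne_zero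
  have h1 : ((k : F) ^ 2 ^ m) ^ 2 ^ (m + 1) = k := by
    apply sq_inj hF
    rw [← pow_mul, ← pow_mul, show 2 ^ m * (2 ^ (m + 1) * 2) = 2 ^ (m + 1) * 2 ^ (m + 1) by ring,
      pow_mul, sg_sg hF]
  have h1' : (((k : F) ^ 2 ^ m) ^ 2 ^ m) ^ 2 = k := by rw [← sg_eq_sq, h1]
  ext i j
  fin_cases i <;> fin_cases j <;>
    simp [dM, Cfsg.Lie.star4, Cfsg.Lie.pairOf, zero_pow hz, pow_succ ((k : F)) (2 ^ m), mul_pow, h1, h1',
      inv_pow, sg_eq_sq]
  all_goals field_simp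

theorem toGL_mem_of_star {g : Matrix.SpecialLinearGroup (Fin 4) F} (hm : 1 ≤ m)
    (hg : g ∈ Cfsg.Sz F m)
    (hs : Cfsg.Lie.star4 (g : Matrix (Fin 4) (Fin 4) F) =
      (g : Matrix (Fin 4) (Fin 4) F).map (fun x => x ^ (2 ^ (m + 1)))) :
    Matrix.SpecialLinearGroup.toGL g ∈ Cfsg.Lie.Sz F (2 ^ (m + 1)) :=
  Subgroup.subset_closure ⟨mem_Sp4_of (form_preserved hF hm hg), hs⟩

/-- The two models of the Suzuki group are isomorphic. -/
theorem lie_sz_equiv (hm : 1 ≤ m) :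
    Nonempty (Cfsg.Sz F m ≃* Cfsg.Lie.Sz F (2 ^ (m + 1))) := by
  let φ := (Matrix.SpecialLinearGroup.toGL (n := Fin 4) (R := F)).comp (Cfsg.Sz F m).subtype
  have hinj : Function.Injective φ := fun g h e =>
    Subtype.ext (Subtype.ext (congrArg (fun u : GL (Fin 4) F => (u : Matrix (Fin 4) (Fin 4) F)) e))
  have hrange : φ.range = Cfsg.Lie.Sz F (2 ^ (m + 1)) := by
    apply le_antisymm
    · rintro _ ⟨g, rfl⟩
      have ht := fun a b : F => toGL_mem_of_star hF hm (tM_mem hF a b) (star_tM hF a b)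
      have hd := fun k : Fˣ => toGL_mem_of_star hF hm (dM_mem hF k) (star_dM hF k)
      have hw := toGL_mem_of_star hF hm (wM_mem hF) (star_wM hF)
      show Matrix.SpecialLinearGroup.toGL (g : Matrix.SpecialLinearGroup (Fin 4) F) ∈ _
      rcases decomp hF hm g.2 with ⟨a, b, k, e⟩ | ⟨a, b, c, d, k, e⟩
      · rw [e, map_mul]
        exact Subgroup.mul_mem _ (ht a b) (hd k)
      · rw [e, map_mul, map_mul, map_mul]
        exact Subgroup.mul_mem _ (Subgroup.mul_mem _ (ht a b) hw)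
          (Subgroup.mul_mem _ (ht c d) (hd k))
    · refine (Subgroup.closure_le _).2 ?_
      rintro g ⟨hg, hs⟩
      obtain ⟨s, hs', e⟩ := mem_range_of hF hg hs
      exact ⟨⟨s, hs'⟩, e⟩
  exact ⟨(MonoidHom.ofInjective hinj).trans (MulEquiv.subgroupCongr hrange)⟩

end Cfsg.Agent.Lie.Suzuki
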