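import Cfsg.Agent.Lib.Lie.SuzukiSp4

/-!
# Suzuki groups: the action on the cosets of a Sylow 2-normaliser
-/

set_option autoImplicit false

namespace Cfsg.Agent.Lie.Suzuki

open Matrix

variable {F : Type*} [Field F] {m : ℕ} [Fintype F] (hF : Fintype.card F = 2 ^ (2 * m + 1))
include hF

theorem normalizer_uSub (hm : 1 ≤ m) :
    Subgroup.normalizer ((uSub (m := m) hF : Subgroup (Cfsg.Sz F m)) : Set (Cfsg.Sz F m)) =
      MulAction.stabilizer (Cfsg.Sz F m) (Cfsg.suzukiPointInfinity F) := by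
  apply le_antisymm
  · intro g hg
    rw [MulAction.mem_stabilizer_iff]
    obtain ⟨a, b, he⟩ : g⁻¹ * tS hF 1 0 * g ∈ uSub hF := by
      have h := (Subgroup.mem_set_normalizer_iff.1 hg (g⁻¹ * tS hF 1 0 * g)).2
      apply h
      rw [show g * (g⁻¹ * tS hF 1 0 * g) * g⁻¹ = tS hF 1 0 by group]
      exact ⟨1, 0, rfl⟩
    rcases mem_ovoid.1 (smul_mem hF g.2 inf_mem) with h | ⟨x, y, h⟩
    · exact h
    · exfalso
      have hfix : tM m (1 : F) 0 • pt m x y = pt m x y := by
        have h2 : (g⁻¹ * tS hF 1 0 * g) • Cfsg.suzukiPointInfinity F = Cfsg.suzukiPointInfinity F := by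
          rw [he]; exact tM_inf a b
        have hg' : g • Cfsg.suzukiPointInfinity F = pt m x y := h
        rw [mul_smul, mul_smul, inv_smul_eq_iff, hg'] at h2
        exact h2
      rw [tM_pt hF] at hfix
      have := (pt_inj hfix).1
      simp at this
  · intro g hg
    obtain ⟨a, b, k, rfl⟩ := sz_fix hF hm g hg
    have hu : tS hF a b ∈ Subgroup.normalizer ((uSub (m := m) hF : Subgroup _) : Set (Cfsg.Sz F m)) :=
      Subgroup.le_normalizer ⟨a, b, rfl⟩
    refine Subgroup.mul_mem _ hu ?_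
    rw [Subgroup.mem_set_normalizer_iff]
    intro u
    have key : ∀ (l : Fˣ) (w : Cfsg.Sz F m), w ∈ uSub hF → dS hF l * w * (dS hF l)⁻¹ ∈ uSub hF := by
      rintro l _ ⟨c, d, rfl⟩
      rw [dS_mul_tS hF hm, mul_inv_cancel_right]
      exact ⟨_, _, rfl⟩
    refine ⟨fun hu => key k u hu, fun hu => ?_⟩
    have h := key k⁻¹ _ hu
    rwa [map_inv, inv_inv, show (dS hF k)⁻¹ * (dS hF k * u * (dS hF k)⁻¹) * dS hF k = u by group] at h

theorem coset_action (hm : 1 ≤ m) {H : Type*} [Group H] (e : Cfsg.Sz F m ≃* H) :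
    Nat.card H = (Fintype.card F) ^ 2 * (Fintype.card F - 1) * ((Fintype.card F) ^ 2 + 1) ∧
    ∃ S : Sylow 2 H,
      Nat.card (Subgroup.normalizer ((S : Subgroup H) : Set H)) =
          (Fintype.card F) ^ 2 * (Fintype.card F - 1) ∧
      (Subgroup.normalizer ((S : Subgroup H) : Set H)).index = (Fintype.card F) ^ 2 + 1 ∧
      MulAction.IsMultiplyPretransitive H (H ⧸ Subgroup.normalizer ((S : Subgroup H) : Set H)) 2 ∧
      ∀ x y : H ⧸ Subgroup.normalizer ((S : Subgroup H) : Set H),
        x ≠ QuotientGroup.mk 1 → y ≠ QuotientGroup.mk 1 →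
          ∃! s : (S : Subgroup H), (s : H) • x = y := by
  have : Fact (Nat.Prime 2) := ⟨Nat.prime_two⟩
  have hcard : Nat.card H = (Fintype.card F) ^ 2 * (Fintype.card F - 1) * ((Fintype.card F) ^ 2 + 1) := by
    rw [← Nat.card_congr e.toEquiv, card_sz hF hm]; ring
  have : Finite H := Finite.of_equiv _ e.toEquiv
  have hidx : ¬ 2 ∣ ((uSub (m := m) hF).map e.toMonoidHom).index := by
    rw [show (uSub (m := m) hF).map e.toMonoidHom = (uSub hF).map (e : Cfsg.Sz F m →* H) from rfl,
      Subgroup.index_map_equiv]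
    exact not_two_dvd_index hF hm
  let S : Sylow 2 H := ((uSub_isPGroup (m := m) hF).map e.toMonoidHom).toSylow hidx
  have hS : (S : Subgroup H) = (uSub (m := m) hF).map e.toMonoidHom := rfl
  have hN : ∀ h : H, h ∈ Subgroup.normalizer ((S : Subgroup H) : Set H) ↔
      e.symm h • Cfsg.suzukiPointInfinity F = Cfsg.suzukiPointInfinity F := by
    intro h
    rw [← MulAction.mem_stabilizer_iff (G := Cfsg.Sz F m), ← normalizer_uSub hF hm, hS,
      Subgroup.mem_set_normalizer_iff, Subgroup.mem_set_normalizer_iff]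
    simp only [SetLike.mem_coe, Subgroup.mem_map_equiv, map_mul, map_inv]
    exact ⟨fun hh u => by simpa using hh (e u), fun hh x => hh (e.symm x)⟩
  let N := Subgroup.normalizer ((S : Subgroup H) : Set H)
  refine ⟨hcard, S, ?_, ?_, ?_, ?_⟩
  · have e' : N ≃ MulAction.stabilizer (Cfsg.Sz F m) (Cfsg.suzukiPointInfinity F) :=
      Equiv.subtypeEquiv e.symm.toEquiv hN
    rw [Nat.card_congr e', card_stab_inf hF hm]
  · have h := N.card_mul_index
    have e' : N ≃ MulAction.stabilizer (Cfsg.Sz F m) (Cfsg.suzukiPointInfinity F) :=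
      Equiv.subtypeEquiv e.symm.toEquiv hN
    rw [Nat.card_congr e', card_stab_inf hF hm, hcard] at h
    have hq : 2 ≤ Fintype.card F := Fintype.one_lt_card
    exact Nat.eq_of_mul_eq_mul_left (Nat.mul_pos (by positivity) (by omega)) h
  all_goals
    have hrel : ∀ g h : H, (QuotientGroup.mk g : H ⧸ N) = QuotientGroup.mk h ↔
        e.symm g • Cfsg.suzukiPointInfinity F = e.symm h • Cfsg.suzukiPointInfinity F := by
      intro g h
      rw [QuotientGroup.eq, hN, map_mul, map_inv, mul_smul, inv_smul_eq_iff, eq_comm]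
  · rw [MulAction.is_two_pretransitive_iff]
    intro a b c d
    induction a using QuotientGroup.induction_on with | H a => ?_
    induction b using QuotientGroup.induction_on with | H b => ?_
    induction c using QuotientGroup.induction_on with | H c => ?_
    induction d using QuotientGroup.induction_on with | H d => ?_
    intro hab hcd
    obtain ⟨g, hg, ga, gb⟩ := two_trans hF (smul_mem hF (e.symm a).2 inf_mem)
      (smul_mem hF (e.symm b).2 inf_mem) fun h => hab ((hrel a b).2 h)
    obtain ⟨t, ht, tc, td⟩ := two_trans hF (smul_mem hF (e.symm c).2 inf_mem)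
      (smul_mem hF (e.symm d).2 inf_mem) fun h => hcd ((hrel c d).2 h)
    refine ⟨e ⟨t⁻¹ * g, Subgroup.mul_mem _ (Subgroup.inv_mem _ ht) hg⟩, ?_, ?_⟩
    · refine (hrel _ _).2 ?_
      show e.symm (e _ * a) • Cfsg.suzukiPointInfinity F = _
      rw [map_mul, e.symm_apply_apply, mul_smul]
      show (t⁻¹ * g) • (e.symm a • Cfsg.suzukiPointInfinity F) = _
      rw [mul_smul, inv_smul_eq_iff]
      exact ga.trans tc.symm
    · refine (hrel _ _).2 ?_
      show e.symm (e _ * b) • Cfsg.suzukiPointInfinity F = _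
      rw [map_mul, e.symm_apply_apply, mul_smul]
      show (t⁻¹ * g) • (e.symm b • Cfsg.suzukiPointInfinity F) = _
      rw [mul_smul, inv_smul_eq_iff]
      exact gb.trans td.symm
  · intro x y
    induction x using QuotientGroup.induction_on with | H x => ?_
    induction y using QuotientGroup.induction_on with | H y => ?_
    intro hx hy
    have hpt : ∀ z : H, (QuotientGroup.mk z : H ⧸ N) ≠ QuotientGroup.mk 1 →
        ∃ u v : F, e.symm z • Cfsg.suzukiPointInfinity F = pt m u v := by
      intro z hz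
      rcases mem_ovoid.1 (smul_mem hF (e.symm z).2 inf_mem) with h | h
      · exact absurd ((hrel z 1).2 (by rw [map_one, one_smul]; exact h)) hz
      · exact h
    obtain ⟨u, v, hu⟩ := hpt x hx
    obtain ⟨u', v', hu'⟩ := hpt y hy
    obtain ⟨a, ha⟩ : ∃ a, a = u' + u := ⟨_, rfl⟩
    obtain ⟨b, hb⟩ : ∃ b, b = v' + v + a ^ 2 ^ (m + 1) * u := ⟨_, rfl⟩
    have hmem : e (tS hF a b) ∈ (S : Subgroup H) := ⟨_, ⟨a, b, rfl⟩, rfl⟩
    refine ⟨⟨_, hmem⟩, (hrel _ _).2 ?_, ?_⟩
    · show e.symm (e (tS hF a b) * x) • Cfsg.suzukiPointInfinity F = _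
      rw [map_mul, e.symm_apply_apply, mul_smul, hu, hu']
      show tM m a b • pt m u v = _
      have h2 := two_eq_zero hF
      rw [tM_pt hF]
      congr 1
      · rw [ha]; linear_combination u * h2
      · rw [hb]; linear_combination (v + a ^ 2 ^ (m + 1) * u) * h2
    · rintro ⟨s, w, ⟨c, d, rfl⟩, rfl⟩ hs
      have hs' : e.symm (e (tS hF c d) * x) • Cfsg.suzukiPointInfinity F =
          e.symm y • Cfsg.suzukiPointInfinity F := (hrel _ _).1 hs
      rw [map_mul, e.symm_apply_apply, mul_smul, hu, hu'] at hs'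
      obtain ⟨e1, e2⟩ := pt_inj ((tM_pt hF c d u v).symm.trans hs')
      have hc : c = a := by rw [ha, ← e1]; linear_combination (-u) * two_eq_zero hF
      subst hc
      have hd : d = b := by
        rw [hb, ← e2]; linear_combination (-(v + c ^ 2 ^ (m + 1) * u)) * two_eq_zero hF
      subst hd
      rfl

end Cfsg.Agent.Lie.Suzuki
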