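import Cfsg.Agent.Lib.Lie.SuzukiGroup

/-!
# Suzuki groups: Sylow 2-subgroups, symplectic form, independence on the ovoid
-/

set_option autoImplicit false

namespace Cfsg.Agent.Lie.Suzuki

open Matrix
open scoped commutatorElement

variable {F : Type*} [Field F] {m : ℕ} [Fintype F] (hF : Fintype.card F = 2 ^ (2 * m + 1))
include hF

theorem card_uSub : Nat.card (uSub (m := m) hF) = Fintype.card F ^ 2 := by
  let φ : F × F → uSub (m := m) hF := fun z => ⟨tS hF z.1 z.2, z.1, z.2, rfl⟩
  have hb : Function.Bijective φ := by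
    constructor
    · rintro ⟨a, b⟩ ⟨c, d⟩ h
      obtain ⟨rfl, rfl⟩ := tM_injective (m := m)
        (congrArg Subtype.val (congrArg Subtype.val h) : tM m a b = tM m c d)
      rfl
    · rintro ⟨g, a, b, rfl⟩
      exact ⟨(a, b), rfl⟩
  rw [← Nat.card_congr (Equiv.ofBijective φ hb), Nat.card_prod, Nat.card_eq_fintype_card, sq]

theorem card_zSub : Nat.card (zSub (m := m) hF) = Fintype.card F := by
  let φ : F → zSub (m := m) hF := fun b => ⟨tS hF 0 b, b, rfl⟩
  have hb : Function.Bijective φ := by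
    constructor
    · intro b d h
      exact (tM_injective (m := m)
        (congrArg Subtype.val (congrArg Subtype.val h) : tM m 0 b = tM m 0 d)).2
    · rintro ⟨g, b, rfl⟩
      exact ⟨b, rfl⟩
  rw [← Nat.card_congr (Equiv.ofBijective φ hb), Nat.card_eq_fintype_card]

theorem zSub_le : zSub (m := m) hF ≤ uSub hF := by
  rintro _ ⟨b, rfl⟩
  exact ⟨0, b, rfl⟩

theorem not_two_dvd_index (hm : 1 ≤ m) : ¬ 2 ∣ (uSub (m := m) hF).index := by
  have h := (uSub (m := m) hF).card_mul_index
  rw [card_uSub hF, card_sz hF hm, mul_assoc] at h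
  rw [Nat.eq_of_mul_eq_mul_left (by positivity) h, Nat.prime_two.dvd_mul]
  have he : Even (Fintype.card F) := by
    rw [hF, pow_succ]
    exact even_two.mul_left _
  have h1 : 2 ≤ Fintype.card F := Fintype.one_lt_card
  obtain ⟨r, hr⟩ := he
  rintro (⟨s, hs⟩ | ⟨s, hs⟩)
  · rw [hr] at hs
    have : (r + r) ^ 2 = 2 * (2 * r * r) := by ring
    omega
  · omega

theorem uSub_isPGroup : IsPGroup 2 (uSub (m := m) hF) :=
  IsPGroup.of_card (n := 2 * (2 * m + 1)) (by rw [card_uSub hF, hF, ← pow_mul, Nat.mul_comm])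

theorem uSub_pow_four {g : Cfsg.Sz F m} (hg : g ∈ uSub hF) : g ^ 4 = 1 := by
  obtain ⟨a, b, rfl⟩ := hg
  have h2 : tS (m := m) hF a b * tS hF a b = tS hF 0 (a ^ 2 ^ (m + 1) * a) := by
    rw [tS_mul hF, add_self hF, add_self hF, zero_add]
  rw [show tS (m := m) hF a b ^ 4 = (tS hF a b * tS hF a b) * (tS hF a b * tS hF a b) by
      simp only [pow_succ, pow_zero, one_mul, mul_assoc],
    h2, tS_mul hF, add_self hF, add_self hF]
  simp [tS_zero hF]

theorem uSub_exponent (hm : 1 ≤ m) : Monoid.exponent (uSub (m := m) hF) = 4 := by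
  have hdvd : Monoid.exponent (uSub (m := m) hF) ∣ 2 ^ 2 :=
    Monoid.exponent_dvd_of_forall_pow_eq_one fun g => Subtype.ext (uSub_pow_four hF g.2)
  obtain ⟨k, hk, he⟩ := (Nat.dvd_prime_pow Nat.prime_two).1 hdvd
  rw [he]
  interval_cases k
  · exfalso
    have h := Monoid.pow_exponent_eq_one (⟨tS hF 1 0, 1, 0, rfl⟩ : uSub (m := m) hF)
    rw [he, pow_zero, pow_one] at h
    have h' : tM m (1 : F) 0 = tM m 0 0 := by
      rw [tM_zero]; exact congrArg Subtype.val (congrArg Subtype.val h)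
    exact one_ne_zero (tM_injective h').1
  · exfalso
    have h := Monoid.pow_exponent_eq_one (⟨tS hF 1 0, 1, 0, rfl⟩ : uSub (m := m) hF)
    rw [he, pow_one] at h
    have h' : tS (m := m) hF (1 : F) 0 * tS hF 1 0 = 1 := by
      rw [← pow_two]; exact congrArg Subtype.val h
    rw [tS_mul hF] at h'
    have h'' : tM m ((1 : F) + 1) (0 + 0 + 1 ^ 2 ^ (m + 1) * 1) = tM m 0 0 := by
      rw [tM_zero]; exact congrArg Subtype.val h'
    have := (tM_injective h'').2
    simp at this
  · rfl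

theorem uSub_center (hm : 1 ≤ m) :
    Subgroup.center (uSub (m := m) hF) = (zSub hF).subgroupOf (uSub hF) := by
  ext ⟨g, a, b, rfl⟩
  rw [Subgroup.mem_center_iff, Subgroup.mem_subgroupOf]
  constructor
  · intro h
    have key : ∀ c : F, a ^ 2 ^ (m + 1) * c + c ^ 2 ^ (m + 1) * a = 0 := by
      intro c
      have hc : tS (m := m) hF a b * tS hF c 0 = tS hF c 0 * tS hF a b :=
        (congrArg Subtype.val (h ⟨tS hF c 0, c, 0, rfl⟩)).symm
      rw [← commutatorElement_eq_one_iff_mul_comm, comm_tS hF, ← tS_zero hF] at hc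
      exact (tM_injective (congrArg Subtype.val hc)).2
    have ha : a = 0 := by
      by_contra ha
      have h1 := key 1
      rw [mul_one, one_pow, one_mul] at h1
      have h1' : a ^ 2 ^ (m + 1) = a := (eq_neg_of_add_eq_zero_left h1).trans (neg_eq hF a)
      have ha1 : a = 1 := by
        have h2 := sg_sg hF a
        rw [h1', h1', sq] at h2
        exact ((mul_eq_left₀ ha).1 h2.symm)
      obtain ⟨k, hk⟩ := exists_unit_ne_one hF hm
      have h3 := key k
      rw [ha1, one_pow, one_mul, mul_one] at h3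
      have h3' : (k : F) ^ 2 ^ (m + 1) = k :=
        (eq_neg_of_add_eq_zero_right h3).trans (neg_eq hF _)
      have h4 := sg_sg hF (k : F)
      rw [h3', h3', sq] at h4
      exact hk ((mul_eq_left₀ k.ne_zero).1 h4.symm)
    exact ⟨b, by rw [ha]⟩
  · rintro ⟨e, he⟩ ⟨g, c, d, rfl⟩
    apply Subtype.ext
    show tS hF c d * tS hF a b = tS hF a b * tS hF c d
    rw [show tS hF a b = tS hF 0 e from he, tS_zero_comm hF]

theorem uSub_commutator (hm : 1 ≤ m) :
    commutator (uSub (m := m) hF) = (zSub hF).subgroupOf (uSub hF) := by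
  apply le_antisymm
  · rw [commutator_def, Subgroup.commutator_le]
    rintro ⟨g, a, b, rfl⟩ - ⟨g', c, d, rfl⟩ -
    rw [Subgroup.mem_subgroupOf]
    exact ⟨_, comm_tS hF a b c d⟩
  · rintro ⟨g, hg⟩ ⟨e, he⟩
    obtain ⟨k, hk⟩ := exists_unit_ne_one hF hm
    have hl : (k : F) + (k : F) ^ 2 ^ (m + 1) ≠ 0 := by
      intro h
      have h3' : (k : F) ^ 2 ^ (m + 1) = k := (eq_neg_of_add_eq_zero_right h).trans (neg_eq hF _)
      have h4 := sg_sg hF (k : F)
      rw [h3', h3', sq] at h4
      exact hk ((mul_eq_left₀ k.ne_zero).1 h4.symm)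
    obtain ⟨a, ha⟩ : ∃ a : F, a ^ (2 ^ (m + 1) + 1) = e / ((k : F) + (k : F) ^ 2 ^ (m + 1)) :=
      ⟨_, (sg_add_one_left_inv hF _).1⟩
    have h : (⟨g, hg⟩ : uSub (m := m) hF) =
        ⁅(⟨tS hF a 0, a, 0, rfl⟩ : uSub (m := m) hF), ⟨tS hF (a * k) 0, a * k, 0, rfl⟩⁆ := by
      apply Subtype.ext
      show g = ⁅tS hF a 0, tS hF (a * k) 0⁆
      rw [show g = tS hF 0 e from he, comm_tS hF]
      congr 1
      rw [mul_pow]
      rw [pow_add, pow_one] at ha
      field_simp at ha
      linear_combination -ha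
    rw [h]
    exact Subgroup.commutator_mem_commutator (Subgroup.mem_top _) (Subgroup.mem_top _)

theorem sylow_structure (hm : 1 ≤ m) (P : Sylow 2 (Cfsg.Sz F m)) :
    Nat.card P = Fintype.card F ^ 2 ∧ Monoid.exponent P = 4 ∧
      Subgroup.center P = commutator P ∧ Nat.card (Subgroup.center P) = Fintype.card F := by
  have : Fact (Nat.Prime 2) := ⟨Nat.prime_two⟩
  have e : P ≃* uSub (m := m) hF :=
    Sylow.equiv P ((uSub_isPGroup hF).toSylow (not_two_dvd_index hF hm))
  have hcen : Subgroup.center P = (Subgroup.center (uSub (m := m) hF)).map e.symm.toMonoidHom := by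
    ext x
    constructor
    · intro hx
      refine ⟨e x, Subgroup.mem_center_iff.2 fun y => ?_, e.symm_apply_apply x⟩
      apply e.symm.injective
      rw [map_mul, map_mul, e.symm_apply_apply]
      exact Subgroup.mem_center_iff.1 hx _
    · rintro ⟨y, hy, rfl⟩
      refine Subgroup.mem_center_iff.2 fun z => e.injective ?_
      rw [map_mul, map_mul, MulEquiv.coe_toMonoidHom, e.apply_symm_apply]
      exact Subgroup.mem_center_iff.1 hy _
  have hcom : commutator P = (commutator (uSub (m := m) hF)).map e.symm.toMonoidHom := by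
    rw [map_commutator_eq, MonoidHom.range_eq_top.2 e.symm.surjective, commutator_def]
  refine ⟨?_, ?_, ?_, ?_⟩
  · rw [Nat.card_congr e.toEquiv, card_uSub hF]
  · rw [Monoid.exponent_eq_of_mulEquiv e, uSub_exponent hF hm]
  · rw [hcen, hcom, uSub_center hF hm, uSub_commutator hF hm]
  · rw [hcen, Subgroup.card_map_of_injective e.symm.injective, uSub_center hF hm,
      Nat.card_congr (Subgroup.subgroupOfEquivOfLe (zSub_le hF)).toEquiv, card_zSub hF]

theorem two_point_equiv (hm : 1 ≤ m) :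
    Nonempty (↥(MulAction.stabilizer (Cfsg.Sz F m) (Cfsg.suzukiPointInfinity F) ⊓
        MulAction.stabilizer (Cfsg.Sz F m) (Cfsg.suzukiPointZero F)) ≃* Fˣ) := by
  have hmem : ∀ k, dS (m := m) hF k ∈ MulAction.stabilizer (Cfsg.Sz F m) (Cfsg.suzukiPointInfinity F) ⊓
      MulAction.stabilizer (Cfsg.Sz F m) (Cfsg.suzukiPointZero F) := by
    intro k
    refine ⟨dM_inf k, ?_⟩
    show dM m k • Cfsg.suzukiPointZero F = Cfsg.suzukiPointZero F
    rw [← pt_zero (m := m), dM_pt hF, mul_zero, mul_zero]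
  refine ⟨(MulEquiv.ofBijective ((dS hF).codRestrict _ hmem) ⟨?_, ?_⟩).symm⟩
  · intro k l h
    exact dM_injective (congrArg Subtype.val (congrArg Subtype.val h))
  · rintro ⟨g, h0, h1⟩
    have h1' : (g : Matrix.SpecialLinearGroup (Fin 4) F) • pt m (0 : F) 0 = pt m 0 0 := by
      rw [pt_zero]; exact h1
    obtain ⟨k, hk⟩ := two_point hF hm g.2 h0 h1'
    exact ⟨k, Subtype.ext (Subtype.ext hk.symm)⟩

omit [Fintype F] hF in
theorem form_mul {g h : Matrix.SpecialLinearGroup (Fin 4) F}
    (hg : (g : Matrix (Fin 4) (Fin 4) F).transpose * Cfsg.suzukiForm F * g = Cfsg.suzukiForm F)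
    (hh : (h : Matrix (Fin 4) (Fin 4) F).transpose * Cfsg.suzukiForm F * h = Cfsg.suzukiForm F) :
    ((g * h : Matrix.SpecialLinearGroup (Fin 4) F) : Matrix (Fin 4) (Fin 4) F).transpose *
      Cfsg.suzukiForm F * ((g * h : Matrix.SpecialLinearGroup (Fin 4) F) : Matrix (Fin 4) (Fin 4) F) =
        Cfsg.suzukiForm F := by
  rw [Matrix.SpecialLinearGroup.coe_mul, Matrix.transpose_mul]
  calc _ = (h : Matrix (Fin 4) (Fin 4) F).transpose *
      ((g : Matrix (Fin 4) (Fin 4) F).transpose * Cfsg.suzukiForm F * g) * h := by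
        simp only [Matrix.mul_assoc]
    _ = _ := by rw [hg, hh]

theorem form_preserved (hm : 1 ≤ m) {g : Matrix.SpecialLinearGroup (Fin 4) F}
    (hg : g ∈ Cfsg.Sz F m) :
    (g : Matrix (Fin 4) (Fin 4) F).transpose * Cfsg.suzukiForm F * g = Cfsg.suzukiForm F := by
  have ht : ∀ a b : F, (tM m a b : Matrix (Fin 4) (Fin 4) F).transpose * Cfsg.suzukiForm F *
      (tM m a b : Matrix (Fin 4) (Fin 4) F) = Cfsg.suzukiForm F := by
    intro a b
    show (tMat m a b).transpose * _ * tMat m a b = _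
    ext i j
    fin_cases i <;> fin_cases j <;>
      simp [tMat, Cfsg.suzukiForm, Matrix.mul_apply, Fin.sum_univ_four]
    all_goals try simp only [fv]
    all_goals ring_nf
    all_goals simp [two_eq_zero hF, show (4 : F) = 0 by linear_combination 2 * two_eq_zero hF]
  have hd : ∀ k : Fˣ, (dM m k : Matrix (Fin 4) (Fin 4) F).transpose * Cfsg.suzukiForm F *
      (dM m k : Matrix (Fin 4) (Fin 4) F) = Cfsg.suzukiForm F := by
    intro k
    ext i j
    fin_cases i <;> fin_cases j <;>
      simp [dM, Cfsg.suzukiForm, Matrix.mul_apply, Fin.sum_univ_four]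
  have hw : (wM F : Matrix (Fin 4) (Fin 4) F).transpose * Cfsg.suzukiForm F *
      (wM F : Matrix (Fin 4) (Fin 4) F) = Cfsg.suzukiForm F := by
    ext i j
    fin_cases i <;> fin_cases j <;>
      simp [wM, Cfsg.suzukiForm, Matrix.mul_apply, Fin.sum_univ_four]
  rcases decomp hF hm hg with ⟨a, b, k, rfl⟩ | ⟨a, b, c, d, k, rfl⟩
  · exact form_mul (ht a b) (hd k)
  · exact form_mul (form_mul (ht a b) hw) (form_mul (ht c d) (hd k))

theorem ovoid_independent (p : Fin 3 ↪ Cfsg.suzukiOvoid F m) :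
    Projectivization.Independent (fun i => (p i : Projectivization F (Fin 4 → F))) := by
  have hne : ∀ {i j : Fin 3}, i ≠ j → (p i : Projectivization F (Fin 4 → F)) ≠ p j :=
    fun hij h => hij (p.injective (Subtype.ext h))
  obtain ⟨g, hg, g0, g1⟩ := two_trans hF (p 0).2 (p 1).2 (hne (by decide))
  rcases mem_ovoid.1 (smul_mem hF hg (p 2).2) with h | ⟨x, y, g2⟩
  · exact absurd (smul_left_cancel g (g0.trans h.symm)) (hne (by decide))
  have hxy : x ≠ 0 ∨ y ≠ 0 := by
    by_contra hc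
    push Not at hc
    rw [hc.1, hc.2, ← g1] at g2
    exact hne (by decide : (2 : Fin 3) ≠ 1) (smul_left_cancel g g2)
  let v : Fin 3 → (Fin 4 → F) := ![![1, 0, 0, 0], ![0, 0, 0, 1], vPt m x y]
  let A : Matrix (Fin 4) (Fin 4) F := (g⁻¹ : Matrix.SpecialLinearGroup (Fin 4) F)
  have hv0 : ∀ i, v i ≠ 0 := by
    intro i
    fin_cases i
    · exact fun h => by simpa [v] using congrFun h 0
    · exact fun h => by simpa [v] using congrFun h 3
    · exact vPt_ne x y
  have hw : ∀ i, A *ᵥ v i ≠ 0 := fun i => mulVec_ne_zero g⁻¹ (hv0 i)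
  have hp : (fun i => (p i : Projectivization F (Fin 4 → F))) =
      fun i => Projectivization.mk F (A *ᵥ v i) (hw i) := by
    funext i
    rw [← inv_smul_smul g (p i : Projectivization F (Fin 4 → F))]
    fin_cases i
    · show g⁻¹ • g • (p 0 : Projectivization F (Fin 4 → F)) = _
      rw [g0]
      exact smul_mk g⁻¹ _ _
    · show g⁻¹ • g • (p 1 : Projectivization F (Fin 4 → F)) = _
      rw [g1, pt_zero]
      exact smul_mk g⁻¹ _ _
    · show g⁻¹ • g • (p 2 : Projectivization F (Fin 4 → F)) = _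
      rw [g2]
      exact smul_mk g⁻¹ _ _
  rw [hp]
  refine Projectivization.Independent.mk _ hw ?_
  rw [Fintype.linearIndependent_iff]
  intro c hc
  have hc' : ∑ i, c i • v i = 0 := by
    by_contra hne'
    refine mulVec_ne_zero g⁻¹ hne' ?_
    rw [Matrix.mulVec_sum]
    simp only [Matrix.mulVec_smul]
    exact hc
  have h0 := congrFun hc' 0
  have h1 := congrFun hc' 1
  have h2 := congrFun hc' 2
  have h3 := congrFun hc' 3
  simp [Fin.sum_univ_three, v, vPt] at h0 h1 h2 h3
  have hc2 : c 2 = 0 := by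
    rcases hxy with hx | hy
    · exact h2.resolve_right hx
    · exact h1.resolve_right hy
  rw [hc2] at h0 h3
  simp at h0 h3
  intro i
  fin_cases i
  · exact h0
  · exact h3
  · exact hc2

end Cfsg.Agent.Lie.Suzuki
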