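import Mathlib
import Cfsg.Prelude.Def_Classical
import Cfsg.Agent.Lib.Classical.UnitaryOrders
import Cfsg.Agent.Lib.Local.FS.SimplePSU3

/-!
Coordinates for the Sylow two-subgroup of `SU₃` in characteristic two: pairs `(x, z)` with
`z + σ z = x σ x`.
-/

set_option autoImplicit false

namespace Cfsg.Agent.Lie.UnitarySylow

open Matrix Cfsg.Agent.Classical

universe u

variable {F : Type u} [Field F]

/-- the coordinate group -/
@[ext] structure U (σ : F ≃+* F) : Type u where
  x : F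
  z : F
  rel : z + σ z = x * σ x

variable [Fintype F] [CharP F 2] {q : ℕ} {σ : F ≃+* F} (hσ : IsUSigma q σ)

/-- the group structure -/
@[reducible] noncomputable def uGroup : Group (U σ) where
  mul g h := ⟨g.x + h.x, g.z + h.z + σ g.x * h.x, by
    rw [map_add, map_add, map_add, map_mul, hσ.involutive]
    linear_combination g.rel + h.rel⟩
  one := ⟨0, 0, by simp⟩
  inv g := ⟨g.x, σ g.z, by rw [hσ.involutive, add_comm]; exact g.rel⟩
  mul_assoc a b c := by
    apply U.ext
    · show a.x + b.x + c.x = a.x + (b.x + c.x)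
      ring
    · show a.z + b.z + σ a.x * b.x + c.z + σ (a.x + b.x) * c.x = a.z + (b.z + c.z + σ b.x * c.x) + σ a.x * (b.x + c.x)
      rw [map_add]; ring
  one_mul a := by
    apply U.ext
    · show 0 + a.x = a.x
      ring
    · show 0 + a.z + σ 0 * a.x = a.z
      simp
  mul_one a := by
    apply U.ext
    · show a.x + 0 = a.x
      ring
    · show a.z + 0 + σ a.x * 0 = a.z
      simp
  inv_mul_cancel a := by
    apply U.ext
    · show a.x + a.x = 0
      exact CharTwo.add_self_eq_zero _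
    · show σ a.z + a.z + σ a.x * a.x = 0
      linear_combination a.rel + (a.x * σ a.x) * (CharTwo.two_eq_zero (R := F))

theorem mul_x (g h : U σ) : (letI := uGroup hσ; (g * h).x) = g.x + h.x := rfl

theorem mul_z (g h : U σ) : (letI := uGroup hσ; (g * h).z) = g.z + h.z + σ g.x * h.x := rfl

theorem one_x : (letI := uGroup hσ; (1 : U σ).x) = 0 := rfl

theorem one_z : (letI := uGroup hσ; (1 : U σ).z) = 0 := rfl

theorem sq_x (g : U σ) : (letI := uGroup hσ; (g * g).x) = 0 := CharTwo.add_self_eq_zero _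

theorem sq_z (g : U σ) : (letI := uGroup hσ; (g * g).z) = g.x * σ g.x := by
  rw [mul_z hσ, CharTwo.add_self_eq_zero, zero_add, mul_comm]

theorem sq_eq_one_iff (g : U σ) : (letI := uGroup hσ; g * g = 1) ↔ g.x = 0 := by
  letI := uGroup hσ
  constructor
  · intro h
    have := congrArg U.z h
    rw [sq_z hσ, one_z hσ, mul_eq_zero] at this
    rcases this with h0 | h0
    · exact h0
    · exact (map_eq_zero σ).1 h0
  · intro h
    exact U.ext (sq_x hσ g) (by rw [sq_z hσ, h, zero_mul, one_z hσ])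

/-- the subfield fixed by `σ` -/
def fixSet (σ : F ≃+* F) : Set F := {z | σ z = z}

include hσ in
theorem card_fix : Nat.card {z : F // σ z = z} = q ∧ ∀ t : F, σ t = t → Nat.card {z : F // z + σ z = t} = q := by
  classical
  let T : F →+ F := AddMonoidHom.id F + σ.toAddMonoidHom
  have hT : ∀ z, T z = z + σ z := fun z => rfl
  have hker : Nat.card T.ker = Nat.card {z : F // σ z = z} := Nat.card_congr (Equiv.subtypeEquivRight fun z => by
    rw [AddMonoidHom.mem_ker, hT, CharTwo.add_eq_zero]; exact eq_comm)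
  have hq := hσ.two_le
  have hle : Nat.card {z : F // σ z = z} ≤ q := by
    have hp : (Polynomial.X ^ q - Polynomial.X : Polynomial F) ≠ 0 := FiniteField.X_pow_card_sub_X_ne_zero F hq
    rw [Nat.card_eq_fintype_card, Fintype.card_subtype]
    calc (Finset.univ.filter fun z : F => σ z = z).card ≤ (Polynomial.X ^ q - Polynomial.X : Polynomial F).roots.toFinset.card := by
          refine Finset.card_le_card fun z hz => ?_
          rw [Finset.mem_filter] at hz
          rw [Multiset.mem_toFinset, Polynomial.mem_roots hp]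
          simp [Polynomial.IsRoot, ← hσ.apply_eq, hz.2]
      _ ≤ _ := Multiset.toFinset_card_le _
      _ ≤ (Polynomial.X ^ q - Polynomial.X : Polynomial F).natDegree := Polynomial.card_roots' _
      _ = q := FiniteField.X_pow_card_sub_X_natDegree_eq F hq
  have hprod : Nat.card T.range * Nat.card T.ker = q * q := by
    rw [← Nat.card_congr (QuotientAddGroup.quotientKerEquivRange T).toEquiv, ← AddSubgroup.card_eq_card_quotient_mul_card_addSubgroup,
      Nat.card_eq_fintype_card, hσ.card, pow_two]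
  have hsub : ∀ z ∈ T.range, σ z = z := by
    rintro _ ⟨z, rfl⟩
    rw [hT, map_add, hσ.involutive, add_comm]
  have hr : Nat.card T.range ≤ Nat.card {z : F // σ z = z} :=
    Nat.card_le_card_of_injective (fun z : T.range => (⟨z, hsub z z.2⟩ : {z : F // σ z = z}))
      fun a b h => Subtype.ext (congrArg (fun w : {z : F // σ z = z} => (w : F)) h)
  rw [hker] at hprod
  have h1 : Nat.card {z : F // σ z = z} = q := by
    rcases lt_or_eq_of_le hle with h | h
    · exfalso; nlinarith [hr, hprod, h]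
    · exact h
  refine ⟨h1, fun t ht => ?_⟩
  rw [h1] at hprod
  have h2 : Nat.card T.range = q := Nat.eq_of_mul_eq_mul_right (by omega) hprod
  have hbij : Function.Bijective (fun z : T.range => (⟨z, hsub z z.2⟩ : {z : F // σ z = z})) :=
    (Nat.bijective_iff_injective_and_card _).2 ⟨fun a b h => Subtype.ext (congrArg (fun w : {z : F // σ z = z} => (w : F)) h), by rw [h1, h2]⟩
  obtain ⟨⟨_, z₀, rfl⟩, hz⟩ := hbij.2 ⟨t, ht⟩
  have hz' : z₀ + σ z₀ = t := congrArg (fun w : {z : F // σ z = z} => (w : F)) hz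
  rw [← h1]
  refine Nat.card_congr ⟨fun z => ⟨z.1 + z₀, ?_⟩, fun z => ⟨z.1 + z₀, ?_⟩, fun z => ?_, fun z => ?_⟩
  · rw [map_add, ← CharTwo.add_eq_zero]
    linear_combination z.2 + hz' + t * (CharTwo.two_eq_zero (R := F))
  · rw [map_add, z.2]
    linear_combination hz' + z.1 * (CharTwo.two_eq_zero (R := F))
  · exact Subtype.ext (by show z.1 + z₀ + z₀ = z.1; rw [add_assoc, CharTwo.add_self_eq_zero, add_zero])
  · exact Subtype.ext (by show z.1 + z₀ + z₀ = z.1; rw [add_assoc, CharTwo.add_self_eq_zero, add_zero])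

include hσ in
theorem card_U : Nat.card (U σ) = q ^ 3 := by
  classical
  let e : U σ ≃ Σ x : F, {z : F // z + σ z = x * σ x} :=
    ⟨fun g => ⟨g.x, g.z, g.rel⟩, fun p => ⟨p.1, p.2.1, p.2.2⟩, fun g => rfl, fun p => rfl⟩
  rw [Nat.card_congr e, Nat.card_sigma, Finset.sum_congr rfl fun x _ => (card_fix hσ).2 _ (by rw [map_mul, hσ.involutive, mul_comm]),
    Finset.sum_const, Finset.card_univ, hσ.card, smul_eq_mul]
  ring

include hσ in
theorem finite_U : Finite (U σ) :=
  Nat.finite_of_card_ne_zero (by rw [card_U hσ]; exact pow_ne_zero _ (by have := hσ.two_le; omega))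

include hσ in
theorem exists_z (x : F) : ∃ g : U σ, g.x = x := by
  have h := (card_fix hσ).2 (x * σ x) (by rw [map_mul, hσ.involutive, mul_comm])
  have : Nonempty {z : F // z + σ z = x * σ x} := (Nat.card_pos_iff.1 (by rw [h]; have := hσ.two_le; omega)).1
  obtain ⟨z⟩ := this
  exact ⟨⟨x, z.1, z.2⟩, rfl⟩

/-- elements with `x = 0` -/
def central (z : F) (hz : σ z = z) : U σ := ⟨0, z, by rw [hz, CharTwo.add_self_eq_zero, zero_mul]⟩

omit [Fintype F] in
theorem z_fixed {g : U σ} (h : g.x = 0) : σ g.z = g.z := by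
  have := g.rel
  rw [h, zero_mul, CharTwo.add_eq_zero] at this
  exact this.symm

theorem mem_center_iff (g : U σ) : (letI := uGroup hσ; g ∈ Subgroup.center (U σ)) ↔ g.x = 0 := by
  letI := uGroup hσ
  rw [Subgroup.mem_center_iff]
  constructor
  · intro h
    by_contra hx
    obtain ⟨c, hc⟩ : ∃ c : F, σ c ≠ c := by
      by_contra hc
      push Not at hc
      exact hσ.ne_refl (RingEquiv.ext hc)
    have hx' : σ g.x ≠ 0 := fun h0 => hx ((map_eq_zero σ).1 h0)
    obtain ⟨k, hk⟩ := exists_z hσ (c * (σ g.x)⁻¹)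
    have h2 := congrArg U.z (h k)
    rw [mul_z hσ, mul_z hσ, hk, show σ g.x * (c * (σ g.x)⁻¹) = c by field_simp, map_mul, map_inv₀, hσ.involutive,
      show σ c * (g.x)⁻¹ * g.x = σ c by field_simp] at h2
    exact hc (by linear_combination h2)
  · intro h k
    refine U.ext ?_ ?_
    · rw [mul_x hσ, mul_x hσ, add_comm]
    · rw [mul_z hσ, mul_z hσ, h, map_zero, mul_zero, zero_mul]
      ring

theorem isPGroup : (letI := uGroup hσ; IsPGroup 2 (U σ)) := by
  letI := uGroup hσ
  intro g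
  refine ⟨2, ?_⟩
  rw [show (2 : ℕ) ^ 2 = 2 * 2 from rfl, pow_mul, pow_two, pow_two]
  exact (sq_eq_one_iff hσ _).2 (sq_x hσ g)

/-- the Gram antidiagonal -/
def K3 : Matrix (Fin 3) (Fin 3) F := !![0, 0, 1; 0, 1, 0; 1, 0, 0]

/-- unitriangular coordinates -/
def M3 (g : U σ) : Matrix (Fin 3) (Fin 3) F := !![1, σ g.x, g.z; 0, 1, g.x; 0, 0, 1]

theorem M3_mul (g h : U σ) : M3 (letI := uGroup hσ; g * h) = M3 g * M3 h := by
  unfold M3
  rw [mul_x hσ, mul_z hσ]
  ext i j
  fin_cases i <;> fin_cases j <;> simp [Matrix.mul_apply, Fin.sum_univ_three, map_add] <;> ring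

include hσ in
theorem M3_gram (g : U σ) : (M3 g)ᵀ * K3 * (M3 g).map σ = K3 := by
  have h2 : (2 : F) = 0 := CharTwo.two_eq_zero
  unfold M3 K3
  ext i j
  fin_cases i <;> fin_cases j <;> simp [Matrix.mul_apply, Fin.sum_univ_three, hσ.involutive] <;>
    first
      | ring1
      | linear_combination g.rel + (g.x * σ g.x) * h2
      | linear_combination g.x * h2
      | linear_combination σ g.x * h2

omit [Fintype F] [CharP F 2] in
theorem M3_det (g : U σ) : (M3 g).det = 1 := by
  unfold M3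
  simp [Matrix.det_fin_three]

/-- change of basis -/
def P3 (a : F) : Matrix (Fin 3) (Fin 3) F := !![1, 0, a; 1, 0, a + 1; 0, 1, 0]

/-- its inverse -/
def Q3 (a : F) : Matrix (Fin 3) (Fin 3) F := !![1 + a, a, 0; 0, 0, 1; 1, 1, 0]

theorem basis_facts {a : F} (ha : a + σ a = 1) :
    Q3 a * P3 a = 1 ∧ P3 a * Q3 a = 1 ∧ (P3 a)ᵀ * (P3 a).map σ = K3 ∧ (Q3 a)ᵀ * K3 * (Q3 a).map σ = 1 := by
  have h2 : (2 : F) = 0 := CharTwo.two_eq_zero
  have hsa : σ a = a + 1 := by linear_combination ha - a * h2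
  unfold P3 Q3 K3
  refine ⟨?_, ?_, ?_, ?_⟩ <;>
  · ext i j
    fin_cases i <;> fin_cases j <;> simp [Matrix.mul_apply, Fin.sum_univ_three, hsa] <;>
      first
        | ring1
        | linear_combination h2
        | linear_combination a * h2
        | linear_combination (a + 1) * h2
        | linear_combination (a * a + a) * h2
        | linear_combination (a * a + 2 * a + 1) * h2
        | linear_combination (a * a + a + 1) * h2
        | linear_combination -h2
        | linear_combination (2 * a + 1) * h2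
        | linear_combination (a * a) * h2

theorem exists_embedding : ∃ E : (letI := uGroup hσ; U σ →* ↥(Cfsg.SU 3 F q)), Function.Injective E := by
  letI := uGroup hσ
  obtain ⟨a, ha⟩ : ∃ a : F, a + σ a = 1 := by
    have h := (card_fix hσ).2 1 (map_one σ)
    obtain ⟨⟨a, ha⟩⟩ := (Nat.card_pos_iff.1 (by rw [h]; have := hσ.two_le; omega : 0 < Nat.card {z : F // z + σ z = 1})).1
    exact ⟨a, ha⟩
  obtain ⟨hQP, hPQ, hP, hQ⟩ := basis_facts ha
  have hmem : ∀ g : U σ, ∃ x : ↥(Cfsg.SU 3 F q), x.1.1 = P3 a * M3 g * Q3 a := fun g => by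
    refine Cfsg.Agent.Local.FS.PSU3Simple.exists_SU_of_gram hσ _ ?_ ?_
    · rw [Matrix.det_mul, Matrix.det_mul, M3_det, mul_one, ← Matrix.det_mul, hPQ, Matrix.det_one]
    · have hmap : (P3 a * M3 g * Q3 a).map σ = (P3 a).map σ * (M3 g).map σ * (Q3 a).map σ := by
        rw [Matrix.map_mul, Matrix.map_mul]
      rw [hmap, Matrix.transpose_mul, Matrix.transpose_mul]
      calc (Q3 a)ᵀ * ((M3 g)ᵀ * (P3 a)ᵀ) * ((P3 a).map σ * (M3 g).map σ * (Q3 a).map σ)
          = (Q3 a)ᵀ * ((M3 g)ᵀ * ((P3 a)ᵀ * (P3 a).map σ) * (M3 g).map σ) * (Q3 a).map σ := by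
            simp only [Matrix.mul_assoc]
        _ = 1 := by rw [hP, M3_gram hσ, hQ]
  choose E hE using hmem
  refine ⟨MonoidHom.mk' E fun g h => ?_, fun g h hgh => ?_⟩
  · refine Cfsg.Agent.Local.FS.PSU3Simple.ext_val ?_
    rw [hE, Cfsg.Agent.Local.FS.PSU3Simple.val_mul, hE, hE, M3_mul hσ]
    calc P3 a * (M3 g * M3 h) * Q3 a = P3 a * M3 g * (Q3 a * P3 a) * (M3 h * Q3 a) := by
          rw [hQP, Matrix.mul_one]; simp only [Matrix.mul_assoc]
      _ = P3 a * M3 g * Q3 a * (P3 a * M3 h * Q3 a) := by simp only [Matrix.mul_assoc]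
  · have h1 : E g = E h := hgh
    have h2 := congrArg (fun x : ↥(Cfsg.SU 3 F q) => Q3 a * x.1.1 * P3 a) h1
    simp only [hE] at h2
    rw [show Q3 a * (P3 a * M3 g * Q3 a) * P3 a = (Q3 a * P3 a) * M3 g * (Q3 a * P3 a) by simp only [Matrix.mul_assoc],
      show Q3 a * (P3 a * M3 h * Q3 a) * P3 a = (Q3 a * P3 a) * M3 h * (Q3 a * P3 a) by simp only [Matrix.mul_assoc],
      hQP, Matrix.one_mul, Matrix.mul_one, Matrix.one_mul, Matrix.mul_one] at h2
    exact U.ext (by simpa [M3] using congrFun (congrFun h2 1) 2) (by simpa [M3] using congrFun (congrFun h2 0) 2)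

omit hσ in
theorem sigma_props {n : ℕ} (hn : 1 ≤ n) (hF : Fintype.card F = (2 ^ n) ^ 2) :
    ∃ τ : F ≃+* F, IsUSigma (2 ^ n) τ := by
  obtain ⟨p, e, τ, -, -, -, -, hτ⟩ := exists_usigma hF
  exact ⟨τ, hτ⟩

include hσ in
theorem sylow_SU {n : ℕ} (hn : 1 ≤ n) (hq : q = 2 ^ n) (S : Sylow 2 ↥(Cfsg.SU 3 F q)) :
    Nonempty (letI := uGroup hσ; U σ ≃* ↥(S : Subgroup ↥(Cfsg.SU 3 F q))) := by
  classical
  letI := uGroup hσ
  haveI : Fact (Nat.Prime 2) := ⟨Nat.prime_two⟩
  obtain ⟨E, hE⟩ := exists_embedding hσ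
  have hU : IsPGroup 2 E.range := (isPGroup hσ).of_surjective E.rangeRestrict E.rangeRestrict_surjective
  have hcard : Nat.card E.range = q ^ 3 := by
    rw [← Nat.card_congr (MonoidHom.ofInjective hE).toEquiv, card_U hσ]
  have hodd : ¬ 2 ∣ E.range.index := by
    intro hd
    have h1 := E.range.card_mul_index
    have h2 := Cfsg.Agent.Local.FS.PSU3Simple.card_SU3 hσ
    rw [← h1, hcard, show (q + 1) * (q ^ 3 * E.range.index) = q ^ 3 * ((q + 1) * E.range.index) by ring] at h2
    have hq2 := hσ.two_le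
    have h3 := Nat.eq_of_mul_eq_mul_left (by omega : 0 < q + 1)
      (Nat.eq_of_mul_eq_mul_left (pow_pos (by omega) 3) h2)
    have hqe : 2 ∣ q := hq ▸ dvd_pow_self 2 (by omega)
    rw [h3] at hd
    rcases (Nat.prime_two.dvd_mul).1 hd with h | h
    · have h4 : 2 ∣ q ^ 2 := dvd_pow hqe two_ne_zero
      have : 1 ≤ q ^ 2 := Nat.one_le_pow _ _ (by omega)
      omega
    · have h4 : 2 ∣ q ^ 3 := dvd_pow hqe (by norm_num)
      omega
  exact ⟨(MonoidHom.ofInjective hE).trans (Sylow.equiv (hU.toSylow hodd) S)⟩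

include hσ in
theorem sylow_PSU {n : ℕ} (hn : 1 ≤ n) (hq : q = 2 ^ n) (S : Sylow 2 (Cfsg.PSU 3 F q)) :
    Nonempty (letI := uGroup hσ; U σ ≃* ↥(S : Subgroup (Cfsg.PSU 3 F q))) := by
  classical
  letI := uGroup hσ
  haveI : Fact (Nat.Prime 2) := ⟨Nat.prime_two⟩
  obtain ⟨E, hE⟩ := exists_embedding hσ
  obtain ⟨T⟩ := (inferInstance : Nonempty (Sylow 2 ↥(Cfsg.SU 3 F q)))
  obtain ⟨e⟩ := sylow_SU hσ hn hq T
  let π : ↥(Cfsg.SU 3 F q) →* Cfsg.PSU 3 F q := QuotientGroup.mk' (Subgroup.center ↥(Cfsg.SU 3 F q))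
  have hπ : Function.Surjective π := QuotientGroup.mk'_surjective _
  have hinj : Function.Injective (π.comp ((T : Subgroup ↥(Cfsg.SU 3 F q)).subtype.comp e.toMonoidHom)) := by
    rw [← MonoidHom.ker_eq_bot_iff]
    refine (Subgroup.eq_bot_iff_forall _).2 fun g hg => ?_
    rw [MonoidHom.mem_ker] at hg
    have hc : ((e g : ↥(T : Subgroup ↥(Cfsg.SU 3 F q))) : ↥(Cfsg.SU 3 F q)) ∈ Subgroup.center ↥(Cfsg.SU 3 F q) :=
      (QuotientGroup.eq_one_iff _).1 hg
    have h1 := Subgroup.orderOf_dvd_natCard _ hc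
    rw [UCount.card_center_SU hσ (by norm_num), Subgroup.orderOf_coe] at h1
    obtain ⟨k, hk⟩ := T.isPGroup' (e g)
    have h3 : Nat.Coprime (Nat.gcd 3 (q + 1)) (2 ^ k) :=
      (Nat.Coprime.coprime_dvd_left (Nat.gcd_dvd_left 3 (q + 1)) (by norm_num : Nat.Coprime 3 2)).pow_right k
    exact e.injective (by rw [map_one]; exact orderOf_eq_one_iff.1 (Nat.eq_one_of_dvd_coprimes h3 h1 (orderOf_dvd_of_pow_eq_one hk)))
  have hr : (π.comp ((T : Subgroup ↥(Cfsg.SU 3 F q)).subtype.comp e.toMonoidHom)).range =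
      ((Sylow.mapSurjective hπ T : Sylow 2 (Cfsg.PSU 3 F q)) : Subgroup (Cfsg.PSU 3 F q)) := by
    rw [Sylow.coe_mapSurjective, MonoidHom.range_comp, MonoidHom.range_comp,
      MonoidHom.range_eq_top.2 e.surjective, ← MonoidHom.range_eq_map, Subgroup.range_subtype]
  exact ⟨(MonoidHom.ofInjective hinj).trans ((MulEquiv.subgroupCongr hr).trans (Sylow.equiv (Sylow.mapSurjective hπ T) S))⟩

end Cfsg.Agent.Lie.UnitarySylow
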