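import Mathlib
import Cfsg.Prelude.Def_LieRecognition

/-!
The rank-one set-up: a doubly transitive group with a normal regular subgroup of even order in a point
stabiliser and a two-point stabiliser of odd order.
-/

set_option autoImplicit false

namespace Cfsg.Agent.Lie

open Cfsg MulAction

section Elementary

variable {G : Type*} [Group G] [Finite G]

omit [Finite G] in
theorem sqrt_unique {X : Subgroup G} (hodd : Odd (Nat.card X)) {x y : G} (hx : x ∈ X) (hy : y ∈ X)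
    (h : x * x = y * y) : x = y := by
  have hc : (Nat.card X).Coprime 2 := hodd.coprime_two_right
  have h' := (powCoprime hc).injective (a₁ := ⟨x, hx⟩) (a₂ := ⟨y, hy⟩) (Subtype.ext (by
    show ((⟨x, hx⟩ : X) ^ 2 : X).val = ((⟨y, hy⟩ : X) ^ 2 : X).val
    simp [pow_two, h]))
  exact congrArg Subtype.val h'

theorem exists_sqrt {X : Subgroup G} (hodd : Odd (Nat.card X)) {w : G} (hw : w ∈ X) :
    ∃ k : ℕ, w ^ k * w ^ k = w ∧ w ^ k ∈ X := by
  obtain ⟨c, hc⟩ := Odd.of_dvd_nat hodd (Subgroup.orderOf_dvd_natCard X hw)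
  refine ⟨c + 1, ?_, pow_mem hw _⟩
  rw [← pow_add, show c + 1 + (c + 1) = orderOf w + 1 by omega, pow_succ, pow_orderOf_eq_one, one_mul]

variable {t : G} {X : Subgroup G}

/-- x = y z with y centralised and z inverted. -/
theorem exists_decomp (ht : t * t = 1) (hnorm : ∀ x ∈ X, t * x * t ∈ X) (hodd : Odd (Nat.card X)) {x : G}
    (hx : x ∈ X) : ∃ z ∈ X, t * z * t = z⁻¹ ∧ t * (x * z⁻¹) * t = x * z⁻¹ := by
  have htc : ∀ y : G, t * (t * y) = y := fun y => by rw [← mul_assoc, ht, one_mul]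
  set w := (t * x * t)⁻¹ * x with hw
  have hwX : w ∈ X := mul_mem (inv_mem (hnorm x hx)) hx
  obtain ⟨k, hk, hkX⟩ := exists_sqrt hodd hwX
  have hti : t⁻¹ = t := inv_eq_of_mul_eq_one_left ht
  have hwi : t * w * t = w⁻¹ := by
    simp only [hw, _root_.mul_inv_rev, inv_inv, hti, mul_assoc, htc, ht, mul_one]
  have hzi : t * w ^ k * t = (w ^ k)⁻¹ := by
    have := map_pow (MulAut.conj t) w k
    simp only [MulAut.conj_apply, hti, hwi] at this
    rw [this, inv_pow]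
  refine ⟨w ^ k, hkX, hzi, ?_⟩
  have h1 : t * x * t = x * w⁻¹ := by rw [hw]; group
  calc t * (x * (w ^ k)⁻¹) * t = (t * x * t) * (t * (w ^ k)⁻¹ * t) := by simp [mul_assoc, htc]
    _ = x * w⁻¹ * w ^ k := by
        rw [h1]
        congr 1
        rw [← hzi]
        simp [mul_assoc, htc, ht]
    _ = x * (w ^ k)⁻¹ := by
        rw [mul_assoc]
        congr 1
        rw [inv_mul_eq_iff_eq_mul, eq_mul_inv_iff_mul_eq, hk]

omit [Finite G] in
theorem decomp_unique (ht : t * t = 1) (hodd : Odd (Nat.card X)) {y z y' z' : G} (hz : z ∈ X) (hz' : z' ∈ X)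
    (hy : t * y * t = y) (hy' : t * y' * t = y') (hzi : t * z * t = z⁻¹) (hzi' : t * z' * t = z'⁻¹)
    (h : y * z = y' * z') : y = y' ∧ z = z' := by
  have htc : ∀ y : G, t * (t * y) = y := fun y => by rw [← mul_assoc, ht, one_mul]
  have h1 := congrArg (fun x => (t * x * t)⁻¹ * x) h
  simp only [show ∀ a b : G, t * (a * b) * t = (t * a * t) * (t * b * t) from fun a b => by simp [mul_assoc, htc],
    hy, hy', hzi, hzi', _root_.mul_inv_rev, inv_inv, mul_assoc, inv_mul_cancel_left] at h1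
  have h2 := sqrt_unique hodd hz hz' h1
  subst h2
  exact ⟨mul_right_cancel h, rfl⟩

end Elementary

variable {G Ω : Type*} [Group G] [MulAction G Ω] {a : Ω} {t : G} {Q : Subgroup G}

namespace R1

/-- The two-point stabiliser. -/
abbrev D (G : Type*) {Ω : Type*} [Group G] [MulAction G Ω] (a : Ω) (t : G) : Subgroup G :=
  stabilizer G a ⊓ stabilizer G (t • a)

variable (hS : IsRankOneSetup G Ω a t Q)

include hS

theorem t_inv : t⁻¹ = t := inv_eq_of_mul_eq_one_left hS.mul_self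

theorem tt (y : G) : t * (t * y) = y := by rw [← mul_assoc, hS.mul_self, one_mul]

theorem tta : t • (t • a) = a := by rw [smul_smul, hS.mul_self, one_smul]

theorem ta_ne : t • a ≠ a := hS.not_mem

theorem tDt {d : G} (hd : d ∈ D G a t) : t * d * t ∈ D G a t := by
  obtain ⟨h1, h2⟩ := Subgroup.mem_inf.1 hd
  rw [mem_stabilizer_iff] at h1 h2
  constructor
  · show (t * d * t) • a = a
    rw [mul_smul, mul_smul, h2, tta hS]
  · show (t * d * t) • (t • a) = t • a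
    rw [mul_smul, mul_smul, tta hS, h1]

theorem two_trans {b c b' c' : Ω} (h : b ≠ c) (h' : b' ≠ c') : ∃ g : G, g • b = b' ∧ g • c = c' :=
  (MulAction.is_two_pretransitive_iff (G := G) (α := Ω)).1 hS.two_transitive h h'

theorem fix_a {q : G} (hq : q ∈ Q) : q • a = a := hS.le hq

theorem Q_D_bot {q : G} (hq : q ∈ Q) (hq' : q • (t • a) = t • a) : q = 1 := by
  have : q ∈ Q ⊓ stabilizer G (t • a) := ⟨hq, hq'⟩
  rw [hS.inf_eq_bot] at this
  exact this

theorem mem_sup {g : G} (hg : g • a = a) : ∃ q ∈ Q, ∃ d ∈ D G a t, g = q * d := by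
  have hg' : g ∈ Q ⊔ D G a t := by rw [hS.sup_eq]; exact hg
  have hn : ∀ d ∈ D G a t, ∀ q ∈ Q, d * q * d⁻¹ ∈ Q := fun d hd q hq => hS.conj_mem d (Subgroup.mem_inf.1 hd).1 q hq
  let K : Subgroup G :=
    { carrier := {g | ∃ q ∈ Q, ∃ d ∈ D G a t, g = q * d}
      one_mem' := ⟨1, one_mem _, 1, one_mem _, (one_mul 1).symm⟩
      mul_mem' := by
        rintro x y ⟨q, hq, d, hd, rfl⟩ ⟨q', hq', d', hd', rfl⟩
        exact ⟨q * (d * q' * d⁻¹), mul_mem hq (hn d hd q' hq'), d * d', mul_mem hd hd', by group⟩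
      inv_mem' := by
        rintro x ⟨q, hq, d, hd, rfl⟩
        exact ⟨d⁻¹ * q⁻¹ * d⁻¹⁻¹, hn _ (inv_mem hd) _ (inv_mem hq), d⁻¹, inv_mem hd, by group⟩ }
  have : Q ⊔ D G a t ≤ K := sup_le (fun q hq => ⟨q, hq, 1, one_mem _, (mul_one q).symm⟩)
    fun d hd => ⟨1, one_mem _, d, hd, (one_mul d).symm⟩
  exact this hg'

theorem exists_q {b : Ω} (hb : b ≠ a) : ∃ q ∈ Q, q • (t • a) = b := by
  obtain ⟨g, hg1, hg2⟩ := two_trans hS (ta_ne hS).symm hb.symm
  obtain ⟨q, hq, d, hd, rfl⟩ := mem_sup hS hg1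
  exact ⟨q, hq, by rw [← hg2, mul_smul, show d • (t • a) = t • a from (Subgroup.mem_inf.1 hd).2]⟩

theorem q_unique {q q' : G} (hq : q ∈ Q) (hq' : q' ∈ Q) (h : q • (t • a) = q' • (t • a)) : q = q' := by
  have h1 := Q_D_bot hS (mul_mem (inv_mem hq') hq) (by rw [mul_smul, h, inv_smul_smul])
  exact (inv_mul_eq_one.1 h1).symm

/-- A non-trivial element of Q fixes only a. -/
theorem q_free {q : G} (hq : q ∈ Q) {b : Ω} (hb : b ≠ a) (h : q • b = b) : q = 1 := by
  obtain ⟨r, hr, rfl⟩ := exists_q hS hb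
  have := q_unique hS (mul_mem hq hr) hr (by rw [mul_smul, h])
  exact mul_eq_right.1 this

theorem regular (b c : Ω) (hb : b ≠ a) (hc : c ≠ a) : ∃! x : Q, (x : G) • b = c := by
  obtain ⟨q, hq, rfl⟩ := exists_q hS hb
  obtain ⟨r, hr, rfl⟩ := exists_q hS hc
  refine ⟨⟨r * q⁻¹, mul_mem hr (inv_mem hq)⟩, by simp [mul_smul], fun x hx => Subtype.ext ?_⟩
  have := q_unique hS (mul_mem x.2 hq) hr (by rw [mul_smul]; exact hx)
  show (x : G) = r * q⁻¹
  rw [← this]; group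

theorem conj_Q {g q : G} (hg : g • a = a) (hq : q ∈ Q) : g * q * g⁻¹ ∈ Q := hS.conj_mem g hg q hq

theorem D_unique {q d q' d' : G} (hq : q ∈ Q) (hd : d ∈ D G a t) (hq' : q' ∈ Q) (hd' : d' ∈ D G a t)
    (h : q * d = q' * d') : q = q' ∧ d = d' := by
  have h1 : q⁻¹ * q' = d * d'⁻¹ := by rw [inv_mul_eq_iff_eq_mul, ← mul_assoc, h, mul_inv_cancel_right]
  have h2 := Q_D_bot hS (mul_mem (inv_mem hq) hq')
    (h1 ▸ (Subgroup.mem_inf.1 (mul_mem hd (inv_mem hd'))).2)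
  have h3 := inv_mul_eq_one.1 h2
  subst h3
  exact ⟨rfl, mul_left_cancel h⟩

theorem canonical (g : G) (hg : g • a ≠ a) :
    ∃! p : G × G, p.1 ∈ stabilizer G a ∧ p.2 ∈ Q ∧ g = p.1 * t * p.2 := by
  have hb : g⁻¹ • a ≠ a := fun h => hg (by rw [inv_smul_eq_iff] at h; exact h.symm)
  obtain ⟨q, hq, hqe⟩ := exists_q hS hb
  refine ⟨(g * q * t, q⁻¹), ⟨?_, inv_mem hq, ?_⟩, ?_⟩
  · show (g * q * t) • a = a
    rw [mul_smul, mul_smul, hqe, smul_inv_smul]
  · show g = g * q * t * t * q⁻¹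
    rw [mul_assoc (g * q), hS.mul_self]; group
  · rintro ⟨x, y⟩ ⟨hx, hy, rfl⟩
    have : y⁻¹ = q := by
      refine q_unique hS (inv_mem hy) hq ?_
      rw [hqe]
      simp only [_root_.mul_inv_rev, mul_smul, t_inv hS, show x⁻¹ • a = a from inv_smul_eq_iff.2 hx.symm]
    subst this
    simp [mul_assoc, hS.mul_self]

theorem form_unique {g h f g' h' f' : G} (hg : g ∈ Q) (hh : h ∈ D G a t) (hf : f ∈ Q) (hg' : g' ∈ Q)
    (hh' : h' ∈ D G a t) (hf' : f' ∈ Q) (e : g * h * t * f = g' * h' * t * f') :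
    g = g' ∧ h = h' ∧ f = f' := by
  have hne : (g * h * t * f) • a ≠ a := by
    rw [mul_smul, fix_a hS hf, mul_smul, mul_smul, show h • (t • a) = t • a from (Subgroup.mem_inf.1 hh).2]
    exact fun hq => ta_ne hS (by rwa [← eq_inv_smul_iff, show g⁻¹ • a = a from fix_a hS (inv_mem hg)] at hq)
  obtain ⟨p, -, hp⟩ := canonical hS _ hne
  have e1 := hp (g * h, f) ⟨mul_mem (hS.le hg) (Subgroup.mem_inf.1 hh).1, hf, rfl⟩
  have e2 := hp (g' * h', f') ⟨mul_mem (hS.le hg') (Subgroup.mem_inf.1 hh').1, hf', e⟩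
  obtain ⟨h1, h2⟩ := D_unique hS hg hh hg' hh' (congrArg Prod.fst (e1.trans e2.symm))
  exact ⟨h1, h2, congrArg Prod.snd (e1.trans e2.symm)⟩

theorem Q_inv_ne {x : G} (hx : x ∈ Q) (hx1 : x ≠ 1) : (t * x * t) • a ≠ a := fun h => hx1 (by
  refine Q_D_bot hS hx ?_
  rw [mul_smul, mul_smul, ← eq_inv_smul_iff, t_inv hS] at h
  exact h)

section Fin

variable [Finite G]

theorem finite_Ω : Finite Ω := by
  haveI := hS.two_transitive
  haveI : MulAction.IsPretransitive G Ω := MulAction.isPretransitive_of_is_two_pretransitive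
  exact Finite.of_surjective (fun g : G => g • a) fun b => MulAction.exists_smul_eq G a b

theorem card_Ω : Nat.card Ω = Nat.card Q + 1 := by
  haveI := finite_Ω hS
  classical
  haveI := Fintype.ofFinite Ω
  have e : Nat.card Q = Nat.card {b : Ω // b ≠ a} :=
    Nat.card_eq_of_bijective (fun x : Q => (⟨(x : G) • (t • a), fun h => ta_ne hS (by
        rwa [← eq_inv_smul_iff, show (x : G)⁻¹ • a = a from fix_a hS (inv_mem x.2)] at h)⟩ : {b : Ω // b ≠ a}))
      ⟨fun x y h => Subtype.ext (q_unique hS x.2 y.2 (congrArg Subtype.val h)),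
        fun b => by obtain ⟨q, hq, hqe⟩ := exists_q hS b.2; exact ⟨⟨q, hq⟩, Subtype.ext hqe⟩⟩
  have h0 : 0 < Fintype.card Ω := Fintype.card_pos_iff.2 ⟨a⟩
  rw [e, Nat.card_eq_fintype_card, Nat.card_eq_fintype_card, Fintype.card_subtype_compl, Fintype.card_subtype_eq]
  omega

theorem card_stab : Nat.card (stabilizer G a) = Nat.card Q * Nat.card (D G a t) := by
  rw [← Nat.card_prod]
  refine (Nat.card_eq_of_bijective (fun p : Q × D G a t =>
    (⟨p.1.1 * p.2.1, mul_mem (hS.le p.1.2) (Subgroup.mem_inf.1 p.2.2).1⟩ : stabilizer G a)) ⟨?_, ?_⟩).symm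
  · rintro ⟨q, d⟩ ⟨q', d'⟩ h
    obtain ⟨h1, h2⟩ := D_unique hS q.2 d.2 q'.2 d'.2 (congrArg Subtype.val h)
    exact Prod.ext (Subtype.ext h1) (Subtype.ext h2)
  · rintro ⟨g, hg⟩
    obtain ⟨q, hq, d, hd, rfl⟩ := mem_sup hS hg
    exact ⟨(⟨q, hq⟩, ⟨d, hd⟩), rfl⟩

theorem card_G : Nat.card G = Nat.card Q * Nat.card (D G a t) * (Nat.card Q + 1) := by
  haveI := hS.two_transitive
  haveI : MulAction.IsPretransitive G Ω := MulAction.isPretransitive_of_is_two_pretransitive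
  rw [← card_Ω hS, ← card_stab hS, ← MulAction.index_stabilizer_of_transitive G a, Subgroup.card_mul_index]

theorem sylow_le : ∃ P : Sylow 2 G, (P : Subgroup G) ≤ Q := by
  haveI : Fact (Nat.Prime 2) := ⟨Nat.prime_two⟩
  obtain ⟨S⟩ := (inferInstance : Nonempty (Sylow 2 Q))
  have hidx : ¬ 2 ∣ ((S : Subgroup Q).map Q.subtype).index := by
    rw [Subgroup.index_map_subtype]
    intro hd
    rcases (Nat.Prime.dvd_mul Nat.prime_two).1 hd with h | h
    · exact S.not_dvd_index h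
    · have h2 := Subgroup.card_mul_index Q
      rw [card_G hS, mul_assoc, Nat.mul_left_cancel_iff Nat.card_pos] at h2
      rw [h2] at h
      have : Odd (Nat.card (D G a t) * (Nat.card Q + 1)) := hS.odd_card.mul hS.even_card.add_one
      exact (Nat.not_even_iff_odd.2 this) (even_iff_two_dvd.2 h)
  exact ⟨(S.2.map Q.subtype).toSylow hidx, Subgroup.map_subtype_le _⟩

theorem exists_inv : ∃ s ∈ Q, s ≠ 1 ∧ s * s = 1 := by
  haveI : Fact (Nat.Prime 2) := ⟨Nat.prime_two⟩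
  obtain ⟨x, hx⟩ := exists_prime_orderOf_dvd_card' (G := Q) 2 (even_iff_two_dvd.1 hS.even_card)
  refine ⟨x.1, x.2, fun h => ?_, ?_⟩
  · rw [show x = 1 from Subtype.ext h, orderOf_one] at hx; omega
  · have := pow_orderOf_eq_one x
    rw [hx, pow_two] at this
    exact congrArg Subtype.val this

theorem inv_mem_Q {s : G} (hs : s • a = a) (hs2 : s * s = 1) : s ∈ Q := by
  obtain ⟨q, hq, d, hd, rfl⟩ := mem_sup hS hs
  have h : (q * (d * q * d⁻¹)) * (d * d) = 1 * 1 := by rw [one_mul, ← hs2]; group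
  obtain ⟨-, h2⟩ := D_unique hS (mul_mem hq (conj_Q hS (Subgroup.mem_inf.1 hd).1 hq)) (mul_mem hd hd)
    (one_mem _) (one_mem _) h
  rw [sqrt_unique hS.odd_card hd (one_mem _) (by rw [h2, one_mul]), mul_one]
  exact hq

omit [Finite G] in
theorem inv_fix {s : G} (hsQ : s ∈ Q) (hs1 : s ≠ 1) {b : Ω} (h : s • b = b) : b = a :=
  by_contra fun hb => hs1 (q_free hS hsQ hb h)

theorem comm_inv_fix {s w : G} (hs : s • a = a) (hs1 : s ≠ 1) (hs2 : s * s = 1) (h : Commute w s) : w • a = a :=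
  inv_fix hS (inv_mem_Q hS hs hs2) hs1 (by rw [smul_smul, ← h.eq, mul_smul, hs])

theorem odd_order {s u : G} (hs : s • a = a) (hs1 : s ≠ 1) (hs2 : s * s = 1) (hu : u • a ≠ a) (hu2 : u * u = 1) :
    Odd (orderOf (s * u)) := by
  by_contra hodd
  obtain ⟨k, hk⟩ := Nat.not_odd_iff_even.1 hodd
  have hpos : 0 < orderOf (s * u) := orderOf_pos _
  set w := (s * u) ^ k with hw
  have hw2 : w * w = 1 := by rw [hw, ← pow_add, ← hk, pow_orderOf_eq_one]
  have hw1 : w ≠ 1 := pow_ne_one_of_lt_orderOf (by omega) (by omega)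
  have hwi : w⁻¹ = w := inv_eq_of_mul_eq_one_left hw2
  have hws : Commute w s := by
    have h1 : s * (s * u) * s⁻¹ = (s * u)⁻¹ := by
      rw [_root_.mul_inv_rev, inv_eq_of_mul_eq_one_left hs2, inv_eq_of_mul_eq_one_left hu2, ← mul_assoc, hs2, one_mul]
    have h2 : s * w * s⁻¹ = w := by rw [hw, ← conj_pow, h1, inv_pow, ← hw, hwi]
    exact (mul_inv_eq_iff_eq_mul.1 h2).symm
  have hwu : Commute w u := by
    have h3 : Commute w (s * u) := Commute.pow_self _ _
    have h4 : u = s * (s * u) := by rw [← mul_assoc, hs2, one_mul]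
    rw [h4]
    exact hws.mul_right h3
  exact hu (comm_inv_fix hS (comm_inv_fix hS hs hs1 hs2 hws) hw1 hw2 hwu.symm)

theorem conj_outside {s u : G} (hs : s • a = a) (hs1 : s ≠ 1) (hs2 : s * s = 1) (hu : u • a ≠ a) (hu2 : u * u = 1) :
    IsConj s u := by
  obtain ⟨c, hc⟩ := odd_order hS hs hs1 hs2 hu hu2
  have hd : s * (s * u) * s = (s * u)⁻¹ := by
    rw [_root_.mul_inv_rev, inv_eq_of_mul_eq_one_left hs2, inv_eq_of_mul_eq_one_left hu2, ← mul_assoc, hs2, one_mul]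
  have hg : s * (s * u) ^ c * s = ((s * u) ^ c)⁻¹ := by
    have := map_pow (MulAut.conj s) (s * u) c
    simp only [MulAut.conj_apply, inv_eq_of_mul_eq_one_left hs2, hd] at this
    rw [this, inv_pow]
  have h1 : (s * u) ^ (c + c + 1) = 1 := by rw [show c + c + 1 = orderOf (s * u) by omega, pow_orderOf_eq_one]
  rw [isConj_iff]
  refine ⟨(s * u) ^ c, ?_⟩
  rw [← hg]
  have e : (s * u) ^ c * s * (s * (s * u) ^ c * s) = (s * u) ^ (c + c) * s := by
    rw [pow_add, show (s * u) ^ c * s * (s * (s * u) ^ c * s) = (s * u) ^ c * (s * s) * (s * u) ^ c * s by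
      group, hs2, mul_one]
  rw [e, ← mul_left_cancel_iff (a := s * u), ← mul_assoc, ← pow_succ', h1, one_mul, mul_assoc, hu2, mul_one]

theorem conj_all {u v : G} (hu1 : u ≠ 1) (hu2 : u * u = 1) (hv1 : v ≠ 1) (hv2 : v * v = 1) : IsConj u v := by
  obtain ⟨s, hsQ, hs1, hs2⟩ := exists_inv hS
  have key : ∀ u : G, u ≠ 1 → u * u = 1 → IsConj s u := fun u hu1 hu2 => by
    by_cases h : u • a = a
    · exact (conj_outside hS (fix_a hS hsQ) hs1 hs2 (ta_ne hS) hS.mul_self).trans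
        (conj_outside hS h hu1 hu2 (ta_ne hS) hS.mul_self).symm
    · exact conj_outside hS (fix_a hS hsQ) hs1 hs2 h hu2
  exact (key u hu1 hu2).symm.trans (key v hv1 hv2)

/-- An involution fixes exactly one point. -/
theorem inv_one_fix {u : G} (hu1 : u ≠ 1) (hu2 : u * u = 1) : ∃! c : Ω, u • c = c := by
  obtain ⟨s, hsQ, hs1, hs2⟩ := exists_inv hS
  obtain ⟨g, rfl⟩ := isConj_iff.1 (conj_all hS hs1 hs2 hu1 hu2)
  refine ⟨g • a, by simp [mul_smul, fix_a hS hsQ], fun b hb => ?_⟩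
  have := inv_fix hS hsQ hs1 (b := g⁻¹ • b) (by
    have h := congrArg (fun x => g⁻¹ • x) hb
    simpa [mul_smul] using h)
  rw [← this, smul_inv_smul]

omit [Finite G] in
/-- The Q-part bringing u • a to t • a. -/
theorem exists_r {u : G} (hu : u • a ≠ a) : ∃ r ∈ Q, r • (u • a) = t • a := by
  obtain ⟨q, hq, hqe⟩ := exists_q hS hu
  exact ⟨q⁻¹, inv_mem hq, by rw [← hqe, inv_smul_smul]⟩

theorem ne_a_of_ta {u : G} (hu : u • (t • a) = t • a) (hu1 : u ≠ 1) (hu2 : u * u = 1) : u • a ≠ a := fun h =>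
  ta_ne hS (inv_fix hS (inv_mem_Q hS h hu2) hu1 hu)

/-- Involutions fixing t • a correspond to the involutions interchanging a and t • a. -/
theorem phi {u : G} (hu : u • (t • a) = t • a) (hu1 : u ≠ 1) (hu2 : u * u = 1) {r : G} (hr : r ∈ Q)
    (hre : r • (u • a) = t • a) :
    (r * u * r⁻¹) * (r * u * r⁻¹) = 1 ∧ r * u * r⁻¹ ≠ 1 ∧ (r * u * r⁻¹) • a = t • a ∧
      (r * u * r⁻¹) • (r • (t • a)) = r • (t • a) := by
  refine ⟨by rw [show r * u * r⁻¹ * (r * u * r⁻¹) = r * (u * u) * r⁻¹ by group, hu2]; group,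
    fun h => hu1 ?_, ?_, by simp [mul_smul, hu]⟩
  · rwa [conj_eq_one_iff] at h
  · rw [mul_smul, mul_smul, show r⁻¹ • a = a from fix_a hS (inv_mem hr), hre]

theorem phi_inj {u u' r r' : G} (hu : u • (t • a) = t • a) (hu1 : u ≠ 1) (hu2 : u * u = 1) (hr : r ∈ Q)
    (hu' : u' • (t • a) = t • a) (hr' : r' ∈ Q) (h : r * u * r⁻¹ = r' * u' * r'⁻¹) : r = r' ∧ u = u' := by
  have h1 : r * u * r⁻¹ ≠ 1 := fun e => hu1 (by rwa [conj_eq_one_iff] at e)
  have h2 : r * u * r⁻¹ * (r * u * r⁻¹) = 1 := by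
    rw [show r * u * r⁻¹ * (r * u * r⁻¹) = r * (u * u) * r⁻¹ by group, hu2]; group
  have e := (inv_one_fix hS h1 h2).unique (y₁ := r • (t • a)) (y₂ := r' • (t • a)) (by simp [mul_smul, hu])
    (by rw [h]; simp [mul_smul, hu'])
  have hrr := q_unique hS hr hr' e
  subst hrr
  exact ⟨rfl, by simpa using h⟩

theorem phi_surj {τ : G} (hτ : τ • a = t • a) (hτ1 : τ ≠ 1) (hτ2 : τ * τ = 1) :
    ∃ u, u • (t • a) = t • a ∧ u ≠ 1 ∧ u * u = 1 ∧ ∃ r ∈ Q, r • (u • a) = t • a ∧ r * u * r⁻¹ = τ := by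
  obtain ⟨c, hc, -⟩ := inv_one_fix hS hτ1 hτ2
  have hca : c ≠ a := fun h => ta_ne hS (by rw [← hτ, ← h, hc])
  obtain ⟨r, hr, rfl⟩ := exists_q hS hca
  refine ⟨r⁻¹ * τ * r, by rw [mul_smul, mul_smul, hc, inv_smul_smul], fun h => hτ1 ?_, ?_, r, hr, ?_, by group⟩
  · have := congrArg (fun x => r * x * r⁻¹) h
    simpa [mul_assoc] using this
  · rw [show r⁻¹ * τ * r * (r⁻¹ * τ * r) = r⁻¹ * (τ * τ) * r by group, hτ2]; group
  · rw [mul_smul, mul_smul, fix_a hS hr, hτ, smul_inv_smul]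

theorem conj_eqv {u r d : G} (hd : d ∈ D G a t) (hr : r ∈ Q) (hre : r • (u • a) = t • a) :
    d * r * d⁻¹ ∈ Q ∧ (d * r * d⁻¹) • ((d * u * d⁻¹) • a) = t • a := by
  obtain ⟨h1, h2⟩ := Subgroup.mem_inf.1 hd
  refine ⟨conj_Q hS h1 hr, ?_⟩
  rw [mem_stabilizer_iff] at h1 h2
  rw [smul_smul, show d * r * d⁻¹ * (d * u * d⁻¹) = d * r * u * d⁻¹ by group, mul_smul, mul_smul, mul_smul,
    inv_smul_eq_iff.2 h1.symm, hre, h2]

theorem swap_eq {τ : G} (hτ : τ • a = t • a) (hτ2 : τ * τ = 1) :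
    t * τ ∈ D G a t ∧ t * (t * τ) * t = (t * τ)⁻¹ := by
  have hτ' : τ • (t • a) = a := by rw [← hτ, smul_smul, hτ2, one_smul]
  refine ⟨⟨?_, ?_⟩, ?_⟩
  · show (t * τ) • a = a
    rw [mul_smul, hτ, tta hS]
  · show (t * τ) • (t • a) = t • a
    rw [mul_smul, hτ']
  · rw [tt hS, _root_.mul_inv_rev, inv_eq_of_mul_eq_one_left hτ2, t_inv hS]

theorem swap_conj {τ : G} (hτ : τ • a = t • a) (hτ2 : τ * τ = 1) :
    ∃ l ∈ D G a t, t * l * t = l⁻¹ ∧ l⁻¹ * t * l = τ := by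
  obtain ⟨hD, hi⟩ := swap_eq hS hτ hτ2
  obtain ⟨k, hk, hkD⟩ := exists_sqrt hS.odd_card hD
  have hki : t * (t * τ) ^ k * t = ((t * τ) ^ k)⁻¹ := by
    have := map_pow (MulAut.conj t) (t * τ) k
    simp only [MulAut.conj_apply, t_inv hS, hi] at this
    rw [this, inv_pow]
  refine ⟨_, hkD, hki, ?_⟩
  rw [← hki]
  calc t * (t * τ) ^ k * t * t * (t * τ) ^ k = t * ((t * τ) ^ k * (t * t) * (t * τ) ^ k) := by group
    _ = τ := by rw [hS.mul_self, mul_one, hk, tt hS]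

theorem exists_pair : ∃ s r : G, s • a = a ∧ s ≠ 1 ∧ s * s = 1 ∧ r ∈ Q ∧ t * s * t = r⁻¹ * t * r := by
  obtain ⟨u, hu, hu1, hu2, r, hr, -, he⟩ := phi_surj hS (τ := t) rfl hS.ne_one hS.mul_self
  refine ⟨t * u * t, r, ?_, fun h => hu1 ?_, ?_, hr, ?_⟩
  · rw [mul_smul, mul_smul, hu, tta hS]
  · have := congrArg (fun x => t * x * t) h
    simpa [mul_assoc, tt hS, hS.mul_self] using this
  · simp [mul_assoc, tt hS, ← mul_assoc u u, hu2, hS.mul_self]
  · calc t * (t * u * t) * t = u := by simp [mul_assoc, tt hS, hS.mul_self]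
      _ = r⁻¹ * (r * u * r⁻¹) * r := by group
      _ = _ := by rw [he]

/-- tst for an involution s fixing a. -/
theorem flip {s : G} (hs : s • a = a) (hs1 : s ≠ 1) (hs2 : s * s = 1) :
    (t * s * t) • (t • a) = t • a ∧ t * s * t ≠ 1 ∧ (t * s * t) * (t * s * t) = 1 := by
  refine ⟨?_, fun h => hs1 ?_, ?_⟩
  · rw [mul_smul, mul_smul, tta hS, hs]
  · have := congrArg (fun x => t * x * t) h
    simpa [mul_assoc, tt hS, hS.mul_self] using this
  · simp [mul_assoc, tt hS, ← mul_assoc s s, hs2, hS.mul_self]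

theorem pair_unique {s r s' r' : G} (hs : s • a = a) (hs1 : s ≠ 1) (hs2 : s * s = 1) (hr : r ∈ Q)
    (he : t * s * t = r⁻¹ * t * r) (hs' : s' • a = a) (hs'1 : s' ≠ 1) (hs'2 : s' * s' = 1) (hr' : r' ∈ Q)
    (he' : t * s' * t = r'⁻¹ * t * r') : s = s' ∧ r = r' := by
  obtain ⟨f1, f2, f3⟩ := flip hS hs hs1 hs2
  obtain ⟨g1, g2, g3⟩ := flip hS hs' hs'1 hs'2
  obtain ⟨h1, h2⟩ := phi_inj hS f1 f2 f3 hr g1 hr' (by rw [he, he']; group)
  refine ⟨?_, h1⟩
  have := congrArg (fun x => t * x * t) h2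
  simpa [mul_assoc, tt hS, hS.mul_self] using this

theorem cent_pair {s r : G} (hs : s • a = a) (hs1 : s ≠ 1) (hs2 : s * s = 1) (hr : r ∈ Q)
    (he : t * s * t = r⁻¹ * t * r) {d : G} (hd : d ∈ D G a t) : Commute d t ↔ Commute d s := by
  obtain ⟨f1, f2, f3⟩ := flip hS hs hs1 hs2
  have hre : r • ((t * s * t) • a) = t • a := by
    rw [he, mul_smul, mul_smul, fix_a hS hr, smul_inv_smul]
  have hd' := tDt hS hd
  have hphi : r * (t * s * t) * r⁻¹ = t := by rw [he]; group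
  have key : ∀ e ∈ D G a t, Commute e t ↔ Commute e (t * s * t) := by
    intro e hee
    obtain ⟨hq, -⟩ := conj_eqv hS (u := t * s * t) hee hr hre
    have hu' : (e * (t * s * t) * e⁻¹) • (t • a) = t • a := by
      obtain ⟨-, h2⟩ := Subgroup.mem_inf.1 hee
      rw [mem_stabilizer_iff] at h2
      rw [mul_smul, mul_smul, inv_smul_eq_iff.2 h2.symm, f1, h2]
    constructor
    · intro hc
      obtain ⟨-, h2⟩ := phi_inj hS f1 f2 f3 hr hu' hq (by
        rw [hphi, show e * r * e⁻¹ * (e * (t * s * t) * e⁻¹) * (e * r * e⁻¹)⁻¹ = e * (r * (t * s * t) * r⁻¹) * e⁻¹ by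
          group, hphi, hc.eq, mul_inv_cancel_right])
      exact (mul_inv_eq_iff_eq_mul.1 h2.symm)
    · intro hc
      have hrc : e * r * e⁻¹ = r := by
        obtain ⟨-, h2⟩ := conj_eqv hS (u := t * s * t) hee hr hre
        rw [hc.eq, mul_inv_cancel_right] at h2
        obtain ⟨p, hp, hpe⟩ := exists_q hS (ne_a_of_ta hS f1 f2 f3)
        have e1 := q_free hS (mul_mem (inv_mem hr) hq) (ne_a_of_ta hS f1 f2 f3)
          (by rw [mul_smul, h2, ← hre, inv_smul_smul])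
        exact (inv_mul_eq_one.1 e1).symm
      have h1 : e * t * e⁻¹ = t := by
        calc e * t * e⁻¹ = e * (r * (t * s * t) * r⁻¹) * e⁻¹ := by rw [hphi]
          _ = (e * r * e⁻¹) * (e * (t * s * t) * e⁻¹) * (e * r * e⁻¹)⁻¹ := by group
          _ = t := by rw [hrc, hc.eq, mul_inv_cancel_right, hphi]
      exact mul_inv_eq_iff_eq_mul.1 h1
  constructor
  · intro hc
    have h := (key d hd).1 hc
    have h' : Commute d (t * (t * s * t) * t) := (hc.mul_right h).mul_right hc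
    simpa [mul_assoc, tt hS, hS.mul_self] using h'
  · intro hc
    have h : Commute (t * d * t) (t * s * t) := by
      show _ = _
      simp [mul_assoc, tt hS]
      rw [← mul_assoc d s, hc.eq, mul_assoc]
    have h1 := (key _ hd').2 h
    have : d * t = t * d := by
      have := congrArg (fun x => t * x * t) h1.eq
      simpa [mul_assoc, tt hS, hS.mul_self] using this
    exact this

/-- The number of elements of D inverted by t is the number of involutions fixing a. -/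
theorem card_K : Nat.card (invertedBy (D G a t) t) = Nat.card (involutionsIn (stabilizer G a : Set G)) := by
  choose r hr hre using fun s : involutionsIn (stabilizer G a : Set G) =>
    exists_r hS (ne_a_of_ta hS (flip hS s.2.1 s.2.2.1 s.2.2.2).1 (flip hS s.2.1 s.2.2.1 s.2.2.2).2.1
      (flip hS s.2.1 s.2.2.1 s.2.2.2).2.2)
  have hmem : ∀ s : involutionsIn (stabilizer G a : Set G),
      t * (r s * (t * s * t) * (r s)⁻¹) ∈ invertedBy (D G a t) t := fun s => by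
    obtain ⟨f1, f2, f3⟩ := flip hS s.2.1 s.2.2.1 s.2.2.2
    obtain ⟨h1, -, h3, -⟩ := phi hS f1 f2 f3 (hr s) (hre s)
    obtain ⟨g1, g2⟩ := swap_eq hS h3 h1
    exact ⟨g1, by rw [t_inv hS]; exact g2⟩
  refine (Nat.card_eq_of_bijective (fun s => (⟨_, hmem s⟩ : invertedBy (D G a t) t))
    ⟨fun s s' h => ?_, fun k => ?_⟩).symm
  · obtain ⟨f1, f2, f3⟩ := flip hS s.2.1 s.2.2.1 s.2.2.2
    obtain ⟨g1, -, -⟩ := flip hS s'.2.1 s'.2.2.1 s'.2.2.2
    obtain ⟨-, h2⟩ := phi_inj hS f1 f2 f3 (hr s) g1 (hr s') (mul_left_cancel (congrArg Subtype.val h))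
    exact Subtype.ext (mul_left_cancel (mul_right_cancel h2))
  · obtain ⟨hkD, hki⟩ := k.2
    rw [t_inv hS] at hki
    obtain ⟨h1, h2⟩ := Subgroup.mem_inf.1 hkD
    rw [mem_stabilizer_iff] at h1 h2
    have ha : (t * k.1) • a = t • a := by rw [mul_smul, h1]
    have hne : t * k.1 ≠ 1 := fun h => ta_ne hS (by rw [← ha, h, one_smul])
    have hsq : t * k.1 * (t * k.1) = 1 := by
      rw [← mul_assoc, hki, inv_mul_cancel]
    obtain ⟨u, hu, hu1, hu2, p, hp, hpe, he⟩ := phi_surj hS ha hne hsq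
    have hmem' : t * u * t ∈ involutionsIn (stabilizer G a : Set G) := by
      refine ⟨?_, ?_, ?_⟩
      · show (t * u * t) • a = a
        rw [mul_smul, mul_smul, hu, tta hS]
      · intro h
        have := congrArg (fun x => t * x * t) h
        exact hu1 (by simpa [mul_assoc, tt hS, hS.mul_self] using this)
      · simp [mul_assoc, tt hS, ← mul_assoc u u, hu2, hS.mul_self]
    refine ⟨⟨_, hmem'⟩, Subtype.ext ?_⟩
    · generalize hs : (⟨_, hmem'⟩ : involutionsIn (stabilizer G a : Set G)) = s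
      have hsu : t * s.1 * t = u := by rw [← hs]; simp [mul_assoc, tt hS, hS.mul_self]
      show t * (r s * (t * s.1 * t) * (r s)⁻¹) = k.1
      rw [hsu]
      have e : r s • (u • a) = t • a := by rw [← hsu]; exact hre s
      have : r s = p := by
        have := q_free hS (mul_mem (inv_mem hp) (hr s)) (ne_a_of_ta hS hu hu1 hu2)
          (by rw [mul_smul, e, ← hpe, inv_smul_smul])
        exact (inv_mul_eq_one.1 this).symm
      rw [this, he, tt hS]

theorem inv_pow_K {p : G} (hi : t * p * t = p⁻¹) (k : ℕ) : t * p ^ k * t = (p ^ k)⁻¹ := by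
  have := map_pow (MulAut.conj t) p k
  simp only [MulAut.conj_apply, t_inv hS, hi] at this
  rw [this, inv_pow]

/-- Conjugation by elements inverted by t is transitive on the involutions interchanging a and t • a. -/
theorem swap_trans {τ τ' : G} (h1 : τ • a = t • a) (h2 : τ * τ = 1) (h1' : τ' • a = t • a) (h2' : τ' * τ' = 1) :
    ∃ m ∈ D G a t, t * m * t = m⁻¹ ∧ m⁻¹ * τ * m = τ' := by
  obtain ⟨hD, hi⟩ := swap_eq hS h1 h2
  obtain ⟨hD', hi'⟩ := swap_eq hS h1' h2'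
  obtain ⟨k, hk, hkD⟩ := exists_sqrt hS.odd_card hD
  set p := t * τ with hp
  set p' := t * τ' with hp'
  set l := p ^ k with hl
  have hli : t * l * t = l⁻¹ := inv_pow_K hS hi k
  have htmul : ∀ x y : G, t * (x * y) * t = (t * x * t) * (t * y * t) := fun x y => by simp [mul_assoc, tt hS]
  have hwD : l * p' * l ∈ D G a t := mul_mem (mul_mem hkD hD') hkD
  have hwi : t * (l * p' * l) * t = (l * p' * l)⁻¹ := by
    rw [htmul, htmul, hli, hi']; group
  obtain ⟨j, hj, hjD⟩ := exists_sqrt hS.odd_card hwD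
  have hvi := inv_pow_K hS hwi j
  set v := (l * p' * l) ^ j with hv
  have hli' : t * l⁻¹ * t = l := by
    conv_lhs => rw [← hli]
    simp [mul_assoc, tt hS, hS.mul_self]
  have hmi : t * (l⁻¹ * v * l⁻¹) * t = (l⁻¹ * v * l⁻¹)⁻¹ := by
    rw [htmul, htmul, hli', hvi]; group
  refine ⟨l⁻¹ * v * l⁻¹, mul_mem (mul_mem (inv_mem hkD) hjD) (inv_mem hkD), hmi, ?_⟩
  rw [← hmi, show τ = t * p by rw [hp, tt hS], show τ' = t * p' by rw [hp', tt hS]]
  calc t * (l⁻¹ * v * l⁻¹) * t * (t * p) * (l⁻¹ * v * l⁻¹)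
      = t * (l⁻¹ * v * l⁻¹) * (t * t) * p * (l⁻¹ * v * l⁻¹) := by group
    _ = t * (l⁻¹ * v * (l⁻¹ * p * l⁻¹) * v * l⁻¹) := by rw [hS.mul_self]; group
    _ = t * (l⁻¹ * (v * v) * l⁻¹) := by
        rw [show l⁻¹ * p * l⁻¹ = 1 by rw [← hk]; group]; group
    _ = t * p' := by rw [hj]; group

theorem K_trans {s s' : G} (hs : s • a = a) (hs1 : s ≠ 1) (hs2 : s * s = 1) (hs' : s' • a = a) (hs'1 : s' ≠ 1)
    (hs'2 : s' * s' = 1) : ∃ k ∈ invertedBy (D G a t) t, k⁻¹ * s * k = s' := by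
  obtain ⟨f1, f2, f3⟩ := flip hS hs hs1 hs2
  obtain ⟨g1, g2, g3⟩ := flip hS hs' hs'1 hs'2
  obtain ⟨r, hr, hre⟩ := exists_r hS (ne_a_of_ta hS f1 f2 f3)
  obtain ⟨r', hr', hre'⟩ := exists_r hS (ne_a_of_ta hS g1 g2 g3)
  obtain ⟨p1, -, p3, -⟩ := phi hS f1 f2 f3 hr hre
  obtain ⟨q1, -, q3, -⟩ := phi hS g1 g2 g3 hr' hre'
  obtain ⟨m, hm, hmi, hme⟩ := swap_trans hS p3 p1 q3 q1
  obtain ⟨hq, -⟩ := conj_eqv hS (u := t * s * t) (inv_mem hm) hr hre
  have hu' : (m⁻¹ * (t * s * t) * m⁻¹⁻¹) • (t • a) = t • a := by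
    obtain ⟨-, h2⟩ := Subgroup.mem_inf.1 (inv_mem hm)
    rw [mem_stabilizer_iff] at h2
    rw [mul_smul, mul_smul _ (t * s * t), inv_smul_eq_iff.2 h2.symm, f1, h2]
  obtain ⟨-, he⟩ := phi_inj hS g1 g2 g3 hr' hu' hq (by rw [← hme]; group)
  refine ⟨m⁻¹, ⟨inv_mem hm, ?_⟩, ?_⟩
  · rw [t_inv hS, inv_inv, ← hmi]; simp [mul_assoc, tt hS, hS.mul_self]
  · rw [inv_inv] at he ⊢
    rw [← hmi] at he
    have := congrArg (fun x => t * x * t) he
    simp [mul_assoc, tt hS, hS.mul_self] at this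
    rw [this, ← hmi]
    simp [mul_assoc]

theorem cent_K : D G a t ⊓ Subgroup.centralizer {t} ⊓ Subgroup.centralizer (invertedBy (D G a t) t) =
    D G a t ⊓ Subgroup.centralizer (involutionsIn (stabilizer G a : Set G)) := by
  obtain ⟨s₀, r₀, e0, e1, e2, e3, e4⟩ := exists_pair hS
  ext d
  simp only [Subgroup.mem_inf, Subgroup.mem_centralizer_iff, Set.mem_singleton_iff, forall_eq]
  constructor
  · rintro ⟨⟨hd, ht⟩, hK⟩
    refine ⟨hd, fun s ⟨hs, hs1, hs2⟩ => ?_⟩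
    obtain ⟨k, hk, rfl⟩ := K_trans hS e0 e1 e2 hs hs1 hs2
    have h0 : Commute d s₀ := (cent_pair hS e0 e1 e2 e3 e4 hd).1 (Commute.symm (show Commute t d from ht))
    have hkc : Commute d k := (hK k hk).symm
    exact ((hkc.inv_right.mul_right h0).mul_right hkc).eq.symm
  · rintro ⟨hd, hI⟩
    have ht : Commute d t := (cent_pair hS e0 e1 e2 e3 e4 hd).2 (hI s₀ ⟨e0, e1, e2⟩).symm
    refine ⟨⟨hd, ht.eq.symm⟩, fun k hk => ?_⟩
    obtain ⟨hkD, hki⟩ := hk
    rw [t_inv hS] at hki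
    have hka : k • a = a := (Subgroup.mem_inf.1 hkD).1
    have hsk : Commute d (k⁻¹ * s₀ * k) := ((hI _ ⟨by
        show (k⁻¹ * s₀ * k) • a = a
        rw [mul_smul, mul_smul, hka, e0, inv_smul_eq_iff, hka],
      fun h => e1 (by have := congrArg (fun x => k * x * k⁻¹) h; simpa [mul_assoc] using this),
      by rw [show k⁻¹ * s₀ * k * (k⁻¹ * s₀ * k) = k⁻¹ * (s₀ * s₀) * k by group, e2]; group⟩).symm : d * _ = _ * d)
    have h1 : Commute (k * d * k⁻¹) s₀ := by
      have := hsk.map (MulAut.conj k)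
      simpa [mul_assoc] using this
    have h2 := (cent_pair hS e0 e1 e2 e3 e4 (mul_mem (mul_mem hkD hd) (inv_mem hkD))).2 h1
    have h3 : t * (k * d * k⁻¹) * t = k * d * k⁻¹ := by rw [← h2.eq, mul_assoc, hS.mul_self, mul_one]
    have h4 : k⁻¹ * d * k = k * d * k⁻¹ := by
      rw [← h3]
      have hki' : t * k⁻¹ * t = k := by
        conv_lhs => rw [← hki]
        simp [mul_assoc, tt hS, hS.mul_self]
      have hdd : t * d * t = d := by rw [← ht.eq, mul_assoc, hS.mul_self, mul_one]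
      calc k⁻¹ * d * k = (t * k * t) * (t * d * t) * (t * k⁻¹ * t) := by rw [hki, hdd, hki']
        _ = _ := by simp [mul_assoc, tt hS]
    have h5 : Commute d (k * k) := by
      show d * (k * k) = k * k * d
      have := congrArg (fun x => k * x * k) h4
      simpa [mul_assoc] using this
    obtain ⟨j, hj, -⟩ := exists_sqrt hS.odd_card hkD
    have : Commute d ((k * k) ^ j) := h5.pow_right j
    rw [← pow_two, ← pow_mul, mul_comm, pow_mul, pow_two, hj] at this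
    exact this.eq.symm

end Fin

end R1

end Cfsg.Agent.Lie
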