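import Mathlib

/-!
The join of two solvable subgroups, one normalising the other, is solvable.
-/

set_option autoImplicit false
set_option linter.style.haveILetI false

namespace Cfsg.Agent.Lie

theorem isSolvable_sup_of_le_normalizer {G : Type*} [Group G] {N H : Subgroup G}
    (hN : Group.IsSolvable N) (hH : Group.IsSolvable H)
    (hle : H ≤ Subgroup.normalizer (N : Set G)) : Group.IsSolvable (N ⊔ H : Subgroup G) := by
  have hL : (N ⊔ H : Subgroup G) ≤ Subgroup.normalizer (N : Set G) := sup_le Subgroup.le_normalizer hle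
  haveI : (N.subgroupOf (N ⊔ H)).Normal := Subgroup.normal_subgroupOf_of_le_normalizer hL
  let f : H →* (N ⊔ H : Subgroup G) ⧸ N.subgroupOf (N ⊔ H) :=
    (QuotientGroup.mk' _).comp (Subgroup.inclusion le_sup_right)
  have hf : Function.Surjective f := by
    intro y
    obtain ⟨⟨x, hx⟩, rfl⟩ := QuotientGroup.mk'_surjective _ y
    obtain ⟨n, hn, h, hh, rfl⟩ : ∃ n ∈ N, ∃ h ∈ H, n * h = x := by
      have hx' : x ∈ ((N ⊔ H : Subgroup G) : Set G) := hx
      rw [Subgroup.coe_mul_of_right_le_normalizer_left N H hle] at hx'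
      obtain ⟨n, hn, h, hh, e⟩ := hx'
      exact ⟨n, hn, h, hh, e⟩
    refine ⟨⟨h, hh⟩, ?_⟩
    show QuotientGroup.mk' _ (Subgroup.inclusion le_sup_right (⟨h, hh⟩ : H)) = _
    rw [QuotientGroup.mk'_apply, QuotientGroup.mk'_apply, QuotientGroup.eq, Subgroup.mem_subgroupOf]
    show h⁻¹ * (n * h) ∈ N
    have := (Subgroup.mem_set_normalizer_iff.1 (inv_mem (hle hh)) n).1 hn
    simpa [mul_assoc] using this
  haveI := hH
  haveI := hN
  haveI : Group.IsSolvable ((N ⊔ H : Subgroup G) ⧸ N.subgroupOf (N ⊔ H)) := Group.isSolvable_of_surjective hf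
  let e := (Subgroup.subgroupOfEquivOfLe (le_sup_left : N ≤ N ⊔ H)).symm
  haveI : Group.IsSolvable (N.subgroupOf (N ⊔ H)) :=
    Group.isSolvable_of_surjective (f := e.toMonoidHom) e.surjective
  exact (Group.isSolvable_iff_subgroup_quotient (N.subgroupOf (N ⊔ H))).2 ⟨inferInstance, inferInstance⟩

end Cfsg.Agent.Lie
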