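import Mathlib
import Cfsg.Agent.Lib.Perm.Fpf.Semilinear
import Cfsg.Agent.Lib.Perm.Fpf.Solvable
import Cfsg.Agent.Lib.Fusion.QuaternionSection
import Cfsg.Agent.Lib.Solv.SetMul

/-!
Solvable linear groups transitive or regular on the nonzero vectors: semilinear identification,
subgroups of index two.
-/

set_option autoImplicit false
set_option linter.style.haveILetI false
set_option linter.unusedSectionVars false

namespace Cfsg.Agent.Lie.HuppertRegular

open Cfsg.Agent.Perm.Fpf

universe u w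

/-- An anonymous type with `n` elements, without arithmetic of its own. -/
def Carrier (n : ℕ) : Type := Fin n

instance (n : ℕ) : Fintype (Carrier n) := inferInstanceAs (Fintype (Fin n))

variable {p : ℕ} [Fact p.Prime] {V : Type u} [AddCommGroup V] [Module (ZMod p) V] [Finite V]

/-- A linear group with an irreducible abelian normal subgroup is semilinear. -/
theorem semilinear_of_irreducible [Nontrivial V] (H : Subgroup (V ≃ₗ[ZMod p] V)) (A : Subgroup H)
    [hAn : A.Normal] (hAc : IsMulCommutative A)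
    (hirr : ∀ W : Submodule (ZMod p) V, (∀ a ∈ A, ∀ v ∈ W, ((a : H) : V ≃ₗ[ZMod p] V) v ∈ W) →
      W = ⊥ ∨ W = ⊤) :
    ∃ (F : Type) (_ : Field F) (_ : Fintype F) (e : V ≃+ F),
      ∀ h : H, ∃ (a : F) (σ : F ≃+* F), ∀ v : V, e ((h : V ≃ₗ[ZMod p] V) v) = a * σ (e v) := by
  classical
  let act : H → Module.End (ZMod p) V := fun h => ((h : V ≃ₗ[ZMod p] V) : V →ₗ[ZMod p] V)
  let S : Set (Module.End (ZMod p) V) := act '' (A : Set H)
  let K : Subring (Module.End (ZMod p) V) := Subring.centralizer S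
  have hKc : ∀ T : K, ∀ a ∈ A, ∀ v, (T : Module.End (ZMod p) V) (act a v) = act a ((T : Module.End (ZMod p) V) v) :=
    fun T a ha v => (LinearMap.congr_fun (Subring.mem_centralizer_iff.1 T.2 (act a) ⟨a, ha, rfl⟩) v).symm
  haveI : Finite (Module.End (ZMod p) V) := Finite.of_injective (fun T => ⇑T) DFunLike.coe_injective
  haveI : Nontrivial (Module.End (ZMod p) V) := inferInstance
  have hinj : ∀ T : K, T ≠ 0 → ∀ v, (T : Module.End (ZMod p) V) v = 0 → v = 0 := by
    intro T hT v hv
    have hk := hirr (LinearMap.ker (T : Module.End (ZMod p) V)) (fun a ha x hx => by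
      rw [LinearMap.mem_ker] at hx ⊢
      show (T : Module.End (ZMod p) V) (act a x) = 0
      rw [hKc T a ha, hx, map_zero])
    rcases hk with hk | hk
    · have : v ∈ LinearMap.ker (T : Module.End (ZMod p) V) := hv
      rwa [hk, Submodule.mem_bot] at this
    · exact absurd (Subtype.ext (LinearMap.ker_eq_top.1 hk)) hT
  haveI : NoZeroDivisors K := ⟨fun {T T'} h => by
    by_contra hne
    rw [not_or] at hne
    refine hne.2 (Subtype.ext (LinearMap.ext fun v => ?_))
    exact hinj T hne.1 _ (LinearMap.congr_fun (congrArg Subtype.val h) v)⟩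
  haveI : IsDomain K := NoZeroDivisors.to_isDomain K
  letI : Field K := (Finite.isDomain_to_isField K).toField
  obtain ⟨v₀, hv₀⟩ := exists_ne (0 : V)
  let ev : K →+ V :=
    { toFun := fun T => (T : Module.End (ZMod p) V) v₀
      map_zero' := rfl
      map_add' := fun _ _ => rfl }
  have hev : Function.Bijective ev := by
    constructor
    · rw [injective_iff_map_eq_zero]
      intro T hT
      by_contra hne
      exact hv₀ (hinj T hne v₀ hT)
    · intro w
      let W : Submodule (ZMod p) V :=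
        { carrier := Set.range ev
          zero_mem' := ⟨0, map_zero ev⟩
          add_mem' := by rintro _ _ ⟨T, rfl⟩ ⟨T', rfl⟩; exact ⟨T + T', map_add ev T T'⟩
          smul_mem' := by
            rintro c _ ⟨T, rfl⟩
            refine ⟨(c.val : K) * T, ?_⟩
            show ((c.val : Module.End (ZMod p) V) * (T : Module.End (ZMod p) V)) v₀ = c • (T : Module.End (ZMod p) V) v₀
            rw [Module.End.mul_apply, Module.End.natCast_apply, ← Nat.cast_smul_eq_nsmul (ZMod p),
              ZMod.natCast_zmod_val] }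
      rcases hirr W (fun a ha v hv => by
        obtain ⟨T, rfl⟩ := hv
        have hm : act a ∈ K := Subring.mem_centralizer_iff.2 fun g ⟨b, hb, hbg⟩ => by
          subst hbg
          refine LinearMap.ext fun x => ?_
          show ((b * a : H) : V ≃ₗ[ZMod p] V) x = ((a * b : H) : V ≃ₗ[ZMod p] V) x
          rw [show (b * a : H) = a * b from congrArg Subtype.val (hAc.is_comm.comm (⟨b, hb⟩ : A) ⟨a, ha⟩)]
        exact ⟨⟨act a, hm⟩ * T, rfl⟩) with hW | hW
      · have h1 : v₀ ∈ W := ⟨1, rfl⟩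
        rw [hW, Submodule.mem_bot] at h1
        exact absurd h1 hv₀
      · have h1 : w ∈ W := hW ▸ Submodule.mem_top
        exact h1
  let e0 : V ≃+ K := (AddEquiv.ofBijective ev hev).symm
  -- conjugation by an element of `H`
  have hconj : ∀ h : H, ∀ T : K,
      act h * (T : Module.End (ZMod p) V) * act h⁻¹ ∈ K := by
    intro h T
    refine Subring.mem_centralizer_iff.2 ?_
    rintro _ ⟨a, ha, rfl⟩
    refine LinearMap.ext fun x => ?_
    have h1 := hKc T (h⁻¹ * a * h) (by simpa using hAn.conj_mem a ha h⁻¹) (act h⁻¹ x)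
    show act a (act h ((T : Module.End (ZMod p) V) (act h⁻¹ x))) = act h ((T : Module.End (ZMod p) V) (act h⁻¹ (act a x)))
    have e1 : act (h⁻¹ * a * h) (act h⁻¹ x) = act h⁻¹ (act a x) := by
      show ((h⁻¹ * a * h * h⁻¹ : H) : V ≃ₗ[ZMod p] V) x = ((h⁻¹ * a : H) : V ≃ₗ[ZMod p] V) x
      rw [mul_inv_cancel_right]
    rw [← e1, h1]
    show ((a * h : H) : V ≃ₗ[ZMod p] V) _ = ((h * (h⁻¹ * a * h) : H) : V ≃ₗ[ZMod p] V) _
    rw [show h * (h⁻¹ * a * h) = a * h by group]
  have hcancel : ∀ h : H, act h⁻¹ * act h = 1 := fun h => LinearMap.ext fun x =>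
    (h : V ≃ₗ[ZMod p] V).symm_apply_apply x
  have hcancel' : ∀ h : H, act h * act h⁻¹ = 1 := fun h => LinearMap.ext fun x =>
    (h : V ≃ₗ[ZMod p] V).apply_symm_apply x
  let σ : H → (K ≃+* K) := fun h =>
    { toFun := fun T => ⟨_, hconj h T⟩
      invFun := fun T => ⟨_, hconj h⁻¹ T⟩
      left_inv := fun T => Subtype.ext (by
        show act h⁻¹ * (act h * (T : Module.End (ZMod p) V) * act h⁻¹) * act h⁻¹⁻¹ = _
        rw [inv_inv, ← mul_assoc, ← mul_assoc, hcancel, one_mul, mul_assoc, hcancel, mul_one])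
      right_inv := fun T => Subtype.ext (by
        show act h * (act h⁻¹ * (T : Module.End (ZMod p) V) * act h⁻¹⁻¹) * act h⁻¹ = _
        rw [inv_inv, ← mul_assoc, ← mul_assoc, hcancel', one_mul, mul_assoc, hcancel', mul_one])
      map_mul' := fun T T' => Subtype.ext (by
        show act h * ((T : Module.End (ZMod p) V) * (T' : Module.End (ZMod p) V)) * act h⁻¹ =
          act h * (T : Module.End (ZMod p) V) * act h⁻¹ * (act h * (T' : Module.End (ZMod p) V) * act h⁻¹)
        simp only [mul_assoc]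
        rw [← mul_assoc (act h⁻¹) (act h), hcancel, one_mul])
      map_add' := fun T T' => Subtype.ext (by
        show act h * ((T : Module.End (ZMod p) V) + (T' : Module.End (ZMod p) V)) * act h⁻¹ = _
        rw [mul_add, add_mul]; rfl) }
  let eK : Carrier (Nat.card K) ≃ K := (Finite.equivFin K).symm
  letI : Field (Carrier (Nat.card K)) := eK.field
  let r : Carrier (Nat.card K) ≃+* K := eK.ringEquiv
  refine ⟨Carrier (Nat.card K), inferInstance, inferInstance, e0.trans r.symm.toAddEquiv, fun h =>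
    ⟨r.symm (e0 ((h : V ≃ₗ[ZMod p] V) v₀)), (r.trans (σ h)).trans r.symm, fun v => ?_⟩⟩
  show r.symm (e0 ((h : V ≃ₗ[ZMod p] V) v)) = r.symm (e0 ((h : V ≃ₗ[ZMod p] V) v₀)) * r.symm (σ h (r (r.symm (e0 v))))
  rw [RingEquiv.apply_symm_apply, ← map_mul]
  congr 1
  rw [mul_comm]
  apply e0.symm.injective
  rw [e0.symm_apply_apply]
  have hback : ∀ T : K, e0.symm T = (T : Module.End (ZMod p) V) v₀ := fun T => rfl
  have hv : v = (e0 v : K).1 v₀ := by rw [← hback, e0.symm_apply_apply]
  have hc : (h : V ≃ₗ[ZMod p] V) v₀ = (e0 ((h : V ≃ₗ[ZMod p] V) v₀) : K).1 v₀ := by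
    rw [← hback, e0.symm_apply_apply]
  rw [hback]
  show _ = (act h * (e0 v : K).1 * act h⁻¹) ((e0 ((h : V ≃ₗ[ZMod p] V) v₀) : K).1 v₀)
  rw [← hc]
  show _ = act h ((e0 v : K).1 (act h⁻¹ ((h : V ≃ₗ[ZMod p] V) v₀)))
  rw [show act h⁻¹ ((h : V ≃ₗ[ZMod p] V) v₀) = v₀ from LinearMap.congr_fun (hcancel h) v₀, ← hv]
  rfl

/-- A semilinear group transitive on the nonzero vectors of a field of odd order has a subgroup of
index two. -/
theorem index_two_of_semilinear {G : Type w} [Group G] {F : Type} [Field F] [Fintype F]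
    (hF : ringChar F ≠ 2) {W : Type u} [AddCommGroup W] (act : G → W → W)
    (hmul : ∀ g h x, act (g * h) x = act g (act h x)) (hone : ∀ x, act 1 x = x) (e : W ≃+ F)
    (hsl : ∀ g : G, ∃ (a : F) (σ : F ≃+* F), ∀ v, e (act g v) = a * σ (e v))
    (htr : ∀ v w : W, v ≠ 0 → w ≠ 0 → ∃ g, act g v = w) :
    ∃ N : Subgroup G, N.Normal ∧ N.index = 2 := by
  classical
  let x₁ : W := e.symm 1
  have hx₁ : x₁ ≠ 0 := fun h => one_ne_zero (α := F) (by rw [← e.apply_symm_apply (1 : F)]; show e x₁ = 0; rw [h, map_zero])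
  let χ : G → ℤ := fun g => quadraticChar F (e (act g x₁))
  have hinv : ∀ (σ : F ≃+* F) (b : F), quadraticChar F (σ b) = quadraticChar F b := by
    intro σ b
    by_cases hb : b = 0
    · rw [hb, map_zero]
    have hσb : σ b ≠ 0 := fun h => hb (σ.injective (by rw [h, map_zero]))
    rcases quadraticChar_dichotomy hσb with h | h <;> rcases quadraticChar_dichotomy hb with h' | h' <;>
      rw [h, h']
    · obtain ⟨c, hc⟩ := (quadraticChar_one_iff_isSquare hσb).1 h
      have := (quadraticChar_one_iff_isSquare hb).2 ⟨σ.symm c, σ.injective (by rw [map_mul, σ.apply_symm_apply, ← hc])⟩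
      omega
    · obtain ⟨c, hc⟩ := (quadraticChar_one_iff_isSquare hb).1 h'
      have := (quadraticChar_one_iff_isSquare hσb).2 ⟨σ c, by rw [← map_mul, ← hc]⟩
      omega
  have hχmul : ∀ g h, χ (g * h) = χ g * χ h := by
    intro g h
    obtain ⟨a, σ, hσ⟩ := hsl g
    show quadraticChar F _ = quadraticChar F _ * quadraticChar F _
    rw [hmul, hσ, hσ, show e x₁ = 1 from e.apply_symm_apply 1, map_one, mul_one, map_mul, hinv]
  have hχone : χ 1 = 1 := by
    show quadraticChar F _ = 1
    rw [hone, show e x₁ = 1 from e.apply_symm_apply 1, map_one]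
  let φ : G →* ℤˣ := MonoidHom.toHomUnits { toFun := χ, map_one' := hχone, map_mul' := hχmul }
  have hsurj : Function.Surjective φ := by
    intro z
    rcases Int.units_eq_one_or z with rfl | rfl
    · exact ⟨1, map_one φ⟩
    · obtain ⟨b, hb⟩ := quadraticChar_exists_neg_one hF
      have hb0 : b ≠ 0 := fun h => by rw [h, quadraticChar_zero] at hb; omega
      obtain ⟨g, hg⟩ := htr x₁ (e.symm b) hx₁ (fun h => hb0 (by rw [← e.apply_symm_apply b, h, map_zero]))
      exact ⟨g, Units.ext (by show quadraticChar F (e (act g x₁)) = -1; rw [hg, e.apply_symm_apply]; exact hb)⟩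
  refine ⟨φ.ker, inferInstance, ?_⟩
  rw [Subgroup.index_ker, MonoidHom.range_eq_top.2 hsurj, Nat.card_congr Subgroup.topEquiv.toEquiv,
    Nat.card_eq_fintype_card, Fintype.card_units_int]

/-- A nontrivial two-group has a normal subgroup of index two. -/
theorem index_two_of_two_pow {G : Type w} [Group G] [Finite G] {k : ℕ} (hk : k ≠ 0) (N : Subgroup G)
    [N.Normal] (h : N.index = 2 ^ k) : ∃ M : Subgroup G, M.Normal ∧ M.index = 2 := by
  haveI := Fact.mk Nat.prime_two
  have hc : Nat.card (G ⧸ N) = 2 ^ k := by rw [← Subgroup.index_eq_card]; exact h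
  obtain ⟨M, hM⟩ := Sylow.exists_subgroup_card_pow_prime 2 (n := k - 1) (G := G ⧸ N)
    (by rw [hc]; exact pow_dvd_pow 2 (Nat.sub_le k 1))
  have hMi : M.index = 2 := by
    have h1 := Subgroup.card_mul_index M
    rw [hM, hc] at h1
    refine Nat.eq_of_mul_eq_mul_left (pow_pos (by norm_num : 0 < 2) (k - 1)) (h1.trans ?_)
    rw [← pow_succ, Nat.sub_add_cancel (Nat.one_le_iff_ne_zero.2 hk)]
  haveI := Subgroup.normal_of_index_eq_two hMi
  exact ⟨M.comap (QuotientGroup.mk' N), inferInstance,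
    by rw [Subgroup.index_comap_of_surjective _ (QuotientGroup.mk'_surjective N), hMi]⟩

theorem sl23_of_order {G : Type w} [Group G] [Finite G] (hG : Nat.card G = 24)
    {Q : Subgroup G} (e : QuaternionGroup 2 ≃* Q) {g : G}
    (hg : g ∈ Subgroup.normalizer (Q : Set G)) (hg3 : g ^ 3 = 1)
    (hgQ : g ∉ Subgroup.centralizer (Q : Set G)) :
    Nonempty (G ≃* Matrix.SpecialLinearGroup (Fin 2) (ZMod 3)) := by
  obtain ⟨K, R, hn, ⟨i⟩⟩ := Cfsg.Agent.Fusion.involves_sl23_of_quaternion e hg ⟨1, by rwa [pow_one]⟩ hgQ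
  haveI := hn
  have hc : Nat.card K = 24 * Nat.card (R.subgroupOf K) := by
    rw [Subgroup.card_eq_card_quotient_mul_card_subgroup (R.subgroupOf K), Nat.card_congr i.toEquiv,
      Cfsg.Agent.Fusion.card_sl23]
  have hKd := Subgroup.card_subgroup_dvd_card K
  rw [hG] at hKd
  have hle := Nat.le_of_dvd (by norm_num) hKd
  have hpos : 0 < Nat.card (R.subgroupOf K) := Nat.card_pos
  have hK : Nat.card K = 24 := by omega
  have hR : Nat.card (R.subgroupOf K) = 1 := by omega
  have hKtop : K = ⊤ := Subgroup.eq_top_of_card_eq K (by rw [hK, hG])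
  exact ⟨(((QuotientGroup.quotientMulEquivOfEq (Subgroup.eq_bot_of_card_eq _ hR)).trans
    QuotientGroup.quotientBot).trans ((MulEquiv.subgroupCongr hKtop).trans Subgroup.topEquiv)).symm.trans i⟩

theorem IsFpf.no_four {K : Type*} [Field K] {G : Type w} [Group G] [Finite G] {M : Type*}
    [AddCommGroup M] [Module K M] [Nontrivial M] {ρ : G →* Module.End K M} (h : IsFpf ρ)
    (Q : Subgroup G) (e : Q ≃* QuaternionGroup 2) {x : G}
    (hx : x ∈ Subgroup.centralizer (Q : Set G)) : orderOf x ≠ 4 := by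
  intro ho
  set u : G := (e.symm (QuaternionGroup.a 1) : G) with hu
  set v : G := (e.symm (QuaternionGroup.xa 0) : G) with hv
  have huQ : u ∈ Q := (e.symm _).2
  have hvQ : v ∈ Q := (e.symm _).2
  have huo : orderOf u = 4 := by
    rw [hu, Subgroup.orderOf_coe, MulEquiv.orderOf_eq]; exact QuaternionGroup.orderOf_a_one
  have hvo : orderOf v = 4 := by
    rw [hv, Subgroup.orderOf_coe, MulEquiv.orderOf_eq]; exact QuaternionGroup.orderOf_xa 0
  have hsq : ∀ {y : G}, orderOf y = 4 → y ^ 2 ≠ 1 ∧ (y ^ 2) ^ 2 = 1 := fun {y} hy => by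
    refine ⟨fun e1 => ?_, by rw [← pow_mul]; exact orderOf_dvd_iff_pow_eq_one.1 (dvd_of_eq hy)⟩
    have := Nat.le_of_dvd (by norm_num) (orderOf_dvd_of_pow_eq_one e1)
    omega
  have mem : ∀ {y : G}, orderOf y = 4 → y ∈ Q → y ∈ Subgroup.zpowers x := by
    intro y hy hyQ
    have hc : Commute x y := (Subgroup.mem_centralizer_iff.1 hx y hyQ).symm
    have e1 : x ^ 2 = y ^ 2 := h.involution_unique (hsq ho).1 (hsq ho).2 (hsq hy).1 (hsq hy).2
    have e2 : (x⁻¹ * y) ^ 2 = 1 := by rw [hc.inv_left.mul_pow, inv_pow, e1, inv_mul_cancel]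
    by_cases h1 : x⁻¹ * y = 1
    · rw [← inv_mul_eq_one.1 h1]; exact Subgroup.mem_zpowers x
    · rw [inv_mul_eq_iff_eq_mul.1 (h.involution_unique h1 e2 (hsq ho).1 (hsq ho).2)]
      exact mul_mem (Subgroup.mem_zpowers x) (pow_mem (Subgroup.mem_zpowers x) 2)
  obtain ⟨i, hi⟩ := Subgroup.mem_zpowers_iff.1 (mem huo huQ)
  obtain ⟨j, hj⟩ := Subgroup.mem_zpowers_iff.1 (mem hvo hvQ)
  have hne : ¬ QuaternionGroup.a 1 * QuaternionGroup.xa 0 =
      (QuaternionGroup.xa 0 * QuaternionGroup.a 1 : QuaternionGroup 2) := by decide +kernel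
  refine hne (e.symm.injective ?_)
  rw [map_mul, map_mul]
  refine Subtype.ext ?_
  show u * v = v * u
  rw [← hi, ← hj]
  exact ((Commute.refl x).zpow_zpow i j).eq

/-- Fixed-point-free solvable groups of the four exceptional orders. -/
theorem index_two_or_exceptional {K : Type*} [Field K] {G : Type w} [Group G] [Finite G] {M : Type*}
    [AddCommGroup M] [Module K M] [Nontrivial M] {ρ : G →* Module.End K M} (h : IsFpf ρ)
    [Group.IsSolvable G]
    (hG : Nat.card G = 24 ∨ Nat.card G = 48 ∨ Nat.card G = 120 ∨ Nat.card G = 528)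
    (hno : ∀ N : Subgroup G, N.Normal → N.index ≠ 2) :
    (Nat.card G = 24 ∧ Nonempty (G ≃* Matrix.SpecialLinearGroup (Fin 2) (ZMod 3))) ∨
    (Nat.card G = 120 ∧
      Nonempty (G ≃* Matrix.SpecialLinearGroup (Fin 2) (ZMod 3) × Multiplicative (ZMod 5))) := by
  classical
  haveI := Fact.mk Nat.prime_two
  have hn : ¬ Cfsg.HasNormalPComplement 2 G := by
    rintro ⟨P, N, hN, hc⟩
    haveI := hN
    obtain ⟨k, hk⟩ := IsPGroup.iff_card.1 P.2
    have hk0 : k ≠ 0 := by
      rintro rfl
      have h2 : 2 ∣ Nat.card G := by rcases hG with e | e | e | e <;> rw [e] <;> norm_num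
      have := P.dvd_card_of_dvd_card h2
      rw [hk] at this
      norm_num at this
    obtain ⟨M, hM, hMi⟩ := index_two_of_two_pow hk0 N (by rw [hc.symm.index_eq_card, hk])
    exact hno M hM hMi
  obtain ⟨⟨e⟩, g, hgo, hg⟩ := h.core_quaternion hn
  set Q := Cfsg.pCore 2 G
  haveI : Q.Normal := Cfsg.Agent.Solv.pCore_normal 2
  obtain ⟨hZ, f, hker, -, hidx⟩ := h.four_hom Q ⟨e⟩ hgo hg
  set C := Subgroup.centralizer (Q : Set G) with hC
  have hidx2 : f.range.index = 2 := by
    refine hidx.resolve_left fun h1 => ?_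
    have hfs : Function.Surjective f := MonoidHom.range_eq_top.1 (Subgroup.index_eq_one.1 h1)
    have hs : Function.Surjective ((Equiv.Perm.sign).comp f) :=
      (Equiv.Perm.sign_surjective (Fin 4)).comp hfs
    refine hno ((Equiv.Perm.sign).comp f).ker inferInstance ?_
    rw [Subgroup.index_ker, MonoidHom.range_eq_top.2 hs, Nat.card_congr Subgroup.topEquiv.toEquiv,
      Nat.card_eq_fintype_card, Fintype.card_units_int]
  have hrange : Nat.card f.range = 12 := by
    have h1 := Subgroup.card_mul_index f.range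
    rw [hidx2, Nat.card_perm, Nat.card_fin, show Nat.factorial 4 = 24 from rfl] at h1
    omega
  have hcardC : Nat.card G = 12 * Nat.card C := by
    rw [← Subgroup.card_mul_index C, ← hker, Subgroup.index_ker, hrange, mul_comm]
  have h4 : ¬ 4 ∣ Nat.card C := by
    intro hd
    haveI := hZ
    obtain ⟨T⟩ : Nonempty (Sylow 2 C) := inferInstance
    haveI : IsCyclic T := IsZGroup.isZGroup 2 Nat.prime_two T
    obtain ⟨y, hy⟩ := IsCyclic.exists_generator (α := T)
    have h4T : 4 ∣ Nat.card T := T.pow_dvd_card_of_pow_dvd_card (n := 2) (by simpa using hd)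
    have hord : orderOf y = Nat.card T := orderOf_eq_card_of_forall_mem_zpowers hy
    have hyo : 4 ∣ orderOf (((y : C) : G)) := by
      rwa [Subgroup.orderOf_coe, Subgroup.orderOf_coe, hord]
    refine IsFpf.no_four h Q e (x := ((y : C) : G) ^ (orderOf (((y : C) : G)) / 4))
      (pow_mem (y : C).2 _) ?_
    exact orderOf_pow_orderOf_div (orderOf_pos _).ne' hyo
  rcases hG with hG' | hG' | hG' | hG'
  · left
    refine ⟨hG', sl23_of_order hG' e.symm (Subgroup.normalizer_eq_top Q ▸ Subgroup.mem_top g) ?_ hg⟩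
    have hdvd : orderOf g ∣ 24 := hG' ▸ orderOf_dvd_natCard g
    have : orderOf g ∣ 3 := Nat.Coprime.dvd_of_dvd_mul_left (k := orderOf g) (m := 8)
      (Nat.Coprime.pow_right 3 hgo) hdvd
    exact orderOf_dvd_iff_pow_eq_one.1 this
  · exfalso; omega
  · right
    refine ⟨hG', ?_⟩
    have hC10 : Nat.card C = 10 := by omega
    haveI := Fact.mk (show Nat.Prime 5 by norm_num)
    obtain ⟨c, hc⟩ := exists_prime_orderOf_dvd_card' (G := C) 5 (by rw [hC10]; norm_num)
    have hco : orderOf (c : G) = 5 := (Subgroup.orderOf_coe c).trans hc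
    have hcZ : (Subgroup.zpowers c).index = 2 := by
      have h1 := Subgroup.card_mul_index (Subgroup.zpowers c)
      rw [Nat.card_zpowers, hc, hC10] at h1
      omega
    have hfive : ∀ y : G, y ^ 5 = 1 → y ∈ Subgroup.zpowers (c : G) := by
      intro y hy
      have hyC : y ∈ C := by
        rw [← hker, MonoidHom.mem_ker, ← orderOf_eq_one_iff]
        refine Nat.eq_one_of_dvd_coprimes (show Nat.Coprime 5 12 by norm_num)
          ((orderOf_map_dvd f y).trans (orderOf_dvd_of_pow_eq_one hy)) ?_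
        have h1 := orderOf_dvd_natCard (⟨f y, ⟨y, rfl⟩⟩ : f.range)
        rwa [← Subgroup.orderOf_coe, hrange] at h1
      haveI := Subgroup.normal_of_index_eq_two hcZ
      have h2 := Subgroup.pow_index_mem (Subgroup.zpowers c) (⟨y, hyC⟩ : C)
      rw [hcZ, Subgroup.mem_zpowers_iff] at h2
      obtain ⟨i, hi⟩ := h2
      have hi' : (c : G) ^ i = y ^ 2 := congrArg Subtype.val hi
      rw [show y = (y ^ 2) ^ 3 by
        rw [← pow_mul, show 2 * 3 = 5 + 1 by norm_num, pow_add, hy, one_mul, pow_one], ← hi']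
      exact pow_mem (zpow_mem (Subgroup.mem_zpowers _) i) 3
    set Z : Subgroup G := Subgroup.zpowers (c : G)
    have hZc : Nat.card Z = 5 := by rw [Nat.card_zpowers, hco]
    haveI hZn : Z.Normal := ⟨fun z hz x => hfive _ (by
      rw [conj_pow, show z ^ 5 = 1 from orderOf_dvd_iff_pow_eq_one.1 (hco ▸ orderOf_dvd_of_mem_zpowers hz),
        mul_one, mul_inv_cancel])⟩
    let φ : G →* MulAut Z := MulAut.conjNormal
    have hcentral : φ.ker = ⊤ := by
      haveI : IsCyclic Z := inferInstance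
      have hA : Nat.card (MulAut Z) = 4 := by
        rw [IsCyclic.card_mulAut, hZc]; decide
      have hd : φ.ker.index ∣ 2 ^ 2 := by
        rw [Subgroup.index_ker, show 2 ^ 2 = Nat.card (MulAut Z) by rw [hA]; norm_num]
        exact Subgroup.card_subgroup_dvd_card _
      obtain ⟨k, -, hk⟩ := (Nat.dvd_prime_pow Nat.prime_two).1 hd
      by_contra hne
      have hk0 : k ≠ 0 := by
        rintro rfl
        exact hne (Subgroup.index_eq_one.1 (by simpa using hk))
      obtain ⟨M, hM, hMi⟩ := index_two_of_two_pow hk0 φ.ker hk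
      exact hno M hM hMi
    have hcomm : ∀ x : G, ∀ z ∈ Z, x * z = z * x := fun x z hz => by
      have h1 : φ x = 1 := MonoidHom.mem_ker.1 (hcentral ▸ Subgroup.mem_top x)
      have h2 : ((φ x ⟨z, hz⟩ : Z) : G) = z := by rw [h1]; rfl
      rw [MulAut.conjNormal_apply, mul_inv_eq_iff_eq_mul] at h2
      exact h2
    -- an element of order three moving `Q`
    set g₃ : G := g ^ 5 with hg₃
    have hg15 : g ^ 15 = 1 := by
      refine orderOf_dvd_iff_pow_eq_one.1 ?_
      have hdvd : orderOf g ∣ 120 := hG' ▸ orderOf_dvd_natCard g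
      exact Nat.Coprime.dvd_of_dvd_mul_left (k := orderOf g) (m := 8)
        (Nat.Coprime.pow_right 3 hgo) hdvd
    have hg33 : g₃ ^ 3 = 1 := by rw [hg₃, ← pow_mul]; exact hg15
    have hg₃Q : g₃ ∉ C := by
      intro h5
      have h3 : g ^ 3 ∈ C := by
        have := hfive (g ^ 3) (by rw [← pow_mul]; exact hg15)
        exact (Subgroup.zpowers_le.2 c.2) this
      apply hg
      have : g = (g ^ 3) ^ 2 * (g₃)⁻¹ := by rw [hg₃]; group
      rw [this]
      exact mul_mem (pow_mem h3 2) (inv_mem h5)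
    set M : Subgroup G := Q ⊔ Subgroup.zpowers g₃ with hMdef
    have hQc : Nat.card Q = 8 := by
      rw [Nat.card_congr e.toEquiv, Nat.card_eq_fintype_card, QuaternionGroup.card]
    have hg3o : orderOf g₃ = 3 :=
      orderOf_eq_prime hg33 fun e1 => hg₃Q (e1 ▸ one_mem _)
    have hM24 : Nat.card M = 24 := by
      have hdisj : Q ⊓ Subgroup.zpowers g₃ = ⊥ := Subgroup.inf_eq_bot_of_coprime (by
        rw [hQc, Nat.card_zpowers, hg3o]; norm_num)
      have h1 := Cfsg.Agent.Solv.card_mul_set_mul_card_inf Q (Subgroup.zpowers g₃)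
      rw [hdisj, Subgroup.card_bot, mul_one, hQc, Nat.card_zpowers, hg3o] at h1
      refine Eq.trans ?_ (h1.trans (by norm_num))
      rw [hMdef, ← SetLike.coe_sort_coe, Subgroup.normal_mul]
    have hMZ : M ⊓ Z = ⊥ := Subgroup.inf_eq_bot_of_coprime (by rw [hM24, hZc]; norm_num)
    let F : M × Z →* G := MonoidHom.noncommCoprod M.subtype Z.subtype (fun a b => hcomm a b b.2)
    have hF : Function.Bijective F := by
      have hinj : Function.Injective F := by
        rw [← MonoidHom.ker_eq_bot_iff, Subgroup.eq_bot_iff_forall]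
        rintro ⟨a, b⟩ hab
        have h1 : (a : G) * b = 1 := hab
        have h2 : (a : G) ∈ M ⊓ Z := ⟨a.2, by rw [eq_inv_of_mul_eq_one_left h1]; exact Z.inv_mem b.2⟩
        rw [hMZ, Subgroup.mem_bot] at h2
        rw [h2, one_mul] at h1
        exact Prod.ext (Subtype.ext h2) (Subtype.ext h1)
      exact (Nat.bijective_iff_injective_and_card F).2 ⟨hinj, by rw [Nat.card_prod, hM24, hZc, hG']⟩
    have hQM : Q ≤ M := le_sup_left
    have hgM : g₃ ∈ M := (le_sup_right : _ ≤ M) (Subgroup.mem_zpowers g₃)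
    obtain ⟨i⟩ := sl23_of_order hM24 (Q := Q.subgroupOf M)
      (e.symm.trans (Subgroup.subgroupOfEquivOfLe hQM).symm) (g := ⟨g₃, hgM⟩)
      (Subgroup.normalizer_eq_top (Q.subgroupOf M) ▸ Subgroup.mem_top _) (Subtype.ext hg33)
      (fun hc' => hg₃Q (Subgroup.mem_centralizer_iff.2 fun q hq =>
        congrArg Subtype.val (Subgroup.mem_centralizer_iff.1 hc' ⟨q, hQM hq⟩ hq)))
    exact ⟨(MulEquiv.ofBijective F hF).symm.trans (i.prodCongr
      (mulEquivOfCyclicCardEq (by rw [hZc]; simp)))⟩
  · exfalso; omega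

end Cfsg.Agent.Lie.HuppertRegular
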