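import Mathlib

/-!
Automorphisms of prime order of finite abelian groups with a non-degenerate pairing into the
multiplicative group of a field.
-/

set_option autoImplicit false
set_option linter.style.haveILetI false

namespace Cfsg.Agent.Lie.PairingAuto

universe u v

/-- A finite abelian group has at most as many homomorphisms into the units of a field as elements. -/
theorem card_hom_le (Q : Type u) [AddCommGroup Q] [Finite Q] (K : Type v) [Field K] :
    Nat.card (Q →+ Additive Kˣ) ≤ Nat.card Q := by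
  classical
  haveI := Fintype.ofFinite Q
  have hli := linearIndependent_monoidHom (Multiplicative Q) K
  let F : (Q →+ Additive Kˣ) → (Multiplicative Q →* K) := fun f =>
    (Units.coeHom K).comp (AddMonoidHom.toMultiplicativeLeft f)
  have hF : Function.Injective F := fun f g h => AddMonoidHom.ext fun q =>
    Units.ext (DFunLike.congr_fun h (Multiplicative.ofAdd q))
  haveI : Finite (Multiplicative Q →* K) := hli.finite
  haveI := Fintype.ofFinite (Multiplicative Q →* K)
  refine (Nat.card_le_card_of_injective F hF).trans ?_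
  have := hli.fintype_card_le_finrank
  rw [Module.finrank_fintype_fun_eq_card, Fintype.card_multiplicative] at this
  rw [Nat.card_eq_fintype_card, Nat.card_eq_fintype_card]
  exact this

variable {X : Type u} [AddCommGroup X] [Finite X] {K : Type v} [Field K]
  (b : X →+ X →+ Additive Kˣ) (hnd : ∀ x, (∀ y, b x y = 0) → x = 0)

include hnd

/-- An automorphism of prime order preserving the pairing. -/
theorem auto_bound (T : X ≃+ X) (hT : ∀ x y, b (T x) (T y) = b x y) {s : ℕ} (hs : s.Prime)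
    (hTs : ∀ x, (⇑T)^[s] x = x) (hT1 : ∃ x, T x ≠ x) (hsX : ¬ s ∣ Nat.card X) :
    ∃ r j : ℕ, r.Prime ∧ r ∣ Nat.card X ∧ 0 < j ∧ s ∣ r ^ j - 1 ∧
      (r ^ (2 * j) ≤ Nat.card X ∨ ∃ i, s ∣ r ^ i + 1 ∧ r ^ (2 * i) ≤ r ^ j ∧ r ^ j ≤ Nat.card X ∧
        (r ^ j = Nat.card X → ∀ (P : Type u) [Group P] (φ : P →* AddMonoid.End X),
          Function.Injective φ → (∀ g x, φ g (T x) = T (φ g x)) → Nat.card P ∣ r ^ j - 1)) := by
  classical
  -- vectors `T x - x` are moved
  have hfree : ∀ x, T (T x - x) = T x - x → T x - x = 0 := by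
    intro x hw
    set w := T x - x with hwdef
    have hk : ∀ k : ℕ, (⇑T)^[k] x = x + k • w := by
      intro k
      induction k with
      | zero => simp
      | succ k ih =>
        rw [Function.iterate_succ_apply', ih, map_add, map_nsmul, hw, succ_nsmul, hwdef]
        abel
    have h1 : s • w = 0 := by
      have := hk s
      rw [hTs] at this
      exact add_eq_left.1 this.symm
    by_contra hne
    have h2 : addOrderOf w = s := by
      rcases hs.eq_one_or_self_of_dvd _ (addOrderOf_dvd_of_nsmul_eq_zero h1) with h | h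
      · exact absurd (AddMonoid.addOrderOf_eq_one_iff.1 h) hne
      · exact h
    exact hsX (h2 ▸ addOrderOf_dvd_natCard w)
  let D : X →+ X := T.toAddMonoidHom - AddMonoidHom.id X
  have hDinv : ∀ v ∈ D.range, T v ∈ D.range := by
    rintro _ ⟨x, rfl⟩
    exact ⟨T x, by simp [D, map_sub]⟩
  obtain ⟨x₁, hx₁⟩ := hT1
  have hD0 : D.range ≠ ⊥ := fun h => hx₁ (sub_eq_zero.1 ((AddSubgroup.mem_bot).1 (h ▸ (⟨x₁, rfl⟩ : T x₁ - x₁ ∈ D.range))))
  haveI : Finite (AddSubgroup X) := Finite.of_injective _ SetLike.coe_injective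
  obtain ⟨W, ⟨hW0, hWD, hWi⟩, hmin⟩ := Set.exists_min_image
    {W : AddSubgroup X | W ≠ ⊥ ∧ W ≤ D.range ∧ ∀ w ∈ W, T w ∈ W}
    (fun W : AddSubgroup X => Nat.card W) (Set.toFinite _) ⟨D.range, hD0, le_rfl, hDinv⟩
  have hirr : ∀ U : AddSubgroup X, U ≤ W → (∀ w ∈ U, T w ∈ U) → U = ⊥ ∨ U = W := by
    intro U hU hUi
    by_cases h : U = ⊥
    · exact Or.inl h
    · exact Or.inr (AddSubgroup.eq_of_le_of_card_ge hU (hmin U ⟨h, hU.trans hWD, hUi⟩))
  have hWne : ∀ w ∈ W, T w = w → w = 0 := by
    intro w hw hTw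
    obtain ⟨x, rfl⟩ := hWD hw
    exact hfree x hTw
  -- `W` is elementary
  obtain ⟨r, hr, hrW⟩ := Nat.exists_prime_and_dvd (n := Nat.card W) (by
    rw [Ne, AddSubgroup.card_eq_one]; exact hW0)
  haveI := Fact.mk hr
  have hrX : r ∣ Nat.card X := hrW.trans (AddSubgroup.card_addSubgroup_dvd_card W)
  have hrtor : ∀ w ∈ W, r • w = 0 := by
    rcases hirr { carrier := {w | w ∈ W ∧ r • w = 0}
                  add_mem' := fun {a c} ha hc => ⟨add_mem ha.1 hc.1, by rw [nsmul_add, ha.2, hc.2, add_zero]⟩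
                  zero_mem' := ⟨zero_mem W, nsmul_zero r⟩
                  neg_mem' := fun {a} ha => ⟨neg_mem ha.1, by rw [neg_nsmul, ha.2, neg_zero]⟩ }
      (fun w hw => hw.1) (fun w hw => ⟨hWi w hw.1, by rw [← map_nsmul, hw.2, map_zero]⟩) with h | h
    · exfalso
      obtain ⟨w, hw⟩ := exists_prime_addOrderOf_dvd_card' r hrW
      have h1 : r • (w : X) = 0 := by
        rw [← AddSubgroupClass.coe_nsmul, ← hw, addOrderOf_nsmul_eq_zero, ZeroMemClass.coe_zero]
      have h2 : (w : X) ∈ (⊥ : AddSubgroup X) := h ▸ (⟨w.2, h1⟩ : (w : X) ∈ W ∧ r • (w : X) = 0)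
      rw [AddSubgroup.mem_bot, ZeroMemClass.coe_eq_zero] at h2
      rw [h2, addOrderOf_zero] at hw
      exact hr.ne_one hw.symm
    · intro w hw
      have h' : w ∈ ({ carrier := {w | w ∈ W ∧ r • w = 0}
                       add_mem' := fun {a c} ha hc => ⟨add_mem ha.1 hc.1, by rw [nsmul_add, ha.2, hc.2, add_zero]⟩
                       zero_mem' := ⟨zero_mem W, nsmul_zero r⟩
                       neg_mem' := fun {a} ha => ⟨neg_mem ha.1, by rw [neg_nsmul, ha.2, neg_zero]⟩ } : AddSubgroup X) :=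
        h.symm ▸ hw
      exact h'.2
  -- the field generated by the restriction
  let TW : AddMonoid.End W :=
    { toFun := fun w => ⟨T w, hWi w w.2⟩
      map_zero' := Subtype.ext (map_zero T)
      map_add' := fun w w' => Subtype.ext (map_add T (w : X) w') }
  let L : Subring (AddMonoid.End W) := Subring.centralizer {TW}
  haveI : Finite (AddMonoid.End W) := Finite.of_injective (fun f => ⇑f) DFunLike.coe_injective
  have hLc : ∀ l : L, ∀ w : W, (l : AddMonoid.End W) (TW w) = TW ((l : AddMonoid.End W) w) := fun l w =>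
    (DFunLike.congr_fun (Subring.mem_centralizer_iff.1 l.2 TW rfl) w).symm
  have hTWL : TW ∈ L := Subring.mem_centralizer_iff.2 fun g hg => by rw [Set.mem_singleton_iff.1 hg]
  obtain ⟨w₀, hw₀⟩ : ∃ w : W, w ≠ 0 := by
    by_contra h
    push Not at h
    exact hW0 ((AddSubgroup.eq_bot_iff_forall W).2 fun x hx => congrArg Subtype.val (h ⟨x, hx⟩))
  have hinj : ∀ l : L, l ≠ 0 → ∀ w : W, (l : AddMonoid.End W) w = 0 → w = 0 := by
    intro l hl w hw
    let U : AddSubgroup X :=
      (AddMonoidHom.ker (l : AddMonoid.End W)).map W.subtype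
    rcases hirr U (AddSubgroup.map_subtype_le _) (by
      rintro _ ⟨u, hu, rfl⟩
      refine ⟨TW u, ?_, rfl⟩
      show (l : AddMonoid.End W) (TW u) = 0
      rw [hLc, show (l : AddMonoid.End W) u = 0 from hu, map_zero]) with h | h
    · have h1 : (w : X) ∈ U := ⟨w, hw, rfl⟩
      rw [h, AddSubgroup.mem_bot] at h1
      exact Subtype.ext h1
    · exfalso
      refine hl (Subtype.ext (AddMonoidHom.ext fun v => ?_))
      have h1 : (v : X) ∈ U := h.symm ▸ v.2
      obtain ⟨u, hu, huv⟩ := h1
      rw [← Subtype.ext (a1 := u) (a2 := v) huv]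
      exact hu
  haveI : NoZeroDivisors L := ⟨fun {l m} h => by
    by_contra hne
    rw [not_or] at hne
    refine hne.2 (Subtype.ext (AddMonoidHom.ext fun v => ?_))
    exact hinj l hne.1 _ (DFunLike.congr_fun (congrArg Subtype.val h) v)⟩
  haveI : Nontrivial L := ⟨⟨0, 1, fun e => hw₀ (DFunLike.congr_fun (congrArg Subtype.val e) w₀).symm⟩⟩
  haveI : IsDomain L := NoZeroDivisors.to_isDomain L
  letI : Field L := (Finite.isDomain_to_isField L).toField
  let ev : L →+ W :=
    { toFun := fun l => (l : AddMonoid.End W) w₀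
      map_zero' := rfl
      map_add' := fun _ _ => rfl }
  have hevinj : Function.Injective ev := by
    rw [injective_iff_map_eq_zero]
    intro l hl
    by_contra hne
    exact hw₀ (hinj l hne w₀ hl)
  have hfull : ∀ S : AddSubgroup L, (1 : L) ∈ S → (∀ l ∈ S, (⟨TW, hTWL⟩ : L) * l ∈ S) →
      ∀ w : W, ∃ l ∈ S, ev l = w := by
    intro S h1 hT' w
    let U : AddSubgroup X := ((S.map ev).map W.subtype)
    rcases hirr U (AddSubgroup.map_subtype_le _) (by
      rintro _ ⟨_, ⟨l, hl, rfl⟩, rfl⟩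
      exact ⟨TW (ev l), ⟨_, hT' l hl, rfl⟩, rfl⟩) with h | h
    · have h2 : (w₀ : X) ∈ U := ⟨w₀, ⟨1, h1, rfl⟩, rfl⟩
      rw [h, AddSubgroup.mem_bot] at h2
      exact absurd (Subtype.ext h2) hw₀
    · have h2 : (w : X) ∈ U := h.symm ▸ w.2
      obtain ⟨_, ⟨l, hl, rfl⟩, hl'⟩ := h2
      exact ⟨l, hl, Subtype.ext hl'⟩
  have hcardW : Nat.card L = Nat.card W := Nat.card_congr (Equiv.ofBijective ev ⟨hevinj, fun w => by
    obtain ⟨l, -, hl⟩ := hfull ⊤ (AddSubgroup.mem_top _) (fun _ _ => AddSubgroup.mem_top _) w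
    exact ⟨l, hl⟩⟩)
  haveI : CharP L r := by
    refine CharP.charP_iff_prime_eq_zero hr |>.2 (Subtype.ext (AddMonoidHom.ext fun w => Subtype.ext ?_))
    show (((((r : ℕ) : L) : AddMonoid.End W) w : W) : X) = 0
    rw [Subring.coe_natCast, AddMonoid.End.natCast_apply, AddSubgroupClass.coe_nsmul, hrtor _ w.2]
  letI : Algebra (ZMod r) L := ZMod.algebra L r
  haveI : Finite L := inferInstance
  set j := Module.finrank (ZMod r) L with hj
  have hLj : Nat.card L = r ^ j := by
    rw [Module.natCard_eq_pow_finrank (K := ZMod r), Nat.card_zmod]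
  have hj0 : 0 < j := Module.finrank_pos
  -- the order of `T` in the field
  set t : L := ⟨TW, hTWL⟩ with ht
  have htpow : ∀ (k : ℕ) (w : W), (((t ^ k : L) : AddMonoid.End W) w : X) = (⇑T)^[k] w := by
    intro k
    induction k with
    | zero => intro w; rfl
    | succ k ih =>
      intro w
      rw [Function.iterate_succ_apply', ← ih, pow_succ']
      rfl
  have hts : t ^ s = 1 := Subtype.ext (AddMonoidHom.ext fun w => Subtype.ext ((htpow s w).trans (hTs _)))
  have ht1 : t ≠ 1 := fun h => hw₀ (Subtype.ext (hWne _ w₀.2 (by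
    have := congrArg (fun l : L => (((l : AddMonoid.End W) w₀ : W) : X)) h
    exact this)))
  have ht0 : t ≠ 0 := fun h => by
    rw [h, zero_pow hs.ne_zero] at hts
    exact zero_ne_one hts
  have hord : orderOf t = s := by
    haveI := Fact.mk hs
    exact orderOf_eq_prime hts ht1
  have hs1 : s ∣ r ^ j - 1 := by
    rw [← hLj, ← hord, show t = ((Units.mk0 t ht0 : Lˣ) : L) from rfl, orderOf_units]
    exact (orderOf_dvd_natCard _).trans (dvd_of_eq (Nat.card_units L))
  have hWX : r ^ j ≤ Nat.card X := by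
    rw [← hLj, hcardW]; exact Nat.card_le_card_of_injective _ Subtype.val_injective
  refine ⟨r, j, hr, hrX, hj0, hs1, ?_⟩
  -- the radical on `W`
  have hTWsurj : ∀ w ∈ W, ∃ v ∈ W, T v = w := fun w hw => by
    have hi : Function.Injective (fun v : W => (⟨T v, hWi v v.2⟩ : W)) := fun v v' h =>
      Subtype.ext (T.injective (congrArg Subtype.val h))
    obtain ⟨v, hv⟩ := (Finite.injective_iff_surjective.1 hi) ⟨w, hw⟩
    exact ⟨v, v.2, congrArg Subtype.val hv⟩
  let rad : AddSubgroup X :=
    { carrier := {w | w ∈ W ∧ ∀ v ∈ W, b w v = 0}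
      add_mem' := fun {a c} ha hc => ⟨add_mem ha.1 hc.1, fun v hv => by
        rw [map_add, AddMonoidHom.add_apply, ha.2 v hv, hc.2 v hv, add_zero]⟩
      zero_mem' := ⟨zero_mem W, fun v _ => by rw [map_zero, AddMonoidHom.zero_apply]⟩
      neg_mem' := fun {a} ha => ⟨neg_mem ha.1, fun v hv => by
        rw [map_neg, AddMonoidHom.neg_apply, ha.2 v hv, neg_zero]⟩ }
  rcases hirr rad (fun w hw => hw.1) (fun w hw => ⟨hWi w hw.1, fun v hv => by
    obtain ⟨v', hv', rfl⟩ := hTWsurj v hv
    rw [hT]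
    exact hw.2 v' hv'⟩) with hrad | hrad
  swap
  · -- isotropic
    left
    let φ : W → ((X ⧸ W) →+ Additive Kˣ) := fun w =>
      QuotientAddGroup.lift W (b w) fun v hv => AddMonoidHom.mem_ker.2
        ((show (w : X) ∈ rad from hrad.symm ▸ w.2).2 v hv)
    have hφ : Function.Injective φ := fun w w' h => Subtype.ext (sub_eq_zero.1 (hnd _ fun y => by
      have h' : b w y = b w' y := DFunLike.congr_fun h (QuotientAddGroup.mk y)
      rw [map_sub, AddMonoidHom.sub_apply, h', sub_self]))
    haveI : Finite ((X ⧸ W) →+ Additive Kˣ) := by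
      haveI : Finite (Multiplicative (X ⧸ W) →* K) := (linearIndependent_monoidHom (Multiplicative (X ⧸ W)) K).finite
      exact Finite.of_injective
        (fun f : (X ⧸ W) →+ Additive Kˣ => (Units.coeHom K).comp (AddMonoidHom.toMultiplicativeLeft f))
        fun f g h => AddMonoidHom.ext fun q => Units.ext (DFunLike.congr_fun h (Multiplicative.ofAdd q))
    have h1 := (Nat.card_le_card_of_injective φ hφ).trans (card_hom_le _ K)
    rw [two_mul, pow_add, ← hLj, hcardW, AddSubgroup.card_eq_card_quotient_mul_card_addSubgroup W]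
    exact Nat.mul_le_mul_right _ h1
  right
  have hnondeg : ∀ w : W, (∀ v : W, b w v = 0) → w = 0 := fun w hw => by
    have h1 : (w : X) ∈ rad := ⟨w.2, fun v hv => hw ⟨v, hv⟩⟩
    rw [hrad, AddSubgroup.mem_bot] at h1
    exact Subtype.ext h1
  have hLcomm : ∀ l m : L, ∀ w : W,
      (l : AddMonoid.End W) ((m : AddMonoid.End W) w) = (m : AddMonoid.End W) ((l : AddMonoid.End W) w) :=
    fun l m w => DFunLike.congr_fun (congrArg Subtype.val (mul_comm l m)) w
  -- adjoints
  let Adj : L → L → Prop := fun l l' => ∀ v w : W,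
    b ((l : AddMonoid.End W) v : X) (w : X) = b (v : X) ((l' : AddMonoid.End W) w : X)
  have hAadd : ∀ l m l' m', Adj l l' → Adj m m' → Adj (l + m) (l' + m') := fun l m l' m' h h' v w => by
    show b (((l : AddMonoid.End W) v : X) + ((m : AddMonoid.End W) v : X)) (w : X) =
      b (v : X) (((l' : AddMonoid.End W) w : X) + ((m' : AddMonoid.End W) w : X))
    rw [map_add, AddMonoidHom.add_apply, map_add, h v w, h' v w]
  have hAmul : ∀ l m l' m', Adj l l' → Adj m m' → Adj (l * m) (l' * m') := fun l m l' m' h h' v w => by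
    show b ((l : AddMonoid.End W) ((m : AddMonoid.End W) v) : X) (w : X) =
      b (v : X) ((l' : AddMonoid.End W) ((m' : AddMonoid.End W) w) : X)
    rw [h, h', hLcomm l' m']
  have htinv : Adj t t⁻¹ := fun v w => by
    obtain ⟨u, rfl⟩ : ∃ u, (t : AddMonoid.End W) u = w := ⟨((t⁻¹ : L) : AddMonoid.End W) w, by
      have := DFunLike.congr_fun (congrArg Subtype.val (mul_inv_cancel₀ ht0)) w
      exact this⟩
    have hu : ((t⁻¹ : L) : AddMonoid.End W) ((t : AddMonoid.End W) u) = u :=
      DFunLike.congr_fun (congrArg Subtype.val (inv_mul_cancel₀ ht0)) u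
    rw [hu]
    exact hT (v : X) (u : X)
  let S : AddSubgroup L :=
    { carrier := {l | ∃ l', Adj l l'}
      add_mem' := fun {a c} ⟨a', ha⟩ ⟨c', hc⟩ => ⟨a' + c', hAadd a c a' c' ha hc⟩
      zero_mem' := ⟨0, fun v w => by
        show b (0 : X) (w : X) = b (v : X) (0 : X)
        rw [map_zero, map_zero, AddMonoidHom.zero_apply]⟩
      neg_mem' := fun {a} ⟨a', ha⟩ => ⟨-a', fun v w => by
        show b (-((a : AddMonoid.End W) v : X)) (w : X) = b (v : X) (-((a' : AddMonoid.End W) w : X))
        rw [map_neg, AddMonoidHom.neg_apply, map_neg, ha v w]⟩ }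
  have hS : ∀ l : L, l ∈ S := by
    intro l
    obtain ⟨l₁, hl₁, he⟩ := hfull S ⟨1, fun v w => rfl⟩
      (fun m ⟨m', hm⟩ => ⟨t⁻¹ * m', hAmul t m t⁻¹ m' htinv hm⟩) (ev l)
    rwa [← hevinj he]
  choose σ hσ using hS
  -- symmetric non-degeneracy on the right
  have hnondeg' : ∀ u : W, (∀ v : W, b (v : X) (u : X) = 0) → u = 0 := by
    intro u hu
    by_contra hne
    let U : AddSubgroup X :=
      { carrier := {x | x ∈ W ∧ ∀ v : W, b (v : X) x = 0}
        add_mem' := fun {a c} ha hc => ⟨add_mem ha.1 hc.1, fun v => by rw [map_add, ha.2, hc.2, add_zero]⟩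
        zero_mem' := ⟨zero_mem W, fun v => map_zero _⟩
        neg_mem' := fun {a} ha => ⟨neg_mem ha.1, fun v => by rw [map_neg, ha.2, neg_zero]⟩ }
    rcases hirr U (fun x hx => hx.1) (fun x hx => ⟨hWi x hx.1, fun v => by
      obtain ⟨v', hv', hv''⟩ := hTWsurj v v.2
      rw [← hv'', hT]
      exact hx.2 ⟨v', hv'⟩⟩) with h | h
    · have h1 : (u : X) ∈ U := ⟨u.2, hu⟩
      rw [h, AddSubgroup.mem_bot] at h1
      exact hne (Subtype.ext h1)
    · exact hw₀ (hnondeg w₀ fun v => (show (v : X) ∈ U from h.symm ▸ v.2).2 w₀)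
  have huniq : ∀ l l₁ l₂, Adj l l₁ → Adj l l₂ → l₁ = l₂ := by
    intro l l₁ l₂ h₁ h₂
    refine Subtype.ext (AddMonoidHom.ext fun w => sub_eq_zero.1 (hnondeg' _ fun v => ?_))
    rw [AddSubgroupClass.coe_sub, map_sub]
    exact sub_eq_zero.2 ((h₁ v w).symm.trans (h₂ v w))
  let σh : L →ₐ[ZMod r] L :=
    { toFun := σ
      map_one' := huniq 1 _ _ (hσ 1) fun v w => rfl
      map_mul' := fun l m => huniq _ _ _ (hσ _) (hAmul _ _ _ _ (hσ l) (hσ m))
      map_zero' := huniq 0 _ _ (hσ 0) fun v w => by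
        show b (0 : X) (w : X) = b (v : X) (0 : X)
        rw [map_zero, map_zero, AddMonoidHom.zero_apply]
      map_add' := fun l m => huniq _ _ _ (hσ _) (hAadd _ _ _ _ (hσ l) (hσ m))
      commutes' := fun c => huniq _ _ _ (hσ _) (by
        intro v w
        rw [← ZMod.natCast_zmod_val c, map_natCast, Subring.coe_natCast, AddMonoid.End.natCast_apply,
          AddMonoid.End.natCast_apply, AddSubgroupClass.coe_nsmul, AddSubgroupClass.coe_nsmul,
          map_nsmul, map_nsmul, AddMonoidHom.nsmul_apply]) }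
  let σe : L ≃ₐ[ZMod r] L := AlgEquiv.ofBijective σh
    ⟨σh.toRingHom.injective, Finite.injective_iff_surjective.1 σh.toRingHom.injective⟩
  obtain ⟨i, hi⟩ := (FiniteField.bijective_frobeniusAlgEquivOfAlgebraic_pow (ZMod r) L).2 σe
  have hfrob : ∀ (k : ℕ) (l : L), (FiniteField.frobeniusAlgEquivOfAlgebraic (ZMod r) L ^ k) l = l ^ r ^ k := by
    intro k
    induction k with
    | zero => intro l; simp
    | succ k ih =>
      intro l
      rw [pow_succ, AlgEquiv.mul_apply, ih]
      show (l ^ Fintype.card (ZMod r)) ^ r ^ k = _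
      rw [ZMod.card, ← pow_mul, pow_succ']
  have hti : t ^ r ^ (i : ℕ) = t⁻¹ := by
    rw [← hfrob, show FiniteField.frobeniusAlgEquivOfAlgebraic (ZMod r) L ^ (i : ℕ) = σe from hi]
    exact huniq t _ _ (hσ t) htinv
  have hdiv : ∀ k, t ^ r ^ k = t⁻¹ → s ∣ r ^ k + 1 := fun k hk => by
    rw [← hord]
    exact orderOf_dvd_of_pow_eq_one (by rw [pow_succ, hk, inv_mul_cancel₀ ht0])
  have hcomm : r ^ j = Nat.card X → ∀ (P : Type u) [Group P] (φ : P →* AddMonoid.End X),
      Function.Injective φ → (∀ g x, φ g (T x) = T (φ g x)) → Nat.card P ∣ r ^ j - 1 := by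
    intro hjX P _ φ hφ hφT
    have hWtop : W = ⊤ := AddSubgroup.eq_top_of_card_eq W (by rw [← hcardW, hLj, hjX])
    have hmemW : ∀ x : X, x ∈ W := fun x => hWtop.symm ▸ AddSubgroup.mem_top x
    let ψ : P →* L :=
      { toFun := fun g => ⟨{ toFun := fun w => ⟨φ g w, hmemW _⟩
                             map_zero' := Subtype.ext (map_zero (φ g))
                             map_add' := fun w w' => Subtype.ext (map_add (φ g) (w : X) w') },
          Subring.mem_centralizer_iff.2 fun m hm => by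
            rw [Set.mem_singleton_iff.1 hm]
            exact AddMonoidHom.ext fun w => Subtype.ext (hφT g w).symm⟩
        map_one' := Subtype.ext (AddMonoidHom.ext fun w => Subtype.ext (by
          show φ 1 (w : X) = w
          rw [map_one]; rfl))
        map_mul' := fun g g' => Subtype.ext (AddMonoidHom.ext fun w => Subtype.ext (by
          show φ (g * g') (w : X) = φ g (φ g' w)
          rw [map_mul]; rfl)) }
    have hψ : Function.Injective ψ.toHomUnits := fun g g' h => hφ (AddMonoidHom.ext fun x => by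
      have h1 := congrArg (fun l : Lˣ => ((((l : L) : AddMonoid.End W) ⟨x, hmemW _⟩ : W) : X)) h
      exact h1)
    have := Subgroup.card_dvd_of_injective ψ.toHomUnits hψ
    rwa [Nat.card_units, hLj] at this
  by_cases hhalf : 2 * (i : ℕ) ≤ j
  · exact ⟨i, hdiv i hti, Nat.pow_le_pow_right hr.pos hhalf, hWX, hcomm⟩
  · refine ⟨j - i, hdiv _ ?_, Nat.pow_le_pow_right hr.pos (by omega), hWX, hcomm⟩
    have h1 : t ^ r ^ j = t := by
      haveI := Fintype.ofFinite L
      rw [← hLj, Nat.card_eq_fintype_card]; exact FiniteField.pow_card t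
    have hij : (i : ℕ) ≤ j := i.2.le
    rw [show r ^ j = r ^ (i : ℕ) * r ^ (j - i) by rw [← pow_add, Nat.add_sub_cancel' hij], pow_mul, hti,
      inv_pow] at h1
    rw [← inv_inv (t ^ r ^ (j - i)), h1]

end Cfsg.Agent.Lie.PairingAuto
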