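import Mathlib
import Cfsg.Agent.Lib.Perm.Fpf.Semilinear

/-!
Abelian normal subgroups of linear groups transitive on the nonzero vectors.
-/

set_option autoImplicit false
set_option linter.style.haveILetI false
set_option linter.unusedSectionVars false

namespace Cfsg.Agent.Lie.TransitiveField

universe u

variable {p : ℕ} [Fact p.Prime] {V : Type u} [AddCommGroup V] [Module (ZMod p) V] [Finite V]
  (H : Subgroup (V ≃ₗ[ZMod p] V))

/-- The action as an endomorphism. -/
def act (h : H) : Module.End (ZMod p) V := ((h : V ≃ₗ[ZMod p] V) : V →ₗ[ZMod p] V)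

variable {H}

theorem act_apply (h : H) (x : V) : act H h x = (h : V ≃ₗ[ZMod p] V) x := rfl

theorem act_one : act H 1 = 1 := rfl

theorem act_mul (g h : H) : act H (g * h) = act H g * act H h := rfl

theorem act_mul_inv (h : H) : act H h * act H h⁻¹ = 1 := LinearMap.ext fun x =>
  (h : V ≃ₗ[ZMod p] V).apply_symm_apply x

theorem act_inv_mul (h : H) : act H h⁻¹ * act H h = 1 := LinearMap.ext fun x =>
  (h : V ≃ₗ[ZMod p] V).symm_apply_apply x

theorem act_injective : Function.Injective (act H) := fun g h e =>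
  Subtype.ext (LinearEquiv.ext fun x => LinearMap.congr_fun e x)

/-- The ring spanned by a normal abelian subgroup of a transitive linear group is a field. -/
theorem exists_ring [Nontrivial V]
    (htr : ∀ v w : V, v ≠ 0 → w ≠ 0 → ∃ h : H, act H h v = w)
    (A : Subgroup H) [hAn : A.Normal] (hAc : IsMulCommutative A) :
    ∃ L : Subring (Module.End (ZMod p) V),
      (∀ a ∈ A, act H a ∈ L) ∧
      (∀ l ∈ L, ∀ m ∈ L, l * m = m * l) ∧
      (∀ h : H, ∀ l ∈ L, act H h * l * act H h⁻¹ ∈ L) ∧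
      (∀ l ∈ L, ∀ W : Submodule (ZMod p) V,
        (∀ a ∈ A, ∀ x ∈ W, act H a x ∈ W) → ∀ x ∈ W, l x ∈ W) ∧
      (∀ l ∈ L, ∀ x : V, x ≠ 0 → l x = 0 → l = 0) := by
  classical
  let S : Set (Module.End (ZMod p) V) := act H '' (A : Set H)
  let L : Subring (Module.End (ZMod p) V) := Subring.closure S
  have hA : ∀ a ∈ A, act H a ∈ L := fun a ha => Subring.subset_closure ⟨a, ha, rfl⟩
  have hc1 : ∀ l ∈ L, ∀ a ∈ A, l * act H a = act H a * l := by
    intro l hl
    induction hl using Subring.closure_induction with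
    | mem z hz =>
      obtain ⟨c, hc, rfl⟩ := hz
      intro a ha
      rw [← act_mul, ← act_mul]
      exact congrArg (act H) (congrArg Subtype.val (hAc.is_comm.comm (⟨c, hc⟩ : A) ⟨a, ha⟩))
    | zero => intro a _; simp
    | one => intro a _; simp
    | add y z _ _ hy hz => intro a ha; rw [add_mul, mul_add, hy a ha, hz a ha]
    | neg y _ hy => intro a ha; rw [neg_mul, mul_neg, hy a ha]
    | mul y z _ _ hy hz => intro a ha; rw [mul_assoc, hz a ha, ← mul_assoc, hy a ha, mul_assoc]
  have hc : ∀ l ∈ L, ∀ m ∈ L, l * m = m * l := by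
    intro l hl m hm
    induction hm using Subring.closure_induction with
    | mem z hz => obtain ⟨a, ha, rfl⟩ := hz; exact hc1 l hl a ha
    | zero => simp
    | one => simp
    | add y z _ _ hy hz => rw [add_mul, mul_add, hy, hz]
    | neg y _ hy => rw [neg_mul, mul_neg, hy]
    | mul y z _ _ hy hz => rw [← mul_assoc, hy, mul_assoc, hz, mul_assoc]
  have hconj : ∀ h : H, ∀ l ∈ L, act H h * l * act H h⁻¹ ∈ L := by
    intro h l hl
    induction hl using Subring.closure_induction with
    | mem z hz =>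
      obtain ⟨a, ha, rfl⟩ := hz
      rw [← act_mul, ← act_mul]
      exact hA _ (hAn.conj_mem a ha h)
    | zero => simp
    | one => rw [mul_one, act_mul_inv]; exact one_mem L
    | add y z _ _ hy hz => rw [mul_add, add_mul]; exact add_mem hy hz
    | neg y _ hy => rw [mul_neg, neg_mul]; exact neg_mem hy
    | mul y z _ _ hy hz =>
      have e : act H h * (y * z) * act H h⁻¹ =
          act H h * y * act H h⁻¹ * (act H h * z * act H h⁻¹) := by
        simp only [mul_assoc]
        rw [← mul_assoc (act H h⁻¹) (act H h), act_inv_mul, one_mul]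
      rw [e]
      exact mul_mem hy hz
  have hinv : ∀ l ∈ L, ∀ W : Submodule (ZMod p) V,
      (∀ a ∈ A, ∀ x ∈ W, act H a x ∈ W) → ∀ x ∈ W, l x ∈ W := by
    intro l hl W hW
    induction hl using Subring.closure_induction with
    | mem z hz => obtain ⟨a, ha, rfl⟩ := hz; exact hW a ha
    | zero => intro x _; exact W.zero_mem
    | one => intro x hx; exact hx
    | add y z _ _ hy hz => intro x hx; exact W.add_mem (hy x hx) (hz x hx)
    | neg y _ hy => intro x hx; exact W.neg_mem (hy x hx)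
    | mul y z _ _ hy hz => intro x hx; exact hy _ (hz x hx)
  refine ⟨L, hA, hc, hconj, hinv, ?_⟩
  -- orbits of the ring
  haveI : Finite (Module.End (ZMod p) V) := Finite.of_injective (fun f => ⇑f) DFunLike.coe_injective
  let O : V → AddSubgroup V := fun x =>
    AddMonoidHom.range
      ({ toFun := fun l : L => (l : Module.End (ZMod p) V) x, map_zero' := rfl, map_add' := fun _ _ => rfl } : L →+ V)
  have hmemO : ∀ x, x ∈ O x := fun x => ⟨1, rfl⟩
  obtain ⟨x₀, hx₀, hmin⟩ := Set.exists_min_image {x : V | x ≠ 0} (fun x => Nat.card (O x)) (Set.toFinite _)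
    (exists_ne (0 : V))
  have hsame : ∀ x : V, x ≠ 0 → Nat.card (O x) = Nat.card (O x₀) := by
    intro x hx
    refine le_antisymm ?_ (hmin x hx)
    obtain ⟨h, rfl⟩ := htr x₀ x hx₀ hx
    refine Nat.card_le_card_of_surjective
      (fun y : O x₀ => (⟨act H h y, by
        obtain ⟨⟨l, hl⟩, hly⟩ := y.2
        refine ⟨⟨_, hconj h l hl⟩, ?_⟩
        show act H h (l (act H h⁻¹ (act H h x₀))) = act H h y
        rw [show act H h⁻¹ (act H h x₀) = x₀ from LinearMap.congr_fun (act_inv_mul h) x₀]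
        exact congrArg (act H h) hly⟩ : O (act H h x₀))) ?_
    rintro ⟨_, ⟨⟨l, hl⟩, rfl⟩⟩
    have h1 := hconj h⁻¹ l hl
    rw [inv_inv] at h1
    refine ⟨⟨_, ⟨⟨_, h1⟩, rfl⟩⟩, Subtype.ext ?_⟩
    show act H h (act H h⁻¹ (l (act H h x₀))) = l (act H h x₀)
    exact LinearMap.congr_fun (act_mul_inv h) _
  have heq : ∀ x y : V, x ≠ 0 → y ∈ O x → y ≠ 0 → O y = O x := by
    intro x y hx hy hy0
    obtain ⟨⟨l, hl⟩, rfl⟩ := hy
    refine AddSubgroup.eq_of_le_of_card_ge ?_ (by rw [hsame x hx, hsame _ hy0])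
    rintro _ ⟨⟨m, hm⟩, rfl⟩
    exact ⟨⟨m * l, mul_mem hm hl⟩, rfl⟩
  -- annihilators
  let Ann : V → AddSubgroup L := fun x =>
    AddMonoidHom.ker
      ({ toFun := fun l : L => (l : Module.End (ZMod p) V) x, map_zero' := rfl, map_add' := fun _ _ => rfl } : L →+ V)
  have hcount : ∀ x : V, Nat.card (O x) * Nat.card (Ann x) = Nat.card L := by
    intro x
    rw [mul_comm]
    show Nat.card (Ann x) * Nat.card (O x) = _
    rw [← AddSubgroup.card_mul_index (Ann x), AddSubgroup.index_ker]
  have hAnn : ∀ x y : V, x ≠ 0 → y ∉ O x → Ann x = Ann y := by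
    intro x y hx hy
    have hy0 : y ≠ 0 := fun e => hy (e ▸ (O x).zero_mem)
    have hdisj : ∀ z, z ∈ O x → z ∈ O y → z = 0 := fun z hzx hzy => by
      by_contra hz
      exact hy (heq x z hx hzx hz ▸ (heq y z hy0 hzy hz).symm ▸ hmemO y)
    have hxy : x + y ≠ 0 := fun e => hy (by
      rw [eq_neg_of_add_eq_zero_right e]; exact neg_mem (hmemO x))
    have hle : ∀ l : L, l ∈ Ann (x + y) → l ∈ Ann x ∧ l ∈ Ann y := by
      intro l hl
      have h1 : (l : Module.End (ZMod p) V) x + (l : Module.End (ZMod p) V) y = 0 := by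
        rw [← map_add]; exact hl
      have h2 : (l : Module.End (ZMod p) V) x = 0 := hdisj _ ⟨l, rfl⟩ (by
        rw [eq_neg_of_add_eq_zero_left h1]; exact neg_mem ⟨l, rfl⟩)
      rw [h2, zero_add] at h1
      exact ⟨h2, h1⟩
    have hpos : 0 < Nat.card (O x₀) := Nat.card_pos
    have hc2 : ∀ z : V, z ≠ 0 → Nat.card (Ann z) = Nat.card L / Nat.card (O x₀) := fun z hz => by
      rw [← hcount z, hsame z hz, Nat.mul_div_cancel_left _ hpos]
    have e1 : Ann (x + y) = Ann x := AddSubgroup.eq_of_le_of_card_ge (fun l hl => (hle l hl).1)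
      (by rw [hc2 x hx, hc2 _ hxy])
    have e2 : Ann (x + y) = Ann y := AddSubgroup.eq_of_le_of_card_ge (fun l hl => (hle l hl).2)
      (by rw [hc2 y hy0, hc2 _ hxy])
    rw [← e1, e2]
  intro l hl x hx hlx
  have hlA : (⟨l, hl⟩ : L) ∈ Ann x := hlx
  by_cases hfull : ∀ y, y ∈ O x
  · refine LinearMap.ext fun y => ?_
    obtain ⟨⟨m, hm⟩, hmy⟩ := hfull y
    have hmy' : m x = y := hmy
    show l y = 0
    rw [← hmy', show l (m x) = m (l x) from LinearMap.congr_fun (hc l hl m hm) x, hlx, map_zero]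
  · push Not at hfull
    obtain ⟨z, hz⟩ := hfull
    have hz0 : l z = 0 := by
      have : (⟨l, hl⟩ : L) ∈ Ann z := hAnn x z hx hz ▸ hlA
      exact this
    refine LinearMap.ext fun y => ?_
    show l y = 0
    by_cases hy : y ∈ O x
    · have h1 : y + z ∉ O x := fun h => hz (by simpa using sub_mem h hy)
      have h2 : (⟨l, hl⟩ : L) ∈ Ann (y + z) := hAnn x _ hx h1 ▸ hlA
      have h3 : l (y + z) = 0 := h2
      rwa [map_add, hz0, add_zero] at h3
    · have : (⟨l, hl⟩ : L) ∈ Ann y := hAnn x y hx hy ▸ hlA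
      exact this

end Cfsg.Agent.Lie.TransitiveField
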