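import Mathlib
import Cfsg.Agent.Lib.Lie.TransitiveField
import Cfsg.Agent.Lib.Lie.PairingAuto
import Cfsg.Agent.S2904

/-!
Huppert's theorem: solvable linear groups transitive on the nonzero vectors which are not semilinear.
-/

set_option autoImplicit false
set_option linter.style.haveILetI false
set_option linter.unusedSectionVars false
set_option maxHeartbeats 8000000

namespace Cfsg.Agent.Lie.HuppertTransitive

open Cfsg.Agent.Lie.TransitiveField
open scoped commutatorElement

universe u

/-- `3 ^ m` outgrows `4 m + 1`. -/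
theorem three_pow_gt (m : ℕ) (hm : 4 ≤ m) : 4 * m + 1 < 3 ^ m := by
  induction m, hm using Nat.le_induction with
  | base => norm_num
  | succ m hm ih => rw [pow_succ]; omega

/-- Primes `p` with `p + 1 ∣ 24`. -/
theorem small_prime (p : ℕ) (hp : p.Prime) (h : p + 1 ∣ 24) (h2 : p ≠ 2) :
    p = 3 ∨ p = 5 ∨ p = 7 ∨ p = 11 ∨ p = 23 := by
  have := hp.two_le
  have := Nat.le_of_dvd (by norm_num) h
  have hle : p ≤ 23 := by omega
  interval_cases p <;> omega

theorem exceptional {p : ℕ} [Fact p.Prime] {V : Type u} [AddCommGroup V] [Module (ZMod p) V]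
    [Finite V] [Nontrivial V] (H : Subgroup (V ≃ₗ[ZMod p] V)) [hsol : Group.IsSolvable H]
    (htr : ∀ v w : V, v ≠ 0 → w ≠ 0 → ∃ h : H, act H h v = w)
    (hred : ∀ A : Subgroup H, A.Normal → IsMulCommutative A →
      ∃ W : Submodule (ZMod p) V, W ≠ ⊥ ∧ W ≠ ⊤ ∧ ∀ a ∈ A, ∀ x ∈ W, act H a x ∈ W) :
    Nat.card V = 9 ∨ Nat.card V = 25 ∨ Nat.card V = 49 ∨ Nat.card V = 121 ∨ Nat.card V = 529 ∨
      Nat.card V = 81 := by
  classical
  have hp : p.Prime := Fact.out
  haveI : Finite H := Cfsg.Agent.Perm.Fpf.Semilinear.finite_H H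
  obtain ⟨A, ⟨hAn, hAc⟩, hAmax'⟩ := Set.exists_max_image {A : Subgroup H | A.Normal ∧ IsMulCommutative A}
    (fun A : Subgroup H => Nat.card A) (Set.toFinite _) ⟨⊥, inferInstance, inferInstance⟩
  haveI := hAn
  have hAmax : ∀ B : Subgroup H, B.Normal → IsMulCommutative B → A ≤ B → B = A := fun B hB hBc hle =>
    (Subgroup.eq_of_le_of_card_ge hle (hAmax' B ⟨hB, hBc⟩)).symm
  obtain ⟨L, hAL, hLc, hLconj, hLW, hLinj⟩ := exists_ring htr A hAc
  haveI : Finite (Module.End (ZMod p) V) := Finite.of_injective (fun f => ⇑f) DFunLike.coe_injective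
  obtain ⟨v₀, hv₀⟩ := exists_ne (0 : V)
  haveI : Nontrivial L := ⟨⟨0, 1, fun e => hv₀ (LinearMap.congr_fun (congrArg Subtype.val e) v₀).symm⟩⟩
  haveI : NoZeroDivisors L := ⟨fun {l m} h => by
    by_contra hne
    rw [not_or] at hne
    obtain ⟨hl, hm⟩ := hne
    refine hm (Subtype.ext (LinearMap.ext fun v => ?_))
    by_contra hv
    exact hl (Subtype.ext (hLinj l l.2 _ hv (LinearMap.congr_fun (congrArg Subtype.val h) v)))⟩
  haveI : IsDomain L := NoZeroDivisors.to_isDomain L
  letI : Field L := (Finite.isDomain_to_isField L).toField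
  haveI : CharP L p := by
    refine CharP.charP_iff_prime_eq_zero hp |>.2 (Subtype.ext (LinearMap.ext fun x => ?_))
    rw [Subring.coe_natCast, Module.End.natCast_apply, ← Nat.cast_smul_eq_nsmul (ZMod p),
      ZMod.natCast_self, zero_smul]
    rfl
  letI : Algebra (ZMod p) L := ZMod.algebra L p
  letI : Module (ZMod p) L := Algebra.toModule
  haveI : Module.Finite L V := Module.Finite.of_finite
  set d := Module.finrank (ZMod p) L with hd
  set e := Module.finrank L V with he
  have hd0 : 0 < d := Module.finrank_pos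
  have hLd : Nat.card L = p ^ d := by
    rw [Module.natCard_eq_pow_finrank (K := ZMod p), Nat.card_zmod]
  have hLu : Nat.card Lˣ = p ^ d - 1 := by rw [Nat.card_units, hLd]
  have hVn : Nat.card V = p ^ (d * e) := by
    rw [Module.natCard_eq_pow_finrank (K := L), hLd, ← pow_mul]
  have he2 : 2 ≤ e := by
    have he0 : 0 < e := Module.finrank_pos
    by_contra hlt
    have he1 : e = 1 := by omega
    obtain ⟨W, hW0, hWt, hWA⟩ := hred A hAn hAc
    let W' : Submodule L V :=
      { carrier := W
        add_mem' := fun {a b} ha hb => W.add_mem ha hb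
        zero_mem' := W.zero_mem
        smul_mem' := fun l x hx => hLW l l.2 W hWA x hx }
    rcases (isSimpleModule_iff_finrank_eq_one.2 he1 : IsSimpleModule L V).eq_bot_or_eq_top W' with h | h
    · exact hW0 ((Submodule.eq_bot_iff _).2 fun x hx => (Submodule.eq_bot_iff _).1 h x hx)
    · exact hWt ((Submodule.eq_top_iff').2 fun x => (Submodule.eq_top_iff'.1 h x :))
  set n := d * e with hn
  have hdn : d < n := by
    rw [hn]
    calc d = d * 1 := (mul_one d).symm
      _ < d * e := (Nat.mul_lt_mul_left hd0).2 he2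
  have hen : e ≤ n := Nat.le_mul_of_pos_left e hd0
  -- action on the field
  let σr : H → (L ≃+* L) := fun h =>
    { toFun := fun l => ⟨_, hLconj h l l.2⟩
      invFun := fun l => ⟨_, hLconj h⁻¹ l l.2⟩
      left_inv := fun l => Subtype.ext (by
        show act H h⁻¹ * (act H h * (l : Module.End (ZMod p) V) * act H h⁻¹) * act H h⁻¹⁻¹ = _
        rw [inv_inv, ← mul_assoc, ← mul_assoc, act_inv_mul, one_mul, mul_assoc, act_inv_mul, mul_one])
      right_inv := fun l => Subtype.ext (by
        show act H h * (act H h⁻¹ * (l : Module.End (ZMod p) V) * act H h⁻¹⁻¹) * act H h⁻¹ = _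
        rw [inv_inv, ← mul_assoc, ← mul_assoc, act_mul_inv, one_mul, mul_assoc, act_mul_inv, mul_one])
      map_mul' := fun l m => Subtype.ext (by
        show act H h * ((l : Module.End (ZMod p) V) * m) * act H h⁻¹ =
          act H h * l * act H h⁻¹ * (act H h * m * act H h⁻¹)
        simp only [mul_assoc]
        rw [← mul_assoc (act H h⁻¹) (act H h), act_inv_mul, one_mul])
      map_add' := fun l m => Subtype.ext (by
        show act H h * ((l : Module.End (ZMod p) V) + m) * act H h⁻¹ = _
        rw [mul_add, add_mul]; rfl) }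
  let σ : H →* (L ≃ₐ[ZMod p] L) :=
    { toFun := fun h => AlgEquiv.ofRingEquiv (f := σr h) fun c => by
        rw [← ZMod.natCast_zmod_val c, map_natCast, map_natCast]
      map_one' := AlgEquiv.ext fun l => Subtype.ext (by
        show act H 1 * (l : Module.End (ZMod p) V) * act H (1 : H)⁻¹ = l
        rw [inv_one, act_one, one_mul, mul_one])
      map_mul' := fun g h => AlgEquiv.ext fun l => Subtype.ext (by
        show act H (g * h) * (l : Module.End (ZMod p) V) * act H (g * h)⁻¹ =
          act H g * (act H h * l * act H h⁻¹) * act H g⁻¹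
        rw [mul_inv_rev, act_mul, act_mul]; simp only [mul_assoc]) }
  set C := σ.ker with hCdef
  haveI : C.Normal := hCdef ▸ inferInstance
  have hCc : ∀ h ∈ C, ∀ l : L, act H h * (l : Module.End (ZMod p) V) = (l : Module.End (ZMod p) V) * act H h := by
    intro h hh l
    have h1 : act H h * (l : Module.End (ZMod p) V) * act H h⁻¹ = (l : Module.End (ZMod p) V) :=
      congrArg Subtype.val (DFunLike.congr_fun (MonoidHom.mem_ker.1 hh) l)
    conv_rhs => rw [← h1]
    rw [mul_assoc, act_inv_mul, mul_one]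
  have hCcard : C.index ∣ d := by
    rw [Subgroup.index_ker, show d = Nat.card (L ≃ₐ[ZMod p] L) by
      rw [← Nat.card_congr (Equiv.ofBijective _ (FiniteField.bijective_frobeniusAlgEquivOfAlgebraic_pow (ZMod p) L)),
        Nat.card_fin]]
    exact Subgroup.card_subgroup_dvd_card _
  have hAC : A ≤ C := fun a ha => MonoidHom.mem_ker.2 (AlgEquiv.ext fun l => Subtype.ext (by
    show act H a * (l : Module.End (ZMod p) V) * act H a⁻¹ = l
    rw [hLc _ (hAL a ha) l l.2, mul_assoc, act_mul_inv, mul_one]))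
  have hCA : ∀ x ∈ C, ∀ a ∈ A, x * a = a * x := fun x hx a ha => act_injective (by
    rw [act_mul, act_mul]; exact hCc x hx ⟨_, hAL a ha⟩)
  let α : A →* Lˣ := MonoidHom.toHomUnits
    ({ toFun := fun a => ⟨act H a, hAL a a.2⟩
       map_one' := Subtype.ext (act_one (H := H))
       map_mul' := fun a b => Subtype.ext (act_mul (a : H) b) } : A →* L)
  have hαi : Function.Injective α := fun a b h => Subtype.ext (act_injective
    (congrArg (fun z : Lˣ => ((z : L) : Module.End (ZMod p) V)) h))
  have hAd : Nat.card A ∣ p ^ d - 1 := hLu ▸ Subgroup.card_dvd_of_injective α hαi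
  -- transitivity
  have hVH : p ^ n - 1 ∣ Nat.card H := by
    have horb : MulAction.orbit H v₀ = ({0} : Set V)ᶜ := by
      ext w
      constructor
      · rintro ⟨h, rfl⟩ h0
        exact hv₀ ((h : V ≃ₗ[ZMod p] V).map_eq_zero_iff.1 h0)
      · intro hw
        exact htr v₀ w hv₀ hw
    have h1 := MulAction.index_stabilizer H v₀
    rw [horb, Set.ncard_compl, Set.ncard_singleton, hVn] at h1
    exact h1 ▸ Subgroup.index_dvd_card _
  have hpp : ∀ k, 1 ≤ p ^ k := fun k => Nat.one_le_pow _ _ hp.pos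
  -- the maximal subgroup M
  obtain ⟨M, ⟨hMn, hAM, hMC, hMM⟩, hMmax⟩ := Set.exists_max_image
    {M : Subgroup H | M.Normal ∧ A ≤ M ∧ M ≤ C ∧ ∀ x ∈ M, ∀ y ∈ M, ⁅x, y⁆ ∈ A}
    (fun M : Subgroup H => Nat.card M) (Set.toFinite _)
    ⟨A, hAn, le_rfl, hAC, fun x hx y hy => mul_mem (mul_mem (mul_mem hx hy) (inv_mem hx)) (inv_mem hy)⟩
  haveI := hMn
  have hD : ∀ x ∈ C, (∀ m ∈ M, x * m = m * x) → x ∈ A := by
    suffices hDA : C ⊓ Subgroup.centralizer (M : Set H) ≤ A from
      fun x hx hxm => hDA ⟨hx, fun m hm => (hxm m hm).symm⟩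
    set D := C ⊓ Subgroup.centralizer (M : Set H) with hDdef
    haveI : D.Normal := hDdef ▸ inferInstance
    have hAD : A ≤ D := fun a ha => ⟨hAC ha, fun m hm => hCA m (hMC hm) a ha⟩
    have hDM : D ⊓ M = A := hAmax _ inferInstance ⟨⟨fun x y => Subtype.ext
      ((Subgroup.mem_centralizer_iff.1 (Subgroup.mem_inf.1 x.2).1.2 y (Subgroup.mem_inf.1 y.2).2).symm)⟩⟩
      (le_inf hAD hAM)
    by_contra hlt
    set q := QuotientGroup.mk' A with hq
    have hqs : Function.Surjective q := QuotientGroup.mk'_surjective A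
    haveI hDb : (D.map q).Normal := Subgroup.Normal.map inferInstance q hqs
    have hDb0 : D.map q ≠ ⊥ := fun h => hlt (by
      rwa [Subgroup.map_eq_bot_iff, hq, QuotientGroup.ker_mk'] at h)
    obtain ⟨E, ⟨hEn, hE0, hED⟩, hEmin⟩ := Set.exists_min_image
      {E : Subgroup (H ⧸ A) | E.Normal ∧ E ≠ ⊥ ∧ E ≤ D.map q}
      (fun E : Subgroup (H ⧸ A) => Nat.card E) (Set.toFinite _) ⟨_, hDb, hDb0, le_rfl⟩
    haveI := hEn
    have hEab : ⁅E, E⁆ = ⊥ := by
      by_contra hne
      have h1 := hEmin ⁅E, E⁆ ⟨inferInstance, hne, (Subgroup.commutator_le_self E).trans hED⟩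
      have h2 : ⁅E, E⁆ = E := Subgroup.eq_of_le_of_card_ge (Subgroup.commutator_le_self E) h1
      exact hE0 (by
        by_contra hE
        haveI : Nontrivial E := (Subgroup.nontrivial_iff_ne_bot E).2 hE
        have h3 := Group.IsSolvable.commutator_lt_of_ne_bot hE
        exact h3.ne h2)
    set M₂ := E.comap q with hM₂
    have hM₂D : M₂ ≤ D := by
      intro x hx
      obtain ⟨y, hy, hyx⟩ := hED hx
      have : x = y * (y⁻¹ * x) := by group
      rw [this]
      exact mul_mem hy (hAD (QuotientGroup.eq.1 hyx))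
    have hM₂n : ¬ M₂ ≤ M := by
      intro hle
      refine hE0 ?_
      rw [← Subgroup.map_comap_eq_self_of_surjective hqs E, Subgroup.map_eq_bot_iff, hq,
        QuotientGroup.ker_mk']
      exact (le_inf hM₂D hle).trans hDM.le
    refine hM₂n ?_
    have hmem : M ⊔ M₂ ∈ {M : Subgroup H | M.Normal ∧ A ≤ M ∧ M ≤ C ∧ ∀ x ∈ M, ∀ y ∈ M, ⁅x, y⁆ ∈ A} := by
      refine ⟨inferInstance, hAM.trans le_sup_left, sup_le hMC (hM₂D.trans inf_le_left), ?_⟩
      have hab : (M ⊔ M₂).map q ≤ Subgroup.centralizer ((M ⊔ M₂).map q : Set (H ⧸ A)) := by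
        rw [Subgroup.map_sup, hM₂, Subgroup.map_comap_eq_self_of_surjective hqs]
        rw [Subgroup.sup_eq_closure (M.map q) E, Subgroup.centralizer_closure, Subgroup.closure_le]
        intro z hz
        refine Subgroup.mem_centralizer_iff.2 fun y hy => ?_
        have hME : ∀ a ∈ M.map q, ∀ c ∈ E, a * c = c * a := by
          rintro _ ⟨m, hm, rfl⟩ c hc
          obtain ⟨x, rfl⟩ := hqs c
          have hx : x ∈ M₂ := hc
          rw [← map_mul, ← map_mul, (hM₂D hx).2 m hm]
        rcases hz with hz | hz <;> rcases hy with hy | hy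
        · obtain ⟨a, ha, rfl⟩ := hz
          obtain ⟨c, hc, rfl⟩ := hy
          rw [← commutatorElement_eq_one_iff_mul_comm, ← map_commutatorElement, hq,
            QuotientGroup.mk'_apply, QuotientGroup.eq_one_iff]
          exact hMM c hc a ha
        · exact (hME z hz y hy).symm
        · exact hME y hy z hz
        · exact commutatorElement_eq_one_iff_mul_comm.1 (Subgroup.mem_bot.1
            (hEab ▸ Subgroup.commutator_mem_commutator hy hz))
      intro x hx y hy
      rw [← QuotientGroup.eq_one_iff, ← QuotientGroup.mk'_apply, ← hq, map_commutatorElement,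
        commutatorElement_eq_one_iff_mul_comm]
      exact Subgroup.mem_centralizer_iff.1 (hab ⟨y, hy, rfl⟩) _ ⟨x, hx, rfl⟩
    have := Subgroup.eq_of_le_of_card_ge (le_sup_left : M ≤ M ⊔ M₂) (hMmax _ hmem)
    exact this ▸ le_sup_right
  -- commutator pairing
  set A' := A.subgroupOf M with hA'
  haveI : A'.Normal := hA' ▸ inferInstance
  have hmc : ∀ x y : M ⧸ A', x * y = y * x := by
    intro x y
    obtain ⟨a, rfl⟩ := QuotientGroup.mk'_surjective A' x
    obtain ⟨c, rfl⟩ := QuotientGroup.mk'_surjective A' y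
    rw [← commutatorElement_eq_one_iff_mul_comm, ← map_commutatorElement, QuotientGroup.mk'_apply,
      QuotientGroup.eq_one_iff]
    exact hMM a a.2 c c.2
  letI : CommGroup (M ⧸ A') := { (inferInstance : Group (M ⧸ A')) with mul_comm := hmc }
  let cm : M → M → Lˣ := fun x y => α ⟨⁅(x : H), (y : H)⁆, hMM x x.2 y y.2⟩
  have hcm_mul : ∀ x y y', cm x (y * y') = cm x y * cm x y' := by
    intro x y y'
    rw [← map_mul]
    refine congrArg α (Subtype.ext ?_)
    show ⁅(x : H), (y : H) * y'⁆ = ⁅(x : H), (y : H)⁆ * ⁅(x : H), (y' : H)⁆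
    have h1 := hCA y (hMC y.2) _ (hMM x x.2 y' y'.2)
    calc ⁅(x : H), (y : H) * y'⁆ = ⁅(x : H), (y : H)⁆ * ((y : H) * ⁅(x : H), (y' : H)⁆ * (y : H)⁻¹) := by
          simp only [commutatorElement_def]; group
      _ = _ := by rw [h1, mul_inv_cancel_right]
  have hcm_swap : ∀ x y, cm x y = (cm y x)⁻¹ := by
    intro x y
    rw [← map_inv]
    exact congrArg α (Subtype.ext (commutatorElement_inv (y : H) x).symm)
  have hcm_self : ∀ x, cm x x = 1 := fun x => by
    rw [← map_one α]
    exact congrArg α (Subtype.ext (commutatorElement_self (x : H)))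
  have hcm_one : ∀ x y, cm x y = 1 → (x : H) * y = y * x := fun x y h => by
    have h1 := congrArg Subtype.val (hαi (h.trans (map_one α).symm))
    exact commutatorElement_eq_one_iff_mul_comm.1 h1
  have hcm_A : ∀ x : M, ∀ y ∈ A', cm x y = 1 := fun x y hy => by
    rw [← map_one α]
    exact congrArg α (Subtype.ext (commutatorElement_eq_one_iff_mul_comm.2 (hCA x (hMC x.2) y hy)))
  let P1 : M → (M ⧸ A' →* Lˣ) := fun x =>
    QuotientGroup.lift A' (MonoidHom.mk' (cm x) (hcm_mul x)) fun y hy => hcm_A x y hy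
  let P0 : M →* (M ⧸ A' →* Lˣ) := MonoidHom.mk' P1 fun x x' => MonoidHom.ext fun q => by
    obtain ⟨y, rfl⟩ := QuotientGroup.mk'_surjective A' q
    show cm (x * x') y = cm x y * cm x' y
    rw [hcm_swap (x * x') y, hcm_mul, mul_inv, ← hcm_swap x y, ← hcm_swap x' y]
  let P : M ⧸ A' →* (M ⧸ A' →* Lˣ) := QuotientGroup.lift A' P0 fun x hx => MonoidHom.ext fun q => by
    obtain ⟨y, rfl⟩ := QuotientGroup.mk'_surjective A' q
    show cm x y = 1
    rw [hcm_swap, hcm_A y x hx, inv_one]
  have hPnd : ∀ q, (∀ q', P q q' = 1) → q = 1 := by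
    intro q hq
    obtain ⟨x, rfl⟩ := QuotientGroup.mk'_surjective A' q
    rw [QuotientGroup.mk'_apply, QuotientGroup.eq_one_iff]
    exact hD x (hMC x.2) fun m hm => hcm_one x ⟨m, hm⟩ (hq (QuotientGroup.mk ⟨m, hm⟩))
  have hPswap : ∀ q q', P q q' = (P q' q)⁻¹ := by
    intro q q'
    obtain ⟨x, rfl⟩ := QuotientGroup.mk'_surjective A' q
    obtain ⟨y, rfl⟩ := QuotientGroup.mk'_surjective A' q'
    exact hcm_swap x y
  set N := Nat.card (M ⧸ A') with hN
  have hMcard : Nat.card M = Nat.card A * N := by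
    rw [Subgroup.card_eq_card_quotient_mul_card_subgroup A',
      Nat.card_congr (Subgroup.subgroupOfEquivOfLe hAM).toEquiv, mul_comm]
  -- linear independence
  have hNe : N ≤ e * e := by
    haveI := Fintype.ofFinite (M ⧸ A')
    let T : M ⧸ A' → (V →ₗ[L] V) := fun q =>
      { toFun := act H (q.out : M)
        map_add' := fun x y => map_add (act H (q.out : M)) x y
        map_smul' := fun l x => LinearMap.congr_fun (hCc _ (hMC q.out.2) l) x }
    let χ : M ⧸ A' → (M →* L) := fun q =>
      { toFun := fun y => ((P (QuotientGroup.mk y) q : Lˣ) : L)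
        map_one' := by rw [QuotientGroup.mk_one, map_one]; rfl
        map_mul' := fun y y' => by rw [QuotientGroup.mk_mul, map_mul]; rfl }
    have hχ : Function.Injective χ := fun q q' h => by
      refine div_eq_one.1 (hPnd _ fun w => ?_)
      obtain ⟨y, rfl⟩ := QuotientGroup.mk'_surjective A' w
      have h1 : P (QuotientGroup.mk y) q = P (QuotientGroup.mk y) q' := Units.ext (DFunLike.congr_fun h y)
      rw [hPswap, map_div, QuotientGroup.mk'_apply, h1, div_self', inv_one]
    have hli : LinearIndependent L T := by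
      rw [Fintype.linearIndependent_iff]
      intro g hg q₀
      by_contra hg0
      have hconjT : ∀ y : M, ∑ q, (g q * ((P (QuotientGroup.mk y) q : Lˣ) : L)) • T q = 0 := by
        intro y
        refine LinearMap.ext fun z => ?_
        have h1 := congrArg (act H (y : H)) (LinearMap.congr_fun hg (act H (y : H)⁻¹ z))
        rw [LinearMap.zero_apply, map_zero, LinearMap.sum_apply, map_sum] at h1
        rw [LinearMap.sum_apply, LinearMap.zero_apply]
        refine Eq.trans (Finset.sum_congr rfl fun q _ => ?_) h1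
        rw [LinearMap.smul_apply, LinearMap.smul_apply, mul_smul]
        have h2 : ((P (QuotientGroup.mk y) q : Lˣ) : L) = ((cm y q.out : Lˣ) : L) := by
          conv_lhs => rw [← QuotientGroup.out_eq' q]
          rfl
        rw [h2]
        show (g q : Module.End (ZMod p) V) (act H ⁅(y : H), ((q.out : M) : H)⁆ (act H ((q.out : M) : H) z)) =
          act H (y : H) ((g q : Module.End (ZMod p) V) (act H ((q.out : M) : H) (act H (y : H)⁻¹ z)))
        rw [show ∀ w, act H (y : H) ((g q : Module.End (ZMod p) V) w) =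
            (g q : Module.End (ZMod p) V) (act H (y : H) w) from
          fun w => LinearMap.congr_fun (hCc _ (hMC y.2) (g q)) w]
        refine congrArg _ ?_
        show act H (⁅(y : H), ((q.out : M) : H)⁆ * ((q.out : M) : H)) z =
          act H ((y : H) * (((q.out : M) : H) * (y : H)⁻¹)) z
        rw [show ⁅(y : H), ((q.out : M) : H)⁆ * ((q.out : M) : H) =
          (y : H) * (((q.out : M) : H) * (y : H)⁻¹) by simp only [commutatorElement_def]; group]
      have hT0 : T q₀ = 0 := by
        rw [← Module.forall_dual_apply_eq_zero_iff L]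
        intro f
        have hsum : ∀ y : M, ∑ q, (g q * f (T q)) * χ q y = 0 := by
          intro y
          have := congrArg f (hconjT y)
          rw [map_sum, map_zero] at this
          refine Eq.trans (Finset.sum_congr rfl fun q _ => ?_) this
          rw [map_smul, smul_eq_mul]
          show g q * f (T q) * ((P (QuotientGroup.mk y) q : Lˣ) : L) = _
          ring
        have h3 := Fintype.linearIndependent_iff.1 ((linearIndependent_monoidHom M L).comp χ hχ)
          (fun q => g q * f (T q)) (funext fun y => by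
            rw [Finset.sum_apply]
            exact hsum y) q₀
        exact (mul_eq_zero.1 h3).resolve_left hg0
      have h4 := LinearMap.congr_fun hT0 v₀
      exact hv₀ ((((q₀.out : M) : H) : V ≃ₗ[ZMod p] V).map_eq_zero_iff.1 h4)
    have h5 := hli.fintype_card_le_finrank
    rw [Module.finrank_linearMap, ← Nat.card_eq_fintype_card] at h5
    exact h5
  have hNr : ∀ r, r.Prime → r ∣ N → r ∣ p ^ d - 1 := by
    intro r hr hrN
    haveI := Fact.mk hr
    obtain ⟨q, hq⟩ := exists_prime_orderOf_dvd_card' r hrN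
    obtain ⟨q', hq'⟩ : ∃ q', P q q' ≠ 1 := by
      by_contra hno
      push Not at hno
      rw [hPnd q hno, orderOf_one] at hq
      exact hr.ne_one hq.symm
    have h1 : P q q' ^ r = 1 := by
      rw [← MonoidHom.pow_apply, ← map_pow, ← hq, pow_orderOf_eq_one, map_one]; rfl
    rw [← hLu, ← orderOf_eq_prime h1 hq']
    exact orderOf_dvd_natCard _
  -- conjugation on M / A
  let κ : C → (M ⧸ A' →* M ⧸ A') := fun h =>
    QuotientGroup.map A' A' (MulAut.conjNormal (H := M) (h : H)).toMonoidHom fun a ha => by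
      show ((MulAut.conjNormal (H := M) (h : H) a : M) : H) ∈ A
      rw [MulAut.conjNormal_apply]
      exact hAn.conj_mem _ ha _
  let ψ : C →* AddMonoid.End (Additive (M ⧸ A')) :=
    { toFun := fun h => (MonoidHom.toAdditive (κ h) : Additive (M ⧸ A') →+ Additive (M ⧸ A'))
      map_one' := AddMonoidHom.ext fun x => by
        obtain ⟨m, hm⟩ := QuotientGroup.mk'_surjective A' (Additive.toMul x)
        show Additive.ofMul (κ 1 (Additive.toMul x)) = x
        rw [← hm]
        show Additive.ofMul (QuotientGroup.mk (MulAut.conjNormal (H := M) ((1 : C) : H) m)) = x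
        rw [OneMemClass.coe_one, map_one, MulAut.one_apply, ← QuotientGroup.mk'_apply, hm, ofMul_toMul]
      map_mul' := fun g h => AddMonoidHom.ext fun x => by
        obtain ⟨m, hm⟩ := QuotientGroup.mk'_surjective A' (Additive.toMul x)
        show Additive.ofMul (κ (g * h) (Additive.toMul x)) = Additive.ofMul (κ g (κ h (Additive.toMul x)))
        rw [← hm]
        show Additive.ofMul (QuotientGroup.mk (MulAut.conjNormal (H := M) ((g : H) * h) m)) =
          Additive.ofMul (QuotientGroup.mk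
            (MulAut.conjNormal (H := M) (g : H) (MulAut.conjNormal (H := M) (h : H) m)))
        rw [map_mul, MulAut.mul_apply] }
  set M' := M.subgroupOf C with hM'
  have hψker : ψ.ker = M' := by
    have hfix : ∀ h : C, h ∈ ψ.ker ↔ ∀ m : M, ⁅(h : H), (m : H)⁆ ∈ A := by
      intro h
      rw [MonoidHom.mem_ker]
      constructor
      · intro hh m
        have h1 : κ h (QuotientGroup.mk m) = QuotientGroup.mk m :=
          congrArg Additive.toMul (DFunLike.congr_fun hh (Additive.ofMul (QuotientGroup.mk m)))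
        have h2 : (MulAut.conjNormal (H := M) (h : H) m * m⁻¹ : M) ∈ A' := by
          rw [← QuotientGroup.eq_one_iff, QuotientGroup.mk_mul, QuotientGroup.mk_inv]
          rw [show (QuotientGroup.mk (MulAut.conjNormal (H := M) (h : H) m) : M ⧸ A') = QuotientGroup.mk m
            from h1, mul_inv_cancel]
        exact h2
      · intro hh
        refine AddMonoidHom.ext fun x => ?_
        obtain ⟨m, hm⟩ := QuotientGroup.mk'_surjective A' (Additive.toMul x)
        show Additive.ofMul (κ h (Additive.toMul x)) = x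
        rw [← hm]
        have h2 : (MulAut.conjNormal (H := M) (h : H) m * m⁻¹ : M) ∈ A' := hh m
        rw [← QuotientGroup.eq_one_iff, QuotientGroup.mk_mul, QuotientGroup.mk_inv, mul_inv_eq_one] at h2
        show Additive.ofMul (QuotientGroup.mk (MulAut.conjNormal (H := M) (h : H) m)) = x
        rw [h2, ← QuotientGroup.mk'_apply, hm, ofMul_toMul]
    have hle : M' ≤ ψ.ker := fun h hh => (hfix h).2 fun m => hMM h hh m m.2
    refine (Subgroup.eq_of_le_of_card_ge hle ?_).symm
    -- the scalar homomorphisms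
    let cc : ψ.ker → M → Lˣ := fun h m => α ⟨⁅((h : C) : H), (m : H)⁆, (hfix h).1 h.2 m⟩
    let F1 : ψ.ker → (M ⧸ A' →* Lˣ) := fun h =>
      QuotientGroup.lift A' (MonoidHom.mk' (cc h) fun m m' => by
        rw [← map_mul]
        refine congrArg α (Subtype.ext ?_)
        show ⁅((h : C) : H), (m : H) * m'⁆ = ⁅((h : C) : H), (m : H)⁆ * ⁅((h : C) : H), (m' : H)⁆
        have h1 := hCA m (hMC m.2) _ ((hfix h).1 h.2 m')
        calc ⁅((h : C) : H), (m : H) * m'⁆ =
            ⁅((h : C) : H), (m : H)⁆ * ((m : H) * ⁅((h : C) : H), (m' : H)⁆ * (m : H)⁻¹) := by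
              simp only [commutatorElement_def]; group
          _ = _ := by rw [h1, mul_inv_cancel_right]) fun m hm => by
        show cc h m = 1
        rw [← map_one α]
        exact congrArg α (Subtype.ext (commutatorElement_eq_one_iff_mul_comm.2 (hCA _ (h : C).2 m hm)))
    let F : ψ.ker →* (M ⧸ A' →* Lˣ) := MonoidHom.mk' F1 fun h h' => MonoidHom.ext fun q => by
      obtain ⟨m, rfl⟩ := QuotientGroup.mk'_surjective A' q
      show cc (h * h') m = cc h m * cc h' m
      rw [← map_mul]
      refine congrArg α (Subtype.ext ?_)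
      show ⁅((h : C) : H) * (h' : C), (m : H)⁆ = ⁅((h : C) : H), (m : H)⁆ * ⁅((h' : C) : H), (m : H)⁆
      have h1 := hCA _ (h : C).2 _ ((hfix h').1 h'.2 m)
      have h3 : ⁅((h : C) : H) * (h' : C), (m : H)⁆ =
          ((h : C) : H) * ⁅((h' : C) : H), (m : H)⁆ * ((h : C) : H)⁻¹ * ⁅((h : C) : H), (m : H)⁆ := by
        simp only [commutatorElement_def]; group
      rw [h3, h1, mul_inv_cancel_right]
      exact hCA _ (hAC ((hfix h').1 h'.2 m)) _ ((hfix h).1 h.2 m)
    have hFker : Nat.card F.ker ≤ Nat.card A := by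
      refine Nat.card_le_card_of_injective (fun h => (⟨(((h : ψ.ker) : C) : H),
        hD _ ((h : ψ.ker) : C).2 fun m hm => ?_⟩ : A)) fun h h' hh =>
        Subtype.ext (Subtype.ext (Subtype.ext (congrArg Subtype.val hh :)))
      have h1 : cc (h : ψ.ker) ⟨m, hm⟩ = 1 :=
        DFunLike.congr_fun (MonoidHom.mem_ker.1 h.2) (QuotientGroup.mk (⟨m, hm⟩ : M))
      exact commutatorElement_eq_one_iff_mul_comm.1 (congrArg Subtype.val (hαi (h1.trans (map_one α).symm)))
    have hFran : Nat.card F.range ≤ N := by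
      haveI : Finite (Multiplicative (Additive (M ⧸ A')) →* L) :=
        (linearIndependent_monoidHom (Multiplicative (Additive (M ⧸ A'))) L).finite
      haveI : Finite (Additive (M ⧸ A') →+ Additive Lˣ) := Finite.of_injective
        (fun f : Additive (M ⧸ A') →+ Additive Lˣ => (Units.coeHom L).comp (AddMonoidHom.toMultiplicativeLeft f))
        fun f g h => AddMonoidHom.ext fun q => Units.ext (DFunLike.congr_fun h (Multiplicative.ofAdd q))
      exact (Nat.card_le_card_of_injective (fun f : F.range => MonoidHom.toAdditive (f : M ⧸ A' →* Lˣ))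
        fun f g h => by exact Subtype.ext (MonoidHom.toAdditive.injective h)).trans
        (PairingAuto.card_hom_le (Additive (M ⧸ A')) L)
    have h2 := Subgroup.card_mul_index F.ker
    rw [Subgroup.index_ker] at h2
    rw [← h2, hM', Nat.card_congr (Subgroup.subgroupOfEquivOfLe hMC).toEquiv, hMcard]
    exact Nat.mul_le_mul hFker hFran
  haveI : M'.Normal := hψker ▸ inferInstance
  set c := M.relIndex C with hc
  have hHcard : Nat.card H = Nat.card A * N * c * C.index := by
    rw [← hMcard, ← Subgroup.card_mul_index C, ← (M.subgroupOf C).card_mul_index,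
      Nat.card_congr (Subgroup.subgroupOfEquivOfLe hMC).toEquiv, hc, Subgroup.relIndex]
  -- M is larger than A
  have hN1 : N ≠ 1 := by
    intro h1
    have hMA : M = A := (Subgroup.eq_of_le_of_card_ge hAM (by rw [hMcard, h1, mul_one])).symm
    have hCeq : C = A := le_antisymm (fun x hx => hD x hx fun m hm => hCA x hx m (hMA ▸ hm)) hAC
    have h2 : Nat.card H ≤ (p ^ d - 1) * d := by
      rw [← Subgroup.card_mul_index C]
      exact Nat.mul_le_mul (hCeq ▸ Nat.le_of_dvd (by
        have := Nat.one_lt_pow hd0.ne' hp.one_lt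
        omega) hAd) (Nat.le_of_dvd hd0 hCcard)
    have h3 := Nat.le_of_dvd Nat.card_pos hVH
    have h4 : p ^ (2 * d) ≤ p ^ n := Nat.pow_le_pow_right hp.pos (by rw [hn, mul_comm 2 d]; exact Nat.mul_le_mul_left d he2)
    have h5 : d < p ^ d := Nat.lt_pow_self hp.one_lt
    rw [two_mul, pow_add] at h4
    obtain ⟨Q, hQ⟩ : ∃ Q, p ^ d = Q + 1 := ⟨p ^ d - 1, by have := hpp d; omega⟩
    rw [hQ] at h2 h4 h5
    simp only [Nat.add_sub_cancel] at h2
    have h6 : Q * d ≤ Q * Q := Nat.mul_le_mul_left _ (by omega)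
    have h7 := hpp n
    have h8 : Q * Q + 2 * Q + 1 ≤ p ^ n := by linarith
    have h9 := Nat.one_lt_pow hd0.ne' hp.one_lt
    omega
  -- automorphisms of prime order
  let b : Additive (M ⧸ A') →+ Additive (M ⧸ A') →+ Additive Lˣ :=
    AddMonoidHom.mk' (fun x => MonoidHom.toAdditive (P (Additive.toMul x))) fun x y => by
      refine AddMonoidHom.ext fun z => ?_
      show Additive.ofMul (P (Additive.toMul x * Additive.toMul y) (Additive.toMul z)) = _
      rw [map_mul]
      rfl
  have hbnd : ∀ x, (∀ y, b x y = 0) → x = 0 := fun x hx =>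
    congrArg Additive.ofMul (hPnd (Additive.toMul x) fun q => congrArg Additive.toMul (hx (Additive.ofMul q)))
  have bound : ∀ (s : ℕ) (h : C), s.Prime → h ∉ M' → h ^ s ∈ M' → ¬ s ∣ N →
      ∃ r j : ℕ, r.Prime ∧ r ∣ N ∧ 0 < j ∧ s ∣ r ^ j - 1 ∧
      (r ^ (2 * j) ≤ N ∨ ∃ i, s ∣ r ^ i + 1 ∧ r ^ (2 * i) ≤ r ^ j ∧ r ^ j ≤ N ∧
        (r ^ j = N → ∀ (Q : Type u) [Group Q] (φ : Q →* AddMonoid.End (Additive (M ⧸ A'))),
          Function.Injective φ → (∀ g x, φ g (ψ h x) = ψ h (φ g x)) → Nat.card Q ∣ r ^ j - 1)) := by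
    intro s h hs hhM hhs hsN
    have hinv : ∀ (g : C) x, ψ g⁻¹ (ψ g x) = x := fun g x => by
      show (ψ g⁻¹ * ψ g) x = x
      rw [← map_mul, inv_mul_cancel, map_one]; rfl
    let T : Additive (M ⧸ A') ≃+ Additive (M ⧸ A') :=
      { toFun := ψ h
        invFun := ψ h⁻¹
        left_inv := hinv h
        right_inv := fun x => by simpa using hinv h⁻¹ x
        map_add' := fun x y => map_add (ψ h) x y }
    have hT : ∀ x y, b (T x) (T y) = b x y := by
      intro x y
      obtain ⟨m, hm⟩ := QuotientGroup.mk'_surjective A' (Additive.toMul x)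
      obtain ⟨m', hm'⟩ := QuotientGroup.mk'_surjective A' (Additive.toMul y)
      show Additive.ofMul (P (κ h (Additive.toMul x)) (κ h (Additive.toMul y))) =
        Additive.ofMul (P (Additive.toMul x) (Additive.toMul y))
      rw [← hm, ← hm']
      refine congrArg Additive.ofMul ?_
      show cm (MulAut.conjNormal (H := M) (h : H) m) (MulAut.conjNormal (H := M) (h : H) m') = cm m m'
      refine congrArg α (Subtype.ext ?_)
      show ⁅((MulAut.conjNormal (H := M) (h : H) m : M) : H), ((MulAut.conjNormal (H := M) (h : H) m' : M) : H)⁆ =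
        ⁅(m : H), (m' : H)⁆
      have hcc := hCA h h.2 _ (hMM m m.2 m' m'.2)
      rw [MulAut.conjNormal_apply, MulAut.conjNormal_apply]
      calc ⁅(h : H) * (m : H) * (h : H)⁻¹, (h : H) * (m' : H) * (h : H)⁻¹⁆
          = (h : H) * ⁅(m : H), (m' : H)⁆ * (h : H)⁻¹ := by simp only [commutatorElement_def]; group
        _ = _ := by rw [hcc, mul_inv_cancel_right]
    have hTs : ∀ x, (⇑T)^[s] x = x := by
      intro x
      have h1 : ∀ k, (⇑T)^[k] x = ψ (h ^ k) x := by
        intro k
        induction k with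
        | zero => rw [pow_zero, map_one]; rfl
        | succ k ih =>
          rw [Function.iterate_succ_apply', ih, pow_succ', map_mul]; rfl
      rw [h1, show ψ (h ^ s) = 1 from MonoidHom.mem_ker.1 (hψker.symm ▸ hhs)]
      rfl
    have hT1 : ∃ x, T x ≠ x := by
      by_contra hno
      push Not at hno
      exact hhM (hψker ▸ MonoidHom.mem_ker.2 (AddMonoidHom.ext hno))
    exact PairingAuto.auto_bound b hbnd T hT hs hTs hT1 hsN
  have hpow1 : ∀ {r j : ℕ}, r.Prime → 0 < j → 2 ≤ r ^ j := fun hr hj =>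
    (hr.two_le).trans (Nat.le_self_pow hj.ne' _)
  have hsq : ∀ {a : ℕ}, a * a ≤ e * e → a ≤ e := fun h => Nat.mul_self_le_mul_self_iff.1 h
  have hxfind : ∀ s, s.Prime → s ∣ Nat.card H → ¬ s ∣ Nat.card A → ¬ s ∣ N → ¬ s ∣ C.index →
      ∃ h : C, h ∉ M' ∧ h ^ s ∈ M' := by
    intro s hs hsH hsA hsN hsI
    haveI := Fact.mk hs
    rw [hHcard] at hsH
    have hsc : s ∣ Nat.card (C ⧸ M') := by
      rw [← Subgroup.index_eq_card]
      exact ((hs.dvd_mul.1 (((hs.dvd_mul.1 hsH).resolve_right hsI))).resolve_left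
        fun h => (hs.dvd_mul.1 h).elim hsA hsN)
    obtain ⟨x, hx⟩ := exists_prime_orderOf_dvd_card' s hsc
    obtain ⟨h, rfl⟩ := QuotientGroup.mk'_surjective M' x
    refine ⟨h, fun hh => ?_, ?_⟩
    · rw [QuotientGroup.mk'_apply, (QuotientGroup.eq_one_iff h).2 hh, orderOf_one] at hx
      exact hs.ne_one hx.symm
    · rw [← QuotientGroup.eq_one_iff, QuotientGroup.mk_pow, ← hx]
      exact pow_orderOf_eq_one _
  -- degree two
  rcases Nat.lt_or_ge n 3 with hn3 | hn3
  · have hd1 : d = 1 := by omega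
    have he22 : e = 2 := by
      have : n = e := by rw [hn, hd1, one_mul]
      omega
    have hn2 : n = 2 := by rw [hn, hd1, he22]
    have hN4 : N = 4 := by
      rw [he22] at hNe
      have hpos : 0 < N := Nat.card_pos
      by_contra hne
      haveI : Fact N.Prime := ⟨by interval_cases N <;> first | omega | norm_num⟩
      haveI : IsCyclic (M ⧸ A') := isCyclic_of_prime_card rfl
      obtain ⟨g, hg⟩ := IsCyclic.exists_generator (α := M ⧸ A')
      have hg0 : P g g = 1 := by
        obtain ⟨x, rfl⟩ := QuotientGroup.mk'_surjective A' g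
        exact hcm_self x
      have hg1 : g = 1 := hPnd g fun q => by
        obtain ⟨i, rfl⟩ := Subgroup.mem_zpowers_iff.1 (hg q)
        rw [map_zpow, hg0, one_zpow]
      have : Nat.card (M ⧸ A') = 1 := by
        rw [← orderOf_eq_card_of_forall_mem_zpowers hg, hg1, orderOf_one]
      exact hN1 this
    have hC1 : C.index = 1 := Nat.dvd_one.1 (hd1 ▸ hCcard)
    have hc6 : c ∣ 6 := by
      let X₀ := {x : Additive (M ⧸ A') // x ≠ 0}
      have hne : ∀ (h : C) (x : X₀), ψ h x.1 ≠ 0 := fun h x h0 => x.2 (by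
        have h1 : (ψ h⁻¹ * ψ h) x.1 = x.1 := by rw [← map_mul, inv_mul_cancel, map_one]; rfl
        rw [← h1]
        show ψ h⁻¹ (ψ h x.1) = 0
        rw [h0, map_zero])
      let π : C →* Equiv.Perm X₀ :=
        MonoidHom.mk' (fun h =>
          { toFun := fun x => ⟨ψ h x.1, hne h x⟩
            invFun := fun x => ⟨ψ h⁻¹ x.1, hne h⁻¹ x⟩
            left_inv := fun x => Subtype.ext (by
              show (ψ h⁻¹ * ψ h) x.1 = x.1
              rw [← map_mul, inv_mul_cancel, map_one]; rfl)
            right_inv := fun x => Subtype.ext (by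
              show (ψ h * ψ h⁻¹) x.1 = x.1
              rw [← map_mul, mul_inv_cancel, map_one]; rfl) }) fun h h' => Equiv.ext fun x => Subtype.ext (by
          show ψ (h * h') x.1 = (ψ h * ψ h') x.1
          rw [map_mul])
      have hker : π.ker = M' := by
        rw [← hψker]
        ext h
        rw [MonoidHom.mem_ker, MonoidHom.mem_ker]
        constructor
        · intro hh
          refine AddMonoidHom.ext fun x => ?_
          by_cases hx : x = 0
          · rw [hx]; exact (ψ h : Additive (M ⧸ A') →+ Additive (M ⧸ A')).map_zero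
          · exact congrArg Subtype.val (Equiv.congr_fun hh ⟨x, hx⟩)
        · intro hh
          exact Equiv.ext fun x => Subtype.ext (DFunLike.congr_fun hh x.1)
      have hX3 : Nat.card X₀ = 3 := by
        haveI := Fintype.ofFinite (Additive (M ⧸ A'))
        rw [Nat.card_eq_fintype_card, Fintype.card_subtype_compl, Fintype.card_subtype_eq,
          ← Nat.card_eq_fintype_card]
        show N - 1 = 3
        omega
      rw [hc, Subgroup.relIndex, ← hM', ← hker, Subgroup.index_ker]
      refine (Subgroup.card_subgroup_dvd_card _).trans ?_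
      rw [Nat.card_perm, hX3]
      rfl
    have h24 : p + 1 ∣ 24 := by
      have h1 : (p ^ 2 - 1) ∣ (p - 1) * 24 := by
        rw [← hn2]
        refine hVH.trans ?_
        rw [hHcard, hN4, hC1, mul_one, mul_assoc]
        rw [hd1, pow_one] at hAd
        exact Nat.mul_dvd_mul hAd (by
          obtain ⟨k, hk⟩ := hc6
          exact ⟨k, by rw [mul_assoc, ← hk]; norm_num⟩)
      rw [show p ^ 2 - 1 = (p - 1) * (p + 1) by
        have := hp.two_le
        obtain ⟨k, rfl⟩ : ∃ k, p = k + 1 := ⟨p - 1, by omega⟩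
        have e1 : (k + 1) ^ 2 = k * (k + 1 + 1) + 1 := by ring
        rw [Nat.add_sub_cancel]
        omega] at h1
      exact Nat.dvd_of_mul_dvd_mul_left (by have := hp.two_le; omega) h1
    have hp2 : p ≠ 2 := by
      intro h2
      have := hNr 2 Nat.prime_two (by rw [hN4]; norm_num)
      rw [hd1, h2] at this
      norm_num at this
    have hp23 : p ≤ 23 := by have := Nat.le_of_dvd (by norm_num) h24; omega
    rw [hVn, hn2]
    have := hp.two_le
    rcases small_prime p hp h24 hp2 with h | h | h | h | h <;> rw [h] <;> norm_num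
  have hcase : ∀ {r j s : ℕ}, r.Prime → 0 < j → s ∣ r ^ j - 1 → r ^ (2 * j) ≤ N → n < s → False := by
    intro r j s hr hj hd' hb hlt
    have h1 : r ^ j ≤ e := hsq (by rw [← pow_add, ← two_mul]; exact hb.trans hNe)
    have h2 := hpow1 hr hj
    have h3 := Nat.le_of_dvd (by omega) hd'
    omega
  by_cases h26 : p = 2 ∧ n = 6
  · exfalso
    obtain ⟨rfl, hn6⟩ := h26
    have h7 : 7 ∣ Nat.card H := (show 7 ∣ 2 ^ n - 1 by rw [hn6]; norm_num).trans hVH
    have hdle : d ≤ 3 := by
      have : d * 2 ≤ 6 := hn6 ▸ hn ▸ Nat.mul_le_mul_left d he2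
      omega
    obtain ⟨r₀, hr₀, hr₀N⟩ := Nat.exists_prime_and_dvd hN1
    have hr₀d := hNr r₀ hr₀ hr₀N
    have hr₀le := Nat.le_of_dvd Nat.card_pos hr₀N
    have hd2 : d = 2 ∧ e = 3 := by
      rw [hn] at hn6
      interval_cases d
      · norm_num at hr₀d
        exact absurd hr₀d hr₀.ne_one
      · omega
      · have he' : e = 2 := by omega
        norm_num at hr₀d
        have h77 := (Nat.prime_dvd_prime_iff_eq hr₀ (by norm_num)).1 hr₀d
        rw [he'] at hNe
        omega
    obtain ⟨hd2, he3⟩ := hd2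
    rw [hd2] at hNr hAd hCcard
    have hN3 : ∀ r, r.Prime → r ∣ N → r = 3 := fun r hr h =>
      (Nat.prime_dvd_prime_iff_eq hr Nat.prime_three).1 (by simpa using hNr r hr h)
    have h7' : Nat.Prime 7 := by norm_num
    obtain ⟨h, hh1, hh2⟩ := hxfind 7 h7' h7 (fun h => by
        have := (h.trans hAd); norm_num at this)
      (fun h => by have := hN3 7 h7' h; omega)
      (fun h => by have := Nat.le_of_dvd (by norm_num) (h.trans hCcard); omega)
    obtain ⟨r, j, hr, hrN, hj, hdj, hor⟩ := bound 7 h h7' hh1 hh2 (fun h => by have := hN3 7 h7' h; omega)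
    obtain rfl := hN3 r hr hrN
    rw [he3] at hNe
    rcases hor with hb | ⟨i, hi, hi2, hjN, -⟩
    · have hj1 : j ≤ 1 := by
        by_contra hgt
        have h81 : 3 ^ 4 ≤ 3 ^ (2 * j) := Nat.pow_le_pow_right (by norm_num) (by omega)
        omega
      interval_cases j
      norm_num at hdj
    · have hi1 : i ≤ 1 := by
        by_contra hgt
        have h81 : 3 ^ 4 ≤ 3 ^ (2 * i) := Nat.pow_le_pow_right (by norm_num) (by omega)
        omega
      interval_cases i <;> norm_num at hi
  -- the general case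
  have key : ∀ s, s.Prime → s ∣ p ^ n - 1 → (∀ k, 0 < k → k < n → ¬ s ∣ p ^ k - 1) →
      s = n + 1 ∧ d = 1 ∧ (∃ i, n = 2 ^ i) ∧ ¬ s ^ 2 ∣ Nat.card H ∧ 2 ∣ N := by
    intro s hs hsn hprim
    haveI := Fact.mk hs
    have hsp : (p : ZMod s) ≠ 0 := by
      rw [Ne, ZMod.natCast_eq_zero_iff]
      intro h
      have h1 : s ∣ p ^ n := h.trans (dvd_pow_self p (by omega))
      have h2 := Nat.dvd_sub h1 hsn
      rw [show p ^ n - (p ^ n - 1) = 1 by have := hpp n; omega] at h2
      exact hs.ne_one (Nat.dvd_one.1 h2)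
    have hpk : ∀ k, (p : ZMod s) ^ k = 1 ↔ s ∣ p ^ k - 1 := fun k => by
      rw [← ZMod.natCast_eq_zero_iff, Nat.cast_sub (hpp k), Nat.cast_pow, Nat.cast_one, sub_eq_zero]
    have hordp : orderOf (p : ZMod s) = n := by
      rw [orderOf_eq_iff (by omega)]
      exact ⟨(hpk n).2 hsn, fun k hk hk0 h => hprim k hk0 hk ((hpk k).1 h)⟩
    have hns : n + 1 ≤ s := by
      have h1 : (p : ZMod s) ^ (s - 1) = 1 := ZMod.pow_card_sub_one_eq_one hsp
      have h2 := Nat.le_of_dvd (by have := hs.two_le; omega) (hordp ▸ orderOf_dvd_of_pow_eq_one h1)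
      omega
    have hsd : ¬ s ∣ p ^ d - 1 := hprim d hd0 hdn
    have hsA : ¬ s ∣ Nat.card A := fun h => hsd (h.trans hAd)
    have hsN : ¬ s ∣ N := fun h => hsd (hNr s hs h)
    have hsI : ¬ s ∣ C.index := fun h => by
      have := Nat.le_of_dvd hd0 (h.trans hCcard)
      omega
    have res : ∀ h : C, h ∉ M' → h ^ s ∈ M' → s = n + 1 ∧ d = 1 ∧ (∃ i, n = 2 ^ i) ∧ 2 ∣ N ∧
        ∀ (Q : Type u) [Group Q] (φ : Q →* AddMonoid.End (Additive (M ⧸ A'))),
          Function.Injective φ → (∀ g x, φ g (ψ h x) = ψ h (φ g x)) → Nat.card Q ∣ n * n - 1 := by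
      intro h hh1 hh2
      obtain ⟨r, j, hr, hrN, hj, hdj, hor⟩ := bound s h hs hh1 hh2 hsN
      rcases hor with hb | ⟨i, hi, hi2, hjN, hQ⟩
      · exact absurd (hcase hr hj hdj hb (by omega)) not_false
      have h1 : r ^ i ≤ e := hsq (by rw [← pow_add, ← two_mul]; exact (hi2.trans hjN).trans hNe)
      have h2 := Nat.le_of_dvd (by positivity) hi
      have hri : r ^ i = n := by omega
      have hsn1 : s = n + 1 := by omega
      have hen' : e = n := by omega
      have hd1 : d = 1 := by
        have : d * e = 1 * e := by rw [one_mul, ← hn, hen']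
        exact Nat.eq_of_mul_eq_mul_right (by omega) this
      have heven : 2 ∣ r ^ i := by
        rw [hri]
        have := Nat.Prime.eq_two_or_odd hs
        omega
      have hr2 : r = 2 := ((Nat.prime_dvd_prime_iff_eq Nat.prime_two hr).1
        (Nat.prime_two.dvd_of_dvd_pow heven)).symm
      have hrj : r ^ j = N := by
        refine le_antisymm hjN (le_trans ?_ hi2)
        rw [two_mul, pow_add, hri, ← hen']
        exact hNe
      have hNn : N = n * n := by
        refine le_antisymm (hen' ▸ hNe) ?_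
        rw [← hri, ← pow_add, ← two_mul]
        exact hi2.trans hjN
      refine ⟨hsn1, hd1, ⟨i, by rw [← hri, hr2]⟩, hr2 ▸ hrN, fun Q _ φ hφ hc' => ?_⟩
      have := hQ hrj Q φ hφ hc'
      rwa [hrj, hNn] at this
    obtain ⟨h, hh1, hh2⟩ := hxfind s hs (hsn.trans hVH) hsA hsN hsI
    obtain ⟨hsn1, hd1, hi, h2N, -⟩ := res h hh1 hh2
    refine ⟨hsn1, hd1, hi, fun hs2 => ?_, h2N⟩
    rw [hHcard] at hs2
    have hcop : Nat.Coprime (s ^ 2) (Nat.card A * N * C.index) := Nat.Coprime.pow_left 2
      (((hs.coprime_iff_not_dvd.2 hsA).mul_right (hs.coprime_iff_not_dvd.2 hsN)).mul_right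
        (hs.coprime_iff_not_dvd.2 hsI))
    have hsc : s ^ 2 ∣ Nat.card (C ⧸ M') := by
      refine hcop.dvd_of_dvd_mul_left ?_
      rw [← Subgroup.index_eq_card]
      show s ^ 2 ∣ Nat.card A * N * C.index * c
      rwa [mul_right_comm]
    obtain ⟨S⟩ : Nonempty (Sylow s (C ⧸ M')) := inferInstance
    have hSd : s ^ 2 ∣ Nat.card S := S.pow_dvd_card_of_pow_dvd_card hsc
    haveI : Nontrivial S := by
      rw [← Finite.one_lt_card_iff_nontrivial]
      exact lt_of_lt_of_le (Nat.one_lt_pow two_ne_zero hs.one_lt) (Nat.le_of_dvd Nat.card_pos hSd)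
    haveI := S.2.center_nontrivial
    have hdz : s ∣ Nat.card (Subgroup.center (S : Subgroup (C ⧸ M'))) := by
      obtain ⟨k, hk⟩ := IsPGroup.iff_card.1 (S.2.to_subgroup (Subgroup.center (S : Subgroup (C ⧸ M'))))
      have h1 := Finite.one_lt_card (α := Subgroup.center (S : Subgroup (C ⧸ M')))
      rw [hk] at h1 ⊢
      refine dvd_pow_self s fun h0 => ?_
      rw [h0, pow_zero] at h1
      omega
    obtain ⟨z, hz⟩ := exists_prime_orderOf_dvd_card' s hdz
    obtain ⟨g, hg⟩ := QuotientGroup.mk'_surjective M' ((z : (S : Subgroup (C ⧸ M'))) : C ⧸ M')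
    have hzo : orderOf (QuotientGroup.mk' M' g) = s := by
      rw [hg, Subgroup.orderOf_coe, Subgroup.orderOf_coe, hz]
    let ψb : C ⧸ M' →* AddMonoid.End (Additive (M ⧸ A')) :=
      QuotientGroup.lift M' ψ fun x hx => MonoidHom.mem_ker.1 (hψker.symm ▸ hx)
    have hψb : Function.Injective ψb := by
      rw [← MonoidHom.ker_eq_bot_iff, Subgroup.eq_bot_iff_forall]
      intro x hx
      obtain ⟨x, rfl⟩ := QuotientGroup.mk'_surjective M' x
      rw [QuotientGroup.mk'_apply, QuotientGroup.eq_one_iff, ← hψker]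
      exact hx
    obtain ⟨-, -, -, -, hQ⟩ := res g (fun hgM => by
        rw [QuotientGroup.mk'_apply, (QuotientGroup.eq_one_iff g).2 hgM, orderOf_one] at hzo
        exact hs.ne_one hzo.symm) (by
        rw [← QuotientGroup.eq_one_iff, QuotientGroup.mk_pow, ← hzo]
        exact pow_orderOf_eq_one _)
    have hcomm : ∀ (a : (S : Subgroup (C ⧸ M'))) x,
        ψb a (ψ g x) = ψ g (ψb a x) := by
      intro a x
      show (ψb a * ψb (QuotientGroup.mk' M' g)) x = (ψb (QuotientGroup.mk' M' g) * ψb a) x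
      rw [← map_mul, ← map_mul, hg]
      exact congrArg (fun y => ψb y x) (congrArg Subtype.val (Subgroup.mem_center_iff.1 z.2 a))
    have h1 := hSd.trans (hQ (S : Subgroup (C ⧸ M')) (ψb.comp (S : Subgroup (C ⧸ M')).subtype)
      (hψb.comp Subtype.val_injective) hcomm)
    obtain ⟨k, hk⟩ : ∃ k, n = k + 1 := ⟨n - 1, by omega⟩
    rw [hsn1, hk, show (k + 1) * (k + 1) - 1 = k * (k + 1 + 1) by
      have : (k + 1) * (k + 1) = k * (k + 1 + 1) + 1 := by ring
      omega, pow_two] at h1
    have h2 := Nat.le_of_dvd (by omega) (Nat.dvd_of_mul_dvd_mul_right (by omega) h1)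
    omega
  obtain ⟨s, hs, hsn, hprim⟩ := S2904.result p n hp.one_lt (by omega) h26 (fun h => by omega)
  obtain ⟨-, hd1, ⟨i, hi⟩, -, h2N⟩ := key s hs hsn hprim
  have hodd : ¬ 2 ∣ p := by
    intro h
    have h1 := hNr 2 Nat.prime_two h2N
    rw [hd1, pow_one] at h1
    have := hp.two_le
    omega
  have hi2 : 2 ≤ i := by
    by_contra h
    interval_cases i <;> omega
  obtain ⟨k, rfl⟩ : ∃ k, i = k + 2 := ⟨i - 2, by omega⟩
  set m := 2 ^ (k + 1) with hm
  have hnm : n = 2 * m := by rw [hi, hm, ← pow_succ']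
  have hm2 : 2 ∣ m := by rw [hm, pow_succ]; exact dvd_mul_left 2 _
  have hfac : p ^ n - 1 = (p ^ m - 1) * (p ^ m + 1) := by
    rw [hnm, two_mul, pow_add]
    obtain ⟨Q, hQ⟩ : ∃ Q, p ^ m = Q + 1 := ⟨p ^ m - 1, by have := hpp m; omega⟩
    rw [hQ]
    have : (Q + 1) * (Q + 1) = Q * (Q + 1 + 1) + 1 := by ring
    rw [Nat.add_sub_cancel]
    omega
  have hprimes : ∀ q, q.Prime → q ∣ p ^ m + 1 → q ≠ 2 → q = n + 1 ∧ ¬ q ^ 2 ∣ Nat.card H := by
    intro q hq hqd hq2
    haveI := Fact.mk hq
    have hqn : q ∣ p ^ n - 1 := hfac ▸ hqd.trans (dvd_mul_left _ _)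
    refine ⟨(key q hq hqn ?_).1, (key q hq hqn ?_).2.2.2.1⟩ <;>
    · intro l hl hln hld
      have hpl : (p : ZMod q) ^ l = 1 := by
        rw [← sub_eq_zero, ← Nat.cast_pow, ← Nat.cast_one, ← Nat.cast_sub (hpp l),
          ZMod.natCast_eq_zero_iff]
        exact hld
      have hpm : (p : ZMod q) ^ m = -1 := by
        rw [eq_neg_iff_add_eq_zero, ← Nat.cast_pow, ← Nat.cast_one, ← Nat.cast_add,
          ZMod.natCast_eq_zero_iff]
        exact hqd
      have hpn : (p : ZMod q) ^ n = 1 := by
        rw [hnm, mul_comm, pow_mul, hpm]; ring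
      have ho : orderOf (p : ZMod q) ∣ 2 ^ (k + 2) := hi ▸ orderOf_dvd_of_pow_eq_one hpn
      obtain ⟨a, ha, hoa⟩ := (Nat.dvd_prime_pow Nat.prime_two).1 ho
      have hlt : orderOf (p : ZMod q) ≤ l := Nat.le_of_dvd hl (orderOf_dvd_of_pow_eq_one hpl)
      have ha1 : a ≤ k + 1 := by
        by_contra h
        rw [hoa, show a = k + 2 by omega, ← hi] at hlt
        omega
      have h1 : (p : ZMod q) ^ m = 1 := orderOf_dvd_iff_pow_eq_one.1 (hoa ▸ hm ▸ pow_dvd_pow 2 ha1)
      have h2 : ((2 : ℕ) : ZMod q) = 0 := by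
        rw [Nat.cast_two]
        linear_combination h1.symm.trans hpm
      rw [ZMod.natCast_eq_zero_iff] at h2
      exact hq2 ((Nat.prime_dvd_prime_iff_eq hq Nat.prime_two).1 h2)
  have h4 : p ^ m % 4 = 1 := by
    obtain ⟨c', hc'⟩ := hm2
    rw [hc', pow_mul, Nat.pow_mod]
    have : p ^ 2 % 4 = 1 := by
      rw [Nat.pow_mod]
      have : p % 4 = 1 ∨ p % 4 = 3 := by omega
      rcases this with h | h <;> rw [h]
    rw [this, one_pow]
    norm_num
  obtain ⟨R, hR⟩ : ∃ R, p ^ m + 1 = 2 * R := ⟨(p ^ m + 1) / 2, by omega⟩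
  have hRle : R ≤ n + 1 := by
    by_cases hR1 : R = 1
    · omega
    obtain ⟨q, hq, hqR⟩ := Nat.exists_prime_and_dvd hR1
    have hqd : q ∣ p ^ m + 1 := hR ▸ dvd_mul_of_dvd_right hqR 2
    have hq2 : q ≠ 2 := fun h => by
      subst h
      omega
    obtain ⟨hqn1, hq2H⟩ := hprimes q hq hqd hq2
    obtain ⟨R', rfl⟩ := hqR
    by_cases hR' : R' = 1
    · rw [hR', mul_one]; omega
    exfalso
    obtain ⟨q', hq', hq'R⟩ := Nat.exists_prime_and_dvd hR'
    have hq'2 : q' ≠ 2 := fun h => by
      subst h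
      obtain ⟨t, rfl⟩ := hq'R
      rw [show 2 * (q * (2 * t)) = 4 * (q * t) by ring] at hR
      omega
    have hq'eq : q' = q := by
      rw [(hprimes q' hq' (hR ▸ dvd_mul_of_dvd_right (dvd_mul_of_dvd_right hq'R q) 2) hq'2).1, hqn1]
    refine hq2H (dvd_trans ?_ (hfac ▸ hVH))
    refine dvd_mul_of_dvd_right (hR ▸ dvd_mul_of_dvd_right ?_ 2) _
    rw [pow_two]
    exact mul_dvd_mul_left q (hq'eq ▸ hq'R)
  have hp3 : 3 ≤ p := by have := hp.two_le; omega
  rcases Nat.eq_zero_or_pos k with hk | hk
  · subst hk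
    have hm' : m = 2 := by rw [hm]; norm_num
    have hn4 : n = 4 := by rw [hnm, hm']
    rw [hm'] at hR
    have hple : p ≤ 3 := by
      by_contra hgt
      have h1 : 4 * 4 ≤ p ^ 2 := by rw [pow_two]; exact Nat.mul_le_mul (by omega) (by omega)
      omega
    have : p = 3 := by omega
    rw [hVn, hn4, this]
    norm_num
  · exfalso
    have hm4 : 4 ≤ m := by
      rw [hm, show k + 1 = k - 1 + 2 by omega, pow_add]
      have := Nat.two_pow_pos (k - 1)
      omega
    have h1 := three_pow_gt m hm4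
    have h2 : 3 ^ m ≤ p ^ m := Nat.pow_le_pow_left hp3 m
    omega

end Cfsg.Agent.Lie.HuppertTransitive
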