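import Mathlib
import Cfsg.Prelude.Def_KGroupFacts

/-!
A finite stem extension all of whose Sylow subgroups are abelian has trivial kernel; a criterion for an
elementary abelian group of order eight to lift to an abelian group in central extensions.
-/

set_option autoImplicit false

open scoped commutatorElement

namespace Cfsg.Agent.Lie.StemSylow

/-- Abelian Sylow subgroups force a trivial stem kernel. -/
theorem ker_eq_bot {Γ G : Type*} [Group Γ] [Group G] [Finite Γ] (σ : Γ →* G) (hσ : Cfsg.IsStemExtension σ)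
    (h : ∀ p : ℕ, p.Prime → ∀ P : Sylow p Γ, IsMulCommutative (P : Subgroup Γ)) : σ.ker = ⊥ := by
  obtain ⟨-, hc, hd⟩ := hσ
  by_contra hne
  have h1 : Nat.card σ.ker ≠ 1 := fun e => hne (Subgroup.eq_bot_of_card_eq _ e)
  obtain ⟨p, hp, hdvd⟩ := Nat.exists_prime_and_dvd h1
  haveI := Fact.mk hp
  obtain ⟨z, hz⟩ := exists_prime_orderOf_dvd_card' p hdvd
  have hzo : orderOf (z : Γ) = p := by rwa [Subgroup.orderOf_coe]
  have hzc : ∀ g : Γ, g * z = z * g := Subgroup.mem_center_iff.1 (hc z.2)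
  obtain ⟨P⟩ := (inferInstance : Nonempty (Sylow p Γ))
  haveI := h p hp P
  have hzP : (z : Γ) ∈ (P : Subgroup Γ) := by
    haveI : (Subgroup.zpowers (z : Γ)).Normal := ⟨fun x hx g => by
      have hx' := hc (Subgroup.zpowers_le.2 z.2 hx)
      rwa [Subgroup.mem_center_iff.1 hx' g, mul_inv_cancel_right]⟩
    have hpg : IsPGroup p (Subgroup.zpowers (z : Γ)) :=
      IsPGroup.of_card (n := 1) (by rw [Nat.card_zpowers, hzo, pow_one])
    obtain ⟨Q, hQ⟩ := hpg.exists_le_sylow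
    obtain ⟨g, hg⟩ := MulAction.exists_smul_eq Γ Q P
    rw [← hg, Sylow.coe_subgroup_smul]
    refine ⟨z, hQ (Subgroup.mem_zpowers _), ?_⟩
    show g * z * g⁻¹ = z
    rw [hzc, mul_inv_cancel_right]
  letI : CommGroup (P : Subgroup Γ) := { (inferInstance : Group (P : Subgroup Γ)) with mul_comm := mul_comm' }
  haveI : (P : Subgroup Γ).FiniteIndex := inferInstance
  have ht := MonoidHom.transfer_eq_pow (MonoidHom.id (P : Subgroup Γ)) (z : Γ) (fun k g _ => by
    rw [mul_assoc, ← (Commute.pow_right (show Commute g (z : Γ) from hzc g) k).eq, inv_mul_cancel_left])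
  have hker : (z : Γ) ∈ (MonoidHom.transfer (MonoidHom.id (P : Subgroup Γ))).ker :=
    Abelianization.commutator_subset_ker _ (hd z.2)
  rw [MonoidHom.mem_ker, ht] at hker
  have he : (z : Γ) ^ (P : Subgroup Γ).index = 1 := congrArg Subtype.val hker
  have := orderOf_dvd_of_pow_eq_one he
  rw [hzo] at this
  exact P.not_dvd_index this

/-- A subgroup mapping into a cyclic group with central kernel is commutative. -/
theorem comm_of_cyclic_image {Γ G : Type*} [Group Γ] [Group G] (σ : Γ →* G) (hc : σ.ker ≤ Subgroup.center Γ)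
    (H : Subgroup Γ) (hH : IsCyclic (H.map σ)) : IsMulCommutative H := by
  refine ⟨⟨fun a b => ?_⟩⟩
  obtain ⟨⟨g, hg⟩, hgen⟩ := hH.exists_generator
  obtain ⟨u, hu, rfl⟩ := hg
  have key : ∀ a : H, ∃ (k : ℤ) (c : Γ), c ∈ Subgroup.center Γ ∧ (a : Γ) = u ^ k * c := by
    intro a
    obtain ⟨k, hk⟩ := hgen ⟨σ a, a, a.2, rfl⟩
    refine ⟨k, (u ^ k)⁻¹ * a, hc ?_, by rw [mul_inv_cancel_left]⟩
    rw [MonoidHom.mem_ker, map_mul, map_inv, map_zpow, inv_mul_eq_one]
    exact congrArg Subtype.val hk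
  obtain ⟨k, c, hc1, ea⟩ := key a
  obtain ⟨l, d, hd1, eb⟩ := key b
  refine Subtype.ext ?_
  show (a : Γ) * b = b * a
  rw [ea, eb]
  have c1 : ∀ x, Commute c x := fun x => (Subgroup.mem_center_iff.1 hc1 x).symm
  have d1 : ∀ x, Commute d x := fun x => (Subgroup.mem_center_iff.1 hd1 x).symm
  exact (((Commute.refl u).zpow_zpow k l).mul_right (d1 _).symm).mul_left ((c1 _).mul_right (c1 _))

/-- Three commuting involutions cyclically permuted as `a ↦ b ↦ c ↦ ab` lift to commuting elements. -/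
theorem lifts_commute {Γ G : Type*} [Group Γ] [Group G] (σ : Γ →* G) (hs : Function.Surjective σ)
    (hc : σ.ker ≤ Subgroup.center Γ) {a b c h : G}
    (hab : a * b = b * a) (hac : a * c = c * a) (hbc : b * c = c * b)
    (h1 : h * a = b * h) (h2 : h * b = c * h) (h3 : h * c = a * b * h) {x y : Γ}
    (hx : σ x ∈ Subgroup.closure ({a, b, c} : Set G)) (hy : σ y ∈ Subgroup.closure ({a, b, c} : Set G)) :
    x * y = y * x := by
  obtain ⟨A, rfl⟩ := hs a
  obtain ⟨B, rfl⟩ := hs b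
  obtain ⟨C, rfl⟩ := hs c
  obtain ⟨N, rfl⟩ := hs h
  have hcom : ∀ u v : Γ, σ u * σ v = σ v * σ u → ⁅u, v⁆ ∈ Subgroup.center Γ := fun u v e => hc (by
    rw [MonoidHom.mem_ker, map_commutatorElement, commutatorElement_eq_one_iff_mul_comm]
    exact e)
  have hsame : ∀ u u' v v' : Γ, σ u = σ u' → σ v = σ v' → ⁅u, v⁆ = ⁅u', v'⁆ := by
    intro u u' v v' eu ev
    have hk : u'⁻¹ * u ∈ Subgroup.center Γ := hc (by rw [MonoidHom.mem_ker, map_mul, map_inv, eu, inv_mul_cancel])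
    have hl : v'⁻¹ * v ∈ Subgroup.center Γ := hc (by rw [MonoidHom.mem_ker, map_mul, map_inv, ev, inv_mul_cancel])
    obtain ⟨k, hk', rfl⟩ : ∃ k ∈ Subgroup.center Γ, u = u' * k := ⟨_, hk, (mul_inv_cancel_left _ _).symm⟩
    obtain ⟨l, hl', rfl⟩ : ∃ l ∈ Subgroup.center Γ, v = v' * l := ⟨_, hl, (mul_inv_cancel_left _ _).symm⟩
    have k1 : ∀ x, Commute k x := fun x => (Subgroup.mem_center_iff.1 hk' x).symm
    have l1 : ∀ x, Commute l x := fun x => (Subgroup.mem_center_iff.1 hl' x).symm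
    rw [commutatorElement_def, commutatorElement_def,
      show u' * k * (v' * l) * (u' * k)⁻¹ * (v' * l)⁻¹ = u' * (k * (v' * l) * k⁻¹) * u'⁻¹ * l⁻¹ * v'⁻¹ by group,
      (k1 (v' * l)).eq, mul_inv_cancel_right,
      show u' * (v' * l) * u'⁻¹ * l⁻¹ * v'⁻¹ = u' * v' * (l * u'⁻¹ * l⁻¹) * v'⁻¹ by group,
      (l1 u'⁻¹).eq, mul_inv_cancel_right]
  have hconj : ∀ u v u' v' : Γ, σ u * σ v = σ v * σ u → σ N * σ u = σ u' * σ N → σ N * σ v = σ v' * σ N →
      ⁅u, v⁆ = ⁅u', v'⁆ := by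
    intro u v u' v' e eu ev
    rw [← hsame (N * u * N⁻¹) u' (N * v * N⁻¹) v' (by simp [eu]) (by simp [ev]), ← conjugate_commutatorElement,
      Subgroup.mem_center_iff.1 (hcom u v e) N, mul_inv_cancel_right]
  have hmul : ∀ u v w : Γ, σ u * σ v = σ v * σ u → σ u * σ w = σ w * σ u → ⁅u, v * w⁆ = ⁅u, v⁆ * ⁅u, w⁆ := by
    intro u v w _ e
    rw [show ⁅u, v * w⁆ = ⁅u, v⁆ * (v * ⁅u, w⁆ * v⁻¹) by simp only [commutatorElement_def]; group,
      Subgroup.mem_center_iff.1 (hcom u w e) v, mul_inv_cancel_right]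
  have e1 : ⁅A, B⁆ = ⁅B, C⁆ := hconj A B B C hab h1 h2
  have e2 : ⁅B, C⁆ = ⁅C, A * B⁆ := hconj B C C (A * B) hbc h2 (by rw [map_mul]; exact h3)
  have e3 : ⁅C, A⁆ = ⁅A * B, B⁆ := hconj C A (A * B) B hac.symm (by rw [map_mul]; exact h3) h1
  have e4 : ⁅A * B, B⁆ = ⁅A, B⁆ := by simp only [commutatorElement_def]; group
  have e5 : ⁅C, A * B⁆ = ⁅C, A⁆ * ⁅C, B⁆ := hmul C A B hac.symm hbc.symm
  have hAB : ⁅A, B⁆ = 1 := by
    have := e1.trans (e2.trans e5)
    rw [e3, e4, ← commutatorElement_inv B C, ← e1, mul_inv_cancel] at this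
    exact this
  have hBC : ⁅B, C⁆ = 1 := e1 ▸ hAB
  have hCA : ⁅C, A⁆ = 1 := by rw [e3, e4, hAB]
  let S : Set Γ := {A, B, C} ∪ (Subgroup.center Γ : Set Γ)
  have hpair : ∀ u ∈ S, ∀ v ∈ S, u * v = v * u := by
    have k1 := commutatorElement_eq_one_iff_mul_comm.1 hAB
    have k2 := commutatorElement_eq_one_iff_mul_comm.1 hBC
    have k3 := commutatorElement_eq_one_iff_mul_comm.1 hCA
    rintro u (hu | hu) v (hv | hv)
    · simp only [Set.mem_insert_iff, Set.mem_singleton_iff] at hu hv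
      rcases hu with hu | hu | hu <;> rcases hv with hv | hv | hv <;> rw [hu, hv]
      exacts [k1, k3.symm, k1.symm, k2, k3, k2.symm]
    · exact Subgroup.mem_center_iff.1 hv u
    · exact (Subgroup.mem_center_iff.1 hu v).symm
    · exact Subgroup.mem_center_iff.1 hv u
  haveI : IsMulCommutative (Subgroup.closure S) := Subgroup.isMulCommutative_closure hpair
  have hmem : ∀ x, σ x ∈ Subgroup.closure ({σ A, σ B, σ C} : Set G) → x ∈ Subgroup.closure S := by
    intro x hx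
    have hx' : σ x ∈ (Subgroup.closure ({A, B, C} : Set Γ)).map σ := by
      rw [MonoidHom.map_closure, Set.image_insert_eq, Set.image_pair]
      exact hx
    obtain ⟨s, hs', es⟩ := hx'
    rw [← mul_inv_cancel_left s x]
    refine mul_mem (Subgroup.closure_mono Set.subset_union_left hs') (Subgroup.subset_closure (Or.inr (hc ?_)))
    rw [MonoidHom.mem_ker, map_mul, map_inv, es, inv_mul_cancel]
  exact congrArg Subtype.val (mul_comm' (⟨x, hmem x hx⟩ : Subgroup.closure S) ⟨y, hmem y hy⟩)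

end Cfsg.Agent.Lie.StemSylow
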