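import Mathlib
import Cfsg.Prelude.Def_LieRecognition

/-!
Suzuki two-groups have an elementary abelian centre.
-/

set_option autoImplicit false

namespace Cfsg.Agent.Lie.SuzukiTwo

section Algebra

variable {E : Type*} [CommGroup E] {K : Type*} [CommGroup K] (act : K →* MulAut E)

theorem act_comm (k l : K) (x : E) : act k (act l x) = act l (act k x) := by
  rw [← MulAut.mul_apply, ← MulAut.mul_apply, ← map_mul, ← map_mul, mul_comm]

/-- An equivariant biadditive map into the natural module, zero on the diagonal, is zero. -/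
theorem equiv_zero [Finite E] (he : ∀ x : E, x * x = 1)
    (htr : ∀ x y : E, x ≠ 1 → y ≠ 1 → ∃ k, act k x = y)
    (b : E → E → E) (hl : ∀ x x' y, b (x * x') y = b x y * b x' y)
    (hr : ∀ x y y', b x (y * y') = b x y * b x y')
    (hK : ∀ k x y, b (act k x) (act k y) = act k (b x y)) (hd : ∀ x, b x x = 1) :
    ∀ x y, b x y = 1 := by
  classical
  have hl1 : ∀ y, b 1 y = 1 := fun y => by simpa using hl 1 1 y
  intro x y
  by_cases hx : x = 1
  · rw [hx, hl1]
  have inv_eq : ∀ u : E, u⁻¹ = u := fun u => inv_eq_of_mul_eq_one_right (he u)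
  -- the multiplication maps
  have hh : ∀ t : E, t ≠ 1 → ∃ k, act k x = t := fun t ht => htr x t hx ht
  choose h hhs using hh
  have hall : ∀ u : E, u = 1 ∨ ∃ k, act k x = u := fun u => by
    by_cases hu : u = 1
    · exact Or.inl hu
    · exact Or.inr ⟨h u hu, hhs u hu⟩
  have hadd : ∀ (t : E) (ht : t ≠ 1) (ht' : x * t ≠ 1) (u : E), act (h _ ht') u = u * act (h t ht) u := by
    intro t ht ht' u
    rcases hall u with rfl | ⟨k, rfl⟩
    · rw [map_one, map_one, mul_one]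
    · rw [act_comm act _ k, hhs, act_comm act _ k x, hhs, map_mul]
  let T : E → E := fun t => if ht : t = 1 then 1 else act (h t ht) t
  have hTinj : Function.Injective T := by
    intro t s hts
    by_cases ht : t = 1
    · by_cases hs : s = 1
      · rw [ht, hs]
      · simp only [T, dif_pos ht, dif_neg hs] at hts
        exact absurd ((act (h s hs)).injective (hts.symm.trans (map_one _).symm)) hs
    by_cases hs : s = 1
    · simp only [T, dif_pos hs, dif_neg ht] at hts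
      exact absurd ((act (h t ht)).injective (hts.trans (map_one _).symm)) ht
    simp only [T, dif_neg ht, dif_neg hs] at hts
    obtain ⟨k, hk⟩ := htr t s ht hs
    have hs' : ∀ u, act (h s hs) u = act k (act (h t ht) u) := fun u => by
      rcases hall u with rfl | ⟨l, rfl⟩
      · simp only [map_one]
      · rw [act_comm act _ l, hhs, act_comm act _ l x, hhs, act_comm act k l, hk]
    set u := act (h t ht) t with hu
    have hu1 : u ≠ 1 := fun h1 => ht ((act (h t ht)).injective (h1.trans (map_one _).symm))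
    have hk2 : act k (act k u) = u := by
      conv_rhs => rw [hts, hs', ← hk, act_comm act (h t ht) k t]
    have hku : act k u = u := by
      by_contra hne
      have hw : act k (act k u * u) = act k u * u := by rw [map_mul, hk2, mul_comm]
      have hw1 : act k u * u ≠ 1 := fun h1 => hne ((eq_inv_of_mul_eq_one_left h1).trans (inv_eq u))
      obtain ⟨l, hl'⟩ := htr _ u hw1 hu1
      exact hne (by rw [← hl', act_comm act k l, hw])
    obtain ⟨l, hl'⟩ := htr u t hu1 ht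
    rw [← hk, ← hl', act_comm act k l, hku]
  have hTsurj : Function.Surjective T := Finite.injective_iff_surjective.1 hTinj
  obtain ⟨t, rfl⟩ := hTsurj y
  by_cases ht : t = 1
  · show b x (T t) = 1
    simp only [T, dif_pos ht]
    simpa using hr x 1 1
  show b x (T t) = 1
  simp only [T, dif_neg ht]
  by_cases ht' : x * t = 1
  · have htx : t = x := by rw [← inv_eq x]; exact eq_inv_of_mul_eq_one_right ht'
    have e : ∀ u : E, act (h t ht) u = u := fun u => by
      rcases hall u with rfl | ⟨k, rfl⟩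
      · exact map_one _
      · rw [act_comm act _ k, hhs, htx]
    rw [e, htx, hd]
  · set S := h _ ht'
    set m := h t ht
    have e1 : ∀ u, act S u = u * act m u := hadd t ht ht'
    have eSx : act S x = x * t := hhs _ ht'
    have emx : act m x = t := hhs _ ht
    set g := fun u => b x u with hg
    have hb : ∀ u, b t (act m u) = act m (g u) := fun u => by rw [← emx, hK]
    have h1 : b (x * t) (act S t) = act S (g t) := by rw [← eSx, hK]
    rw [e1 t, hl, hr, hr, e1 (g t)] at h1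
    -- `b t t = 1` and `b t (m t) = m (g t)`
    rw [hb t, hd t, one_mul] at h1
    have h2 : g t * g (act m t) * act m (g t) = g t * act m (g t) := h1
    rw [mul_comm (g t) (g (act m t)), mul_assoc] at h2
    exact mul_eq_right.1 h2

/-- An idempotent endomorphism commuting with its conjugates is zero or one. -/
theorem idem_trivial [Finite E] (htr : ∀ x y : E, x ≠ 1 → y ≠ 1 → ∃ k, act k x = y)
    (d : E →* E) (hd : ∀ x, d (d x) = d x)
    (hcomm : ∀ k x, d (act k (d ((act k).symm x))) = act k (d ((act k).symm (d x)))) :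
    (∀ x, d x = x) ∨ ∀ x, d x = 1 := by
  by_contra hcon
  push Not at hcon
  obtain ⟨⟨x0, hx0⟩, ⟨v0', hv0'⟩⟩ := hcon
  set v := d v0' with hv
  set w := x0 * (d x0)⁻¹ with hw
  have hdv : d v = v := hd _
  have hv1 : v ≠ 1 := hv0'
  have hdw : d w = 1 := by rw [hw, map_mul, map_inv, hd, mul_inv_cancel]
  have hw1 : w ≠ 1 := fun h => hx0 (mul_inv_eq_one.1 h).symm
  have hvw : v * w ≠ 1 := fun h => hv1 (by
    have := congrArg d h; rw [map_mul, hdv, hdw, mul_one, map_one] at this; exact this)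
  obtain ⟨k, hk⟩ := htr (v * w) v hvw hv1
  have hkI : ∀ i, d i = i → d (act k i) = act k i := by
    intro i hi
    by_cases hi1 : i = 1
    · rw [hi1, map_one, map_one]
    obtain ⟨l, hl⟩ := htr i (v * w) hi1 hvw
    have hlsym : (act l).symm (v * w) = i := by rw [← hl, MulEquiv.symm_apply_apply]
    have h := hcomm l (v * w)
    rw [hlsym, hi, hl, map_mul, hdv, hdw, mul_one] at h
    -- now `d' v = v`
    have h' : d ((act l).symm v) = (act l).symm v := by
      apply (act l).injective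
      rw [← h, MulEquiv.apply_symm_apply]
    have e : (act l).symm v = act k i := by
      apply (act l).injective
      rw [MulEquiv.apply_symm_apply, act_comm act l k, hl, hk]
    rwa [e] at h'
  let f : {i : E // d i = i} → {i : E // d i = i} := fun i => ⟨act k i.1, hkI i.1 i.2⟩
  have hf : Function.Surjective f := Finite.injective_iff_surjective.1 fun a b h =>
    Subtype.ext ((act k).injective (congrArg Subtype.val h))
  obtain ⟨i, hi⟩ := hf ⟨v, hdv⟩
  have hi' : i.1 = v * w := (act k).injective ((congrArg Subtype.val hi).trans hk.symm)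
  have := i.2
  rw [hi', map_mul, hdv, hdw, mul_one, left_eq_mul] at this
  exact hw1 this

end Algebra

section Group

variable {P : Type*} [Group P]

/-- abelian, normal, invariant, containing the centre, of exponent `2 ^ e` -/
structure Good (K : Subgroup (MulAut P)) (A : Subgroup P) (e : ℕ) : Prop where
  normal : A.Normal
  comm : ∀ a ∈ A, ∀ b ∈ A, a * b = b * a
  inv : ∀ k ∈ K, ∀ a ∈ A, k a ∈ A
  center_le : Subgroup.center P ≤ A
  he : 2 ≤ e
  exp : ∀ a ∈ A, a ^ 2 ^ e = 1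
  big : ∃ a ∈ A, a ^ 2 ^ (e - 1) ≠ 1

variable (K : Subgroup (MulAut P))
variable (hinvc : ∀ x : P, x * x = 1 → x ∈ Subgroup.center P)
variable (htr : ∀ x y : P, x ≠ 1 → x * x = 1 → y ≠ 1 → y * y = 1 → ∃ k ∈ K, k x = y)

/-- the layer above `A` -/
def layer (A : Subgroup P) : Set P := {y | (∀ x, y * x * y⁻¹ * x⁻¹ ∈ A) ∧ y * y ∈ A}

variable {K} {A : Subgroup P} {e : ℕ}

theorem layer_mem_iff (hA : Good K A e) (y : P) :
    y ∈ layer A ↔ (∀ x : P ⧸ A, (haveI := hA.normal; (y : P ⧸ A) * x = x * (y : P ⧸ A))) ∧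
      (haveI := hA.normal; (y : P ⧸ A) * (y : P ⧸ A) = 1) := by
  haveI := hA.normal
  rw [← QuotientGroup.mk_mul, QuotientGroup.eq_one_iff]
  refine and_congr ⟨fun h x => ?_, fun h x => ?_⟩ Iff.rfl
  · induction x using QuotientGroup.induction_on with
    | H x =>
      rw [← QuotientGroup.mk_mul, ← QuotientGroup.mk_mul, eq_comm, QuotientGroup.eq]
      have := hA.normal.conj_mem _ (h x) (x * y)⁻¹
      convert this using 1; group
  · have h' := h (x : P ⧸ A)
    rw [← QuotientGroup.mk_mul, ← QuotientGroup.mk_mul, eq_comm, QuotientGroup.eq] at h'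
    have := hA.normal.conj_mem _ h' (x * y)
    convert this using 1; group

include hinvc in
theorem sq_one_mem (hA : Good K A e) {u : P} (hu : u * u = 1) : u ∈ A := hA.center_le (hinvc u hu)

theorem comm_pow (hA : Good K A e) {a b : P} (ha : a ∈ A) (hb : b ∈ A) (n : ℕ) :
    (a * b) ^ n = a ^ n * b ^ n := (show Commute a b from hA.comm a ha b hb).mul_pow n

include hinvc htr in
theorem sq_one_root (hA : Good K A e) {u : P} (hu : u * u = 1) : ∃ c ∈ A, c ^ 2 ^ (e - 1) = u := by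
  by_cases h1 : u = 1
  · exact ⟨1, one_mem _, by rw [one_pow, h1]⟩
  obtain ⟨a, ha, hne⟩ := hA.big
  have hsq : a ^ 2 ^ (e - 1) * a ^ 2 ^ (e - 1) = 1 := by
    rw [← pow_add, ← two_mul, ← pow_succ', show e - 1 + 1 = e by have := hA.he; omega]
    exact hA.exp a ha
  obtain ⟨k, hk, hka⟩ := htr _ u hne hsq h1 hu
  exact ⟨k a, hA.inv k hk a ha, by rw [← map_pow, hka]⟩

include hinvc htr in
theorem root (hA : Good K A e) : ∀ j ≤ e, ∀ a ∈ A, a ^ 2 ^ j = 1 → ∃ c ∈ A, c ^ 2 ^ (e - j) = a := by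
  intro j
  induction j with
  | zero => intro _ a _ h; exact ⟨1, one_mem _, by rw [one_pow]; simpa using h.symm⟩
  | succ j ih =>
    intro hj a ha h
    obtain ⟨c, hc, hca⟩ := ih (by omega) (a * a) (mul_mem ha ha) (by rw [← pow_two, ← pow_mul, ← pow_succ']; exact h)
    set m := e - (j + 1) with hm
    have hej : e - j = m + 1 := by omega
    rw [hej, pow_succ, pow_mul] at hca
    set b := c ^ 2 ^ m with hb
    have hbA : b ∈ A := pow_mem hc _
    have hu : (b⁻¹ * a) * (b⁻¹ * a) = 1 := by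
      rw [← pow_two, comm_pow hA (inv_mem hbA) ha, inv_pow, hca, ← pow_two, inv_mul_cancel]
    obtain ⟨d, hd, hdu⟩ := sq_one_root hinvc htr hA hu
    refine ⟨c * d ^ 2 ^ j, mul_mem hc (pow_mem hd _), ?_⟩
    rw [comm_pow hA hc (pow_mem hd _), ← pow_mul, ← pow_add, show j + m = e - 1 by omega, hdu, ← hb, mul_inv_cancel_left]

theorem sq_pi (hA : Good K A e) {c : P} (hc : c ∈ A) : (c ^ 2) ^ 2 ^ (e - 1) = 1 := by
  rw [← pow_mul, ← pow_succ', show e - 1 + 1 = e by have := hA.he; omega]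
  exact hA.exp c hc

theorem pow_small (hA : Good K A e) {c : P} {j : ℕ} (hj : j ≤ e - 1) (h : c ^ 2 ^ j = 1) : c ^ 2 ^ (e - 1) = 1 := by
  obtain ⟨i, hi⟩ := Nat.exists_eq_add_of_le hj
  rw [hi, pow_add, pow_mul, h, one_pow]

include hinvc in
theorem pi_inv {u : P} (hu : u * u = 1) (x : P) : x * u * x⁻¹ = u := by
  rw [Subgroup.mem_center_iff.1 (hinvc u hu) x, mul_inv_cancel_right]

/-- the action on `A` -/
def phi (y a : P) : P := y * a * y⁻¹ * a⁻¹

theorem phi_mem (hA : Good K A e) (y : P) {a : P} (ha : a ∈ A) : phi y a ∈ A :=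
  mul_mem (hA.normal.conj_mem a ha y) (inv_mem ha)

theorem phi_mul (hA : Good K A e) (y : P) {a b : P} (ha : a ∈ A) (hb : b ∈ A) :
    phi y (a * b) = phi y a * phi y b := by
  have h := hA.comm _ (phi_mem hA y hb) a⁻¹ (inv_mem ha)
  simp only [phi] at h ⊢
  calc y * (a * b) * y⁻¹ * (a * b)⁻¹ = y * a * y⁻¹ * (y * b * y⁻¹ * b⁻¹ * a⁻¹) := by group
    _ = y * a * y⁻¹ * (a⁻¹ * (y * b * y⁻¹ * b⁻¹)) := by rw [h]
    _ = _ := by group

theorem phi_pow (hA : Good K A e) (y : P) {a : P} (ha : a ∈ A) (n : ℕ) : phi y (a ^ n) = phi y a ^ n := by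
  induction n with
  | zero => simp [phi]
  | succ n ih => rw [pow_succ, phi_mul hA y (pow_mem ha n) ha, ih, pow_succ]

theorem phi_comp (y z a : P) : phi (y * z) a = phi y (phi z a * a) * phi z a := by
  simp only [phi]; group

theorem phi_apply_equiv (k : MulAut P) (y a : P) : phi (k y) (k a) = k (phi y a) := by simp [phi]

theorem phi_sq (hA : Good K A e) {y : P} (hy : y * y ∈ A) {a : P} (ha : a ∈ A) :
    phi y (phi y a) * (phi y a) ^ 2 = 1 := by
  have h0 : phi (y * y) a = 1 := by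
    simp only [phi]
    rw [hA.comm _ hy a ha, mul_inv_cancel_right, mul_inv_cancel]
  rw [phi_comp, phi_mul hA y (phi_mem hA y ha) ha, mul_assoc, ← pow_two] at h0
  exact h0

/-- squares on a layer -/
theorem sq_prod (y z : P) : (y * z) * (y * z) = (y * y) * ((y⁻¹ * z * y * z⁻¹) * (z * z)) := by group

include hinvc in
theorem comm_small (hA : Good K A e) {y z : P} (hy : y ∈ layer A)
    (hsmall : ∀ a ∈ A, phi z a * phi z a = 1 ∧ phi y a * phi y a = 1) :
    let c := y⁻¹ * z * y * z⁻¹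
    c ∈ A ∧ c ^ 4 = 1 ∧ ((∀ a ∈ A, phi z a = 1 ∧ phi y a = 1) → c ^ 2 = 1) := by
  intro c
  have hcA : c ∈ A := by
    have := hA.normal.conj_mem _ (inv_mem (hy.1 z)) y⁻¹
    convert this using 1
    simp only [c]; group
  have h2 := hy.2
  have e2 : (y⁻¹ * c * y) * c = (y * y)⁻¹ * z * (y * y) * z⁻¹ := by simp only [c]; group
  have e3 : (y * y)⁻¹ * z * (y * y) * z⁻¹ = (y * y)⁻¹ * phi z (y * y) * (y * y) := by simp only [phi]; group
  have hphi : phi z (y * y) * phi z (y * y) = 1 := (hsmall _ h2).1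
  have e4 : (y⁻¹ * c * y) * c = phi z (y * y) := by
    rw [e2, e3, mul_assoc, hA.comm _ (phi_mem hA z h2) _ h2, inv_mul_cancel_left]
  clear_value c
  -- conjugation by `y` moves `c` by an involution
  have hc' : y⁻¹ * c * y ∈ A := by
    have := hA.normal.conj_mem c hcA y⁻¹
    rwa [inv_inv] at this
  have e5 : y⁻¹ * c * y = c * (phi y (y⁻¹ * c * y))⁻¹ := by
    have : phi y (y⁻¹ * c * y) = c * (y⁻¹ * c * y)⁻¹ := by simp only [phi]; group
    rw [this, mul_inv_rev, inv_inv, ← mul_assoc, hA.comm c hcA _ hc', mul_inv_cancel_right]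
  have hu := (hsmall _ hc').2
  set u := phi y (y⁻¹ * c * y) with hudef
  have huA : u ∈ A := phi_mem hA y hc'
  have hu' : u⁻¹ = u := inv_eq_of_mul_eq_one_right hu
  rw [e5, hu'] at e4
  have e6 : c ^ 2 * u = phi z (y * y) := by
    rw [← e4, pow_two, mul_assoc c u c, hA.comm u huA c hcA, ← mul_assoc]
  refine ⟨hcA, ?_, fun h => ?_⟩
  · have h4 : (c ^ 2 * u) ^ 2 = 1 := by rw [e6, pow_two (phi z (y * y))]; exact hphi
    rw [comm_pow hA (pow_mem hcA 2) huA, pow_two u, hu, mul_one, ← pow_mul] at h4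
    exact h4
  · have hu1 : u = 1 := (h _ hc').2
    rw [hu1, mul_one, (h _ h2).1] at e6
    exact e6

/-- a subgroup from a multiplicatively closed set in a finite group -/
def ofMul [Finite P] (s : Set P) (h1 : (1 : P) ∈ s) (hm : ∀ x ∈ s, ∀ y ∈ s, x * y ∈ s) : Subgroup P where
  carrier := s
  one_mem' := h1
  mul_mem' := fun hx hy => hm _ hx _ hy
  inv_mem' := fun {x} hx => by
    have hpow : ∀ n : ℕ, x ^ n ∈ s := fun n => by
      induction n with
      | zero => rw [pow_zero]; exact h1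
      | succ n ih => rw [pow_succ]; exact hm _ ih _ hx
    have h : x⁻¹ = x ^ (orderOf x - 1) := by
      refine inv_eq_of_mul_eq_one_right ?_
      rw [← pow_succ', Nat.sub_add_cancel (orderOf_pos x), pow_orderOf_eq_one]
    rw [h]
    exact hpow _

theorem layer_one (hA : Good K A e) : (1 : P) ∈ layer A :=
  ⟨fun x => by simp, by simp⟩

theorem layer_mul (hA : Good K A e) {y z : P} (hy : y ∈ layer A) (hz : z ∈ layer A) : y * z ∈ layer A := by
  haveI := hA.normal
  rw [layer_mem_iff hA] at hy hz ⊢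
  refine ⟨fun x => ?_, ?_⟩
  · rw [QuotientGroup.mk_mul, mul_assoc, hz.1, ← mul_assoc, hy.1, mul_assoc]
  · rw [QuotientGroup.mk_mul, mul_assoc, ← mul_assoc (z : P ⧸ A), hz.1 (y : P ⧸ A), mul_assoc (y : P ⧸ A),
      hz.2, mul_one, hy.2]

theorem layer_of_mem (hA : Good K A e) {a : P} (ha : a ∈ A) : a ∈ layer A :=
  ⟨fun x => by
    have h := mul_mem ha (hA.normal.conj_mem _ (inv_mem ha) x)
    convert h using 1; group, mul_mem ha ha⟩

theorem layer_inv (hA : Good K A e) {k : MulAut P} (hk : k ∈ K) {y : P} (hy : y ∈ layer A) : k y ∈ layer A := by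
  refine ⟨fun x => ?_, ?_⟩
  · have h := hA.inv k hk _ (hy.1 (k.symm x))
    simpa using h
  · rw [← map_mul]; exact hA.inv k hk _ hy.2

theorem phi_one_of_mem (hA : Good K A e) {a b : P} (ha : a ∈ A) (hb : b ∈ A) : phi a b = 1 := by
  simp only [phi]
  rw [hA.comm a ha b hb, mul_inv_cancel_right, mul_inv_cancel]

include hinvc in
theorem phi_central (y : P) {u : P} (hu : u * u = 1) : phi y u = 1 := by
  show y * u * y⁻¹ * u⁻¹ = 1
  rw [pi_inv hinvc hu y, mul_inv_cancel]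

include hinvc in
theorem pi_phi (hA : Good K A e) (y : P) {a : P} (ha : a ∈ A) : phi y a ^ 2 ^ (e - 1) = 1 := by
  rw [← phi_pow hA y ha]
  refine phi_central hinvc y ?_
  rw [← pow_two, ← pow_mul, mul_comm, pow_mul]
  exact sq_pi hA ha

theorem pi_sq_one (hA : Good K A e) {u : P} (hu : u * u = 1) : u ^ 2 ^ (e - 1) = 1 :=
  pow_small hA (by have := hA.he; omega : 1 ≤ e - 1) (by rw [pow_one, pow_two]; exact hu)

theorem pi_invol (hA : Good K A e) {a : P} (ha : a ∈ A) : a ^ 2 ^ (e - 1) * a ^ 2 ^ (e - 1) = 1 := by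
  rw [← pow_two, ← pow_mul, mul_comm, pow_mul]; exact sq_pi hA ha

include hinvc htr in
theorem root_pi (hA : Good K A e) {a : P} (ha : a ∈ A) (h : a ^ 2 ^ (e - 1) = 1) : ∃ c ∈ A, c ^ 2 = a := by
  obtain ⟨c, hc, h'⟩ := root hinvc htr hA (e - 1) (by omega) a ha h
  rw [show e - (e - 1) = 1 by have := hA.he; omega, pow_one] at h'
  exact ⟨c, hc, h'⟩

section Layer

variable {S : Subgroup P} (hA : Good K A e) (hSl : ∀ y ∈ S, y ∈ layer A) (hAS : A ≤ S)
  (hSK : ∀ k ∈ K, ∀ y ∈ S, k y ∈ S) (hsm : ∀ y ∈ S, ∀ a ∈ A, phi y a * phi y a = 1)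
  (hh : 3 ≤ e ∨ ∀ y ∈ S, ∀ a ∈ A, phi y a = 1)

include hinvc hA hSl hsm hh in
theorem sq_hom {y z : P} (hy : y ∈ S) (hz : z ∈ S) :
    ((y * z) * (y * z)) ^ 2 ^ (e - 1) = (y * y) ^ 2 ^ (e - 1) * (z * z) ^ 2 ^ (e - 1) := by
  obtain ⟨hc, h4, h2⟩ := comm_small hinvc hA (hSl y hy) (fun a ha => ⟨hsm z hz a ha, hsm y hy a ha⟩)
  rw [sq_prod, comm_pow hA (hSl y hy).2 (mul_mem hc (hSl z hz).2), comm_pow hA hc (hSl z hz).2]
  have hpi : (y⁻¹ * z * y * z⁻¹) ^ 2 ^ (e - 1) = 1 := by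
    rcases hh with he | h
    · exact pow_small hA (by omega : 2 ≤ e - 1) h4
    · exact pow_small hA (by have := hA.he; omega : 1 ≤ e - 1) (h2 fun a ha => ⟨h z hz a ha, h y hy a ha⟩)
  rw [hpi, one_mul]

include hinvc htr hA hSl hsm hh in
theorem sq_ker {y : P} (hy : y ∈ S) (h : (y * y) ^ 2 ^ (e - 1) = 1) : y ∈ A := by
  obtain ⟨c, hc, hcy⟩ := root_pi hinvc htr hA (hSl y hy).2 h
  set u := phi y c⁻¹ with hu
  have huA : u ∈ A := phi_mem hA y (inv_mem hc)
  have huu : u * u = 1 := hsm y hy _ (inv_mem hc)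
  have e1 : (y * c⁻¹) * (y * c⁻¹) = u := by
    calc (y * c⁻¹) * (y * c⁻¹) = (y * c⁻¹ * y⁻¹ * (c⁻¹)⁻¹) * (c⁻¹ * (y * y) * c⁻¹) := by group
      _ = u * (c⁻¹ * c ^ 2 * c⁻¹) := by rw [← hcy]; rfl
      _ = u := by group
  have key : ∀ v ∈ A, phi y v = 1 → v ^ 2 = u → y ∈ A := by
    intro v hv hv1 hvu
    have e2 : (y * c⁻¹ * v⁻¹) * (y * c⁻¹ * v⁻¹) = 1 := by
      have hcomm : Commute (y * c⁻¹) v⁻¹ := by
        refine Commute.inv_right (Commute.mul_left ?_ ((show Commute c v from hA.comm c hc v hv).inv_left))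
        simp only [phi] at hv1
        rw [mul_inv_eq_one, mul_inv_eq_iff_eq_mul] at hv1
        exact hv1
      calc (y * c⁻¹ * v⁻¹) * (y * c⁻¹ * v⁻¹) = (y * c⁻¹) * (v⁻¹ * (y * c⁻¹)) * v⁻¹ := by group
        _ = (y * c⁻¹) * ((y * c⁻¹) * v⁻¹) * v⁻¹ := by rw [hcomm.eq]
        _ = ((y * c⁻¹) * (y * c⁻¹)) * (v ^ 2)⁻¹ := by group
        _ = 1 := by rw [e1, hvu, mul_inv_cancel]
    have := mul_mem (mul_mem (sq_one_mem hinvc hA e2) hv) hc
    simpa [mul_assoc] using this
  rcases hh with he | h1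
  · obtain ⟨d, hd, hdu⟩ := sq_one_root hinvc htr hA huu
    refine key (d ^ 2 ^ (e - 2)) (pow_mem hd _) ?_ ?_
    · rw [phi_pow hA y hd]
      obtain ⟨i, hi⟩ := Nat.exists_eq_add_of_le (by omega : 1 ≤ e - 2)
      rw [hi, pow_add, pow_mul, pow_one, pow_two, hsm y hy d hd, one_pow]
    · rw [← pow_mul, ← pow_succ, show e - 2 + 1 = e - 1 by omega, hdu]
  · exact key 1 (one_mem _) (by simp [phi]) (by rw [one_pow, hu, h1 y hy _ (inv_mem hc)])

include hinvc htr hA hSl hSK hsm hh in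
theorem sq_surj {y0 : P} (hy0 : y0 ∈ S) (hy0A : y0 ∉ A) {u : P} (hu : u * u = 1) :
    ∃ y ∈ S, (y * y) ^ 2 ^ (e - 1) = u := by
  by_cases h1 : u = 1
  · exact ⟨1, one_mem _, by simp [h1]⟩
  obtain ⟨k, hk, hku⟩ := htr _ u (fun h => hy0A (sq_ker hinvc htr hA hSl hsm hh hy0 h))
    (pi_invol hA (hSl y0 hy0).2) h1 hu
  exact ⟨k y0, hSK k hk y0 hy0, by rw [← map_mul, ← map_pow, hku]⟩

include hinvc htr hA hSl hSK hsm hh in
/-- equivariant biadditive functions on a layer vanish -/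
theorem pair_vanish [Finite P] [IsCyclic ↥K] {T : Set P} (c : P → P → P) (q : P → P)
    (hTmul : ∀ x ∈ T, ∀ y ∈ T, x * y ∈ T) (hTK : ∀ k ∈ K, ∀ x ∈ T, k x ∈ T)
    (hq2 : ∀ x ∈ T, q x * q x = 1) (hqmul : ∀ x ∈ T, ∀ y ∈ T, q (x * y) = q x * q y)
    (hqK : ∀ k ∈ K, ∀ x, q (k x) = k (q x)) (hqs : ∀ u, u * u = 1 → ∃ x ∈ T, q x = u)
    (hc2 : ∀ y ∈ S, ∀ x ∈ T, c y x * c y x = 1)
    (hcl : ∀ y ∈ S, ∀ y' ∈ S, ∀ x ∈ T, c (y * y') x = c y x * c y' x)
    (hcr : ∀ y ∈ S, ∀ x ∈ T, ∀ x' ∈ T, c y (x * x') = c y x * c y x')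
    (hcA : ∀ a ∈ A, ∀ x ∈ T, c a x = 1)
    (hcq : ∀ y ∈ S, ∀ x ∈ T, q x = 1 → c y x = 1)
    (hcK : ∀ k ∈ K, ∀ y x, c (k y) (k x) = k (c y x))
    (hcd : ∀ y ∈ S, ∀ x ∈ T, q x = (y * y) ^ 2 ^ (e - 1) → c y x = 1) :
    ∀ y ∈ S, ∀ x ∈ T, c y x = 1 := by
  classical
  intro y hy x hx
  by_cases hyA : y ∈ A
  · exact hcA y hyA x hx
  let E : Subgroup P :=
    { carrier := {u | u * u = 1}
      one_mem' := mul_one 1
      mul_mem' := fun {a b} ha hb => by
        show a * b * (a * b) = 1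
        have ha' : a * a = 1 := ha
        have hb' : b * b = 1 := hb
        rw [mul_assoc, ← mul_assoc b, Subgroup.mem_center_iff.1 (hinvc a ha') b, mul_assoc a, hb', mul_one, ha']
      inv_mem' := fun {a} ha => by
        show a⁻¹ * a⁻¹ = 1
        rw [← mul_inv_rev, show a * a = 1 from ha, inv_one] }
  letI : CommGroup ↥E := { (inferInstance : Group ↥E) with
    mul_comm := fun a b => Subtype.ext (Subgroup.mem_center_iff.1 (hinvc b.1 b.2) a.1) }
  letI : CommGroup ↥K := IsCyclic.commGroup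
  have hKE : ∀ (k : MulAut P) (u : P), u * u = 1 → k u * k u = 1 := fun k u hu => by rw [← map_mul, hu, map_one]
  let act : ↥K →* MulAut ↥E :=
    { toFun := fun k =>
        { toFun := fun u => ⟨k.1 u.1, hKE k.1 u.1 u.2⟩
          invFun := fun u => ⟨k.1.symm u.1, hKE k.1.symm u.1 u.2⟩
          left_inv := fun u => Subtype.ext (k.1.symm_apply_apply u.1)
          right_inv := fun u => Subtype.ext (k.1.apply_symm_apply u.1)
          map_mul' := fun u v => Subtype.ext (map_mul k.1 u.1 v.1) }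
      map_one' := MulEquiv.ext fun u => Subtype.ext rfl
      map_mul' := fun k l => MulEquiv.ext fun u => Subtype.ext rfl }
  have hsur := fun u : ↥E => sq_surj hinvc htr hA hSl hSK hsm hh hy hyA u.2
  choose sy hsyS hsy using hsur
  choose sx hsxT hsx using fun u : ↥E => hqs u.1 u.2
  have wl : ∀ (y1 y2 x1 : P), y1 ∈ S → y2 ∈ S → x1 ∈ T →
      (y1 * y1) ^ 2 ^ (e - 1) = (y2 * y2) ^ 2 ^ (e - 1) → c y1 x1 = c y2 x1 := by
    intro y1 y2 x1 h1 h2 hx1 h
    have hmem : y2⁻¹ * y1 ∈ A := sq_ker hinvc htr hA hSl hsm hh (mul_mem (inv_mem h2) h1) (by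
      have := sq_hom hinvc hA hSl hsm hh h2 (mul_mem (inv_mem h2) h1)
      rw [mul_inv_cancel_left, h] at this
      exact (left_eq_mul).1 this)
    have := hcl y2 h2 _ (mul_mem (inv_mem h2) h1) x1 hx1
    rw [mul_inv_cancel_left, hcA _ hmem x1 hx1, mul_one] at this
    exact this
  have hTpow : ∀ x1 ∈ T, ∀ n : ℕ, x1 ^ (n + 1) ∈ T := fun x1 h1 n => by
    induction n with
    | zero => simpa using h1
    | succ n ih => rw [pow_succ]; exact hTmul _ ih _ h1
  have wr : ∀ (y1 x1 x2 : P), y1 ∈ S → x1 ∈ T → x2 ∈ T → q x1 = q x2 → c y1 x1 = c y1 x2 := by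
    intro y1 x1 x2 h1 hx1 hx2 h
    have h12 : q (x1 * x2) = 1 := by rw [hqmul _ hx1 _ hx2, h, hq2 _ hx2]
    have := hcr y1 h1 x1 hx1 x2 hx2
    rw [hcq y1 h1 _ (hTmul _ hx1 _ hx2) h12] at this
    calc c y1 x1 = (c y1 x2)⁻¹ := eq_inv_of_mul_eq_one_left this.symm
      _ = c y1 x2 := inv_eq_of_mul_eq_one_right (hc2 y1 h1 x2 hx2)
  let b : ↥E → ↥E → ↥E := fun u v => ⟨c (sy u) (sx v), hc2 _ (hsyS u) _ (hsxT v)⟩
  have hb := equiv_zero act (fun u : ↥E => Subtype.ext u.2)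
    (fun u v hu hv => by
      obtain ⟨k, hk, hkuv⟩ := htr u.1 v.1 (fun h => hu (Subtype.ext h)) u.2 (fun h => hv (Subtype.ext h)) v.2
      exact ⟨⟨k, hk⟩, Subtype.ext hkuv⟩) b
    (fun u u' v => Subtype.ext (by
      show c (sy (u * u')) (sx v) = c (sy u) (sx v) * c (sy u') (sx v)
      rw [← hcl _ (hsyS u) _ (hsyS u') _ (hsxT v)]
      refine wl _ _ _ (hsyS _) (mul_mem (hsyS u) (hsyS u')) (hsxT v) ?_
      rw [sq_hom hinvc hA hSl hsm hh (hsyS u) (hsyS u'), hsy, hsy, hsy]; rfl))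
    (fun u v v' => Subtype.ext (by
      show c (sy u) (sx (v * v')) = c (sy u) (sx v) * c (sy u) (sx v')
      rw [← hcr _ (hsyS u) _ (hsxT v) _ (hsxT v')]
      refine wr _ _ _ (hsyS u) (hsxT _) (hTmul _ (hsxT v) _ (hsxT v')) ?_
      rw [hqmul _ (hsxT v) _ (hsxT v'), hsx, hsx, hsx]; rfl))
    (fun k u v => Subtype.ext (by
      show c (sy (act k u)) (sx (act k v)) = k.1 (c (sy u) (sx v))
      rw [← hcK k.1 k.2]
      rw [wl _ (k.1 (sy u)) _ (hsyS _) (hSK k.1 k.2 _ (hsyS u)) (hsxT _) (by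
        rw [hsy, ← map_mul, ← map_pow, hsy]; rfl)]
      exact wr _ _ _ (hSK k.1 k.2 _ (hsyS u)) (hsxT _) (hTK k.1 k.2 _ (hsxT v)) (by
        rw [hsx, hqK k.1 k.2, hsx]; rfl)))
    (fun u => Subtype.ext (hcd _ (hsyS u) _ (hsxT u) (by rw [hsx, hsy])))
  let u : ↥E := ⟨(y * y) ^ 2 ^ (e - 1), pi_invol hA (hSl y hy).2⟩
  let v : ↥E := ⟨q x, hq2 x hx⟩
  have h := congrArg Subtype.val (hb u v)
  change c (sy u) (sx v) = 1 at h
  rw [wl (sy u) y _ (hsyS u) hy (hsxT v) (hsy u), wr y (sx v) x hy (hsxT v) hx (hsx v)] at h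
  exact h

end Layer

include hinvc htr in
theorem enlarge [Finite P] [IsCyclic ↥K] (hA : Good K A e) {y0 : P} (hy0 : y0 ∈ layer A) (hy0A : y0 ∉ A)
    (hy0c : ∀ a ∈ A, phi y0 a = 1) : ∃ (A' : Subgroup P) (e' : ℕ), Good K A' e' ∧ A < A' := by
  let S : Subgroup P := ofMul {y | y ∈ layer A ∧ ∀ a ∈ A, phi y a = 1}
    ⟨layer_one hA, fun a _ => by simp [phi]⟩
    (fun y hy z hz => ⟨layer_mul hA hy.1 hz.1, fun a ha => by rw [phi_comp, hz.2 a ha, one_mul, hy.2 a ha, one_mul]⟩)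
  have hAS : A ≤ S := fun a ha => ⟨layer_of_mem hA ha, fun b hb => phi_one_of_mem hA ha hb⟩
  have hSl : ∀ y ∈ S, y ∈ layer A := fun y hy => hy.1
  have hS1 : ∀ y ∈ S, ∀ a ∈ A, phi y a = 1 := fun y hy => hy.2
  have hsm : ∀ y ∈ S, ∀ a ∈ A, phi y a * phi y a = 1 := fun y hy a ha => by rw [hS1 y hy a ha, one_mul]
  have hSK : ∀ k ∈ K, ∀ y ∈ S, k y ∈ S := fun k hk y hy => ⟨layer_inv hA hk hy.1, fun a ha => by
    have ha' : k⁻¹ a ∈ A := hA.inv _ (inv_mem hk) a ha
    have h := congrArg k (hy.2 _ ha')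
    rw [← phi_apply_equiv, map_one, MulAut.apply_inv_self] at h
    exact h⟩
  have hh : 3 ≤ e ∨ ∀ y ∈ S, ∀ a ∈ A, phi y a = 1 := Or.inr hS1
  let c : P → P → P := fun y z => y⁻¹ * z * y * z⁻¹
  have hc2 : ∀ y ∈ S, ∀ z ∈ S, c y z * c y z = 1 := fun y hy z hz => by
    have h := (comm_small hinvc hA (hSl y hy) (fun a ha => ⟨hsm z hz a ha, hsm y hy a ha⟩)).2.2
      (fun a ha => ⟨hS1 z hz a ha, hS1 y hy a ha⟩)
    rw [pow_two] at h; exact h
  have hcen : ∀ y ∈ S, ∀ z ∈ S, ∀ w, w * c y z = c y z * w := fun y hy z hz w =>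
    Subgroup.mem_center_iff.1 (hinvc _ (hc2 y hy z hz)) w
  have hcA : ∀ a ∈ A, ∀ z ∈ S, c a z = 1 := fun a ha z hz => by
    have h := hS1 z hz a ha
    simp only [phi] at h
    simp only [c]
    rw [mul_inv_eq_one, mul_inv_eq_iff_eq_mul] at h
    rw [mul_assoc a⁻¹, h]; group
  have hall := pair_vanish hinvc htr hA hSl hSK hsm hh (T := (S : Set P)) c (fun x => (x * x) ^ 2 ^ (e - 1))
    (fun x hx y hy => mul_mem hx hy) hSK (fun x hx => pi_invol hA (hSl x hx).2)
    (fun x hx y hy => sq_hom hinvc hA hSl hsm hh hx hy) (fun k _ x => by rw [← map_mul, ← map_pow])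
    (fun u hu => sq_surj hinvc htr hA hSl hSK hsm hh ⟨hy0, hy0c⟩ hy0A hu) hc2
    (fun y hy y' hy' x hx => by
      calc c (y * y') x = y'⁻¹ * c y x * (x * y' * x⁻¹) := by simp only [c]; group
        _ = c y x * y'⁻¹ * (x * y' * x⁻¹) := by rw [hcen y hy x hx]
        _ = _ := by simp only [c]; group)
    (fun y hy x hx x' hx' => by
      calc c y (x * x') = y⁻¹ * x * y * c y x' * x⁻¹ := by simp only [c]; group
        _ = y⁻¹ * x * y * (x⁻¹ * c y x') := by rw [mul_assoc _ (c y x') x⁻¹, hcen y hy x' hx' x⁻¹]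
        _ = _ := by simp only [c]; group)
    hcA
    (fun y hy x hx h => by
      have h' := hcA x (sq_ker hinvc htr hA hSl hsm hh hx h) y hy
      simp only [c] at h' ⊢
      rw [mul_inv_eq_one, mul_assoc, inv_mul_eq_iff_eq_mul] at h' ⊢
      exact h'.symm)
    (fun k _ y x => by simp [c])
    (fun y hy x hx h => by
      have hh' : (x * x) ^ 2 ^ (e - 1) = (y * y) ^ 2 ^ (e - 1) := h
      have hmem : y⁻¹ * x ∈ A := sq_ker hinvc htr hA hSl hsm hh (mul_mem (inv_mem hy) hx) (by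
        have := sq_hom hinvc hA hSl hsm hh hy (mul_mem (inv_mem hy) hx)
        rw [mul_inv_cancel_left, hh'] at this
        exact left_eq_mul.1 this)
      have h1 := hS1 y hy _ hmem
      simp only [phi, c] at h1 ⊢
      rw [mul_inv_eq_one, mul_inv_eq_iff_eq_mul, mul_inv_cancel_left] at h1
      rw [← h1, mul_inv_cancel])
  refine ⟨S, e + 1, ⟨⟨fun y hy g => ?_⟩, fun y hy z hz => ?_, hSK, hA.center_le.trans hAS, by have := hA.he; omega,
    fun y hy => ?_, ⟨y0, ⟨hy0, hy0c⟩, ?_⟩⟩, lt_of_le_of_ne hAS fun h => hy0A (h ▸ (⟨hy0, hy0c⟩ : y0 ∈ S))⟩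
  · have h1 : y * g * y⁻¹ * g⁻¹ ∈ A := (hSl y hy).1 g
    have h2 : g * y * g⁻¹ = (y * g * y⁻¹ * g⁻¹)⁻¹ * y := by group
    rw [h2]
    exact mul_mem (hAS (inv_mem h1)) hy
  · have h := hall y hy z hz
    simp only [c] at h
    rw [mul_inv_eq_one, mul_assoc, inv_mul_eq_iff_eq_mul] at h
    exact h.symm
  · rw [pow_succ', pow_mul, pow_two]; exact hA.exp _ (hSl y hy).2
  · rw [show e + 1 - 1 = e - 1 + 1 by have := hA.he; omega, pow_succ', pow_mul, pow_two]
    exact fun h => hy0A (sq_ker hinvc htr hA hSl hsm hh (show y0 ∈ S from ⟨hy0, hy0c⟩) h)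

include hinvc htr in
theorem small_mem [Finite P] [IsCyclic ↥K] (hA : Good K A e) (he : 3 ≤ e)
    (hC : ∀ y : P, (∀ a ∈ A, phi y a = 1) → y ∈ A) {y : P} (hy : y ∈ layer A)
    (hs : ∀ a ∈ A, phi y a * phi y a = 1) : y ∈ A := by
  by_contra hyA
  let S : Subgroup P := ofMul {z | z ∈ layer A ∧ ∀ a ∈ A, phi z a * phi z a = 1}
    ⟨layer_one hA, fun a _ => by simp [phi]⟩
    (fun z hz w hw => ⟨layer_mul hA hz.1 hw.1, fun a ha => by
      rw [phi_comp, phi_mul hA z (phi_mem hA w ha) ha, phi_central hinvc z (hw.2 a ha), one_mul,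
        ← pow_two, comm_pow hA (phi_mem hA z ha) (phi_mem hA w ha), pow_two, pow_two, hz.2 a ha, hw.2 a ha, one_mul]⟩)
  have hSl : ∀ z ∈ S, z ∈ layer A := fun z hz => hz.1
  have hsm : ∀ z ∈ S, ∀ a ∈ A, phi z a * phi z a = 1 := fun z hz => hz.2
  have hSK : ∀ k ∈ K, ∀ z ∈ S, k z ∈ S := fun k hk z hz => ⟨layer_inv hA hk hz.1, fun a ha => by
    have ha' : k⁻¹ a ∈ A := hA.inv _ (inv_mem hk) a ha
    have h := congrArg k (hz.2 _ ha')
    rw [map_mul, ← phi_apply_equiv, map_one, MulAut.apply_inv_self] at h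
    exact h⟩
  have hall := pair_vanish hinvc htr hA hSl hSK hsm (Or.inl he) (T := (A : Set P)) (fun z a => phi z a)
    (fun a => a ^ 2 ^ (e - 1)) (fun a ha b hb => mul_mem ha hb) (fun k hk a ha => hA.inv k hk a ha)
    (fun a ha => pi_invol hA ha) (fun a ha b hb => comm_pow hA ha hb _) (fun k _ a => (map_pow k a _).symm)
    (fun u hu => sq_one_root hinvc htr hA hu) hsm
    (fun z _ w hw a ha => by
      show phi (z * w) a = phi z a * phi w a
      rw [phi_comp, phi_mul hA z (phi_mem hA w ha) ha, phi_central hinvc z (hw.2 a ha), one_mul])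
    (fun z _ a ha b hb => phi_mul hA z ha hb) (fun a ha b hb => phi_one_of_mem hA ha hb)
    (fun z hz a ha h => by
      obtain ⟨c, hc, rfl⟩ := root_pi hinvc htr hA ha h
      show phi z (c ^ 2) = 1
      rw [phi_pow hA z hc, pow_two]; exact hz.2 c hc)
    (fun k _ z a => phi_apply_equiv k z a)
    (fun z hz a ha h => by
      have hzz := (hSl z hz).2
      have hpi : (a * (z * z)⁻¹) ^ 2 ^ (e - 1) = 1 := by
        have h' : a ^ 2 ^ (e - 1) = (z * z) ^ 2 ^ (e - 1) := h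
        rw [comm_pow hA ha (inv_mem hzz), inv_pow, h', mul_inv_cancel]
      obtain ⟨c, hc, hca⟩ := root_pi hinvc htr hA (mul_mem ha (inv_mem hzz)) hpi
      rw [eq_mul_inv_iff_mul_eq] at hca
      show phi z a = 1
      rw [← hca, phi_mul hA z (pow_mem hc _) hzz, phi_pow hA z hc, pow_two, hz.2 c hc, one_mul]
      simp only [phi]; group)
  exact hyA (hC y fun a ha => hall y ⟨hy, hs⟩ a ha)

include hinvc htr in
theorem descend_small [Finite P] (hA : Good K A e) (he : 3 ≤ e) {y : P} (hy : y ∈ layer A)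
    (h4 : ∀ a ∈ A, ∃ c ∈ A, phi y a = c ^ 2 ^ 2) : ∀ a ∈ A, phi y a * phi y a = 1 := by
  have main : ∀ k, 2 ≤ k → k ≤ e - 1 → ∀ a ∈ A, ∃ c ∈ A, phi y a = c ^ 2 ^ k := by
    intro k hk
    induction k, hk using Nat.le_induction with
    | base => exact fun _ => h4
    | succ k hk ih =>
      intro hk1 a ha
      have IH := ih (by omega)
      obtain ⟨c, hc, hca⟩ := IH a ha
      obtain ⟨f, hf, hfc⟩ := IH c hc
      have hsq := phi_sq hA hy.2 ha
      obtain ⟨i, rfl⟩ : ∃ i, k = i + 1 := ⟨k - 1, by omega⟩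
      rw [hca, phi_pow hA y hc, hfc] at hsq
      have e1 : (f ^ 2 ^ i * c) ^ 2 ^ (i + 1 + 1) = 1 := by
        rw [comm_pow hA (pow_mem hf _) hc, ← hsq]
        congr 1
        · rw [← pow_mul, ← pow_mul]; congr 1; ring
        · rw [← pow_mul]; congr 1
      obtain ⟨g, hg, hgc⟩ := root hinvc htr hA (i + 1 + 1) (by omega) _ (mul_mem (pow_mem hf _) hc) e1
      have hca' : c = (f ^ 2 ^ i)⁻¹ * g ^ 2 ^ (e - (i + 1 + 1)) := by rw [hgc, inv_mul_cancel_left]
      refine ⟨(f⁻¹) ^ 2 ^ (i - 1) * g ^ 2 ^ (e - 1 - (i + 1 + 1)), mul_mem (pow_mem (inv_mem hf) _) (pow_mem hg _), ?_⟩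
      rw [hca, hca', comm_pow hA (inv_mem (pow_mem hf _)) (pow_mem hg _), comm_pow hA (pow_mem (inv_mem hf) _) (pow_mem hg _),
        ← inv_pow, ← pow_mul, ← pow_mul, ← pow_mul, ← pow_mul, ← pow_add, ← pow_add, ← pow_add, ← pow_add]
      congr 3 <;> omega
  intro a ha
  obtain ⟨c, hc, hca⟩ := main (e - 1) (by omega) le_rfl a ha
  rw [hca]; exact pi_invol hA hc

include hinvc htr in
theorem no_good [Finite P] [IsCyclic ↥K] (hA : Good K A e) (he : 3 ≤ e)
    (hC : ∀ y : P, (∀ a ∈ A, phi y a = 1) → y ∈ A) {g : MulAut P} (hg : g ∈ K)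
    (hfpf : ∀ x : P, g x = x → x = 1) {y : P} (hy : y ∈ layer A) : y ∈ A := by
  classical
  let E : Subgroup P :=
    { carrier := {u | u * u = 1}
      one_mem' := mul_one 1
      mul_mem' := fun {a b} ha hb => by
        show a * b * (a * b) = 1
        have ha' : a * a = 1 := ha
        have hb' : b * b = 1 := hb
        rw [mul_assoc, ← mul_assoc b, Subgroup.mem_center_iff.1 (hinvc a ha') b, mul_assoc a, hb', mul_one, ha']
      inv_mem' := fun {a} ha => by
        show a⁻¹ * a⁻¹ = 1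
        rw [← mul_inv_rev, show a * a = 1 from ha, inv_one] }
  letI : CommGroup ↥E := { (inferInstance : Group ↥E) with
    mul_comm := fun a b => Subtype.ext (Subgroup.mem_center_iff.1 (hinvc b.1 b.2) a.1) }
  letI : CommGroup ↥K := IsCyclic.commGroup
  have hKE : ∀ (k : MulAut P) (u : P), u * u = 1 → k u * k u = 1 := fun k u hu => by rw [← map_mul, hu, map_one]
  let act : ↥K →* MulAut ↥E :=
    { toFun := fun k =>
        { toFun := fun u => ⟨k.1 u.1, hKE k.1 u.1 u.2⟩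
          invFun := fun u => ⟨k.1.symm u.1, hKE k.1.symm u.1 u.2⟩
          left_inv := fun u => Subtype.ext (k.1.symm_apply_apply u.1)
          right_inv := fun u => Subtype.ext (k.1.apply_symm_apply u.1)
          map_mul' := fun u v => Subtype.ext (map_mul k.1 u.1 v.1) }
      map_one' := MulEquiv.ext fun u => Subtype.ext rfl
      map_mul' := fun k l => MulEquiv.ext fun u => Subtype.ext rfl }
  choose pre hpreA hpre using fun u : ↥E => sq_one_root hinvc htr hA u.2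
  have hphisq : ∀ (z : P) (a : P), a ∈ A → ∃ c ∈ A, c ^ 2 = phi z a := fun z a ha =>
    root_pi hinvc htr hA (phi_mem hA z ha) (pi_phi hinvc hA z ha)
  choose rt hrtA hrt using hphisq
  let D : P → ↥E → ↥E := fun z u => ⟨rt z _ (hpreA u) ^ 2 ^ (e - 1), pi_invol hA (hrtA z _ (hpreA u))⟩
  have spec : ∀ (z : P) (u : ↥E) (a c : P), a ∈ A → c ∈ A → a ^ 2 ^ (e - 1) = u.1 → phi z a = c ^ 2 →
      (D z u).1 = c ^ 2 ^ (e - 1) := by
    intro z u a c ha hc hau hac
    set a0 := pre u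
    set c0 := rt z a0 (hpreA u)
    have hc0 : c0 ∈ A := hrtA z a0 (hpreA u)
    have hpi : (a0⁻¹ * a) ^ 2 ^ (e - 1) = 1 := by
      rw [comm_pow hA (inv_mem (hpreA u)) ha, inv_pow, hau, hpre u, inv_mul_cancel]
    obtain ⟨f, hf, hfa⟩ := root_pi hinvc htr hA (mul_mem (inv_mem (hpreA u)) ha) hpi
    have hfA := phi_mem hA z hf
    have e1 : c ^ 2 = (c0 * phi z f) ^ 2 := by
      rw [← hac, show a = a0 * f ^ 2 by rw [hfa, mul_inv_cancel_left], phi_mul hA z (hpreA u) (pow_mem hf _),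
        phi_pow hA z hf, comm_pow hA hc0 hfA, hrt]
    have e2 : ((c0 * phi z f)⁻¹ * c) ^ 2 = 1 := by
      rw [comm_pow hA (inv_mem (mul_mem hc0 hfA)) hc, inv_pow, e1, inv_mul_cancel]
    have e3 := pow_small hA (by omega : 1 ≤ e - 1) (by rw [pow_one]; exact e2 : ((c0 * phi z f)⁻¹ * c) ^ 2 ^ 1 = 1)
    rw [comm_pow hA (inv_mem (mul_mem hc0 hfA)) hc, inv_pow, inv_mul_eq_one, comm_pow hA hc0 hfA,
      pi_phi hinvc hA z hf, mul_one] at e3
    exact e3
  have Dmul : ∀ z u v, D z (u * v) = D z u * D z v := fun z u v => Subtype.ext (by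
    show _ = (D z u).1 * (D z v).1
    rw [spec z u _ _ (hpreA u) (hrtA z _ (hpreA u)) (hpre u) (hrt z _ _).symm,
      spec z v _ _ (hpreA v) (hrtA z _ (hpreA v)) (hpre v) (hrt z _ _).symm,
      ← comm_pow hA (hrtA z _ (hpreA u)) (hrtA z _ (hpreA v))]
    refine spec z (u * v) (pre u * pre v) _ (mul_mem (hpreA u) (hpreA v)) (mul_mem (hrtA z _ (hpreA u)) (hrtA z _ (hpreA v))) ?_ ?_
    · rw [comm_pow hA (hpreA u) (hpreA v), hpre, hpre]; rfl
    · rw [phi_mul hA z (hpreA u) (hpreA v), comm_pow hA (hrtA z _ (hpreA u)) (hrtA z _ (hpreA v)), hrt, hrt])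
  let d : P → (↥E →* ↥E) := fun z => MonoidHom.mk' (D z) (Dmul z)
  have dadd : ∀ z w u, d (z * w) u = d z u * d w u := fun z w u => Subtype.ext (by
    set a := pre u
    have ha : a ∈ A := hpreA u
    set cw := rt w a ha
    set cz := rt z a ha
    have hcw : cw ∈ A := hrtA w a ha
    have hcz : cz ∈ A := hrtA z a ha
    show (D (z * w) u).1 = (D z u).1 * (D w u).1
    rw [spec z u a cz ha hcz (hpre u) (hrt z a ha).symm, spec w u a cw ha hcw (hpre u) (hrt w a ha).symm]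
    rw [spec (z * w) u a (phi z cw * cz * cw) ha (mul_mem (mul_mem (phi_mem hA z hcw) hcz) hcw) (hpre u)]
    · rw [comm_pow hA (mul_mem (phi_mem hA z hcw) hcz) hcw, comm_pow hA (phi_mem hA z hcw) hcz,
        pi_phi hinvc hA z hcw, one_mul]
    · rw [phi_comp, ← hrt w a ha, phi_mul hA z (pow_mem hcw _) ha, phi_pow hA z hcw, ← hrt z a ha,
        comm_pow hA (mul_mem (phi_mem hA z hcw) hcz) hcw, comm_pow hA (phi_mem hA z hcw) hcz])
  have didem : ∀ z, z ∈ layer A → ∀ u, d z (d z u) = d z u := fun z hz u => Subtype.ext (by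
    set a := pre u
    have ha : a ∈ A := hpreA u
    set c := rt z a ha
    have hc : c ∈ A := hrtA z a ha
    set c' := rt z c hc
    have hc' : c' ∈ A := hrtA z c hc
    have hd1 : (d z u).1 = c ^ 2 ^ (e - 1) := rfl
    show (D z (d z u)).1 = _
    rw [spec z (d z u) c c' hc hc' hd1.symm (hrt z c hc).symm, hd1]
    have h4 : (c' * c) ^ 2 ^ 2 = 1 := by
      have h := phi_sq hA hz.2 ha
      rw [← hrt z a ha, phi_pow hA z hc, ← hrt z c hc, ← pow_mul, ← pow_mul] at h
      rw [comm_pow hA hc' hc]; exact h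
    have h5 := pow_small hA (by omega : 2 ≤ e - 1) h4
    rw [comm_pow hA hc' hc] at h5
    rw [eq_inv_of_mul_eq_one_left h5]
    exact inv_eq_of_mul_eq_one_right (pi_invol hA hc))
  have dequiv : ∀ (k : ↥K) z u, d (k.1 z) (act k u) = act k (d z u) := fun k z u => Subtype.ext (by
    show (D (k.1 z) (act k u)).1 = k.1 (D z u).1
    rw [spec z u _ _ (hpreA u) (hrtA z _ (hpreA u)) (hpre u) (hrt z _ _).symm, map_pow]
    refine spec _ _ (k.1 (pre u)) _ (hA.inv k.1 k.2 _ (hpreA u)) (hA.inv k.1 k.2 _ (hrtA z _ (hpreA u))) ?_ ?_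
    · rw [← map_pow, hpre]; rfl
    · rw [phi_apply_equiv, ← map_pow, hrt])
  have hdd : ∀ z w, z ∈ layer A → w ∈ layer A → ∀ u, d z (d w u) = d w (d z u) := fun z w hz hw u => by
    have h := didem (z * w) (layer_mul hA hz hw) u
    rw [dadd, dadd, map_mul, map_mul, didem z hz, didem w hw] at h
    have sq1 : ∀ x : ↥E, x⁻¹ = x := fun x => inv_eq_of_mul_eq_one_right (Subtype.ext x.2)
    have h' : d z (d w u) * d w (d z u) * (d z u * d w u) = 1 * (d z u * d w u) := by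
      rw [one_mul]; exact Eq.trans (by ac_rfl) h
    have h'' := mul_right_cancel h'
    rw [eq_inv_of_mul_eq_one_left h'', sq1]
  have dichot : ∀ z, z ∈ layer A → (∀ u, d z u = u) ∨ ∀ u, d z u = 1 := fun z hz => by
    refine idem_trivial act (fun u v hu hv => ?_) (d z) (didem z hz) (fun k u => ?_)
    · obtain ⟨k, hk, hkuv⟩ := htr u.1 v.1 (fun h => hu (Subtype.ext h)) u.2 (fun h => hv (Subtype.ext h)) v.2
      exact ⟨⟨k, hk⟩, Subtype.ext hkuv⟩
    · rw [← dequiv k z, ← dequiv k z, MulEquiv.apply_symm_apply, MulEquiv.apply_symm_apply]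
      exact hdd _ _ hz (layer_inv hA k.2 hz) u
  have zero_mem : ∀ z, z ∈ layer A → (∀ u, d z u = 1) → z ∈ A := by
    intro z hz h
    refine small_mem hinvc htr hA he hC hz (descend_small hinvc htr hA he hz fun a ha => ?_)
    obtain ⟨c, hc, hca⟩ := root_pi hinvc htr hA (phi_mem hA z ha) (pi_phi hinvc hA z ha)
    have h1 := spec z ⟨a ^ 2 ^ (e - 1), pi_invol hA ha⟩ a c ha hc rfl hca.symm
    have h2 : (D z ⟨a ^ 2 ^ (e - 1), pi_invol hA ha⟩).1 = 1 := congrArg Subtype.val (h _)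
    obtain ⟨f, hf, hfc⟩ := root_pi hinvc htr hA hc (h1.symm.trans h2)
    exact ⟨f, hf, by rw [← hca, ← hfc, ← pow_mul, pow_two 2]⟩
  rcases dichot y hy with h1 | h1
  swap
  · exact zero_mem y hy h1
  have hgy := layer_inv hA hg hy
  rcases dichot (g y) hgy with h2 | h2
  swap
  · have hmem := zero_mem _ hgy h2
    have := hA.inv g⁻¹ (inv_mem hg) _ hmem
    rwa [MulAut.inv_apply_self] at this
  obtain ⟨n, hn⟩ : ∃ n, y⁻¹ = y ^ n := ⟨orderOf y - 1, inv_eq_of_mul_eq_one_right (by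
    rw [← pow_succ', Nat.sub_add_cancel (orderOf_pos y), pow_orderOf_eq_one])⟩
  have hyinv : y⁻¹ ∈ layer A := by
    rw [hn]; clear hn
    induction n with
    | zero => rw [pow_zero]; exact layer_one hA
    | succ n ih => rw [pow_succ]; exact layer_mul hA ih hy
  have hz : y⁻¹ * g y ∈ A := zero_mem _ (layer_mul hA hyinv hgy) fun u => by
    have h3 := dadd y (y⁻¹ * g y) u
    rw [mul_inv_cancel_left, h2 u, h1 u] at h3
    exact left_eq_mul.1 h3
  set a0 := y⁻¹ * g y with ha0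
  let t : A → A := fun b => ⟨g b.1 * b.1⁻¹, mul_mem (hA.inv g hg _ b.2) (inv_mem b.2)⟩
  have ht : Function.Surjective t := Finite.injective_iff_surjective.1 fun b b' hbb => by
    have h : g b.1 * b.1⁻¹ = g b'.1 * b'.1⁻¹ := congrArg Subtype.val hbb
    refine Subtype.ext ?_
    have : g (b.1⁻¹ * b'.1) = b.1⁻¹ * b'.1 := by
      rw [map_mul, map_inv]
      have h' : g b'.1 = g b.1 * b.1⁻¹ * b'.1 := by rw [h, inv_mul_cancel_right]
      rw [h']; group
    exact inv_mul_eq_one.1 (hfpf _ this)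
  obtain ⟨b, hb⟩ := ht ⟨a0⁻¹, inv_mem hz⟩
  have hb' : g b.1 * b.1⁻¹ = a0⁻¹ := congrArg Subtype.val hb
  have hfix : g (y * b.1) = y * b.1 := by
    rw [map_mul, show g y = y * a0 by rw [ha0, mul_inv_cancel_left], show g b.1 = a0⁻¹ * b.1 by rw [← hb', inv_mul_cancel_right]]
    group
  have := mul_eq_one_iff_eq_inv.1 (hfpf _ hfix)
  rw [this]; exact inv_mem b.2

end Group

/-- an element above a normal subgroup, inside another one, in the layer -/
theorem exists_layer {P : Type*} [Group P] [Finite P] (hP : IsPGroup 2 P) (A C : Subgroup P) [A.Normal] [hCn : C.Normal]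
    (hAC : A < C) : ∃ y ∈ C, y ∈ layer A ∧ y ∉ A := by
  classical
  haveI : Fact (Nat.Prime 2) := ⟨Nat.prime_two⟩
  let π := QuotientGroup.mk' A
  let N := C.map π
  haveI : N.Normal := hCn.map π (QuotientGroup.mk'_surjective A)
  have hQ : IsPGroup 2 (P ⧸ A) := hP.of_surjective π (QuotientGroup.mk'_surjective A)
  have hN1 : N ≠ ⊥ := fun h => hAC.not_ge ((Subgroup.map_eq_bot_iff C).1 h |>.trans (QuotientGroup.ker_mk' A).le)
  obtain ⟨k, hk⟩ := IsPGroup.iff_card.1 (hQ.to_subgroup N)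
  have hk1 : k ≠ 0 := fun h => hN1 (Subgroup.card_eq_one.1 (by rw [hk, h, pow_zero]))
  have hdvd : 2 ∣ Nat.card ↥N := hk ▸ dvd_pow_self 2 hk1
  haveI : Fintype ↥N := Fintype.ofFinite _
  have hfix : (1 : ↥N) ∈ MulAction.fixedPoints (ConjAct (P ⧸ A)) ↥N := fun x => Subtype.ext (by
    show ConjAct.ofConjAct x * 1 * (ConjAct.ofConjAct x)⁻¹ = 1
    simp)
  have hCA : IsPGroup 2 (ConjAct (P ⧸ A)) := hQ.of_equiv ConjAct.toConjAct
  obtain ⟨b, hb, hb1⟩ := hCA.exists_fixed_point_of_prime_dvd_card_of_fixed_point ↥N hdvd hfix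
  obtain ⟨j, hj⟩ := IsPGroup.iff_orderOf.1 (hQ.to_subgroup N) b
  have hj1 : j ≠ 0 := fun h => hb1 (orderOf_eq_one_iff.1 (by rw [hj, h, pow_zero])).symm
  obtain ⟨i, rfl⟩ : ∃ i, j = i + 1 := ⟨j - 1, by omega⟩
  set c := b ^ 2 ^ i with hc
  obtain ⟨y, hyC, hy⟩ := c.2
  have hcq : c.1 = (b.1 : P ⧸ A) ^ 2 ^ i := rfl
  have hcomm : ∀ x : P ⧸ A, x * c.1 = c.1 * x := by
    intro x
    have h := congrArg Subtype.val (hb (ConjAct.toConjAct x))
    change x * b.1 * x⁻¹ = b.1 at h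
    rw [mul_inv_eq_iff_eq_mul] at h
    rw [hcq]
    exact ((show Commute x b.1 from h).pow_right _).eq
  have hc1 : c ≠ 1 := fun h => by
    have := Nat.le_of_dvd (by positivity) (orderOf_dvd_of_pow_eq_one h)
    rw [hj] at this
    exact absurd this (not_le.2 (Nat.pow_lt_pow_right (by norm_num) (by omega)))
  have hcsq : c * c = 1 := by rw [← pow_two, hc, ← pow_mul, ← pow_succ, ← hj, pow_orderOf_eq_one]
  refine ⟨y, hyC, ⟨fun x => ?_, ?_⟩, fun h => hc1 (Subtype.ext ?_)⟩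
  · have h : π (y * x * y⁻¹ * x⁻¹) = 1 := by
      rw [map_mul, map_mul, map_mul, map_inv, map_inv, hy, ← hcomm, mul_inv_cancel_right, mul_inv_cancel]
    exact (QuotientGroup.eq_one_iff _).1 h
  · have h : π (y * y) = 1 := by rw [map_mul, hy]; exact congrArg Subtype.val hcsq
    exact (QuotientGroup.eq_one_iff _).1 h
  · rw [← hy]; exact (QuotientGroup.eq_one_iff _).2 h

/-- The involutions of a Suzuki two-group are central and the centre is elementary abelian. -/
theorem center_elementary {P : Type*} [Group P] (hP : Cfsg.IsSuzukiTwoGroup P) :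
    (∀ x : P, x * x = 1 → x ∈ Subgroup.center P) ∧ ∀ z ∈ Subgroup.center P, z * z = 1 := by
  classical
  obtain ⟨hfin, h2, hnab, ⟨i1, i2, hi12, hi1, hi1s, hi2, hi2s⟩, K, hKc, hK⟩ := hP
  haveI : Fact (Nat.Prime 2) := ⟨Nat.prime_two⟩
  haveI := hKc
  haveI : Nontrivial P := ⟨⟨i1, 1, hi1⟩⟩
  have htr : ∀ x y : P, x ≠ 1 → x * x = 1 → y ≠ 1 → y * y = 1 → ∃ k ∈ K, k x = y := fun x y a b c d => by
    obtain ⟨k, hk, -⟩ := hK x y a b c d
    exact ⟨k.1, k.2, hk⟩
  have invol_pow : ∀ x : P, x ≠ 1 → ∃ n : ℕ, x ^ n ≠ 1 ∧ x ^ n * x ^ n = 1 := fun x hx => by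
    obtain ⟨j, hj⟩ := IsPGroup.iff_orderOf.1 h2 x
    have hj1 : j ≠ 0 := fun h => hx (orderOf_eq_one_iff.1 (by rw [hj, h, pow_zero]))
    obtain ⟨i, rfl⟩ : ∃ i, j = i + 1 := ⟨j - 1, by omega⟩
    refine ⟨2 ^ i, fun h => ?_, by rw [← pow_add, ← two_mul, ← pow_succ', ← hj, pow_orderOf_eq_one]⟩
    have := Nat.le_of_dvd (by positivity) (orderOf_dvd_of_pow_eq_one h)
    rw [hj] at this
    exact absurd this (not_le.2 (Nat.pow_lt_pow_right (by norm_num) (by omega)))
  have hinvc : ∀ x : P, x * x = 1 → x ∈ Subgroup.center P := fun x hx => by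
    by_cases hx1 : x = 1
    · rw [hx1]; exact one_mem _
    haveI := h2.center_nontrivial
    obtain ⟨⟨z, hz⟩, hz1⟩ := exists_ne (1 : ↥(Subgroup.center P))
    obtain ⟨n, hn1, hn2⟩ := invol_pow z (fun h => hz1 (Subtype.ext h))
    obtain ⟨k, -, hkx⟩ := htr _ x hn1 hn2 hx1 hx
    rw [← hkx, Subgroup.mem_center_iff]
    intro w
    obtain ⟨w, rfl⟩ := k.surjective w
    rw [← map_mul, ← map_mul, Subgroup.mem_center_iff.1 (pow_mem hz n) w]
  refine ⟨hinvc, ?_⟩
  by_contra hcon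
  push Not at hcon
  obtain ⟨z0, hz0, hz0s⟩ := hcon
  -- a generator without fixed points
  obtain ⟨⟨g, hgK⟩, hgen⟩ := IsCyclic.exists_generator (α := ↥K)
  have hfpf : ∀ x : P, g x = x → x = 1 := fun x hx => by
    by_contra hx1
    obtain ⟨n, hn1, hn2⟩ := invol_pow x hx1
    have hall : ∀ k ∈ K, k (x ^ n) = x ^ n := fun k hk => by
      have hstab : g ∈ MulAction.stabilizer (MulAut P) (x ^ n) := by
        rw [MulAction.mem_stabilizer_iff]
        show g (x ^ n) = x ^ n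
        rw [map_pow, hx]
      obtain ⟨m, hm⟩ := Subgroup.mem_zpowers_iff.1 (hgen ⟨k, hk⟩)
      have := zpow_mem hstab m
      rw [show g ^ m = k from congrArg Subtype.val hm, MulAction.mem_stabilizer_iff] at this
      exact this
    obtain ⟨i3, hi3, hi3s, hne⟩ : ∃ i, i ≠ 1 ∧ i * i = 1 ∧ i ≠ x ^ n := by
      by_cases h : i1 = x ^ n
      · exact ⟨i2, hi2, hi2s, fun h' => hi12 (h.trans h'.symm)⟩
      · exact ⟨i1, hi1, hi1s, h⟩
    obtain ⟨k, hk, hki⟩ := htr _ i3 hn1 hn2 hi3 hi3s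
    exact hne (hki ▸ hall k hk)
  -- exponent of the centre
  have hex : ∃ f, ∀ z ∈ Subgroup.center P, z ^ 2 ^ f = 1 := by
    obtain ⟨m, hm⟩ := IsPGroup.iff_card.1 h2
    exact ⟨m, fun z _ => by rw [← hm]; exact pow_card_eq_one'⟩
  let f := Nat.find hex
  have hf : 2 ≤ f := by
    by_contra h
    have hle : 2 ^ f ∣ 2 := by
      have := Nat.pow_dvd_pow 2 (by omega : f ≤ 1)
      simpa using this
    obtain ⟨r, hr⟩ := hle
    exact hz0s (by rw [← pow_two]; conv_lhs => rw [hr, pow_mul, Nat.find_spec hex z0 hz0, one_pow])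
  have hcinv : ∀ k ∈ K, ∀ a ∈ Subgroup.center P, k a ∈ Subgroup.center P := fun k _ a ha => by
    rw [Subgroup.mem_center_iff]
    intro w
    obtain ⟨w, rfl⟩ := k.surjective w
    rw [← map_mul, ← map_mul, Subgroup.mem_center_iff.1 ha w]
  have hgood : Good K (Subgroup.center P) f :=
    ⟨inferInstance, fun a ha b _ => (Subgroup.mem_center_iff.1 ha b).symm, hcinv, le_rfl, hf, Nat.find_spec hex, by
      by_contra h
      push Not at h
      exact Nat.find_min hex (by omega : f - 1 < f) h⟩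
  let 𝒜 : Set (Subgroup P) := {A | ∃ e, Good K A e}
  obtain ⟨A, hA, hmax⟩ := Set.Finite.exists_maximalFor (fun A : Subgroup P => Nat.card A) 𝒜 (Set.toFinite 𝒜)
    ⟨_, f, hgood⟩
  obtain ⟨e, hA⟩ := hA
  haveI := hA.normal
  -- `A` is its own centraliser
  have hC : ∀ y : P, (∀ a ∈ A, phi y a = 1) → y ∈ A := by
    by_contra h
    push Not at h
    obtain ⟨y0, hy0, hy0A⟩ := h
    let C := Subgroup.centralizer (A : Set P)
    haveI : C.Normal := inferInstance
    have hAC : A < C := lt_of_le_of_ne (fun a ha => Subgroup.mem_centralizer_iff.2 fun b hb => hA.comm b hb a ha)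
      fun h => hy0A (h ▸ Subgroup.mem_centralizer_iff.2 fun b hb => by
        have := hy0 b hb
        simp only [phi] at this
        rw [mul_inv_eq_one, mul_inv_eq_iff_eq_mul] at this
        exact this.symm)
    obtain ⟨y, hyC, hyl, hyA⟩ := exists_layer h2 A C hAC
    obtain ⟨A', e', hA', hlt⟩ := enlarge hinvc htr hA hyl hyA fun a ha => by
      simp only [phi]
      rw [← Subgroup.mem_centralizer_iff.1 hyC a ha, mul_inv_cancel_right, mul_inv_cancel]
    have hc : Nat.card A < Nat.card A' := Set.ncard_lt_ncard hlt (Set.toFinite _)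
    exact absurd (hmax ⟨e', hA'⟩ hc.le) (not_le.2 hc)
  have hne_top : A ≠ ⊤ := fun h => by
    obtain ⟨x, y, hxy⟩ := hnab
    exact hxy (hA.comm x (h ▸ trivial) y (h ▸ trivial))
  have he : 3 ≤ e := by
    by_contra h
    have he2 : e = 2 := by have := hA.he; omega
    subst he2
    have hAZ : A ≤ Subgroup.center P := fun a ha => by
      by_cases hu : a * a = 1
      · exact hinvc a hu
      have hu2 : (a * a) * (a * a) = 1 := by
        have := hA.exp a ha
        rw [← pow_two, ← pow_two, ← pow_mul]; exact this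
      have hz0e : z0 * z0 * (z0 * z0) = 1 := by
        have := hA.exp z0 (hA.center_le hz0)
        rw [← pow_two, ← pow_two, ← pow_mul]; exact this
      obtain ⟨k, hk, hkz⟩ := htr _ _ hz0s hz0e hu hu2
      have hzk := hcinv k hk z0 hz0
      have hsq : ((k z0)⁻¹ * a) * ((k z0)⁻¹ * a) = 1 := by
        rw [← pow_two, comm_pow hA (inv_mem (hA.center_le hzk)) ha, inv_pow, pow_two, pow_two, ← map_mul, hkz, inv_mul_cancel]
      have := mul_mem hzk (hinvc _ hsq)
      rwa [mul_inv_cancel_left] at this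
    refine hne_top (top_le_iff.1 fun x _ => hC x fun a ha => ?_)
    simp only [phi]
    rw [Subgroup.mem_center_iff.1 (hAZ ha) x, mul_inv_cancel_right, mul_inv_cancel]
  obtain ⟨y, -, hyl, hyA⟩ := exists_layer h2 A ⊤ (lt_top_iff_ne_top.2 hne_top)
  exact hyA (no_good hinvc htr hA he hC hgK hfpf hyl)

end Cfsg.Agent.Lie.SuzukiTwo
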