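import Mathlib
import Cfsg.Prelude.Def_LieRecognition
import Cfsg.Agent.Lib.Lie.SuzukiTwo

/-!
Suzuki two-groups of order the square of the order of the centre are of type A.
-/

set_option autoImplicit false

namespace Cfsg.Agent.Lie.SuzukiSquare

section FieldCoord

variable {E : Type*} [CommGroup E] [Finite E] {K : Type*} [CommGroup K] (act : K →* MulAut E)

/-- `GF(2^n)` coordinates on an elementary abelian two-group with a transitive abelian operator group. -/
theorem exists_coord (he : ∀ x : E, x * x = 1) {n : ℕ} (hn : n ≠ 0) (hcard : Nat.card E = 2 ^ n)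
    (htr : ∀ x y : E, x ≠ 1 → y ≠ 1 → ∃ k, act k x = y) :
    ∃ (e : E ≃* Multiplicative (GaloisField 2 n)) (m : K → GaloisField 2 n),
      (∀ k x, Multiplicative.toAdd (e (act k x)) = m k * Multiplicative.toAdd (e x)) ∧
      ∀ t : GaloisField 2 n, t ≠ 0 → ∃ k, m k = t := by
  classical
  haveI : Fact (Nat.Prime 2) := ⟨Nat.prime_two⟩
  let toEnd : K → AddMonoid.End (Additive E) := fun k => MonoidHom.toAdditive (act k).toMonoidHom
  have hEnd : ∀ k (x : E), toEnd k (Additive.ofMul x) = Additive.ofMul (act k x) := fun k x => rfl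
  let C : Subring (AddMonoid.End (Additive E)) := Subring.centralizer (Set.range toEnd)
  have hC : ∀ c : C, ∀ k x, c.1 (toEnd k x) = toEnd k (c.1 x) := fun c k x =>
    (DFunLike.congr_fun (Subring.mem_centralizer_iff.1 c.2 _ ⟨k, rfl⟩) x).symm
  have hkC : ∀ k, toEnd k ∈ C := fun k => Subring.mem_centralizer_iff.2 (by
    rintro _ ⟨l, rfl⟩
    refine AddMonoidHom.ext fun x => ?_
    show Additive.ofMul (act l (act k (Additive.toMul x))) = Additive.ofMul (act k (act l (Additive.toMul x)))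
    rw [Cfsg.Agent.Lie.SuzukiTwo.act_comm act l k])
  obtain ⟨v, hv⟩ : ∃ v : E, v ≠ 1 := by
    haveI : Nontrivial E := by
      rw [← Finite.one_lt_card_iff_nontrivial, hcard]; exact Nat.one_lt_two_pow hn
    exact exists_ne 1
  have horb : ∀ x : Additive E, x = 0 ∨ ∃ k, toEnd k (Additive.ofMul v) = x := fun x => by
    by_cases hx : x = 0
    · exact Or.inl hx
    · obtain ⟨k, hk⟩ := htr v (Additive.toMul x) hv (fun h => hx (by simpa using congrArg Additive.ofMul h))
      exact Or.inr ⟨k, by rw [hEnd, hk]; rfl⟩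
  let ev : C → Additive E := fun c => c.1 (Additive.ofMul v)
  have hinj : Function.Injective ev := fun c d h => Subtype.ext (AddMonoidHom.ext fun x => by
    rcases horb x with rfl | ⟨k, rfl⟩
    · exact (map_zero c.1).trans (map_zero d.1).symm
    · show c.1 (toEnd k _) = d.1 (toEnd k _)
      rw [hC, hC]; exact congrArg (toEnd k) h)
  have hsurj : Function.Surjective ev := fun x => by
    rcases horb x with rfl | ⟨k, hk⟩
    · exact ⟨0, rfl⟩
    · exact ⟨⟨toEnd k, hkC k⟩, hk⟩
  haveI : Finite C := Finite.of_injective ev hinj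
  have hval : ∀ c : C, c ≠ 0 → ∃ k, c = ⟨toEnd k, hkC k⟩ := fun c hc => by
    rcases horb (ev c) with h | ⟨k, hk⟩
    · exact absurd (hinj h) hc
    · exact ⟨k, hinj hk.symm⟩
  have hcomm : ∀ c d : C, c * d = d * c := fun c d => by
    by_cases hd : d = 0
    · rw [hd, mul_zero, zero_mul]
    obtain ⟨k, rfl⟩ := hval d hd
    exact Subtype.ext (AddMonoidHom.ext fun x => hC c k x)
  haveI : Nontrivial C := ⟨⟨1, 0, fun h => hv (by
    have := congrArg ev h
    exact congrArg Additive.toMul this)⟩⟩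
  have hfield : IsField C :=
    { exists_pair_ne := exists_pair_ne C
      mul_comm := hcomm
      mul_inv_cancel := fun {c} hc => by
        obtain ⟨k, rfl⟩ := hval c hc
        refine ⟨⟨toEnd k⁻¹, hkC k⁻¹⟩, Subtype.ext (AddMonoidHom.ext fun x => ?_)⟩
        show Additive.ofMul (act k (act k⁻¹ (Additive.toMul x))) = x
        rw [← MulAut.mul_apply, ← map_mul, mul_inv_cancel, map_one]; rfl }
  letI : Field C := hfield.toField
  letI : Fintype C := Fintype.ofFinite C
  letI : Fintype (GaloisField 2 n) := Fintype.ofFinite _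
  have hcardC : Fintype.card C = Fintype.card (GaloisField 2 n) := by
    rw [← Nat.card_eq_fintype_card, ← Nat.card_eq_fintype_card, GaloisField.card 2 n hn, ← hcard]
    exact Nat.card_congr ((Equiv.ofBijective ev ⟨hinj, hsurj⟩).trans Additive.toMul)
  let R : C ≃+* GaloisField 2 n := FiniteField.ringEquivOfCardEq hcardC
  let evH : C ≃+ Additive E :=
    { Equiv.ofBijective ev ⟨hinj, hsurj⟩ with map_add' := fun c d => rfl }
  let e : E ≃* Multiplicative (GaloisField 2 n) :=
    { toFun := fun x => Multiplicative.ofAdd (R (evH.symm (Additive.ofMul x)))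
      invFun := fun t => Additive.toMul (evH (R.symm (Multiplicative.toAdd t)))
      left_inv := fun x => by simp
      right_inv := fun t => by simp
      map_mul' := fun x y => by rw [ofMul_mul, map_add, map_add]; rfl }
  refine ⟨e, fun k => R ⟨toEnd k, hkC k⟩, fun k x => ?_, fun t ht => ?_⟩
  · show R (evH.symm (Additive.ofMul (act k x))) = R ⟨toEnd k, hkC k⟩ * R (evH.symm (Additive.ofMul x))
    rw [← map_mul]
    congr 1
    rw [AddEquiv.symm_apply_eq]
    show _ = toEnd k (ev (evH.symm (Additive.ofMul x)))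
    rw [show ev (evH.symm (Additive.ofMul x)) = Additive.ofMul x from evH.apply_symm_apply _]
    rfl
  · obtain ⟨k, hk⟩ := hval (R.symm t) (fun h => ht (by simpa using congrArg R h))
    refine ⟨k, ?_⟩
    show R ⟨toEnd k, hkC k⟩ = t
    rw [← hk, R.apply_symm_apply]

end FieldCoord

theorem choose_two_pow_odd : ∀ i m : ℕ, (m.choose (2 ^ i)) % 2 = (m / 2 ^ i) % 2 := by
  intro i
  induction i with
  | zero => intro m; simp
  | succ i ih =>
    intro m
    haveI : Fact (Nat.Prime 2) := ⟨Nat.prime_two⟩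
    have h : m.choose (2 ^ (i + 1)) ≡ (m % 2).choose (2 ^ (i + 1) % 2) * (m / 2).choose (2 ^ (i + 1) / 2) [MOD 2] :=
      Choose.choose_modEq_choose_mod_mul_choose_div_nat
    have e1 : 2 ^ (i + 1) % 2 = 0 := by rw [pow_succ]; omega
    have e2 : 2 ^ (i + 1) / 2 = 2 ^ i := by rw [pow_succ]; omega
    rw [e1, e2, Nat.choose_zero_right, one_mul] at h
    rw [h, ih, Nat.div_div_eq_div_mul, pow_succ']

/-- exponents of quadratic power maps have binary weight at most two -/
theorem weight_two {F : Type*} [Field F] [Fintype F] [CharP F 2] {m : ℕ} (hm0 : m ≠ 0) (hm : m < Fintype.card F)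
    (hD : ∀ r s t : F, (r + s + t) ^ m + (r + s) ^ m + (r + t) ^ m + (s + t) ^ m + r ^ m + s ^ m + t ^ m = 0) :
    (∃ i, m = 2 ^ i) ∨ ∃ i j, i < j ∧ m = 2 ^ i + 2 ^ j := by
  classical
  obtain ⟨i, u, hu, hiu⟩ := Nat.exists_eq_two_pow_mul_odd hm0
  obtain ⟨r, hr⟩ := hu
  by_cases hr0 : r = 0
  · left; exact ⟨i, by rw [hiu, hr, hr0]; ring⟩
  right
  set a := 2 ^ i with ha
  have ha0 : 0 < a := by positivity
  set m' := m - a with hm'
  have hm'v : m' = 2 ^ (i + 1) * r := by
    rw [hm', hiu, hr, pow_succ, ← ha, mul_add, mul_one, Nat.add_sub_cancel]; ring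
  have ham : a < m := by
    have h2 : 0 < 2 ^ (i + 1) * r := by positivity
    omega
  have hca : (m.choose a : F) = 1 := by
    rw [← Nat.mod_add_div (m.choose a) 2, ha, choose_two_pow_odd, hiu, Nat.mul_div_cancel_left _ ha0, hr]
    rw [show (2 * r + 1) % 2 = 1 by omega]; push_cast; rw [CharTwo.two_eq_zero]; ring
  have hid : ∀ t : F, (1 + t) ^ m' + 1 + t ^ m' = 0 := by
    intro t
    let p : Polynomial F :=
      (Polynomial.X + Polynomial.C (1 + t)) ^ m + (Polynomial.X + Polynomial.C 1) ^ m + (Polynomial.X + Polynomial.C t) ^ m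
        + (Polynomial.X + Polynomial.C 0) ^ m + Polynomial.C ((1 + t) ^ m + 1 + t ^ m)
    have hp : p = 0 := by
      refine Polynomial.eq_zero_of_natDegree_lt_card_of_eval_eq_zero p (ι := F) (f := id) Function.injective_id
        (fun s => ?_) ?_
      · simp only [p, id, Polynomial.eval_add, Polynomial.eval_pow, Polynomial.eval_X, Polynomial.eval_C]
        have h := hD s 1 t
        rw [one_pow] at h
        rw [← add_assoc s 1 t, add_zero]
        linear_combination h
      · refine lt_of_le_of_lt ?_ hm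
        have hx : ∀ c : F, ((Polynomial.X + Polynomial.C c) ^ m).natDegree ≤ m := fun c => by
          rw [Polynomial.natDegree_pow, Polynomial.natDegree_X_add_C, mul_one]
        simp only [p]
        refine Polynomial.natDegree_add_le_of_degree_le (Polynomial.natDegree_add_le_of_degree_le
          (Polynomial.natDegree_add_le_of_degree_le (Polynomial.natDegree_add_le_of_degree_le (hx _) (hx _)) (hx _)) (hx _)) ?_
        rw [Polynomial.natDegree_C]; omega
    have h := congrArg (fun q => Polynomial.coeff q a) hp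
    simp only [p, Polynomial.coeff_add, Polynomial.coeff_X_add_C_pow, Polynomial.coeff_zero,
      Polynomial.coeff_C, ha0.ne', if_false, add_zero, ← hm', hca, mul_one, one_pow] at h
    rw [zero_pow (by omega : m' ≠ 0), add_zero] at h
    exact h
  let p : Polynomial F := (Polynomial.X + Polynomial.C 1) ^ m' + Polynomial.C 1 + Polynomial.X ^ m'
  have hp : p = 0 := by
    refine Polynomial.eq_zero_of_natDegree_lt_card_of_eval_eq_zero p (ι := F) (f := id) Function.injective_id
      (fun s => ?_) ?_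
    · simp only [p, id, Polynomial.eval_add, Polynomial.eval_pow, Polynomial.eval_X, Polynomial.eval_C]
      rw [add_comm s 1]; exact hid s
    · refine lt_of_le_of_lt ?_ (show m' < Fintype.card F by omega)
      simp only [p]
      refine Polynomial.natDegree_add_le_of_degree_le (Polynomial.natDegree_add_le_of_degree_le ?_ ?_) ?_
      · rw [Polynomial.natDegree_pow, Polynomial.natDegree_X_add_C, mul_one]
      · rw [Polynomial.natDegree_C]; omega
      · rw [Polynomial.natDegree_X_pow]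
  obtain ⟨k, v, hv, hkv⟩ := Nat.exists_eq_two_pow_mul_odd hr0
  obtain ⟨l, hl⟩ := hv
  set b := 2 ^ (i + 1 + k) with hb
  have hb0 : 0 < b := by positivity
  have hm'b : m' = b * (2 * l + 1) := by rw [hm'v, hkv, hl, hb, pow_add _ (i + 1) k]; ring
  by_cases hl0 : l = 0
  · refine ⟨i, i + 1 + k, by omega, ?_⟩
    rw [← hb, ← ha]
    have : m' = b := by simp [hm'b, hl0]
    omega
  exfalso
  have hbm : b < m' := by
    have : b * 1 < b * (2 * l + 1) := Nat.mul_lt_mul_of_pos_left (by omega) hb0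
    omega
  have hcb : (m'.choose b : F) = 1 := by
    rw [← Nat.mod_add_div (m'.choose b) 2, hb, choose_two_pow_odd, hm'b, ← hb, Nat.mul_div_cancel_left _ hb0,
      show (2 * l + 1) % 2 = 1 by omega]
    push_cast; rw [CharTwo.two_eq_zero]; ring
  have h := congrArg (fun q => Polynomial.coeff q b) hp
  simp only [p, Polynomial.coeff_add, Polynomial.coeff_X_add_C_pow, Polynomial.coeff_zero, Polynomial.coeff_C,
    Polynomial.coeff_X_pow, hb0.ne', hbm.ne, if_false, add_zero, hcb, one_pow, one_mul] at h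
  exact one_ne_zero h

/-- bijective `t ↦ t φ t` forces `φ` to have odd order -/
theorem odd_order {F : Type*} [Field F] [Fintype F] [CharP F 2] (φ : F ≃+* F)
    (hinj : Function.Injective fun t : F => t * φ t) : Odd (orderOf φ) := by
  classical
  let K := {t : F // φ (φ t) = t}
  have hfix : ∀ t : F, φ (φ t) = t → φ t = t := by
    let f : K → K := fun t => ⟨t.1 * φ t.1, by rw [map_mul, map_mul, t.2]⟩
    have hf : Function.Surjective f := Finite.injective_iff_surjective.1 fun a b h =>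
      Subtype.ext (hinj (congrArg Subtype.val h))
    intro t ht
    obtain ⟨s, hs⟩ := hf ⟨t, ht⟩
    have hs' : s.1 * φ s.1 = t := congrArg Subtype.val hs
    rw [← hs', map_mul, s.2, mul_comm]
  have hfin : Finite (F ≃+* F) := Finite.of_injective (fun e => (e : F → F)) DFunLike.coe_injective
  by_contra hodd
  rw [Nat.not_odd_iff_even] at hodd
  obtain ⟨r, hr⟩ := hodd
  set d := orderOf φ
  have hd0 : 0 < d := orderOf_pos φ
  let c : ℕ → F → F := fun k z => (φ ^ k) z
  have hc : ∀ k z, φ (c k z) = c (k + 1) z := fun k z => by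
    show φ ((φ ^ k) z) = (φ ^ (k + 1)) z
    rw [pow_succ']; rfl
  have hsum : ∀ z, ∑ k : Fin d, c k.1 z = 0 := by
    intro z
    set u := ∑ j ∈ Finset.range r, c (2 * j) z with hu
    have hu2 : φ (φ u) = u := by
      rw [hu, map_sum, map_sum]
      simp only [hc]
      have e := Finset.sum_range_succ (fun j => c (2 * j) z) r
      rw [Finset.sum_range_succ' (fun j => c (2 * j) z) r] at e
      have hd' : c (2 * r) z = c 0 z := by
        simp only [c]
        rw [show 2 * r = d by omega, pow_orderOf_eq_one, pow_zero]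
      rw [hd'] at e
      have h2 : ∀ j, 2 * j + 1 + 1 = 2 * (j + 1) := fun j => by ring
      simp only [h2]
      exact add_right_cancel e
    have hu1 := hfix u hu2
    rw [Fin.sum_univ_eq_sum_range (fun k => c k z) d, show d = 2 * r by omega]
    have hsplit : ∀ s, ∑ k ∈ Finset.range (2 * s), c k z =
        (∑ j ∈ Finset.range s, c (2 * j) z) + ∑ j ∈ Finset.range s, c (2 * j + 1) z := by
      intro s
      induction s with
      | zero => simp
      | succ s ih =>
        rw [show 2 * (s + 1) = 2 * s + 1 + 1 by ring, Finset.sum_range_succ, Finset.sum_range_succ, ih,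
          Finset.sum_range_succ, Finset.sum_range_succ]
        ring
    rw [hsplit, ← hu, show (∑ j ∈ Finset.range r, c (2 * j + 1) z) = φ u by simp only [hu, map_sum, hc], hu1,
      CharTwo.add_self_eq_zero]
  let mh : Fin d → (F →* F) := fun k => ((φ ^ k.1).toRingHom : F →+* F).toMonoidHom
  have hinj' : Function.Injective mh := fun a b h => by
    apply Fin.ext
    exact pow_injOn_Iio_orderOf a.2 b.2 (RingEquiv.ext fun z => DFunLike.congr_fun h z)
  have hli := (linearIndependent_monoidHom F F).comp mh hinj'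
  have := Fintype.linearIndependent_iff.1 hli (fun _ => (1 : F)) (funext fun z => by
    simpa [mh, c, Finset.sum_apply] using hsum z) ⟨0, hd0⟩
  exact one_ne_zero this

/-- central extensions with the same square map are isomorphic -/
theorem iso_of_squares {P A V : Type*} [Group P] [Group A] [CommGroup V] [Finite P] [Finite A]
    (xP : P →* V) (xA : A →* V) (hxP : Function.Surjective xP) (hxA : Function.Surjective xA)
    (iP : V →* P) (iA : V →* A) (hiP : Function.Injective iP) (hiA : Function.Injective iA)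
    (hkP : iP.range = xP.ker) (hkA : iA.range = xA.ker)
    (hcP : ∀ v p, p * iP v = iP v * p) (hcA : ∀ v a, a * iA v = iA v * a)
    (Q : V → V) (hqP : ∀ p, p * p = iP (Q (xP p))) (hqA : ∀ a, a * a = iA (Q (xA a))) :
    Nonempty (P ≃* A) := by
  classical
  let Δ : Subgroup (P × A) := (iP.prod iA).range
  let ZZ : Subgroup (P × A) := iP.range.prod iA.range
  have hΔc : ∀ g : P × A, ∀ d ∈ Δ, g * d = d * g := by
    rintro ⟨p, a⟩ _ ⟨v, rfl⟩
    exact Prod.ext (hcP v p) (hcA v a)
  let 𝒮 : Set (Subgroup (P × A)) := {R | Δ ≤ R ∧ (∀ g ∈ R, xP g.1 = xA g.2) ∧ R ⊓ ZZ ≤ Δ}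
  have hxi : ∀ v, xP (iP v) = 1 ∧ xA (iA v) = 1 := fun v =>
    ⟨MonoidHom.mem_ker.1 (hkP ▸ ⟨v, rfl⟩), MonoidHom.mem_ker.1 (hkA ▸ ⟨v, rfl⟩)⟩
  obtain ⟨R, ⟨hΔR, hRgr, hRZ⟩, hmax⟩ := Set.Finite.exists_maximalFor (fun R : Subgroup (P × A) => Nat.card R) 𝒮
    (Set.toFinite 𝒮) ⟨Δ, le_rfl, by rintro _ ⟨v, rfl⟩; show xP (iP v) = xA (iA v); rw [(hxi v).1, (hxi v).2], inf_le_left⟩
  have hsq : ∀ g : P × A, xP g.1 = xA g.2 → g * g ∈ Δ := by
    rintro ⟨p, a⟩ h
    exact ⟨Q (xP p), Prod.ext (hqP p).symm (by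
      show iA (Q (xP p)) = a * a
      rw [show xP p = xA a from h, ← hqA])⟩
  -- every element of the fibre product lies in `R * ZZ`
  have hcov : ∀ g : P × A, xP g.1 = xA g.2 → ∃ r ∈ R, r⁻¹ * g ∈ ZZ := by
    intro g hg
    by_contra hno
    push Not at hno
    have hnorm : ∀ r ∈ R, g⁻¹ * r * g ∈ R := by
      intro r hr
      have hgr : xP (g⁻¹ * r).1 = xA (g⁻¹ * r).2 := by
        show xP (g.1⁻¹ * r.1) = xA (g.2⁻¹ * r.2)
        rw [map_mul, map_mul, map_inv, map_inv, hg, hRgr r hr]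
      -- `(g⁻¹ r)²`, `r²`, `g²` all lie in `Δ`
      obtain h1 := hsq _ hgr
      have h2 := hsq g hg
      have h3 := hsq r (hRgr r hr)
      have e : g⁻¹ * r * g = (g⁻¹ * r * (g⁻¹ * r)) * (g * g) * ((r * r)⁻¹ * r) := by
        rw [show (g⁻¹ * r * (g⁻¹ * r)) * (g * g) = (g⁻¹ * r * g⁻¹) * ((r * g) * g) by group]
        have hc := hΔc r _ h2
        calc g⁻¹ * r * g = g⁻¹ * r * g⁻¹ * (g * g) := by group
          _ = g⁻¹ * r * g⁻¹ * ((g * g) * r * r⁻¹) := by group
          _ = g⁻¹ * r * g⁻¹ * ((r * (g * g)) * r⁻¹) := by rw [hc]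
          _ = _ := by group
      rw [e]
      exact mul_mem (mul_mem (hΔR h1) (hΔR h2)) (mul_mem (inv_mem (hΔR h3)) hr)
    let R' : Subgroup (P × A) := Cfsg.Agent.Lie.SuzukiTwo.ofMul {h | h ∈ R ∨ g⁻¹ * h ∈ R} (Or.inl (one_mem _)) (by
      intro x hx y hy
      rcases hx with hx | hx <;> rcases hy with hy | hy
      · exact Or.inl (mul_mem hx hy)
      · right
        have e : g⁻¹ * (x * y) = (g⁻¹ * x * g) * (g⁻¹ * y) := by group
        rw [e]; exact mul_mem (hnorm x hx) hy
      · right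
        rw [← mul_assoc]; exact mul_mem hx hy
      · left
        have e : x * y = (g * g) * (g⁻¹ * (g⁻¹ * x) * g) * (g⁻¹ * y) := by group
        rw [e]; exact mul_mem (mul_mem (hΔR (hsq g hg)) (hnorm _ hx)) hy)
    have hR'mem : R' ∈ 𝒮 := by
      refine ⟨fun d hd => Or.inl (hΔR hd), ?_, ?_⟩
      · rintro h (hh | hh)
        · exact hRgr h hh
        · have := hRgr _ hh
          change xP (g.1⁻¹ * h.1) = xA (g.2⁻¹ * h.2) at this
          rwa [map_mul, map_mul, map_inv, map_inv, hg, mul_right_inj] at this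
      · rintro h ⟨hh | hh, hz⟩
        · exact hRZ ⟨hh, hz⟩
        · exfalso
          refine hno (g⁻¹ * h)⁻¹ (inv_mem hh) ?_
          rw [inv_inv]
          have hc : h * g = g * h := by
            obtain ⟨⟨v, hv⟩, ⟨w, hw⟩⟩ := hz
            exact Prod.ext (show h.1 * g.1 = g.1 * h.1 by rw [← hv, hcP]) (show h.2 * g.2 = g.2 * h.2 by rw [← hw, hcA])
          rw [mul_assoc, hc, inv_mul_cancel_left]
          exact hz
    have hle : R ≤ R' := fun r hr => Or.inl hr
    have hgR' : g ∈ R' := Or.inr (by rw [inv_mul_cancel]; exact one_mem _)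
    have hgR : g ∉ R := fun h => hno g h (by rw [inv_mul_cancel]; exact one_mem _)
    have hlt : Nat.card R < Nat.card R' :=
      Set.ncard_lt_ncard ⟨hle, fun h => hgR (h hgR')⟩ (Set.toFinite _)
    exact absurd (hmax hR'mem hlt.le) (not_le.2 hlt)
  have hone : ∀ a, ((1 : P), a) ∈ R → a = 1 := fun a ha => by
    have h1 := hRgr _ ha
    have ha' : a ∈ iA.range := hkA ▸ (MonoidHom.mem_ker.2 (h1.symm.trans (map_one _)))
    obtain ⟨v, hv⟩ := hRZ ⟨ha, ⟨one_mem _, ha'⟩⟩
    have hv1 : iP v = 1 := congrArg Prod.fst hv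
    have hv2 : iA v = a := congrArg Prod.snd hv
    rw [← hv2, hiP (hv1.trans (map_one _).symm), map_one]
  have hone' : ∀ p, (p, (1 : A)) ∈ R → p = 1 := fun p hp => by
    have h1 := hRgr _ hp
    have hp' : p ∈ iP.range := hkP ▸ (MonoidHom.mem_ker.2 (h1.trans (map_one _)))
    obtain ⟨v, hv⟩ := hRZ ⟨hp, ⟨hp', one_mem _⟩⟩
    have hv1 : iP v = p := congrArg Prod.fst hv
    have hv2 : iA v = 1 := congrArg Prod.snd hv
    rw [← hv1, hiA (hv2.trans (map_one _).symm), map_one]
  have hex : ∀ p, ∃ a, (p, a) ∈ R := fun p => by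
    obtain ⟨a0, ha0⟩ := hxA (xP p)
    obtain ⟨r, hr, ⟨⟨v, hv⟩, ⟨w, hw⟩⟩⟩ := hcov (p, a0) ha0.symm
    refine ⟨r.2 * iA v, ?_⟩
    have e : r * (iP v, iA v) = (p, r.2 * iA v) := Prod.ext (by
      show r.1 * iP v = p
      rw [hv]; show r.1 * (r.1⁻¹ * p) = p; rw [mul_inv_cancel_left]) rfl
    rw [← e]; exact mul_mem hr (hΔR ⟨v, rfl⟩)
  have hex' : ∀ a, ∃ p, (p, a) ∈ R := fun a => by
    obtain ⟨p0, hp0⟩ := hxP (xA a)
    obtain ⟨r, hr, ⟨⟨v, hv⟩, ⟨w, hw⟩⟩⟩ := hcov (p0, a) hp0
    refine ⟨r.1 * iP w, ?_⟩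
    have e : r * (iP w, iA w) = (r.1 * iP w, a) := Prod.ext rfl (by
      show r.2 * iA w = a
      rw [hw]; show r.2 * (r.2⁻¹ * a) = a; rw [mul_inv_cancel_left])
    rw [← e]; exact mul_mem hr (hΔR ⟨w, rfl⟩)
  choose f hf using hex
  let F : P →* A := MonoidHom.mk' f fun p p' => by
    refine (eq_of_mul_inv_eq_one (hone _ ?_))
    have := mul_mem (hf (p * p')) (inv_mem (mul_mem (hf p) (hf p')))
    simpa using this
  refine ⟨MulEquiv.ofBijective F ⟨?_, fun a => ?_⟩⟩
  · rw [injective_iff_map_eq_one]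
    intro p hp
    exact hone' p (by have := hf p; rwa [show f p = 1 from hp] at this)
  · obtain ⟨p, hp⟩ := hex' a
    refine ⟨p, (eq_of_mul_inv_eq_one (hone _ ?_))⟩
    have := mul_mem (hf p) (inv_mem hp)
    show ((1 : P), f p * a⁻¹) ∈ R
    simpa using this

/-- quadratic data of a group of type A -/
theorem typeA_data {F : Type} [Field F] [CharP F 2] (φ : F →+* F) :
    ∃ (xA : ↥(Cfsg.suzukiTypeA F φ) →* Multiplicative F) (iA : Multiplicative F →* ↥(Cfsg.suzukiTypeA F φ)),
      Function.Surjective xA ∧ Function.Injective iA ∧ iA.range = xA.ker ∧ (∀ v a, a * iA v = iA v * a) ∧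
      ∀ a, a * a = iA (Multiplicative.ofAdd (Multiplicative.toAdd (xA a) * φ (Multiplicative.toAdd (xA a)))) := by
  classical
  let M : F → F → Matrix (Fin 3) (Fin 3) F := fun x y => !![1, 0, 0; x, 1, 0; y, φ x, 1]
  have hMmul : ∀ x y x' y', M x y * M x' y' = M (x + x') (y + y' + φ x * x') := fun x y x' y' => by
    ext a b
    fin_cases a <;> fin_cases b <;> simp [M, Matrix.mul_apply, Fin.sum_univ_three, map_add] <;> ring
  have hMdet : ∀ x y, (M x y).det ≠ 0 := fun x y => by simp [M, Matrix.det_fin_three]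
  let G : F → F → GL (Fin 3) F := fun x y => Matrix.GeneralLinearGroup.mkOfDetNeZero (M x y) (hMdet x y)
  have hGv : ∀ x y, (G x y : Matrix (Fin 3) (Fin 3) F) = M x y := fun x y => rfl
  have hGmul : ∀ x y x' y', G x y * G x' y' = G (x + x') (y + y' + φ x * x') := fun x y x' y' =>
    Units.ext (by rw [Units.val_mul]; exact hMmul x y x' y')
  have hM0 : M 0 0 = 1 := by ext a b; fin_cases a <;> fin_cases b <;> simp [M]
  have hG0 : G 0 0 = 1 := Units.ext hM0
  have hGinv : ∀ x y, (G x y)⁻¹ = G x (y + φ x * x) := fun x y => inv_eq_of_mul_eq_one_right (by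
    rw [hGmul, CharTwo.add_self_eq_zero, ← hG0]; congr 1
    rw [← add_assoc, CharTwo.add_self_eq_zero, zero_add, CharTwo.add_self_eq_zero])
  have hmem : ∀ x y, G x y ∈ Cfsg.suzukiTypeA F φ := fun x y => Subgroup.subset_closure ⟨x, y, hGv x y⟩
  have hform : ∀ g ∈ Cfsg.suzukiTypeA F φ, ∃ x y, g = G x y := by
    intro g hg
    induction hg using Subgroup.closure_induction with
    | mem g h => obtain ⟨x, y, h⟩ := h; exact ⟨x, y, Units.ext (by rw [hGv]; exact h)⟩
    | one => exact ⟨0, 0, hG0.symm⟩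
    | mul g h _ _ ihg ihh =>
      obtain ⟨x, y, rfl⟩ := ihg; obtain ⟨x', y', rfl⟩ := ihh; exact ⟨_, _, hGmul x y x' y'⟩
    | inv g _ ih => obtain ⟨x, y, rfl⟩ := ih; exact ⟨_, _, hGinv x y⟩
  let X : ↥(Cfsg.suzukiTypeA F φ) → F := fun g => (g.1 : Matrix (Fin 3) (Fin 3) F) 1 0
  have hX : ∀ x y (h : G x y ∈ Cfsg.suzukiTypeA F φ), X ⟨G x y, h⟩ = x := fun x y h => by simp [X, hGv, M]
  let xA : ↥(Cfsg.suzukiTypeA F φ) →* Multiplicative F := MonoidHom.mk' (fun g => Multiplicative.ofAdd (X g))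
    fun g h => by
      obtain ⟨g, hg⟩ := g; obtain ⟨h, hh⟩ := h
      obtain ⟨x, y, rfl⟩ := hform g hg
      obtain ⟨x', y', rfl⟩ := hform h hh
      show Multiplicative.ofAdd (X ⟨G x y * G x' y', _⟩) = _
      rw [hX x y, hX x' y', ← ofAdd_add]
      congr 1
      simp [X, hGmul, hGv, M]
  let iA : Multiplicative F →* ↥(Cfsg.suzukiTypeA F φ) :=
    MonoidHom.mk' (fun v => ⟨G 0 (Multiplicative.toAdd v), hmem _ _⟩) fun v w => Subtype.ext (by
      show G 0 _ = G 0 _ * G 0 _
      rw [hGmul, add_zero, map_zero, zero_mul, add_zero]; rfl)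
  refine ⟨xA, iA, fun v => ⟨⟨G (Multiplicative.toAdd v) 0, hmem _ _⟩, ?_⟩, ?_, ?_, ?_, ?_⟩
  · show Multiplicative.ofAdd (X _) = v
    rw [hX]; rfl
  · intro v w h
    have := congrArg (fun g : ↥(Cfsg.suzukiTypeA F φ) => (g.1 : Matrix (Fin 3) (Fin 3) F) 2 0) h
    simpa [iA, hGv, M] using this
  · ext g
    constructor
    · rintro ⟨v, rfl⟩
      show Multiplicative.ofAdd (X _) = 1
      rw [show iA v = ⟨G 0 (Multiplicative.toAdd v), hmem _ _⟩ from rfl, hX]; rfl
    · intro h
      obtain ⟨g, hg⟩ := g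
      obtain ⟨x, y, rfl⟩ := hform g hg
      have hx : x = 0 := by
        have h' : Multiplicative.ofAdd (X ⟨G x y, hg⟩) = 1 := h
        rw [hX, ofAdd_eq_one] at h'; exact h'
      subst hx
      exact ⟨Multiplicative.ofAdd y, rfl⟩
  · rintro v ⟨g, hg⟩
    obtain ⟨x, y, rfl⟩ := hform g hg
    refine Subtype.ext ?_
    show G x y * G 0 _ = G 0 _ * G x y
    rw [hGmul, hGmul, mul_zero, map_zero, zero_mul, add_zero, add_zero, zero_add, add_zero, add_comm y]
  · rintro ⟨g, hg⟩
    obtain ⟨x, y, rfl⟩ := hform g hg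
    refine Subtype.ext ?_
    show G x y * G x y = G 0 _
    rw [hGmul, CharTwo.add_self_eq_zero, CharTwo.add_self_eq_zero, zero_add]
    show G 0 (φ x * x) = G 0 (X ⟨G x y, hg⟩ * φ (X ⟨G x y, hg⟩))
    rw [hX, mul_comm]

open Cfsg.Agent.Lie.SuzukiTwo in
/-- **Suzuki two-groups of order `|Z|²` are of type A.** -/
theorem type_a {P : Type*} [Group P] (hP : Cfsg.IsSuzukiTwoGroup P)
    (hcard : Nat.card P = Nat.card (Subgroup.center P) ^ 2) :
    ∃ (F : Type) (_ : Field F) (_ : Fintype F) (φ : F ≃+* F), Fintype.card F = Nat.card (Subgroup.center P) ∧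
      φ ≠ RingEquiv.refl F ∧ Odd (orderOf φ) ∧ Nonempty (P ≃* Cfsg.suzukiTypeA F (φ : F →+* F)) := by
  classical
  obtain ⟨hinvc, hZ2⟩ := center_elementary hP
  obtain ⟨hfin, h2, hnab, ⟨i1, i2, hi12, hi1, hi1s, hi2, hi2s⟩, K, hKc, hK⟩ := hP
  haveI : Fact (Nat.Prime 2) := ⟨Nat.prime_two⟩
  haveI := hKc
  letI : CommGroup ↥K := IsCyclic.commGroup
  set Z := Subgroup.center P with hZ
  have htr : ∀ x y : P, x ≠ 1 → x * x = 1 → y ≠ 1 → y * y = 1 → ∃ k ∈ K, k x = y := fun x y a b c d => by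
    obtain ⟨k, hk, -⟩ := hK x y a b c d
    exact ⟨k.1, k.2, hk⟩
  have hkZ : ∀ k : MulAut P, ∀ a ∈ Z, k a ∈ Z := fun k a ha => by
    rw [hZ, Subgroup.mem_center_iff]
    intro w
    obtain ⟨w, rfl⟩ := k.surjective w
    rw [← map_mul, ← map_mul, Subgroup.mem_center_iff.1 ha w]
  obtain ⟨n, hn⟩ := IsPGroup.iff_card.1 (h2.to_subgroup Z)
  have hZ3 : 2 < Nat.card Z := by
    by_contra h
    letI := Fintype.ofFinite ↥Z
    have hsub : ({⟨1, one_mem _⟩, ⟨i1, hinvc i1 hi1s⟩, ⟨i2, hinvc i2 hi2s⟩} : Finset ↥Z).card = 3 := by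
      rw [Finset.card_eq_three]
      exact ⟨_, _, _, fun h => hi1 (congrArg Subtype.val h).symm, fun h => hi2 (congrArg Subtype.val h).symm,
        fun h => hi12 (congrArg Subtype.val h), rfl⟩
    have := Finset.card_le_univ ({⟨1, one_mem _⟩, ⟨i1, hinvc i1 hi1s⟩, ⟨i2, hinvc i2 hi2s⟩} : Finset ↥Z)
    rw [hsub, ← Nat.card_eq_fintype_card] at this
    omega
  have hn0 : n ≠ 0 := fun h => by rw [hn, h, pow_zero] at hZ3; omega
  -- the layer is everything
  have hne_top : Z ≠ ⊤ := fun h => by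
    obtain ⟨x, y, hxy⟩ := hnab
    exact hxy (Subgroup.mem_center_iff.1 (show y ∈ Z from h ▸ trivial) x)
  obtain ⟨y0, -, hy0, hy0Z⟩ := exists_layer h2 Z ⊤ (lt_top_iff_ne_top.2 hne_top)
  have hpick : ∀ z : ↥Z, ∃ y, (y ∈ layer Z) ∧ y * y = z.1 := by
    intro z
    by_cases hz : z.1 = 1
    · exact ⟨1, ⟨fun x => by simp, by simp⟩, by rw [hz, mul_one]⟩
    obtain ⟨k, -, hk⟩ := htr (y0 * y0) z.1 (fun h => hy0Z (hinvc y0 h)) (hZ2 _ hy0.2) hz (hZ2 _ z.2)
    refine ⟨k y0, ⟨fun x => ?_, by rw [← map_mul]; exact hkZ k _ hy0.2⟩, by rw [← map_mul]; exact hk⟩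
    have := hkZ k _ (hy0.1 (k.symm x))
    simpa using this
  choose pk hpk1 hpk2 using hpick
  have hcen : ∀ w ∈ Z, ∀ x : P, x * w = w * x := fun w hw x => Subgroup.mem_center_iff.1 hw x
  let f : ↥Z × ↥Z → P := fun zw => pk zw.1 * zw.2.1
  have hfsq : ∀ zw : ↥Z × ↥Z, f zw * f zw = zw.1.1 := fun zw => by
    show pk zw.1 * zw.2.1 * (pk zw.1 * zw.2.1) = zw.1.1
    rw [mul_assoc, ← mul_assoc zw.2.1, ← hcen _ zw.2.2 (pk zw.1), mul_assoc (pk zw.1) zw.2.1, hZ2 _ zw.2.2,
      mul_one, hpk2]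
  have hfinj : Function.Injective f := fun a b h => by
    have h1 : a.1 = b.1 := Subtype.ext (by rw [← hfsq a, ← hfsq b, h])
    exact Prod.ext h1 (Subtype.ext (mul_left_cancel (by
      have h' : pk a.1 * a.2.1 = pk b.1 * b.2.1 := h
      rwa [← h1] at h')))
  have hfsurj : Function.Surjective f :=
    ((Nat.bijective_iff_injective_and_card f).2 ⟨hfinj, by rw [Nat.card_prod, hcard, pow_two]⟩).2
  have hsqZ : ∀ p : P, p * p ∈ Z := fun p => by
    obtain ⟨zw, rfl⟩ := hfsurj p; rw [hfsq]; exact zw.1.2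
  have hcomZ : ∀ p x : P, p * x * p⁻¹ * x⁻¹ ∈ Z := fun p x => by
    obtain ⟨⟨z, w⟩, rfl⟩ := hfsurj p
    show pk z * w.1 * x * (pk z * w.1)⁻¹ * x⁻¹ ∈ Z
    have e : pk z * w.1 * x * (pk z * w.1)⁻¹ * x⁻¹ = pk z * x * (pk z)⁻¹ * x⁻¹ := by
      rw [mul_inv_rev, mul_assoc (pk z) w.1 x, ← hcen _ w.2 x]; group
    rw [e]; exact (hpk1 z).1 x
  have hsqinj : ∀ p q : P, p * p = q * q → p⁻¹ * q ∈ Z := fun p q h => by
    obtain ⟨a, rfl⟩ := hfsurj p; obtain ⟨b, rfl⟩ := hfsurj q
    rw [hfsq, hfsq] at h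
    have h1 : a.1 = b.1 := Subtype.ext h
    show (pk a.1 * a.2.1)⁻¹ * (pk b.1 * b.2.1) ∈ Z
    rw [h1, mul_inv_rev, mul_assoc, inv_mul_cancel_left]
    exact mul_mem (inv_mem a.2.2) b.2.2
  -- the quotient
  letI : CommGroup (P ⧸ Z) := { (inferInstance : Group (P ⧸ Z)) with
    mul_comm := fun a b => by
      induction a using QuotientGroup.induction_on with
      | H a => induction b using QuotientGroup.induction_on with
        | H b =>
          have : ((a * b * a⁻¹ * b⁻¹ : P) : P ⧸ Z) = 1 := (QuotientGroup.eq_one_iff _).2 (hcomZ a b)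
          simp only [QuotientGroup.mk_mul, QuotientGroup.mk_inv] at this
          rwa [mul_inv_eq_one, mul_inv_eq_iff_eq_mul] at this }
  letI : CommGroup ↥Z := { (inferInstance : Group ↥Z) with
    mul_comm := fun a b => Subtype.ext (hcen b.1 b.2 a.1) }
  have hcardV : Nat.card (P ⧸ Z) = 2 ^ n := by
    have h := Subgroup.card_eq_card_quotient_mul_card_subgroup Z
    rw [hcard, pow_two] at h
    rw [← hn]
    exact (Nat.eq_of_mul_eq_mul_right Nat.card_pos h).symm
  have hmapZ : ∀ k : MulAut P, Z.map k.toMonoidHom = Z := fun k => le_antisymm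
    (by rintro _ ⟨a, ha, rfl⟩; exact hkZ k a ha)
    (fun a ha => ⟨k.symm a, hkZ k.symm a ha, k.apply_symm_apply a⟩)
  let actV : ↥K →* MulAut (P ⧸ Z) :=
    { toFun := fun k => QuotientGroup.congr Z Z k.1 (hmapZ k.1)
      map_one' := MulEquiv.ext fun x => by induction x using QuotientGroup.induction_on with | H x => rfl
      map_mul' := fun k l => MulEquiv.ext fun x => by induction x using QuotientGroup.induction_on with | H x => rfl }
  let actZ : ↥K →* MulAut ↥Z :=
    { toFun := fun k =>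
        { toFun := fun u => ⟨k.1 u.1, hkZ k.1 u.1 u.2⟩
          invFun := fun u => ⟨k.1.symm u.1, hkZ k.1.symm u.1 u.2⟩
          left_inv := fun u => Subtype.ext (k.1.symm_apply_apply u.1)
          right_inv := fun u => Subtype.ext (k.1.apply_symm_apply u.1)
          map_mul' := fun u v => Subtype.ext (map_mul k.1 u.1 v.1) }
      map_one' := MulEquiv.ext fun u => Subtype.ext rfl
      map_mul' := fun k l => MulEquiv.ext fun u => Subtype.ext rfl }
  have hVsq : ∀ x : P ⧸ Z, x * x = 1 := fun x => by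
    induction x using QuotientGroup.induction_on with
    | H x => exact (QuotientGroup.eq_one_iff _).2 (hsqZ x)
  have hne1 : ∀ p : P, p ∉ Z → p * p ≠ 1 := fun p hp h => hp (hinvc p h)
  obtain ⟨eV, mV, heV, hmV⟩ := exists_coord actV hVsq hn0 hcardV (fun a b ha hb => by
    induction a using QuotientGroup.induction_on with
    | H a => induction b using QuotientGroup.induction_on with
      | H b =>
        rw [Ne, QuotientGroup.eq_one_iff] at ha hb
        obtain ⟨k, hk, hkab⟩ := htr _ _ (hne1 a ha) (hZ2 _ (hsqZ a)) (hne1 b hb) (hZ2 _ (hsqZ b))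
        exact ⟨⟨k, hk⟩, (QuotientGroup.eq).2 (hsqinj (k a) b (by rw [← map_mul, hkab]))⟩)
  obtain ⟨eZ, mZ, heZ, hmZ⟩ := exists_coord actZ (fun x : ↥Z => Subtype.ext (hZ2 _ x.2)) hn0 hn (fun a b ha hb => by
    obtain ⟨k, hk, hkab⟩ := htr _ _ (fun h => ha (Subtype.ext h)) (hZ2 _ a.2) (fun h => hb (Subtype.ext h)) (hZ2 _ b.2)
    exact ⟨⟨k, hk⟩, Subtype.ext hkab⟩)
  let X : P → GaloisField 2 n := fun p => Multiplicative.toAdd (eV (p : P ⧸ Z))
  let ζ : ↥Z → GaloisField 2 n := fun z => Multiplicative.toAdd (eZ z)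
  have hXmul : ∀ p q, X (p * q) = X p + X q := fun p q => by
    simp only [X]; rw [QuotientGroup.mk_mul, map_mul]; rfl
  have hζmul : ∀ a b, ζ (a * b) = ζ a + ζ b := fun a b => by simp only [ζ]; rw [map_mul]; rfl
  have hX0 : ∀ p, X p = 0 ↔ p ∈ Z := fun p => by
    simp only [X]; rw [toAdd_eq_zero, map_eq_one_iff _ eV.injective, QuotientGroup.eq_one_iff]
  have hζinj : Function.Injective ζ := fun a b h => eZ.injective (Multiplicative.toAdd.injective h)
  choose pre hpre using fun t : GaloisField 2 n => (show ∃ p : P, X p = t from by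
    obtain ⟨p, hp⟩ := QuotientGroup.mk_surjective (eV.symm (Multiplicative.ofAdd t))
    exact ⟨p, by simp only [X]; rw [hp, eV.apply_symm_apply]; rfl⟩)
  let sq : P → ↥Z := fun p => ⟨p * p, hsqZ p⟩
  let Q : GaloisField 2 n → GaloisField 2 n := fun t => ζ (sq (pre t))
  have hQ : ∀ p, ζ (sq p) = Q (X p) := fun p => by
    refine congrArg ζ (Subtype.ext ?_)
    show p * p = pre (X p) * pre (X p)
    have hw : (pre (X p))⁻¹ * p ∈ Z := by
      rw [← QuotientGroup.eq]; exact eV.injective (Multiplicative.toAdd.injective (hpre (X p)))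
    set w := (pre (X p))⁻¹ * p with hw'
    have hp : p = pre (X p) * w := by rw [hw', mul_inv_cancel_left]
    calc p * p = pre (X p) * w * (pre (X p) * w) := by rw [← hp]
      _ = pre (X p) * (w * pre (X p)) * w := by group
      _ = pre (X p) * (pre (X p) * w) * w := by rw [hcen _ hw (pre (X p))]
      _ = pre (X p) * pre (X p) * (w * w) := by group
      _ = _ := by rw [hZ2 _ hw, mul_one]
  have hQinj : Function.Injective Q := fun s t h => by
    have h' : pre s * pre s = pre t * pre t := congrArg Subtype.val (hζinj h)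
    have := hsqinj _ _ h'
    rw [← QuotientGroup.eq] at this
    rw [← hpre s, ← hpre t]; simp only [X]; rw [this]
  have hQ0 : Q 0 = 0 := by
    have h := hQ 1
    rw [show X 1 = 0 from (hX0 1).2 (one_mem _)] at h
    rw [← h, show sq 1 = 1 from Subtype.ext (mul_one 1)]; simp [ζ]
  have hQk : ∀ (k : ↥K) t, Q (mV k * t) = mZ k * Q t := fun k t => by
    obtain ⟨p, rfl⟩ : ∃ p, X p = t := ⟨_, hpre t⟩
    have e1 : X (k.1 p) = mV k * X p := heV k (p : P ⧸ Z)
    rw [← e1, ← hQ, ← hQ, show sq (k.1 p) = actZ k (sq p) from Subtype.ext (map_mul k.1 p p).symm]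
    exact heZ k _
  set c := Q 1 with hc
  have hc0 : c ≠ 0 := fun h => one_ne_zero (hQinj (h.trans hQ0.symm))
  let q' : GaloisField 2 n → GaloisField 2 n := fun t => Q t / c
  have hq'mul : ∀ s t, q' (s * t) = q' s * q' t := fun s t => by
    by_cases hs : s = 0
    · simp [q', hs, hQ0]
    obtain ⟨k, rfl⟩ := hmV s hs
    have h1 : Q (mV k) = mZ k * c := by rw [hc, ← hQk k 1, mul_one]
    simp only [q', hQk, h1]; field_simp
  have hq'1 : q' 1 = 1 := div_self hc0
  have hq'inj : Function.Injective q' := fun s t h => hQinj ((div_left_inj' hc0).1 h)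
  have hq'0 : q' 0 = 0 := by simp [q', hQ0]
  letI : Fintype (GaloisField 2 n) := Fintype.ofFinite _
  have hqcard : Fintype.card (GaloisField 2 n) = 2 ^ n := by rw [← Nat.card_eq_fintype_card, GaloisField.card 2 n hn0]
  obtain ⟨g, hg⟩ := IsCyclic.exists_generator (α := (GaloisField 2 n)ˣ)
  obtain ⟨m0, hm0⟩ : ∃ m0 : ℕ, q' (g : GaloisField 2 n) = (g : GaloisField 2 n) ^ m0 := by
    have hne : q' (g : GaloisField 2 n) ≠ 0 := fun h => g.ne_zero (hq'inj (h.trans hq'0.symm))
    obtain ⟨j, hj⟩ := (mem_powers_iff_mem_zpowers).2 (hg (Units.mk0 _ hne))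
    exact ⟨j, by rw [← Units.val_pow_eq_pow_val]; exact (congrArg Units.val hj).symm⟩
  set m := m0 % (2 ^ n - 1) with hm
  have h2n : 4 ≤ 2 ^ n := by
    have : 2 ≤ n := by
      by_contra h
      have : n = 1 := by omega
      rw [hn, this] at hZ3; omega
    calc 4 = 2 ^ 2 := rfl
      _ ≤ 2 ^ n := Nat.pow_le_pow_right two_pos this
  have hgq : (g : GaloisField 2 n) ^ (2 ^ n - 1) = 1 := by
    rw [← hqcard]; exact FiniteField.pow_card_sub_one_eq_one _ g.ne_zero
  have hgm : q' (g : GaloisField 2 n) = (g : GaloisField 2 n) ^ m := by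
    rw [hm0]; conv_lhs => rw [← Nat.mod_add_div m0 (2 ^ n - 1), pow_add, pow_mul, hgq, one_pow, mul_one]
  have hpow : ∀ t, t ≠ 0 → q' t = t ^ m := by
    intro t ht
    obtain ⟨j, hj⟩ := (mem_powers_iff_mem_zpowers).2 (hg (Units.mk0 t ht))
    have hj' : (g : GaloisField 2 n) ^ j = t := by rw [← Units.val_pow_eq_pow_val]; exact congrArg Units.val hj
    rw [← hj']
    clear hj hj'
    induction j with
    | zero => simp [hq'1]
    | succ j ih => rw [pow_succ, hq'mul, ih, hgm, ← mul_pow]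
  have hmne : m ≠ 0 := fun h => by
    have h1 : (g : GaloisField 2 n) = 1 := hq'inj (by rw [hgm, h, pow_zero, hq'1])
    have : ∀ u : (GaloisField 2 n)ˣ, u = 1 := fun u => by
      have := hg u
      rw [show g = 1 from Units.ext h1, Subgroup.zpowers_one_eq_bot, Subgroup.mem_bot] at this
      exact this
    haveI : Subsingleton (GaloisField 2 n)ˣ := ⟨fun a b => (this a).trans (this b).symm⟩
    have h3 := Fintype.card_le_one_iff_subsingleton.2 (inferInstance : Subsingleton (GaloisField 2 n)ˣ)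
    rw [Fintype.card_units, hqcard] at h3
    omega
  have hpow' : ∀ t, q' t = t ^ m := fun t => by
    by_cases ht : t = 0
    · rw [ht, hq'0, zero_pow hmne]
    · exact hpow t ht
  have hQm : ∀ t, Q t = c * t ^ m := fun t => by rw [← hpow']; simp [q', mul_div_cancel₀ _ hc0]
  -- commutators
  let com : P → P → ↥Z := fun y z => ⟨y⁻¹ * z * y * z⁻¹, by
    have := hcomZ y⁻¹ z; rwa [inv_inv] at this⟩
  have hB : ∀ p q, Q (X p + X q) = Q (X p) + Q (X q) + ζ (com p q) := fun p q => by
    rw [← hXmul, ← hQ, ← hQ, ← hQ, show sq (p * q) = sq p * (com p q * sq q) from Subtype.ext (sq_prod p q),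
      hζmul, hζmul]
    ring
  have hcr : ∀ p q r, com p (q * r) = com p q * com p r := fun p q r => Subtype.ext (by
    show p⁻¹ * (q * r) * p * (q * r)⁻¹ = p⁻¹ * q * p * q⁻¹ * (p⁻¹ * r * p * r⁻¹)
    have h : q⁻¹ * (p⁻¹ * r * p * r⁻¹) = p⁻¹ * r * p * r⁻¹ * q⁻¹ := hcen _ (com p r).2 q⁻¹
    rw [mul_assoc (p⁻¹ * q * p), h]
    group)
  have hD : ∀ r s t : GaloisField 2 n,
      (r + s + t) ^ m + (r + s) ^ m + (r + t) ^ m + (s + t) ^ m + r ^ m + s ^ m + t ^ m = 0 := by
    intro r s t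
    obtain ⟨a, rfl⟩ : ∃ p, X p = r := ⟨_, hpre r⟩
    obtain ⟨b, rfl⟩ : ∃ p, X p = s := ⟨_, hpre s⟩
    obtain ⟨d, rfl⟩ : ∃ p, X p = t := ⟨_, hpre t⟩
    have h1 := hB a (b * d)
    rw [hXmul, ← add_assoc, hcr, hζmul, hB b d] at h1
    have h2 := hB a b
    have h3 := hB a d
    have h4 := hB b d
    simp only [hQm] at h1 h2 h3 h4
    refine (mul_right_inj' hc0).1 ?_
    rw [mul_zero]
    linear_combination h1 + h2 + h3 + h4 + (2 * (c * (X a) ^ m + c * (X b) ^ m + c * (X d) ^ m) + ζ (com a b) + ζ (com a d) + ζ (com b d)) * (CharTwo.two_eq_zero (R := GaloisField 2 n))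
  have hnotadd : ¬ ∀ s t, Q (s + t) = Q s + Q t := fun h => by
    obtain ⟨x, y, hxy⟩ := hnab
    have h1 := hB x y
    rw [h, left_eq_add] at h1
    have h2 : com x y = 1 := hζinj (h1.trans (by simp [ζ]))
    have h3 : x⁻¹ * y * x * y⁻¹ = 1 := congrArg Subtype.val h2
    rw [mul_inv_eq_one, mul_assoc, inv_mul_eq_iff_eq_mul] at h3
    exact hxy h3.symm
  have hmlt : m < Fintype.card (GaloisField 2 n) := by
    rw [hqcard]
    have := Nat.mod_lt m0 (show 0 < 2 ^ n - 1 by omega)
    omega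
  rcases weight_two hmne hmlt hD with ⟨i, hi⟩ | ⟨i, j, hij, hi⟩
  · refine absurd (fun s t => ?_) hnotadd
    rw [hQm, hQm, hQm, hi, add_pow_char_pow, mul_add]
  let φ : GaloisField 2 n ≃+* GaloisField 2 n := iterateFrobeniusEquiv (GaloisField 2 n) 2 (j - i)
  have hφ : ∀ t, φ t = t ^ 2 ^ (j - i) := fun t => iterateFrobeniusEquiv_def _ _ _ t
  have hmt : ∀ t : GaloisField 2 n, t ^ m = (t * φ t) ^ 2 ^ i := fun t => by
    rw [hφ, hi, mul_pow, ← pow_mul, ← pow_add, ← pow_add, Nat.sub_add_cancel hij.le]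
  refine ⟨GaloisField 2 n, inferInstance, inferInstance, φ, by rw [hqcard, hn], fun h => ?_, ?_, ?_⟩
  · refine hnotadd fun s t => ?_
    have h2 : ∀ x : GaloisField 2 n, Q x = c * x ^ 2 ^ (i + 1) := fun x => by
      rw [hQm, hmt, h]
      show c * (x * x) ^ 2 ^ i = _
      rw [← pow_two, ← pow_mul, pow_succ']
    rw [h2, h2, h2, add_pow_char_pow, mul_add]
  · refine odd_order φ fun s t hst => hq'inj ?_
    rw [hpow', hpow', hmt, hmt]
    exact congrArg (· ^ 2 ^ i) hst
  -- the isomorphism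
  obtain ⟨xA, iA, hxA, hiA, hkA, hcA, hqA⟩ := typeA_data (φ : GaloisField 2 n →+* GaloisField 2 n)
  let xP : P →* Multiplicative (GaloisField 2 n) := eV.toMonoidHom.comp (QuotientGroup.mk' Z)
  let sc : Multiplicative (GaloisField 2 n) →* Multiplicative (GaloisField 2 n) :=
    MonoidHom.mk' (fun v => Multiplicative.ofAdd (c * Multiplicative.toAdd v ^ 2 ^ i)) fun v w => by
      show Multiplicative.ofAdd (c * (Multiplicative.toAdd v + Multiplicative.toAdd w) ^ 2 ^ i) = _
      rw [add_pow_char_pow, mul_add]; rfl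
  have hscinj : Function.Injective sc := fun v w h => by
    have h' : c * Multiplicative.toAdd v ^ 2 ^ i = c * Multiplicative.toAdd w ^ 2 ^ i := h
    exact Multiplicative.toAdd.injective (iterateFrobenius_inj (GaloisField 2 n) 2 i ((mul_right_inj' hc0).1 h'))
  let iP : Multiplicative (GaloisField 2 n) →* P := (Z.subtype.comp eZ.symm.toMonoidHom).comp sc
  have hiP : Function.Injective iP := fun v w h => hscinj (eZ.symm.injective (Subtype.ext h))
  have hkP : iP.range = xP.ker := by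
    ext p
    constructor
    · rintro ⟨v, rfl⟩
      show eV (((eZ.symm (sc v)).1 : P) : P ⧸ Z) = 1
      rw [(QuotientGroup.eq_one_iff _).2 (eZ.symm (sc v)).2, map_one]
    · intro hp
      have hpZ : p ∈ Z := (hX0 p).1 (by
        have hp' : eV (p : P ⧸ Z) = 1 := hp
        simp only [X]; rw [hp']; rfl)
      obtain ⟨v, hv⟩ := (Finite.injective_iff_surjective.1 hscinj) (eZ ⟨p, hpZ⟩)
      exact ⟨v, by show ((eZ.symm (sc v)).1 : P) = p; rw [hv, eZ.symm_apply_apply]⟩
  refine iso_of_squares xP xA (eV.surjective.comp (QuotientGroup.mk'_surjective Z)) hxA iP iA hiP hiA hkP hkA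
    (fun v p => hcen _ (eZ.symm (sc v)).2 p) hcA
    (fun v => Multiplicative.ofAdd (Multiplicative.toAdd v * φ (Multiplicative.toAdd v))) (fun p => ?_) hqA
  show p * p = (eZ.symm (Multiplicative.ofAdd (c * (X p * φ (X p)) ^ 2 ^ i))).1
  rw [← hmt, ← hQm, ← hQ]
  show p * p = (eZ.symm (eZ (sq p))).1
  rw [eZ.symm_apply_apply]

end Cfsg.Agent.Lie.SuzukiSquare
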