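import Mathlib

/-!
# Centraliser of a matrix of prime order with irreducible minimal polynomial
-/

set_option autoImplicit false

namespace Cfsg.Agent.Lie.FieldCentralizer

open Polynomial Matrix

variable {F : Type*} [Field F] [Fintype F] {d : ℕ} {p : ℕ}

theorem minpoly_irreducible [hp : Fact p.Prime] (hd : 0 < d)
    (hpq : ∀ e, p ∣ Fintype.card F ^ e - 1 ↔ d ∣ e) (hpc : (p : F) ≠ 0)
    {M : Matrix (Fin d) (Fin d) F} (hM : M ^ p = 1) (hM1 : M ≠ 1) :
    Irreducible (minpoly F M) ∧ (minpoly F M).natDegree = d := by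
  classical
  haveI : Nonempty (Fin d) := ⟨⟨0, hd⟩⟩
  set q := Fintype.card F with hq
  have hint : IsIntegral F M := Algebra.IsIntegral.isIntegral M
  obtain ⟨P, hP⟩ : ∃ P, P = minpoly F M := ⟨_, rfl⟩
  rw [← hP]
  have hPm : P.Monic := hP ▸ minpoly.monic hint
  have hPM : aeval M P = 0 := hP ▸ minpoly.aeval F M
  have hPdvd : P ∣ X ^ p - 1 := hP ▸ minpoly.dvd F M (by simp [hM])
  have hsep : P.Separable := by
    refine Separable.of_dvd ?_ hPdvd
    rw [show (X : F[X]) ^ p - 1 = X ^ p - C 1 by simp]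
    exact separable_X_pow_sub_C 1 hpc one_ne_zero
  have hPdeg : P.natDegree ≤ d := by
    rw [hP]
    have h := natDegree_le_of_dvd (Matrix.minpoly_dvd_charpoly M) (Matrix.charpoly_monic M).ne_zero
    rwa [Matrix.charpoly_natDegree_eq_dim, Fintype.card_fin] at h
  -- a factor without the root one has degree `d`
  have hbig : ∀ Q : F[X], Irreducible Q → Q ∣ P → Q.eval 1 ≠ 0 → d ≤ Q.natDegree := by
    intro Q hQ hQP hQ1
    haveI := Fact.mk hQ
    have hQd : Q.natDegree ≠ 0 := hQ.natDegree_pos.ne'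
    let b := AdjoinRoot.powerBasis hQ.ne_zero
    haveI : Module.Finite F (AdjoinRoot Q) := b.finite
    haveI : Finite (AdjoinRoot Q) := Module.finite_of_finite F
    haveI : Fintype (AdjoinRoot Q) := Fintype.ofFinite _
    have hcard : Fintype.card (AdjoinRoot Q) = q ^ Q.natDegree := by
      rw [Module.card_eq_pow_finrank (K := F), b.finrank, AdjoinRoot.powerBasis_dim]
    have hl : (AdjoinRoot.root Q) ^ p = 1 := by
      obtain ⟨R, hR⟩ := hQP.trans hPdvd
      have h0 := congrArg (AdjoinRoot.mk Q) hR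
      rwa [map_mul, AdjoinRoot.mk_self, zero_mul, map_sub, map_pow, AdjoinRoot.mk_X, map_one, sub_eq_zero] at h0
    have hl1 : AdjoinRoot.root Q ≠ 1 := fun h => hQ1 (by
      have h0 : aeval (AdjoinRoot.root Q) Q = 0 := by rw [AdjoinRoot.aeval_eq, AdjoinRoot.mk_self]
      rw [h, show (1 : AdjoinRoot Q) = algebraMap F (AdjoinRoot Q) 1 from (map_one _).symm,
        aeval_algebraMap_apply_eq_algebraMap_eval] at h0
      exact (algebraMap F (AdjoinRoot Q)).injective (h0.trans (map_zero _).symm))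
    have ho : orderOf (AdjoinRoot.root Q) = p := orderOf_eq_prime hl hl1
    have h0 : AdjoinRoot.root Q ≠ 0 := fun h => by
      rw [h, zero_pow hp.1.ne_zero] at hl; exact zero_ne_one hl
    have hdvd := orderOf_dvd_of_pow_eq_one (FiniteField.pow_card_sub_one_eq_one _ h0)
    rw [ho, hcard, hpq] at hdvd
    exact Nat.le_of_dvd hQ.natDegree_pos hdvd
  obtain ⟨R, hR, hR1⟩ := exists_eq_pow_rootMultiplicity_mul_and_not_dvd P hPm.ne_zero 1
  have hR0 : R ≠ 0 := fun h => hR1 (h ▸ dvd_zero _)
  by_cases hu : IsUnit R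
  · exfalso
    refine hM1 ?_
    have hk : P.rootMultiplicity 1 ≤ 1 := rootMultiplicity_le_one_of_separable hsep 1
    generalize P.rootMultiplicity 1 = r at hR hk
    have hd1 : P ∣ X - C 1 := by
      rw [hR]
      have h := mul_dvd_mul (pow_dvd_pow (X - C (1 : F)) hk) (isUnit_iff_dvd_one.1 hu)
      rwa [pow_one, mul_one] at h
    obtain ⟨c, hc⟩ := hd1
    have h := congrArg (aeval M) hc
    rw [map_mul, hPM, zero_mul, map_sub, aeval_X, aeval_C, map_one, sub_eq_zero] at h
    exact h
  · obtain ⟨Q, hQ, hQR⟩ := WfDvdMonoid.exists_irreducible_factor hu hR0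
    have hQ1 : Q.eval 1 ≠ 0 := fun h => hR1 ((dvd_iff_isRoot.2 h).trans hQR)
    have hQP : Q ∣ P := hQR.trans (hR ▸ dvd_mul_left R _)
    have hdQ := hbig Q hQ hQP hQ1
    obtain ⟨c, hc⟩ := hQP
    have hc0 : c ≠ 0 := fun h => hPm.ne_zero (by rw [hc, h, mul_zero])
    have hdeg := congrArg natDegree hc
    rw [natDegree_mul hQ.ne_zero hc0] at hdeg
    have hcu : IsUnit c := by
      rw [Polynomial.isUnit_iff_degree_eq_zero, degree_eq_natDegree hc0]
      exact_mod_cast (by omega : c.natDegree = 0)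
    exact ⟨hc ▸ (irreducible_mul_isUnit hcu).2 hQ, by omega⟩

/-- The field spanned by `M`, and what it says about the centraliser of `M` and about conjugates of `M` in it. -/
theorem field_centralizer [hp : Fact p.Prime] (hd : 0 < d)
    (hpq : ∀ e, p ∣ Fintype.card F ^ e - 1 ↔ d ∣ e) (hpc : (p : F) ≠ 0)
    {M : Matrix (Fin d) (Fin d) F} (hM : M ^ p = 1) (hM1 : M ≠ 1) :
    (∀ A B : Matrix (Fin d) (Fin d) F, A * M = M * A → B * M = M * B → A * B = B * A) ∧
    (∀ (H : Type*) [Group H] [Finite H] (ι : H →* Matrix (Fin d) (Fin d) F), Function.Injective ι →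
      (∀ h, ι h * M = M * ι h) → IsCyclic H) ∧
    (∀ N N' : Matrix (Fin d) (Fin d) F, N * N' = 1 → N' * N = 1 → (N * M * N') * M = M * (N * M * N') →
      ∃ j < d, N * M * N' = M ^ (Fintype.card F ^ j)) := by
  classical
  haveI : Nonempty (Fin d) := ⟨⟨0, hd⟩⟩
  set q := Fintype.card F with hq
  set P := minpoly F M with hP
  have hint : IsIntegral F M := Algebra.IsIntegral.isIntegral M
  have hPm : P.Monic := minpoly.monic hint
  obtain ⟨hirr, hdeg⟩ := minpoly_irreducible hd hpq hpc hM hM1
  haveI := Fact.mk hirr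
  let b := AdjoinRoot.powerBasis hPm.ne_zero
  haveI : Module.Finite F (AdjoinRoot P) := b.finite
  haveI : Finite (AdjoinRoot P) := Module.finite_of_finite F
  haveI : Fintype (AdjoinRoot P) := Fintype.ofFinite _
  have hcard : Fintype.card (AdjoinRoot P) = q ^ d := by
    rw [Module.card_eq_pow_finrank (K := F), b.finrank, AdjoinRoot.powerBasis_dim, hdeg]
  let φ : AdjoinRoot P →ₐ[F] Matrix (Fin d) (Fin d) F :=
    Ideal.Quotient.liftₐ (Ideal.span {P}) (aeval M) (fun a ha => by
      obtain ⟨c, rfl⟩ := Ideal.mem_span_singleton.1 ha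
      rw [map_mul, hP, minpoly.aeval, zero_mul])
  have hφroot : φ (AdjoinRoot.root P) = M := by
    show aeval M X = M
    exact aeval_X M
  have hφinj : Function.Injective φ := φ.toRingHom.injective
  -- the module is one-dimensional
  let v : Fin d → F := Pi.single ⟨0, hd⟩ 1
  have hψ : Function.Bijective (fun k : AdjoinRoot P => φ k *ᵥ v) := by
    refine (Fintype.bijective_iff_injective_and_card _).2 ⟨fun a c h => ?_, by
      rw [hcard, Fintype.card_fun, Fintype.card_fin]⟩
    by_contra hac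
    have hk : a - c ≠ 0 := sub_ne_zero.2 hac
    have h0 : φ (a - c) *ᵥ v = 0 := by rw [map_sub, Matrix.sub_mulVec]; exact sub_eq_zero.2 h
    have h1 := congrArg (fun w => φ (a - c)⁻¹ *ᵥ w) h0
    simp only [Matrix.mulVec_mulVec, Matrix.mulVec_zero] at h1
    rw [← map_mul, inv_mul_cancel₀ hk, map_one, Matrix.one_mulVec] at h1
    have := congrFun h1 ⟨0, hd⟩
    simp [v] at this
  have hcomm : ∀ A : Matrix (Fin d) (Fin d) F, A * M = M * A → ∃ k, φ k = A := by
    intro A hA
    obtain ⟨k, hk⟩ := hψ.2 (A *ᵥ v)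
    refine ⟨k, Matrix.ext_iff_mulVec.2 fun w => ?_⟩
    obtain ⟨l, rfl⟩ := hψ.2 w
    have hl : A * φ l = φ l * A := by
      obtain ⟨f, rfl⟩ := Ideal.Quotient.mk_surjective l
      show A * aeval M f = aeval M f * A
      exact Commute.eq (Algebra.commute_of_mem_adjoin_singleton_of_commute
        (aeval_mem_adjoin_singleton F M) hA)
    show φ k *ᵥ (φ l *ᵥ v) = A *ᵥ (φ l *ᵥ v)
    rw [Matrix.mulVec_mulVec, Matrix.mulVec_mulVec, hl, ← Matrix.mulVec_mulVec _ (φ l) A, ← hk, ← map_mul, mul_comm,
      map_mul, Matrix.mulVec_mulVec]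
  refine ⟨fun A B hA hB => ?_, fun H _ _ ι hι hιM => ?_, fun N N' hN hN' hc => ?_⟩
  · obtain ⟨a, rfl⟩ := hcomm A hA
    obtain ⟨c, rfl⟩ := hcomm B hB
    rw [← map_mul, ← map_mul, mul_comm]
  · choose κ hκ using fun h => hcomm (ι h) (hιM h)
    let f : H →* AdjoinRoot P :=
      { toFun := κ
        map_one' := hφinj (by rw [hκ, map_one, map_one])
        map_mul' := fun a c => hφinj (by rw [hκ, map_mul, map_mul, hκ, hκ]) }
    exact isCyclic_of_subgroup_isDomain f fun a c h => hι (by rw [← hκ a, ← hκ c]; exact congrArg φ h)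
  · obtain ⟨k, hk⟩ := hcomm _ hc
    have hpow : ∀ n : ℕ, (N * M * N') ^ n = N * M ^ n * N' := fun n => by
      induction n with
      | zero => rw [pow_zero, pow_zero, mul_one, hN]
      | succ n ih =>
        rw [pow_succ, ih, pow_succ, mul_assoc (N * M ^ n), ← mul_assoc N' (N * M), ← mul_assoc N' N, hN', one_mul]
        simp only [mul_assoc]
    have hk0 : aeval k P = 0 := by
      refine hφinj ?_
      rw [map_zero, ← aeval_algHom_apply, hk, aeval_eq_sum_range]
      simp only [hpow]
      rw [show ∑ i ∈ Finset.range (P.natDegree + 1), P.coeff i • (N * M ^ i * N') =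
        N * (∑ i ∈ Finset.range (P.natDegree + 1), P.coeff i • M ^ i) * N' by
          simp [Finset.mul_sum, Finset.sum_mul], ← aeval_eq_sum_range, hP, minpoly.aeval, mul_zero, zero_mul]
    have hro : orderOf (AdjoinRoot.root P) = p := by
      refine orderOf_eq_prime (hφinj ?_) fun h => hM1 ?_
      · rw [map_pow, hφroot, hM, map_one]
      · rw [← hφroot, h, map_one]
    set rt := AdjoinRoot.root P with hrt
    have hroot : ∀ j : ℕ, aeval (rt ^ q ^ j) P = 0 := by
      intro j
      have h : ((FiniteField.frobeniusAlgHom F (AdjoinRoot P)) ^ j) rt = rt ^ q ^ j := by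
        rw [AlgHom.coe_pow]
        induction j with
        | zero => simp
        | succ j ih => rw [Function.iterate_succ_apply', ih, FiniteField.coe_frobeniusAlgHom]; simp only [← pow_mul, pow_succ]; rfl
      rw [← h, aeval_algHom_apply, AdjoinRoot.aeval_eq, AdjoinRoot.mk_self, map_zero]
    have hdist : ∀ i j, i ≤ j → j < d → rt ^ q ^ i = rt ^ q ^ j → i = j := by
      intro i j hij hj h
      rw [(orderOf_pos_iff.1 (hro ▸ hp.1.pos)).pow_eq_pow_iff_modEq, hro, Nat.modEq_iff_dvd' (Nat.pow_le_pow_right Fintype.card_pos hij)] at h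
      have hpq' : ¬ p ∣ q ^ i := fun h' => by
        have h1 := (hpq d).2 dvd_rfl
        have h2 : p ∣ q ^ d := (hp.1.dvd_of_dvd_pow h').trans (dvd_pow_self q hd.ne')
        have h3 := Nat.dvd_sub h2 h1
        rw [Nat.sub_sub_self (Nat.one_le_pow _ _ Fintype.card_pos)] at h3
        exact hp.1.not_dvd_one h3
      have h4 : q ^ j - q ^ i = q ^ i * (q ^ (j - i) - 1) := by
        rw [Nat.mul_sub, mul_one, ← pow_add, Nat.add_sub_cancel' hij]
      rw [h4] at h
      have h5 := (hpq _).1 ((hp.1.dvd_mul.1 h).resolve_left hpq')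
      have := Nat.eq_zero_of_dvd_of_lt h5 (by omega)
      omega
    set S := (P.map (algebraMap F (AdjoinRoot P))).roots.toFinset with hS
    have hmem : ∀ l, l ∈ S ↔ aeval l P = 0 := fun l => by
      rw [hS, Multiset.mem_toFinset, ← aroots_def, mem_aroots]
      exact and_iff_right hPm.ne_zero
    have himg : (Finset.range d).image (fun j => rt ^ q ^ j) = S := by
      refine Finset.eq_of_subset_of_card_le (fun l hl => ?_) ?_
      · obtain ⟨j, -, rfl⟩ := Finset.mem_image.1 hl
        exact (hmem _).2 (hroot j)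
      · rw [Finset.card_image_of_injOn, Finset.card_range]
        · refine (Multiset.toFinset_card_le _).trans ((card_roots' _).trans ?_)
          rw [natDegree_map, hdeg]
        · intro i hi j hj h
          rcases le_total i j with hij | hij
          · exact hdist i j hij (Finset.mem_range.1 hj) h
          · exact (hdist j i hij (Finset.mem_range.1 hi) h.symm).symm
    obtain ⟨j, hj, hkj⟩ := Finset.mem_image.1 (himg ▸ (hmem k).2 hk0)
    exact ⟨j, Finset.mem_range.1 hj, by rw [← hk, ← hkj, map_pow, hφroot]⟩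

end Cfsg.Agent.Lie.FieldCentralizer
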