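import Cfsg.Agent.Lib.Lie.SuzukiSylow
import Cfsg.Agent.Lib.Lie.FieldCentralizer

/-!
# The cyclic tori of the Suzuki groups
-/

set_option autoImplicit false

namespace Cfsg.Agent.Lie.Suzuki

open MulAction

variable {F : Type*} [Field F] {m : ℕ} [Fintype F] (hF : Fintype.card F = 2 ^ (2 * m + 1)) (hm : 1 ≤ m)
include hF hm

theorem card_points : Nat.card (Cfsg.suzukiOvoid F m) = Fintype.card F ^ 2 + 1 := card_ovoid m

theorem two_point_cyclic {a b : Cfsg.suzukiOvoid F m} (hab : a ≠ b) :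
    ∃ f : ↥(stabilizer (Cfsg.Sz F m) a ⊓ stabilizer (Cfsg.Sz F m) b) →* Fˣ, Function.Injective f := by
  haveI := sz_two_pretransitive (m := m) hF
  have hne : (⟨_, inf_mem⟩ : Cfsg.suzukiOvoid F m) ≠ ⟨_, pt_mem (0 : F) 0⟩ :=
    fun h => pt_ne_inf 0 0 (congrArg Subtype.val h).symm
  obtain ⟨g, ga, gb⟩ := MulAction.is_two_pretransitive_iff.1 (sz_two_pretransitive (m := m) hF) hab hne
  have key : ∀ h : ↥(stabilizer (Cfsg.Sz F m) a ⊓ stabilizer (Cfsg.Sz F m) b),
      ∃ k : Fˣ, g * (h : Cfsg.Sz F m) * g⁻¹ = dS hF k := by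
    intro h
    obtain ⟨h1, h2⟩ := Subgroup.mem_inf.1 h.2
    suffices h' : (g * (h : Cfsg.Sz F m) * g⁻¹) • Cfsg.suzukiPointInfinity F = Cfsg.suzukiPointInfinity F ∧
        (g * (h : Cfsg.Sz F m) * g⁻¹) • pt m (0 : F) 0 = pt m 0 0 by
      obtain ⟨k, hk⟩ := two_point hF hm (g * (h : Cfsg.Sz F m) * g⁻¹).2 h'.1 h'.2
      exact ⟨k, Subtype.ext hk⟩
    refine ⟨?_, ?_⟩
    · have : (g * (h : Cfsg.Sz F m) * g⁻¹) • (⟨_, inf_mem⟩ : Cfsg.suzukiOvoid F m) = ⟨_, inf_mem⟩ := by
        rw [← ga, mul_smul, mul_smul, inv_smul_smul, mem_stabilizer_iff.1 h1]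
      exact congrArg Subtype.val this
    · have : (g * (h : Cfsg.Sz F m) * g⁻¹) • (⟨_, pt_mem (0 : F) 0⟩ : Cfsg.suzukiOvoid F m) = ⟨_, pt_mem (0 : F) 0⟩ := by
        rw [← gb, mul_smul, mul_smul, inv_smul_smul, mem_stabilizer_iff.1 h2]
      exact congrArg Subtype.val this
  choose κ hκ using key
  have hinj : Function.Injective (dS (m := m) hF) := fun k l h => dM_injective (congrArg Subtype.val h)
  refine ⟨{ toFun := κ, map_one' := hinj ?_, map_mul' := fun x y => hinj ?_ }, fun x y h => Subtype.ext ?_⟩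
  · rw [← hκ, map_one, OneMemClass.coe_one, mul_one, mul_inv_cancel]
  · rw [← hκ, map_mul, ← hκ, ← hκ, Subgroup.coe_mul, conj_mul]
  · have := congrArg (dS (m := m) hF) h
    change dS hF (κ x) = dS hF (κ y) at this
    rw [← hκ, ← hκ] at this
    exact mul_left_cancel (mul_right_cancel this)

/-- Arithmetic of `q`. -/
theorem q_facts : 8 ≤ Fintype.card F ∧ Even (Fintype.card F) ∧ ¬ 3 ∣ Fintype.card F ^ 2 + 1 ∧
    ∀ p : ℕ, p.Prime → p ∣ Fintype.card F ^ 2 + 1 →
      p ≠ 2 ∧ ¬ p ∣ Fintype.card F ∧ ¬ p ∣ Fintype.card F - 1 ∧ ¬ p ∣ Fintype.card F + 1 := by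
  set q := Fintype.card F with hq
  have he : Even q := by rw [hF, pow_succ]; exact even_two.mul_left _
  refine ⟨?_, he, ?_, fun p hp hd => ?_⟩
  · rw [hF]
    calc 8 = 2 ^ 3 := rfl
      _ ≤ 2 ^ (2 * m + 1) := Nat.pow_le_pow_right (by norm_num) (by omega)
  · intro h
    have h1 : q ^ 2 % 3 ≠ 2 := by
      rw [Nat.pow_mod]
      have := Nat.mod_lt q (by norm_num : 3 > 0)
      interval_cases q % 3 <;> simp
    omega
  have hpq : ¬ p ∣ q := fun h => by
    have := Nat.dvd_sub hd (h.trans (dvd_pow_self q two_ne_zero))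
    rw [Nat.add_sub_cancel_left] at this
    exact hp.not_dvd_one this
  have h2 : p ≠ 2 := fun h => by
    subst h
    exact hpq he.two_dvd
  have key : ¬ p ∣ q ^ 2 - 1 := fun h => by
    have h1 := Nat.dvd_sub hd h
    have h2' : q ^ 2 + 1 - (q ^ 2 - 1) = 2 := by
      have : 1 ≤ q ^ 2 := Nat.one_le_pow _ _ Fintype.card_pos
      omega
    rw [h2'] at h1
    exact h2 ((Nat.prime_dvd_prime_iff_eq hp Nat.prime_two).1 h1)
  have hfac : q ^ 2 - 1 = (q + 1) * (q - 1) := by
    rw [← Nat.sq_sub_sq, one_pow]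
  exact ⟨h2, hpq, fun h => key (hfac ▸ h.mul_left _), fun h => key (hfac ▸ h.mul_right _)⟩

theorem order_four {p : ℕ} (hp : p.Prime) (hd : p ∣ Fintype.card F ^ 2 + 1) :
    (∀ e, p ∣ Fintype.card F ^ e - 1 ↔ 4 ∣ e) ∧ (p : F) ≠ 0 := by
  haveI := Fact.mk hp
  haveI := charTwo hF
  obtain ⟨h2, hpq, h1, h1'⟩ := (q_facts hF hm).2.2.2 p hp hd
  set q := Fintype.card F with hq
  have hq1 : 1 ≤ q := Fintype.card_pos
  have hz : (q : ZMod p) ^ 2 = -1 := by
    have h := ((ZMod.natCast_eq_zero_iff _ _)).2 hd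
    push_cast at h
    linear_combination h
  refine ⟨fun e => ?_, fun h => ?_⟩
  · have ho : orderOf (q : ZMod p) = 2 ^ (1 + 1) := by
      refine orderOf_eq_prime_pow ?_ ?_
      · rw [pow_one, hz]
        intro h
        have h' : ((2 : ℕ) : ZMod p) = 0 := by push_cast; linear_combination -h
        rw [(ZMod.natCast_eq_zero_iff _ _)] at h'
        exact h2 ((Nat.prime_dvd_prime_iff_eq hp Nat.prime_two).1 h')
      · rw [show (2 : ℕ) ^ (1 + 1) = 2 * 2 from rfl, pow_mul, hz]; ring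
    rw [show (4 : ℕ) = 2 ^ (1 + 1) from rfl, ← ho, orderOf_dvd_iff_pow_eq_one, ← (ZMod.natCast_eq_zero_iff _ _),
      Nat.cast_sub (Nat.one_le_pow _ _ hq1), sub_eq_zero]
    push_cast
    rfl
  · rw [CharP.cast_eq_zero_iff F 2] at h
    exact h2 ((Nat.prime_dvd_prime_iff_eq Nat.prime_two hp).1 h).symm

theorem fixedBy_card_le (g : Cfsg.Sz F m) (hg : g ≠ 1) : (fixedBy (Cfsg.suzukiOvoid F m) g).ncard ≤ 2 := by
  by_contra h
  push Not at h
  obtain ⟨a, b, c, ha, hb, hc, hab, hac, hbc⟩ := (Set.two_lt_ncard_iff (Set.toFinite _)).1 h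
  exact hg ((zassenhaus hF hm).2.2.1 g a b c hab hbc hac ha hb hc)

/-- An element of prime order prime to `q² + 1` fixes a point. -/
theorem exists_fixed {y : Cfsg.Sz F m} {r : ℕ} (hr : r.Prime) (hy : orderOf y = r)
    (hn : ¬ r ∣ Fintype.card F ^ 2 + 1) : ∃ a : Cfsg.suzukiOvoid F m, y • a = a := by
  haveI := Fact.mk hr
  haveI : Finite (Cfsg.suzukiOvoid F m) := inferInstance
  have hp : IsPGroup r (Subgroup.zpowers y) := IsPGroup.of_card (n := 1) (by rw [Nat.card_zpowers, hy, pow_one])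
  obtain ⟨a, ha⟩ := hp.nonempty_fixed_point_of_prime_not_dvd_card (Cfsg.suzukiOvoid F m) (by rwa [card_points hF hm])
  exact ⟨a, ha ⟨y, Subgroup.mem_zpowers y⟩⟩

/-- An involution fixes exactly one point. -/
theorem involution_fixed {z : Cfsg.Sz F m} (hz : orderOf z = 2) :
    ∃ a : Cfsg.suzukiOvoid F m, z • a = a ∧ ∀ b, z • b = b → b = a := by
  obtain ⟨h8, he, -⟩ := q_facts hF hm
  obtain ⟨a, ha⟩ := exists_fixed hF hm Nat.prime_two hz (fun h => by
    have : Even (Fintype.card F ^ 2) := he.pow_of_ne_zero two_ne_zero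
    rw [← even_iff_two_dvd, Nat.even_add_one] at h
    exact h this)
  refine ⟨a, ha, fun b hb => ?_⟩
  by_contra hne
  obtain ⟨f, hf⟩ := two_point_cyclic hF hm (Ne.symm hne)
  let z' : ↥(stabilizer (Cfsg.Sz F m) a ⊓ stabilizer (Cfsg.Sz F m) b) := ⟨z, Subgroup.mem_inf.2 ⟨mem_stabilizer_iff.2 ha, mem_stabilizer_iff.2 hb⟩⟩
  have h1 : orderOf (f z') = 2 := by
    rw [orderOf_injective f hf, ← Subgroup.orderOf_coe, ← hz]
  have h2 : 2 ∣ Fintype.card F - 1 := by
    classical
    rw [← Fintype.card_units, ← h1]; exact orderOf_dvd_card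
  obtain ⟨r, hr⟩ := he
  omega

/-- An element commuting with one that has a fixed point and is nontrivial has a fixed point. -/
theorem fixed_of_commute {g y : Cfsg.Sz F m} (hy : y ≠ 1) (hc : g * y = y * g)
    {a : Cfsg.suzukiOvoid F m} (ha : y • a = a) : ∃ b : Cfsg.suzukiOvoid F m, g • b = b := by
  by_cases he : 2 ∣ orderOf g
  · have hpos := orderOf_pos g
    have h2 : orderOf (g ^ (orderOf g / 2)) = 2 := orderOf_pow_orderOf_div hpos.ne' he
    obtain ⟨b, hb, hu⟩ := involution_fixed hF hm h2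
    refine ⟨b, hu _ ?_⟩
    rw [← mul_smul, ← (Commute.self_pow g _).eq, mul_smul, hb]
  · have hmem : ∀ b : Cfsg.suzukiOvoid F m, y • b = b → y • (g • b) = g • b := fun b hb => by
      rw [← mul_smul, ← hc, mul_smul, hb]
    have h2 : (fun b => g • b) ((fun b => g • b) a) = a := by
      by_contra hne
      have h1 : g • a ≠ a := fun h => hne (by simp only [h])
      have hsub : ({a, g • a, g • g • a} : Set _) ⊆ fixedBy (Cfsg.suzukiOvoid F m) y := by
        rintro b (rfl | rfl | rfl)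
        · exact ha
        · exact hmem _ ha
        · exact hmem _ (hmem _ ha)
      have h3 := Set.ncard_le_ncard hsub (Set.toFinite _)
      have h4 := fixedBy_card_le hF hm y hy
      rw [Set.ncard_insert_of_notMem (by
        rintro (h | h)
        · exact h1 h.symm
        · exact hne h.symm),
        Set.ncard_pair (fun h => h1 (smul_left_cancel g h.symm))] at h3
      omega
    refine ⟨a, ?_⟩
    obtain ⟨j, hj⟩ := (Nat.odd_iff.2 (by omega : orderOf g % 2 = 1) : Odd (orderOf g))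
    have h5 : ∀ i : ℕ, g ^ (2 * i) • a = a := fun i => by
      induction i with
      | zero => simp
      | succ i ih => rw [mul_add, pow_add, mul_smul, show g ^ (2 * 1) • a = a by rw [mul_one, pow_two, mul_smul]; exact h2, ih]
    have h6 : g ^ (2 * (j + 1)) = g := by
      rw [show 2 * (j + 1) = orderOf g + 1 by omega, pow_succ, pow_orderOf_eq_one, one_mul]
    conv_lhs => rw [← h6]
    exact h5 _

/-- An element with no fixed point has all prime divisors of its order dividing `q² + 1`. -/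
theorem prime_dvd_of_fpf {g : Cfsg.Sz F m} (hg : ∀ a : Cfsg.suzukiOvoid F m, g • a ≠ a) {r : ℕ} (hr : r.Prime)
    (hd : r ∣ orderOf g) : r ∣ Fintype.card F ^ 2 + 1 := by
  by_contra hn
  have ho : orderOf (g ^ (orderOf g / r)) = r := orderOf_pow_orderOf_div (orderOf_pos g).ne' hd
  obtain ⟨a, ha⟩ := exists_fixed hF hm hr ho hn
  obtain ⟨b, hb⟩ := fixed_of_commute hF hm (fun h => by rw [h, orderOf_one] at ho; exact hr.ne_one ho.symm)
    (Commute.self_pow g _).eq ha
  exact hg b hb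

/-- The centraliser of an element whose order is a prime divisor of `q² + 1`. -/
theorem torus {p : ℕ} (hp : p.Prime) (hd : p ∣ Fintype.card F ^ 2 + 1) {x : Cfsg.Sz F m} (hx : orderOf x = p) :
    IsCyclic (Subgroup.centralizer ({x} : Set (Cfsg.Sz F m))) ∧
      (∀ g ∈ Subgroup.centralizer ({x} : Set (Cfsg.Sz F m)), g ≠ 1 → ∀ a : Cfsg.suzukiOvoid F m, g • a ≠ a) ∧
      Nat.card (Subgroup.centralizer ({x} : Set (Cfsg.Sz F m))) ∣ Fintype.card F ^ 2 + 1 ∧
      ∀ N : Cfsg.Sz F m, N * x * N⁻¹ ∈ Subgroup.centralizer ({x} : Set (Cfsg.Sz F m)) →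
        ∃ j < 4, N * x * N⁻¹ = x ^ (Fintype.card F ^ j) := by
  haveI := Fact.mk hp
  obtain ⟨hpq, hpc⟩ := order_four hF hm hp hd
  obtain ⟨h2, hpq0, hpq1, -⟩ := (q_facts hF hm).2.2.2 p hp hd
  let ι : Cfsg.Sz F m →* Matrix (Fin 4) (Fin 4) F :=
    { toFun := fun g => ((g : Matrix.SpecialLinearGroup (Fin 4) F) : Matrix (Fin 4) (Fin 4) F)
      map_one' := rfl
      map_mul' := fun _ _ => rfl }
  have hι : Function.Injective ι := fun a b h => Subtype.ext (Subtype.ext h)
  have hx1 : x ≠ 1 := fun h => by rw [h, orderOf_one] at hx; exact hp.ne_one hx.symm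
  obtain ⟨-, hcyc, hconj⟩ := FieldCentralizer.field_centralizer (F := F) (d := 4) (p := p) (by norm_num) hpq hpc
    (M := ι x) (by rw [← map_pow, ← hx, pow_orderOf_eq_one, map_one]) (fun h => hx1 (hι (h.trans (map_one ι).symm)))
  set U := Subgroup.centralizer ({x} : Set (Cfsg.Sz F m)) with hU
  have hxU : x ∈ U := Subgroup.mem_centralizer_singleton_iff.2 rfl
  have hUx : ∀ g ∈ U, ι g * ι x = ι x * ι g := fun g hg => by
    rw [← map_mul, ← map_mul, Subgroup.mem_centralizer_singleton_iff.1 hg]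
  have hfpf : ∀ g ∈ U, g ≠ 1 → ∀ a : Cfsg.suzukiOvoid F m, g • a ≠ a := by
    intro g hg hg1 a ha
    obtain ⟨b, hb⟩ := fixed_of_commute hF hm hg1 (Subgroup.mem_centralizer_singleton_iff.1 hg).symm ha
    have h1 : orderOf (⟨x, mem_stabilizer_iff.2 hb⟩ : stabilizer (Cfsg.Sz F m) b) ∣ Nat.card (stabilizer (Cfsg.Sz F m) b) :=
      orderOf_dvd_natCard _
    rw [Subgroup.orderOf_mk, hx] at h1
    haveI := sz_pretransitive (m := m) hF
    have e := (stabilizer (Cfsg.Sz F m) b).index_mul_card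
    rw [index_stabilizer_of_transitive, card_points hF hm, card_sz hF hm] at e
    have e' : Nat.card (stabilizer (Cfsg.Sz F m) b) = Fintype.card F ^ 2 * (Fintype.card F - 1) :=
      Nat.eq_of_mul_eq_mul_left (by positivity) (e.trans (by ring))
    rw [e'] at h1
    rcases hp.dvd_mul.1 h1 with h | h
    · exact hpq0 (hp.dvd_of_dvd_pow h)
    · exact hpq1 h
  refine ⟨hcyc U (ι.comp U.subtype) (hι.comp Subtype.val_injective) fun h => hUx h h.2, hfpf, ?_, fun N hN => ?_⟩
  · have hst : ∀ a : Cfsg.suzukiOvoid F m, stabilizer U a = ⊥ := fun a => by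
      rw [Subgroup.eq_bot_iff_forall]
      intro g hg
      by_contra hg1
      exact hfpf g g.2 (fun h => hg1 (Subtype.ext h)) a hg
    rw [← card_points hF hm, Nat.card_congr (selfEquivSigmaOrbits U (Cfsg.suzukiOvoid F m))]
    haveI : Fintype (orbitRel.Quotient U (Cfsg.suzukiOvoid F m)) := Fintype.ofFinite _
    rw [Nat.card_sigma]
    refine Finset.dvd_sum fun ω _ => dvd_of_eq ?_
    rw [Nat.card_congr (orbitEquivQuotientStabilizer U ω.out), hst, Nat.card_congr QuotientGroup.quotientBot.toEquiv]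
  · obtain ⟨j, hj, h⟩ := hconj (ι N) (ι N⁻¹) (by rw [← map_mul, mul_inv_cancel, map_one])
      (by rw [← map_mul, inv_mul_cancel, map_one])
      (by rw [← map_mul, ← map_mul, ← map_mul, ← map_mul, Subgroup.mem_centralizer_singleton_iff.1 hN])
    exact ⟨j, hj, hι (by rw [map_mul, map_mul, map_pow, h])⟩

theorem eq_torus {p : ℕ} (hp : p.Prime) (hd : p ∣ Fintype.card F ^ 2 + 1) {x : Cfsg.Sz F m} (hx : orderOf x = p)
    {g : Cfsg.Sz F m} (hg : g ∈ Subgroup.centralizer ({x} : Set (Cfsg.Sz F m))) (hg1 : g ≠ 1) :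
    Subgroup.centralizer ({g} : Set (Cfsg.Sz F m)) = Subgroup.centralizer ({x} : Set (Cfsg.Sz F m)) := by
  obtain ⟨hc, hfpf, hdvd, -⟩ := torus hF hm hp hd hx
  obtain ⟨r, hr, hrd⟩ := Nat.exists_prime_and_dvd (fun h => hg1 (orderOf_eq_one_iff.1 h))
  have hrn := prime_dvd_of_fpf hF hm (hfpf g hg hg1) hr hrd
  have hy := orderOf_pow_orderOf_div (orderOf_pos g).ne' hrd
  obtain ⟨hc', -, -, -⟩ := torus hF hm hr hrn hy
  set U := Subgroup.centralizer ({x} : Set (Cfsg.Sz F m))
  set y := g ^ (orderOf g / r)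
  have hcomm : ∀ a ∈ U, ∀ b ∈ U, a * b = b * a := fun a ha b hb =>
    congrArg Subtype.val (hc.commGroup.mul_comm ⟨a, ha⟩ ⟨b, hb⟩)
  refine le_antisymm (fun c hcm => ?_) fun c hcm => Subgroup.mem_centralizer_singleton_iff.2 (hcomm c hcm g hg)
  have hy' : ∀ c : Cfsg.Sz F m, c * g = g * c → c ∈ Subgroup.centralizer ({y} : Set (Cfsg.Sz F m)) := fun c hc =>
    Subgroup.mem_centralizer_singleton_iff.2 ((show Commute c g from hc).pow_right _).eq
  have h1 := hy' c (Subgroup.mem_centralizer_singleton_iff.1 hcm)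
  have h2 := hy' x (Subgroup.mem_centralizer_singleton_iff.1 hg).symm
  exact Subgroup.mem_centralizer_singleton_iff.2 (congrArg Subtype.val (hc'.commGroup.mul_comm ⟨c, h1⟩ ⟨x, h2⟩))

theorem sylow_cyclic {p : ℕ} [hp : Fact p.Prime] (hp2 : p ≠ 2) (P : Sylow p (Cfsg.Sz F m)) :
    IsCyclic (P : Subgroup (Cfsg.Sz F m)) := by
  by_cases hP : (P : Subgroup (Cfsg.Sz F m)) = ⊥
  · rw [hP]; infer_instance
  haveI : Nontrivial (P : Subgroup (Cfsg.Sz F m)) := (Subgroup.nontrivial_iff_ne_bot _).2 hP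
  by_cases hd : p ∣ Fintype.card F ^ 2 + 1
  · haveI := P.2.center_nontrivial
    obtain ⟨n, hn⟩ := IsPGroup.iff_card.1 (P.2.to_subgroup (Subgroup.center (P : Subgroup (Cfsg.Sz F m))))
    have hn0 : n ≠ 0 := fun h => by
      rw [h, pow_zero] at hn
      exact (Finite.one_lt_card (α := Subgroup.center (P : Subgroup (Cfsg.Sz F m)))).ne' hn
    obtain ⟨z, hz⟩ := exists_prime_orderOf_dvd_card' (G := Subgroup.center (P : Subgroup (Cfsg.Sz F m))) p
      (hn ▸ dvd_pow_self p hn0)
    have ho : orderOf ((z : (P : Subgroup (Cfsg.Sz F m))) : Cfsg.Sz F m) = p := by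
      rw [Subgroup.orderOf_coe, Subgroup.orderOf_coe, hz]
    obtain ⟨hc, -⟩ := torus hF hm hp.1 hd ho
    have hle : (P : Subgroup (Cfsg.Sz F m)) ≤
        Subgroup.centralizer ({((z : (P : Subgroup (Cfsg.Sz F m))) : Cfsg.Sz F m)} : Set (Cfsg.Sz F m)) :=
      fun a ha => Subgroup.mem_centralizer_singleton_iff.2
        (congrArg Subtype.val (Subgroup.mem_center_iff.1 z.2 ⟨a, ha⟩))
    exact isCyclic_of_injective (Subgroup.inclusion hle) (Subgroup.inclusion_injective hle)
  · obtain ⟨a, ha⟩ := P.2.nonempty_fixed_point_of_prime_not_dvd_card (Cfsg.suzukiOvoid F m)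
      (by rwa [card_points hF hm])
    obtain ⟨b, hb, hab⟩ : ∃ b ∈ fixedPoints (P : Subgroup (Cfsg.Sz F m)) (Cfsg.suzukiOvoid F m), a ≠ b := by
      by_contra hno
      push Not at hno
      have hone : fixedPoints (P : Subgroup (Cfsg.Sz F m)) (Cfsg.suzukiOvoid F m) = {a} := by
        ext b
        exact ⟨fun h => (hno b h).symm, fun h => by rw [Set.mem_singleton_iff.1 h]; exact ha⟩
      have hmod := P.2.card_modEq_card_fixedPoints (Cfsg.suzukiOvoid F m)
      rw [card_points hF hm, hone, Nat.card_coe_set_eq, Set.ncard_singleton] at hmod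
      have hd' := (Nat.modEq_iff_dvd' (by omega)).1 hmod.symm
      rw [Nat.add_sub_cancel] at hd'
      have h := hp.1.dvd_of_dvd_pow hd'
      rw [hF] at h
      exact hp2 ((Nat.prime_dvd_prime_iff_eq hp.1 Nat.prime_two).1 (hp.1.dvd_of_dvd_pow h))
    have hle : (P : Subgroup (Cfsg.Sz F m)) ≤ stabilizer (Cfsg.Sz F m) a ⊓ stabilizer (Cfsg.Sz F m) b :=
      fun g hg => ⟨ha ⟨g, hg⟩, hb ⟨g, hg⟩⟩
    obtain ⟨f, hf⟩ := two_point_cyclic hF hm hab
    exact isCyclic_of_subgroup_isDomain ((Units.coeHom F).comp (f.comp (Subgroup.inclusion hle)))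
      (Units.val_injective.comp (hf.comp (Subgroup.inclusion_injective hle)))

theorem isCN : Cfsg.IsCNGroup (Cfsg.Sz F m) := by
  intro g hg1
  set C := Subgroup.centralizer ({g} : Set (Cfsg.Sz F m)) with hC
  by_cases hfix : ∀ a : Cfsg.suzukiOvoid F m, g • a ≠ a
  · obtain ⟨r, hr, hrd⟩ := Nat.exists_prime_and_dvd (fun h => hg1 (orderOf_eq_one_iff.1 h))
    have hrn := prime_dvd_of_fpf hF hm hfix hr hrd
    have hy := orderOf_pow_orderOf_div (orderOf_pos g).ne' hrd
    obtain ⟨hc, -⟩ := torus hF hm hr hrn hy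
    have hgU : g ∈ Subgroup.centralizer ({g ^ (orderOf g / r)} : Set (Cfsg.Sz F m)) :=
      Subgroup.mem_centralizer_singleton_iff.2 (Commute.self_pow g _).eq
    rw [hC, eq_torus hF hm hr hrn hy hgU hg1]
    letI := hc.commGroup
    infer_instance
  push Not at hfix
  obtain ⟨a, ha⟩ := hfix
  haveI : Fact (Nat.Prime 2) := ⟨Nat.prime_two⟩
  have hmem : ∀ c ∈ C, ∀ b : Cfsg.suzukiOvoid F m, g • b = b → g • (c • b) = c • b := fun c hc b hb => by
    rw [← mul_smul, ← Subgroup.mem_centralizer_singleton_iff.1 hc, mul_smul, hb]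
  by_cases hone : ∀ b : Cfsg.suzukiOvoid F m, g • b = b → b = a
  · -- one fixed point: a two-group
    have h2 : IsPGroup 2 C := by
      rw [IsPGroup.iff_card]
      refine ⟨(Nat.card C).primeFactorsList.length, Nat.eq_prime_pow_of_unique_prime_dvd Nat.card_pos.ne' ?_⟩
      intro r hr hrd
      by_contra hr2
      haveI := Fact.mk hr
      obtain ⟨y, hy⟩ := exists_prime_orderOf_dvd_card' r hrd
      have hy' : orderOf (y : Cfsg.Sz F m) = r := by rw [Subgroup.orderOf_coe, hy]
      have hya : (y : Cfsg.Sz F m) • a = a := hone _ (hmem _ y.2 a ha)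
      have hP : IsPGroup r (Subgroup.zpowers (y : Cfsg.Sz F m)) :=
        IsPGroup.of_card (n := 1) (by rw [Nat.card_zpowers, hy', pow_one])
      obtain ⟨b, hb, hba⟩ : ∃ b : Cfsg.suzukiOvoid F m, (y : Cfsg.Sz F m) • b = b ∧ b ≠ a := by
        by_contra hno
        push Not at hno
        have hfx : fixedPoints (Subgroup.zpowers (y : Cfsg.Sz F m)) (Cfsg.suzukiOvoid F m) = {a} := by
          ext b
          refine ⟨fun h => hno b (h ⟨_, Subgroup.mem_zpowers _⟩), fun h => ?_⟩
          rw [Set.mem_singleton_iff.1 h]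
          rintro ⟨w, j, rfl⟩
          exact (Subgroup.zpow_mem (stabilizer (Cfsg.Sz F m) a) (mem_stabilizer_iff.2 hya) j)
        have hmod := hP.card_modEq_card_fixedPoints (Cfsg.suzukiOvoid F m)
        rw [card_points hF hm, hfx, Nat.card_coe_set_eq, Set.ncard_singleton] at hmod
        have hd' := (Nat.modEq_iff_dvd' (by omega)).1 hmod.symm
        rw [Nat.add_sub_cancel] at hd'
        have h := hr.dvd_of_dvd_pow hd'
        rw [hF] at h
        exact hr2 ((Nat.prime_dvd_prime_iff_eq hr Nat.prime_two).1 (hr.dvd_of_dvd_pow h))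
      have hy1 : (y : Cfsg.Sz F m) ≠ 1 := fun h => by rw [h, orderOf_one] at hy'; exact hr.ne_one hy'.symm
      have hc := Subgroup.mem_centralizer_singleton_iff.1 y.2
      have hgb : (y : Cfsg.Sz F m) • (g • b) = g • b := by rw [← mul_smul, hc, mul_smul, hb]
      have hgne : g • b ≠ a := fun h => hba (smul_left_cancel g (h.trans ha.symm))
      have hgbne : g • b ≠ b := fun h => hba (hone b h)
      have hle := fixedBy_card_le hF hm _ hy1
      have hsub : ({a, b, g • b} : Set _) ⊆ fixedBy (Cfsg.suzukiOvoid F m) (y : Cfsg.Sz F m) := by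
        rintro w (rfl | rfl | rfl)
        exacts [hya, hb, hgb]
      have h3 := Set.ncard_le_ncard hsub (Set.toFinite _)
      rw [Set.ncard_insert_of_notMem (by
        rintro (h | h)
        · exact hba h.symm
        · exact hgne h.symm), Set.ncard_pair hgbne.symm] at h3
      omega
    exact h2.isNilpotent
  · push Not at hone
    obtain ⟨b, hb, hba⟩ := hone
    have honly : ∀ w : Cfsg.suzukiOvoid F m, g • w = w → w = a ∨ w = b := by
      intro w hw
      by_contra h
      push Not at h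
      exact hg1 ((zassenhaus hF hm).2.2.1 g a b w hba.symm h.2.symm h.1.symm ha hb hw)
    have hle : C ≤ stabilizer (Cfsg.Sz F m) a ⊓ stabilizer (Cfsg.Sz F m) b := by
      intro c hc
      by_cases hca : c • a = a
      · refine ⟨hca, (honly _ (hmem c hc b hb)).resolve_left fun h => hba ?_⟩
        exact smul_left_cancel c (h.trans hca.symm)
      exfalso
      have hcab : c • a = b := (honly _ (hmem c hc a ha)).resolve_left hca
      have hcb : c • b = a := (honly _ (hmem c hc b hb)).resolve_right fun h =>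
        hba (smul_left_cancel c (hcab.trans h.symm)).symm
      have h2 : 2 ∣ orderOf c := by
        by_contra hodd
        obtain ⟨j, hj⟩ := (Nat.odd_iff.2 (by omega : orderOf c % 2 = 1) : Odd (orderOf c))
        have h5 : ∀ i : ℕ, c ^ (2 * i) • a = a := fun i => by
          induction i with
          | zero => simp
          | succ i ih => rw [mul_add, pow_add, mul_smul,
              show c ^ (2 * 1) • a = a by rw [mul_one, pow_two, mul_smul, hcab, hcb], ih]
        refine hca ?_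
        conv_lhs => rw [← (show c ^ (2 * (j + 1)) = c by
          rw [show 2 * (j + 1) = orderOf c + 1 by omega, pow_succ, pow_orderOf_eq_one, one_mul])]
        exact h5 _
      obtain ⟨d, hd, hu⟩ := involution_fixed hF hm (orderOf_pow_orderOf_div (orderOf_pos c).ne' h2)
      set z := c ^ (orderOf c / 2)
      have hzC : z ∈ C := pow_mem hc _
      have hgd : g • d = d := hu _ (by
        rw [← mul_smul, Subgroup.mem_centralizer_singleton_iff.1 hzC, mul_smul, hd])
      have hcd : c • d = d := hu _ (by rw [← mul_smul, ← (Commute.self_pow c _).eq, mul_smul, hd])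
      rcases honly d hgd with rfl | rfl
      · exact hca hcd
      · exact hba (hcd.symm.trans hcb)
    obtain ⟨f, hf⟩ := two_point_cyclic hF hm hba.symm
    haveI hcy : IsCyclic C := isCyclic_of_subgroup_isDomain ((Units.coeHom F).comp (f.comp (Subgroup.inclusion hle)))
      (Units.val_injective.comp (hf.comp (Subgroup.inclusion_injective hle)))
    letI := hcy.commGroup
    infer_instance

/-- Twice the number of fixed-point-free elements. -/
theorem fpf_count [Fintype (Cfsg.Sz F m)] [DecidablePred fun g : Cfsg.Sz F m => ∀ a : Cfsg.suzukiOvoid F m, g • a ≠ a] :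
    2 * (Finset.univ.filter fun g : Cfsg.Sz F m => ∀ a : Cfsg.suzukiOvoid F m, g • a ≠ a).card =
      Fintype.card F ^ 3 * (Fintype.card F - 1) ^ 2 := by
  classical
  set Ω := Cfsg.suzukiOvoid F m
  haveI : Fintype Ω := Fintype.ofFinite _
  haveI := sz_pretransitive (m := m) hF
  have h2t : ∀ a b c d : Ω, a ≠ b → c ≠ d → ∃ g : Cfsg.Sz F m, g • a = c ∧ g • b = d := fun a b c d h h' =>
    MulAction.is_two_pretransitive_iff.1 (sz_two_pretransitive (m := m) hF) h h'
  let f : Cfsg.Sz F m → ℕ := fun g => Fintype.card (fixedBy Ω g)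
  have hne : (⟨_, inf_mem⟩ : Ω) ≠ ⟨_, pt_mem (0 : F) 0⟩ :=
    fun h => pt_ne_inf 0 0 (congrArg Subtype.val h).symm
  set a₀ : Ω := ⟨_, inf_mem⟩
  set b₀ : Ω := ⟨_, pt_mem (0 : F) 0⟩
  have s1 : ∑ g : Cfsg.Sz F m, f g = Fintype.card (Cfsg.Sz F m) := by
    rw [sum_card_fixedBy_eq_card_orbits_mul_card_group]
    haveI := (MulAction.pretransitive_iff_subsingleton_quotient (Cfsg.Sz F m) Ω).1 inferInstance
    rw [Fintype.card_eq_one_iff_nonempty_unique.2, one_mul]
    · exact ⟨uniqueOfSubsingleton (Quotient.mk'' a₀)⟩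
  have s2 : ∑ g : Cfsg.Sz F m, f g * f g = 2 * Fintype.card (Cfsg.Sz F m) := by
    have e : ∀ g : Cfsg.Sz F m, f g * f g = Fintype.card (fixedBy (Ω × Ω) g) := fun g => by
      rw [← Fintype.card_prod]
      exact Fintype.card_congr ⟨fun z => ⟨(z.1.1, z.2.1), Prod.ext z.1.2 z.2.2⟩,
        fun z => (⟨z.1.1, congrArg Prod.fst z.2⟩, ⟨z.1.2, congrArg Prod.snd z.2⟩), fun z => rfl, fun z => rfl⟩
    simp only [e]
    rw [sum_card_fixedBy_eq_card_orbits_mul_card_group]
    congr 1
    let ψ : Fin 2 → Quotient (orbitRel (Cfsg.Sz F m) (Ω × Ω)) := fun i =>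
      Quotient.mk'' (if i = 0 then (a₀, a₀) else (a₀, b₀))
    have hb : Function.Bijective ψ := by
      refine ⟨fun i j h => ?_, fun w => ?_⟩
      · have key : ¬ (orbitRel (Cfsg.Sz F m) (Ω × Ω)) (a₀, a₀) (a₀, b₀) := by
          rintro ⟨g, hg⟩
          have h1 := congrArg Prod.fst hg
          have h2 := congrArg Prod.snd hg
          exact hne (smul_left_cancel g (h1.trans h2.symm))
        fin_cases i <;> fin_cases j <;> first
          | rfl
          | exact absurd (Quotient.exact' h) key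
          | exact absurd (Quotient.exact' h.symm) key
      · induction w using Quotient.inductionOn' with
        | _ w =>
          obtain ⟨c, d⟩ := w
          by_cases hcd : c = d
          · subst hcd
            obtain ⟨g, hg⟩ := exists_smul_eq (Cfsg.Sz F m) c a₀
            exact ⟨0, Quotient.sound' ⟨g, Prod.ext hg hg⟩⟩
          · obtain ⟨g, h1, h2⟩ := h2t c d a₀ b₀ hcd hne
            exact ⟨1, Quotient.sound' ⟨g, Prod.ext h1 h2⟩⟩
    rw [← Fintype.card_of_bijective hb, Fintype.card_fin]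
  have hf : ∀ g : Cfsg.Sz F m, g ≠ 1 →
      ((f g : ℤ) * f g - 3 * f g + 2) = if (∀ a : Ω, g • a ≠ a) then 2 else 0 := by
    intro g hg
    have h2 : f g ≤ 2 := by
      have := fixedBy_card_le hF hm g hg
      rwa [← Nat.card_coe_set_eq, Nat.card_eq_fintype_card] at this
    by_cases hfree : ∀ a : Ω, g • a ≠ a
    · have : f g = 0 := Fintype.card_eq_zero_iff.2 ⟨fun z => hfree z.1 z.2⟩
      rw [if_pos hfree, this]; norm_num
    · rw [if_neg hfree]
      push Not at hfree
      obtain ⟨a, ha⟩ := hfree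
      have : 0 < f g := Fintype.card_pos_iff.2 ⟨⟨a, ha⟩⟩
      obtain h | h : f g = 1 ∨ f g = 2 := by omega
      all_goals rw [h]; norm_num
  have hf1 : f 1 = Fintype.card F ^ 2 + 1 := by
    show Fintype.card (fixedBy Ω (1 : Cfsg.Sz F m)) = _
    rw [← card_points hF hm, ← Nat.card_eq_fintype_card]
    exact Nat.card_congr ((Equiv.setCongr (Set.eq_univ_of_forall fun a => one_smul _ a)).trans (Equiv.Set.univ Ω))
  have hsum : ∑ g : Cfsg.Sz F m, ((f g : ℤ) * f g - 3 * f g + 2) =
      ((f 1 : ℤ) * f 1 - 3 * f 1 + 2) + 2 * (Finset.univ.filter fun g : Cfsg.Sz F m => ∀ a : Ω, g • a ≠ a).card := by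
    rw [← Finset.add_sum_erase _ _ (Finset.mem_univ (1 : Cfsg.Sz F m)),
      Finset.sum_congr rfl (fun g hg => hf g (Finset.ne_of_mem_erase hg)), ← Finset.sum_filter, Finset.sum_const,
      Finset.filter_erase, Finset.erase_eq_of_notMem
        (fun h => ((Finset.mem_filter (p := fun g : Cfsg.Sz F m => ∀ a : Ω, g • a ≠ a)).1 h).2 a₀ (one_smul _ a₀)), nsmul_eq_mul, mul_comm (2 : ℤ)]
  have s1' : ∑ g : Cfsg.Sz F m, (f g : ℤ) = (Fintype.card (Cfsg.Sz F m) : ℤ) := by exact_mod_cast s1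
  have s2' : ∑ g : Cfsg.Sz F m, (f g : ℤ) * f g = 2 * (Fintype.card (Cfsg.Sz F m) : ℤ) := by exact_mod_cast s2
  rw [Finset.sum_add_distrib, Finset.sum_sub_distrib, ← Finset.mul_sum, s1', s2', Finset.sum_const,
    Finset.card_univ, nsmul_eq_mul, hf1, ← Nat.card_eq_fintype_card, card_sz hF hm] at hsum
  have hq : 1 ≤ Fintype.card F := Fintype.card_pos
  zify [hq] at hsum ⊢
  linear_combination -hsum

end Cfsg.Agent.Lie.Suzuki
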