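import Mathlib

/-!
Packed 7 × 7 matrices modulo 11, one natural number per row, for kernel computation.
-/

set_option autoImplicit false

namespace Cfsg.Agent.Lie.Janko

/-- A binary tree used as an array: the low bit chooses the branch. -/
inductive Tree (α : Type) : Type
  | leaf : α → Tree α
  | node : Tree α → Tree α → Tree α

/-- Array lookup. -/
def Tree.get {α : Type} : Tree α → ℕ → α
  | .leaf x, _ => x
  | .node l r, i => bif i % 2 == 0 then l.get (i / 2) else r.get (i / 2)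

/-- A packed matrix. -/
structure M7 : Type where
  r0 : ℕ
  r1 : ℕ
  r2 : ℕ
  r3 : ℕ
  r4 : ℕ
  r5 : ℕ
  r6 : ℕ

/-- Decidable Boolean equality of packed matrices. -/
def M7.beq (A B : M7) : Bool :=
  Nat.beq A.r0 B.r0 && (Nat.beq A.r1 B.r1 && (Nat.beq A.r2 B.r2 && (Nat.beq A.r3 B.r3 &&
    (Nat.beq A.r4 B.r4 && (Nat.beq A.r5 B.r5 && Nat.beq A.r6 B.r6)))))

theorem M7.eq_of_beq {A B : M7} (h : A.beq B = true) : A = B := by
  simp only [M7.beq, Bool.and_eq_true, Nat.beq_eq] at h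
  obtain ⟨h0, h1, h2, h3, h4, h5, h6⟩ := h
  cases A; cases B
  simp_all

/-- Digit `j`. -/
def dig (N j : ℕ) : ℕ := N / 4096 ^ j % 4096

/-- Packing. -/
def pack (c : Fin 7 → ℕ) : ℕ :=
  c 0 + c 1 * 4096 + c 2 * 4096 ^ 2 + c 3 * 4096 ^ 3 + c 4 * 4096 ^ 4 + c 5 * 4096 ^ 5 + c 6 * 4096 ^ 6

theorem dig_pack (c : Fin 7 → ℕ) (h : ∀ j, c j < 4096) (j : Fin 7) : dig (pack c) j = c j := by
  have hs : ∀ d X k : ℕ, d < 4096 → (d + 4096 * X) / 4096 ^ (k + 1) = X / 4096 ^ k := by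
    intro d X k hd
    rw [pow_succ', ← Nat.div_div_eq_div_mul, show (d + 4096 * X) / 4096 = X by omega]
  have h0 := h 0; have h1 := h 1; have h2 := h 2; have h3 := h 3
  have h4 := h 4; have h5 := h 5; have h6 := h 6
  have e : pack c = c 0 + 4096 * (c 1 + 4096 * (c 2 + 4096 * (c 3 + 4096 * (c 4 + 4096 * (c 5 + 4096 * c 6))))) := by
    simp only [pack]; ring
  rw [e, dig]
  fin_cases j
  · show (_ / 4096 ^ 0) % 4096 = c 0
    rw [pow_zero, Nat.div_one]; omega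
  · show (_ / 4096 ^ (0 + 1)) % 4096 = c 1
    rw [hs _ _ _ h0, pow_zero, Nat.div_one]; omega
  · show (_ / 4096 ^ (1 + 1)) % 4096 = c 2
    rw [hs _ _ _ h0, hs _ _ _ h1, pow_zero, Nat.div_one]; omega
  · show (_ / 4096 ^ (2 + 1)) % 4096 = c 3
    rw [hs _ _ _ h0, hs _ _ _ h1, hs _ _ _ h2, pow_zero, Nat.div_one]; omega
  · show (_ / 4096 ^ (3 + 1)) % 4096 = c 4
    rw [hs _ _ _ h0, hs _ _ _ h1, hs _ _ _ h2, hs _ _ _ h3, pow_zero, Nat.div_one]; omega
  · show (_ / 4096 ^ (4 + 1)) % 4096 = c 5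
    rw [hs _ _ _ h0, hs _ _ _ h1, hs _ _ _ h2, hs _ _ _ h3, hs _ _ _ h4, pow_zero, Nat.div_one]; omega
  · show (_ / 4096 ^ (5 + 1)) % 4096 = c 6
    rw [hs _ _ _ h0, hs _ _ _ h1, hs _ _ _ h2, hs _ _ _ h3, hs _ _ _ h4, hs _ _ _ h5, pow_zero, Nat.div_one]; omega

/-- Reduction of all digits modulo 11. -/
def red (N : ℕ) : ℕ :=
  dig N 0 % 11 + (dig N 1 % 11) * 4096 + (dig N 2 % 11) * 4096 ^ 2 + (dig N 3 % 11) * 4096 ^ 3 +
    (dig N 4 % 11) * 4096 ^ 4 + (dig N 5 % 11) * 4096 ^ 5 + (dig N 6 % 11) * 4096 ^ 6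

/-- A row times a matrix. -/
def rowMul (r : ℕ) (B : M7) : ℕ :=
  red (dig r 0 * B.r0 + dig r 1 * B.r1 + dig r 2 * B.r2 + dig r 3 * B.r3 + dig r 4 * B.r4 + dig r 5 * B.r5 +
    dig r 6 * B.r6)

/-- The product. -/
def M7.mul (A B : M7) : M7 :=
  ⟨rowMul A.r0 B, rowMul A.r1 B, rowMul A.r2 B, rowMul A.r3 B, rowMul A.r4 B, rowMul A.r5 B, rowMul A.r6 B⟩

/-- The unit matrix. -/
def M7.one : M7 := ⟨1, 4096, 4096 ^ 2, 4096 ^ 3, 4096 ^ 4, 4096 ^ 5, 4096 ^ 6⟩

/-- Row `i`. -/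
def M7.row (A : M7) : Fin 7 → ℕ := ![A.r0, A.r1, A.r2, A.r3, A.r4, A.r5, A.r6]

/-- A row with all entries below 11. -/
def IsRed (N : ℕ) : Prop := ∃ c : Fin 7 → ℕ, (∀ j, c j < 11) ∧ N = pack c

/-- All rows have all entries below 11. -/
def M7.Good (A : M7) : Prop := ∀ i, IsRed (A.row i)

theorem isRed_red (N : ℕ) : IsRed (red N) :=
  ⟨fun j => dig N j % 11, fun j => Nat.mod_lt _ (by norm_num), rfl⟩

theorem dig_red (N : ℕ) (j : Fin 7) : dig (red N) j = dig N j % 11 := by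
  have h : red N = pack (fun j : Fin 7 => dig N j % 11) := rfl
  rw [h, dig_pack _ (fun j => lt_of_lt_of_le (Nat.mod_lt _ (by norm_num)) (by norm_num))]

theorem dig_lt_of_isRed {N : ℕ} (h : IsRed N) (j : Fin 7) : dig N j < 11 := by
  obtain ⟨c, hc, rfl⟩ := h
  rw [dig_pack c (fun j => lt_of_lt_of_le (hc j) (by norm_num))]
  exact hc j

theorem row_map (f : ℕ → ℕ) (A : M7) (i : Fin 7) :
    (M7.mk (f A.r0) (f A.r1) (f A.r2) (f A.r3) (f A.r4) (f A.r5) (f A.r6)).row i = f (A.row i) := by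
  fin_cases i <;> rfl

theorem row_mul (A B : M7) (i : Fin 7) : (A.mul B).row i = rowMul (A.row i) B :=
  row_map (fun r => rowMul r B) A i

theorem good_mul (A B : M7) : (A.mul B).Good := fun i => by
  rw [row_mul]
  exact isRed_red _

/-- The matrix of a packed matrix. -/
def toMat (A : M7) : Matrix (Fin 7) (Fin 7) (ZMod 11) := Matrix.of fun i j => ((dig (A.row i) j : ℕ) : ZMod 11)

theorem toMat_mul {A B : M7} (hA : A.Good) (hB : B.Good) : toMat (A.mul B) = toMat A * toMat B := by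
  ext i j
  simp only [toMat, Matrix.of_apply, Matrix.mul_apply]
  rw [row_mul, rowMul, dig_red, ZMod.natCast_mod]
  have hsum : dig (dig (A.row i) 0 * B.r0 + dig (A.row i) 1 * B.r1 + dig (A.row i) 2 * B.r2 +
      dig (A.row i) 3 * B.r3 + dig (A.row i) 4 * B.r4 + dig (A.row i) 5 * B.r5 + dig (A.row i) 6 * B.r6) j =
      ∑ k : Fin 7, dig (A.row i) k * dig (B.row k) j := by
    choose c hc hc' using hB
    have e : dig (A.row i) 0 * B.r0 + dig (A.row i) 1 * B.r1 + dig (A.row i) 2 * B.r2 +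
        dig (A.row i) 3 * B.r3 + dig (A.row i) 4 * B.r4 + dig (A.row i) 5 * B.r5 + dig (A.row i) 6 * B.r6 =
        pack (fun j => ∑ k : Fin 7, dig (A.row i) k * c k j) := by
      have e0 : B.r0 = pack (c 0) := hc' 0
      have e1 : B.r1 = pack (c 1) := hc' 1
      have e2 : B.r2 = pack (c 2) := hc' 2
      have e3 : B.r3 = pack (c 3) := hc' 3
      have e4 : B.r4 = pack (c 4) := hc' 4
      have e5 : B.r5 = pack (c 5) := hc' 5
      have e6 : B.r6 = pack (c 6) := hc' 6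
      rw [e0, e1, e2, e3, e4, e5, e6]
      simp only [pack, Fin.sum_univ_seven, Fin.val_zero, Fin.val_one, Fin.val_two,
        show ((3 : Fin 7) : ℕ) = 3 from rfl, show ((4 : Fin 7) : ℕ) = 4 from rfl,
        show ((5 : Fin 7) : ℕ) = 5 from rfl, show ((6 : Fin 7) : ℕ) = 6 from rfl]
      ring
    rw [e, dig_pack _ (fun j => ?_)]
    · refine Finset.sum_congr rfl fun k _ => ?_
      rw [hc' k, dig_pack _ (fun j => lt_of_lt_of_le (hc k j) (by norm_num))]
    · calc ∑ k : Fin 7, dig (A.row i) k * c k j ≤ ∑ _k : Fin 7, 10 * 10 :=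
            Finset.sum_le_sum fun k _ => Nat.mul_le_mul (Nat.lt_succ_iff.1 (dig_lt_of_isRed (hA i) k))
              (Nat.lt_succ_iff.1 (hc k j))
        _ < 4096 := by norm_num
  rw [hsum]
  push_cast
  rfl

theorem good_one : M7.one.Good := fun i =>
  ⟨fun j => if j = i then 1 else 0, fun j => by dsimp only; split <;> norm_num, by
    fin_cases i <;> simp [pack, M7.one, M7.row]⟩

theorem toMat_one : toMat M7.one = 1 := by decide +kernel

/-- Boolean test for `Good`. -/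
def M7.goodB (A : M7) : Bool :=
  Nat.beq (red A.r0) A.r0 && (Nat.beq (red A.r1) A.r1 && (Nat.beq (red A.r2) A.r2 && (Nat.beq (red A.r3) A.r3 &&
    (Nat.beq (red A.r4) A.r4 && (Nat.beq (red A.r5) A.r5 && Nat.beq (red A.r6) A.r6)))))

theorem good_of_goodB {A : M7} (h : A.goodB = true) : A.Good := by
  simp only [M7.goodB, Bool.and_eq_true, Nat.beq_eq] at h
  obtain ⟨h0, h1, h2, h3, h4, h5, h6⟩ := h
  intro i
  fin_cases i
  · show IsRed A.r0; rw [← h0]; exact isRed_red _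
  · show IsRed A.r1; rw [← h1]; exact isRed_red _
  · show IsRed A.r2; rw [← h2]; exact isRed_red _
  · show IsRed A.r3; rw [← h3]; exact isRed_red _
  · show IsRed A.r4; rw [← h4]; exact isRed_red _
  · show IsRed A.r5; rw [← h5]; exact isRed_red _
  · show IsRed A.r6; rw [← h6]; exact isRed_red _

/-- Powers. -/
def M7.pow (A : M7) : ℕ → M7
  | 0 => M7.one
  | n + 1 => (A.pow n).mul A

theorem good_pow (A : M7) : ∀ n, (A.pow n).Good
  | 0 => good_one
  | _ + 1 => good_mul _ _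

theorem toMat_pow {A : M7} (hA : A.Good) : ∀ n, toMat (A.pow n) = toMat A ^ n
  | 0 => by rw [M7.pow, toMat_one, pow_zero]
  | n + 1 => by rw [M7.pow, toMat_mul (good_pow A n) hA, toMat_pow hA n, pow_succ]

end Cfsg.Agent.Lie.Janko
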