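import Mathlib
import Cfsg.Agent.Lib.Lie.JankoPack

/-!
Coset tables with values in a central kernel: a checkable certificate which bounds the kernel of a
central extension of a permutation group through linear equations, one for each coset
and relator.
-/

set_option autoImplicit false

namespace Cfsg.Agent.Lie.CentralTable

open Cfsg.Agent.Lie

/-- Entry of a packed permutation. -/
def pget (p i : ℕ) : ℕ := (p >>> (7 * i)) % 128

/-- Addition of coefficient vectors. -/
def vadd : List ℤ → List ℤ → List ℤ
  | [], w => w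
  | v, [] => v
  | a :: v, b :: w => (a + b) :: vadd v w

/-- Scalar multiple of a coefficient vector. -/
def vsmul (c : ℤ) (v : List ℤ) : List ℤ := v.map fun a => c * a

/-- All coefficients vanish. -/
def vzero (v : List ℤ) : Bool := v.all fun a => a == 0

/-- The unit vector. -/
def vunit (n p : ℕ) : List ℤ := (List.range n).map fun i => if i = p then 1 else 0

/-- A certificate. -/
structure Cert where
  /-- degree -/
  deg : ℕ
  /-- exponents to which the lifts of the generators are trivial -/
  m0 : ℕ
  m1 : ℕ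
  /-- number of cosets -/
  N : ℕ
  /-- relators -/
  rels : List (List Bool)
  /-- number of parameters -/
  P : ℕ
  /-- the generators -/
  g0 : ℕ
  g1 : ℕ
  /-- generators of the labels -/
  h0 : ℕ
  h1 : ℕ
  next : Janko.Tree ℕ
  lab : Janko.Tree (List Bool)
  word : Janko.Tree (List Bool)
  perm : Janko.Tree ℕ
  par : Janko.Tree (ℕ × Bool)
  L : Janko.Tree (List ℤ)
  kind : Janko.Tree ℕ
  rank : Janko.Tree ℕ
  via : Janko.Tree (ℕ × ℕ)
  pv : List ℕ
  combos : List (List ℤ × List (ℤ × (ℕ × ℕ)))

namespace Cert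

variable (C : Cert)

/-- The index of an edge. -/
def edge (i : ℕ) (s : Bool) : ℕ := 2 * i + s.toNat

/-- Number of variables. -/
def V : ℕ := 2 * C.N + C.rels.length

/-- The target of an edge. -/
def step (i : ℕ) (s : Bool) : ℕ := C.next.get (edge i s)

/-- The edges along a word. -/
def path : ℕ → List Bool → List ℕ
  | _, [] => []
  | i, s :: w => edge i s :: path (C.step i s) w

/-- The end of a word. -/
def endp : ℕ → List Bool → ℕ
  | i, [] => i
  | i, s :: w => endp (C.step i s) w

/-- The relator. -/
def rel (r : ℕ) : List Bool := C.rels.getD r []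

/-- The variable of a relator. -/
def cvar (r : ℕ) : ℕ := 2 * C.N + r

/-- Image of a point under a word. -/
def evalP (a b : ℕ) (w : List Bool) (k : ℕ) : ℕ := w.foldr (fun s j => pget (bif s then b else a) j) k

/-- A generator. -/
def gen (s : Bool) : ℕ := bif s then C.g1 else C.g0

/-- The equation of a relator at a coset, with substituted values. -/
def rowL (q : ℕ × ℕ) : List ℤ :=
  vadd (vsmul (-1) (C.L.get (C.cvar q.1))) ((C.path q.2 (C.rel q.1)).foldr (fun v a => vadd (C.L.get v) a) [])

/-- Validity of a row. -/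
def rowOK (q : ℕ × ℕ) : Bool :=
  Nat.blt q.1 C.rels.length && (Nat.blt q.2 C.N && Nat.beq (C.endp q.2 (C.rel q.1)) q.2)

/-- Edges and their labels. -/
def edgeCheck (i : ℕ) : Bool :=
  [false, true].all fun s => Nat.blt (C.step i s) C.N &&
    (List.range C.deg).all fun k => Nat.beq (pget (C.perm.get i) (pget (C.gen s) k))
      (evalP C.h0 C.h1 (C.lab.get (edge i s)) (pget (C.perm.get (C.step i s)) k))

/-- The spanning tree. -/
def treeCheck (i : ℕ) : Bool :=
  bif Nat.beq i 0 then C.word.get 0 == [] && (List.range C.deg).all (fun k => Nat.beq (pget (C.perm.get 0) k) k) else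
    (Nat.blt (C.par.get i).1 i && (C.word.get i == C.word.get (C.par.get i).1 ++ [(C.par.get i).2] &&
      (Nat.beq (C.step (C.par.get i).1 (C.par.get i).2) i && (C.lab.get (edge (C.par.get i).1 (C.par.get i).2) == []))))

/-- The relators hold. -/
def relCheck (w : List Bool) : Bool := (List.range C.deg).all fun k => Nat.beq (evalP C.g0 C.g1 w k) k

/-- One variable. -/
def varCheck (v : ℕ) : Bool :=
  match C.kind.get v with
  | 0 => Nat.blt v (2 * C.N) && (C.lab.get v == [] && (C.word.get (C.next.get v) == C.word.get (v / 2) ++ [v % 2 == 1] &&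
      vzero (C.L.get v)))
  | 1 => Nat.ble (2 * C.N) v && ((C.rel (v - 2 * C.N) == List.replicate C.m0 false ||
      C.rel (v - 2 * C.N) == List.replicate C.m1 true) && vzero (C.L.get v))
  | 2 => Nat.blt (C.via.get v).1 C.P && (Nat.beq (C.pv.getD (C.via.get v).1 0) v &&
      C.L.get v == vunit C.P (C.via.get v).1)
  | _ => C.rowOK (C.via.get v) && (vzero (C.rowL (C.via.get v)) &&
      ((Nat.beq v (C.cvar (C.via.get v).1) &&
          (C.path (C.via.get v).2 (C.rel (C.via.get v).1)).all fun e => Nat.blt (C.rank.get e) (C.rank.get v)) ||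
        (Nat.blt (C.rank.get (C.cvar (C.via.get v).1)) (C.rank.get v) &&
          (Nat.beq ((C.path (C.via.get v).2 (C.rel (C.via.get v).1)).count v) 1 &&
            (C.path (C.via.get v).2 (C.rel (C.via.get v).1)).all fun e => Nat.beq e v || Nat.blt (C.rank.get e) (C.rank.get v)))))

/-- One combination. -/
def comboCheck (c : List ℤ × List (ℤ × (ℕ × ℕ))) : Bool :=
  c.2.all (fun t => C.rowOK t.2) &&
    c.2.foldr (fun t a => vadd (vsmul t.1 (C.rowL t.2)) a) (List.replicate C.P 0) == c.1

/-- The hypotheses delivered by the computation. -/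
structure Valid : Prop where
  npos : 0 < C.N
  edges : ∀ i < C.N, C.edgeCheck i = true
  tree : ∀ i < C.N, C.treeCheck i = true
  rels : ∀ w ∈ C.rels, C.relCheck w = true
  vars : ∀ v < C.V, C.varCheck v = true
  combos : ∀ c ∈ C.combos, C.comboCheck c = true

end Cert

/-- The value of a coefficient vector. -/
def lin {A : Type*} [AddCommGroup A] (u : ℕ → A) : List ℤ → ℕ → A
  | [], _ => 0
  | a :: v, k => a • u k + lin u v (k + 1)

section Lin

variable {A : Type*} [AddCommGroup A] (u : ℕ → A)

theorem lin_vadd : ∀ (v w : List ℤ) (k : ℕ), lin u (vadd v w) k = lin u v k + lin u w k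
  | [], w, k => by simp [vadd, lin]
  | a :: v, [], k => by simp [vadd, lin]
  | a :: v, b :: w, k => by
    simp only [vadd, lin, lin_vadd v w (k + 1), add_smul]
    abel

theorem lin_vsmul (c : ℤ) : ∀ (v : List ℤ) (k : ℕ), lin u (vsmul c v) k = c • lin u v k
  | [], k => by simp [vsmul, lin]
  | a :: v, k => by
    have ih := lin_vsmul c v (k + 1)
    simp only [vsmul, List.map_cons, lin, smul_add, smul_smul] at ih ⊢
    rw [ih]

theorem lin_vzero : ∀ (v : List ℤ) (k : ℕ), vzero v = true → lin u v k = 0
  | [], k, _ => rfl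
  | a :: v, k, h => by
    simp only [vzero, List.all_cons, Bool.and_eq_true, beq_iff_eq] at h
    simp [lin, h.1, lin_vzero v (k + 1) h.2]

theorem lin_replicate (n k : ℕ) : lin u (List.replicate n 0) k = 0 :=
  lin_vzero u _ k (by simp [vzero])

theorem lin_vunit_aux : ∀ (n k p : ℕ), k ≤ p → p < k + n →
    lin u ((List.range' k n).map fun i => if i = p then (1 : ℤ) else 0) k = u p
  | 0, k, p, h1, h2 => by omega
  | n + 1, k, p, h1, h2 => by
    rw [List.range'_succ, List.map_cons, lin]
    rcases eq_or_lt_of_le h1 with rfl | h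
    · rw [if_pos rfl, one_smul, lin_vzero]
      · rw [add_zero]
      · simp only [vzero, List.all_map, List.all_eq_true, List.mem_range'_1, Function.comp, beq_iff_eq]
        intro i hi
        rw [if_neg (by omega)]
    · rw [if_neg (by omega), zero_smul, zero_add]
      exact lin_vunit_aux n (k + 1) p (by omega) (by omega)

theorem lin_vunit {n p : ℕ} (h : p < n) : lin u (vunit n p) 0 = u p := by
  rw [vunit, List.range_eq_range']
  exact lin_vunit_aux u n 0 p (Nat.zero_le _) (by omega)

end Lin

section Group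

variable {Γ G : Type*} [Group Γ] [Group G]

/-- A group element acts as a packed permutation. -/
def Rep {n : ℕ} (φ : G →* Equiv.Perm (Fin n)) (g : G) (p : ℕ) : Prop := ∀ k : Fin n, (φ g k : ℕ) = pget p k

/-- Evaluation of a word. -/
def ev {M : Type*} [Monoid M] (g : Bool → M) (w : List Bool) : M := (w.map g).prod

theorem ev_cons {M : Type*} [Monoid M] (g : Bool → M) (s : Bool) (w : List Bool) : ev g (s :: w) = g s * ev g w := by
  simp [ev]

theorem ev_append {M : Type*} [Monoid M] (g : Bool → M) (v w : List Bool) : ev g (v ++ w) = ev g v * ev g w := by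
  simp [ev]

theorem ev_mem {M : Type*} [Group M] (g : Bool → M) (w : List Bool) :
    ev g w ∈ Subgroup.closure (Set.range g) := by
  induction w with
  | nil => exact one_mem _
  | cons s w ih =>
    rw [ev_cons]
    exact mul_mem (Subgroup.subset_closure ⟨s, rfl⟩) ih

theorem map_ev (σ : Γ →* G) (g : Bool → Γ) (w : List Bool) : σ (ev g w) = ev (fun s => σ (g s)) w := by
  induction w with
  | nil => simp [ev]
  | cons s w ih => rw [ev_cons, ev_cons, map_mul, ih]

theorem rep_ev {n : ℕ} {φ : G →* Equiv.Perm (Fin n)} {g : Bool → G} {a b : ℕ} (h : ∀ s, Rep φ (g s) (bif s then b else a))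
    (w : List Bool) (k : Fin n) : (φ (ev g w) k : ℕ) = Cert.evalP a b w k := by
  induction w with
  | nil => simp [ev, Cert.evalP]
  | cons s w ih =>
    rw [ev_cons, map_mul, Equiv.Perm.mul_apply, h, ih]
    rfl

theorem eq_of_rep {n : ℕ} {φ : G →* Equiv.Perm (Fin n)} (hφ : Function.Injective φ) {g g' : G}
    (h : ∀ k : Fin n, (φ g k : ℕ) = φ g' k) : g = g' :=
  hφ (Equiv.ext fun k => Fin.ext (h k))

end Group

/-- The data to which a certificate is applied. -/
structure Setup (C : Cert) (Γ G : Type*) [Group Γ] [Group G] where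
  /-- the extension -/
  σ : Γ →* G
  /-- the permutation representation -/
  φ : G →* Equiv.Perm (Fin C.deg)
  faithful : Function.Injective φ
  central : σ.ker ≤ Subgroup.center Γ
  /-- lifts of the generators -/
  x : Bool → Γ
  /-- lifts of the label generators -/
  y : Bool → Γ
  rep_x : ∀ s, Rep φ (σ (x s)) (bif s then C.g1 else C.g0)
  rep_y : ∀ s, Rep φ (σ (y s)) (bif s then C.h1 else C.h0)
  pow_x : ∀ s, x s ^ (bif s then C.m1 else C.m0) = 1
  inj : ∀ w, σ (ev y w) = 1 → ev y w = 1
  valid : C.Valid

namespace Setup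

variable {C : Cert} {Γ G : Type*} [Group Γ] [Group G] (S : Setup C Γ G)
include S

/-- The coset representative. -/
def t (i : ℕ) : Γ := ev S.x (C.word.get i)

theorem step_lt {i : ℕ} (hi : i < C.N) (s : Bool) : C.step i s < C.N := by
  have h := S.valid.edges i hi
  simp only [Cert.edgeCheck, List.all_cons, List.all_nil, Bool.and_true, Bool.and_eq_true, Nat.blt_eq] at h
  cases s
  exacts [h.1.1, h.2.1]

theorem t_zero : S.t 0 = 1 := by
  have h := S.valid.tree 0 S.valid.npos
  simp only [Cert.treeCheck, show Nat.beq 0 0 = true from rfl, cond_true, Bool.and_eq_true, beq_iff_eq] at h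
  simp [t, h.1, ev]

theorem edge_perm {i : ℕ} (hi : i < C.N) (s : Bool) (k : Fin C.deg) :
    pget (C.perm.get i) (pget (C.gen s) k) =
      Cert.evalP C.h0 C.h1 (C.lab.get (Cert.edge i s)) (pget (C.perm.get (C.step i s)) k) := by
  have h := S.valid.edges i hi
  simp only [Cert.edgeCheck, List.all_cons, List.all_nil, Bool.and_true, Bool.and_eq_true, List.all_eq_true,
    List.mem_range, Nat.beq_eq] at h
  cases s
  exacts [h.1.2 k k.2, h.2.2 k k.2]

theorem rep_t : ∀ i < C.N, Rep S.φ (S.σ (S.t i)) (C.perm.get i) := by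
  intro i
  induction i using Nat.strong_induction_on with
  | _ i ih =>
    intro hi
    rcases Nat.eq_zero_or_pos i with rfl | h0
    · intro k
      have h := S.valid.tree 0 hi
      simp only [Cert.treeCheck, show Nat.beq 0 0 = true from rfl, cond_true, Bool.and_eq_true, List.all_eq_true,
        List.mem_range, Nat.beq_eq] at h
      rw [S.t_zero, map_one, map_one, h.2 k k.2]
      rfl
    have h := S.valid.tree i hi
    rw [Cert.treeCheck, show Nat.beq i 0 = false by
      rw [← Bool.not_eq_true, Nat.beq_eq]; omega] at h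
    simp only [cond_false, Bool.and_eq_true, Nat.blt_eq, beq_iff_eq, Nat.beq_eq] at h
    obtain ⟨hlt, hw, hn, hl⟩ := h
    intro k
    have e := S.edge_perm (hlt.trans hi) (C.par.get i).2 k
    rw [hn, hl] at e
    rw [t, hw, ev_append, map_mul, map_mul, Equiv.Perm.mul_apply]
    have hp := ih _ hlt (hlt.trans hi) (S.φ (S.σ (ev S.x [(C.par.get i).2])) k)
    have hx := S.rep_x (C.par.get i).2 k
    rw [show ev S.x [(C.par.get i).2] = S.x (C.par.get i).2 by simp [ev]] at hp ⊢
    rw [show ev S.x (C.word.get (C.par.get i).1) = S.t (C.par.get i).1 from rfl, hp, hx]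
    exact e

theorem edge_image {i : ℕ} (hi : i < C.N) (s : Bool) :
    S.σ (S.t i * S.x s) = S.σ (ev S.y (C.lab.get (Cert.edge i s)) * S.t (C.step i s)) := by
  refine eq_of_rep S.faithful fun k => ?_
  rw [map_mul, map_mul, map_mul, map_mul, Equiv.Perm.mul_apply, Equiv.Perm.mul_apply, S.rep_t i hi,
    S.rep_x s k, map_ev, rep_ev S.rep_y, S.rep_t _ (S.step_lt hi s) k]
  exact S.edge_perm hi s k

theorem rel_image {w : List Bool} (hw : w ∈ C.rels) : S.σ (ev S.x w) = 1 := by
  refine eq_of_rep S.faithful fun k => ?_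
  have h := S.valid.rels w hw
  simp only [Cert.relCheck, List.all_eq_true, List.mem_range, Nat.beq_eq] at h
  rw [map_ev, rep_ev S.rep_x, h k k.2, map_one]
  rfl

/-- The kernel as an additive commutative group. -/
@[reducible] def kerGroup : CommGroup S.σ.ker :=
  { (inferInstance : Group S.σ.ker) with
    mul_comm := fun a b => Subtype.ext (Subgroup.mem_center_iff.1 (S.central b.2) a) }

/-- The value of a variable, as an element of the extension. -/
def valG (v : ℕ) : Γ :=
  if v < 2 * C.N then
    S.t (v / 2) * S.x (v % 2 == 1) * (ev S.y (C.lab.get v) * S.t (C.next.get v))⁻¹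
  else ev S.x (C.rel (v - 2 * C.N))

theorem valG_edge {i : ℕ} (hi : i < C.N) (s : Bool) :
    S.valG (Cert.edge i s) = S.t i * S.x s * (ev S.y (C.lab.get (Cert.edge i s)) * S.t (C.step i s))⁻¹ := by
  have h1 : Cert.edge i s < 2 * C.N := by
    cases s <;> simp [Cert.edge] <;> omega
  have h2 : Cert.edge i s / 2 = i := by
    cases s <;> simp [Cert.edge] <;> omega
  have h3 : (Cert.edge i s % 2 == 1) = s := by
    cases s <;> simp [Cert.edge] <;> omega
  rw [valG, if_pos h1, h2, h3]
  rfl

theorem valG_mem {v : ℕ} (hv : v < C.V) : S.valG v ∈ S.σ.ker := by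
  rw [MonoidHom.mem_ker]
  by_cases h : v < 2 * C.N
  · have e : v = Cert.edge (v / 2) (v % 2 == 1) := by
      rcases Nat.mod_two_eq_zero_or_one v with h' | h' <;> simp [Cert.edge, h'] <;> omega
    rw [e, S.valG_edge (by omega), map_mul, map_inv, S.edge_image (by omega), mul_inv_cancel]
  · rw [valG, if_neg h]
    have : v - 2 * C.N < C.rels.length := by simp only [Cert.V] at hv; omega
    exact S.rel_image (by rw [Cert.rel, List.getD_eq_getElem _ _ this]; exact List.getElem_mem _)

/-- The value of a variable. -/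
def val (v : ℕ) : S.σ.ker := if h : v < C.V then ⟨S.valG v, S.valG_mem h⟩ else 1

theorem val_coe {v : ℕ} (hv : v < C.V) : (S.val v : Γ) = S.valG v := by
  rw [val, dif_pos hv]

theorem edge_lt {i : ℕ} (hi : i < C.N) (s : Bool) : Cert.edge i s < C.V := by
  cases s <;> simp [Cert.edge, Cert.V] <;> omega

theorem edge_eq {i : ℕ} (hi : i < C.N) (s : Bool) :
    S.t i * S.x s = (S.val (Cert.edge i s) : Γ) * ev S.y (C.lab.get (Cert.edge i s)) * S.t (C.step i s) := by
  rw [S.val_coe (S.edge_lt hi s), S.valG_edge hi]
  group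

theorem path_lt : ∀ (w : List Bool) {i : ℕ}, i < C.N → ∀ e ∈ C.path i w, e < C.V
  | [], i, _, e, he => by simp [Cert.path] at he
  | s :: w, i, hi, e, he => by
    rcases List.mem_cons.1 he with rfl | he
    · exact S.edge_lt hi s
    · exact path_lt w (S.step_lt hi s) e he

theorem walk : ∀ (w : List Bool) {i : ℕ}, i < C.N → ∃ l : List Bool,
    S.t i * ev S.x w = (((C.path i w).map S.val).prod : S.σ.ker) * ev S.y l * S.t (C.endp i w)
  | [], i, _ => ⟨[], by simp [ev, Cert.path, Cert.endp]⟩
  | s :: w, i, hi => by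
    obtain ⟨l, hl⟩ := walk w (S.step_lt hi s)
    refine ⟨C.lab.get (Cert.edge i s) ++ l, ?_⟩
    simp only [Cert.path, Cert.endp, List.map_cons, List.prod_cons, Subgroup.coe_mul, ev_append, ev_cons]
    rw [← mul_assoc, S.edge_eq hi s, mul_assoc _ (S.t (C.step i s)), hl]
    have hz := Subgroup.mem_center_iff.1
      (S.central (((C.path (C.step i s) w).map S.val).prod : S.σ.ker).2) (ev S.y (C.lab.get (Cert.edge i s)))
    simp only [mul_assoc]
    rw [← mul_assoc (ev S.y (C.lab.get (Cert.edge i s))) _ (ev S.y l * _), hz]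
    simp only [mul_assoc]

theorem row_eq {q : ℕ × ℕ} (hq : C.rowOK q = true) :
    ((C.path q.2 (C.rel q.1)).map S.val).prod = S.val (C.cvar q.1) := by
  simp only [Cert.rowOK, Bool.and_eq_true, Nat.blt_eq, Nat.beq_eq] at hq
  obtain ⟨hr, hi, he⟩ := hq
  have hw : C.rel q.1 ∈ C.rels := by rw [Cert.rel, List.getD_eq_getElem _ _ hr]; exact List.getElem_mem _
  obtain ⟨l, hl⟩ := S.walk (C.rel q.1) hi
  rw [he] at hl
  have hc : ev S.x (C.rel q.1) ∈ Subgroup.center Γ := S.central (S.rel_image hw)
  rw [Subgroup.mem_center_iff.1 hc, mul_left_inj] at hl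
  have hl1 : ev S.y l = 1 := by
    refine S.inj l ?_
    have := congrArg S.σ hl
    rwa [map_mul, S.rel_image hw, MonoidHom.mem_ker.1 (Subtype.coe_prop _), one_mul, eq_comm] at this
  rw [hl1, mul_one] at hl
  refine Subtype.ext ?_
  rw [← hl, S.val_coe (by simp [Cert.cvar, Cert.V]; omega), valG, if_neg (by simp [Cert.cvar]),
    Cert.cvar, Nat.add_sub_cancel_left]

/-- The additive value of a variable. -/
def aval (v : ℕ) : Additive S.σ.ker := Additive.ofMul (S.val v)

/-- The parameters. -/
def u (p : ℕ) : Additive S.σ.ker := S.aval (C.pv.getD p 0)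

theorem kind0 {v : ℕ} (hv : v < 2 * C.N) (hl : C.lab.get v = [])
    (hw : C.word.get (C.next.get v) = C.word.get (v / 2) ++ [v % 2 == 1]) : S.val v = 1 := by
  have hV : v < C.V := by simp [Cert.V]; omega
  refine Subtype.ext ?_
  rw [S.val_coe hV, valG, if_pos hv, hl, t, t, hw, ev_append, show ev S.y [] = 1 by simp [ev], one_mul,
    show ev S.x [v % 2 == 1] = S.x (v % 2 == 1) by simp [ev], mul_inv_cancel]
  rfl

theorem kind1 {v : ℕ} (hv : 2 * C.N ≤ v) (hV : v < C.V) {s : Bool}
    (hw : C.rel (v - 2 * C.N) = List.replicate (bif s then C.m1 else C.m0) s) : S.val v = 1 := by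
  refine Subtype.ext ?_
  rw [S.val_coe hV, valG, if_neg (by omega), hw, ev, List.map_replicate, List.prod_replicate, S.pow_x]
  rfl

theorem main_lin : letI := S.kerGroup; ∀ v < C.V, S.aval v = lin S.u (C.L.get v) 0 := by
  letI := S.kerGroup
  intro v hv
  induction hr : C.rank.get v using Nat.strong_induction_on generalizing v with
  | _ r ih =>
    subst hr
    have h := S.valid.vars v hv
    unfold Cert.varCheck at h
    split at h
    · simp only [Bool.and_eq_true, Nat.blt_eq, beq_iff_eq] at h
      rw [lin_vzero _ _ _ h.2.2.2, aval, S.kind0 h.1 h.2.1 h.2.2.1]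
      rfl
    · simp only [Bool.and_eq_true, Bool.or_eq_true, Nat.ble_eq, beq_iff_eq] at h
      rw [lin_vzero _ _ _ h.2.2, aval]
      rcases h.2.1 with hw | hw
      · rw [S.kind1 (s := false) h.1 hv hw]; rfl
      · rw [S.kind1 (s := true) h.1 hv hw]; rfl
    · simp only [Bool.and_eq_true, Nat.blt_eq, Nat.beq_eq, beq_iff_eq] at h
      rw [h.2.2, lin_vunit _ h.1, u, h.2.1]
    · simp only [Bool.and_eq_true, Bool.or_eq_true, Nat.blt_eq, Nat.beq_eq, List.all_eq_true] at h
      obtain ⟨hok, hz, hcase⟩ := h
      have hrow : ((C.path (C.via.get v).2 (C.rel (C.via.get v).1)).map S.aval).sum =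
          S.aval (C.cvar (C.via.get v).1) := by
        rw [show S.aval = Additive.ofMul ∘ S.val from rfl, ← List.map_map, ← ofMul_list_prod, S.row_eq hok]
        rfl
      have hlin : ∀ l : List ℕ, lin S.u (l.foldr (fun v a => vadd (C.L.get v) a) []) 0 =
          (l.map fun e => lin S.u (C.L.get e) 0).sum := by
        intro l
        induction l with
        | nil => rfl
        | cons a l ihl => rw [List.foldr_cons, lin_vadd, ihl, List.map_cons, List.sum_cons]
      have h0 := lin_vzero S.u _ 0 hz
      rw [Cert.rowL, lin_vadd, lin_vsmul, hlin, neg_one_zsmul, neg_add_eq_zero] at h0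
      have hok' := hok
      simp only [Cert.rowOK, Bool.and_eq_true, Nat.blt_eq] at hok'
      have hlt := S.path_lt (C.rel (C.via.get v).1) hok'.2.1
      have hcv : C.cvar (C.via.get v).1 < C.V := by
        have := hok'.1
        simp [Cert.cvar, Cert.V]; omega
      generalize hd : (fun e => S.aval e - lin S.u (C.L.get e) 0) = D
      have hsum : ((C.path (C.via.get v).2 (C.rel (C.via.get v).1)).map D).sum = D (C.cvar (C.via.get v).1) := by
        subst hd
        have : ∀ l : List ℕ, (l.map fun e => S.aval e - lin S.u (C.L.get e) 0).sum =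
            (l.map S.aval).sum - (l.map fun e => lin S.u (C.L.get e) 0).sum := fun l => by
          induction l with
          | nil => simp
          | cons a l ihl => simp only [List.map_cons, List.sum_cons, ihl]; abel
        simp only [this, hrow, h0]
      suffices D v = 0 by
        subst hd
        exact sub_eq_zero.1 this
      have hD : ∀ e < C.V, C.rank.get e < C.rank.get v → D e = 0 := fun e he hlt' => by
        subst hd
        exact sub_eq_zero.2 (ih _ hlt' e he rfl)
      rcases hcase with ⟨hvc, hall⟩ | ⟨hc, hcount, hall⟩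
      · rw [hvc, ← hsum]
        refine List.sum_eq_zero fun x hx => ?_
        obtain ⟨e, he, rfl⟩ := List.mem_map.1 hx
        exact hD e (hlt e he) (hall e he)
      · rw [hD _ hcv hc, List.sum_map_eq_nsmul_single v D, hcount, one_smul] at hsum
        · exact hsum
        · intro e hne he
          exact hD e (hlt e he) ((hall e he).resolve_left hne)

theorem combo {c : List ℤ × List (ℤ × (ℕ × ℕ))} (hc : c ∈ C.combos) :
    letI := S.kerGroup; lin S.u c.1 0 = 0 := by
  letI := S.kerGroup
  have h := S.valid.combos c hc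
  simp only [Cert.comboCheck, Bool.and_eq_true, List.all_eq_true, beq_iff_eq] at h
  obtain ⟨hok, he⟩ := h
  rw [← he]
  clear he hc
  revert hok
  generalize c.2 = l
  intro hok
  induction l with
  | nil => exact lin_replicate _ _ _
  | cons t l ih =>
    rw [List.foldr_cons, lin_vadd, ih fun x hx => hok x (List.mem_cons_of_mem _ hx), add_zero, lin_vsmul]
    have hq := hok t List.mem_cons_self
    have hrow := S.row_eq hq
    have hq' := hq
    simp only [Cert.rowOK, Bool.and_eq_true, Nat.blt_eq] at hq'
    have hlt := S.path_lt (C.rel t.2.1) hq'.2.1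
    have hcv : C.cvar t.2.1 < C.V := by
      have := hq'.1
      simp [Cert.cvar, Cert.V]; omega
    have hlin : ∀ l : List ℕ, (∀ e ∈ l, e < C.V) →
        lin S.u (l.foldr (fun v a => vadd (C.L.get v) a) []) 0 = Additive.ofMul ((l.map S.val).prod) := by
      intro l hl
      induction l with
      | nil => rfl
      | cons a l ihl =>
        rw [List.foldr_cons, lin_vadd, ihl fun e he => hl e (List.mem_cons_of_mem _ he), List.map_cons,
          List.prod_cons, ← S.main_lin a (hl a List.mem_cons_self)]
        rfl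
    rw [Cert.rowL, lin_vadd, lin_vsmul, hlin _ hlt, hrow, neg_one_zsmul, ← S.main_lin _ hcv]
    rw [show Additive.ofMul (S.val (C.cvar t.2.1)) = S.aval (C.cvar t.2.1) from rfl, neg_add_cancel, smul_zero]

/-- Closure of the translates under the generators. -/
theorem cover [Finite Γ] (Z : Subgroup Γ) (hZ : ∀ v < C.V, (S.val v : Γ) ∈ Z) {g : Γ}
    (hg : g ∈ Subgroup.closure (Set.range S.x)) :
    ∃ i < C.N, ∃ z ∈ Z, ∃ l : List Bool, g = z * ev S.y l * S.t i := by
  have hg' : g ∈ Submonoid.closure (Set.range S.x) := by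
    have : g ∈ (Subgroup.closure (Set.range S.x)).toSubmonoid := hg
    rwa [Subgroup.closure_toSubmonoid_of_finite] at this
  clear hg
  induction hg' using Submonoid.closure_induction_right with
  | one => exact ⟨0, S.valid.npos, 1, one_mem _, [], by simp [ev, S.t_zero]⟩
  | mul_right g hg y hy ih =>
    obtain ⟨s, rfl⟩ := hy
    obtain ⟨i, hi, z, hz, l, rfl⟩ := ih
    refine ⟨C.step i s, S.step_lt hi s, z * S.val (Cert.edge i s), mul_mem hz (hZ _ (S.edge_lt hi s)),
      l ++ C.lab.get (Cert.edge i s), ?_⟩
    have hc := Subgroup.mem_center_iff.1 (S.central (S.val (Cert.edge i s)).2) (ev S.y l)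
    rw [mul_assoc _ (S.t i) (S.x s), S.edge_eq hi, ev_append]
    simp only [mul_assoc]
    rw [← mul_assoc (ev S.y l) (S.val (Cert.edge i s) : Γ), hc, mul_assoc]

end Setup

end Cfsg.Agent.Lie.CentralTable
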