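import Mathlib
import Cfsg.Prelude.Def_KGroupFacts
import Cfsg.Agent.Lib.Solv.SchurSmall
import Cfsg.Agent.Lib.Lie.StemSylow
import Cfsg.Agent.Lib.Lie.CentralTable

/-!
Consequences of the central coset tables: a subgroup lifts, a stem kernel has order at most two, and a
signed coset table gives a double cover.
-/

set_option autoImplicit false
set_option linter.style.haveILetI false

namespace Cfsg.Agent.Lie.CentralTable

/-- Bounded coefficient vectors. -/
def Cert.lenCheck (C : Cert) : Bool := (List.range C.V).all fun v => Nat.ble (C.L.get v).length C.P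

/-- The targets of an injectivity stage. -/
def Cert.killTargets (C : Cert) (q : ℕ) : Bool :=
  C.combos.map Prod.fst == (List.range C.P).map fun p => vsmul (q : ℤ) (vunit C.P p)

/-- The targets of a stage with a cyclic quotient of order two, generated by the parameter `p₀`. -/
def Cert.twoTargets (C : Cert) (q p₀ : ℕ) (n : List ℤ) : Bool :=
  C.combos.map Prod.fst == vsmul (2 * (q : ℤ)) (vunit C.P p₀) ::
    (((List.range C.P).filter fun p => !Nat.beq p p₀).map fun p =>
      vadd (vsmul (q : ℤ) (vunit C.P p)) (vsmul (-(q : ℤ) * n.getD p 0) (vunit C.P p₀)))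

theorem lin_zero {A : Type*} [AddCommGroup A] (u : ℕ → A) :
    ∀ (v : List ℤ) (k : ℕ), (∀ p < k + v.length, k ≤ p → u p = 0) → lin u v k = 0
  | [], k, _ => rfl
  | a :: v, k, h => by
    rw [lin, h k (by simp) le_rfl, smul_zero, zero_add]
    exact lin_zero u v (k + 1) fun p hp hk => h p (by simp only [List.length_cons]; omega) (by omega)

theorem pow_inj {Γ G : Type*} [Group Γ] [Group G] {σ : Γ →* G} (hc : σ.ker ≤ Subgroup.center Γ) {q : ℕ}
    (hker : ∀ z : σ.ker, z ^ q = 1 → z = 1) : Function.Injective fun z : σ.ker => z ^ q := by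
  intro z w e
  have hcomm : Commute z w⁻¹ := Subtype.ext (Subgroup.mem_center_iff.1 (hc (w⁻¹).2) z)
  have h1 : (z * w⁻¹) ^ q = 1 := by
    rw [hcomm.mul_pow, inv_pow]
    exact mul_inv_eq_one.2 e
  exact mul_inv_eq_one.1 (hker _ h1)

/-- Lifts with trivial `q`-th power. -/
theorem exists_lift {Γ G : Type*} [Group Γ] [Group G] [Finite Γ] {σ : Γ →* G} (hs : Function.Surjective σ)
    (hc : σ.ker ≤ Subgroup.center Γ) {q : ℕ} (hker : ∀ z : σ.ker, z ^ q = 1 → z = 1) {g : G} (hg : g ^ q = 1) :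
    ∃ x : Γ, σ x = g ∧ x ^ q = 1 := by
  obtain ⟨x, hx⟩ := hs g
  obtain ⟨z, hz⟩ := (Finite.injective_iff_surjective.1 (pow_inj hc hker))
    ⟨x ^ q, by rw [MonoidHom.mem_ker, map_pow, hx, hg]⟩
  refine ⟨x * (z : Γ)⁻¹, by rw [map_mul, map_inv, MonoidHom.mem_ker.1 z.2, inv_one, mul_one, hx], ?_⟩
  have hcomm : Commute x (z : Γ)⁻¹ := Subgroup.mem_center_iff.1 (inv_mem (hc z.2)) x
  rw [hcomm.mul_pow, inv_pow]
  exact mul_inv_eq_one.2 (congrArg Subtype.val hz).symm

/-- A stem kernel has no element of prime order `q` if the Sylow `q`-subgroups of the quotient are cyclic. -/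
theorem ker_no_torsion {Γ G : Type*} [Group Γ] [Group G] [Finite Γ] [Finite G] {σ : Γ →* G}
    (hσ : Cfsg.IsStemExtension σ) {q : ℕ} (hq : q.Prime) (hG : ¬ q ^ 2 ∣ Nat.card G) :
    ∀ z : σ.ker, z ^ q = 1 → z = 1 := by
  intro z hz1
  by_contra hne
  haveI : Fact q.Prime := ⟨hq⟩
  have hz : orderOf z = q := orderOf_eq_prime hz1 hne
  obtain ⟨-, hc, hd⟩ := hσ
  have hzo : orderOf (z : Γ) = q := by rwa [Subgroup.orderOf_coe]
  have hzc : ∀ g : Γ, g * z = z * g := Subgroup.mem_center_iff.1 (hc z.2)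
  haveI : (Subgroup.zpowers (z : Γ)).Normal := ⟨fun x hx g => by
    have hx' := hc (Subgroup.zpowers_le.2 z.2 hx)
    rwa [Subgroup.mem_center_iff.1 hx' g, mul_inv_cancel_right]⟩
  have hpg : IsPGroup q (Subgroup.zpowers (z : Γ)) :=
    IsPGroup.of_card (n := 1) (by rw [Nat.card_zpowers, hzo, pow_one])
  obtain ⟨P, hP⟩ := hpg.exists_le_sylow
  have hpm : IsPGroup q ((P : Subgroup Γ).map σ) := P.isPGroup'.map σ
  obtain ⟨n, hn⟩ := hpm.exists_card_eq
  have hn1 : n ≤ 1 := by
    by_contra hgt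
    refine hG ((pow_dvd_pow q (show 2 ≤ n by omega)).trans ?_)
    rw [← hn]
    exact Subgroup.card_subgroup_dvd_card _
  haveI : IsCyclic ((P : Subgroup Γ).map σ) := by
    rcases Nat.le_one_iff_eq_zero_or_eq_one.1 hn1 with rfl | rfl
    · haveI := (Nat.card_eq_one_iff_unique.1 (by rw [hn, pow_zero])).1
      infer_instance
    · exact isCyclic_of_prime_card (by rw [hn, pow_one])
  haveI : IsMulCommutative (P : Subgroup Γ) := StemSylow.comm_of_cyclic_image σ hc _ inferInstance
  letI : CommGroup (P : Subgroup Γ) := { (inferInstance : Group (P : Subgroup Γ)) with mul_comm := mul_comm' }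
  haveI : (P : Subgroup Γ).FiniteIndex := inferInstance
  have ht := MonoidHom.transfer_eq_pow (MonoidHom.id (P : Subgroup Γ)) (z : Γ) (fun k g _ => by
    rw [mul_assoc, ← (Commute.pow_right (show Commute g (z : Γ) from hzc g) k).eq, inv_mul_cancel_left])
  have hker : (z : Γ) ∈ (MonoidHom.transfer (MonoidHom.id (P : Subgroup Γ))).ker :=
    Abelianization.commutator_subset_ker _ (hd z.2)
  rw [MonoidHom.mem_ker, ht] at hker
  have he : (z : Γ) ^ (P : Subgroup Γ).index = 1 := congrArg Subtype.val hker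
  have := orderOf_dvd_of_pow_eq_one he
  rw [hzo] at this
  exact P.not_dvd_index this

namespace Setup

variable {C : Cert} {Γ G : Type*} [Group Γ] [Group G] (S : Setup C Γ G) [Finite Γ]
include S

/-- The injectivity stage: the lifts generate a copy of their image. -/
theorem inj_stage {a : Γ} (hy : ∀ s, S.y s = a) {q : ℕ} (ha : a ^ q = 1)
    (hker : ∀ z : S.σ.ker, z ^ q = 1 → z = 1) (hlen : C.lenCheck = true) (hT : C.killTargets q = true)
    (hcard : C.N * q ≤ Nat.card ((Subgroup.closure (Set.range S.x)).map S.σ)) (hq : 0 < q) :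
    ∀ g ∈ Subgroup.closure (Set.range S.x), S.σ g = 1 → g = 1 := by
  have hev : ∀ w : List Bool, ev S.y w = a ^ w.length := fun w => by
    rw [ev, show S.y = fun _ => a from funext hy, List.map_const', List.prod_replicate]
  letI := S.kerGroup
  have hu : ∀ p < C.P, S.u p = 0 := by
    intro p hp
    rw [Cert.killTargets, beq_iff_eq] at hT
    have hmem' : vsmul (q : ℤ) (vunit C.P p) ∈ C.combos.map Prod.fst := by
      rw [hT]; exact List.mem_map.2 ⟨p, List.mem_range.2 hp, rfl⟩
    obtain ⟨c, hc, e⟩ := List.mem_map.1 hmem'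
    have h := S.combo hc
    rw [e, lin_vsmul, lin_vunit _ hp, natCast_zsmul] at h
    have h7 : (Additive.toMul (S.u p)) ^ q = 1 := by
      have := congrArg Additive.toMul h
      rwa [toMul_nsmul, toMul_zero] at this
    exact Additive.toMul.injective (hker _ h7)
  have hval : ∀ v < C.V, (S.val v : Γ) = 1 := by
    intro v hv
    have hl := Nat.le_of_ble_eq_true (List.all_eq_true.1 hlen v (List.mem_range.2 hv))
    have h := S.main_lin v hv
    rw [lin_zero S.u _ 0 fun p hp _ => hu p (by omega)] at h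
    rw [show S.val v = 1 from congrArg Additive.toMul h]
    rfl
  have hset : (Subgroup.closure (Set.range S.x) : Set Γ) ⊆
      Set.range fun k : Fin q × Fin C.N => a ^ k.1.val * S.t k.2 := by
    intro g hg
    obtain ⟨i, hi, z, hz, l, rfl⟩ := S.cover ⊥ (fun v hv => by rw [Subgroup.mem_bot]; exact hval v hv) hg
    rw [Subgroup.mem_bot.1 hz, one_mul]
    refine ⟨(⟨l.length % q, Nat.mod_lt _ hq⟩, ⟨i, hi⟩), ?_⟩
    show a ^ (l.length % q) * S.t i = ev S.y l * S.t i
    rw [hev, ← pow_eq_pow_mod l.length ha]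
  have hle : Nat.card (Subgroup.closure (Set.range S.x)) ≤ C.N * q := by
    rw [← SetLike.coe_sort_coe, Nat.card_coe_set_eq]
    refine (Set.ncard_le_ncard hset).trans ?_
    rw [← Nat.card_coe_set_eq]
    exact (Finite.card_range_le _).trans (le_of_eq (by simp [mul_comm]))
  have hb : Function.Bijective ((S.σ.comp (Subgroup.closure (Set.range S.x)).subtype).rangeRestrict) := by
    refine MonoidHom.rangeRestrict_surjective _ |>.bijective_of_nat_card_le ?_
    rw [MonoidHom.range_comp, Subgroup.range_subtype]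
    exact hle.trans hcard
  intro g hg h1
  have : (⟨g, hg⟩ : Subgroup.closure (Set.range S.x)) = 1 := hb.1 (Subtype.ext (by
    show S.σ g = S.σ 1
    rw [h1, map_one]))
  exact congrArg Subtype.val this

/-- Every element of the quotient is a label times a representative. -/
theorem exists_coset (H : Subgroup G) (hH : ∀ s, S.σ (S.y s) ∈ H)
    (hgen : Subgroup.closure (Set.range fun s => S.σ (S.x s)) = ⊤) (g : G) :
    ∃ i < C.N, g * (S.σ (S.t i))⁻¹ ∈ H := by
  obtain ⟨γ, hγ, rfl⟩ : g ∈ (Subgroup.closure (Set.range S.x)).map S.σ := by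
    rw [MonoidHom.map_closure, ← Set.range_comp]
    exact hgen.ge (Subgroup.mem_top g)
  obtain ⟨i, hi, z, hz, l, rfl⟩ := S.cover S.σ.ker (fun v _ => (S.val v).2) hγ
  refine ⟨i, hi, ?_⟩
  rw [map_mul, map_mul, MonoidHom.mem_ker.1 hz, one_mul, mul_inv_cancel_right, map_ev]
  exact (Subgroup.closure_le H).2 (by rintro _ ⟨s, rfl⟩; exact hH s) (ev_mem _ _)

/-- With the right order the representatives lie in different cosets. -/
theorem coset_inj [Finite G] (H : Subgroup G) (hH : ∀ s, S.σ (S.y s) ∈ H)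
    (hgen : Subgroup.closure (Set.range fun s => S.σ (S.x s)) = ⊤)
    (hcard : C.N * Nat.card H ≤ Nat.card G) {i j : ℕ} (hi : i < C.N) (hj : j < C.N)
    (h : S.σ (S.t i) * (S.σ (S.t j))⁻¹ ∈ H) : i = j := by
  let f : H × Fin C.N → G := fun p => (p.1 : G) * S.σ (S.t p.2)
  have hf : Function.Surjective f := fun g => by
    obtain ⟨k, hk, hm⟩ := S.exists_coset H hH hgen g
    exact ⟨(⟨_, hm⟩, ⟨k, hk⟩), inv_mul_cancel_right _ _⟩
  have hb : Function.Bijective f := hf.bijective_of_nat_card_le (by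
    rw [Nat.card_prod, Nat.card_fin, mul_comm]; exact hcard)
  have e : f (1, ⟨i, hi⟩) = f (⟨_, h⟩, ⟨j, hj⟩) := by simp [f]
  exact congrArg (fun p : H × Fin C.N => p.2.val) (hb.1 e)

/-- The stage with a quotient of order two. -/
theorem two_stage [Finite G] (hσ : Cfsg.IsStemExtension S.σ) (H : Subgroup G) (hH : ∀ s, S.σ (S.y s) ∈ H)
    (hgen : Subgroup.closure (Set.range fun s => S.σ (S.x s)) = ⊤)
    (hcard : C.N * Nat.card H ≤ Nat.card G) {q p₀ : ℕ} (n : List ℤ)
    (hker : ∀ z : S.σ.ker, z ^ q = 1 → z = 1) (hp₀ : p₀ < C.P) (hlen : C.lenCheck = true)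
    (hT : C.twoTargets q p₀ n = true) :
    ∃ g : S.σ.ker, g ^ 2 = 1 ∧ ∀ k : S.σ.ker, k ∈ Subgroup.zpowers g := by
  letI := S.kerGroup
  rw [Cert.twoTargets, beq_iff_eq] at hT
  have hmemT : ∀ v ∈ C.combos.map Prod.fst, lin S.u v 0 = 0 := by
    intro v hv
    obtain ⟨c, hc, rfl⟩ := List.mem_map.1 hv
    exact S.combo hc
  rw [hT] at hmemT
  have hq : ∀ e : Additive S.σ.ker, (q : ℤ) • e = 0 → e = 0 := by
    intro e he
    have h7 : (Additive.toMul e) ^ q = 1 := by
      have := congrArg Additive.toMul he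
      rwa [natCast_zsmul, toMul_nsmul, toMul_zero] at this
    exact Additive.toMul.injective (hker _ h7)
  have h2 : (2 : ℤ) • S.u p₀ = 0 := by
    refine hq _ ?_
    rw [smul_smul]
    have := hmemT _ List.mem_cons_self
    rwa [lin_vsmul, lin_vunit _ hp₀, mul_comm] at this
  have hu : ∀ p < C.P, ∃ k : ℤ, S.u p = k • S.u p₀ := by
    intro p hp
    by_cases hpp : p = p₀
    · exact ⟨1, by rw [hpp, one_smul]⟩
    refine ⟨n.getD p 0, sub_eq_zero.1 (hq _ ?_)⟩
    have := hmemT _ (List.mem_cons_of_mem _ (List.mem_map.2 ⟨p, List.mem_filter.2 ⟨List.mem_range.2 hp, by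
      rw [Bool.not_eq_true', ← Bool.not_eq_true, Nat.beq_eq]; exact hpp⟩, rfl⟩))
    rw [lin_vadd, lin_vsmul, lin_vsmul, lin_vunit _ hp, lin_vunit _ hp₀] at this
    rw [smul_sub, smul_smul, sub_eq_add_neg, ← neg_smul]
    simpa using this
  refine ⟨Additive.toMul (S.u p₀), ?_, fun k => ?_⟩
  · have := congrArg Additive.toMul h2
    rwa [toMul_zsmul, zpow_ofNat, toMul_zero] at this
  have hlin : ∀ (v : List ℤ) (j : ℕ), j + v.length ≤ C.P →
      Additive.toMul (lin S.u v j) ∈ Subgroup.zpowers (Additive.toMul (S.u p₀)) := by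
    intro v
    induction v with
    | nil => exact fun j _ => one_mem _
    | cons a v ih =>
      intro j hj
      simp only [List.length_cons] at hj
      obtain ⟨m, hm⟩ := hu j (by omega)
      rw [lin, toMul_add, toMul_zsmul]
      refine mul_mem (Subgroup.zpow_mem _ ?_ _) (ih (j + 1) (by omega))
      rw [hm, toMul_zsmul]
      exact Subgroup.zpow_mem _ (Subgroup.mem_zpowers _) _
  let Z : Subgroup Γ := (Subgroup.zpowers (Additive.toMul (S.u p₀))).map S.σ.ker.subtype
  have hval : ∀ v < C.V, (S.val v : Γ) ∈ Z := by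
    intro v hv
    refine ⟨S.val v, ?_, rfl⟩
    have hl := Nat.le_of_ble_eq_true (List.all_eq_true.1 hlen v (List.mem_range.2 hv))
    have h := congrArg Additive.toMul (S.main_lin v hv)
    rw [show S.val v = Additive.toMul (S.aval v) from rfl, h]
    exact hlin _ 0 (by omega)
  have hgenΓ : Subgroup.closure (Set.range S.x) ⊔ Subgroup.center Γ = ⊤ :=
    Solv.closure_sup_center_eq_top S.σ hσ.2.1 _ (by rw [← Set.range_comp]; exact hgen)
  have hk : (k : Γ) ∈ Subgroup.closure (Set.range S.x) := by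
    haveI : (Subgroup.closure (Set.range S.x)).Normal := by
      refine ⟨fun m hm g => ?_⟩
      obtain ⟨u, hu', c, hc, rfl⟩ := Subgroup.mem_sup_of_normal_right.1 (hgenΓ.ge (Subgroup.mem_top g))
      have hcn : c * m = m * c := (Subgroup.mem_center_iff.1 hc m).symm
      rw [mul_assoc u c m, hcn, mul_inv_rev, ← mul_assoc u m c, mul_assoc (u * m) c, mul_inv_cancel_left]
      exact mul_mem (mul_mem hu' hm) (inv_mem hu')
    refine Solv.commutator_le_of_gen _ (Set.range S.x) hgenΓ (fun p hp r hr => ?_) (hσ.2.2 k.2)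
    have hp' := Subgroup.subset_closure (k := Set.range S.x) hp
    have hr' := Subgroup.subset_closure (k := Set.range S.x) hr
    rw [commutatorElement_def]
    exact mul_mem (mul_mem (mul_mem hp' hr') (inv_mem hp')) (inv_mem hr')
  obtain ⟨i, hi, z, hz, l, e⟩ := S.cover Z hval hk
  have hzk : S.σ z = 1 := by
    obtain ⟨w, -, rfl⟩ := hz
    exact w.2
  have hσe := congrArg S.σ e
  rw [MonoidHom.mem_ker.1 k.2, map_mul, map_mul, hzk, one_mul] at hσe
  have hlH : S.σ (ev S.y l) ∈ H := by
    rw [map_ev]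
    exact (Subgroup.closure_le H).2 (by rintro _ ⟨s, rfl⟩; exact hH s) (ev_mem _ _)
  have hi0 : i = 0 := S.coset_inj H hH hgen hcard hi S.valid.npos (by
    rw [S.t_zero, map_one, inv_one, mul_one, eq_inv_of_mul_eq_one_right hσe.symm]
    exact inv_mem hlH)
  subst hi0
  rw [S.t_zero, map_one, mul_one] at hσe
  rw [S.t_zero, mul_one, S.inj l hσe.symm, mul_one] at e
  rw [← e] at hz
  obtain ⟨w, hw, hwe⟩ := hz
  rwa [show k = w from Subtype.ext hwe.symm]

end Setup

end Cfsg.Agent.Lie.CentralTable
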