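import Mathlib
import Cfsg.Prelude.Def_KGroupFacts
import Cfsg.Agent.Lib.Lie.CentralTable
import Cfsg.Agent.Lib.Lie.CentralStage

/-!
A signed coset table gives a double cover: the group generated by the pairs (generator, signed
permutation), with an invariant signed relation which forces the kernel to consist of the global signs.
-/

set_option autoImplicit false

namespace Cfsg.Agent.Lie.CentralTable

/-- Signs on a coset table with an invariant relation. -/
structure Signs where
  /-- sign of an edge -/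
  bit : Janko.Tree Bool
  /-- the relation -/
  rel : ℕ → ℕ → Bool
  /-- a spanning tree of the relation -/
  par : Janko.Tree (ℕ × Bool)
  /-- depth in the tree -/
  rank : Janko.Tree ℕ
  /-- a relator of sign one -/
  word : List Bool

namespace Signs

variable (C : Cert) (D : Signs)

/-- Index of a signed point. -/
def pidx (i : ℕ) (z : Bool) : ℕ := 2 * i + z.toNat

/-- Image of a signed point under a generator. -/
def img (s : Bool) (a : ℕ) : ℕ :=
  pidx (C.step (a / 2) s) ((a % 2 == 1) ^^ D.bit.get (Cert.edge (a / 2) s))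

/-- The other point over the same coset. -/
def flip (a : ℕ) : ℕ := a / 2 * 2 + (1 - a % 2)

/-- The images of a related pair are related. -/
def pairCheck (a b : ℕ) : Bool :=
  D.rel (D.img C false a) (D.img C false b) &&
    (D.rel (D.img C true a) (D.img C true b) && D.rel (flip a) (flip b))

/-- Invariance of one row, scanning all columns. -/
def rowCheck (a : ℕ) : Bool := (List.range (2 * C.N)).all fun b => !D.rel a b || D.pairCheck C a b

/-- Invariance of one row, for a relation given by lists of neighbours. -/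
def listCheck (nb : Janko.Tree (List ℕ)) (a : ℕ) : Bool := (nb.get a).all fun b => D.pairCheck C a b

theorem pair_of_rowCheck {a b : ℕ} (h : D.rowCheck C a = true) (hb : b < 2 * C.N) (hab : D.rel a b = true) :
    D.pairCheck C a b = true := by
  have := List.all_eq_true.1 h b (List.mem_range.2 hb)
  rwa [hab, Bool.not_true, Bool.false_or] at this

/-- The spanning tree. -/
def treeOK (n i : ℕ) : Bool :=
  Nat.beq i 0 || ((Nat.blt (D.par.get i).1 n && Nat.blt (D.rank.get (D.par.get i).1) (D.rank.get i)) &&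
    (D.rel (pidx (D.par.get i).1 false) (pidx i (D.par.get i).2) &&
      !D.rel (pidx (D.par.get i).1 false) (pidx i (!(D.par.get i).2))))

/-- Sign along a word, starting at a point. -/
def parity : ℕ → List Bool → Bool
  | _, [] => false
  | i, s :: w => D.bit.get (Cert.edge i s) ^^ parity (C.step i s) w

/-- The special words. -/
def wordOK : Bool :=
  (C.relCheck D.word && (Nat.beq (C.endp 0 D.word) 0 && D.parity C 0 D.word)) &&
    ((C.relCheck (List.replicate C.m0 false) && (Nat.beq (C.endp 0 (List.replicate C.m0 false)) 0 &&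
      !D.parity C 0 (List.replicate C.m0 false))) &&
    (C.relCheck (List.replicate C.m1 true) && (Nat.beq (C.endp 0 (List.replicate C.m1 true)) 0 &&
      !D.parity C 0 (List.replicate C.m1 true))))

end Signs

/-- The data of a double cover. -/
structure DoubleSetup (C : Cert) (D : Signs) (G : Type*) [Group G] [Finite G] where
  φ : G →* Equiv.Perm (Fin C.deg)
  faithful : Function.Injective φ
  /-- generators -/
  x : Bool → G
  rep_x : ∀ s, Rep φ (x s) (bif s then C.g1 else C.g0)
  /-- the subgroup of the labels -/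
  H : Subgroup G
  /-- representatives -/
  t : Fin C.N → G
  step_lt : ∀ i < C.N, ∀ s, C.step i s < C.N
  edge : ∀ (i : Fin C.N) s, t i * x s * (t ⟨C.step i s, step_lt i i.2 s⟩)⁻¹ ∈ H
  inj : ∀ i j, t i * (t j)⁻¹ ∈ H → i = j
  gen : Subgroup.closure (Set.range x) = ⊤
  npos : 0 < C.N
  odd : Odd C.m0 ∧ Odd C.m1
  invariant : ∀ a < 2 * C.N, ∀ b < 2 * C.N, D.rel a b = true → D.pairCheck C a b = true
  tree : ∀ i < C.N, D.treeOK C.N i = true
  words : D.wordOK C = true

namespace DoubleSetup

variable {C : Cert} {D : Signs} {G : Type*} [Group G] [Finite G] (S : DoubleSetup C D G)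

include S

/-- Signed points. -/
abbrev Pt (C : Cert) : Type := Fin C.N × Bool

instance finite_ambient : Finite (G × (Equiv.Perm (Pt C))ᵐᵒᵖ) :=
  haveI : Finite (Equiv.Perm (Pt C))ᵐᵒᵖ := Finite.of_equiv _ MulOpposite.opEquiv
  inferInstance

/-- A generator on the signed points. -/
def move (s : Bool) (a : Pt C) : Pt C :=
  (⟨C.step a.1 s, S.step_lt a.1 a.1.2 s⟩, a.2 ^^ D.bit.get (Cert.edge a.1 s))

theorem move_injective (s : Bool) : Function.Injective (S.move s) := by
  rintro ⟨i, z⟩ ⟨j, w⟩ e
  simp only [move, Prod.mk.injEq] at e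
  have hij : i = j := by
    refine S.inj i j ?_
    have h1 := S.edge i s
    have h2 := inv_mem (S.edge j s)
    rw [show (⟨C.step i s, S.step_lt i i.2 s⟩ : Fin C.N) = ⟨C.step j s, S.step_lt j j.2 s⟩ from e.1] at h1
    have := mul_mem h1 h2
    group at this ⊢
    exact this
  subst hij
  refine Prod.ext rfl ?_
  simpa using e.2

/-- A generator as a signed permutation. -/
noncomputable def mperm (s : Bool) : Equiv.Perm (Pt C) :=
  Equiv.ofBijective (S.move s) (Finite.injective_iff_bijective.1 (S.move_injective s))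

/-- A generator of the cover. -/
noncomputable def gens (s : Bool) : G × (Equiv.Perm (Pt C))ᵐᵒᵖ := (S.x s, MulOpposite.op (S.mperm s))

/-- The cover. -/
noncomputable def cover : Subgroup (G × (Equiv.Perm (Pt C))ᵐᵒᵖ) := Subgroup.closure (Set.range S.gens)

/-- The projection. -/
noncomputable def proj : S.cover →* G := (MonoidHom.fst G _).comp S.cover.subtype

theorem proj_surjective : Function.Surjective S.proj := by
  rw [← MonoidHom.range_eq_top, proj, MonoidHom.range_comp, Subgroup.range_subtype, cover,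
    MonoidHom.map_closure, ← Set.range_comp]
  exact S.gen

/-- The relation on signed points. -/
def related (D : Signs) (a b : Pt C) : Bool := D.rel (Signs.pidx a.1 a.2) (Signs.pidx b.1 b.2)

/-- The invariant of the elements of the cover. -/
def Good (g : G) (p : Equiv.Perm (Pt C)) : Prop :=
  (∀ a, S.t a.1 * g * (S.t (p a).1)⁻¹ ∈ S.H) ∧ (∀ a : Pt C, p (a.1, !a.2) = ((p a).1, !(p a).2)) ∧
    ∀ a b, related D a b = true → related D (p a) (p b) = true

omit S in
theorem pidx_lt (a : Pt C) : Signs.pidx a.1 a.2 < 2 * C.N := by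
  have := a.1.2
  cases a.2 <;> simp [Signs.pidx] <;> omega

theorem img_eq (s : Bool) (a : Pt C) :
    D.img C s (Signs.pidx a.1 a.2) = Signs.pidx (S.move s a).1 (S.move s a).2 := by
  obtain ⟨i, z⟩ := a
  have h1 : Signs.pidx (i : ℕ) z / 2 = i := by cases z <;> simp [Signs.pidx] <;> omega
  have h2 : (Signs.pidx (i : ℕ) z % 2 == 1) = z := by cases z <;> simp [Signs.pidx] <;> omega
  rw [Signs.img, h1, h2]
  rfl

theorem good_gen (s : Bool) : S.Good (S.x s) (S.mperm s) := by
  refine ⟨fun a => S.edge a.1 s, fun a => ?_, fun a b => ?_⟩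
  · show S.move s (a.1, !a.2) = ((S.move s a).1, !(S.move s a).2)
    simp [move]
  · intro hab
    have h := S.invariant _ (pidx_lt a) _ (pidx_lt b) hab
    simp only [Signs.pairCheck, Bool.and_eq_true] at h
    show related D (S.move s a) (S.move s b) = true
    cases s
    · have := h.1; rwa [S.img_eq, S.img_eq] at this
    · have := h.2.1; rwa [S.img_eq, S.img_eq] at this

theorem related_shift (a b : Pt C) (hab : related D a b = true) : related D (a.1, !a.2) (b.1, !b.2) = true := by
  have h := S.invariant _ (pidx_lt a) _ (pidx_lt b) hab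
  simp only [Signs.pairCheck, Bool.and_eq_true] at h
  have key : ∀ c : Pt C, Signs.flip (Signs.pidx c.1 c.2) = Signs.pidx c.1 (!c.2) := by
    intro c
    cases c.2 <;> simp [Signs.flip, Signs.pidx] <;> omega
  rw [key, key] at h
  exact h.2.2

theorem good {e : G × (Equiv.Perm (Pt C))ᵐᵒᵖ} (he : e ∈ S.cover) : S.Good e.1 e.2.unop := by
  have he' : e ∈ Submonoid.closure (Set.range S.gens) := by
    have : e ∈ (Subgroup.closure (Set.range S.gens)).toSubmonoid := he
    rwa [Subgroup.closure_toSubmonoid_of_finite] at this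
  clear he
  induction he' using Submonoid.closure_induction with
  | mem s hs =>
    obtain ⟨s, rfl⟩ := hs
    exact S.good_gen s
  | one =>
    refine ⟨fun a => ?_, fun a => rfl, fun a b hab => hab⟩
    show S.t a.1 * 1 * (S.t a.1)⁻¹ ∈ S.H
    rw [mul_one, mul_inv_cancel]
    exact one_mem _
  | mul g h _ _ ig ih =>
    obtain ⟨g1, g2, g3⟩ := ig
    obtain ⟨h1, h2, h3⟩ := ih
    refine ⟨fun a => ?_, fun a => ?_, fun a b => ?_⟩
    · show S.t a.1 * (g.1 * h.1) * (S.t (h.2.unop (g.2.unop a)).1)⁻¹ ∈ S.H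
      have := mul_mem (g1 a) (h1 (g.2.unop a))
      group at this ⊢
      exact this
    · show h.2.unop (g.2.unop (a.1, !a.2)) = _
      rw [g2, h2]
      rfl
    · intro hab
      exact h3 _ _ (g3 a b hab)

theorem point_eq {p : Equiv.Perm (Pt C)} (hp : S.Good 1 p) (a : Pt C) : (p a).1 = a.1 := by
  refine (S.inj a.1 (p a).1 ?_).symm
  have := hp.1 a
  rwa [mul_one] at this

/-- A kernel element is a global sign. -/
theorem sign_const {p : Equiv.Perm (Pt C)} (hp : S.Good 1 p) (i : Fin C.N) :
    (p (i, false)).2 = (p (⟨0, S.npos⟩, false)).2 := by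
  obtain ⟨i, hi⟩ := i
  induction hr0 : D.rank.get i using Nat.strong_induction_on generalizing i with
  | _ r ih =>
    rcases Nat.eq_zero_or_pos i with rfl | h0
    · rfl
    have h := S.tree i hi
    simp only [Signs.treeOK, Bool.or_eq_true, Nat.beq_eq, Bool.and_eq_true, Nat.blt_eq, Bool.not_eq_true'] at h
    obtain ⟨⟨hpar, hlt⟩, he, hne⟩ := h.resolve_left (by omega)
    rw [← ih _ (hr0 ▸ hlt) (D.par.get i).1 hpar rfl]
    have hval : ∀ (j : Fin C.N) (z : Bool), p (j, z) = (j, (p (j, false)).2 ^^ z) := by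
      intro j z
      cases z
      · rw [Bool.xor_false]
        exact Prod.ext (S.point_eq hp (j, false)) rfl
      · rw [Bool.xor_true]
        refine (hp.2.1 (j, false)).trans ?_
        rw [S.point_eq hp (j, false)]
    have e1 : related D ((⟨(D.par.get i).1, hpar⟩ : Fin C.N), false) (⟨i, hi⟩, (D.par.get i).2) = true := he
    have e2 : related D ((⟨(D.par.get i).1, hpar⟩ : Fin C.N), false) (⟨i, hi⟩, !(D.par.get i).2) = false := hne
    have hr := hp.2.2 _ _ e1
    rw [hval, hval ⟨i, hi⟩, Bool.xor_false] at hr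
    generalize (p ((⟨(D.par.get i).1, hpar⟩ : Fin C.N), false)).2 = u at hr ⊢
    generalize (p ((⟨i, hi⟩ : Fin C.N), false)).2 = v at hr ⊢
    cases u <;> cases v
    · rfl
    · rw [Bool.true_xor] at hr
      exact Bool.noConfusion (hr.symm.trans e2)
    · rw [Bool.false_xor] at hr
      exact Bool.noConfusion ((S.related_shift _ _ hr).symm.trans e2)
    · rfl

/-- The value of a word in the cover. -/
noncomputable def wordElt (w : List Bool) : S.cover :=
  ⟨ev S.gens w, ev_mem S.gens w⟩

theorem wordElt_fst (w : List Bool) : S.proj (S.wordElt w) = ev S.x w := by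
  show (ev S.gens w).1 = _
  exact map_ev (MonoidHom.fst G _) S.gens w

theorem walk : ∀ (w : List Bool) (a : Pt C), ((((ev S.gens w).2.unop a).1 : Fin C.N) : ℕ) = C.endp a.1 w ∧
    ((ev S.gens w).2.unop a).2 = (a.2 ^^ D.parity C a.1 w)
  | [], a => by simp [ev, Cert.endp, Signs.parity]
  | s :: w, a => by
    obtain ⟨h1, h2⟩ := walk w (S.move s a)
    rw [ev_cons]
    show ((((ev S.gens w).2.unop (S.move s a)).1 : Fin C.N) : ℕ) = _ ∧ _
    refine ⟨h1, ?_⟩
    show ((ev S.gens w).2.unop (S.move s a)).2 = _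
    rw [h2]
    show ((a.2 ^^ D.bit.get (Cert.edge a.1 s)) ^^ D.parity C (C.step a.1 s) w) = _
    rw [Bool.xor_assoc]
    rfl

theorem rel_one {w : List Bool} (hw : C.relCheck w = true) : ev S.x w = 1 := by
  refine eq_of_rep S.faithful fun k => ?_
  simp only [Cert.relCheck, List.all_eq_true, List.mem_range, Nat.beq_eq] at hw
  rw [rep_ev S.rep_x, hw k k.2, map_one]
  rfl

theorem ker_sign {e : S.cover} (he : S.proj e = 1) :
    (e = 1 ↔ ((e : G × (Equiv.Perm (Pt C))ᵐᵒᵖ).2.unop (⟨0, S.npos⟩, false)).2 = false) := by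
  have he1 : (e : G × (Equiv.Perm (Pt C))ᵐᵒᵖ).1 = 1 := he
  have hg := S.good e.2
  rw [he1] at hg
  constructor
  · rintro rfl; rfl
  · intro h
    refine Subtype.ext (Prod.ext he1 (MulOpposite.unop_injective (Equiv.ext fun a => ?_)))
    show (e : G × (Equiv.Perm (Pt C))ᵐᵒᵖ).2.unop a = a
    obtain ⟨i, z⟩ := a
    have h0 := S.sign_const hg i
    rw [h] at h0
    have hp : (e : G × (Equiv.Perm (Pt C))ᵐᵒᵖ).2.unop (i, false) = (i, false) :=
      Prod.ext (S.point_eq hg (i, false)) h0
    cases z
    · exact hp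
    · refine (hg.2.1 (i, false)).trans ?_
      rw [hp]
      rfl

theorem word_facts : S.proj (S.wordElt D.word) = 1 ∧ S.wordElt D.word ≠ 1 ∧
    S.wordElt (List.replicate C.m0 false) = 1 ∧ S.wordElt (List.replicate C.m1 true) = 1 := by
  have h := S.words
  simp only [Signs.wordOK, Bool.and_eq_true, Nat.beq_eq, Bool.not_eq_true'] at h
  obtain ⟨⟨hr, -, hp⟩, ⟨hr0, -, hp0⟩, hr1, -, hp1⟩ := h
  have hk : ∀ w, C.relCheck w = true → S.proj (S.wordElt w) = 1 := fun w hw => by
    rw [S.wordElt_fst, S.rel_one hw]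
  have hs : ∀ w, ((S.wordElt w : G × (Equiv.Perm (Pt C))ᵐᵒᵖ).2.unop (⟨0, S.npos⟩, false)).2 = D.parity C 0 w :=
    fun w => by
      refine (S.walk w (⟨0, S.npos⟩, false)).2.trans ?_
      exact Bool.false_xor _
  refine ⟨hk _ hr, fun e => ?_, (S.ker_sign (hk _ hr0)).2 (by rw [hs, hp0]), (S.ker_sign (hk _ hr1)).2 (by rw [hs, hp1])⟩
  have := (S.ker_sign (hk _ hr)).1 e
  rw [hs, hp] at this
  exact Bool.noConfusion this

/-- The double cover is a stem extension with kernel of order two. -/
theorem stem : Cfsg.IsStemExtension S.proj ∧ Nat.card S.proj.ker = 2 := by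
  obtain ⟨hw1, hw2, hm0, hm1⟩ := S.word_facts
  let f : S.proj.ker → Bool := fun e =>
    ((e.1 : G × (Equiv.Perm (Pt C))ᵐᵒᵖ).2.unop (⟨0, S.npos⟩, false)).2
  have hval : ∀ (e : S.proj.ker) (a : Pt C),
      (e.1 : G × (Equiv.Perm (Pt C))ᵐᵒᵖ).2.unop a = (a.1, f e ^^ a.2) := by
    intro e a
    obtain ⟨i, z⟩ := a
    have he1 : (e.1 : G × (Equiv.Perm (Pt C))ᵐᵒᵖ).1 = 1 := e.2
    have hg := S.good e.1.2
    rw [he1] at hg
    have h0 := S.sign_const hg i
    have hp : (e.1 : G × (Equiv.Perm (Pt C))ᵐᵒᵖ).2.unop (i, false) = (i, f e) :=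
      Prod.ext (S.point_eq hg (i, false)) h0
    cases z
    · rw [Bool.xor_false]; exact hp
    · refine (hg.2.1 (i, false)).trans ?_
      rw [hp, Bool.xor_true]
  have hinj : Function.Injective f := fun e e' h => by
    refine Subtype.ext (Subtype.ext (Prod.ext ((e.2 : _ = _).trans (e'.2 : _ = _).symm)
      (MulOpposite.unop_injective (Equiv.ext fun a => ?_))))
    rw [hval e a, hval e' a, h]
  have hcentre : S.proj.ker ≤ Subgroup.center S.cover := by
    intro e he
    rw [Subgroup.mem_center_iff]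
    intro g
    have he1 : (e : G × (Equiv.Perm (Pt C))ᵐᵒᵖ).1 = 1 := he
    refine Subtype.ext (Prod.ext (by
      show (g : G × (Equiv.Perm (Pt C))ᵐᵒᵖ).1 * _ = _ * _
      rw [he1, mul_one, one_mul]) (MulOpposite.unop_injective (Equiv.ext fun a => ?_)))
    show (e : G × (Equiv.Perm (Pt C))ᵐᵒᵖ).2.unop ((g : G × (Equiv.Perm (Pt C))ᵐᵒᵖ).2.unop a) =
      (g : G × (Equiv.Perm (Pt C))ᵐᵒᵖ).2.unop ((e : G × (Equiv.Perm (Pt C))ᵐᵒᵖ).2.unop a)
    rw [hval ⟨e, he⟩ a, hval ⟨e, he⟩]
    generalize f ⟨e, he⟩ = b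
    cases b
    · simp
    · rw [Bool.true_xor, Bool.true_xor]
      exact ((S.good g.2).2.1 a).symm
  have hcard : Nat.card S.proj.ker = 2 := by
    refine le_antisymm ((Nat.card_le_card_of_injective f hinj).trans (le_of_eq (by simp))) ?_
    refine Finite.one_lt_card_iff_nontrivial.2 ⟨⟨⟨_, hw1⟩, 1, fun e => hw2 (congrArg Subtype.val e)⟩⟩
  refine ⟨⟨S.proj_surjective, hcentre, fun e he => ?_⟩, hcard⟩
  rw [← Abelianization.ker_of, MonoidHom.mem_ker]
  have hpow : ∀ g : S.cover, Abelianization.of g ^ (C.m0 * C.m1) = 1 := by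
    rintro ⟨g, hg⟩
    induction hg using Subgroup.closure_induction with
    | mem s hs =>
      obtain ⟨s, rfl⟩ := hs
      rw [← map_pow]
      have hex : (⟨S.gens s, Subgroup.subset_closure ⟨s, rfl⟩⟩ : S.cover) ^ (bif s then C.m1 else C.m0) = 1 := by
        refine Eq.trans (Subtype.ext ?_) (show S.wordElt (List.replicate (bif s then C.m1 else C.m0) s) = 1 from ?_)
        · show _ = ev S.gens _
          rw [ev, List.map_replicate, List.prod_replicate]
          rfl
        · cases s
          exacts [hm0, hm1]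
      cases s
      · simp only [cond_false] at hex
        rw [pow_mul, hex, one_pow, map_one]
      · simp only [cond_true] at hex
        rw [mul_comm, pow_mul, hex, one_pow, map_one]
    | one =>
      rw [show (⟨1, one_mem _⟩ : S.cover) = 1 from rfl, map_one, one_pow]
    | mul g h hg hh ig ih =>
      rw [show (⟨g * h, mul_mem hg hh⟩ : S.cover) = ⟨g, hg⟩ * ⟨h, hh⟩ from rfl, map_mul, mul_pow, ig, ih, one_mul]
    | inv g hg ig =>
      rw [show (⟨g⁻¹, inv_mem hg⟩ : S.cover) = ⟨g, hg⟩⁻¹ from rfl, map_inv, inv_pow, ig, inv_one]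
  have h2 : Abelianization.of e ^ 2 = 1 := by
    have h := pow_card_eq_one' (x := (⟨e, he⟩ : S.proj.ker))
    rw [hcard] at h
    have h' : e ^ 2 = 1 := congrArg Subtype.val h
    rw [← map_pow, h', map_one]
  obtain ⟨k, hk⟩ := S.odd.1.mul S.odd.2
  have := hpow e
  rwa [hk, pow_succ, pow_mul, h2, one_pow, one_mul] at this

end DoubleSetup

/-- Cyclic multiplier of order two from a double cover and a bound. -/
theorem DoubleSetup.hasCyclicSchur.{u} {G : Type u} [Group G] [Finite G] {C : Cert} {D : Signs} (S : DoubleSetup C D G)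
    (h : ∀ (Γ : Type u) [Group Γ] [Finite Γ] (σ : Γ →* G), Cfsg.IsStemExtension σ →
      ∃ g : σ.ker, g ^ 2 = 1 ∧ ∀ k : σ.ker, k ∈ Subgroup.zpowers g) :
    Cfsg.HasCyclicSchurMultiplier G 2 := by
  haveI : Fact (Nat.Prime 2) := ⟨Nat.prime_two⟩
  exact Solv.hasCyclicSchur_of ⟨S.cover, inferInstance, inferInstance, S.proj, S.stem.1,
    ⟨mulEquivOfPrimeCardEq (p := 2) S.stem.2 (by simp)⟩⟩ h

end Cfsg.Agent.Lie.CentralTable
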