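import Mathlib
import Cfsg.Prelude.Def_KGroupFacts
import Cfsg.Agent.Lib.Solv.SchurSmall
import Cfsg.Agent.Lib.Lie.CentralStage
import Cfsg.Agent.Lib.Lie.CentralDouble

/-!
Stem kernels which are four-groups: a bound from a central coset table, and an example from two signed
coset tables with the same generators.
-/

set_option autoImplicit false
set_option linter.style.haveILetI false

namespace Cfsg.Agent.Lie.CentralTable

/-- The targets of a stage with a quotient four-group, generated by the parameters `p₀` and `p₁`. -/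
def Cert.fourTargets (C : Cert) (q p₀ p₁ : ℕ) (n₀ n₁ : List ℤ) : Bool :=
  C.combos.map Prod.fst == vsmul (2 * (q : ℤ)) (vunit C.P p₀) :: vsmul (2 * (q : ℤ)) (vunit C.P p₁) ::
    (((List.range C.P).filter fun p => !Nat.beq p p₀ && !Nat.beq p p₁).map fun p =>
      vadd (vsmul (q : ℤ) (vunit C.P p)) (vadd (vsmul (-(q : ℤ) * n₀.getD p 0) (vunit C.P p₀))
        (vsmul (-(q : ℤ) * n₁.getD p 0) (vunit C.P p₁))))

namespace Setup

variable {C : Cert} {Γ G : Type*} [Group Γ] [Group G] (S : Setup C Γ G) [Finite Γ]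
include S

/-- The stage with a quotient four-group. -/
theorem four_stage [Finite G] (hσ : Cfsg.IsStemExtension S.σ) (H : Subgroup G) (hH : ∀ s, S.σ (S.y s) ∈ H)
    (hgen : Subgroup.closure (Set.range fun s => S.σ (S.x s)) = ⊤)
    (hcard : C.N * Nat.card H ≤ Nat.card G) {q p₀ p₁ : ℕ} (n₀ n₁ : List ℤ)
    (hker : ∀ z : S.σ.ker, z ^ q = 1 → z = 1) (hp₀ : p₀ < C.P) (hp₁ : p₁ < C.P) (hlen : C.lenCheck = true)
    (hT : C.fourTargets q p₀ p₁ n₀ n₁ = true) :
    ∃ a b : S.σ.ker, a ^ 2 = 1 ∧ b ^ 2 = 1 ∧ ∀ k : S.σ.ker, k ∈ Subgroup.closure {a, b} := by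
  letI := S.kerGroup
  rw [Cert.fourTargets, beq_iff_eq] at hT
  have hmemT : ∀ v ∈ C.combos.map Prod.fst, lin S.u v 0 = 0 := by
    intro v hv
    obtain ⟨c, hc, rfl⟩ := List.mem_map.1 hv
    exact S.combo hc
  rw [hT] at hmemT
  have hq : ∀ e : Additive S.σ.ker, (q : ℤ) • e = 0 → e = 0 := by
    intro e he
    have h7 : (Additive.toMul e) ^ q = 1 := by
      have := congrArg Additive.toMul he
      rwa [natCast_zsmul, toMul_nsmul, toMul_zero] at this
    exact Additive.toMul.injective (hker _ h7)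
  have htwo : ∀ p, p < C.P → lin S.u (vsmul (2 * (q : ℤ)) (vunit C.P p)) 0 = 0 →
      (Additive.toMul (S.u p)) ^ 2 = 1 := by
    intro p hp h
    rw [lin_vsmul, lin_vunit _ hp, mul_comm, mul_smul] at h
    have := congrArg Additive.toMul (hq _ h)
    rwa [toMul_zsmul, zpow_ofNat, toMul_zero] at this
  have hu : ∀ p < C.P, ∃ i j : ℤ, S.u p = i • S.u p₀ + j • S.u p₁ := by
    intro p hp
    by_cases hp' : p = p₀
    · exact ⟨1, 0, by rw [hp', one_smul, zero_smul, add_zero]⟩
    by_cases hp'' : p = p₁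
    · exact ⟨0, 1, by rw [hp'', one_smul, zero_smul, zero_add]⟩
    refine ⟨n₀.getD p 0, n₁.getD p 0, sub_eq_zero.1 (hq _ ?_)⟩
    have := hmemT _ (List.mem_cons_of_mem _ (List.mem_cons_of_mem _ (List.mem_map.2 ⟨p, List.mem_filter.2
      ⟨List.mem_range.2 hp, by
        simp only [Bool.and_eq_true, Bool.not_eq_true', ← Bool.not_eq_true, Nat.beq_eq]
        exact ⟨hp', hp''⟩⟩, rfl⟩)))
    simp only [lin_vadd, lin_vsmul, lin_vunit _ hp, lin_vunit _ hp₀, lin_vunit _ hp₁] at this
    rw [smul_sub, smul_add, smul_smul, smul_smul, sub_eq_add_neg, neg_add, ← neg_smul, ← neg_smul]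
    simpa [neg_mul] using this
  refine ⟨Additive.toMul (S.u p₀), Additive.toMul (S.u p₁), htwo _ hp₀ (hmemT _ List.mem_cons_self),
    htwo _ hp₁ (hmemT _ (List.mem_cons_of_mem _ List.mem_cons_self)), fun k => ?_⟩
  set W := Subgroup.closure ({Additive.toMul (S.u p₀), Additive.toMul (S.u p₁)} : Set S.σ.ker) with hW
  have hlin : ∀ (v : List ℤ) (j : ℕ), j + v.length ≤ C.P → Additive.toMul (lin S.u v j) ∈ W := by
    intro v
    induction v with
    | nil => exact fun j _ => one_mem _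
    | cons a v ih =>
      intro j hj
      simp only [List.length_cons] at hj
      obtain ⟨m, l, hm⟩ := hu j (by omega)
      rw [lin, toMul_add, toMul_zsmul]
      refine mul_mem (Subgroup.zpow_mem _ ?_ _) (ih (j + 1) (by omega))
      rw [hm, toMul_add, toMul_zsmul, toMul_zsmul, hW]
      exact mul_mem (Subgroup.zpow_mem _ (Subgroup.subset_closure (Set.mem_insert _ _)) _)
        (Subgroup.zpow_mem _ (Subgroup.subset_closure (Set.mem_insert_of_mem _ (Set.mem_singleton _))) _)
  let Z : Subgroup Γ := W.map S.σ.ker.subtype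
  have hval : ∀ v < C.V, (S.val v : Γ) ∈ Z := by
    intro v hv
    refine ⟨S.val v, ?_, rfl⟩
    have hl := Nat.le_of_ble_eq_true (List.all_eq_true.1 hlen v (List.mem_range.2 hv))
    have h := congrArg Additive.toMul (S.main_lin v hv)
    rw [show S.val v = Additive.toMul (S.aval v) from rfl, h]
    exact hlin _ 0 (by omega)
  have hgenΓ : Subgroup.closure (Set.range S.x) ⊔ Subgroup.center Γ = ⊤ :=
    Solv.closure_sup_center_eq_top S.σ hσ.2.1 _ (by rw [← Set.range_comp]; exact hgen)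
  have hk : (k : Γ) ∈ Subgroup.closure (Set.range S.x) := by
    haveI : (Subgroup.closure (Set.range S.x)).Normal := by
      refine ⟨fun m hm g => ?_⟩
      obtain ⟨u, hu', c, hc, rfl⟩ := Subgroup.mem_sup_of_normal_right.1 (hgenΓ.ge (Subgroup.mem_top g))
      have hcn : c * m = m * c := (Subgroup.mem_center_iff.1 hc m).symm
      rw [mul_assoc u c m, hcn, mul_inv_rev, ← mul_assoc u m c, mul_assoc (u * m) c, mul_inv_cancel_left]
      exact mul_mem (mul_mem hu' hm) (inv_mem hu')
    refine Solv.commutator_le_of_gen _ (Set.range S.x) hgenΓ (fun p hp r hr => ?_) (hσ.2.2 k.2)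
    have hp' := Subgroup.subset_closure (k := Set.range S.x) hp
    have hr' := Subgroup.subset_closure (k := Set.range S.x) hr
    rw [commutatorElement_def]
    exact mul_mem (mul_mem (mul_mem hp' hr') (inv_mem hp')) (inv_mem hr')
  obtain ⟨i, hi, z, hz, l, e⟩ := S.cover Z hval hk
  have hzk : S.σ z = 1 := by
    obtain ⟨w, -, rfl⟩ := hz
    exact w.2
  have hσe := congrArg S.σ e
  rw [MonoidHom.mem_ker.1 k.2, map_mul, map_mul, hzk, one_mul] at hσe
  have hlH : S.σ (ev S.y l) ∈ H := by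
    rw [map_ev]
    exact (Subgroup.closure_le H).2 (by rintro _ ⟨s, rfl⟩; exact hH s) (ev_mem _ _)
  have hi0 : i = 0 := S.coset_inj H hH hgen hcard hi S.valid.npos (by
    rw [S.t_zero, map_one, inv_one, mul_one, eq_inv_of_mul_eq_one_right hσe.symm]
    exact inv_mem hlH)
  subst hi0
  rw [S.t_zero, map_one, mul_one] at hσe
  rw [S.t_zero, mul_one, S.inj l hσe.symm, mul_one] at e
  rw [← e] at hz
  obtain ⟨w, hw, hwe⟩ := hz
  rwa [show k = w from Subtype.ext hwe.symm]

end Setup

/-- A four-group as a Schur multiplier, from two double covers with the same generators and a bound. -/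
theorem hasKleinSchur.{u} {G : Type u} [Group G] [Finite G] {C : Cert} {D₁ D₂ : Signs}
    (S₁ : DoubleSetup C D₁ G) (S₂ : DoubleSetup C D₂ G) (hx : S₁.x = S₂.x)
    (hp : C.relCheck D₁.word = true ∧ C.relCheck D₂.word = true ∧
      D₂.parity C 0 D₁.word = false ∧ D₁.parity C 0 D₂.word = false)
    (h : ∀ (Γ : Type u) [Group Γ] [Finite Γ] (σ : Γ →* G), Cfsg.IsStemExtension σ →
      ∃ a b : σ.ker, a ^ 2 = 1 ∧ b ^ 2 = 1 ∧ ∀ k : σ.ker, k ∈ Subgroup.closure {a, b}) :
    Cfsg.HasSchurMultiplier G (Multiplicative (ZMod 2 × ZMod 2)) := by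
  refine ⟨?_, fun Γ _ _ σ hσ => ?_⟩
  swap
  · obtain ⟨a, b, ha, hb, hab⟩ := h Γ σ hσ
    letI : CommGroup σ.ker := { (inferInstance : Group σ.ker) with
      mul_comm := fun x y => Subtype.ext (Subgroup.mem_center_iff.1 (hσ.2.1 y.2) x) }
    let φ : ∀ c : σ.ker, c ^ 2 = 1 → (ZMod 2 →+ Additive σ.ker) := fun c hc =>
      ZMod.lift 2 ⟨zmultiplesHom _ (Additive.ofMul c), by
        rw [zmultiplesHom_apply, natCast_zsmul, ← ofMul_pow, hc, ofMul_one]⟩
    refine ⟨((φ a ha).coprod (φ b hb)).toMultiplicativeLeft, MonoidHom.range_eq_top.1 (top_le_iff.1 ?_)⟩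
    intro k _
    refine (Subgroup.closure_le _).2 ?_ (hab k)
    have h1 : ∀ c : σ.ker, ∀ hc : c ^ 2 = 1, φ c hc 1 = Additive.ofMul c := fun c hc => by
      show ZMod.lift 2 _ (1 : ZMod 2) = _
      rw [show (1 : ZMod 2) = ((1 : ℤ) : ZMod 2) by norm_num, ZMod.lift_coe, zmultiplesHom_apply, one_smul]
    intro c hc
    rcases hc with e | e <;> subst c
    · exact ⟨Multiplicative.ofAdd (1, 0), show Additive.toMul (φ a ha 1 + φ b hb 0) = a by
        rw [map_zero, add_zero, h1 a ha, toMul_ofMul]⟩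
    · exact ⟨Multiplicative.ofAdd (0, 1), show Additive.toMul (φ a ha 0 + φ b hb 1) = b by
        rw [map_zero, zero_add, h1 b hb, toMul_ofMul]⟩
  let g1 : Bool → S₁.cover := fun s => ⟨S₁.gens s, Subgroup.subset_closure ⟨s, rfl⟩⟩
  let g2 : Bool → S₂.cover := fun s => ⟨S₂.gens s, Subgroup.subset_closure ⟨s, rfl⟩⟩
  let g : Bool → S₁.cover × S₂.cover := fun s => (g1 s, g2 s)
  let P := Subgroup.closure (Set.range g)
  have hagree : ∀ e ∈ P, S₁.proj e.1 = S₂.proj e.2 := by
    intro e he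
    induction he using Subgroup.closure_induction with
    | mem s hs => obtain ⟨s, rfl⟩ := hs; exact congrFun hx s
    | one => simp
    | mul u v _ _ iu iv => simp only [Prod.fst_mul, Prod.snd_mul, map_mul, iu, iv]
    | inv u _ iu => simp only [Prod.fst_inv, Prod.snd_inv, map_inv, iu]
  let σ : P →* G := (S₁.proj.comp (MonoidHom.fst S₁.cover S₂.cover)).comp P.subtype
  have hsurj : Function.Surjective σ := by
    rw [← MonoidHom.range_eq_top]
    show ((S₁.proj.comp (MonoidHom.fst S₁.cover S₂.cover)).comp P.subtype).range = ⊤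
    rw [MonoidHom.range_comp, Subgroup.range_subtype, MonoidHom.map_closure, ← Set.range_comp]
    exact S₁.gen
  have hk1 : ∀ e : σ.ker, (e.1.1).1 ∈ S₁.proj.ker := fun e => e.2
  have hk2 : ∀ e : σ.ker, (e.1.1).2 ∈ S₂.proj.ker := fun e =>
    MonoidHom.mem_ker.2 ((hagree _ e.1.2).symm.trans e.2)
  let pr : σ.ker → S₁.proj.ker × S₂.proj.ker := fun e => (⟨_, hk1 e⟩, ⟨_, hk2 e⟩)
  have hpr : Function.Injective pr := fun e e' he => Subtype.ext (Subtype.ext (Prod.ext
    (congrArg (fun p : S₁.proj.ker × S₂.proj.ker => (p.1 : S₁.cover)) he)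
    (congrArg (fun p : S₁.proj.ker × S₂.proj.ker => (p.2 : S₂.cover)) he)))
  have hword : ∀ w, (ev g w).1 = S₁.wordElt w ∧ (ev g w).2 = S₂.wordElt w := fun w => by
    constructor
    · refine (map_ev (MonoidHom.fst S₁.cover S₂.cover) g w).trans (Subtype.ext ?_)
      exact map_ev S₁.cover.subtype g1 w
    · refine (map_ev (MonoidHom.snd S₁.cover S₂.cover) g w).trans (Subtype.ext ?_)
      exact map_ev S₂.cover.subtype g2 w
  have hone1 : ∀ w, C.relCheck w = true → D₁.parity C 0 w = false → S₁.wordElt w = 1 := fun w hw h0 =>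
    (S₁.ker_sign (by rw [S₁.wordElt_fst, S₁.rel_one hw])).2
      ((S₁.walk w (⟨0, S₁.npos⟩, false)).2.trans (by rw [h0]; rfl))
  have hone2 : ∀ w, C.relCheck w = true → D₂.parity C 0 w = false → S₂.wordElt w = 1 := fun w hw h0 =>
    (S₂.ker_sign (by rw [S₂.wordElt_fst, S₂.rel_one hw])).2
      ((S₂.walk w (⟨0, S₂.npos⟩, false)).2.trans (by rw [h0]; rfl))
  let we : ∀ w, C.relCheck w = true → σ.ker := fun w hw =>
    ⟨⟨ev g w, ev_mem g w⟩, by
      show S₁.proj (ev g w).1 = 1
      rw [(hword w).1, S₁.wordElt_fst, S₁.rel_one hw]⟩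
  let k1 := we D₁.word hp.1
  let k2 := we D₂.word hp.2.1
  have e11 : (k1.1.1).1 = S₁.wordElt D₁.word := (hword _).1
  have e12 : (k1.1.1).2 = 1 := (hword _).2.trans (hone2 _ hp.1 hp.2.2.1)
  have e21 : (k2.1.1).1 = 1 := (hword _).1.trans (hone1 _ hp.2.1 hp.2.2.2)
  have e22 : (k2.1.1).2 = S₂.wordElt D₂.word := (hword _).2
  have hne : ∀ (e : σ.ker), (e.1.1).1 ≠ 1 ∨ (e.1.1).2 ≠ 1 → e ≠ 1 := by
    rintro e he rfl
    exact he.elim (fun h => h rfl) (fun h => h rfl)
  have hk12 : (k1 * k2).1.1.1 ≠ 1 ∧ (k1 * k2).1.1.2 ≠ 1 := by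
    constructor
    · show (k1.1.1).1 * (k2.1.1).1 ≠ 1
      rw [e11, e21, mul_one]; exact S₁.word_facts.2.1
    · show (k1.1.1).2 * (k2.1.1).2 ≠ 1
      rw [e12, e22, one_mul]; exact S₂.word_facts.2.1
  let v : Fin 4 → σ.ker := ![1, k1, k2, k1 * k2]
  have hv : Function.Injective v := by
    have a1 : k1 ≠ 1 := hne _ (Or.inl (by rw [e11]; exact S₁.word_facts.2.1))
    have a2 : k2 ≠ 1 := hne _ (Or.inr (by rw [e22]; exact S₂.word_facts.2.1))
    have a3 : k1 * k2 ≠ 1 := hne _ (Or.inl hk12.1)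
    have a4 : k1 ≠ k2 := fun e => S₁.word_facts.2.1 (by rw [← e11, e, e21])
    intro i j e
    fin_cases i <;> fin_cases j <;> simp only [v, Matrix.cons_val] at e <;>
      first
        | rfl
        | exact absurd e a1.symm | exact absurd e a1 | exact absurd e a2.symm | exact absurd e a2
        | exact absurd e a3.symm | exact absurd e a3 | exact absurd e a4 | exact absurd e a4.symm
        | exact absurd (left_eq_mul.1 e) a2 | exact absurd (mul_eq_left.1 e) a2
        | exact absurd (right_eq_mul.1 e) a1 | exact absurd (mul_eq_right.1 e) a1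
  have h4 : Nat.card σ.ker = 4 := by
    refine le_antisymm ?_ (by simpa using Nat.card_le_card_of_injective v hv)
    have := Nat.card_le_card_of_injective pr hpr
    rwa [Nat.card_prod, S₁.stem.2, S₂.stem.2] at this
  have hsq : ∀ e : σ.ker, e ^ 2 = 1 := fun e => by
    refine hpr (Prod.ext ?_ ?_)
    · have h := pow_card_eq_one' (x := (pr e).1)
      rw [S₁.stem.2] at h
      exact h
    · have h := pow_card_eq_one' (x := (pr e).2)
      rw [S₂.stem.2] at h
      exact h
  haveI : Nontrivial σ.ker := Finite.one_lt_card_iff_nontrivial.1 (by rw [h4]; norm_num)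
  haveI : IsKleinFour σ.ker :=
    { card_four := h4
      exponent_two := (Monoid.exponent_eq_prime_iff Nat.prime_two).2 fun e he => orderOf_eq_prime (hsq e) he }
  have hpow : ∀ e : P, Abelianization.of e ^ (C.m0 * C.m1) = 1 := by
    rintro ⟨e, he⟩
    induction he using Subgroup.closure_induction with
    | mem s hs =>
      obtain ⟨s, rfl⟩ := hs
      rw [← map_pow]
      have hex : (⟨g s, Subgroup.subset_closure ⟨s, rfl⟩⟩ : P) ^ (bif s then C.m1 else C.m0) = 1 := by
        refine Subtype.ext ((show g s ^ _ = ev g (List.replicate (bif s then C.m1 else C.m0) s) by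
          rw [ev, List.map_replicate, List.prod_replicate]).trans (Prod.ext ?_ ?_))
        · rw [(hword _).1]
          cases s
          exacts [S₁.word_facts.2.2.1, S₁.word_facts.2.2.2]
        · rw [(hword _).2]
          cases s
          exacts [S₂.word_facts.2.2.1, S₂.word_facts.2.2.2]
      cases s
      · simp only [cond_false] at hex
        rw [pow_mul, hex, one_pow, map_one]
      · simp only [cond_true] at hex
        rw [mul_comm, pow_mul, hex, one_pow, map_one]
    | one => rw [show (⟨1, one_mem _⟩ : P) = 1 from rfl, map_one, one_pow]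
    | mul u w hu hw iu iw =>
      rw [show (⟨u * w, mul_mem hu hw⟩ : P) = ⟨u, hu⟩ * ⟨w, hw⟩ from rfl, map_mul, mul_pow, iu, iw, one_mul]
    | inv u hu iu =>
      rw [show (⟨u⁻¹, inv_mem hu⟩ : P) = ⟨u, hu⟩⁻¹ from rfl, map_inv, inv_pow, iu, inv_one]
  refine ⟨P, inferInstance, inferInstance, σ, ⟨hsurj, fun e he => ?_, fun e he => ?_⟩, IsKleinFour.nonempty_mulEquiv⟩
  · rw [Subgroup.mem_center_iff]
    intro u
    exact Subtype.ext (Prod.ext (Subgroup.mem_center_iff.1 (S₁.stem.1.2.1 (hk1 ⟨e, he⟩)) _)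
      (Subgroup.mem_center_iff.1 (S₂.stem.1.2.1 (hk2 ⟨e, he⟩)) _))
  · rw [← Abelianization.ker_of, MonoidHom.mem_ker]
    have h2 : Abelianization.of e ^ 2 = 1 := by
      rw [← map_pow, show e ^ 2 = 1 from congrArg Subtype.val (hsq ⟨e, he⟩), map_one]
    obtain ⟨m, hm⟩ := S₁.odd.1.mul S₁.odd.2
    have := hpow e
    rwa [hm, pow_succ, pow_mul, h2, one_pow, one_mul] at this

end Cfsg.Agent.Lie.CentralTable
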