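import Cfsg.Agent.Lib.Lie.Suzuki

/-!
# Structure of the Suzuki group: Zassenhaus action, order, simplicity, Sylow 2-subgroups
-/

set_option autoImplicit false

namespace Cfsg.Agent.Lie.Suzuki

open Matrix
open scoped commutatorElement

variable {F : Type*} [Field F] {m : ℕ} [Fintype F] (hF : Fintype.card F = 2 ^ (2 * m + 1))

theorem tM_zero : tM m (0 : F) 0 = 1 := by
  apply Subtype.ext
  rw [Matrix.SpecialLinearGroup.coe_one]
  show tMat m 0 0 = 1
  ext i j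
  fin_cases i <;> fin_cases j <;> simp [tMat, fv_zero_zero]

theorem dM_one : dM m (1 : Fˣ) = 1 := by
  apply Subtype.ext
  rw [Matrix.SpecialLinearGroup.coe_one]
  ext i j
  fin_cases i <;> fin_cases j <;> simp [dM]

theorem tM_injective {a b c d : F} (h : tM m a b = tM m c d) : a = c ∧ b = d := by
  have h' := congrArg (fun g : Matrix.SpecialLinearGroup (Fin 4) F =>
    ((g : Matrix (Fin 4) (Fin 4) F) 0 1, (g : Matrix (Fin 4) (Fin 4) F) 1 3)) h
  simpa [tM, tMat] using h'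

include hF

theorem tM_pt_zero (a b : F) : tM m a b • pt m (0 : F) 0 = pt m a b := by
  rw [tM_pt hF]
  simp

theorem tM_inv_pt (a b : F) : (tM m a b)⁻¹ • pt m a b = pt m 0 0 := by
  rw [inv_smul_eq_iff, tM_pt_zero hF]

theorem to_inf {p : Projectivization F (Fin 4 → F)} (hp : p ∈ Cfsg.suzukiOvoid F m) :
    ∃ g ∈ Cfsg.Sz F m, g • p = Cfsg.suzukiPointInfinity F := by
  rcases mem_ovoid.1 hp with rfl | ⟨x, y, rfl⟩
  · exact ⟨1, Subgroup.one_mem _, one_smul _ _⟩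
  · refine ⟨wM F * (tM m x y)⁻¹, Subgroup.mul_mem _ (wM_mem hF) (Subgroup.inv_mem _ (tM_mem hF x y)), ?_⟩
    rw [mul_smul, tM_inv_pt hF, wM_zero]

theorem two_trans {p p' : Projectivization F (Fin 4 → F)} (hp : p ∈ Cfsg.suzukiOvoid F m)
    (hp' : p' ∈ Cfsg.suzukiOvoid F m) (hne : p ≠ p') :
    ∃ g ∈ Cfsg.Sz F m, g • p = Cfsg.suzukiPointInfinity F ∧ g • p' = pt m (0 : F) 0 := by
  obtain ⟨g, hg, hgp⟩ := to_inf hF hp
  rcases mem_ovoid.1 (smul_mem hF hg hp') with h | ⟨a, b, h⟩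
  · exact absurd (smul_left_cancel g (hgp.trans h.symm)) hne
  · refine ⟨(tM m a b)⁻¹ * g, Subgroup.mul_mem _ (Subgroup.inv_mem _ (tM_mem hF a b)) hg, ?_, ?_⟩
    · rw [mul_smul, hgp, inv_smul_eq_iff, tM_inf]
    · rw [mul_smul, h, tM_inv_pt hF]

theorem fix_decomp (hm : 1 ≤ m) {g : Matrix.SpecialLinearGroup (Fin 4) F} (hg : g ∈ Cfsg.Sz F m)
    (h0 : g • Cfsg.suzukiPointInfinity F = Cfsg.suzukiPointInfinity F) :
    ∃ (a b : F) (k : Fˣ), g = tM m a b * dM m k := by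
  rcases mem_ovoid.1 (smul_mem hF hg (pt_mem (0 : F) 0)) with h | ⟨a, b, h⟩
  · exact absurd (smul_left_cancel g (h.trans h0.symm)) (pt_ne_inf 0 0)
  · obtain ⟨k, hk⟩ := two_point hF hm
      (g := (tM m a b)⁻¹ * g) (Subgroup.mul_mem _ (Subgroup.inv_mem _ (tM_mem hF a b)) hg)
      (by rw [mul_smul, h0, inv_smul_eq_iff, tM_inf]) (by rw [mul_smul, h, tM_inv_pt hF])
    exact ⟨a, b, k, by rw [← hk, mul_inv_cancel_left]⟩

theorem decomp (hm : 1 ≤ m) {g : Matrix.SpecialLinearGroup (Fin 4) F} (hg : g ∈ Cfsg.Sz F m) :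
    (∃ (a b : F) (k : Fˣ), g = tM m a b * dM m k) ∨
    ∃ (a b c d : F) (k : Fˣ), g = tM m a b * wM F * (tM m c d * dM m k) := by
  rcases mem_ovoid.1 (smul_mem hF hg inf_mem) with h | ⟨a, b, h⟩
  · exact Or.inl (fix_decomp hF hm hg h)
  · obtain ⟨c, d, k, hk⟩ := fix_decomp hF hm
      (g := (wM F)⁻¹ * ((tM m a b)⁻¹ * g))
      (Subgroup.mul_mem _ (Subgroup.inv_mem _ (wM_mem hF))
        (Subgroup.mul_mem _ (Subgroup.inv_mem _ (tM_mem hF a b)) hg))
      (by rw [mul_smul, mul_smul, h, tM_inv_pt hF, inv_smul_eq_iff, wM_inf (m := m)])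
    exact Or.inr ⟨a, b, c, d, k, by rw [← hk]; group⟩

theorem three_point (hm : 1 ≤ m) {g : Matrix.SpecialLinearGroup (Fin 4) F} (hg : g ∈ Cfsg.Sz F m)
    {p q r : Projectivization F (Fin 4 → F)} (hp : p ∈ Cfsg.suzukiOvoid F m)
    (hq : q ∈ Cfsg.suzukiOvoid F m) (hr : r ∈ Cfsg.suzukiOvoid F m)
    (hpq : p ≠ q) (hqr : q ≠ r) (hpr : p ≠ r) (gp : g • p = p) (gq : g • q = q) (gr : g • r = r) :
    g = 1 := by
  obtain ⟨t, ht, tp, tq⟩ := two_trans hF hp hq hpq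
  obtain ⟨k, hk⟩ := two_point hF hm (g := t * g * t⁻¹)
    (Subgroup.mul_mem _ (Subgroup.mul_mem _ ht hg) (Subgroup.inv_mem _ ht))
    (by rw [← tp, mul_smul, inv_smul_smul, mul_smul, gp])
    (by rw [← tq, mul_smul, inv_smul_smul, mul_smul, gq])
  have htr : dM m k • (t • r) = t • r := by rw [← hk, mul_smul, inv_smul_smul, mul_smul, gr]
  rcases mem_ovoid.1 (smul_mem hF ht hr) with h | ⟨x, y, h⟩
  · exact absurd (smul_left_cancel t (tp.trans h.symm)) hpr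
  rw [h, dM_pt hF] at htr
  obtain ⟨hx, hy⟩ := pt_inj htr
  have hk1 : k = 1 := by
    by_cases hx0 : x = 0
    · have hy0 : y ≠ 0 := by
        rintro rfl
        rw [hx0, ← tq] at h
        exact hqr (smul_left_cancel t h).symm
      exact Units.ext (eq_one_of_pow_sg_add_one hF ((mul_eq_right₀ hy0).1 hy))
    · exact Units.ext ((mul_eq_right₀ hx0).1 hx)
  rw [hk1, dM_one, mul_inv_eq_one] at hk
  exact mul_eq_left.1 hk

theorem ext_ovoid (hm : 1 ≤ m) {g h : Matrix.SpecialLinearGroup (Fin 4) F} (hg : g ∈ Cfsg.Sz F m)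
    (hh : h ∈ Cfsg.Sz F m) (e : ∀ p ∈ Cfsg.suzukiOvoid F m, g • p = h • p) : g = h := by
  have e' : ∀ p ∈ Cfsg.suzukiOvoid F m, (h⁻¹ * g) • p = p := fun p hp => by
    rw [mul_smul, e p hp, inv_smul_smul]
  have : h⁻¹ * g = 1 := three_point hF hm (Subgroup.mul_mem _ (Subgroup.inv_mem _ hh) hg)
    inf_mem (pt_mem (0 : F) 0) (pt_mem (1 : F) 0) (pt_ne_inf 0 0).symm
    (fun he => zero_ne_one (pt_inj he).1) (pt_ne_inf 1 0).symm
    (e' _ inf_mem) (e' _ (pt_mem _ _)) (e' _ (pt_mem _ _))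
  exact (inv_mul_eq_one.1 this).symm

theorem dM_mul_tM (hm : 1 ≤ m) (k : Fˣ) (a b : F) :
    dM m k * tM m a b = tM m ((k : F) * a) ((k : F) ^ (2 ^ (m + 1) + 1) * b) * dM m k := by
  refine ext_ovoid hF hm (Subgroup.mul_mem _ (dM_mem hF k) (tM_mem hF a b))
    (Subgroup.mul_mem _ (tM_mem hF _ _) (dM_mem hF k)) fun p hp => ?_
  rcases mem_ovoid.1 hp with rfl | ⟨x, y, rfl⟩
  · simp [mul_smul, tM_inf, dM_inf]
  · simp only [mul_smul, tM_pt hF, dM_pt hF]
    congr 1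
    · ring
    · rw [mul_pow, pow_add _ (2 ^ (m + 1)) 1, pow_one]
      ring

omit [Fintype F] hF in
theorem wM_dM_wM (k : Fˣ) : wM F * dM m k * wM F = dM m k⁻¹ := by
  apply Subtype.ext
  rw [Matrix.SpecialLinearGroup.coe_mul, Matrix.SpecialLinearGroup.coe_mul]
  ext i j
  fin_cases i <;> fin_cases j <;> simp [wM, dM, Matrix.vecMul, dotProduct, Fin.sum_univ_four]

/-! ### Elements of the group -/

/-- Translation in the Suzuki group. -/
def tS (a b : F) : Cfsg.Sz F m := ⟨tM m a b, tM_mem hF a b⟩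

/-- The inversion in the Suzuki group. -/
def wS : Cfsg.Sz F m := ⟨wM F, wM_mem hF⟩

/-- The torus. -/
def dS : Fˣ →* Cfsg.Sz F m where
  toFun k := ⟨dM m k, dM_mem hF k⟩
  map_one' := Subtype.ext dM_one
  map_mul' k l := Subtype.ext (dM_mul k l)

theorem tS_mul (a b c d : F) :
    tS hF a b * tS hF c d = tS hF (a + c) (b + d + a ^ (2 ^ (m + 1)) * c) :=
  Subtype.ext (tM_mul hF a b c d)

theorem tS_zero : tS (m := m) hF (0 : F) 0 = 1 := Subtype.ext tM_zero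

theorem tS_inv (a b : F) :
    (tS (m := m) hF a b)⁻¹ = tS hF a (b + a ^ (2 ^ (m + 1) + 1)) := by
  refine inv_eq_of_mul_eq_one_right ?_
  rw [tS_mul hF, add_self hF, pow_add _ (2 ^ (m + 1)) 1, pow_one, ← tS_zero hF]
  congr 1
  linear_combination (b + a ^ (2 ^ (m + 1)) * a) * two_eq_zero hF

theorem tS_zero_comm (e c d : F) : tS (m := m) hF 0 e * tS hF c d = tS hF c d * tS hF 0 e := by
  rw [tS_mul hF, tS_mul hF]
  simp [add_comm]

/-- The translation group. -/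
def uSub : Subgroup (Cfsg.Sz F m) where
  carrier := {g | ∃ a b, g = tS hF a b}
  mul_mem' := by
    rintro _ _ ⟨a, b, rfl⟩ ⟨c, d, rfl⟩
    exact ⟨_, _, tS_mul hF a b c d⟩
  one_mem' := ⟨0, 0, (tS_zero hF).symm⟩
  inv_mem' := by
    rintro _ ⟨a, b, rfl⟩
    exact ⟨_, _, tS_inv hF a b⟩

/-- The centre of the translation group. -/
def zSub : Subgroup (Cfsg.Sz F m) where
  carrier := {g | ∃ b, g = tS hF 0 b}
  mul_mem' := by
    rintro _ _ ⟨b, rfl⟩ ⟨d, rfl⟩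
    exact ⟨b + d, by rw [tS_mul hF]; simp⟩
  one_mem' := ⟨0, (tS_zero hF).symm⟩
  inv_mem' := by
    rintro _ ⟨b, rfl⟩
    exact ⟨b, by rw [tS_inv hF]; simp⟩

theorem dS_mul_tS (hm : 1 ≤ m) (k : Fˣ) (a b : F) :
    dS hF k * tS hF a b = tS hF ((k : F) * a) ((k : F) ^ (2 ^ (m + 1) + 1) * b) * dS hF k :=
  Subtype.ext (dM_mul_tM hF hm k a b)

theorem wS_mul_self : wS (m := m) hF * wS hF = 1 := Subtype.ext wM_mul_self

theorem wS_inv : (wS (m := m) hF)⁻¹ = wS hF := inv_eq_of_mul_eq_one_right (wS_mul_self hF)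

theorem comm_tS (a b c d : F) :
    ⁅tS (m := m) hF a b, tS hF c d⁆ =
      tS hF 0 (a ^ (2 ^ (m + 1)) * c + c ^ (2 ^ (m + 1)) * a) := by
  have h : tS hF a b * tS hF c d =
      tS hF 0 (a ^ (2 ^ (m + 1)) * c + c ^ (2 ^ (m + 1)) * a) * (tS hF c d * tS hF a b) := by
    simp only [tS_mul hF, zero_pow (pow_ne_zero (m + 1) (two_ne_zero (α := ℕ))), zero_mul, zero_add,
      add_zero]
    congr 1
    · exact add_comm a c
    · linear_combination (-(c ^ (2 ^ (m + 1)) * a)) * two_eq_zero hF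
  rw [commutatorElement_def, h]
  group

theorem sz_decomp (hm : 1 ≤ m) (g : Cfsg.Sz F m) :
    (∃ (a b : F) (k : Fˣ), g = tS hF a b * dS hF k) ∨
    ∃ (a b c d : F) (k : Fˣ), g = tS hF a b * wS hF * (tS hF c d * dS hF k) := by
  rcases decomp hF hm g.2 with ⟨a, b, k, h⟩ | ⟨a, b, c, d, k, h⟩
  · exact Or.inl ⟨a, b, k, Subtype.ext h⟩
  · exact Or.inr ⟨a, b, c, d, k, Subtype.ext h⟩

theorem sz_fix (hm : 1 ≤ m) (g : Cfsg.Sz F m)
    (h : g • Cfsg.suzukiPointInfinity F = Cfsg.suzukiPointInfinity F) :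
    ∃ (a b : F) (k : Fˣ), g = tS hF a b * dS hF k := by
  obtain ⟨a, b, k, hk⟩ := fix_decomp hF hm g.2 h
  exact ⟨a, b, k, Subtype.ext hk⟩

/-! ### Orders -/

theorem card_stab_inf (hm : 1 ≤ m) :
    Nat.card (MulAction.stabilizer (Cfsg.Sz F m) (Cfsg.suzukiPointInfinity F)) =
      (Fintype.card F) ^ 2 * (Fintype.card F - 1) := by
  let φ : F × F × Fˣ → MulAction.stabilizer (Cfsg.Sz F m) (Cfsg.suzukiPointInfinity F) := fun z =>
    ⟨tS hF z.1 z.2.1 * dS hF z.2.2, by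
      rw [MulAction.mem_stabilizer_iff]
      show (tM m z.1 z.2.1 * dM m z.2.2) • Cfsg.suzukiPointInfinity F = Cfsg.suzukiPointInfinity F
      rw [mul_smul, dM_inf, tM_inf]⟩
  have hb : Function.Bijective φ := by
    constructor
    · rintro ⟨a, b, k⟩ ⟨c, d, l⟩ h
      have h' : tM m a b * dM m k = tM m c d * dM m l :=
        congrArg Subtype.val (congrArg Subtype.val h)
      have h0 := congrArg (fun g : Matrix.SpecialLinearGroup (Fin 4) F => g • pt m (0 : F) 0) h'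
      simp only [mul_smul, dM_pt hF, mul_zero, tM_pt_zero hF] at h0
      obtain ⟨rfl, rfl⟩ := pt_inj h0
      rw [dM_injective (mul_left_cancel h')]
    · rintro ⟨g, hg⟩
      obtain ⟨a, b, k, rfl⟩ := sz_fix hF hm g hg
      exact ⟨(a, b, k), rfl⟩
  rw [← Nat.card_congr (Equiv.ofBijective φ hb), Nat.card_prod, Nat.card_prod, Nat.card_units,
    Nat.card_eq_fintype_card]
  ring

theorem coe_smul_ovoid (g : Cfsg.Sz F m) (p : Cfsg.suzukiOvoid F m) :
    ((g • p : Cfsg.suzukiOvoid F m) : Projectivization F (Fin 4 → F)) =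
      (g : Matrix.SpecialLinearGroup (Fin 4) F) • (p : Projectivization F (Fin 4 → F)) :=
  rfl

theorem sz_two_pretransitive :
    MulAction.IsMultiplyPretransitive (Cfsg.Sz F m) (Cfsg.suzukiOvoid F m) 2 := by
  rw [MulAction.is_two_pretransitive_iff]
  intro a b c d hab hcd
  obtain ⟨g, hg, ga, gb⟩ := two_trans hF a.2 b.2 fun h => hab (Subtype.ext h)
  obtain ⟨t, ht, tc, td⟩ := two_trans hF c.2 d.2 fun h => hcd (Subtype.ext h)
  refine ⟨⟨t⁻¹ * g, Subgroup.mul_mem _ (Subgroup.inv_mem _ ht) hg⟩, Subtype.ext ?_, Subtype.ext ?_⟩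
  · rw [coe_smul_ovoid hF, mul_smul, ga, ← tc, inv_smul_smul]
  · rw [coe_smul_ovoid hF, mul_smul, gb, ← td, inv_smul_smul]

theorem sz_pretransitive : MulAction.IsPretransitive (Cfsg.Sz F m) (Cfsg.suzukiOvoid F m) := by
  refine ⟨fun a b => ?_⟩
  obtain ⟨g, hg, ga⟩ := to_inf hF a.2
  obtain ⟨t, ht, tb⟩ := to_inf hF b.2
  refine ⟨⟨t⁻¹ * g, Subgroup.mul_mem _ (Subgroup.inv_mem _ ht) hg⟩, Subtype.ext ?_⟩
  rw [coe_smul_ovoid hF, mul_smul, ga, ← tb, inv_smul_smul]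

theorem card_sz (hm : 1 ≤ m) :
    Nat.card (Cfsg.Sz F m) =
      (Fintype.card F) ^ 2 * ((Fintype.card F) ^ 2 + 1) * (Fintype.card F - 1) := by
  have := sz_pretransitive hF
  let a : Cfsg.suzukiOvoid F m := ⟨_, inf_mem⟩
  have e : MulAction.stabilizer (Cfsg.Sz F m) a =
      MulAction.stabilizer (Cfsg.Sz F m) (Cfsg.suzukiPointInfinity F) := by
    ext g
    simp only [MulAction.mem_stabilizer_iff, Subtype.ext_iff]
    rfl
  rw [← Subgroup.index_mul_card (MulAction.stabilizer (Cfsg.Sz F m) a),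
    MulAction.index_stabilizer_of_transitive, card_ovoid, e, card_stab_inf hF hm]
  ring

theorem faithful (hm : 1 ≤ m) : FaithfulSMul (Cfsg.Sz F m) (Cfsg.suzukiOvoid F m) :=
  ⟨fun {g h} e => Subtype.ext (ext_ovoid hF hm g.2 h.2 fun p hp => by
    have := congrArg Subtype.val (e ⟨p, hp⟩)
    rwa [coe_smul_ovoid hF, coe_smul_ovoid hF] at this)⟩

/-! ### Perfectness and simplicity -/

theorem exists_sq (k : Fˣ) : ∃ l : Fˣ, l * l = k := by
  refine ⟨k ^ (2 ^ (2 * m)), Units.ext ?_⟩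
  rw [Units.val_mul, Units.val_pow_eq_pow_val, ← pow_add,
    show 2 ^ (2 * m) + 2 ^ (2 * m) = Fintype.card F by rw [hF, pow_succ]; ring, FiniteField.pow_card]

theorem exists_unit_ne_one (hm : 1 ≤ m) : ∃ k : Fˣ, (k : F) ≠ 1 := by
  classical
  have h4 : 3 ≤ Fintype.card F := by
    rw [hF]
    calc 3 ≤ 2 ^ 2 := by norm_num
      _ ≤ 2 ^ (2 * m + 1) := Nat.pow_le_pow_right (by norm_num) (by omega)
  obtain ⟨x, hx⟩ := Finset.exists_mem_notMem_of_card_lt_card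
    (s := ({0, 1} : Finset F)) (t := Finset.univ)
    (lt_of_le_of_lt Finset.card_le_two (by rw [Finset.card_univ]; omega))
  simp only [Finset.mem_insert, Finset.mem_singleton, not_or] at hx
  exact ⟨Units.mk0 x hx.2.1, hx.2.2⟩

theorem sz_perfect (hm : 1 ≤ m) : commutator (Cfsg.Sz F m) = ⊤ := by
  have hK : ∀ x y : Cfsg.Sz F m, ⁅x, y⁆ ∈ commutator (Cfsg.Sz F m) := fun x y =>
    Subgroup.commutator_mem_commutator (Subgroup.mem_top x) (Subgroup.mem_top y)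
  have hD : ∀ k : Fˣ, dS hF k ∈ commutator (Cfsg.Sz F m) := by
    intro k
    obtain ⟨l, rfl⟩ := exists_sq hF k
    have h := hK (wS hF) (dS hF l⁻¹)
    rw [commutatorElement_def, wS_inv hF] at h
    have h2 : wS hF * dS hF l⁻¹ * wS hF = dS hF l := by
      apply Subtype.ext
      show wM F * dM m l⁻¹ * wM F = dM m l
      rw [wM_dM_wM, inv_inv]
    rwa [h2, map_inv, inv_inv, ← map_mul] at h
  obtain ⟨k, hk⟩ := exists_unit_ne_one hF hm
  have hk1 : (k : F) + 1 ≠ 0 := fun h => hk ((eq_neg_of_add_eq_zero_left h).trans (neg_eq hF 1))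
  have hk2 : (k : F) ^ (2 ^ (m + 1) + 1) + 1 ≠ 0 := fun h =>
    hk (eq_one_of_pow_sg_add_one hF ((eq_neg_of_add_eq_zero_left h).trans (neg_eq hF 1)))
  have hconj : ∀ a b : F, ⁅dS hF k, tS hF a b⁆ =
      tS hF ((k : F) * a) ((k : F) ^ (2 ^ (m + 1) + 1) * b) * (tS hF a b)⁻¹ := by
    intro a b
    rw [commutatorElement_def, dS_mul_tS hF hm, mul_inv_cancel_right]
  have hZ : ∀ b : F, tS hF 0 b ∈ commutator (Cfsg.Sz F m) := by
    intro b
    have h := hK (dS hF k) (tS hF 0 (b / ((k : F) ^ (2 ^ (m + 1) + 1) + 1)))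
    rw [hconj, tS_inv hF, tS_mul hF] at h
    have hz : (2 : ℕ) ^ (m + 1) ≠ 0 := by positivity
    simp [hz] at h
    convert h using 2
    field_simp
  have hU : ∀ a b : F, tS hF a b ∈ commutator (Cfsg.Sz F m) := by
    intro a b
    have h := hK (dS hF k) (tS hF (a / ((k : F) + 1)) 0)
    rw [hconj, tS_inv hF, tS_mul hF] at h
    have ea : (k : F) * (a / ((k : F) + 1)) + a / ((k : F) + 1) = a := by field_simp
    rw [ea] at h
    generalize (k : F) ^ (2 ^ (m + 1) + 1) * 0 + (0 + (a / ((k : F) + 1)) ^ (2 ^ (m + 1) + 1))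
      + ((k : F) * (a / ((k : F) + 1))) ^ (2 ^ (m + 1)) * (a / ((k : F) + 1)) = B at h
    have h2 := Subgroup.mul_mem _ (hZ (b + B)) h
    rw [tS_mul hF] at h2
    have hz : (2 : ℕ) ^ (m + 1) ≠ 0 := by positivity
    simp [hz] at h2
    rwa [add_assoc, add_self hF, add_zero] at h2
  have hW : wS hF ∈ commutator (Cfsg.Sz F m) := by
    have hfix : wM F • pt m (1 : F) 1 = pt m 1 1 := by
      have h1 : fv m (1 : F) 1 = 1 := by
        simp only [fv, one_pow, mul_one]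
        linear_combination two_eq_zero hF
      rw [wM_pt hF (by rw [h1]; exact one_ne_zero), h1, div_one]
    have hc : (tS (m := m) hF (1 : F) 1 * wS hF) • Cfsg.suzukiPointInfinity F = pt m 1 1 := by
      show (tM m (1 : F) 1 * wM F) • Cfsg.suzukiPointInfinity F = pt m 1 1
      rw [mul_smul, wM_inf (m := m), tM_pt_zero hF]
    obtain ⟨a, b, l, hl⟩ := sz_fix hF hm
      ((tS (m := m) hF (1 : F) 1 * wS hF)⁻¹ * wS hF * (tS hF 1 1 * wS hF))
      (by rw [mul_smul, mul_smul, hc, inv_smul_eq_iff, hc]; exact hfix)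
    have hn : (commutator (Cfsg.Sz F m)).Normal := inferInstance
    have h := hn.conj_mem _ (Subgroup.mul_mem _ (hU a b) (hD l))
      (tS (m := m) hF (1 : F) 1 * wS hF)
    rw [← hl] at h
    simpa [mul_assoc] using h
  rw [eq_top_iff]
  intro g _
  rcases sz_decomp hF hm g with ⟨a, b, l, rfl⟩ | ⟨a, b, c, d, l, rfl⟩
  · exact Subgroup.mul_mem _ (hU a b) (hD l)
  · exact Subgroup.mul_mem _ (Subgroup.mul_mem _ (hU a b) hW) (Subgroup.mul_mem _ (hU c d) (hD l))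

theorem normal_transitive (hm : 1 ≤ m) {N : Subgroup (Cfsg.Sz F m)} (hN : N.Normal) (hne : N ≠ ⊥)
    {p : Projectivization F (Fin 4 → F)} (hp : p ∈ Cfsg.suzukiOvoid F m) :
    ∃ n ∈ N, n • Cfsg.suzukiPointInfinity F = p := by
  obtain ⟨n, hn, hn1⟩ : ∃ n ∈ N, n ≠ 1 := by
    by_contra h
    push_neg at h
    exact hne ((Subgroup.eq_bot_iff_forall N).2 h)
  obtain ⟨q, hq, hnq⟩ : ∃ q ∈ Cfsg.suzukiOvoid F m, n • q ≠ q := by
    by_contra h
    push_neg at h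
    exact hn1 (Subtype.ext (ext_ovoid hF hm n.2 (Subgroup.one_mem _) fun q hq =>
      (h q hq).trans (one_smul _ q).symm))
  obtain ⟨g, hg, gq, gnq⟩ := two_trans hF hq (smul_mem hF n.2 hq) (Ne.symm hnq)
  let G' : Cfsg.Sz F m := ⟨g, hg⟩
  have hn' : G' * n * G'⁻¹ ∈ N := hN.conj_mem n hn G'
  have hninf : (G' * n * G'⁻¹) • Cfsg.suzukiPointInfinity F = pt m 0 0 := by
    have hq' : G'⁻¹ • Cfsg.suzukiPointInfinity F = q := inv_smul_eq_iff.2 gq.symm
    rw [mul_smul, mul_smul, hq']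
    exact gnq
  rcases mem_ovoid.1 hp with rfl | ⟨x, y, rfl⟩
  · exact ⟨1, N.one_mem, one_smul _ _⟩
  · refine ⟨tS hF x y * (G' * n * G'⁻¹) * (tS hF x y)⁻¹, hN.conj_mem _ hn' _, ?_⟩
    have h1 : (tS hF x y)⁻¹ • Cfsg.suzukiPointInfinity F = Cfsg.suzukiPointInfinity F := by
      rw [inv_smul_eq_iff]
      exact (tM_inf x y).symm
    rw [mul_smul, mul_smul, h1, hninf]
    exact tM_pt_zero hF x y

theorem map_step {Q : Type*} [Group Q] (π : Cfsg.Sz F m →* Q) (hperf : commutator Q = ⊤)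
    {S S' : Subgroup (Cfsg.Sz F m)} (hS : S.map π = ⊤)
    (h : ∀ x ∈ S, ∀ y ∈ S, ⁅x, y⁆ ∈ S') : S'.map π = ⊤ := by
  rw [eq_top_iff, ← hperf, commutator_def, ← hS, ← Subgroup.map_commutator]
  exact Subgroup.map_mono (Subgroup.commutator_le.2 h)

theorem sz_simple (hm : 1 ≤ m) : IsSimpleGroup (Cfsg.Sz F m) := by
  have : Nontrivial (Cfsg.Sz F m) := by
    obtain ⟨k, hk⟩ := exists_unit_ne_one hF hm
    refine ⟨⟨dS hF k, 1, fun h => hk ?_⟩⟩
    rw [dM_injective ((congrArg Subtype.val h).trans (dM_one (m := m)).symm), Units.val_one]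
  refine ⟨fun N hN => ?_⟩
  by_cases hne : N = ⊥
  · exact Or.inl hne
  right
  have hsurj := QuotientGroup.mk'_surjective N
  have hperf : commutator (Cfsg.Sz F m ⧸ N) = ⊤ := by
    have h := map_commutator_eq _ (QuotientGroup.mk' N)
    rw [sz_perfect hF hm, MonoidHom.range_eq_top.2 hsurj, Subgroup.map_top_of_surjective _ hsurj] at h
    rw [commutator_def]
    exact h.symm
  have h1 : (MulAction.stabilizer (Cfsg.Sz F m) (Cfsg.suzukiPointInfinity F)).map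
      (QuotientGroup.mk' N) = ⊤ := by
    rw [eq_top_iff]
    intro x _
    obtain ⟨g, rfl⟩ := hsurj x
    obtain ⟨n, hn, hn'⟩ := normal_transitive hF hm hN hne (smul_mem hF g.2 inf_mem)
    refine ⟨n⁻¹ * g, ?_, ?_⟩
    · show (n⁻¹ * g) • Cfsg.suzukiPointInfinity F = Cfsg.suzukiPointInfinity F
      rw [mul_smul, inv_smul_eq_iff, hn']
      rfl
    · rw [map_mul, (QuotientGroup.eq_one_iff _).2 (N.inv_mem hn) |> fun h =>
        (show QuotientGroup.mk' N n⁻¹ = 1 from h), one_mul]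
  have h2 := map_step hF _ hperf h1 (S' := uSub hF) fun x hx y hy => by
    obtain ⟨a, b, k, rfl⟩ := sz_fix hF hm x hx
    obtain ⟨c, d, l, rfl⟩ := sz_fix hF hm y hy
    obtain ⟨a', b', e1⟩ : ∃ a' b', tS hF a b * dS hF k * (tS hF c d * dS hF l) =
        tS hF a' b' * dS hF (k * l) :=
      ⟨_, _, by rw [mul_assoc, ← mul_assoc (dS hF k), dS_mul_tS hF hm, mul_assoc, ← map_mul,
        ← mul_assoc, tS_mul hF]⟩
    obtain ⟨c', d', e2⟩ : ∃ c' d', tS hF c d * dS hF l * (tS hF a b * dS hF k) =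
        tS hF c' d' * dS hF (k * l) :=
      ⟨_, _, by rw [mul_comm k l, mul_assoc, ← mul_assoc (dS hF l), dS_mul_tS hF hm, mul_assoc,
        ← map_mul, ← mul_assoc, tS_mul hF]⟩
    have e : ⁅tS hF a b * dS hF k, tS hF c d * dS hF l⁆ = tS hF a' b' * (tS hF c' d')⁻¹ := by
      have hg : ∀ x y : Cfsg.Sz F m, ⁅x, y⁆ = (x * y) * (y * x)⁻¹ := fun x y => by
        rw [commutatorElement_def]; group
      rw [hg, e1, e2]
      group
    rw [e]
    exact Subgroup.mul_mem _ ⟨a', b', rfl⟩ (Subgroup.inv_mem _ ⟨c', d', rfl⟩)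
  have h3 := map_step hF _ hperf h2 (S' := zSub hF) fun x hx y hy => by
    obtain ⟨a, b, rfl⟩ := hx
    obtain ⟨c, d, rfl⟩ := hy
    exact ⟨_, comm_tS hF a b c d⟩
  have h4 := map_step hF _ hperf h3 (S' := ⊥) fun x hx y hy => by
    obtain ⟨b, rfl⟩ := hx
    obtain ⟨d, rfl⟩ := hy
    rw [Subgroup.mem_bot, commutatorElement_eq_one_iff_mul_comm, tS_zero_comm hF]
  rw [Subgroup.map_bot] at h4
  rw [eq_top_iff]
  intro g _
  rw [← QuotientGroup.eq_one_iff]
  have hx : QuotientGroup.mk' N g ∈ (⊥ : Subgroup (Cfsg.Sz F m ⧸ N)) := h4 ▸ Subgroup.mem_top _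
  exact Subgroup.mem_bot.1 hx

theorem zassenhaus (hm : 1 ≤ m) :
    Cfsg.IsZassenhausGroup (Cfsg.Sz F m) (Cfsg.suzukiOvoid F m) := by
  obtain ⟨k, hk⟩ := exists_unit_ne_one hF hm
  have hk1 : dS (m := m) hF k ≠ 1 := fun h => hk (by
    rw [dM_injective ((congrArg Subtype.val h).trans (dM_one (m := m)).symm), Units.val_one])
  have hfix : ∀ p : Cfsg.suzukiOvoid F m, p = ⟨_, inf_mem⟩ ∨ p = ⟨_, pt_mem (0 : F) 0⟩ →
      dS hF k • p = p := by
    rintro p (rfl | rfl)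
    · exact Subtype.ext (dM_inf k)
    · apply Subtype.ext
      show dM m k • pt m (0 : F) 0 = pt m 0 0
      rw [dM_pt hF, mul_zero, mul_zero]
  refine ⟨faithful hF hm, sz_two_pretransitive hF, ?_, ?_, ?_⟩
  · intro g a b c hab hbc hac ga gb gc
    exact Subtype.ext (three_point hF hm g.2 a.2 b.2 c.2 (fun h => hab (Subtype.ext h))
      (fun h => hbc (Subtype.ext h)) (fun h => hac (Subtype.ext h))
      (congrArg Subtype.val ga) (congrArg Subtype.val gb) (congrArg Subtype.val gc))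
  · exact ⟨_, hk1, ⟨_, inf_mem⟩, ⟨_, pt_mem (0 : F) 0⟩,
      fun h => pt_ne_inf 0 0 (congrArg Subtype.val h).symm, hfix _ (Or.inl rfl), hfix _ (Or.inr rfl)⟩
  · intro N hN htr
    have hne : N ≠ ⊥ := by
      intro h
      obtain ⟨n, hn⟩ := htr.exists_smul_eq (⟨_, inf_mem⟩ : Cfsg.suzukiOvoid F m)
        ⟨_, pt_mem (0 : F) 0⟩
      have : (n : Cfsg.Sz F m) = 1 := Subgroup.mem_bot.1 (h ▸ n.2)
      have h' : (n : Cfsg.Sz F m) • (⟨_, inf_mem⟩ : Cfsg.suzukiOvoid F m) = ⟨_, pt_mem (0 : F) 0⟩ := hn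
      rw [this, one_smul] at h'
      exact pt_ne_inf 0 0 (congrArg Subtype.val h').symm
    have htop : N = ⊤ := ((sz_simple hF hm).eq_bot_or_eq_top_of_normal N hN).resolve_left hne
    refine ⟨⟨_, inf_mem⟩, fun h => hk1 ?_⟩
    have hmem : (⟨dS hF k, htop ▸ Subgroup.mem_top _⟩ : N) ∈
        MulAction.stabilizer N (⟨_, inf_mem⟩ : Cfsg.suzukiOvoid F m) := hfix _ (Or.inl rfl)
    rw [h, Subgroup.mem_bot] at hmem
    exact congrArg Subtype.val hmem

end Cfsg.Agent.Lie.Suzuki
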