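import Mathlib

/-!
A primitive group with a Jordan set of at most half the points is three-fold transitive.
-/

set_option autoImplicit false

namespace Cfsg.Agent.Lie.JordanThree

open MulAction
open scoped Pointwise

variable {G Ω : Type*} [Group G] [MulAction G Ω]

/-- A Jordan set. -/
def IsJ (G : Type*) [Group G] [MulAction G Ω] (Δ : Set Ω) : Prop :=
  ∀ x ∈ Δ, ∀ y ∈ Δ, ∃ g : G, (∀ z ∉ Δ, g • z = z) ∧ g • x = y

theorem IsJ.smul {Δ : Set Ω} (h : IsJ G Δ) (u : G) : IsJ G (u • Δ) := by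
  rintro _ ⟨x, hx, rfl⟩ _ ⟨y, hy, rfl⟩
  obtain ⟨g, hg, hgx⟩ := h x hx y hy
  refine ⟨u * g * u⁻¹, fun z hz => ?_, ?_⟩
  · rw [mul_smul, mul_smul, hg _ (fun h' => hz (Set.mem_smul_set_iff_inv_smul_mem.2 h')), smul_inv_smul]
  · show (u * g * u⁻¹) • (u • x) = u • y
    rw [mul_smul, mul_smul, inv_smul_smul, hgx]

theorem isPretransitive_fixing {Δ : Set Ω} (h : IsJ G Δ) :
    IsPretransitive (fixingSubgroup G Δᶜ) (SubMulAction.ofFixingSubgroup G Δᶜ) := by
  refine ⟨fun x y => ?_⟩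
  have hx : (x : Ω) ∈ Δ := by
    have := x.2; rw [SubMulAction.mem_ofFixingSubgroup_iff] at this; simpa using this
  have hy : (y : Ω) ∈ Δ := by
    have := y.2; rw [SubMulAction.mem_ofFixingSubgroup_iff] at this; simpa using this
  obtain ⟨g, hg, hgx⟩ := h _ hx _ hy
  exact ⟨⟨g, (mem_fixingSubgroup_iff G).2 fun z hz => hg z hz⟩, Subtype.ext hgx⟩

theorem two_pretransitive [Finite Ω] (hprim : IsPreprimitive G Ω) {Δ : Set Ω} (h : IsJ G Δ)
    (h1 : 1 < Δ.ncard) (h2 : Δ.ncard < Nat.card Ω) : IsMultiplyPretransitive G Ω 2 := by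
  have hc := Set.ncard_compl Δ
  obtain ⟨n, hn⟩ : ∃ n, Δᶜ.ncard = n + 1 := ⟨Δᶜ.ncard - 1, by omega⟩
  exact hprim.is_two_pretransitive hn (by omega) (isPretransitive_fixing h)

theorem exists_smul_pair (h2 : IsMultiplyPretransitive G Ω 2) {x y x' y' : Ω} (h : x ≠ y)
    (h' : x' ≠ y') : ∃ g : G, g • x = x' ∧ g • y = y' :=
  is_two_pretransitive_iff.1 h2 h h'

variable [Finite G] [Finite Ω]

/-- The number of translates containing two given points. -/
noncomputable def lam (G : Type*) [Group G] [MulAction G Ω] (Γ : Set Ω) (x y : Ω) : ℕ :=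
  {Δ ∈ MulAction.orbit G Γ | x ∈ Δ ∧ y ∈ Δ}.ncard

theorem lam_smul (Γ : Set Ω) (g : G) (x y : Ω) : lam G Γ (g • x) (g • y) = lam G Γ x y := by
  unfold lam
  rw [← Set.ncard_image_of_injective {Δ ∈ MulAction.orbit G Γ | x ∈ Δ ∧ y ∈ Δ} (MulAction.injective g)]
  congr 1
  ext Δ
  simp only [Set.mem_ofPred_eq, Set.mem_image]
  constructor
  · rintro ⟨hΔ, hx, hy⟩
    refine ⟨g⁻¹ • Δ, ⟨?_, ?_, ?_⟩, smul_inv_smul g Δ⟩
    · obtain ⟨u, rfl⟩ := hΔ
      exact ⟨g⁻¹ * u, mul_smul g⁻¹ u Γ⟩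
    · rwa [Set.mem_smul_set_iff_inv_smul_mem, inv_inv]
    · rwa [Set.mem_smul_set_iff_inv_smul_mem, inv_inv]
  · rintro ⟨Δ', ⟨⟨u, rfl⟩, hx, hy⟩, rfl⟩
    exact ⟨⟨g * u, mul_smul g u Γ⟩, Set.smul_mem_smul_set hx, Set.smul_mem_smul_set hy⟩

theorem count (Γ : Set Ω) (h2 : IsMultiplyPretransitive G Ω 2) {x a : Ω} (hxa : x ≠ a) :
    {Δ ∈ MulAction.orbit G Γ | x ∈ Δ}.ncard * (Γ.ncard - 1) = lam G Γ x a * (Nat.card Ω - 1) := by
  classical
  haveI := Fintype.ofFinite Ω
  set S := {Δ ∈ MulAction.orbit G Γ | x ∈ Δ}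
  have hS : S.Finite := Set.toFinite _
  have hl : ∀ y ∈ Finset.univ.erase x,
      (hS.toFinset.bipartiteBelow (fun Δ z => z ∈ Δ) y).card = lam G Γ x a := by
    intro y hy
    obtain ⟨g, hgx, hgy⟩ := exists_smul_pair h2 (Finset.ne_of_mem_erase hy).symm hxa
    rw [← hgx, ← hgy, lam_smul, lam, ← Set.ncard_coe_finset]
    congr 1
    ext Δ
    simp [S, Finset.bipartiteBelow, and_assoc]
  have hr : ∀ Δ ∈ hS.toFinset,
      ((Finset.univ.erase x).bipartiteAbove (fun Δ z => z ∈ Δ) Δ).card = Γ.ncard - 1 := by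
    intro Δ hΔ
    rw [Set.Finite.mem_toFinset] at hΔ
    obtain ⟨hΔ', hx⟩ := hΔ
    obtain ⟨u, hu⟩ := hΔ'
    have hu' : u • Γ = Δ := hu
    subst hu'
    rw [← Set.ncard_coe_finset, show (((Finset.univ.erase x).bipartiteAbove (fun Δ z => z ∈ Δ) (u • Γ)) : Set Ω) =
      (u • Γ) \ {x} by ext z; simp [Finset.bipartiteAbove, and_comm],
      Set.ncard_sdiff_singleton_of_mem hx, ← Set.image_smul, Set.ncard_image_of_injective _ (MulAction.injective u)]
  have := Finset.sum_card_bipartiteAbove_eq_sum_card_bipartiteBelow (s := hS.toFinset)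
    (t := Finset.univ.erase x) (fun Δ z => z ∈ Δ)
  rw [Finset.sum_congr rfl hr, Finset.sum_congr rfl hl, Finset.sum_const, Finset.sum_const,
    Finset.card_erase_of_mem (Finset.mem_univ x), Finset.card_univ, smul_eq_mul, smul_eq_mul,
    ← Set.ncard_eq_toFinset_card S hS, ← Nat.card_eq_fintype_card] at this
  rw [this, mul_comm]

theorem translate_ncard (Γ : Set Ω) {Δ : Set Ω} (h : Δ ∈ MulAction.orbit G Γ) :
    Δ.ncard = Γ.ncard := by
  obtain ⟨u, rfl⟩ := h
  show (u • Γ).ncard = _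
  rw [← Set.image_smul, Set.ncard_image_of_injective _ (MulAction.injective u)]

theorem three_pretransitive (hprim : IsPreprimitive G Ω) {Γ : Set Ω} (hJ : IsJ G Γ)
    (h1 : 1 < Γ.ncard) (h2 : 2 * Γ.ncard ≤ Nat.card Ω) : IsMultiplyPretransitive G Ω 3 := by
  classical
  have htwo := two_pretransitive hprim hJ h1 (by omega)
  haveI := hprim.toIsPretransitive
  obtain ⟨z, hz⟩ : ∃ z, z ∉ Γ := by
    by_contra hcon
    push Not at hcon
    rw [Set.eq_univ_of_forall hcon, Set.ncard_univ] at h2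
    rw [Set.eq_univ_of_forall hcon, Set.ncard_univ] at h1
    omega
  set a := z
  let H := stabilizer G a
  let S := SubMulAction.ofStabilizer G a
  have hne : ∀ x : S, (x : Ω) ≠ a := fun x => (SubMulAction.mem_ofStabilizer_iff G a).1 x.2
  haveI htrS : IsPretransitive H S := ⟨fun x y => by
    obtain ⟨g, hga, hgx⟩ := exists_smul_pair htwo (hne x).symm (hne y).symm
    exact ⟨⟨g, hga⟩, Subtype.ext hgx⟩⟩
  have hscard : ∀ A : Set S, (Subtype.val '' A).ncard = A.ncard := fun A =>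
    Set.ncard_image_of_injective A Subtype.val_injective
  have hprimS : IsPreprimitive H S := by
    refine ⟨fun {B} hB => ?_⟩
    by_contra htriv
    rw [IsTrivialBlock, not_or] at htriv
    obtain ⟨hsub, hBuniv⟩ := htriv
    obtain ⟨x, hx, y, hy, hxy⟩ := Set.not_subsingleton_iff.1 hsub
    have hxa : (x : Ω) ≠ a := hne x
    have hxy' : (x : Ω) ≠ y := fun e => hxy (Subtype.ext e)
    obtain ⟨w, hw⟩ : ∃ w, w ∉ B := by
      by_contra hcon
      exact hBuniv (Set.eq_univ_of_forall fun w => not_not.1 fun h => hcon ⟨w, h⟩)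
    have hcB : ∀ g : H, (g • B).ncard = B.ncard := fun g => by
      rw [← Set.image_smul, Set.ncard_image_of_injective _ (MulAction.injective g)]
    have hS1 : Nat.card S = Nat.card Ω - 1 := SubMulAction.nat_card_ofStabilizer_eq G a
    -- two disjoint translates
    have h2B : 2 * B.ncard ≤ Nat.card Ω - 1 := by
      obtain ⟨g, hg⟩ := exists_smul_eq H x w
      have hwg : w ∈ g • B := ⟨x, hx, hg⟩
      have hd : Disjoint (g • B) B := by
        rcases hB.smul_eq_smul_or_disjoint g 1 with h | h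
        · rw [one_smul] at h; exact absurd (h ▸ hwg) hw
        · rwa [one_smul] at h
      have := Set.ncard_union_eq hd
      rw [hcB] at this
      have hle := Set.ncard_le_card (g • B ∪ B)
      omega
    -- a translate of Γ avoiding a and meeting a block
    have hdich : ∀ g : H, ∀ Δ ∈ orbit G Γ, a ∉ Δ → ∀ p ∈ g • B, (p : Ω) ∈ Δ →
        Δ ⊆ Subtype.val '' (g • B) ∨ Subtype.val '' (g • B) ⊆ Δ := by
      intro g Δ hΔ haΔ p hp hpΔ
      by_cases hout : ∃ r ∈ g • B, (r : Ω) ∉ Δ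
      · obtain ⟨r, hr, hrΔ⟩ := hout
        left
        intro q hq
        obtain ⟨u, rfl⟩ := hΔ
        obtain ⟨k, hk, hkp⟩ := hJ.smul u _ hpΔ q hq
        have he : (⟨k, hk a haΔ⟩ : H) • (g • B) = g • B :=
          isBlock_iff_smul_eq_of_nonempty.1 (hB.translate g) ⟨r, ⟨r, hr, Subtype.ext (hk r hrΔ)⟩, hr⟩
        exact ⟨(⟨k, hk a haΔ⟩ : H) • p, he ▸ Set.smul_mem_smul_set hp, hkp⟩
      · push Not at hout
        right
        rintro _ ⟨r, hr, rfl⟩
        exact hout r hr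
    have hdisj : ∀ g : H, ∀ p ∈ g • B, p ∈ B → g • B = B := fun g p hp hpB => by
      rcases hB.smul_eq_smul_or_disjoint g 1 with h | h
      · rwa [one_smul] at h
      · rw [one_smul] at h; exact absurd hpB (Set.disjoint_left.1 h hp)
    have hlam : ∀ p q p' q' : Ω, p ≠ q → p' ≠ q' → lam G Γ p q = lam G Γ p' q' := by
      intro p q p' q' hpq hpq'
      obtain ⟨g, e1, e2⟩ := exists_smul_pair htwo hpq hpq'
      rw [← e1, ← e2, lam_smul]
    have hex : ∃ Δ ∈ orbit G Γ, (x : Ω) ∈ Δ ∧ a ∈ Δ := by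
      obtain ⟨γ, hγ, δ, hδ, hγδ⟩ := (Set.one_lt_ncard (Set.toFinite Γ)).1 h1
      obtain ⟨g, e1, e2⟩ := exists_smul_pair htwo hγδ hxa
      exact ⟨g • Γ, ⟨g, rfl⟩, e1 ▸ Set.smul_mem_smul_set hγ, e2 ▸ Set.smul_mem_smul_set hδ⟩
    have hx1 : x ∈ (1 : H) • B := by rw [one_smul]; exact hx
    rcases Nat.lt_or_ge Γ.ncard B.ncard with hlt | hge
    · -- every translate avoiding a lies in a block
      obtain ⟨Δ₀, hΔ₀, hxΔ₀, haΔ₀⟩ := hex
      have hall : ∀ w : S, w ∉ B → (w : Ω) ∈ Δ₀ := by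
        intro w hw
        have hsubset : {Δ ∈ orbit G Γ | (x : Ω) ∈ Δ ∧ (w : Ω) ∈ Δ} ⊆
            {Δ ∈ orbit G Γ | (x : Ω) ∈ Δ ∧ a ∈ Δ} := by
          rintro Δ ⟨hΔ, hxΔ, hwΔ⟩
          refine ⟨hΔ, hxΔ, ?_⟩
          by_contra haΔ
          rcases hdich 1 Δ hΔ haΔ x hx1 hxΔ with h | h
          · obtain ⟨w', hw', e⟩ := h hwΔ
            rw [one_smul] at hw'
            exact hw ((Subtype.ext e : w' = w) ▸ hw')
          · have hle := Set.ncard_le_ncard h (Set.toFinite _)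
            rw [hscard, hcB, translate_ncard Γ hΔ] at hle
            omega
        have heq := Set.eq_of_subset_of_ncard_le hsubset
          (hlam (x : Ω) a x w hxa (fun e => hw ((Subtype.ext e : x = w) ▸ hx))).le (Set.toFinite _)
        have hmem : Δ₀ ∈ {Δ ∈ orbit G Γ | (x : Ω) ∈ Δ ∧ a ∈ Δ} := ⟨hΔ₀, hxΔ₀, haΔ₀⟩
        rw [← heq] at hmem
        exact hmem.2.2
      have hax : a ∉ Subtype.val '' (insert x Bᶜ) := fun ⟨u, _, e⟩ => hne u e
      have hsub' : insert a (Subtype.val '' (insert x Bᶜ)) ⊆ Δ₀ := by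
        rintro q (rfl | ⟨u, rfl | hu, rfl⟩)
        · exact haΔ₀
        · exact hxΔ₀
        · exact hall u hu
      have hle := Set.ncard_le_ncard hsub' (Set.toFinite _)
      rw [Set.ncard_insert_of_notMem hax (Set.toFinite _), hscard,
        Set.ncard_insert_of_notMem (by simpa using hx) (Set.toFinite _), translate_ncard Γ hΔ₀] at hle
      have := Set.ncard_compl B
      omega
    · -- every translate through x avoiding a contains y
      have hcount := count Γ htwo hxa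
      have hle : {Δ ∈ orbit G Γ | (x : Ω) ∈ Δ}.ncard ≤ lam G Γ x a + lam G Γ x y := by
        refine (Set.ncard_le_ncard ?_ (Set.toFinite _)).trans (Set.ncard_union_le _ _)
        rintro Δ ⟨hΔ, hxΔ⟩
        by_cases haΔ : a ∈ Δ
        · exact Or.inl ⟨hΔ, hxΔ, haΔ⟩
        · refine Or.inr ⟨hΔ, hxΔ, ?_⟩
          rcases hdich 1 Δ hΔ haΔ x hx1 hxΔ with h | h
          · have he := Set.eq_of_subset_of_ncard_le h (by
              rw [hscard, hcB, translate_ncard Γ hΔ]; exact hge) (Set.toFinite _)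
            rw [he, one_smul]
            exact ⟨y, hy, rfl⟩
          · rw [one_smul] at h
            exact h ⟨y, hy, rfl⟩
      rw [hlam (x : Ω) y x a hxy' hxa] at hle
      have hpos : 0 < lam G Γ (x : Ω) a := by
        obtain ⟨Δ₀, hΔ₀, hxΔ₀, haΔ₀⟩ := hex
        exact (Set.ncard_pos (Set.toFinite _)).2 ⟨Δ₀, hΔ₀, hxΔ₀, haΔ₀⟩
      have hmul : lam G Γ x a * (Nat.card Ω - 1) ≤ lam G Γ x a * (2 * (Γ.ncard - 1)) := by
        rw [← hcount, mul_comm 2, ← mul_assoc, mul_comm _ 2, ← mul_assoc]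
        exact Nat.mul_le_mul_right _ (by omega)
      have := Nat.le_of_mul_le_mul_left hmul hpos
      omega
  have hΔ : IsJ H (Subtype.val ⁻¹' Γ : Set S) := by
    intro p hp q hq
    obtain ⟨g, hg, hgp⟩ := hJ _ hp _ hq
    exact ⟨⟨g, hg a hz⟩, fun r hr => Subtype.ext (hg r hr), Subtype.ext hgp⟩
  have hcard : (Subtype.val ⁻¹' Γ : Set S).ncard = Γ.ncard := by
    rw [← hscard]
    congr 1
    ext q
    constructor
    · rintro ⟨q', hq', rfl⟩; exact hq'
    · exact fun hq => ⟨⟨q, (SubMulAction.mem_ofStabilizer_iff G a).2 fun e => hz (e ▸ hq)⟩, hq, rfl⟩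
  have h2S : IsMultiplyPretransitive H S 2 :=
    two_pretransitive hprimS hΔ (hcard ▸ h1) (by
      rw [hcard, SubMulAction.nat_card_ofStabilizer_eq]; omega)
  exact (SubMulAction.ofStabilizer.isMultiplyPretransitive (a := a)).2 h2S

end Cfsg.Agent.Lie.JordanThree
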