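import Mathlib
import Cfsg.Agent.Lib.Lie.JordanThree

/-!
A primitive group with a Jordan set of fewer than half the points contains the alternating group.
-/

set_option autoImplicit false

namespace Cfsg.Agent.Lie.JordanAlt

open MulAction
open Cfsg.Agent.Lie.JordanThree (IsJ two_pretransitive three_pretransitive translate_ncard)
open scoped Pointwise

theorem choose_lt_succ {N a : ℕ} (h : 2 * a + 1 < N) : N.choose a < N.choose (a + 1) := by
  have e := Nat.choose_succ_right_eq N a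
  have hpos : 0 < N.choose a := Nat.choose_pos (by omega)
  by_contra hle
  push Not at hle
  have h1 : N.choose (a + 1) * (a + 1) ≤ N.choose a * (a + 1) := Nat.mul_le_mul_right _ hle
  have h2 : N.choose a * (a + 1) < N.choose a * (N - a) :=
    Nat.mul_lt_mul_of_pos_left (by omega) hpos
  omega

variable {G Ω : Type*} [Group G] [MulAction G Ω] [Finite G] [Finite Ω]

/-- The number of translates meeting `Q` in `S`. -/
noncomputable def pat (G : Type*) [Group G] [MulAction G Ω] (Γ Q S : Set Ω) : ℕ :=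
  {Δ ∈ orbit G Γ | Δ ∩ Q = S}.ncard

omit [Finite G] [Finite Ω] in
theorem pat_smul (Γ Q S : Set Ω) (g : G) : pat G Γ (g • Q) (g • S) = pat G Γ Q S := by
  unfold pat
  rw [← Set.ncard_image_of_injective {Δ ∈ orbit G Γ | Δ ∩ Q = S} (MulAction.injective g)]
  congr 1
  ext Δ
  simp only [Set.mem_ofPred_eq, Set.mem_image]
  constructor
  · rintro ⟨⟨u, rfl⟩, hS⟩
    refine ⟨g⁻¹ • (u • Γ), ⟨⟨g⁻¹ * u, mul_smul g⁻¹ u Γ⟩, ?_⟩, smul_inv_smul g _⟩
    apply MulAction.injective g
    show g • (g⁻¹ • (u • Γ) ∩ Q) = g • S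
    rw [Set.smul_set_inter, smul_inv_smul]
    exact hS
  · rintro ⟨Δ', ⟨⟨u, rfl⟩, hS⟩, rfl⟩
    exact ⟨⟨g * u, mul_smul g u Γ⟩, by rw [← Set.smul_set_inter]; exact congrArg (g • ·) hS⟩

theorem pat_split (Γ Q S : Set Ω) {u : Ω} (hu : u ∉ Q) (hS : S ⊆ Q) :
    pat G Γ (insert u Q) S + pat G Γ (insert u Q) (insert u S) = pat G Γ Q S := by
  unfold pat
  have huS : u ∉ S := fun h => hu (hS h)
  rw [← Set.ncard_union_eq ?_ (Set.toFinite _) (Set.toFinite _)]
  · congr 1
    ext Δ
    simp only [Set.mem_union, Set.mem_ofPred_eq]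
    constructor
    · rintro (⟨hΔ, h⟩ | ⟨hΔ, h⟩)
      · refine ⟨hΔ, Set.ext fun z => ?_⟩
        have := Set.ext_iff.1 h z
        simp only [Set.mem_inter_iff, Set.mem_insert_iff] at this ⊢
        constructor
        · exact fun hz => this.1 ⟨hz.1, Or.inr hz.2⟩
        · exact fun hz => ⟨(this.2 hz).1, hS hz⟩
      · refine ⟨hΔ, Set.ext fun z => ?_⟩
        have := Set.ext_iff.1 h z
        simp only [Set.mem_inter_iff, Set.mem_insert_iff] at this ⊢
        constructor
        · intro hz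
          exact (this.1 ⟨hz.1, Or.inr hz.2⟩).resolve_left fun e => hu (e ▸ hz.2)
        · exact fun hz => ⟨(this.2 (Or.inr hz)).1, hS hz⟩
    · rintro ⟨hΔ, h⟩
      by_cases huΔ : u ∈ Δ
      · right; exact ⟨hΔ, by rw [Set.inter_insert_of_mem huΔ, h]⟩
      · left; exact ⟨hΔ, by rw [Set.inter_insert_of_notMem huΔ, h]⟩
  · refine Set.disjoint_left.2 fun Δ h1 h2 => huS ?_
    have := h1.2.symm.trans h2.2
    rw [this]; exact Set.mem_insert u S

omit [Finite G] in
theorem exists_smul_sets {k : ℕ} (hk : IsMultiplyPretransitive G Ω k) (hkn : k ≤ Nat.card Ω)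
    {Q₁ S₁ Q₂ S₂ : Set Ω} (h1 : S₁ ⊆ Q₁) (h2 : S₂ ⊆ Q₂) (hQ : Q₁.ncard = Q₂.ncard)
    (hS : S₁.ncard = S₂.ncard) (hle : Q₁.ncard ≤ k) : ∃ g : G, g • Q₁ = Q₂ ∧ g • S₁ = S₂ := by
  classical
  haveI : IsMultiplyPretransitive G Ω Q₁.ncard := isMultiplyPretransitive_of_le hle (by simpa using hkn)
  have hD : (Q₁ \ S₁).ncard = (Q₂ \ S₂).ncard := by
    rw [Set.ncard_sdiff h1 (Set.toFinite _), Set.ncard_sdiff h2 (Set.toFinite _), hQ, hS]
  obtain ⟨eS⟩ : Nonempty (S₁ ≃ S₂) := by
    rw [← Finite.card_eq]; simpa [Nat.card_coe_set_eq] using hS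
  obtain ⟨eD⟩ : Nonempty (↥(Q₁ \ S₁) ≃ ↥(Q₂ \ S₂)) := by
    rw [← Finite.card_eq]; simpa [Nat.card_coe_set_eq] using hD
  let φ : Q₁ → Ω := fun z => if hz : (z : Ω) ∈ S₁ then (eS ⟨z, hz⟩ : Ω) else (eD ⟨z, z.2, hz⟩ : Ω)
  have hφ : Function.Injective φ := by
    intro a b e
    simp only [φ] at e
    split_ifs at e with ha hb hb
    · have := eS.injective (Subtype.ext e); exact Subtype.ext (congrArg Subtype.val this :)
    · exact absurd (e ▸ (eS ⟨a, ha⟩).2) (eD ⟨b, b.2, hb⟩).2.2
    · exact absurd (e ▸ (eS ⟨b, hb⟩).2) (eD ⟨a, a.2, ha⟩).2.2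
    · have := eD.injective (Subtype.ext e); exact Subtype.ext (congrArg Subtype.val this :)
  obtain ⟨e⟩ : Nonempty (Fin Q₁.ncard ≃ Q₁) :=
    ⟨((Finite.equivFin Q₁).trans (finCongr (Nat.card_coe_set_eq Q₁))).symm⟩
  obtain ⟨g, hg⟩ := exists_smul_eq G (⟨fun i => (e i : Ω), Subtype.val_injective.comp e.injective⟩ : Fin Q₁.ncard ↪ Ω)
    ⟨fun i => φ (e i), hφ.comp e.injective⟩
  have hgz : ∀ z : Q₁, g • (z : Ω) = φ z := fun z => by
    have := congrArg (fun f : Fin Q₁.ncard ↪ Ω => f (e.symm z)) hg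
    simpa [Function.Embedding.smul_apply] using this
  have hgS : ∀ z (hz : z ∈ S₁), g • z = (eS ⟨z, hz⟩ : Ω) := fun z hz => by
    rw [hgz ⟨z, h1 hz⟩]; simp only [φ, hz, dite_true]
  refine ⟨g, ?_, ?_⟩
  · refine Set.eq_of_subset_of_ncard_le ?_ (by
      rw [← Set.image_smul, Set.ncard_image_of_injective _ (MulAction.injective g), hQ]) (Set.toFinite _)
    rintro _ ⟨z, hz, rfl⟩
    show g • z ∈ Q₂
    rw [hgz ⟨z, hz⟩]
    simp only [φ]
    split_ifs with h
    · exact h2 (eS _).2
    · exact (eD _).2.1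
  · refine Set.eq_of_subset_of_ncard_le ?_ (by
      rw [← Set.image_smul, Set.ncard_image_of_injective _ (MulAction.injective g), hS]) (Set.toFinite _)
    rintro _ ⟨z, hz, rfl⟩
    show g • z ∈ S₂
    rw [hgS z hz]
    exact (eS _).2

theorem pat_eq {k : ℕ} (hk : IsMultiplyPretransitive G Ω k) (hkn : k ≤ Nat.card Ω) (Γ : Set Ω)
    {Q₁ S₁ Q₂ S₂ : Set Ω} (h1 : S₁ ⊆ Q₁) (h2 : S₂ ⊆ Q₂) (hQ : Q₁.ncard = Q₂.ncard)
    (hS : S₁.ncard = S₂.ncard) (hle : Q₁.ncard ≤ k) : pat G Γ Q₁ S₁ = pat G Γ Q₂ S₂ := by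
  obtain ⟨g, rfl, rfl⟩ := exists_smul_sets hk hkn h1 h2 hQ hS hle
  rw [pat_smul]

/-- The ratio of consecutive pattern counts. -/
theorem pat_rec {k : ℕ} (hk : IsMultiplyPretransitive G Ω k) (hkn : k ≤ Nat.card Ω) (Γ : Set Ω)
    {Q S : Set Ω} (hSQ : S ⊆ Q) (hQ : Q.ncard + 1 = k) {u : Ω} (hu : u ∉ Q) :
    pat G Γ (insert u Q) (insert u S) * (Nat.card Ω - Q.ncard) =
      pat G Γ Q S * (Γ.ncard - S.ncard) := by
  classical
  haveI := Fintype.ofFinite Ω
  have huS : ∀ v : Ω, v ∉ Q → v ∉ S := fun v hv h => hv (hSQ h)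
  set F := {Δ ∈ orbit G Γ | Δ ∩ Q = S}
  have hF : F.Finite := Set.toFinite _
  have hl : ∀ v ∈ Qᶜ.toFinset,
      (hF.toFinset.bipartiteBelow (fun Δ z => z ∈ Δ) v).card =
        pat G Γ (insert u Q) (insert u S) := by
    intro v hv
    have hv' : v ∉ Q := by simpa using hv
    rw [pat_eq hk hkn Γ (Set.insert_subset_insert hSQ) (Set.insert_subset_insert hSQ)
      (Q₂ := insert v Q) (S₂ := insert v S)
      (by rw [Set.ncard_insert_of_notMem hu, Set.ncard_insert_of_notMem hv'])
      (by rw [Set.ncard_insert_of_notMem (huS u hu), Set.ncard_insert_of_notMem (huS v hv')])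
      (by rw [Set.ncard_insert_of_notMem hu]; omega)]
    rw [pat, ← Set.ncard_coe_finset]
    congr 1
    ext Δ
    simp only [Finset.bipartiteBelow, Finset.coe_filter, Set.Finite.mem_toFinset, Set.mem_ofPred_eq, F]
    constructor
    · rintro ⟨⟨hΔ, h⟩, hvΔ⟩
      exact ⟨hΔ, by rw [Set.inter_insert_of_mem hvΔ, h]⟩
    · rintro ⟨hΔ, h⟩
      have hvΔ : v ∈ Δ := ((Set.ext_iff.1 h v).2 (Set.mem_insert v S)).1
      refine ⟨⟨hΔ, ?_⟩, hvΔ⟩
      rw [Set.inter_insert_of_mem hvΔ] at h
      refine Set.ext fun z => ?_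
      have := Set.ext_iff.1 h z
      simp only [Set.mem_insert_iff] at this
      constructor
      · exact fun hz => (this.1 (Or.inr hz)).resolve_left fun e => hv' (e ▸ hz.2)
      · exact fun hz => (this.2 (Or.inr hz)).resolve_left fun e => huS v hv' (e ▸ hz)
  have hr : ∀ Δ ∈ hF.toFinset,
      (Qᶜ.toFinset.bipartiteAbove (fun Δ z => z ∈ Δ) Δ).card = Γ.ncard - S.ncard := by
    intro Δ hΔ
    rw [Set.Finite.mem_toFinset] at hΔ
    rw [← Set.ncard_coe_finset, show ((Qᶜ.toFinset.bipartiteAbove (fun Δ z => z ∈ Δ) Δ : Finset Ω) : Set Ω) =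
      Δ \ Q by ext z; simp [Finset.bipartiteAbove, and_comm]]
    have h := Set.ncard_inter_add_ncard_sdiff_eq_ncard Δ Q (Set.toFinite _)
    rw [hΔ.2, translate_ncard Γ hΔ.1] at h
    omega
  have := Finset.sum_card_bipartiteAbove_eq_sum_card_bipartiteBelow (s := hF.toFinset)
    (t := Qᶜ.toFinset) (fun Δ z => z ∈ Δ)
  rw [Finset.sum_congr rfl hr, Finset.sum_congr rfl hl, Finset.sum_const, Finset.sum_const,
    smul_eq_mul, smul_eq_mul, ← Set.ncard_eq_toFinset_card F hF, ← Set.ncard_eq_toFinset_card',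
    Set.ncard_compl] at this
  rw [mul_comm, ← this]
  rfl

theorem exists_avoid {k : ℕ} (hk : IsMultiplyPretransitive G Ω k) (hkn : k ≤ Nat.card Ω) (Γ T : Set Ω)
    (hT : T.ncard ≤ k) (hc : T.ncard + Γ.ncard ≤ Nat.card Ω) :
    ∃ Δ ∈ orbit G Γ, ∀ z ∈ T, z ∉ Δ := by
  obtain ⟨T₀, hT₀, hT₀c⟩ := Set.exists_subset_card_eq (s := Γᶜ) (n := T.ncard)
    (by rw [Set.ncard_compl]; omega)
  obtain ⟨g, hg, -⟩ := exists_smul_sets hk hkn (Set.empty_subset T₀) (Set.empty_subset T)
    hT₀c rfl (by omega)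
  refine ⟨g • Γ, ⟨g, rfl⟩, fun z hz hz' => ?_⟩
  rw [← hg] at hz
  obtain ⟨w, hw, rfl⟩ := hz
  exact hT₀ hw (Set.smul_mem_smul_set_iff.1 hz')

/-- One more degree of transitivity when the degree is `2c + 1`. -/
theorem step {Γ : Set Ω} (hJ : IsJ G Γ) (hn : Nat.card Ω = 2 * Γ.ncard + 1) {k : ℕ} (hk3 : 3 ≤ k)
    (hkc : k < Γ.ncard) (hk : IsMultiplyPretransitive G Ω k) :
    IsMultiplyPretransitive G Ω (k + 1) := by
  classical
  set c := Γ.ncard with hc
  have hkn : k ≤ Nat.card Ω := by omega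
  rw [isMultiplyPretransitive_iff]
  intro xs ys
  obtain ⟨j, rfl⟩ : ∃ j, k = j + 1 := ⟨k - 1, by omega⟩
  haveI : IsMultiplyPretransitive G Ω j :=
    isMultiplyPretransitive_of_le (n := j + 1) (by omega) (by simpa using hkn)
  let em : Fin j ↪ Fin (j + 1 + 1) := Fin.castAddEmb 2
  obtain ⟨g, hg⟩ := exists_smul_eq G (em.trans xs) (em.trans ys)
  set T : Set Ω := Set.range (em.trans ys)
  have hTc : T.ncard = j := by
    rw [← Nat.card_coe_set_eq, Nat.card_range_of_injective (em.trans ys).injective, Nat.card_fin]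
  let H := fixingSubgroup G T
  let S := SubMulAction.ofFixingSubgroup G T
  have hmemS : ∀ z : Ω, z ∈ S ↔ z ∉ T := fun z => SubMulAction.mem_ofFixingSubgroup_iff G
  have hScard : Nat.card S = Nat.card Ω - j := by
    rw [← hTc]
    have : (S : Set Ω) = Tᶜ := Set.ext hmemS
    rw [← Set.ncard_compl, ← this]
    exact Nat.card_coe_set_eq _
  haveI htr : IsPretransitive H S := ⟨fun a b => by
    have ha : (a : Ω) ∉ T := (hmemS _).1 a.2
    have hb : (b : Ω) ∉ T := (hmemS _).1 b.2
    let ea : Fin (j + 1) ↪ Ω := ⟨Fin.snoc (em.trans ys) (a : Ω),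
      Fin.snoc_injective_iff.2 ⟨(em.trans ys).injective, ha⟩⟩
    let eb : Fin (j + 1) ↪ Ω := ⟨Fin.snoc (em.trans ys) (b : Ω),
      Fin.snoc_injective_iff.2 ⟨(em.trans ys).injective, hb⟩⟩
    obtain ⟨u, hu⟩ := exists_smul_eq G ea eb
    refine ⟨⟨u, (mem_fixingSubgroup_iff G).2 ?_⟩, Subtype.ext ?_⟩
    · rintro _ ⟨i, rfl⟩
      have := congrArg (fun f : Fin (j + 1) ↪ Ω => f i.castSucc) hu
      simpa [ea, eb, Function.Embedding.smul_apply] using this
    · have := congrArg (fun f : Fin (j + 1) ↪ Ω => f (Fin.last j)) hu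
      simpa [ea, eb, Function.Embedding.smul_apply] using this⟩
  have hscard : ∀ A : Set S, (Subtype.val '' A).ncard = A.ncard := fun A =>
    Set.ncard_image_of_injective A Subtype.val_injective
  have hprimS : IsPreprimitive H S := by
    refine ⟨fun {B} hB => ?_⟩
    by_contra htriv
    rw [IsTrivialBlock, not_or] at htriv
    obtain ⟨hsub, hBuniv⟩ := htriv
    obtain ⟨x, hx, y, hy, hxy⟩ := Set.not_subsingleton_iff.1 hsub
    obtain ⟨w, hw⟩ : ∃ w, w ∉ B := by
      by_contra hcon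
      exact hBuniv (Set.eq_univ_of_forall fun w => not_not.1 fun h => hcon ⟨w, h⟩)
    have h2B : 2 * B.ncard ≤ Nat.card S := by
      obtain ⟨u, hu⟩ := exists_smul_eq H x w
      have hwg : w ∈ u • B := ⟨x, hx, hu⟩
      have hd : Disjoint (u • B) B := by
        rcases hB.smul_eq_smul_or_disjoint u 1 with h | h
        · rw [one_smul] at h; exact absurd (h ▸ hwg) hw
        · rwa [one_smul] at h
      have := Set.ncard_union_eq hd
      rw [← Set.image_smul, Set.ncard_image_of_injective _ (MulAction.injective u)] at this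
      have hle := Set.ncard_le_card (u • B ∪ B)
      rw [← Set.image_smul] at hle
      omega
    have hxT : (x : Ω) ∉ T := (hmemS _).1 x.2
    have hyT : (y : Ω) ∉ T := (hmemS _).1 y.2
    set Q : Set Ω := insert (x : Ω) (insert (y : Ω) T)
    have hxy' : (x : Ω) ≠ y := fun e => hxy (Subtype.ext e)
    have hQc : Q.ncard = j + 2 := by
      rw [Set.ncard_insert_of_notMem (by simp [hxy', hxT]), Set.ncard_insert_of_notMem hyT, hTc]
    -- nothing meets Q in x alone
    have hzero : pat G Γ Q {(x : Ω)} = 0 := by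
      rw [pat, Set.ncard_eq_zero (Set.toFinite _)]
      refine Set.eq_empty_iff_forall_notMem.2 fun Δ ⟨hΔ, hΔQ⟩ => ?_
      have hxΔ : (x : Ω) ∈ Δ := ((Set.ext_iff.1 hΔQ _).2 rfl).1
      have hyΔ : (y : Ω) ∉ Δ := fun h =>
        hxy' ((Set.ext_iff.1 hΔQ _).1 ⟨h, by simp [Q]⟩).symm
      have hTΔ : ∀ t ∈ T, t ∉ Δ := fun t ht h =>
        hxT (((Set.ext_iff.1 hΔQ t).1 ⟨h, by simp [Q, ht]⟩ : t = x) ▸ ht)
      have hsubB : Δ ⊆ Subtype.val '' B := by
        intro q hq
        obtain ⟨u, hu⟩ := hΔ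
        have hu' : u • Γ = Δ := hu
        subst hu'
        obtain ⟨v, hv, hvx⟩ := hJ.smul u _ hxΔ q hq
        have hvH : v ∈ H := (mem_fixingSubgroup_iff G).2 fun t ht => hv t (hTΔ t ht)
        have he : (⟨v, hvH⟩ : H) • B = B :=
          isBlock_iff_smul_eq_of_nonempty.1 hB ⟨y, ⟨y, hy, Subtype.ext (hv _ hyΔ)⟩, hy⟩
        exact ⟨(⟨v, hvH⟩ : H) • x, he ▸ Set.smul_mem_smul_set hx, hvx⟩
      have hle := Set.ncard_le_ncard hsubB (Set.toFinite _)
      rw [hscard, translate_ncard Γ hΔ, ← hc] at hle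
      omega
    -- pattern counts on sets of size j + 1
    set M := 2 * c + 1 - (j + 1) with hM
    set N := M - 1 with hN
    obtain ⟨T', hT'⟩ : ∃ T' : Set Ω, T' = insert (y : Ω) T := ⟨_, rfl⟩
    have hT'c : T'.ncard = j + 1 := by rw [hT', Set.ncard_insert_of_notMem hyT, hTc]
    set f0 := pat G Γ T' ∅
    have hf : ∀ (s : ℕ) (Q' S' : Set Ω), S' ⊆ Q' → Q'.ncard = j + 1 → S'.ncard = s →
        pat G Γ Q' S' * M.choose c = f0 * M.choose (c - s) := by
      intro s
      induction s with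
      | zero =>
        intro Q' S' hS' hQ' hs
        rw [Set.ncard_eq_zero (Set.toFinite _)] at hs
        subst hs
        rw [pat_eq hk hkn Γ (Set.empty_subset Q') (Set.empty_subset T') (hQ'.trans hT'c.symm) rfl
          (by omega), Nat.sub_zero]
      | succ s ih =>
        intro Q' S' hS' hQ' hs
        obtain ⟨u, huS⟩ : S'.Nonempty := (Set.ncard_pos (Set.toFinite _)).1 (by omega)
        have hSi : insert u (S' \ {u}) = S' := Set.insert_sdiff_self_of_mem huS
        have hQi : insert u (Q' \ {u}) = Q' := Set.insert_sdiff_self_of_mem (hS' huS)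
        set S₀ := S' \ {u}
        set Q₀ := Q' \ {u}
        have hS₀ : S₀ ⊆ Q₀ := Set.sdiff_subset_sdiff_left hS'
        have huQ : u ∉ Q₀ := fun h => h.2 rfl
        have hS₀c : S₀.ncard = s := by
          rw [Set.ncard_sdiff_singleton_of_mem huS, hs]; rfl
        have hQ₀c : Q₀.ncard = j := by
          rw [Set.ncard_sdiff_singleton_of_mem (hS' huS), hQ']; rfl
        have hr := pat_rec hk hkn Γ hS₀ (by omega) huQ
        have hsp := pat_split (G := G) Γ Q₀ S₀ huQ hS₀
        rw [hQi, hSi] at hr hsp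
        have hi := ih Q' S₀ (hS₀.trans Set.sdiff_subset) hQ' hS₀c
        rw [← hsp, hQ₀c, hS₀c, hn, ← hc] at hr
        have hsle : s ≤ j := by
          have := Set.ncard_le_ncard hS₀ (Set.toFinite _); omega
        obtain ⟨A, hA⟩ : ∃ A, 2 * c + 1 - j = A + (c - s) := ⟨2 * c + 1 - j - (c - s), by omega⟩
        have hcs := Nat.choose_succ_right_eq M (c - (s + 1))
        rw [show c - (s + 1) + 1 = c - s by omega, show M - (c - (s + 1)) = A by omega] at hcs
        refine Nat.eq_of_mul_eq_mul_right (show 0 < A by omega) ?_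
        rw [hA] at hr
        have e : pat G Γ Q' S' * A = pat G Γ Q' S₀ * (c - s) := by
          rw [mul_add, add_mul] at hr; omega
        calc pat G Γ Q' S' * M.choose c * A = pat G Γ Q' S' * A * M.choose c := by ring
          _ = pat G Γ Q' S₀ * M.choose c * (c - s) := by rw [e]; ring
          _ = f0 * (M.choose (c - s) * (c - s)) := by rw [hi]; ring
          _ = _ := by rw [hcs]; ring
    -- pattern counts on Q
    have hg : ∀ (s : ℕ) (S' : Set Ω), S' ⊆ Q → (x : Ω) ∈ S' → S'.ncard = s + 1 →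
        (pat G Γ Q S' : ℤ) * M.choose c =
          f0 * ((N.choose (c - (s + 1)) : ℤ) + (-1) ^ (s + 1) * N.choose (c - 1)) := by
      intro s
      induction s with
      | zero =>
        intro S' _ hxS hs
        obtain ⟨a, ha⟩ := Set.ncard_eq_one.1 hs
        subst ha
        rw [← (show (x : Ω) = a from hxS), hzero]
        simp
      | succ s ih =>
        intro S' hS' hxS hs
        obtain ⟨u, hu, hux⟩ : ∃ u ∈ S', u ≠ (x : Ω) :=
          Set.exists_ne_of_one_lt_ncard (by omega) _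
        have huQ : u ∉ Q \ {u} := fun h => h.2 rfl
        have hsub : S' \ {u} ⊆ Q \ {u} := Set.sdiff_subset_sdiff_left hS'
        have hsp := pat_split (G := G) Γ (Q \ {u}) (S' \ {u}) huQ hsub
        rw [Set.insert_sdiff_self_of_mem (hS' hu), Set.insert_sdiff_self_of_mem hu] at hsp
        have hS'c : (S' \ {u}).ncard = s + 1 := by
          rw [Set.ncard_sdiff_singleton_of_mem hu, hs]; rfl
        have hi := ih (S' \ {u}) (Set.sdiff_subset.trans hS') ⟨hxS, fun e => hux e.symm⟩ hS'c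
        have h0 := hf (s + 1) (Q \ {u}) (S' \ {u}) hsub
          (by rw [Set.ncard_sdiff_singleton_of_mem (hS' hu), hQc]; rfl) hS'c
        rw [← hsp] at h0
        have hle : s + 1 + 1 ≤ j + 2 := by
          rw [← hs, ← hQc]; exact Set.ncard_le_ncard hS' (Set.toFinite _)
        have hpas : M.choose (c - (s + 1)) = N.choose (c - (s + 1 + 1)) + N.choose (c - (s + 1)) := by
          rw [show M = N + 1 by omega, show c - (s + 1) = c - (s + 1 + 1) + 1 by omega]
          exact Nat.choose_succ_succ N _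
        rw [hpas] at h0
        have h0' : ((pat G Γ Q (S' \ {u}) : ℤ) + pat G Γ Q S') * M.choose c =
            f0 * ((N.choose (c - (s + 1 + 1)) : ℤ) + N.choose (c - (s + 1))) := by exact_mod_cast h0
        rw [pow_succ (-1 : ℤ) (s + 1)]
        linear_combination h0' - hi
    have hf0 : 0 < f0 := by
      obtain ⟨Δ, hΔ, hav⟩ := exists_avoid hk hkn Γ T' (by omega) (by omega)
      exact (Set.ncard_pos (Set.toFinite _)).2
        ⟨Δ, hΔ, Set.eq_empty_iff_forall_notMem.2 fun z hz => hav z hz.2 hz.1⟩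
    -- an odd subset with a negative count
    obtain ⟨s, hs1, hs2, hsodd⟩ : ∃ s, j ≤ s ∧ s ≤ j + 1 ∧ Odd (s + 1) := by
      rcases Nat.even_or_odd j with h | h
      · exact ⟨j, le_rfl, by omega, h.add_one⟩
      · exact ⟨j + 1, by omega, le_rfl, h.add_one.add_one⟩
    obtain ⟨S', hxS', hS'Q, hS'c⟩ := Set.exists_subsuperset_card_eq (n := s + 1)
      (show ({(x : Ω)} : Set Ω) ⊆ Q by simp [Q]) (by rw [Set.ncard_singleton]; omega) (by omega)
    have h := hg s S' hS'Q (hxS' rfl) hS'c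
    rw [hsodd.neg_one_pow] at h
    have hsym : N.choose (c - 1) = N.choose (c - (j + 1) + 1) := by
      rw [← Nat.choose_symm (show c - 1 ≤ N by omega)]
      congr 1; omega
    have hlt : N.choose (c - (s + 1)) < N.choose (c - 1) := by
      rw [hsym]
      have hl := choose_lt_succ (N := N) (a := c - (j + 1)) (by omega)
      rcases hs2.lt_or_eq with h' | h'
      · rw [show s = j by omega]; exact hl
      · subst h'
        refine lt_trans ?_ hl
        have := choose_lt_succ (N := N) (a := c - (j + 1 + 1)) (by omega)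
        rwa [show c - (j + 1 + 1) + 1 = c - (j + 1) by omega] at this
    have hlt' : (f0 : ℤ) * ((N.choose (c - (s + 1)) : ℤ) + -1 * N.choose (c - 1)) < 0 :=
      mul_neg_of_pos_of_neg (by exact_mod_cast hf0) (by
        have : (N.choose (c - (s + 1)) : ℤ) < N.choose (c - 1) := by exact_mod_cast hlt
        linarith)
    rw [← h] at hlt'
    exact absurd hlt' (not_lt.2 (by positivity))
  -- a Jordan set avoiding T
  obtain ⟨Δ, hΔ, hav⟩ := exists_avoid hk hkn Γ T (by omega) (by omega)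
  obtain ⟨u, hu⟩ := hΔ
  have hu' : u • Γ = Δ := hu
  subst hu'
  have hJS : IsJ H (Subtype.val ⁻¹' (u • Γ) : Set S) := by
    intro p hp q hq
    obtain ⟨v, hv, hvp⟩ := hJ.smul u _ hp _ hq
    exact ⟨⟨v, (mem_fixingSubgroup_iff G).2 fun t ht => hv t (hav t ht)⟩,
      fun r hr => Subtype.ext (hv r hr), Subtype.ext hvp⟩
  have hcard : (Subtype.val ⁻¹' (u • Γ) : Set S).ncard = c := by
    rw [← hscard, hc, ← translate_ncard Γ (Δ := u • Γ) ⟨u, rfl⟩]
    congr 1
    ext z
    constructor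
    · rintro ⟨z', hz', rfl⟩; exact hz'
    · exact fun hz => ⟨⟨z, (hmemS z).2 fun h => hav z h hz⟩, hz, rfl⟩
  have h2 := two_pretransitive hprimS hJS (by omega) (by omega)
  -- finish
  have hxi : ∀ i : Fin j, g • xs (em i) = ys (em i) := fun i => by
    have := congrArg (fun f : Fin j ↪ Ω => f i) hg
    simpa [Function.Embedding.smul_apply] using this
  have hout : ∀ (i : Fin (j + 1 + 1)), j ≤ i.val → g • xs i ∈ S ∧ ys i ∈ S := by
    intro i hi
    refine ⟨(hmemS _).2 ?_, (hmemS _).2 ?_⟩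
    · rintro ⟨l, hl⟩
      have h' : xs (em l) = xs i := MulAction.injective g ((hxi l).trans hl)
      have := congrArg Fin.val (xs.injective h')
      simp [em] at this; omega
    · rintro ⟨l, hl⟩
      have := congrArg Fin.val (ys.injective hl)
      simp [em] at this; omega
  let i0 : Fin (j + 1 + 1) := ⟨j, by omega⟩
  let i1 : Fin (j + 1 + 1) := ⟨j + 1, by omega⟩
  have h01 : i0 ≠ i1 := by simp [i0, i1, Fin.ext_iff]
  obtain ⟨h, h0, h1⟩ := Cfsg.Agent.Lie.JordanThree.exists_smul_pair h2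
    (x := (⟨g • xs i0, (hout i0 le_rfl).1⟩ : S)) (y := ⟨g • xs i1, (hout i1 (Nat.le_succ j)).1⟩)
    (x' := (⟨ys i0, (hout i0 le_rfl).2⟩ : S)) (y' := ⟨ys i1, (hout i1 (Nat.le_succ j)).2⟩)
    (fun e => h01 (xs.injective (MulAction.injective g (congrArg Subtype.val e))))
    (fun e => h01 (ys.injective (congrArg Subtype.val e)))
  refine ⟨(h : G) * g, ?_⟩
  ext i
  rw [Function.Embedding.smul_apply, mul_smul]
  rcases lt_trichotomy i.val j with hi | hi | hi
  · rw [show i = em ⟨i.val, hi⟩ from Fin.ext rfl, hxi]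
    exact (mem_fixingSubgroup_iff G).1 h.2 _ ⟨⟨i.val, hi⟩, rfl⟩
  · rw [show i = i0 from Fin.ext hi]; exact congrArg Subtype.val h0
  · rw [show i = i1 from Fin.ext (by have := i.2; simp [i1]; omega)]; exact congrArg Subtype.val h1

end Cfsg.Agent.Lie.JordanAlt

namespace Cfsg.Agent.Lie.JordanAlt

open MulAction
open Cfsg.Agent.Lie.JordanThree (IsJ two_pretransitive three_pretransitive translate_ncard)
open scoped Pointwise

universe u v

/-- Two translates meet in exactly one point. -/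
theorem exists_pair : ∀ (N : ℕ) (G : Type u) (Ω : Type v) [Group G] [MulAction G Ω] [Finite G]
    [Finite Ω] (Γ : Set Ω), Nat.card Ω = N → IsPreprimitive G Ω → IsJ G Γ → 1 < Γ.ncard →
    2 * Γ.ncard < N → ∃ u : G, (Γ ∩ u • Γ).ncard = 1 := by
  intro N
  induction N using Nat.strong_induction_on with
  | _ N ih =>
    intro G Ω _ _ _ _ Γ hN hprim hJ h1 h2
    classical
    haveI := hprim.toIsPretransitive
    have h3 := three_pretransitive hprim hJ h1 (by omega)
    rcases Nat.lt_or_ge (2 * Γ.ncard + 1) N with hgt | hle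
    · obtain ⟨a, ha⟩ : Γᶜ.Nonempty :=
        (Set.ncard_pos (Set.toFinite _)).1 (by rw [Set.ncard_compl]; omega)
      have hS2 : IsMultiplyPretransitive (stabilizer G a) (SubMulAction.ofStabilizer G a) 2 :=
        SubMulAction.ofStabilizer.isMultiplyPretransitive.1 h3
      have hcard : Nat.card (SubMulAction.ofStabilizer G a) = N - 1 := by
        rw [SubMulAction.nat_card_ofStabilizer_eq, hN]
      set Γ' : Set (SubMulAction.ofStabilizer G a) := Subtype.val ⁻¹' Γ
      have himg : Subtype.val '' Γ' = Γ := by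
        ext z
        constructor
        · rintro ⟨z', hz', rfl⟩; exact hz'
        · exact fun hz => ⟨⟨z, (SubMulAction.mem_ofStabilizer_iff G a).2 fun e => ha (e ▸ hz)⟩, hz, rfl⟩
      have hc : Γ'.ncard = Γ.ncard := by
        conv_rhs => rw [← himg, Set.ncard_image_of_injective _ Subtype.val_injective]
      obtain ⟨u, hu⟩ := ih (N - 1) (by omega) (stabilizer G a) (SubMulAction.ofStabilizer G a) Γ' hcard
        (isPreprimitive_of_is_two_pretransitive hS2) (by
          intro p hp q hq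
          obtain ⟨g, hg, hgp⟩ := hJ _ hp _ hq
          exact ⟨⟨g, hg a ha⟩, fun r hr => Subtype.ext (hg r hr), Subtype.ext hgp⟩)
        (by rw [hc]; exact h1) (by rw [hc]; omega)
      refine ⟨(u : G), ?_⟩
      rw [← hu, ← Set.ncard_image_of_injective (Γ' ∩ u • Γ') Subtype.val_injective,
        Set.image_inter Subtype.val_injective, himg]
      congr 2
      rw [← Set.image_smul, ← Set.image_smul, Set.image_image]
      conv_lhs => rw [← himg, Set.image_image]
      rfl
    · have hn : Nat.card Ω = 2 * Γ.ncard + 1 := by omega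
      have key : ∀ k, 3 ≤ k → k ≤ max Γ.ncard 3 → IsMultiplyPretransitive G Ω k := by
        intro k hk3
        induction k, hk3 using Nat.le_induction with
        | base => exact fun _ => h3
        | succ k hk3 ihk => exact fun hk => step hJ hn hk3 (by omega) (ihk (by omega))
      set k := max Γ.ncard 3
      have hk : IsMultiplyPretransitive G Ω k := key k (le_max_right _ _) le_rfl
      have hkn : k ≤ Nat.card Ω := by omega
      obtain ⟨p, hp⟩ : Γ.Nonempty := (Set.ncard_pos (Set.toFinite _)).1 (by omega)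
      obtain ⟨A, hA, hAc⟩ := Set.exists_subset_card_eq (s := Γᶜ) (n := Γ.ncard - 1)
        (by rw [Set.ncard_compl]; omega)
      obtain ⟨g, hg, -⟩ := exists_smul_sets hk hkn (Set.empty_subset Γ) (Set.empty_subset (insert p A))
        (by rw [Set.ncard_insert_of_notMem (fun h => hA h hp), hAc]; omega) rfl (le_max_left _ _)
      refine ⟨g, ?_⟩
      rw [hg, show Γ ∩ insert p A = {p} from Set.ext fun z => ⟨fun hz => hz.2.resolve_right fun h => hA h hz.1,
        fun hz => by rw [Set.mem_singleton_iff] at hz; subst hz; exact ⟨hp, Set.mem_insert _ _⟩⟩,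
        Set.ncard_singleton]

/-- Two permutations with supports meeting in one moved point have a three-cycle as commutator. -/
theorem isThreeCycle_commutator {α : Type*} [Fintype α] [DecidableEq α] (x y : Equiv.Perm α)
    {p : α} (hxp : x p ≠ p) (hyp : y p ≠ p) (h : ∀ z, x z ≠ z → y z ≠ z → z = p) :
    (x * y * x⁻¹ * y⁻¹).IsThreeCycle := by
  set w := x * y * x⁻¹ * y⁻¹ with hw
  have hxfix : ∀ z, z ≠ p → y z ≠ z → x z = z := fun z hz hy =>
    not_not.1 fun hx => hz (h z hx hy)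
  have hyfix : ∀ z, z ≠ p → x z ≠ z → y z = z := fun z hz hx =>
    not_not.1 fun hy => hz (h z hx hy)
  have happ : ∀ z, w z = x (y (x.symm (y.symm z))) := fun z => rfl
  have hfix : ∀ z, z ≠ p → z ≠ x p → z ≠ y p → w z = z := by
    intro z hz hzx hzy
    rw [happ]
    by_cases hy : y z = z
    · rw [show y.symm z = z from y.symm_apply_eq.2 hy.symm]
      by_cases hx : x z = z
      · rw [show x.symm z = z from x.symm_apply_eq.2 hx.symm, hy, hx]
      · have h1 : x.symm z ≠ p := fun e => hzx (by rw [← e, x.apply_symm_apply])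
        have h2 : x (x.symm z) ≠ x.symm z := by
          rw [x.apply_symm_apply]; intro e; apply hx; conv_lhs => rw [e, x.apply_symm_apply]
        rw [hyfix _ h1 h2, x.apply_symm_apply]
    · have h1 : y.symm z ≠ p := fun e => hzy (by rw [← e, y.apply_symm_apply])
      have h2 : y (y.symm z) ≠ y.symm z := by
        rw [y.apply_symm_apply]; intro e; apply hy; conv_lhs => rw [e, y.apply_symm_apply]
      rw [show x.symm (y.symm z) = y.symm z from x.symm_apply_eq.2 (hxfix _ h1 h2).symm,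
        y.apply_symm_apply]
      exact hxfix z hz hy
  have hne : w ≠ 1 := by
    intro e
    have h1 : x (x p) ≠ x p := fun e' => hxp (x.injective e')
    have h2 : y (x p) = x p := hyfix _ hxp h1
    have h3 : x (y p) = y p := hxfix _ hyp (fun e' => hyp (y.injective e'))
    have := happ (x p)
    rw [e, Equiv.Perm.one_apply, show y.symm (x p) = x p from y.symm_apply_eq.2 h2.symm,
      x.symm_apply_apply, h3] at this
    exact hxp (h (x p) h1 (by rw [this]; exact fun e' => hyp (y.injective e')))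
  have hsign : Equiv.Perm.sign w = 1 := by
    rw [hw, map_mul, map_mul, map_mul, map_inv, map_inv, mul_comm (Equiv.Perm.sign x), mul_inv_cancel_right,
      mul_inv_cancel]
  have hsub : w.support ⊆ {p, x p, y p} := by
    intro z hz
    rw [Equiv.Perm.mem_support] at hz
    by_contra hcon
    simp only [Finset.mem_insert, Finset.mem_singleton, not_or] at hcon
    exact hz (hfix z hcon.1 hcon.2.1 hcon.2.2)
  rw [← card_support_eq_three_iff]
  have hle : w.support.card ≤ 3 := (Finset.card_le_card hsub).trans Finset.card_le_three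
  have h0 : w.support.card ≠ 0 := fun e => hne (Equiv.Perm.card_support_eq_zero.1 e)
  have h1 : w.support.card ≠ 1 := Equiv.Perm.card_support_ne_one w
  have h2 : w.support.card ≠ 2 := fun e => by
    have := (Equiv.Perm.card_support_eq_two.1 e).sign_eq
    rw [hsign] at this
    exact absurd this (by decide)
  omega

/-- A primitive group with a small Jordan set induces every even permutation. -/
theorem even_mem {G : Type u} {Ω : Type v} [Group G] [MulAction G Ω] [Finite G] [Fintype Ω]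
    [DecidableEq Ω] (hprim : IsPreprimitive G Ω) {Γ : Set Ω} (hJ : IsJ G Γ) (h1 : 1 < Γ.ncard)
    (h2 : 2 * Γ.ncard < Nat.card Ω) (σ : Equiv.Perm Ω) (hσ : Equiv.Perm.sign σ = 1) :
    ∃ x : G, (MulAction.toPerm x : Equiv.Perm Ω) = σ := by
  obtain ⟨g, hg⟩ := exists_pair _ G Ω Γ rfl hprim hJ h1 h2
  obtain ⟨p, hp⟩ := Set.ncard_eq_one.1 hg
  have hpΓ : p ∈ Γ ∩ g • Γ := hp ▸ rfl
  have hmove : ∀ Δ : Set Ω, IsJ G Δ → 1 < Δ.ncard → p ∈ Δ →
      ∃ x : G, (∀ z ∉ Δ, x • z = z) ∧ x • p ≠ p := by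
    intro Δ hΔ hc hpΔ
    obtain ⟨q, hq, hqp⟩ := Set.exists_ne_of_one_lt_ncard hc p
    obtain ⟨x, hx, hxp⟩ := hΔ p hpΔ q hq
    exact ⟨x, hx, hxp.symm ▸ hqp⟩
  obtain ⟨x, hx, hxp⟩ := hmove Γ hJ h1 hpΓ.1
  obtain ⟨y, hy, hyp⟩ := hmove (g • Γ) (hJ.smul g) (by
    rw [translate_ncard Γ (G := G) ⟨g, rfl⟩]; exact h1) hpΓ.2
  set R := (toPermHom G Ω).range
  have h3c : ((toPermHom G Ω) (x * y * x⁻¹ * y⁻¹)).IsThreeCycle := by
    rw [map_mul, map_mul, map_mul, map_inv, map_inv]
    refine isThreeCycle_commutator _ _ hxp hyp fun z hzx hzy => ?_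
    have : z ∈ Γ ∩ g • Γ := ⟨not_not.1 fun h => hzx (hx z h), not_not.1 fun h => hzy (hy z h)⟩
    rw [hp] at this
    exact this
  have hR : IsPreprimitive R Ω := by
    haveI := hprim
    let f : Ω →ₑ[(toPermHom G Ω).rangeRestrict] Ω := ⟨id, fun g a => rfl⟩
    exact IsPreprimitive.of_surjective (f := f) Function.surjective_id
  have hle := Equiv.Perm.alternatingGroup_le_of_isPreprimitive_of_isThreeCycle_mem hR h3c ⟨_, rfl⟩
  obtain ⟨z, hz⟩ := hle (Equiv.Perm.mem_alternatingGroup.2 hσ)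
  exact ⟨z, hz⟩

end Cfsg.Agent.Lie.JordanAlt
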