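import Mathlib

/-!
An abelian group of automorphisms of a finite abelian group which fixes no proper non-trivial
subgroup consists of multiplications in a field.
-/

set_option autoImplicit false
set_option linter.style.haveILetI false

namespace Cfsg.Agent.Lie.AbelianField

universe u w

/-- An anonymous type with `n` elements. -/
def Carrier (n : ℕ) : Type := Fin n

instance (n : ℕ) : Fintype (Carrier n) := inferInstanceAs (Fintype (Fin n))

theorem exists_field {V : Type u} [AddCommGroup V] [Finite V] [Nontrivial V] {H : Type w} [Group H]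
    (ρ : H →* AddMonoid.End V) (hc : ∀ g h : H, ρ g * ρ h = ρ h * ρ g)
    (hirr : ∀ W : AddSubgroup V, (∀ h : H, ∀ v ∈ W, ρ h v ∈ W) → W = ⊥ ∨ W = ⊤) :
    ∃ (F : Type) (_ : Field F) (_ : Fintype F) (e : V ≃+ F) (μ : H →* F),
      ∀ (h : H) (v : V), e (ρ h v) = μ h * e v := by
  classical
  let K : Subring (AddMonoid.End V) := Subring.centralizer (Set.range ρ)
  haveI : Finite (AddMonoid.End V) := Finite.of_injective (fun T => ⇑T) DFunLike.coe_injective
  have hKc : ∀ T : K, ∀ h : H, ∀ v, (T : AddMonoid.End V) (ρ h v) = ρ h ((T : AddMonoid.End V) v) :=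
    fun T h v => (DFunLike.congr_fun (Subring.mem_centralizer_iff.1 T.2 (ρ h) ⟨h, rfl⟩) v).symm
  have hρK : ∀ h, ρ h ∈ K := fun h => Subring.mem_centralizer_iff.2 fun g hg => by
    obtain ⟨g', rfl⟩ := hg
    exact hc g' h
  have hinj : ∀ T : K, T ≠ 0 → ∀ v, (T : AddMonoid.End V) v = 0 → v = 0 := by
    intro T hT v hv
    let W : AddSubgroup V := AddMonoidHom.ker (T : AddMonoid.End V)
    rcases hirr W (fun h x hx => by
      have hx' : (T : AddMonoid.End V) x = 0 := hx
      show (T : AddMonoid.End V) (ρ h x) = 0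
      rw [hKc T h]
      rw [hx']
      exact map_zero _) with hW | hW
    · have h1 : v ∈ W := hv
      rwa [hW, AddSubgroup.mem_bot] at h1
    · refine absurd (Subtype.ext (AddMonoidHom.ext fun x => ?_)) hT
      have h1 : x ∈ W := hW ▸ AddSubgroup.mem_top x
      exact h1
  haveI : NoZeroDivisors K := ⟨fun {T T'} h => by
    by_contra hne
    rw [not_or] at hne
    refine hne.2 (Subtype.ext (AddMonoidHom.ext fun v => ?_))
    exact hinj T hne.1 _ (DFunLike.congr_fun (congrArg Subtype.val h) v)⟩
  obtain ⟨v₀, hv₀⟩ := exists_ne (0 : V)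
  haveI : Nontrivial K := ⟨⟨0, 1, fun e => hv₀ (DFunLike.congr_fun (congrArg Subtype.val e) v₀).symm⟩⟩
  haveI : IsDomain K := NoZeroDivisors.to_isDomain K
  letI : Field K := (Finite.isDomain_to_isField K).toField
  let ev : K →+ V :=
    { toFun := fun T => (T : AddMonoid.End V) v₀
      map_zero' := rfl
      map_add' := fun _ _ => rfl }
  have hev : Function.Bijective ev := by
    constructor
    · rw [injective_iff_map_eq_zero]
      intro T hT
      by_contra hne
      exact hv₀ (hinj T hne v₀ hT)
    · intro w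
      rcases hirr ev.range (fun h v hv => by
        obtain ⟨T, rfl⟩ := hv
        exact ⟨⟨ρ h, hρK h⟩ * T, rfl⟩) with hW | hW
      · have h1 : v₀ ∈ ev.range := ⟨1, rfl⟩
        rw [hW, AddSubgroup.mem_bot] at h1
        exact absurd h1 hv₀
      · have h1 : w ∈ ev.range := hW ▸ AddSubgroup.mem_top w
        exact h1
  let e0 : V ≃+ K := (AddEquiv.ofBijective ev hev).symm
  let eK : Carrier (Nat.card K) ≃ K := (Finite.equivFin K).symm
  letI : Field (Carrier (Nat.card K)) := eK.field
  let r : Carrier (Nat.card K) ≃+* K := eK.ringEquiv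
  refine ⟨Carrier (Nat.card K), inferInstance, inferInstance, e0.trans r.symm.toAddEquiv,
    (r.symm : K →* Carrier (Nat.card K)).comp
      ({ toFun := fun h => ⟨ρ h, hρK h⟩
         map_one' := Subtype.ext (map_one ρ)
         map_mul' := fun g h => Subtype.ext (map_mul ρ g h) } : H →* K), fun h v => ?_⟩
  show r.symm (e0 (ρ h v)) = r.symm (⟨ρ h, hρK h⟩ : K) * r.symm (e0 v)
  rw [← map_mul]
  congr 1
  apply e0.symm.injective
  rw [e0.symm_apply_apply]
  show ρ h v = ρ h ((e0 v : K).1 v₀)
  rw [show (e0 v : K).1 v₀ = v from e0.symm_apply_apply v]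

end Cfsg.Agent.Lie.AbelianField
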