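import Mathlib
import Cfsg.Agent.Lib.Lead.GLBasic
import Cfsg.Agent.Lib.Lead.ProjLine

/-!
Recognition of `PSL₂` from a permutation group given in coordinates on a projective line.
-/

set_option autoImplicit false
set_option linter.style.haveILetI false

namespace Cfsg.Agent.Lie.MobiusRecognition

open MulAction
open scoped OnePoint

universe u v

theorem psl_of_coords {G : Type u} [Group G] [Finite G] {Ω : Type v} [MulAction G Ω] [FaithfulSMul G Ω]
    {F : Type} [Field F] [Fintype F] (hodd : Fintype.card F % 2 = 1) (a : Ω) (P : F → Ω)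
    (hPa : ∀ x, P x ≠ a) (hPinj : Function.Injective P) (hPsurj : ∀ ω, ω ≠ a → ∃ x, P x = ω)
    (π : F → G) (hπa : ∀ x, π x • a = a) (hπP : ∀ x y, π x • P y = P (x + y))
    (hD : ∀ g : G, g • a = a → g • P 0 = P 0 → ∃ r : F, r ≠ 0 ∧ ∀ y, g • P y = P (r * r * y))
    (t : G) (hta : t • a = P 0) (htb : t • P 0 = a) (c : F) (hc0 : c ≠ 0) (hc : IsSquare (-c))
    (htP : ∀ x, x ≠ 0 → t • P x = P (c / x))
    (hcard : 2 * Nat.card G = (Fintype.card F + 1) * (Fintype.card F * (Fintype.card F - 1))) :
    Nonempty (G ≃* Matrix.ProjectiveSpecialLinearGroup (Fin 2) F) := by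
  classical
  let f : OnePoint F → Ω := fun p => p.elim a P
  have hf : Function.Bijective f := by
    constructor
    · intro p q h
      cases p with
      | infty => cases q with
        | infty => rfl
        | coe y => exact absurd h.symm (hPa y)
      | coe x => cases q with
        | infty => exact absurd h (hPa x)
        | coe y => exact congrArg _ (hPinj h)
    · intro ω
      by_cases h : ω = a
      · exact ⟨∞, h.symm⟩
      · obtain ⟨x, hx⟩ := hPsurj ω h
        exact ⟨x, hx⟩
  let E : OnePoint F ≃ Ω := Equiv.ofBijective f hf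
  have hEi : E ∞ = a := rfl
  have hEc : ∀ x : F, E x = P x := fun x => rfl
  let ψ : G →* Equiv.Perm (OnePoint F) :=
    { toFun := fun g => (E.trans (MulAction.toPerm g)).trans E.symm
      map_one' := Equiv.ext fun p => by simp
      map_mul' := fun g h => Equiv.ext fun p => by simp [mul_smul] }
  have hψ : ∀ g p, ψ g p = E.symm (g • E p) := fun g p => rfl
  have hψinj : Function.Injective ψ := fun g h e => eq_of_smul_eq_smul fun ω : Ω => by
    have := congrArg E (Equiv.congr_fun e (E.symm ω))
    simpa [hψ] using this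
  let Φ : Matrix.SpecialLinearGroup (Fin 2) F →* Equiv.Perm (OnePoint F) :=
    (MulAction.toPermHom (GL (Fin 2) F) (OnePoint F)).comp Matrix.SpecialLinearGroup.toGL
  have hΦ : ∀ A p, Φ A p = Matrix.SpecialLinearGroup.toGL A • p := fun A p => rfl
  have mk : ∀ g : G, ∀ A : Matrix.SpecialLinearGroup (Fin 2) F,
      (∀ p : OnePoint F, E (Matrix.SpecialLinearGroup.toGL A • p) = g • E p) → ψ g ∈ Φ.range := by
    intro g A h
    refine ⟨A, Equiv.ext fun p => ?_⟩
    rw [hψ, hΦ, ← h, E.symm_apply_apply]
  have hent : ∀ (A : Matrix.SpecialLinearGroup (Fin 2) F) i j,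
      (Matrix.SpecialLinearGroup.toGL A : GL (Fin 2) F) i j = A.1 i j := fun A i j => rfl
  have mk2 : ∀ g : G, ∀ (α β γ δ : F), α * δ - β * γ = 1 →
      (g • a = if γ = 0 then a else P (α / γ)) →
      (∀ y, g • P y = if γ * y + δ = 0 then a else P ((α * y + β) / (γ * y + δ))) → ψ g ∈ Φ.range := by
    intro g α β γ δ hdet hga hgy
    obtain ⟨A, hA⟩ : ∃ A : Matrix.SpecialLinearGroup (Fin 2) F, A.1 = !![α, β; γ, δ] :=
      ⟨⟨!![α, β; γ, δ], by rw [Matrix.det_fin_two_of]; exact hdet⟩, rfl⟩
    have h00 : A.1 0 0 = α := by rw [hA]; rfl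
    have h01 : A.1 0 1 = β := by rw [hA]; rfl
    have h10 : A.1 1 0 = γ := by rw [hA]; rfl
    have h11 : A.1 1 1 = δ := by rw [hA]; rfl
    refine mk g A fun p => ?_
    cases p with
    | infty =>
      rw [OnePoint.smul_infty_eq_ite, hEi, hga, hent, hent, h00, h10]
      by_cases hγ : γ = 0
      · rw [if_pos hγ, if_pos hγ, hEi]
      · rw [if_neg hγ, if_neg hγ, hEc]
    | coe y =>
      rw [OnePoint.smul_some_eq_ite, hEc, hgy, hent, hent, hent, hent, h00, h01, h10, h11]
      by_cases hγ : γ * y + δ = 0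
      · rw [if_pos hγ, if_pos hγ, hEi]
      · rw [if_neg hγ, if_neg hγ, hEc]
  -- translations
  have hu : ∀ x, ψ (π x) ∈ Φ.range := by
    intro x
    refine mk2 _ 1 x 0 1 (by ring) (by rw [if_pos rfl, hπa]) fun y => ?_
    rw [if_neg (by simp), hπP]
    congr 1
    ring
  -- the torus
  have hh : ∀ g : G, g • a = a → g • P 0 = P 0 → ψ g ∈ Φ.range := by
    intro g hga hgb
    obtain ⟨r, hr, hgr⟩ := hD g hga hgb
    refine mk2 _ r 0 0 r⁻¹ (by simp [hr]) (by rw [if_pos rfl, hga]) fun y => ?_
    rw [if_neg (by simp [hr]), hgr]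
    congr 1
    field_simp
    ring
  -- the inversion
  have ht : ψ t ∈ Φ.range := by
    obtain ⟨s, hs⟩ := hc
    have hs0 : s ≠ 0 := fun h => hc0 (by rw [h, zero_mul, neg_eq_zero] at hs; exact hs)
    refine mk2 _ 0 (c * s⁻¹) s⁻¹ 0 (by field_simp; linear_combination hs)
      (by rw [if_neg (inv_ne_zero hs0), hta, zero_div]) fun y => ?_
    by_cases hy : y = 0
    · subst hy
      rw [if_pos (by simp), htb]
    · rw [if_neg (by simp [hy, hs0]), htP y hy]
      congr 1
      rw [zero_mul, zero_add, add_zero, div_eq_div_iff hy (mul_ne_zero (inv_ne_zero hs0) hy)]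
      ring
  have hle : ψ.range ≤ Φ.range := by
    rintro _ ⟨g, rfl⟩
    have hfix : ∀ k : G, k • a = a → ψ k ∈ Φ.range := by
      intro k hk
      obtain ⟨x, hx⟩ := hPsurj (k • P 0) (fun h => hPa 0 (MulAction.injective k (h.trans hk.symm)))
      have e0 : π (-x) • k • P 0 = P 0 := by rw [← hx, hπP, neg_add_cancel]
      have h1 := hh (π (-x) * k) (by rw [mul_smul, hk, hπa]) (by rw [mul_smul, e0])
      have h2 := mul_mem (inv_mem (hu (-x))) h1
      rwa [← map_inv, ← map_mul, inv_mul_cancel_left] at h2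
    by_cases hg : g • a = a
    · exact hfix g hg
    obtain ⟨x, hx⟩ := hPsurj (g • a) hg
    have h1 := hfix (t * (π (-x) * g)) (by
      rw [mul_smul, mul_smul, ← hx, hπP, neg_add_cancel, htb])
    have h2 := mul_mem (inv_mem (hu (-x))) (mul_mem (inv_mem ht) h1)
    rwa [← map_inv, ← map_inv, ← map_mul, inv_mul_cancel_left, ← map_mul, inv_mul_cancel_left] at h2
  have hker : Φ.ker = Subgroup.center (Matrix.SpecialLinearGroup (Fin 2) F) := by
    ext A
    rw [MonoidHom.mem_ker, Matrix.SpecialLinearGroup.mem_center_iff]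
    constructor
    · intro h
      have h0 : A.1 1 0 = 0 := by
        have := Equiv.congr_fun h ∞
        rw [hΦ] at this
        exact (hent A 1 0).symm.trans (OnePoint.smul_infty_eq_self_iff.1 (by simpa using this))
      have hd : A.1 1 1 ≠ 0 := fun h' => by
        have := A.2
        rw [Matrix.det_fin_two, h0, h'] at this
        simp at this
      have e0 := Equiv.congr_fun h (0 : F)
      have e1 := Equiv.congr_fun h (1 : F)
      rw [hΦ, OnePoint.smul_some_eq_ite, hent, hent, hent, hent] at e0 e1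
      simp [h0, hd] at e0 e1
      rw [e0, add_zero, div_eq_one_iff_eq hd] at e1
      refine ⟨A.1 1 1, ?_, ?_⟩
      · rw [Fintype.card_fin, pow_two]
        have := A.2
        rw [Matrix.det_fin_two, h0, e1] at this
        linear_combination this
      · ext i j
        fin_cases i <;> fin_cases j <;> simp [h0, e0, e1]
    · rintro ⟨r, hr, hA⟩
      have hr0 : r ≠ 0 := fun h => by simp [h] at hr
      refine Equiv.ext fun p => ?_
      rw [hΦ]
      cases p with
      | infty =>
        rw [OnePoint.smul_infty_eq_self_iff.2 ((hent A 1 0).trans (by simp [← hA]))]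
        rfl
      | coe y =>
        rw [OnePoint.smul_some_eq_ite, hent, hent, hent, hent]
        simp [← hA, hr0]
  let eR : Matrix.ProjectiveSpecialLinearGroup (Fin 2) F ≃* Φ.range :=
    (QuotientGroup.quotientMulEquivOfEq hker.symm).trans (QuotientGroup.quotientKerEquivRange Φ)
  have heq : ψ.range = Φ.range := by
    refine Subgroup.eq_of_le_of_card_ge hle ?_
    rw [← Nat.card_congr eR.toEquiv, ← Nat.card_congr (MonoidHom.ofInjective hψinj).toEquiv]
    have h1 := Cfsg.Agent.Lead.GLBasic.card_PSL (F := F) 2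
    have h2 := Cfsg.Agent.Lead.ProjLine.card_SL2_mul (F := F)
    have hq : 1 < Fintype.card F := Fintype.one_lt_card
    have hg2 : Nat.gcd 2 (Fintype.card F - 1) = 2 := by
      rw [Nat.gcd_eq_left_iff_dvd]
      omega
    rw [← h1, hg2] at h2
    obtain ⟨k, hk⟩ : ∃ k, Fintype.card F = k + 1 := ⟨Fintype.card F - 1, by omega⟩
    rw [hk] at h2 hcard
    rw [show (k + 1) ^ 2 - 1 = k * (k + 2) by
        have : (k + 1) ^ 2 = k * (k + 2) + 1 := by ring
        omega,
      show (k + 1) ^ 2 - (k + 1) = k * (k + 1) by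
        have : (k + 1) ^ 2 = k * (k + 1) + (k + 1) := by ring
        omega, Nat.add_sub_cancel] at h2
    rw [Nat.add_sub_cancel] at hcard
    rw [show k * (k + 2) * (k * (k + 1)) = k * ((k + 1 + 1) * ((k + 1) * k)) by ring, ← hcard] at h2
    have := Nat.eq_of_mul_eq_mul_left (by omega) h2
    omega
  exact ⟨((MonoidHom.ofInjective hψinj).trans (MulEquiv.subgroupCongr heq)).trans eR.symm⟩

end Cfsg.Agent.Lie.MobiusRecognition
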