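import Mathlib
import Cfsg.Prelude.Def_LieExceptional
import Cfsg.Agent.Lib.Solv.Frobenius
import Cfsg.Agent.Lib.Perm.Primitive

/-!
Normal subgroups of Zassenhaus groups.
-/

set_option autoImplicit false
set_option linter.style.haveILetI false

open scoped Pointwise

namespace Cfsg.Agent.Lie.Zassenhaus

open MulAction

variable {G Ω : Type*} [Group G] [MulAction G Ω]

theorem finite_of_faithful [Finite Ω] [FaithfulSMul G Ω] : Finite G :=
  Finite.of_injective _ (MulAction.toPerm_injective (α := G) (β := Ω))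

/-- Only the identity fixes three points. -/
def ThreePoint (G Ω : Type*) [Group G] [MulAction G Ω] : Prop :=
  ∀ g : G, ∀ a b c : Ω, a ≠ b → b ≠ c → a ≠ c → g • a = a → g • b = b → g • c = c → g = 1

theorem exists_fix_pair (h2 : IsMultiplyPretransitive G Ω 2)
    (hfix : ∃ g : G, g ≠ 1 ∧ ∃ a b : Ω, a ≠ b ∧ g • a = a ∧ g • b = b) {a b : Ω} (hab : a ≠ b) :
    ∃ g : G, g ≠ 1 ∧ g • a = a ∧ g • b = b := by
  obtain ⟨g, hg, c, d, hcd, hc, hd⟩ := hfix
  obtain ⟨t, rfl, rfl⟩ := is_two_pretransitive_iff.1 h2 hcd hab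
  exact ⟨t * g * t⁻¹, by simpa [mul_inv_eq_one] using hg, by simp [mul_smul, hc], by simp [mul_smul, hd]⟩

theorem three_le_card [FaithfulSMul G Ω] [Finite Ω]
    (hfix : ∃ g : G, g ≠ 1 ∧ ∃ a b : Ω, a ≠ b ∧ g • a = a ∧ g • b = b) {a b : Ω} (hab : a ≠ b) :
    ∃ c : Ω, c ≠ a ∧ c ≠ b := by
  by_contra hc
  push Not at hc
  obtain ⟨g, hg, x, y, hxy, hgx, hgy⟩ := hfix
  refine hg (eq_of_smul_eq_smul fun ω : Ω => ?_)
  rw [one_smul]
  have hall : ∀ z, z = a ∨ z = b := fun z => by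
    by_cases h : z = a
    · exact Or.inl h
    · exact Or.inr (hc z h)
  rcases hall x with rfl | rfl <;> rcases hall y with rfl | rfl <;> rcases hall ω with rfl | rfl <;>
    first | exact absurd rfl hxy | assumption

/-- The point stabiliser is a Frobenius group whose kernel is transitive on the other points and is
contained in every normal subgroup which contains an element fixing two points. -/
theorem kernel_le [Finite Ω] [FaithfulSMul G Ω] (h2 : IsMultiplyPretransitive G Ω 2)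
    (h3 : ThreePoint G Ω)
    (hfix : ∃ g : G, g ≠ 1 ∧ ∃ a b : Ω, a ≠ b ∧ g • a = a ∧ g • b = b) (N : Subgroup G) [N.Normal]
    {a b : Ω} (hab : a ≠ b) {g : G} (hgN : g ∈ N) (hg1 : g ≠ 1) (hga : g • a = a) (hgb : g • b = b) :
    ∃ K : Subgroup G, K ≤ N ∧ (∀ k ∈ K, k • a = a) ∧ (∀ c, c ≠ a → ∃ k ∈ K, k • b = c) ∧
      (∀ k ∈ K, k • b = b → k = 1) ∧ (∀ s : G, s • a = a → s • b = b → ∀ k ∈ K, s * k * s⁻¹ ∈ K) := by
  haveI := finite_of_faithful (G := G) (Ω := Ω)
  haveI : IsPretransitive G Ω := isPretransitive_of_is_two_pretransitive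
  obtain ⟨c₀, hc₀a, hc₀b⟩ := three_le_card hfix hab
  let A := stabilizer G a
  let D : Subgroup A := (stabilizer G b).subgroupOf A
  have hD : Cfsg.IsFrobeniusComplement D := by
    refine ⟨fun h => ?_, fun h => ?_, fun s hs => ?_⟩
    · exact hg1 (congrArg Subtype.val ((Subgroup.eq_bot_iff_forall D).1 h ⟨g, hga⟩ hgb))
    · obtain ⟨t, ht1, ht2⟩ := is_two_pretransitive_iff.1 h2 hab hc₀a.symm
      have h1 : (⟨t, ht1⟩ : A) ∈ D := h ▸ Subgroup.mem_top _
      exact hc₀b (ht2.symm.trans h1)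
    · rw [Subgroup.eq_bot_iff_forall]
      rintro x ⟨hx, hx'⟩
      obtain ⟨y, hy, rfl⟩ := hx'
      by_contra hne
      refine hne (Subtype.ext ?_)
      refine h3 _ a b ((s : G) • b) hab ?_ ?_ ((s * y * s⁻¹ : A)).2 hx ?_
      · exact fun h => hs h.symm
      · exact fun h => hab (MulAction.injective (s : G) ((s.2 : (s : G) • a = a).trans h))
      · show ((s * y * s⁻¹ : A) : G) • (s : G) • b = (s : G) • b
        rw [smul_smul, Subgroup.coe_mul, Subgroup.coe_mul, InvMemClass.coe_inv, inv_mul_cancel_right, mul_smul]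
        exact congrArg ((s : G) • ·) hy
  obtain ⟨K₀, hK₀, hK₀n, hKc⟩ := Cfsg.Agent.Solv.frobenius_theorem hD
  haveI := hK₀n
  have hKfree : ∀ k ∈ K₀, ((k : A) : G) • b = b → k = 1 := fun k hk h =>
    Subgroup.mem_bot.1 (hKc.disjoint.le_bot ⟨hk, h⟩)
  refine ⟨K₀.map A.subtype, ?_, ?_, ?_, ?_, ?_⟩
  · rintro _ ⟨k, hk, rfl⟩
    let d : A := ⟨g, hga⟩
    let φ : K₀ → K₀ := fun x => ⟨d * x * d⁻¹ * (x : A)⁻¹, mul_mem (hK₀n.conj_mem _ x.2 d) (inv_mem x.2)⟩
    have hφ : Function.Injective φ := by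
      intro x y hxy
      have e : d * (x : A) * d⁻¹ * (x : A)⁻¹ = d * (y : A) * d⁻¹ * (y : A)⁻¹ := congrArg Subtype.val hxy
      set z : A := (y : A)⁻¹ * x with hz
      have hzc : d * z * d⁻¹ = z := by
        calc d * z * d⁻¹ = (d * (y : A) * d⁻¹)⁻¹ * (d * (x : A) * d⁻¹ * (x : A)⁻¹) * x := by rw [hz]; group
          _ = z := by rw [e, hz]; group
      have hz1 : z = 1 := by
        by_contra hne
        have hzK : z ∈ K₀ := mul_mem (inv_mem y.2) x.2
        have hfixzb : (d : G) • ((z : G) • b) = (z : G) • b := by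
          have e2 : (d : G) * (z : G) = (z : G) * (d : G) := congrArg Subtype.val (mul_inv_eq_iff_eq_mul.1 hzc)
          rw [smul_smul, e2, mul_smul]
          exact congrArg ((z : G) • ·) hgb
        refine hg1 (h3 g a b ((z : G) • b) hab ?_ ?_ hga hgb hfixzb)
        · exact fun h => hne (hKfree z hzK h.symm)
        · exact fun h => hab (MulAction.injective (z : G) ((z.2 : (z : G) • a = a).trans h))
      rw [hz, inv_mul_eq_one] at hz1
      exact Subtype.ext hz1.symm
    obtain ⟨x, hx⟩ := Finite.surjective_of_injective hφ ⟨k, hk⟩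
    have e : ((k : A) : G) = g * (((x : A) : G) * g⁻¹ * ((x : A) : G)⁻¹) := by
      rw [← show d * (x : A) * d⁻¹ * (x : A)⁻¹ = k from congrArg Subtype.val hx]
      simp [d, mul_assoc]
    show (k : G) ∈ N
    rw [e]
    exact mul_mem hgN ((inferInstance : N.Normal).conj_mem _ (inv_mem hgN) _)
  · rintro _ ⟨k, -, rfl⟩
    exact k.2
  · intro c hc
    obtain ⟨t, ht1, ht2⟩ := is_two_pretransitive_iff.1 h2 hab hc.symm
    obtain ⟨⟨k, d⟩, hkd⟩ := hKc.2 (⟨t, ht1⟩ : A)
    refine ⟨((k : A) : G), ⟨k, k.2, rfl⟩, ?_⟩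
    have e : ((k : A) : G) * ((d : A) : G) = t := congrArg Subtype.val hkd
    rw [← ht2, ← e, mul_smul]
    exact congrArg (((k : A) : G) • ·) (d.2 : ((d : A) : G) • b = b).symm
  · rintro _ ⟨k, hk, rfl⟩ h
    rw [hKfree k hk h]; rfl
  · rintro s hsa - _ ⟨k, hk, rfl⟩
    exact ⟨(⟨s, hsa⟩ : A) * k * (⟨s, hsa⟩ : A)⁻¹, hK₀n.conj_mem k hk _, rfl⟩

/-- A non-trivial normal subgroup of a Zassenhaus group contains an element fixing two points. -/
theorem exists_fix_two [Finite Ω] (hZ : Cfsg.IsZassenhausGroup G Ω) (N : Subgroup G) [hN : N.Normal]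
    (hne : N ≠ ⊥) : IsPretransitive N Ω ∧ ∃ g ∈ N, g ≠ 1 ∧ ∃ a b : Ω, a ≠ b ∧ g • a = a ∧ g • b = b := by
  obtain ⟨hfaith, h2, h3, hfix, hreg⟩ := hZ
  haveI := hfaith
  haveI := finite_of_faithful (G := G) (Ω := Ω)
  haveI : IsPreprimitive G Ω := isPreprimitive_of_is_two_pretransitive h2
  haveI hNt : IsPretransitive N Ω := Cfsg.Agent.Perm.normal_isPretransitive N hne
  refine ⟨hNt, ?_⟩
  by_contra hno
  push Not at hno
  obtain ⟨a, ha⟩ := hreg N hN hNt
  obtain ⟨g0, -, x0, y0, hxy0, -⟩ := hfix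
  have hFC : Cfsg.IsFrobeniusComplement (stabilizer N a) := by
    refine ⟨ha, fun h => ?_, fun s hs => ?_⟩
    · obtain ⟨n₁, hn₁⟩ := exists_smul_eq N a x0
      obtain ⟨n₂, hn₂⟩ := exists_smul_eq N a y0
      have e1 : n₁ • a = a := (h ▸ Subgroup.mem_top n₁ : n₁ ∈ stabilizer N a)
      have e2 : n₂ • a = a := (h ▸ Subgroup.mem_top n₂ : n₂ ∈ stabilizer N a)
      exact hxy0 (by rw [← hn₁, ← hn₂, e1, e2])
    · rw [Subgroup.eq_bot_iff_forall]
      rintro x ⟨hx, hx'⟩
      obtain ⟨y, hy, rfl⟩ := hx'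
      by_contra hne'
      have h1 : ((s * y * s⁻¹ : N) : G) • ((s : G) • a) = (s : G) • a := by
        have : ((s * y * s⁻¹ : N)) • (s • a) = s • a := by
          rw [smul_smul, inv_mul_cancel_right, mul_smul]
          exact congrArg (s • ·) hy
        exact this
      exact hno _ (s * y * s⁻¹ : N).2 (fun h => hne' (Subtype.ext h)) a ((s : G) • a)
        (fun h => hs h.symm) hx h1
  obtain ⟨K, hKset, hKn, hKc⟩ := Cfsg.Agent.Solv.frobenius_theorem hFC
  have hmem : ∀ x : N, x ∈ K ↔ (x = 1 ∨ ∀ c : Ω, x • c ≠ c) := by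
    intro x
    rw [← SetLike.mem_coe, hKset]
    constructor
    · rintro (h | h)
      · exact Or.inl h
      · refine Or.inr fun c hc => ?_
        obtain ⟨t, ht⟩ := exists_smul_eq N a c
        refine h t ⟨t⁻¹ * x * t, ?_, ?_⟩
        · show (t⁻¹ * x * t) • a = a
          rw [mul_smul, mul_smul, ht, hc, ← ht, inv_smul_smul]
        · show t * (t⁻¹ * x * t) * t⁻¹ = x
          group
    · rintro (h | h)
      · exact Or.inl h
      · refine Or.inr fun t ht => ?_
        obtain ⟨y, hy, rfl⟩ := ht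
        refine h (t • a) ?_
        show (t * y * t⁻¹) • t • a = t • a
        rw [smul_smul, inv_mul_cancel_right, mul_smul]
        exact congrArg (t • ·) hy
  have hMn : (K.map N.subtype).Normal := by
    refine ⟨?_⟩
    rintro _ ⟨x, hx, rfl⟩ s
    refine ⟨⟨s * x * s⁻¹, hN.conj_mem _ x.2 s⟩, ?_, rfl⟩
    rw [SetLike.mem_coe, hmem]
    rcases (hmem x).1 hx with h | h
    · left
      exact Subtype.ext (by simp [h])
    · right
      intro c hc
      refine h (s⁻¹ • c) ?_
      have hc' : (s * (x : G) * s⁻¹) • c = c := hc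
      rw [mul_smul, mul_smul] at hc'
      exact eq_inv_smul_iff.2 hc'
  have hMt : IsPretransitive (K.map N.subtype : Subgroup G) Ω := by
    refine ⟨fun c d => ?_⟩
    obtain ⟨s, hs⟩ := exists_smul_eq N a c
    obtain ⟨t, ht⟩ := exists_smul_eq N a d
    obtain ⟨⟨k, h⟩, hkh⟩ := hKc.2 s
    obtain ⟨⟨k', h'⟩, hkh'⟩ := hKc.2 t
    have ec : (k : N) • a = c := by
      rw [← hs, ← show (k : N) * h = s from hkh, mul_smul]
      exact congrArg ((k : N) • ·) h.2.symm
    have ed : (k' : N) • a = d := by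
      rw [← ht, ← show (k' : N) * h' = t from hkh', mul_smul]
      exact congrArg ((k' : N) • ·) h'.2.symm
    refine ⟨⟨((k' : N) : G) * ((k : N) : G)⁻¹, ⟨(k' : N) * (k : N)⁻¹, mul_mem k'.2 (inv_mem k.2), rfl⟩⟩, ?_⟩
    show (((k' : N) : G) * ((k : N) : G)⁻¹) • c = d
    rw [mul_smul, ← show ((k : N) : G) • a = c from ec, inv_smul_smul]
    exact ed
  obtain ⟨c, hc⟩ := hreg _ hMn hMt
  refine hc ((Subgroup.eq_bot_iff_forall _).2 ?_)
  rintro ⟨_, x, hx, rfl⟩ hxc
  rcases (hmem x).1 hx with h | h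
  · exact Subtype.ext (by simp [h])
  · exact absurd hxc (h c)

theorem normal_two_pretransitive [Finite Ω] (hZ : Cfsg.IsZassenhausGroup G Ω) (N : Subgroup G) [N.Normal]
    (hne : N ≠ ⊥) : IsMultiplyPretransitive N Ω 2 := by
  obtain ⟨hNt, g, hgN, hg1, x, y, hxy, hgx, hgy⟩ := exists_fix_two hZ N hne
  obtain ⟨hfaith, h2, h3, hfix, -⟩ := hZ
  haveI := hfaith
  haveI := hNt
  rw [is_two_pretransitive_iff]
  intro a b c d hab hcd
  obtain ⟨t, ht⟩ := exists_smul_eq N a c
  set b' := t • b with hb'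
  have hb'c : b' ≠ c := fun h => hab (MulAction.injective t (ht.trans h.symm))
  obtain ⟨s, hs1, hs2⟩ := is_two_pretransitive_iff.1 h2 hxy hb'c.symm
  have hg' : s * g * s⁻¹ ∈ N := (inferInstance : N.Normal).conj_mem g hgN s
  have hg'c : (s * g * s⁻¹) • c = c := by rw [← hs1, mul_smul, mul_smul, inv_smul_smul, hgx]
  have hg'b : (s * g * s⁻¹) • b' = b' := by rw [← hs2, mul_smul, mul_smul, inv_smul_smul, hgy]
  obtain ⟨K, hKN, hKa, hKt, -, -⟩ := kernel_le h2 h3 hfix N hb'c.symm hg'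
    (by simpa [mul_inv_eq_one] using hg1) hg'c hg'b
  obtain ⟨k, hk, hkd⟩ := hKt d hcd.symm
  refine ⟨⟨k, hKN hk⟩ * t, ?_, ?_⟩
  · rw [mul_smul, ht]; exact hKa k hk
  · rw [mul_smul]; exact hkd

/-- A regular normal subgroup of a doubly transitive group is a commutative group of prime exponent. -/
theorem regular_normal_elementary [Finite G] [FaithfulSMul G Ω] [Nontrivial Ω]
    (h2 : IsMultiplyPretransitive G Ω 2) (M : Subgroup G) [hMn : M.Normal] [hMt : IsPretransitive M Ω]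
    (hMr : ∀ a : Ω, stabilizer M a = ⊥) :
    IsMulCommutative M ∧ ∃ p : ℕ, p.Prime ∧ IsPGroup p M ∧ ∀ x ∈ M, x ^ p = 1 := by
  haveI : Nontrivial M := by
    obtain ⟨a, b, hab⟩ := exists_pair_ne Ω
    obtain ⟨m, hm⟩ := exists_smul_eq M a b
    exact ⟨⟨m, 1, fun h => hab (by rw [← hm, h, one_smul])⟩⟩
  obtain ⟨a⟩ : Nonempty Ω := inferInstance
  have inj : ∀ x y : M, x • a = y • a → x = y := fun x y h => by
    have h1 : y⁻¹ * x ∈ stabilizer M a := by rw [mem_stabilizer_iff, mul_smul, h, inv_smul_smul]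
    rw [hMr a, Subgroup.mem_bot, inv_mul_eq_one] at h1
    exact h1.symm
  have hconj : ∀ x y : M, x ≠ 1 → y ≠ 1 → ∃ s : G, s * x * s⁻¹ = (y : G) := by
    intro x y hx hy
    have hxa : (x : G) • a ≠ a := fun h => hx (inj x 1 (by rw [one_smul]; exact h))
    have hya : (y : G) • a ≠ a := fun h => hy (inj y 1 (by rw [one_smul]; exact h))
    obtain ⟨s, hs1, hs2⟩ := is_two_pretransitive_iff.1 h2 hxa.symm hya.symm
    refine ⟨s, congrArg Subtype.val (inj ⟨_, hMn.conj_mem _ x.2 s⟩ y ?_)⟩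
    show (s * (x : G) * s⁻¹) • a = (y : G) • a
    rw [mul_smul, mul_smul, inv_smul_eq_iff.2 hs1.symm, hs2]
  set p := (Nat.card M).minFac with hp
  have hpp : p.Prime := Nat.minFac_prime Finite.one_lt_card.ne'
  haveI := Fact.mk hpp
  obtain ⟨z, hz⟩ := exists_prime_orderOf_dvd_card' p (Nat.minFac_dvd (Nat.card M))
  have hz1 : z ≠ 1 := fun h => by rw [h, orderOf_one] at hz; exact hpp.one_lt.ne hz
  have hexp : ∀ x ∈ M, x ^ p = 1 := by
    intro x hx
    by_cases h1 : (⟨x, hx⟩ : M) = 1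
    · rw [show x = 1 from congrArg Subtype.val h1, one_pow]
    · obtain ⟨s, hs⟩ := hconj z ⟨x, hx⟩ hz1 h1
      have hzp : ((z : M) : G) ^ p = 1 := by rw [← Subgroup.coe_pow, ← hz, pow_orderOf_eq_one]; rfl
      rw [show x = s * z * s⁻¹ from hs.symm, conj_pow, hzp, mul_one, mul_inv_cancel]
  have hpg : IsPGroup p M := fun x => ⟨1, Subtype.ext (by rw [pow_one]; exact hexp x x.2)⟩
  refine ⟨⟨⟨fun x y => ?_⟩⟩, p, hpp, hpg, hexp⟩
  haveI := hpg.center_nontrivial
  obtain ⟨⟨w, hw⟩, hw1⟩ := exists_ne (1 : Subgroup.center M)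
  have hw1' : w ≠ 1 := fun h => hw1 (Subtype.ext h)
  by_cases hx1 : x = 1
  · rw [hx1, one_mul, mul_one]
  obtain ⟨s, hs⟩ := hconj w x hw1' hx1
  have hyc : s⁻¹ * (y : G) * s ∈ M := by
    have := hMn.conj_mem _ y.2 s⁻¹
    rwa [inv_inv] at this
  have hwy := congrArg Subtype.val (Subgroup.mem_center_iff.1 hw ⟨_, hyc⟩)
  simp only [Subgroup.coe_mul] at hwy
  refine Subtype.ext ?_
  show (x : G) * y = y * x
  rw [← hs]
  calc s * (w : G) * s⁻¹ * y = s * ((w : G) * (s⁻¹ * y * s)) * s⁻¹ := by group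
    _ = s * ((s⁻¹ * y * s) * w) * s⁻¹ := by rw [hwy]
    _ = (y : G) * (s * w * s⁻¹) := by group

/-- A regular normal subgroup of a doubly transitive group is unique. -/
theorem regular_normal_unique [Finite G] [FaithfulSMul G Ω] [Nontrivial Ω]
    (h2 : IsMultiplyPretransitive G Ω 2) (M M' : Subgroup G) [M.Normal] [M'.Normal]
    [IsPretransitive M Ω] [IsPretransitive M' Ω] (hMr : ∀ a : Ω, stabilizer M a = ⊥)
    (hMr' : ∀ a : Ω, stabilizer M' a = ⊥) : M = M' := by
  suffices h : ∀ (A B : Subgroup G) [A.Normal] [B.Normal] [IsPretransitive A Ω] [IsPretransitive B Ω],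
      (∀ a : Ω, stabilizer A a = ⊥) → (∀ a : Ω, stabilizer B a = ⊥) → A ≤ B from
    le_antisymm (h M M' hMr hMr') (h M' M hMr' hMr)
  intro A B hA hB hAt hBt hAr hBr
  haveI : IsPreprimitive G Ω := isPreprimitive_of_is_two_pretransitive h2
  obtain ⟨a⟩ : Nonempty Ω := inferInstance
  obtain ⟨hBc, -⟩ := regular_normal_elementary h2 B hBr
  intro x hx
  by_cases h0 : A ⊓ B = ⊥
  · obtain ⟨y, hy⟩ := exists_smul_eq B a (x • a)
    have hc : (y : G)⁻¹ * x ∈ Subgroup.centralizer (B : Set G) := by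
      rw [Subgroup.mem_centralizer_iff]
      intro z hz
      have e1 : Commute z (y : G) := congrArg Subtype.val (hBc.is_comm.comm ⟨z, hz⟩ y)
      have e2 : Commute x z := Subgroup.commute_of_normal_of_disjoint A B hA hB (disjoint_iff.2 h0) x z hx hz
      exact (e1.inv_right.mul_right e2.symm).eq
    have h1 := Cfsg.Agent.Perm.eq_one_of_centralizes (M := B) hc (ω := a)
      (by rw [mul_smul, ← hy]; exact inv_smul_smul (y : G) a)
    rw [inv_mul_eq_one] at h1
    exact h1 ▸ y.2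
  · haveI := Cfsg.Agent.Perm.normal_isPretransitive (Ω := Ω) (A ⊓ B) h0
    obtain ⟨y, hy⟩ := exists_smul_eq (A ⊓ B : Subgroup G) a (x • a)
    have h1 : (⟨x⁻¹ * y, mul_mem (inv_mem hx) y.2.1⟩ : A) ∈ stabilizer A a := by
      show (x⁻¹ * (y : G)) • a = a
      rw [mul_smul, show (y : G) • a = x • a from hy, inv_smul_smul]
    rw [hAr a, Subgroup.mem_bot] at h1
    rw [show x = y from inv_mul_eq_one.1 (congrArg Subtype.val h1)]
    exact y.2.2

theorem normal_isZassenhaus [Finite Ω] (hZ : Cfsg.IsZassenhausGroup G Ω) (N : Subgroup G) [N.Normal]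
    (hne : N ≠ ⊥) : Cfsg.IsZassenhausGroup N Ω := by
  have hN2 := normal_two_pretransitive hZ N hne
  obtain ⟨-, g, hgN, hg1, x, y, hxy, hgx, hgy⟩ := exists_fix_two hZ N hne
  obtain ⟨hfaith, h2, h3, hfix, hreg⟩ := hZ
  haveI := hfaith
  haveI := finite_of_faithful (G := G) (Ω := Ω)
  haveI hNfaith : FaithfulSMul N Ω := ⟨fun {u v} h => Subtype.ext (eq_of_smul_eq_smul fun ω : Ω => h ω)⟩
  haveI : Nontrivial Ω := ⟨⟨x, y, hxy⟩⟩
  refine ⟨hNfaith, hN2, fun u a b c hab hbc hac ha hb hc => Subtype.ext (h3 u a b c hab hbc hac ha hb hc),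
    ⟨⟨g, hgN⟩, fun h => hg1 (congrArg Subtype.val h), x, y, hxy, hgx, hgy⟩, ?_⟩
  intro M hMn hMt
  by_contra hno
  push Not at hno
  haveI := hMn
  haveI := hMt
  -- the regular normal subgroup is normal in the whole group
  have hconj : ∀ s : G, ∀ u : N, u ∈ M → (⟨s * u * s⁻¹, (inferInstance : N.Normal).conj_mem _ u.2 s⟩ : N) ∈ M := by
    intro s u hu
    let φ : N →* N := (MulAut.conjNormal (H := N) s).toMonoidHom
    haveI hM'n : (M.map φ).Normal := hMn.map φ (MulAut.conjNormal s).surjective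
    haveI : IsPretransitive (M.map φ) Ω := by
      refine ⟨fun c d => ?_⟩
      obtain ⟨m, hm⟩ := exists_smul_eq M (s⁻¹ • c) (s⁻¹ • d)
      refine ⟨⟨φ m, ⟨m, m.2, rfl⟩⟩, ?_⟩
      show ((MulAut.conjNormal s (m : N) : N) : G) • c = d
      rw [MulAut.conjNormal_apply, mul_smul, mul_smul]
      exact eq_inv_smul_iff.1 hm
    have hr' : ∀ a : Ω, stabilizer (M.map φ) a = ⊥ := by
      intro a
      rw [Subgroup.eq_bot_iff_forall]
      rintro ⟨_, m, hm, rfl⟩ hma
      have hma' : ((MulAut.conjNormal s m : N) : G) • a = a := hma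
      rw [MulAut.conjNormal_apply, mul_smul, mul_smul] at hma'
      have h1 : (⟨m, hm⟩ : M) ∈ stabilizer M (s⁻¹ • a) := eq_inv_smul_iff.2 hma'
      rw [hno (s⁻¹ • a), Subgroup.mem_bot] at h1
      refine Subtype.ext ?_
      show φ m = 1
      rw [show m = 1 from congrArg Subtype.val h1, map_one]
    have heq := regular_normal_unique hN2 (M.map φ) M hr' hno
    rw [← heq]
    exact ⟨u, hu, Subtype.ext (MulAut.conjNormal_apply s u)⟩
  have hMG : (M.map N.subtype).Normal := by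
    refine ⟨?_⟩
    rintro _ ⟨u, hu, rfl⟩ s
    exact ⟨_, hconj s u hu, rfl⟩
  have hMGt : IsPretransitive (M.map N.subtype : Subgroup G) Ω := by
    refine ⟨fun c d => ?_⟩
    obtain ⟨m, hm⟩ := exists_smul_eq M c d
    exact ⟨⟨((m : N) : G), ⟨m, m.2, rfl⟩⟩, hm⟩
  obtain ⟨c, hc⟩ := hreg _ hMG hMGt
  refine hc ((Subgroup.eq_bot_iff_forall _).2 ?_)
  rintro ⟨_, u, hu, rfl⟩ huc
  have h1 : (⟨u, hu⟩ : M) ∈ stabilizer M c := huc
  rw [hno c, Subgroup.mem_bot] at h1
  exact Subtype.ext (by simp [show u = 1 from congrArg Subtype.val h1])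

/-- A Zassenhaus group of odd degree is simple. -/
theorem isSimple_of_odd [Fintype Ω] (hZ : Cfsg.IsZassenhausGroup G Ω) (hodd : Odd (Fintype.card Ω)) :
    IsSimpleGroup G := by
  classical
  obtain ⟨hfaith, h2, h3, hfix, -⟩ := id hZ
  haveI := hfaith
  haveI := finite_of_faithful (G := G) (Ω := Ω)
  obtain ⟨g₀, hg₀, a, b, hab, -, -⟩ := id hfix
  haveI : Nontrivial G := ⟨⟨g₀, 1, hg₀⟩⟩
  refine ⟨fun N hN => or_iff_not_imp_left.2 fun hne => ?_⟩
  haveI := hN
  haveI : Fact (Nat.Prime 2) := ⟨Nat.prime_two⟩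
  -- an involution does not fix two points
  have hinv2 : ∀ u : G, u * u = 1 → ∀ c c' : Ω, c ≠ c' → u • c = c → u • c' = c' → u = 1 := by
    intro u hinv c c' hcc huc huc'
    by_contra hu1
    have hfixset : (Finset.univ.filter fun z : Ω => u • z = z) = {c, c'} := by
      refine Finset.Subset.antisymm (fun z hz => ?_) fun z hz => ?_
      · simp only [Finset.mem_filter] at hz
        by_contra hz'
        simp only [Finset.mem_insert, Finset.mem_singleton, not_or] at hz'
        exact hu1 (h3 u c c' z hcc (Ne.symm hz'.2) (Ne.symm hz'.1) huc huc' hz.2)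
      · simp only [Finset.mem_insert, Finset.mem_singleton] at hz
        rcases hz with rfl | rfl <;> simp [huc, huc']
    have hev : Even (Finset.univ.filter fun z : Ω => ¬ u • z = z).card := by
      rw [even_iff_two_dvd]
      exact Equiv.Perm.two_dvd_card_support (σ := MulAction.toPermHom G Ω u)
        (by rw [← map_pow, pow_two, hinv, map_one])
    have hsum := Finset.card_filter_add_card_filter_not (s := (Finset.univ : Finset Ω)) fun z => u • z = z
    rw [hfixset, Finset.card_pair hcc, Finset.card_univ] at hsum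
    obtain ⟨k, hk⟩ := hev
    obtain ⟨l, hl⟩ := hodd
    omega
  -- the two-point stabiliser has odd order
  have hDodd : ∀ g : G, g • a = a → g • b = b → Odd (orderOf g) := by
    intro g hga hgb
    by_contra heven
    rw [Nat.not_odd_iff_even, even_iff_two_dvd] at heven
    have hu2 : orderOf (g ^ (orderOf g / 2)) = 2 := orderOf_pow_orderOf_div (orderOf_pos g).ne' heven
    have h1 := hinv2 (g ^ (orderOf g / 2)) (by rw [← pow_two]; nth_rw 2 [← hu2]; exact pow_orderOf_eq_one _)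
      a b hab (Subgroup.pow_mem (stabilizer G a) hga _) (Subgroup.pow_mem (stabilizer G b) hgb _)
    rw [h1, orderOf_one] at hu2
    exact absurd hu2 (by norm_num)
  have hN2 := normal_two_pretransitive hZ N hne
  obtain ⟨-, g, hgN, hg1, x, y, hxy, hgx, hgy⟩ := exists_fix_two hZ N hne
  obtain ⟨w, hw1, hw2⟩ := is_two_pretransitive_iff.1 hN2 hab hab.symm
  have hw2a : ((w : G) ^ 2) • a = a := by
    rw [pow_two, mul_smul, show (w : G) • a = b from hw1]; exact hw2
  have hw2b : ((w : G) ^ 2) • b = b := by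
    rw [pow_two, mul_smul, show (w : G) • b = a from hw2]; exact hw1
  obtain ⟨r, hr⟩ := hDodd _ hw2a hw2b
  set t := (w : G) ^ (2 * r + 1) with ht
  have htN : t ∈ N := pow_mem w.2 _
  have ht2 : t * t = 1 := by
    rw [← pow_two, ht, ← pow_mul, mul_comm, pow_mul, ← hr, pow_orderOf_eq_one]
  have hta : t • a = b := by
    rw [ht, pow_succ', mul_smul, pow_mul]
    rw [show ((w : G) ^ 2) ^ r • a = a from Subgroup.pow_mem (stabilizer G a) hw2a r]
    exact hw1
  have htb : t • b = a := by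
    rw [← hta, smul_smul, ht2, one_smul]
  have htinv : t⁻¹ = t := inv_eq_of_mul_eq_one_right ht2
  -- `t` fixes a point
  obtain ⟨c, hc⟩ : ∃ c, t • c = c := by
    by_contra hno
    push Not at hno
    have hd := Equiv.Perm.two_dvd_card_support (σ := MulAction.toPermHom G Ω t)
      (by rw [← map_pow, pow_two, ht2, map_one])
    have : (MulAction.toPermHom G Ω t).support = Finset.univ := by
      ext z; simpa using hno z
    rw [this, Finset.card_univ] at hd
    exact (Nat.not_even_iff_odd.2 hodd) (even_iff_two_dvd.2 hd)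
  have hca : c ≠ a := fun h => hab (by rw [← hta, ← h]; exact hc.symm)
  have hcb : c ≠ b := fun h => hab (by rw [← htb, ← h]; exact hc)
  -- the two-point stabiliser lies in `N`
  have hDN : ∀ d : G, d • a = a → d • b = b → d ∈ N := by
    intro d hda hdb
    let D := stabilizer G a ⊓ stabilizer G b
    have hmemD : ∀ e : D, t * (e : G) * t⁻¹ ∈ D := fun e => by
      refine ⟨?_, ?_⟩
      · show (t * (e : G) * t⁻¹) • a = a
        rw [htinv, mul_smul, mul_smul, hta, (e.2.2 : (e : G) • b = b), htb]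
      · show (t * (e : G) * t⁻¹) • b = b
        rw [htinv, mul_smul, mul_smul, htb, (e.2.1 : (e : G) • a = a), hta]
    let φ : D → D := fun e => ⟨(e : G) * (t * (e : G) * t⁻¹)⁻¹, mul_mem e.2 (inv_mem (hmemD e))⟩
    have hφ : Function.Injective φ := by
      intro e e' he
      have h1 : (e : G) * (t * (e : G) * t⁻¹)⁻¹ = e' * (t * (e' : G) * t⁻¹)⁻¹ := congrArg Subtype.val he
      have hcm : t * ((e' : G)⁻¹ * e) * t⁻¹ = (e' : G)⁻¹ * e := by
        calc t * ((e' : G)⁻¹ * e) * t⁻¹ = (t * (e' : G) * t⁻¹)⁻¹ * (t * (e : G) * t⁻¹) := by group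
          _ = (e' : G)⁻¹ * ((e' : G) * (t * (e' : G) * t⁻¹)⁻¹) * (t * (e : G) * t⁻¹) := by group
          _ = (e' : G)⁻¹ * e := by rw [← h1]; group
      set z := (e' : G)⁻¹ * e with hz
      have hzD : z ∈ D := mul_mem (inv_mem e'.2) e.2
      have hzc : t • (z • c) = z • c := by
        rw [smul_smul, mul_inv_eq_iff_eq_mul.1 hcm, mul_smul, hc]
      have hzc' : z • c = c := by
        by_contra hne'
        have h1' : t = 1 := hinv2 t ht2 _ _ hne' hzc hc
        rw [h1', one_smul] at hta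
        exact hab hta
      have hz1 : z = 1 := h3 z a b c hab hcb.symm hca.symm hzD.1 hzD.2 hzc'
      exact Subtype.ext (inv_mul_eq_one.1 hz1).symm
    obtain ⟨e, he⟩ := Finite.surjective_of_injective hφ ⟨d, hda, hdb⟩
    have e1 : d = (e : G) * t * (e : G)⁻¹ * t⁻¹ := by
      rw [← show (e : G) * (t * (e : G) * t⁻¹)⁻¹ = d from congrArg Subtype.val he]
      group
    rw [e1]
    exact mul_mem ((inferInstance : N.Normal).conj_mem t htN _) (inv_mem htN)
  rw [eq_top_iff]
  intro s _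
  obtain ⟨u, hu1, hu2⟩ := is_two_pretransitive_iff.1 hN2
    (show s • a ≠ s • b from fun h => hab (MulAction.injective s h)) hab
  have h1 : ((u : G) * s) • a = a := by rw [mul_smul]; exact hu1
  have h2' : ((u : G) * s) • b = b := by rw [mul_smul]; exact hu2
  have := mul_mem (inv_mem u.2) (hDN _ h1 h2')
  rwa [inv_mul_cancel_left] at this

end Cfsg.Agent.Lie.Zassenhaus
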