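import Mathlib
import Cfsg.Agent.Lib.Lie.Zassenhaus

/-!
Involutions of Zassenhaus groups with two-point stabilisers of even order.
-/

set_option autoImplicit false
set_option linter.style.haveILetI false

namespace Cfsg.Agent.Lie.ZassenhausSwap

open MulAction
open Cfsg.Agent.Lie.Zassenhaus

variable {G Ω : Type*} [Group G] [MulAction G Ω]

/-- If the two-point stabilisers have even order, at most half the degree minus two, then every
element interchanging two points is an involution with a fixed point. -/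
theorem swap_involution [Finite G] [FaithfulSMul G Ω] [Fintype Ω]
    (h2 : IsMultiplyPretransitive G Ω 2) (h3 : ThreePoint G Ω) {a b : Ω} (hab : a ≠ b)
    (heven : Even (Nat.card ↥(stabilizer G a ⊓ stabilizer G b)))
    (hle : 2 * Nat.card ↥(stabilizer G a ⊓ stabilizer G b) ≤ Fintype.card Ω - 2) :
    2 * Nat.card ↥(stabilizer G a ⊓ stabilizer G b) = Fintype.card Ω - 2 ∧
    (∃ t : G, t • a = b ∧ t • b = a) ∧
    ∀ s : G, s • a = b → s • b = a → s * s = 1 ∧ ∃ c : Ω, s • c = c := by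
  classical
  rw [is_two_pretransitive_iff] at h2
  haveI : Fact (Nat.Prime 2) := ⟨Nat.prime_two⟩
  obtain ⟨u', hu'⟩ := exists_prime_orderOf_dvd_card' (G := ↥(stabilizer G a ⊓ stabilizer G b)) 2 heven.two_dvd
  obtain ⟨u, hua, hub, hu⟩ : ∃ u : G, u • a = a ∧ u • b = b ∧ orderOf u = 2 :=
    ⟨u', u'.2.1, u'.2.2, by rw [Subgroup.orderOf_coe]; exact hu'⟩
  have hu1 : u ≠ 1 := fun e => by simp [e] at hu
  let Pr := {q : Ω × Ω // q.1 ≠ q.2}
  have hinv : ∀ P : Pr, ∃ w : G, w * w = 1 ∧ w • P.1.1 = P.1.1 ∧ w • P.1.2 = P.1.2 ∧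
      ∀ z, w • z = z → z = P.1.1 ∨ z = P.1.2 := by
    intro P
    obtain ⟨k, hk1, hk2⟩ := h2 hab P.2
    have h1 : k * u * k⁻¹ ≠ 1 := fun e => hu1 (by
      have := congrArg (fun t => k⁻¹ * t * k) e
      simpa [mul_assoc] using this)
    have hf1 : (k * u * k⁻¹) • P.1.1 = P.1.1 := by rw [← hk1, mul_smul, mul_smul, inv_smul_smul, hua]
    have hf2 : (k * u * k⁻¹) • P.1.2 = P.1.2 := by rw [← hk2, mul_smul, mul_smul, inv_smul_smul, hub]
    refine ⟨k * u * k⁻¹, ?_, hf1, hf2, fun z hz => ?_⟩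
    · rw [show k * u * k⁻¹ * (k * u * k⁻¹) = k * (u * u) * k⁻¹ by group, ← sq u, ← hu, pow_orderOf_eq_one]
      group
    · by_contra hne
      push Not at hne
      exact h1 (h3 _ P.1.1 P.1.2 z P.2 (Ne.symm hne.2) (Ne.symm hne.1) hf1 hf2 hz)
  choose w hw2 hwa hwb hwfix using hinv
  haveI : Nonempty Pr := ⟨⟨(a, b), hab⟩⟩
  haveI : Fintype Pr := Fintype.ofFinite _
  let R : Pr → Finset Pr := fun Q => Finset.univ.filter fun P => w P • Q.1.1 = Q.1.2
  -- double counting
  have hsum : ∑ Q : Pr, (R Q).card = Fintype.card Pr * (Fintype.card Ω - 2) := by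
    have h1 : ∑ Q : Pr, (R Q).card = ∑ P : Pr, (Finset.univ.filter fun Q : Pr => w P • Q.1.1 = Q.1.2).card :=
      (Finset.sum_card_bipartiteAbove_eq_sum_card_bipartiteBelow (fun (Q P : Pr) => w P • Q.1.1 = Q.1.2))
    rw [h1, ← Finset.card_univ, ← smul_eq_mul, ← Finset.sum_const]
    refine Finset.sum_congr rfl fun P _ => ?_
    have h2c : ({P.1.1, P.1.2} : Finset Ω)ᶜ.card = Fintype.card Ω - 2 := by
      rw [Finset.card_compl, Finset.card_pair P.2]
    rw [← h2c]
    refine Finset.card_bij (fun Q _ => Q.1.1) ?_ ?_ ?_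
    · intro Q hQ
      simp only [Finset.mem_filter] at hQ
      rw [Finset.mem_compl, Finset.mem_insert, Finset.mem_singleton]
      rintro (e | e)
      · exact Q.2 (by rw [← hQ.2, e, hwa])
      · exact Q.2 (by rw [← hQ.2, e, hwb])
    · intro Q hQ Q' hQ' e
      simp only [Finset.mem_filter] at hQ hQ'
      exact Subtype.ext (Prod.ext e (by rw [← hQ.2, ← hQ'.2, e]))
    · intro z hz
      rw [Finset.mem_compl, Finset.mem_insert, Finset.mem_singleton] at hz
      exact ⟨⟨(z, w P • z), fun e => hz (hwfix P z e.symm)⟩, by simp, rfl⟩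
  obtain ⟨Q, -, hQ⟩ := Finset.exists_le_of_sum_le (Finset.univ_nonempty (α := Pr))
    (f := fun _ => Fintype.card Ω - 2) (g := fun Q => (R Q).card)
    (by rw [hsum, Finset.sum_const, Finset.card_univ, smul_eq_mul])
  obtain ⟨k, hk1, hk2⟩ := h2 hab Q.2
  haveI : Fintype G := Fintype.ofFinite G
  -- all elements interchanging the pair Q
  let W : Finset G := Finset.univ.filter fun s => s • Q.1.1 = Q.1.2 ∧ s • Q.1.2 = Q.1.1
  let T : Finset G := (R Q).image w
  have hTW : T ⊆ W := by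
    intro t ht
    obtain ⟨P, hP, rfl⟩ := Finset.mem_image.1 ht
    simp only [R, Finset.mem_filter] at hP
    refine Finset.mem_filter.2 ⟨Finset.mem_univ _, hP.2, ?_⟩
    rw [← hP.2, ← mul_smul, hw2, one_smul]
  have hfib : ∀ t ∈ T, ((R Q).filter fun P => w P = t).card ≤ 2 := by
    intro t ht
    obtain ⟨P0, -, rfl⟩ := Finset.mem_image.1 ht
    refine le_trans (Finset.card_le_card (t := ({⟨P0.1, P0.2⟩, ⟨(P0.1.2, P0.1.1), P0.2.symm⟩} : Finset Pr)) ?_)
      Finset.card_le_two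
    intro P hP
    simp only [Finset.mem_filter] at hP
    have c1 := hwfix P0 P.1.1 (by rw [← hP.2]; exact hwa P)
    have c2 := hwfix P0 P.1.2 (by rw [← hP.2]; exact hwb P)
    rw [Finset.mem_insert, Finset.mem_singleton]
    rcases c1 with c1 | c1 <;> rcases c2 with c2 | c2
    · exact absurd (c1.trans c2.symm) P.2
    · exact Or.inl (Subtype.ext (Prod.ext c1 c2))
    · exact Or.inr (Subtype.ext (Prod.ext c1 c2))
    · exact absurd (c1.trans c2.symm) P.2
  have hRT := Finset.card_le_mul_card_image (R Q) 2 hfib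
  change (R Q).card ≤ 2 * T.card at hRT
  have hWd : W.card ≤ Nat.card ↥(stabilizer G a ⊓ stabilizer G b) := by
    by_cases hne : W.Nonempty
    · obtain ⟨s, hs⟩ := hne
      obtain ⟨-, s1, s2⟩ := Finset.mem_filter.1 hs
      have hin : ∀ t ∈ W, k⁻¹ * (s * t) * k ∈ stabilizer G a ⊓ stabilizer G b := by
        intro t ht
        obtain ⟨-, t1, t2⟩ := Finset.mem_filter.1 ht
        refine Subgroup.mem_inf.2 ⟨?_, ?_⟩ <;> rw [mem_stabilizer_iff, mul_smul, mul_smul, mul_smul]
        · rw [hk1, t1, s2, inv_smul_eq_iff, hk1]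
        · rw [hk2, t2, s1, inv_smul_eq_iff, hk2]
      rw [← Nat.card_eq_finsetCard]
      refine Nat.card_le_card_of_injective (fun t : W => ⟨_, hin t t.2⟩) fun t t' e => ?_
      exact Subtype.ext (mul_left_cancel (mul_left_cancel (mul_right_cancel (congrArg Subtype.val e))))
    · rw [Finset.not_nonempty_iff_eq_empty.1 hne]; simp
  have hTle := Finset.card_le_card hTW
  have hWT : T = W := Finset.eq_of_subset_of_card_le hTW (by omega)
  have hWne : W.Nonempty := by
    rw [← Finset.card_pos]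
    have : 0 < Nat.card ↥(stabilizer G a ⊓ stabilizer G b) := Nat.card_pos
    omega
  refine ⟨by omega, ?_, fun s hsa hsb => ?_⟩
  · obtain ⟨s, hs⟩ := hWne
    obtain ⟨-, s1, s2⟩ := Finset.mem_filter.1 hs
    refine ⟨k⁻¹ * s * k, ?_, ?_⟩
    · rw [mul_smul, mul_smul, hk1, s1, inv_smul_eq_iff, hk2]
    · rw [mul_smul, mul_smul, hk2, s2, inv_smul_eq_iff, hk1]
  · have hmem : k * s * k⁻¹ ∈ T := by
      rw [hWT]
      refine Finset.mem_filter.2 ⟨Finset.mem_univ _, ?_, ?_⟩
      · rw [← hk1, mul_smul, mul_smul, inv_smul_smul, hsa, hk2]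
      · rw [← hk2, mul_smul, mul_smul, inv_smul_smul, hsb, hk1]
    obtain ⟨P, -, hP⟩ := Finset.mem_image.1 hmem
    have e : s = k⁻¹ * w P * k := by rw [hP]; group
    refine ⟨?_, k⁻¹ • P.1.1, ?_⟩
    · rw [e, show k⁻¹ * w P * k * (k⁻¹ * w P * k) = k⁻¹ * (w P * w P) * k by group, hw2]; group
    · rw [e, mul_smul, mul_smul, smul_inv_smul, hwa]

end Cfsg.Agent.Lie.ZassenhausSwap
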