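import Mathlib
import Cfsg.Prelude.Def_LieExceptional
import Cfsg.Agent.Lib.Lie.ZassenhausSwap
import Cfsg.Agent.Lib.Lie.AbelianField
import Cfsg.Agent.Lib.Lie.MobiusRecognition

/-!
Zassenhaus groups with two-point stabilisers of even order, at most half the degree minus two, are
projective special linear groups.
-/

set_option autoImplicit false
set_option linter.style.haveILetI false
set_option maxHeartbeats 1000000

namespace Cfsg.Agent.Lie.ZassenhausHalf

open MulAction
open Cfsg.Agent.Lie.Zassenhaus

universe u v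

/-- In a field of order `q ≡ 1 (mod 4)`, `q > 5`, there is a square followed by a square and a
square followed by a non-square. -/
theorem consecutive {F : Type} [Field F] [Fintype F] (hq : 5 < Fintype.card F)
    (hodd : ringChar F ≠ 2) :
    (∃ x : F, x ≠ 0 ∧ IsSquare x ∧ x + 1 ≠ 0 ∧ IsSquare (x + 1)) ∧
      ∃ x : F, x ≠ 0 ∧ IsSquare x ∧ ¬ IsSquare (x + 1) := by
  classical
  have h2 : (2 : F) ≠ 0 := Ring.two_ne_zero hodd
  constructor
  · obtain ⟨u, hu0, hu4⟩ : ∃ u : F, u ≠ 0 ∧ u ^ 4 ≠ 1 := by
      by_contra hcon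
      push Not at hcon
      have hsub : (Finset.univ.erase (0 : F)) ⊆ (Polynomial.nthRoots 4 (1 : F)).toFinset := by
        intro u hu
        rw [Multiset.mem_toFinset, Polynomial.mem_nthRoots (by norm_num)]
        exact hcon u (Finset.ne_of_mem_erase hu)
      have h1 := (Finset.card_le_card hsub).trans
        ((Multiset.toFinset_card_le _).trans (Polynomial.card_nthRoots 4 (1 : F)))
      rw [Finset.card_erase_of_mem (Finset.mem_univ _), Finset.card_univ] at h1
      omega
    have h2m : u ^ 2 - 1 ≠ 0 := fun h => hu4 (by linear_combination (u ^ 2 + 1) * h)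
    have h2p : u ^ 2 + 1 ≠ 0 := fun h => hu4 (by linear_combination (u ^ 2 - 1) * h)
    have e1 : ((u ^ 2 - 1) / (2 * u)) ^ 2 + 1 = ((u ^ 2 + 1) / (2 * u)) ^ 2 := by
      field_simp
      ring
    refine ⟨((u ^ 2 - 1) / (2 * u)) ^ 2, ?_, ⟨_, sq _⟩, ?_, ?_⟩
    · exact pow_ne_zero 2 (div_ne_zero h2m (mul_ne_zero h2 hu0))
    · rw [e1]; exact pow_ne_zero 2 (div_ne_zero h2p (mul_ne_zero h2 hu0))
    · rw [e1]; exact ⟨_, sq _⟩
  · by_contra hcon
    push Not at hcon
    let S : Finset F := Finset.univ.filter fun x => IsSquare x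
    have hcl : ∀ x ∈ S, x + 1 ∈ S := fun x hx => by
      rw [Finset.mem_filter] at hx ⊢
      refine ⟨Finset.mem_univ _, ?_⟩
      by_cases h0 : x = 0
      · rw [h0, zero_add]; exact IsSquare.one
      · exact hcon x h0 hx.2
    have himg : S.image (fun x => x + 1) = S := Finset.eq_of_subset_of_card_le
      (Finset.image_subset_iff.2 hcl) (by rw [Finset.card_image_of_injective _ (add_left_injective 1)])
    have hsum : ∑ x ∈ S, (x + 1) = ∑ x ∈ S, x := by
      conv_rhs => rw [← himg, Finset.sum_image (fun a _ b _ h => add_left_injective 1 h)]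
    rw [Finset.sum_add_distrib, add_eq_left, Finset.sum_const, nsmul_one] at hsum
    -- every element is a square or a non-square
    have hS : 2 * S.card = Fintype.card F + 1 := by
      have hcard : (Finset.univ.filter fun x : F => ∃ y, y ^ 2 = x).card * 2 = Fintype.card F + 1 := by
        have hfib : ∀ x ∈ (Finset.univ.erase (0 : F)).image (fun y => y ^ 2),
            ((Finset.univ.erase (0 : F)).filter fun y => y ^ 2 = x).card = 2 := by
          intro x hx
          obtain ⟨y, hy, rfl⟩ := Finset.mem_image.1 hx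
          have hy0 := Finset.ne_of_mem_erase hy
          have : ((Finset.univ.erase (0 : F)).filter fun z => z ^ 2 = y ^ 2) = {y, -y} := by
            ext z
            rw [Finset.mem_filter, Finset.mem_erase, Finset.mem_insert, Finset.mem_singleton]
            constructor
            · rintro ⟨-, h⟩
              exact sq_eq_sq_iff_eq_or_eq_neg.1 h
            · rintro (rfl | rfl)
              · exact ⟨⟨hy0, Finset.mem_univ _⟩, rfl⟩
              · exact ⟨⟨neg_ne_zero.2 hy0, Finset.mem_univ _⟩, neg_sq y⟩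
          rw [this, Finset.card_pair]
          intro h
          exact hy0 (by
            have h' : (2 : F) * y = 0 := by linear_combination h
            exact (mul_eq_zero.1 h').resolve_left h2)
        have h1 := Finset.card_eq_sum_card_image (fun y => y ^ 2) (Finset.univ.erase (0 : F))
        rw [Finset.sum_congr rfl hfib, Finset.sum_const, smul_eq_mul,
          Finset.card_erase_of_mem (Finset.mem_univ _), Finset.card_univ] at h1
        have h3 : (Finset.univ.filter fun x : F => ∃ y, y ^ 2 = x) =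
            insert 0 ((Finset.univ.erase (0 : F)).image (fun y => y ^ 2)) := by
          ext x
          rw [Finset.mem_filter, Finset.mem_insert, Finset.mem_image]
          constructor
          · rintro ⟨-, y, rfl⟩
            by_cases hy : y = 0
            · exact Or.inl (by rw [hy]; ring)
            · exact Or.inr ⟨y, Finset.mem_erase.2 ⟨hy, Finset.mem_univ _⟩, rfl⟩
          · rintro (rfl | ⟨y, -, rfl⟩)
            · exact ⟨Finset.mem_univ _, 0, by ring⟩
            · exact ⟨Finset.mem_univ _, y, rfl⟩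
        rw [h3, Finset.card_insert_of_notMem]
        · have := Fintype.card_pos (α := F)
          omega
        · intro h
          obtain ⟨y, hy, hy2⟩ := Finset.mem_image.1 h
          exact Finset.ne_of_mem_erase hy (pow_eq_zero_iff two_ne_zero |>.1 hy2)
      have : S = Finset.univ.filter fun x : F => ∃ y, y ^ 2 = x := by
        refine Finset.filter_congr fun x _ => ?_
        simp only [IsSquare, sq, eq_comm]
      rw [this]; omega
    have h1 : ((2 * S.card : ℕ) : F) = ((Fintype.card F + 1 : ℕ) : F) := by rw [hS]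
    push_cast at h1
    rw [hsum, mul_zero, Nat.cast_card_eq_zero, zero_add] at h1
    exact zero_ne_one h1

/-- A Zassenhaus group in which the two-point stabiliser has even order at most half the degree minus
two is `PSL₂`. -/
theorem psl_of_half {G : Type u} {Ω : Type v} [Group G] [Finite G] [MulAction G Ω] [Fintype Ω]
    (hZ : Cfsg.IsZassenhausGroup G Ω) {a b : Ω} (hab : a ≠ b)
    (heven : Even (Nat.card ↥(stabilizer G a ⊓ stabilizer G b)))
    (hle : 2 * Nat.card ↥(stabilizer G a ⊓ stabilizer G b) ≤ Fintype.card Ω - 2) :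
    ∃ (F : Type) (_ : Field F) (_ : Fintype F), Fintype.card F % 4 = 1 ∧
      Fintype.card Ω = Fintype.card F + 1 ∧
      Nonempty (G ≃* Matrix.ProjectiveSpecialLinearGroup (Fin 2) F) := by
  classical
  obtain ⟨hF, h2, h3, hfix, -⟩ := hZ
  haveI := hF
  obtain ⟨hhalf, ⟨t, hta, htb⟩, hswap⟩ := ZassenhausSwap.swap_involution h2 h3 hab heven hle
  set D := stabilizer G a ⊓ stabilizer G b with hDdef
  have hDpos : 0 < Nat.card D := Nat.card_pos
  obtain ⟨m, hm⟩ := heven
  have hDmem : ∀ g : G, g ∈ D ↔ g • a = a ∧ g • b = b := fun g => Iff.rfl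
  obtain ⟨g₀, hg₀, hg₀a, hg₀b⟩ := exists_fix_pair h2 hfix hab
  obtain ⟨U, -, hUa, hUt, hUf, hUn⟩ := kernel_le h2 h3 hfix ⊤ hab (Subgroup.mem_top g₀) hg₀ hg₀a hg₀b
  -- U is regular on the other points
  let ι : U → {ω : Ω // ω ≠ a} := fun k => ⟨(k : G) • b, fun h => hab
    (MulAction.injective (k : G) (h.trans (hUa k k.2).symm)).symm⟩
  have hιinj : Function.Injective ι := fun k k' e => by
    have e' : (k : G) • b = (k' : G) • b := congrArg Subtype.val e
    have := hUf ((k' : G)⁻¹ * k) (mul_mem (inv_mem k'.2) k.2) (by rw [mul_smul, e', inv_smul_smul])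
    exact Subtype.ext (inv_mul_eq_one.1 this).symm
  have hιsurj : Function.Surjective ι := fun ω => by
    obtain ⟨k, hk, hkb⟩ := hUt ω.1 ω.2
    exact ⟨⟨k, hk⟩, Subtype.ext hkb⟩
  have hUcard : Nat.card U + 1 = Fintype.card Ω := by
    rw [Nat.card_eq_of_bijective ι ⟨hιinj, hιsurj⟩, Nat.card_eq_fintype_card, Fintype.card_subtype_compl,
      Fintype.card_subtype_eq]
    have := Fintype.card_pos_iff.2 ⟨a⟩
    omega
  -- the involution of D inverts U
  haveI : Fact (Nat.Prime 2) := ⟨Nat.prime_two⟩
  obtain ⟨z', hz'⟩ := exists_prime_orderOf_dvd_card' (G := D) 2 ⟨m, by omega⟩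
  have hz2 : (z' : G) * z' = 1 := by
    rw [← Subgroup.coe_mul, ← sq, ← hz', pow_orderOf_eq_one]; rfl
  have hz1 : (z' : G) ≠ 1 := fun e => by
    rw [show z' = 1 from Subtype.ext e, orderOf_one] at hz'
    omega
  let φ : U →* U :=
    { toFun := fun k => ⟨(z' : G) * k * (z' : G)⁻¹, hUn _ z'.2.1 z'.2.2 k k.2⟩
      map_one' := Subtype.ext (by simp)
      map_mul' := fun k k' => Subtype.ext (by simp [mul_assoc]) }
  have hφfree : MonoidHom.FixedPointFree φ := fun k hk => by
    have e : (z' : G) * k * (z' : G)⁻¹ = k := congrArg Subtype.val hk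
    have hfixk : (z' : G) • (k : G) • b = (k : G) • b := by
      have e2 : (z' : G) * k = (k : G) * z' := mul_inv_eq_iff_eq_mul.1 e
      rw [smul_smul, e2, mul_smul, z'.2.2]
    refine Subtype.ext (hUf k k.2 ?_)
    by_contra hne
    refine hz1 (h3 _ a b ((k : G) • b) hab (Ne.symm hne) ?_ z'.2.1 z'.2.2 hfixk)
    exact (ι k).2.symm
  have hφinv : Function.Involutive φ := fun k => Subtype.ext (by
    show (z' : G) * ((z' : G) * k * (z' : G)⁻¹) * (z' : G)⁻¹ = k
    rw [show (z' : G) * ((z' : G) * k * (z' : G)⁻¹) * (z' : G)⁻¹ =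
      ((z' : G) * z') * k * ((z' : G) * z')⁻¹ by group, hz2]
    simp)
  have hUcomm := hφfree.commute_all_of_involutive hφinv
  -- D is inverted by t
  have htt : t * t = 1 := (hswap t hta htb).1
  have hinv : ∀ g : D, t * (g : G) * t = (g : G)⁻¹ := fun g => by
    have h1 := (hswap (t * g) (by rw [mul_smul, g.2.1, hta]) (by rw [mul_smul, g.2.2, htb])).1
    rw [← mul_assoc] at h1
    exact eq_inv_of_mul_eq_one_left h1
  have hDcomm : ∀ g g' : D, (g : G) * g' = (g' : G) * g := fun g g' => by
    have h1 := hinv (g * g')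
    rw [Subgroup.coe_mul, mul_inv_rev, ← hinv g, ← hinv g'] at h1
    have h4 : t * ((g : G) * g') * t = t * ((g' : G) * (t * t) * g) * t := by
      rw [h1]; simp only [mul_assoc]
    rw [htt, mul_one] at h4
    exact mul_left_cancel (mul_right_cancel h4)
  obtain ⟨c₁, hc₁⟩ := (hswap t hta htb).2
  have hca : c₁ ≠ a := fun h => hab (by rw [← hta, ← h, hc₁])
  have hcb : c₁ ≠ b := fun h => hab (by rw [← htb, ← h, hc₁])
  -- the field
  letI : CommGroup U := { (inferInstance : Group U) with mul_comm := fun x y => hUcomm x y }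
  let conjU : D → U → U := fun g k => ⟨(g : G) * k * (g : G)⁻¹, hUn _ g.2.1 g.2.2 k k.2⟩
  have hconj_mul : ∀ g k k', conjU g (k * k') = conjU g k * conjU g k' := fun g k k' => Subtype.ext (by
    show (g : G) * ((k : G) * k') * (g : G)⁻¹ = (g : G) * k * (g : G)⁻¹ * ((g : G) * k' * (g : G)⁻¹)
    group)
  let ρ : D →* AddMonoid.End (Additive U) :=
    { toFun := fun g => AddMonoidHom.mk' (fun k => Additive.ofMul (conjU g (Additive.toMul k)))
        fun k k' => congrArg Additive.ofMul (hconj_mul g _ _)
      map_one' := AddMonoidHom.ext fun k => congrArg Additive.ofMul (Subtype.ext (by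
        show ((1 : D) : G) * (Additive.toMul k : U) * ((1 : D) : G)⁻¹ = (Additive.toMul k : U)
        simp))
      map_mul' := fun g g' => AddMonoidHom.ext fun k => congrArg Additive.ofMul (Subtype.ext (by
        show ((g * g' : D) : G) * (Additive.toMul k : U) * ((g * g' : D) : G)⁻¹ =
          (g : G) * ((g' : G) * (Additive.toMul k : U) * (g' : G)⁻¹) * (g : G)⁻¹
        simp [mul_assoc])) }
  have hρfree : ∀ (g : D) (k : Additive U), ρ g k = k → g = 1 ∨ k = 0 := by
    intro g k hk
    set k' : U := Additive.toMul k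
    have e : (g : G) * k' * (g : G)⁻¹ = k' := congrArg (fun x => ((Additive.toMul x : U) : G)) hk
    have hfixk : (g : G) • (k' : G) • b = (k' : G) • b := by
      rw [smul_smul, mul_inv_eq_iff_eq_mul.1 e, mul_smul, g.2.2]
    by_cases hkb : (k' : G) • b = b
    · exact Or.inr (congrArg Additive.ofMul (Subtype.ext (hUf k' k'.2 hkb) : k' = 1))
    · exact Or.inl (Subtype.ext (h3 _ a b ((k' : G) • b) hab (Ne.symm hkb) (ι k').2.symm g.2.1 g.2.2 hfixk))
  have hUone : 1 < Nat.card U := by omega
  haveI : Nontrivial (Additive U) := by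
    rw [← Finite.one_lt_card_iff_nontrivial, Nat.card_congr Additive.toMul]; exact hUone
  obtain ⟨F, iF, iFF, e₀, μ, hμ⟩ := AbelianField.exists_field ρ
    (fun g g' => by rw [← map_mul, ← map_mul, show g * g' = g' * g from Subtype.ext (hDcomm g g')])
    (fun W hW => by
      by_contra hne
      rw [not_or] at hne
      obtain ⟨⟨w, hw⟩, hw0'⟩ := AddSubgroup.ne_bot_iff_exists_ne_zero.1 hne.1
      have hw0 : w ≠ 0 := fun h => hw0' (Subtype.ext h)
      have hinjW : Function.Injective (fun g : D => (⟨ρ g w, hW g _ hw⟩ : W)) := fun g g' h => by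
        have h1 : ρ (g'⁻¹ * g) (w : Additive U) = w := by
          rw [map_mul]
          show ρ g'⁻¹ (ρ g w) = _
          rw [show ρ g (w : Additive U) = ρ g' w from congrArg Subtype.val h]
          show (ρ g'⁻¹ * ρ g') (w : Additive U) = _
          rw [← map_mul, inv_mul_cancel, map_one]; rfl
        rcases hρfree _ _ h1 with h2 | h2
        · exact (inv_mul_eq_one.1 h2).symm
        · exact absurd h2 hw0
      have h0 : ∀ g : D, (⟨ρ g w, hW g _ hw⟩ : W) ≠ 0 := fun g h => by
        have h1 : (ρ g⁻¹ * ρ g) (w : Additive U) = w := by rw [← map_mul, inv_mul_cancel, map_one]; rfl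
        have h2 : ρ g (w : Additive U) = 0 := congrArg Subtype.val h
        refine hw0 ?_
        rw [← h1]
        show ρ g⁻¹ (ρ g w) = 0
        rw [h2, map_zero]
      haveI := Fintype.ofFinite W
      haveI := Fintype.ofFinite D
      have hlt : Nat.card D + 1 ≤ Nat.card W := by
        rw [Nat.card_eq_fintype_card, Nat.card_eq_fintype_card]
        have := Finset.card_le_univ (insert (0 : W) (Finset.univ.image fun g : D => (⟨ρ g w, hW g _ hw⟩ : W)))
        rwa [Finset.card_insert_of_notMem (fun h => by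
          obtain ⟨g, -, hg⟩ := Finset.mem_image.1 h
          exact h0 g hg), Finset.card_image_of_injective _ hinjW, Finset.card_univ] at this
      obtain ⟨k, hk⟩ := AddSubgroup.card_addSubgroup_dvd_card W
      rw [Nat.card_congr Additive.toMul] at hk
      have hk2 : 2 ≤ k := by
        by_contra hk2
        interval_cases k
        · omega
        · exact hne.2 (AddSubgroup.eq_top_of_card_eq W (by rw [Nat.card_congr Additive.toMul, hk, mul_one]))
      have : Nat.card W * 2 ≤ Nat.card W * k := Nat.mul_le_mul_left _ hk2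
      omega)
  letI := iF
  letI := iFF
  haveI : Fintype (Additive U) := Fintype.ofFinite _
  have hq : Fintype.card F = Nat.card U := by
    rw [← Nat.card_eq_fintype_card, ← Nat.card_congr e₀.toEquiv, Nat.card_congr Additive.toMul]
  have hq4 : Fintype.card F % 4 = 1 := by omega
  refine ⟨F, iF, iFF, hq4, by omega, ?_⟩
  have hchar : ringChar F ≠ 2 := fun h => by
    have := FiniteField.even_card_iff_char_two.1 h
    omega
  -- coordinates
  obtain ⟨k₁, hk₁, hk₁c⟩ := hUt c₁ hca
  set s₁ := e₀ (Additive.ofMul (⟨k₁, hk₁⟩ : U)) with hs₁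
  have hs₁0 : s₁ ≠ 0 := fun h => hcb (by
    rw [hs₁, map_eq_zero_iff e₀ e₀.injective] at h
    have h1 : (⟨k₁, hk₁⟩ : U) = 1 := h
    rw [← hk₁c, show k₁ = 1 from congrArg Subtype.val h1, one_smul])
  let π : F → G := fun x => ((Additive.toMul (e₀.symm (x * s₁)) : U) : G)
  have hπU : ∀ x, π x ∈ U := fun x => (Additive.toMul (e₀.symm (x * s₁))).2
  have hπadd : ∀ x y, π (x + y) = π x * π y := fun x y => by
    show ((Additive.toMul (e₀.symm ((x + y) * s₁)) : U) : G) = _
    rw [add_mul, map_add]
    rfl
  let P : F → Ω := fun x => π x • b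
  have hπ0 : π 0 = 1 := by
    show ((Additive.toMul (e₀.symm (0 * s₁)) : U) : G) = 1
    rw [zero_mul, map_zero]; rfl
  have hP0 : P 0 = b := by show π 0 • b = b; rw [hπ0, one_smul]
  have hP1 : P 1 = c₁ := by
    show ((Additive.toMul (e₀.symm (1 * s₁)) : U) : G) • b = c₁
    rw [one_mul, hs₁, AddEquiv.symm_apply_apply]
    exact hk₁c
  have hπP : ∀ x y, π x • P y = P (x + y) := fun x y => by
    show π x • π y • b = π (x + y) • b
    rw [hπadd, mul_smul]
  have hPa : ∀ x, P x ≠ a := fun x => (ι (Additive.toMul (e₀.symm (x * s₁)))).2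
  have hPinj : Function.Injective P := fun x y h => by
    have h1 := hιinj (a₁ := Additive.toMul (e₀.symm (x * s₁))) (a₂ := Additive.toMul (e₀.symm (y * s₁)))
      (Subtype.ext h)
    exact mul_right_cancel₀ hs₁0 (e₀.symm.injective (Additive.toMul.injective h1))
  have hPsurj : ∀ ω, ω ≠ a → ∃ x, P x = ω := fun ω hω => by
    obtain ⟨k, hk, hkb⟩ := hUt ω hω
    refine ⟨e₀ (Additive.ofMul (⟨k, hk⟩ : U)) / s₁, ?_⟩
    show ((Additive.toMul (e₀.symm (_ / s₁ * s₁)) : U) : G) • b = ω
    rw [div_mul_cancel₀ _ hs₁0, AddEquiv.symm_apply_apply]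
    exact hkb
  have hDP : ∀ (g : D) y, (g : G) • P y = P (μ g * y) := fun g y => by
    show (g : G) • π y • b = π (μ g * y) • b
    have h1 := hμ g (e₀.symm (y * s₁))
    rw [AddEquiv.apply_symm_apply, ← mul_assoc] at h1
    have h2 : π (μ g * y) = (g : G) * π y * (g : G)⁻¹ := by
      show ((Additive.toMul (e₀.symm (μ g * y * s₁)) : U) : G) = _
      rw [← h1, AddEquiv.symm_apply_apply]
      rfl
    rw [h2, mul_smul, mul_smul, inv_smul_eq_iff.2 g.2.2.symm]
  -- the image of μ is the group of squares
  have hμinj : Function.Injective μ := fun g g' h => by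
    have h1 : ((g'⁻¹ * g : D) : G) • c₁ = c₁ := by
      rw [← hP1, hDP, map_mul, h, ← map_mul, inv_mul_cancel, map_one, one_mul]
    have h2 := h3 _ a b c₁ hab hcb.symm hca.symm (g'⁻¹ * g).2.1 (g'⁻¹ * g).2.2 h1
    exact (inv_mul_eq_one.1 (Subtype.ext h2)).symm
  have hμ0 : ∀ g, μ g ≠ 0 := fun g h => by
    have h1 : μ (g * g⁻¹) = 0 := by rw [map_mul, h, zero_mul]
    rw [mul_inv_cancel, map_one] at h1
    exact one_ne_zero h1
  have hD2 : Fintype.card F / 2 = Nat.card D := by omega
  have hμsq : ∀ x : F, x ≠ 0 → (IsSquare x ↔ ∃ g, μ g = x) := by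
    intro x hx
    haveI := Fintype.ofFinite D
    have hpow : ∀ g : D, μ g ^ (Fintype.card F / 2) = 1 := fun g => by
      rw [hD2, ← map_pow, pow_card_eq_one', map_one]
    rw [FiniteField.isSquare_iff hchar hx]
    constructor
    · intro h
      by_contra hno
      push Not at hno
      have hsub : insert x (Finset.univ.image μ) ⊆ (Polynomial.nthRoots (Fintype.card F / 2) (1 : F)).toFinset := by
        intro y hy
        rw [Multiset.mem_toFinset, Polynomial.mem_nthRoots (by omega)]
        rcases Finset.mem_insert.1 hy with rfl | hy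
        · exact h
        · obtain ⟨g, -, rfl⟩ := Finset.mem_image.1 hy
          exact hpow g
      have h1 := (Finset.card_le_card hsub).trans
        ((Multiset.toFinset_card_le _).trans (Polynomial.card_nthRoots _ (1 : F)))
      rw [Finset.card_insert_of_notMem (fun h' => by
          obtain ⟨g, -, hg⟩ := Finset.mem_image.1 h'
          exact hno g hg), Finset.card_image_of_injective _ hμinj, Finset.card_univ,
        ← Nat.card_eq_fintype_card] at h1
      omega
    · rintro ⟨g, rfl⟩
      exact hpow g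
  have hneg1 : IsSquare (-1 : F) := FiniteField.isSquare_neg_one_iff.2 (by omega)
  -- the action of t
  have htP0 : ∀ x, x ≠ 0 → ∃ y, y ≠ 0 ∧ t • P x = P y := by
    intro x hx
    obtain ⟨y, hy⟩ := hPsurj (t • P x) fun h => hx (hPinj (by
      rw [hP0]; exact MulAction.injective t (h.trans htb.symm)))
    refine ⟨y, fun h0 => hPa x ?_, hy.symm⟩
    rw [h0, hP0, ← hta] at hy
    exact MulAction.injective t hy.symm
  have htμ : ∀ (g : D) x y, t • P x = P y → t • P (μ g * x) = P ((μ g)⁻¹ * y) := by
    intro g x y hxy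
    have hmu : μ g⁻¹ = (μ g)⁻¹ := eq_inv_of_mul_eq_one_left (by rw [← map_mul, inv_mul_cancel, map_one])
    rw [← hDP g x, ← hmu, ← hDP g⁻¹ y, ← hxy, Subgroup.coe_inv, ← hinv g, ← mul_smul t (g : G) (P x),
      ← mul_smul (t * (g : G) * t) t (P x), mul_assoc (t * (g : G)) t t, htt, mul_one]
  have htsq : ∀ x, x ≠ 0 → IsSquare x → t • P x = P x⁻¹ := by
    intro x hx hsq
    obtain ⟨g, rfl⟩ := (hμsq x hx).1 hsq
    have h1 := htμ g 1 1 (by rw [hP1]; exact hc₁)
    rwa [mul_one, mul_one] at h1
  obtain ⟨x₀, hx₀⟩ := FiniteField.exists_nonsquare hchar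
  have hx₀0 : x₀ ≠ 0 := fun h => hx₀ (h ▸ IsSquare.zero)
  obtain ⟨y₀, hy₀0, hy₀⟩ := htP0 x₀ hx₀0
  have hy₀ns : ¬ IsSquare y₀ := fun h => by
    have h1 := htsq y₀ hy₀0 h
    rw [← hy₀, smul_smul, htt, one_smul] at h1
    exact hx₀ (hPinj h1 ▸ h.inv)
  have htns : ∀ x, x ≠ 0 → ¬ IsSquare x → t • P x = P (x₀ * y₀ / x) := by
    intro x hx hns
    have hsq : IsSquare (x / x₀) := by
      rw [FiniteField.isSquare_iff hchar (div_ne_zero hx hx₀0), div_pow]
      have h1 := (FiniteField.pow_dichotomy hchar hx).resolve_left (fun h => hns ((FiniteField.isSquare_iff hchar hx).2 h))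
      have h2 := (FiniteField.pow_dichotomy hchar hx₀0).resolve_left (fun h => hx₀ ((FiniteField.isSquare_iff hchar hx₀0).2 h))
      rw [h1, h2, div_self (neg_ne_zero.2 one_ne_zero)]
    obtain ⟨g, hg⟩ := (hμsq _ (div_ne_zero hx hx₀0)).1 hsq
    have h1 := htμ g x₀ y₀ hy₀
    rw [hg, div_mul_cancel₀ _ hx₀0] at h1
    rw [h1]
    congr 1
    field_simp
  -- the constant is one
  have hc' : x₀ * y₀ = 1 := by
    by_cases hq5 : 5 < Fintype.card F
    · obtain ⟨⟨x, hx0, hxs, hx10, hx1s⟩, x', hx'0, hx's, hx'1⟩ := consecutive hq5 hchar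
      have hmem : π 1 * t * π (-1) * t * π 1 * t ∈ D := by
        refine ⟨?_, ?_⟩
        · show (π 1 * t * π (-1) * t * π 1 * t) • a = a
          rw [mul_smul, mul_smul, mul_smul, mul_smul, mul_smul, hta, show π 1 • b = P 1 from rfl, hP1, hc₁, ← hP1,
            hπP, neg_add_cancel, hP0, htb, hUa _ (hπU 1)]
        · show (π 1 * t * π (-1) * t * π 1 * t) • b = b
          rw [mul_smul, mul_smul, mul_smul, mul_smul, mul_smul, htb, hUa _ (hπU 1), hta, ← hP0, hπP, add_zero,
            htsq _ (neg_ne_zero.2 one_ne_zero) hneg1, hπP, inv_neg, inv_one, add_neg_cancel]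
      have key : ∀ z, π 1 • t • π (-1) • t • π 1 • t • P z = P (μ ⟨_, hmem⟩ * z) := fun z => by
        rw [← hDP]
        show _ = (π 1 * t * π (-1) * t * π 1 * t) • P z
        simp only [mul_smul]
      -- square followed by a square
      have hμk : μ ⟨_, hmem⟩ = -1 := by
        have h1 := key x
        rw [htsq x hx0 hxs, hπP, htsq (1 + x⁻¹) ?_ ?_, hπP, htsq (-1 + (1 + x⁻¹)⁻¹) ?_ ?_, hπP] at h1
        · have h2 : 1 + (-1 + (1 + x⁻¹)⁻¹)⁻¹ = -x := by
            rw [show (-1 + (1 + x⁻¹)⁻¹) = -1 / (x + 1) by field_simp; ring, inv_div]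
            field_simp
            ring
          rw [h2] at h1
          exact mul_right_cancel₀ hx0 (by rw [← hPinj h1]; ring)
        · rw [show (-1 + (1 + x⁻¹)⁻¹) = -1 / (x + 1) by field_simp; ring]
          exact div_ne_zero (neg_ne_zero.2 one_ne_zero) hx10
        · rw [show (-1 + (1 + x⁻¹)⁻¹) = -1 / (x + 1) by field_simp; ring]
          exact hneg1.div hx1s
        · rw [show 1 + x⁻¹ = (x + 1) / x by field_simp]
          exact div_ne_zero hx10 hx0
        · rw [show 1 + x⁻¹ = (x + 1) / x by field_simp]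
          exact hx1s.div hxs
      -- square followed by a non-square
      have hx'10 : x' + 1 ≠ 0 := fun h => hx'1 (by rw [h]; exact IsSquare.zero)
      have e1 : 1 + x'⁻¹ = (x' + 1) / x' := by field_simp
      have hns1 : ¬ IsSquare (1 + x'⁻¹) := fun h => hx'1 (by
        rw [e1] at h
        have := h.mul hx's
        rwa [div_mul_cancel₀ _ hx'0] at this)
      have h1 := key x'
      rw [htsq x' hx'0 hx's, hπP, htns _ (by rw [e1]; exact div_ne_zero hx'10 hx'0) hns1, hπP, hμk] at h1
      have h2 := congrArg (fun ω => t • π (-1) • ω) h1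
      simp only [hπP] at h2
      rw [smul_smul (π (-1)), ← hπadd, neg_add_cancel, hπ0, one_smul, smul_smul t t, htt, one_smul] at h2
      have hne : -1 + -1 * x' = -(x' + 1) := by ring
      have hns2 : ¬ IsSquare (-(x' + 1)) := fun h => hx'1 (by
        have := h.mul hneg1
        rwa [show -(x' + 1) * -1 = x' + 1 by ring] at this)
      rw [hne, htns _ (neg_ne_zero.2 hx'10) hns2] at h2
      have h3 := hPinj h2
      field_simp at h3
      have h4 : (x₀ * y₀ - 1) * (x' + 1) = 0 := by linear_combination h3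
      exact sub_eq_zero.1 ((mul_eq_zero.1 h4).resolve_right hx'10)
    · have hq5' : Fintype.card F = 5 := by
        have := Fintype.one_lt_card (α := F)
        omega
      have hlist : ∀ z : F, z ≠ 0 → z = 1 ∨ z = -1 ∨ z = x₀ ∨ z = -x₀ := by
        have h1ne : (1 : F) ≠ -1 := fun h => Ring.two_ne_zero hchar (by linear_combination h)
        have hx1 : x₀ ≠ 1 := fun h => hx₀ (h ▸ IsSquare.one)
        have hx2 : x₀ ≠ -1 := fun h => hx₀ (h ▸ hneg1)
        have hx3 : x₀ ≠ -x₀ := fun h => hx₀0 (by
          have h' : (2 : F) * x₀ = 0 := by linear_combination h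
          exact (mul_eq_zero.1 h').resolve_left (Ring.two_ne_zero hchar))
        have hfin : ({0, 1, -1, x₀, -x₀} : Finset F) = Finset.univ := by
          refine Finset.eq_univ_of_card _ ?_
          rw [hq5', Finset.card_insert_of_notMem, Finset.card_insert_of_notMem, Finset.card_insert_of_notMem,
            Finset.card_pair hx3]
          · simp only [Finset.mem_insert, Finset.mem_singleton, not_or]
            exact ⟨Ne.symm hx2, fun h => hx1 (by linear_combination h)⟩
          · simp only [Finset.mem_insert, Finset.mem_singleton, not_or]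
            exact ⟨h1ne, Ne.symm hx1, fun h => hx2 (by linear_combination h)⟩
          · simp only [Finset.mem_insert, Finset.mem_singleton, not_or]
            exact ⟨zero_ne_one, (neg_ne_zero.2 one_ne_zero).symm, hx₀0.symm, (neg_ne_zero.2 hx₀0).symm⟩
        intro z hz
        have := hfin ▸ Finset.mem_univ z
        simp only [Finset.mem_insert, Finset.mem_singleton] at this
        tauto
      have hne0 : y₀ ≠ x₀ := fun h => by
        have h4 : t = 1 := h3 t c₁ (P (-1)) (P x₀) (by
            rw [← hP1]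
            exact fun e => Ring.two_ne_zero hchar (by linear_combination hPinj e))
          (fun e => hx₀ (hPinj e ▸ hneg1)) (by rw [← hP1]; exact fun e => hx₀ (hPinj e ▸ IsSquare.one)) hc₁
          (by rw [htsq _ (neg_ne_zero.2 one_ne_zero) hneg1, inv_neg, inv_one]) (by rw [hy₀, h])
        exact hab (by rw [← hta, h4, one_smul])
      rcases hlist y₀ hy₀0 with h | h | h | h
      · exact absurd (h ▸ IsSquare.one) hy₀ns
      · exact absurd (h ▸ hneg1) hy₀ns
      · exact absurd h hne0
      · rw [h]
        rcases hlist (x₀ * x₀) (mul_ne_zero hx₀0 hx₀0) with h' | h' | h' | h'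
        · rcases mul_self_eq_one_iff.1 h' with h'' | h''
          · exact absurd (h'' ▸ IsSquare.one) hx₀
          · exact absurd (h'' ▸ hneg1) hx₀
        · linear_combination -h'
        · exact absurd ⟨x₀, h'.symm⟩ hx₀
        · exact absurd (by simpa using (IsSquare.mul_self x₀).mul hneg1 : IsSquare (-(x₀ * x₀))) (by
            rw [h', neg_neg]; exact hx₀)
  -- apply the recognition
  have hcard : 2 * Nat.card G = (Fintype.card F + 1) * (Fintype.card F * (Fintype.card F - 1)) := by
    haveI : IsPretransitive G Ω := isPretransitive_of_is_two_pretransitive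
    have h1 : (stabilizer G a).index = Fintype.card Ω := by
      rw [MulAction.index_stabilizer_of_transitive, Nat.card_eq_fintype_card]
    have h4 : D.relIndex (stabilizer G a) = Fintype.card Ω - 1 := by
      rw [Subgroup.relIndex, show D.subgroupOf (stabilizer G a) = stabilizer (stabilizer G a) b from
        Subgroup.ext fun g => ⟨fun hg => hg.2, fun hg => ⟨g.2, hg⟩⟩, MulAction.index_stabilizer,
        show orbit (stabilizer G a) b = ({a}ᶜ : Set Ω) from ?_, Set.ncard_compl, Set.ncard_singleton,
        Nat.card_eq_fintype_card]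
      ext ω
      constructor
      · rintro ⟨g, rfl⟩ h
        exact hab (MulAction.injective (g : G) (h.trans g.2.symm)).symm
      · intro hω
        obtain ⟨g, hg1, hg2⟩ := is_two_pretransitive_iff.1 h2 hab (Ne.symm hω)
        exact ⟨⟨g, hg1⟩, hg2⟩
    have h5 := D.card_mul_index
    rw [← Subgroup.relIndex_mul_index (inf_le_left : D ≤ stabilizer G a), h4, h1] at h5
    rw [← h5, show Fintype.card Ω = Fintype.card F + 1 by omega, Nat.add_sub_cancel]
    calc 2 * (Nat.card D * (Fintype.card F * (Fintype.card F + 1)))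
        = (Fintype.card F + 1) * (Fintype.card F * (2 * Nat.card D)) := by ring
      _ = _ := by rw [show 2 * Nat.card D = Fintype.card F - 1 by omega]
  refine MobiusRecognition.psl_of_coords (by omega) a P hPa hPinj hPsurj π (fun x => hUa _ (hπU x)) hπP
    (fun g hga hgb => ?_) t (by rw [hP0, hta]) (by rw [hP0, htb]) 1 one_ne_zero hneg1 (fun x hx => ?_) hcard
  · rw [hP0] at hgb
    let g' : D := ⟨g, hga, hgb⟩
    obtain ⟨r, hr⟩ := (hμsq (μ g') (hμ0 g')).2 ⟨g', rfl⟩
    exact ⟨r, fun h => hμ0 g' (by rw [hr, h, zero_mul]), fun y => by rw [← hr]; exact hDP g' y⟩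
  · by_cases hsq : IsSquare x
    · rw [htsq x hx hsq, one_div]
    · rw [htns x hx hsq, hc']

end Cfsg.Agent.Lie.ZassenhausHalf
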