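import Mathlib

/-!
The exceptional nearfields of orders `25` and `121` admit no inversion satisfying the identity
`T (T (T x + e) - e) + e = -x`, so they do not occur in sharply triply transitive groups.
-/

set_option autoImplicit false
set_option linter.style.haveILetI false
set_option linter.unusedSectionVars false

namespace Cfsg.Agent.Lie.NearfieldInverse

local instance : Fintype (Matrix.SpecialLinearGroup (Fin 2) (ZMod 3)) :=
  inferInstanceAs (Fintype {A : Matrix (Fin 2) (Fin 2) (ZMod 3) // A.det = 1})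

theorem sl23_frame : ∀ a b : Matrix.SpecialLinearGroup (Fin 2) (ZMod 3), a * a = -1 → b * b = -1 →
    a * b * a⁻¹ = b⁻¹ → (a * b) * (a * b) = -1 ∧ a * (a * b) * a⁻¹ = (a * b)⁻¹ ∧
      ∃ c : Matrix.SpecialLinearGroup (Fin 2) (ZMod 3), c ^ 3 = 1 ∧ c * a * c⁻¹ = b ∧ c * b * c⁻¹ = a * b := by
  decide +kernel

theorem sl23_facts : ∀ a : Matrix.SpecialLinearGroup (Fin 2) (ZMod 3), a * a = -1 →
    ∃ b c : Matrix.SpecialLinearGroup (Fin 2) (ZMod 3),
      b * b = -1 ∧ a * b * a⁻¹ = b⁻¹ ∧ c ^ 3 = 1 ∧ c * a * c⁻¹ = b ∧ c * b * c⁻¹ = a * b ∧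
        ∀ x : Matrix.SpecialLinearGroup (Fin 2) (ZMod 3), x * x = -1 →
          x = a ∨ x = a⁻¹ ∨ x = b ∨ x = b⁻¹ ∨ x = a * b ∨ x = (a * b)⁻¹ := by
  decide +kernel

theorem sl23_facts' : (∃ a : Matrix.SpecialLinearGroup (Fin 2) (ZMod 3), a * a = -1) ∧
    ∀ x : Matrix.SpecialLinearGroup (Fin 2) (ZMod 3), x * x = 1 → x = 1 ∨ x = -1 := by
  decide +kernel

universe u w

variable {p : ℕ} [Fact p.Prime] {V : Type u} [AddCommGroup V] [Module (ZMod p) V]
  {D : Type w} [Group D] (ρ : D →* (V ≃ₗ[ZMod p] V)) (e : V) (τ : D →* D) (T : V → V) (z : D)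

/-- The data of a regular group with an inversion. -/
structure Setup : Prop where
  reg : ∀ v : V, v ≠ 0 → ∃! g : D, ρ g e = v
  e_ne : e ≠ 0
  invol : ∀ g, τ (τ g) = g
  fix : ∀ g, τ g = g → g = 1 ∨ g = z
  neg : ∀ v, ρ z v = -v
  conj : ∀ g, T (ρ g e) = ρ (τ g) e
  ident : ∀ x, x ≠ 0 → T x + e ≠ 0 → T (T x + e) - e ≠ 0 → T (T (T x + e) - e) + e = -x

/-- A quaternion frame: two elements of order four, permuted by an element of order three. -/
structure Frame (I J c : D) : Prop where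
  II : I * I = z
  JJ : J * J = z
  IJ : I * J * I⁻¹ = J⁻¹
  c3 : c ^ 3 = 1
  cI : c * I * c⁻¹ = J
  cJ : c * J * c⁻¹ = I * J
  tI : τ I = I⁻¹
  tJ : τ J = I * J

variable {ρ} {e} {τ} {T} {z}

section
variable (h : Setup ρ e τ T z)
include h

theorem inj {g g' : D} (hg : ρ g e = ρ g' e) : g = g' := by
  have hne : ρ g' e ≠ 0 := fun h0 => h.e_ne ((ρ g').map_eq_zero_iff.1 h0)
  obtain ⟨x, -, hx⟩ := h.reg _ hne
  exact (hx g hg).trans (hx g' rfl).symm

theorem T_e : T e = e := by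
  have h1 := h.conj 1
  simpa using h1

theorem tau_z : τ z = z := by
  have hzz : z * z = 1 := inj h (by
    rw [map_mul, LinearEquiv.mul_apply, h.neg, h.neg, neg_neg, map_one]; rfl)
  have h2 : τ z * τ z = 1 := by rw [← map_mul, hzz, map_one]
  have h3 : ρ (τ z) (ρ (τ z) e) = e := by
    rw [← LinearEquiv.mul_apply, ← map_mul, h2, map_one]; rfl
  by_cases h4 : ρ (τ z) e + e = 0
  · exact inj h (by rw [h.neg]; exact add_eq_zero_iff_eq_neg.1 h4)
  · exfalso
    obtain ⟨g, hg, -⟩ := h.reg _ h4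
    have h5 : ρ (τ z * g) e = ρ g e := by
      rw [map_mul, LinearEquiv.mul_apply, hg, map_add, h3, add_comm]
    have h6 : τ z = 1 := mul_eq_right.1 (inj h h5)
    have h7 : z = 1 := by rw [← h.invol z, h6, map_one]
    have h8 : e = -e := by
      have := h.neg e
      rwa [h7, map_one] at this
    exact h4 (by rw [h6, map_one]; show e + e = 0; nth_rewrite 2 [h8]; exact add_neg_cancel e)

theorem T_neg {x : V} (hx : x ≠ 0) : T (-x) = -T x := by
  obtain ⟨g, rfl, -⟩ := h.reg x hx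
  rw [h.conj g, ← h.neg (ρ g e), ← LinearEquiv.mul_apply, ← map_mul, h.conj, map_mul, tau_z h, map_mul,
    LinearEquiv.mul_apply, h.neg]

theorem T_T {x : V} (hx : x ≠ 0) : T (T x) = x := by
  obtain ⟨g, rfl, -⟩ := h.reg x hx
  rw [h.conj g, h.conj, h.invol]

theorem T_ne {x : V} (hx : x ≠ 0) : T x ≠ 0 := by
  obtain ⟨g, rfl, -⟩ := h.reg x hx
  rw [h.conj g]
  exact fun h0 => h.e_ne ((ρ (τ g)).map_eq_zero_iff.1 h0)

theorem T_two (hp : 5 ≤ p) : T ((2 : ZMod p) • e) = (2⁻¹ : ZMod p) • e := by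
  have h2 : (2 : ZMod p) ≠ 0 := by
    intro h0
    rw [show (2 : ZMod p) = ((2 : ℕ) : ZMod p) by norm_num, ZMod.natCast_eq_zero_iff] at h0
    have := Nat.le_of_dvd (by norm_num) h0
    omega
  have h3 : (3 : ZMod p) ≠ 0 := by
    intro h0
    rw [show (3 : ZMod p) = ((3 : ℕ) : ZMod p) by norm_num, ZMod.natCast_eq_zero_iff] at h0
    have := Nat.le_of_dvd (by norm_num) h0
    omega
  have hne2 : (2 : ZMod p) • e ≠ 0 := smul_ne_zero h2 h.e_ne
  set y := T ((2 : ZMod p) • e) with hy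
  have he2 : T e + e = (2 : ZMod p) • e := by rw [T_e h, two_smul]
  have hye : y - e ≠ 0 := by
    intro h0
    have h1 : (2 : ZMod p) • e = e := by
      rw [← T_T h hne2, ← hy, sub_eq_zero.1 h0, T_e h]
    rw [two_smul, add_eq_left] at h1
    exact h.e_ne h1
  have h1 := h.ident e h.e_ne (by rw [he2]; exact hne2) (by rw [he2]; exact hye)
  rw [he2, ← hy] at h1
  have h4 : T (y - e) = -((2 : ZMod p) • e) := by
    rw [eq_neg_iff_add_eq_zero, two_smul, ← add_assoc, h1, neg_add_cancel]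
  have h5 : y - e = -y := by rw [← T_T h hye, h4, T_neg h hne2]
  have h6 : (2 : ZMod p) • y = e := by
    have h7 : y + y - e = 0 := by rw [add_sub_assoc, h5, add_neg_cancel]
    rw [two_smul]
    exact sub_eq_zero.1 h7
  rw [← h6, smul_smul, inv_mul_cancel₀ h2, one_smul]

end

theorem five [Finite V] (h : Setup ρ e τ T z) {I J c : D} (hf : Frame τ z I J c) (hp : p = 5)
    (hV : Nat.card V = 25) (hIe : ρ I e = (2 : ZMod p) • e) : False := by
  subst hp
  have hinv : ∀ g : D, g * g = z → ∀ v, ρ g⁻¹ v = -ρ g v := by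
    intro g hg v
    have h1 : ρ g (ρ g v) = -v := by rw [← LinearEquiv.mul_apply, ← map_mul, hg, h.neg]
    apply (ρ g).injective
    rw [map_neg, h1, neg_neg, ← LinearEquiv.mul_apply, ← map_mul, mul_inv_cancel, map_one]
    rfl
  set f := ρ J e with hf'
  have hJJ : ∀ v, ρ J (ρ J v) = -v := fun v => by rw [← LinearEquiv.mul_apply, ← map_mul, hf.JJ, h.neg]
  have hIJ : ∀ v, ρ I (ρ J v) = -ρ J (ρ I v) := fun v => by
    have h1 : I * J = J⁻¹ * I := mul_inv_eq_iff_eq_mul.1 hf.IJ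
    rw [← LinearEquiv.mul_apply, ← map_mul, h1, map_mul, LinearEquiv.mul_apply, hinv J hf.JJ]
  have hIf : ρ I f = (3 : ZMod 5) • f := by
    rw [hf', hIJ, hIe, map_smul, ← neg_smul]
    rfl
  have hco : ∀ x y : ZMod 5, x • e + y • f = 0 → x = 0 ∧ y = 0 := by
    intro x y hxy
    have h1 := congrArg (ρ I) hxy
    rw [map_add, map_smul, map_smul, hIe, hIf, map_zero, smul_smul, smul_smul] at h1
    have h2 : ((x * 2 - 3 * x) : ZMod 5) • e = 0 := by
      rw [sub_smul, sub_eq_zero]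
      calc (x * 2) • e = (x * 2) • e + (y * 3) • f - (y * 3) • f := by rw [add_sub_cancel_right]
        _ = (3 : ZMod 5) • (x • e + y • f) - (y * 3) • f := by rw [h1, hxy, smul_zero]
        _ = _ := by rw [smul_add, smul_smul, smul_smul, mul_comm y 3, add_sub_cancel_right]
    have hx : x = 0 := by
      rcases smul_eq_zero.1 h2 with h3 | h3
      · clear * - h3; decide +revert
      · exact absurd h3 h.e_ne
    refine ⟨hx, ?_⟩
    rw [hx, zero_smul, zero_add] at hxy
    rcases smul_eq_zero.1 hxy with h3 | h3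
    · exact h3
    · exact absurd ((ρ J).map_eq_zero_iff.1 h3) h.e_ne
  have hco' : ∀ x y x' y' : ZMod 5, x • e + y • f = x' • e + y' • f → x = x' ∧ y = y' := by
    intro x y x' y' hxy
    have := hco (x - x') (y - y') (by rw [sub_smul, sub_smul, sub_add_sub_comm, hxy, sub_self])
    exact ⟨sub_eq_zero.1 this.1, sub_eq_zero.1 this.2⟩
  have hspan : ∀ w : V, ∃ x y : ZMod 5, w = x • e + y • f := by
    intro w
    have hinj : Function.Injective fun q : ZMod 5 × ZMod 5 => q.1 • e + q.2 • f := fun q q' hq =>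
      Prod.ext (hco' _ _ _ _ hq).1 (hco' _ _ _ _ hq).2
    haveI := Fintype.ofFinite V
    obtain ⟨q, hq⟩ := ((Fintype.bijective_iff_injective_and_card _).2 ⟨hinj, by
      rw [← Nat.card_eq_fintype_card (α := V), hV]; rfl⟩).2 w
    exact ⟨q.1, q.2, hq.symm⟩
  have hIv : ∀ x y : ZMod 5, ρ I (x • e + y • f) = (2 * x) • e + (3 * y) • f := fun x y => by
    rw [map_add, map_smul, map_smul, hIe, hIf, smul_smul, smul_smul, mul_comm x, mul_comm y]
  have hJv : ∀ x y : ZMod 5, ρ J (x • e + y • f) = (-y) • e + x • f := fun x y => by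
    rw [map_add, map_smul, map_smul, hf', hJJ, smul_neg, neg_smul, add_comm]
  have hKv : ∀ x y : ZMod 5, ρ (I * J) (x • e + y • f) = (2 * -y) • e + (3 * x) • f := fun x y => by
    rw [map_mul, LinearEquiv.mul_apply, hJv, hIv]
  -- the element of order three
  obtain ⟨γ, δ, hce⟩ := hspan (ρ c e)
  have e1 : c * I = J * c := mul_inv_eq_iff_eq_mul.1 hf.cI
  have e2 : c * J = I * J * c := mul_inv_eq_iff_eq_mul.1 hf.cJ
  have hcf : ρ c f = (2 * -δ) • e + (3 * γ) • f := by
    rw [hf', ← LinearEquiv.mul_apply, ← map_mul, e2, map_mul, LinearEquiv.mul_apply, hce, hKv]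
  have hcv : ∀ x y : ZMod 5, ρ c (x • e + y • f) =
      (x * γ + y * (2 * -δ)) • e + (x * δ + y * (3 * γ)) • f := fun x y => by
    rw [map_add, map_smul, map_smul, hce, hcf]
    module
  have hJc : ρ J (ρ c e) = (2 : ZMod 5) • ρ c e := by
    rw [← LinearEquiv.mul_apply, ← map_mul, ← e1, map_mul, LinearEquiv.mul_apply, hIe, map_smul]
  rw [hce, hJv, smul_add, smul_smul, smul_smul] at hJc
  have hc3 : ρ c (ρ c (ρ c e)) = (1 : ZMod 5) • e + (0 : ZMod 5) • f := by
    rw [← LinearEquiv.mul_apply, ← LinearEquiv.mul_apply, ← map_mul, ← map_mul, ← pow_three', hf.c3, map_one,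
      one_smul, zero_smul, add_zero]
    rfl
  rw [hce, hcv, hcv] at hc3
  obtain ⟨rfl, rfl⟩ : γ = 1 ∧ δ = 3 := by
    obtain ⟨k1, k2⟩ := hco' _ _ _ _ hJc
    obtain ⟨k3, k4⟩ := hco' _ _ _ _ hc3
    revert k1 k2 k3 k4
    clear * -
    decide +revert
  -- its image
  obtain ⟨γ', δ', hce'⟩ := hspan (ρ (τ c) e)
  have tK : τ (I * J) = J := by rw [map_mul, hf.tI, hf.tJ, inv_mul_cancel_left]
  have e3 : τ c * I⁻¹ = I * J * τ c := by
    have := congrArg τ e1
    rwa [map_mul, map_mul, hf.tI, hf.tJ] at this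
  have e4 : τ c * (I * J) = J * τ c := by
    have := congrArg τ e2
    rwa [map_mul τ c, map_mul τ (I * J), hf.tJ, tK] at this
  have hKe : ρ (I * J) e = (3 : ZMod 5) • f := by
    rw [map_mul, LinearEquiv.mul_apply, ← hf', hIf]
  have hcf' : ρ (τ c) f = (2 * -δ') • e + (2 * γ') • f := by
    have h1 : f = (2 : ZMod 5) • ρ (I * J) e := by
      rw [hKe, smul_smul, show (2 : ZMod 5) * 3 = 1 from rfl, one_smul]
    rw [h1, map_smul, ← LinearEquiv.mul_apply, ← map_mul, e4, map_mul, LinearEquiv.mul_apply, hce', hJv,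
      smul_add, smul_smul, smul_smul, ← h1]
  have hcv' : ∀ x y : ZMod 5, ρ (τ c) (x • e + y • f) =
      (x * γ' + y * (2 * -δ')) • e + (x * δ' + y * (2 * γ')) • f := fun x y => by
    rw [map_add, map_smul, map_smul, hce', hcf']
    module
  have hKc : ρ (I * J) (ρ (τ c) e) = (3 : ZMod 5) • ρ (τ c) e := by
    rw [← LinearEquiv.mul_apply, ← map_mul, ← e3, map_mul, LinearEquiv.mul_apply,
      hinv I hf.II, hIe, map_neg, map_smul, ← neg_smul]
    rfl
  rw [hce', hKv, smul_add, smul_smul, smul_smul] at hKc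
  have hc3' : ρ (τ c) (ρ (τ c) (ρ (τ c) e)) = (1 : ZMod 5) • e + (0 : ZMod 5) • f := by
    rw [← LinearEquiv.mul_apply, ← LinearEquiv.mul_apply, ← map_mul, ← map_mul, ← pow_three', ← map_pow, hf.c3,
      map_one, map_one, one_smul, zero_smul, add_zero]
    rfl
  rw [hce', hcv', hcv'] at hc3'
  obtain ⟨rfl, rfl⟩ : γ' = 3 ∧ δ' = 3 := by
    obtain ⟨k1, k2⟩ := hco' _ _ _ _ hKc
    obtain ⟨k3, k4⟩ := hco' _ _ _ _ hc3'
    revert k1 k2 k3 k4
    clear * -
    decide +revert
  -- evaluate the identity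
  have hTf : T f = (3 : ZMod 5) • f := by rw [hf', h.conj, hf.tJ, hKe]
  have hA : T f + e = (1 : ZMod 5) • e + (3 : ZMod 5) • f := by rw [hTf, one_smul, add_comm]
  have hTA : T (T f + e) = (3 : ZMod 5) • e + (3 : ZMod 5) • f := by
    rw [hA, ← hce, h.conj, hce']
  have hB : T (T f + e) - e = (2 : ZMod 5) • e + (3 : ZMod 5) • f := by
    rw [hTA, show (3 : ZMod 5) • e = ((2 : ZMod 5) + 1) • e from rfl, add_smul, one_smul]
    abel
  have hne : ∀ x y : ZMod 5, (x, y) ≠ (0, 0) → x • e + y • f ≠ 0 := fun x y hxy h0 => by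
    obtain ⟨rfl, rfl⟩ := hco _ _ h0
    exact hxy rfl
  have hid := h.ident f ((ρ J).map_eq_zero_iff.not.2 h.e_ne) (hA ▸ hne _ _ (by clear * -; decide +revert))
    (hB ▸ hne _ _ (by clear * -; decide +revert))
  rw [hB] at hid
  have hT23 : T ((2 : ZMod 5) • e + (3 : ZMod 5) • f) = (4 : ZMod 5) • e + (4 : ZMod 5) • f := by
    rw [eq_sub_of_add_eq hid, show (4 : ZMod 5) = -1 from rfl, neg_one_smul, neg_one_smul]
    abel
  have hT44 : T ((4 : ZMod 5) • e + (4 : ZMod 5) • f) = (2 : ZMod 5) • e + (1 : ZMod 5) • f := by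
    have h1 : ρ (τ c * I⁻¹) e = (4 : ZMod 5) • e + (4 : ZMod 5) • f := by
      rw [map_mul, LinearEquiv.mul_apply, hinv I hf.II, hIe, map_neg, map_smul, hce', smul_add, smul_smul,
        smul_smul, neg_add, ← neg_smul, ← neg_smul]
      rfl
    rw [← h1, h.conj, map_mul, map_inv, hf.tI, inv_inv, h.invol, map_mul, LinearEquiv.mul_apply, hIe,
      map_smul, hce, smul_add, smul_smul, smul_smul]
    rfl
  rw [← hT23, T_T h (hne _ _ (by clear * -; decide +revert))] at hT44
  exact absurd (hco' _ _ _ _ hT44).2 (by clear * -; decide +revert)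

theorem eleven [Finite V] (h : Setup ρ e τ T z) {I J c : D} (hf : Frame τ z I J c) (hp : p = 11)
    (hV : Nat.card V = 121) {g₅ : D} (hg5 : g₅ ^ 5 = 1) (hg1 : g₅ ≠ 1) (hg5c : ∀ g, g₅ * g = g * g₅) :
    False := by
  subst hp
  have hinv : ∀ g : D, g * g = z → ∀ v, ρ g⁻¹ v = -ρ g v := by
    intro g hg v
    have h1 : ρ g (ρ g v) = -v := by rw [← LinearEquiv.mul_apply, ← map_mul, hg, h.neg]
    apply (ρ g).injective
    rw [map_neg, h1, neg_neg, ← LinearEquiv.mul_apply, ← map_mul, mul_inv_cancel, map_one]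
    rfl
  have hII : ∀ v, ρ I (ρ I v) = -v := fun v => by rw [← LinearEquiv.mul_apply, ← map_mul, hf.II, h.neg]
  have hJJ : ∀ v, ρ J (ρ J v) = -v := fun v => by rw [← LinearEquiv.mul_apply, ← map_mul, hf.JJ, h.neg]
  have hIJ : ∀ v, ρ I (ρ J v) = -ρ J (ρ I v) := fun v => by
    have h1 : I * J = J⁻¹ * I := mul_inv_eq_iff_eq_mul.1 hf.IJ
    rw [← LinearEquiv.mul_apply, ← map_mul, h1, map_mul, LinearEquiv.mul_apply, hinv J hf.JJ]
  have h2 : (2 : ZMod 11) ≠ 0 := by clear * -; decide +revert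
  have hpow : ∀ l : ZMod 11, l ≠ 0 → ∃ k : ℕ, l = 2 ^ k := by
    have h' : ∀ l : ZMod 11, l ≠ 0 → ∃ k : Fin 11, l = 2 ^ (k : ℕ) := by clear * -; decide +revert
    exact fun l hl => let ⟨k, hk⟩ := h' l hl; ⟨k, hk⟩
  set f := ρ I e with hf'
  have hIv : ∀ x y : ZMod 11, ρ I (x • e + y • f) = (-y) • e + x • f := fun x y => by
    rw [map_add, map_smul, map_smul, hf', hII, smul_neg, neg_smul, add_comm]
  have hco : ∀ x y : ZMod 11, x • e + y • f = 0 → x = 0 ∧ y = 0 := by
    intro x y hxy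
    have h1 := congrArg (ρ I) hxy
    rw [hIv, map_zero] at h1
    have hlc : x • (x • e + y • f) - y • ((-y) • e + x • f) = (x * x + y * y) • e := by module
    rw [hxy, h1, smul_zero, smul_zero, sub_zero] at hlc
    rcases smul_eq_zero.1 hlc.symm with h3 | h3
    · clear * - h3; decide +revert
    · exact absurd h3 h.e_ne
  have hco' : ∀ x y x' y' : ZMod 11, x • e + y • f = x' • e + y' • f → x = x' ∧ y = y' := by
    intro x y x' y' hxy
    have := hco (x - x') (y - y') (by rw [sub_smul, sub_smul, sub_add_sub_comm, hxy, sub_self])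
    exact ⟨sub_eq_zero.1 this.1, sub_eq_zero.1 this.2⟩
  have hne : ∀ x y : ZMod 11, (x, y) ≠ (0, 0) → x • e + y • f ≠ 0 := fun x y hxy h0 => by
    obtain ⟨rfl, rfl⟩ := hco _ _ h0
    exact hxy rfl
  have hspan : ∀ w : V, ∃ x y : ZMod 11, w = x • e + y • f := by
    intro w
    have hinj : Function.Injective fun q : ZMod 11 × ZMod 11 => q.1 • e + q.2 • f := fun q q' hq =>
      Prod.ext (hco' _ _ _ _ hq).1 (hco' _ _ _ _ hq).2
    haveI := Fintype.ofFinite V
    obtain ⟨q, hq⟩ := ((Fintype.bijective_iff_injective_and_card _).2 ⟨hinj, by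
      rw [← Nat.card_eq_fintype_card (α := V), hV]; rfl⟩).2 w
    exact ⟨q.1, q.2, hq.symm⟩
  obtain ⟨α, β, hJe⟩ := hspan (ρ J e)
  have hJf : ρ J f = β • e + (-α) • f := by
    rw [hf', ← neg_neg (ρ J (ρ I e)), ← hIJ, hJe, hIv]
    module
  have hJv : ∀ x y : ZMod 11, ρ J (x • e + y • f) = (x * α + y * β) • e + (x * β + y * (-α)) • f := fun x y => by
    rw [map_add, map_smul, map_smul, hJe, hJf]
    module
  have hKv : ∀ x y : ZMod 11, ρ (I * J) (x • e + y • f) =
      (-(x * β + y * (-α))) • e + (x * α + y * β) • f := fun x y => by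
    rw [map_mul, LinearEquiv.mul_apply, hJv, hIv]
  have hKe : ρ (I * J) e = (-β) • e + α • f := by
    rw [map_mul, LinearEquiv.mul_apply, hJe, hIv]
  have hsq : α * α + β * β = -1 := by
    have h1 : ρ J (ρ J e) = (-1 : ZMod 11) • e + (0 : ZMod 11) • f := by
      rw [hJJ, neg_one_smul, zero_smul, add_zero]
    rw [hJe, hJv] at h1
    exact (hco' _ _ _ _ h1).1
  have hα : α ≠ 0 := by clear * - hsq; decide +revert
  have hβ : β ≠ 0 := by clear * - hsq; decide +revert
  -- all scalars occur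
  have hs : ∀ l : ZMod 11, l ≠ 0 → ∃ g : D, ∀ v, ρ g v = l • v := by
    have hcomm : ∀ (g : D) v, ρ g₅ (ρ g v) = ρ g (ρ g₅ v) := fun g v => by
      rw [← LinearEquiv.mul_apply, ← map_mul, hg5c, map_mul, LinearEquiv.mul_apply]
    obtain ⟨x, y, hxy⟩ := hspan (ρ g₅ e)
    have hgf : ρ g₅ f = (-y) • e + x • f := by rw [hf', hcomm, hxy, hIv]
    have h1 := hcomm J e
    rw [hxy, hJv, hJe, map_add, map_smul, map_smul, hxy, hgf] at h1
    have h2 : (α * x - β * y) • e + (α * y + β * x) • f = (x * α + y * β) • e + (x * β + y * -α) • f := by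
      rw [← h1]; module
    obtain ⟨k1, -⟩ := hco' _ _ _ _ h2
    have hy : y = 0 := by clear * - k1 hβ; decide +revert
    rw [hy, zero_smul, add_zero] at hxy
    rw [hy, neg_zero, zero_smul, zero_add] at hgf
    have hx : ∀ v, ρ g₅ v = x • v := fun v => by
      obtain ⟨a, b, rfl⟩ := hspan v
      rw [map_add, map_smul, map_smul, hxy, hgf]
      module
    have hpows : ∀ k v, ρ (g₅ ^ k) v = x ^ k • v := fun k => by
      induction k with
      | zero => intro v; rw [pow_zero, map_one, pow_zero, one_smul]; rfl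
      | succ k ih => intro v; rw [pow_succ', map_mul, LinearEquiv.mul_apply, ih, hx, smul_smul, ← pow_succ']
    have hx5 : x ^ 5 = 1 := by
      refine smul_left_injective (ZMod 11) h.e_ne ?_
      show x ^ 5 • e = (1 : ZMod 11) • e
      rw [← hpows, hg5, map_one, one_smul]; rfl
    have hx1 : x ≠ 1 := fun e1 => hg1 (inj h (by rw [hx, e1, one_smul, map_one]; rfl))
    intro l hl
    obtain ⟨k, hk⟩ : ∃ k : Fin 5, l = x ^ (k : ℕ) ∨ l = -x ^ (k : ℕ) := by
      clear * - hl hx5 hx1; decide +revert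
    rcases hk with rfl | rfl
    · exact ⟨g₅ ^ (k : ℕ), hpows k⟩
    · exact ⟨z * g₅ ^ (k : ℕ), fun v => by rw [map_mul, LinearEquiv.mul_apply, hpows, h.neg, neg_smul]⟩
  -- scalar elements are inverted
  have hscal : ∀ l : ZMod 11, l ≠ 0 → ∀ x : V, x ≠ 0 → T (l • x) = l⁻¹ • T x := by
    obtain ⟨g₂, hg₂⟩ := hs 2 h2
    obtain ⟨g₆, hg₆⟩ := hs 2⁻¹ (inv_ne_zero h2)
    have hτ : τ g₂ = g₆ := inj h (by
      rw [← h.conj, hg₂, hg₆, T_two h (by norm_num)])
    have hone : ∀ x : V, x ≠ 0 → T ((2 : ZMod 11) • x) = (2⁻¹ : ZMod 11) • T x := fun x hx => by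
      obtain ⟨g, rfl, -⟩ := h.reg x hx
      rw [h.conj g, ← hg₂, ← LinearEquiv.mul_apply, ← map_mul, h.conj, map_mul, hτ, map_mul, LinearEquiv.mul_apply,
        hg₆]
    intro l hl
    obtain ⟨k, rfl⟩ := hpow l hl
    clear hl
    induction k with
    | zero => intro x _; rw [pow_zero, inv_one, one_smul, one_smul]
    | succ k ih =>
      intro x hx
      rw [pow_succ', mul_inv, mul_smul, mul_smul, hone _ (smul_ne_zero (pow_ne_zero _ h2) hx), ih x hx]
  have tK : τ (I * J) = J := by rw [map_mul, hf.tI, hf.tJ, inv_mul_cancel_left]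
  have hTJ : ∀ l : ZMod 11, l ≠ 0 → T (l • (α • e + β • f)) = l⁻¹ • ((-β) • e + α • f) := fun l hl => by
    rw [← hJe, hscal l hl _ ((ρ J).map_eq_zero_iff.not.2 h.e_ne), h.conj, hf.tJ, hKe]
  have hTK : ∀ l : ZMod 11, l ≠ 0 → T (l • ((-β) • e + α • f)) = l⁻¹ • (α • e + β • f) := fun l hl => by
    rw [← hKe, hscal l hl _ ((ρ (I * J)).map_eq_zero_iff.not.2 h.e_ne), h.conj, tK, hJe]
  have hTf : ∀ l : ZMod 11, l ≠ 0 → T (l • f) = (-l⁻¹) • f := fun l hl => by
    rw [hf', hscal l hl _ ((ρ I).map_eq_zero_iff.not.2 h.e_ne), h.conj, hf.tI, hinv I hf.II, smul_neg, neg_smul]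
  by_cases hgen : 2 * (α * β) + 1 = 0 ∧ α * α = β * β
  swap
  · -- the generic case
    have hβJ : β • (α • e + β • f) ≠ 0 := smul_ne_zero hβ (hne _ _ (fun h0 => hα (congrArg Prod.fst h0)))
    have hA : T (β • (α • e + β • f)) + e = (α / β) • f := by
      rw [hTJ β hβ, smul_add, smul_smul, smul_smul, mul_neg, inv_mul_cancel₀ hβ, div_eq_inv_mul, neg_one_smul]
      abel
    have hB : T (T (β • (α • e + β • f)) + e) - e = (-α⁻¹) • (α • e + β • f) := by
      rw [hA, hTf _ (div_ne_zero hα hβ), smul_add, smul_smul, smul_smul, inv_div, neg_mul, neg_mul,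
        inv_mul_cancel₀ hα, div_eq_inv_mul, neg_one_smul]
      abel
    have hid := h.ident _ hβJ
      (by rw [hA]; exact smul_ne_zero (div_ne_zero hα hβ) ((ρ I).map_eq_zero_iff.not.2 h.e_ne))
      (by rw [hB]; exact smul_ne_zero (neg_ne_zero.2 (inv_ne_zero hα)) (hne _ _ (fun h0 => hα (congrArg Prod.fst h0))))
    rw [hB, hTJ _ (neg_ne_zero.2 (inv_ne_zero hα)), inv_neg, inv_inv] at hid
    have h3 : (α * β + 1) • e + (-(α * α)) • f = (-(β * α)) • e + (-(β * β)) • f := by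
      refine Eq.trans ?_ (hid.trans ?_) <;> module
    obtain ⟨k1, k2⟩ := hco' _ _ _ _ h3
    exact hgen ⟨by linear_combination k1, by linear_combination -k2⟩
  -- the special case, which needs the element of order three
  obtain ⟨g1, g2⟩ := hgen
  obtain ⟨γ, δ, hce⟩ := hspan (ρ c e)
  obtain ⟨γ', δ', hce'⟩ := hspan (ρ (τ c) e)
  have e1 : c * I = J * c := mul_inv_eq_iff_eq_mul.1 hf.cI
  have e2 : c * J = I * J * c := mul_inv_eq_iff_eq_mul.1 hf.cJ
  have e3 : τ c * I⁻¹ = I * J * τ c := by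
    have := congrArg τ e1
    rwa [map_mul, map_mul, hf.tI, hf.tJ] at this
  have e4 : τ c * (I * J) = J * τ c := by
    have := congrArg τ e2
    rwa [map_mul τ c, map_mul τ (I * J), hf.tJ, tK] at this
  have hcf : ρ c f = (γ * α + δ * β) • e + (γ * β + δ * (-α)) • f := by
    rw [hf', ← LinearEquiv.mul_apply, ← map_mul, e1, map_mul, LinearEquiv.mul_apply, hce, hJv]
  have hcv : ∀ x y : ZMod 11, ρ c (x • e + y • f) =
      (x * γ + y * (γ * α + δ * β)) • e + (x * δ + y * (γ * β + δ * (-α))) • f := fun x y => by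
    rw [map_add, map_smul, map_smul, hce, hcf]
    module
  have hcJ : ρ c (ρ J e) = ρ (I * J) (ρ c e) := by
    rw [← LinearEquiv.mul_apply, ← map_mul, e2, map_mul, LinearEquiv.mul_apply]
  rw [hJe, hce, hcv, hKv] at hcJ
  have hc3 : ρ c (ρ c (ρ c e)) = (1 : ZMod 11) • e + (0 : ZMod 11) • f := by
    rw [← LinearEquiv.mul_apply, ← LinearEquiv.mul_apply, ← map_mul, ← map_mul, ← pow_three', hf.c3, map_one,
      one_smul, zero_smul, add_zero]
    rfl
  rw [hce, hcv, hcv] at hc3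
  have hcf' : ρ (τ c) f = (-(-(γ' * β + δ' * (-α)))) • e + (-(γ' * α + δ' * β)) • f := by
    have h1 : ρ (τ c) (ρ I⁻¹ e) = ρ (I * J) (ρ (τ c) e) := by
      rw [← LinearEquiv.mul_apply, ← map_mul, e3, map_mul, LinearEquiv.mul_apply]
    rw [hinv I hf.II, map_neg, hce', hKv, ← hf', neg_eq_iff_eq_neg] at h1
    rw [h1]
    module
  have hcv' : ∀ x y : ZMod 11, ρ (τ c) (x • e + y • f) =
      (x * γ' + y * (γ' * β + δ' * (-α))) • e + (x * δ' + y * (-(γ' * α + δ' * β))) • f := fun x y => by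
    rw [map_add, map_smul, map_smul, hce', hcf']
    module
  have hcK : ρ (τ c) (ρ (I * J) e) = ρ J (ρ (τ c) e) := by
    rw [← LinearEquiv.mul_apply, ← map_mul, e4, map_mul, LinearEquiv.mul_apply]
  rw [hKe, hce', hcv', hJv] at hcK
  have hc3' : ρ (τ c) (ρ (τ c) (ρ (τ c) e)) = (1 : ZMod 11) • e + (0 : ZMod 11) • f := by
    rw [← LinearEquiv.mul_apply, ← LinearEquiv.mul_apply, ← map_mul, ← map_mul, ← pow_three', ← map_pow, hf.c3,
      map_one, map_one, one_smul, zero_smul, add_zero]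
    rfl
  rw [hce', hcv', hcv'] at hc3'
  obtain ⟨k1, k2⟩ := hco' _ _ _ _ hcJ
  obtain ⟨k3, k4⟩ := hco' _ _ _ _ hc3
  obtain ⟨k5, k6⟩ := hco' _ _ _ _ hcK
  obtain ⟨k7, k8⟩ := hco' _ _ _ _ hc3'
  have hαβ : α = β ∧ (α = 4 ∨ α = 7) := by clear * - g1 g2; decide +revert
  obtain ⟨rfl, h47⟩ := hαβ
  rcases h47 with rfl | rfl
  · obtain ⟨rfl, rfl⟩ : γ = 5 ∧ δ = 1 := by clear * - k1 k2 k3 k4; decide +revert
    obtain ⟨rfl, rfl⟩ : γ' = 5 ∧ δ' = 2 := by clear * - k5 k6 k7 k8; decide +revert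
    have hx : (5 : ZMod 11) • ((-4 : ZMod 11) • e + (4 : ZMod 11) • f) ≠ 0 :=
      smul_ne_zero (by clear * -; decide +revert) (hne _ _ (by clear * -; decide +revert))
    have h5 : (5 : ZMod 11) ≠ 0 := by clear * -; decide +revert
    have hA : T ((5 : ZMod 11) • ((-4 : ZMod 11) • e + (4 : ZMod 11) • f)) + e =
        (3 : ZMod 11) • ((5 : ZMod 11) • e + (1 : ZMod 11) • f) := by
      rw [hTK 5 h5, show (5 : ZMod 11)⁻¹ = 9 from inv_eq_of_mul_eq_one_right rfl, smul_add, smul_add, smul_smul,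
        smul_smul, smul_smul, smul_smul]
      show (3 : ZMod 11) • e + (3 : ZMod 11) • f + e = (4 : ZMod 11) • e + (3 : ZMod 11) • f
      rw [show (4 : ZMod 11) • e = ((3 : ZMod 11) + 1) • e from rfl, add_smul, one_smul]
      abel
    have h3 : (3 : ZMod 11) ≠ 0 := by clear * -; decide +revert
    have hTA : T ((3 : ZMod 11) • ((5 : ZMod 11) • e + (1 : ZMod 11) • f)) - e =
        (2 : ZMod 11) • ((4 : ZMod 11) • e + (4 : ZMod 11) • f) := by
      rw [← hce, hscal 3 h3 _ ((ρ c).map_eq_zero_iff.not.2 h.e_ne), h.conj, hce',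
        show (3 : ZMod 11)⁻¹ = 4 from inv_eq_of_mul_eq_one_right rfl, smul_add, smul_add, smul_smul,
        smul_smul, smul_smul, smul_smul]
      show (9 : ZMod 11) • e + (8 : ZMod 11) • f - e = (8 : ZMod 11) • e + (8 : ZMod 11) • f
      rw [show (9 : ZMod 11) • e = ((8 : ZMod 11) + 1) • e from rfl, add_smul, one_smul]
      abel
    have hid := h.ident _ hx (by rw [hA]; exact smul_ne_zero h3 (hne _ _ (by clear * -; decide +revert)))
      (by rw [hA, hTA]; exact smul_ne_zero h2 (hne _ _ (by clear * -; decide +revert)))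
    rw [hA, hTA, hTJ 2 h2, show (2 : ZMod 11)⁻¹ = 6 from inv_eq_of_mul_eq_one_right rfl] at hid
    have h4 : (10 : ZMod 11) • e + (2 : ZMod 11) • f = (9 : ZMod 11) • e + (2 : ZMod 11) • f := by
      refine Eq.trans ?_ (hid.trans ?_)
      · rw [smul_add, smul_smul, smul_smul, show (6 : ZMod 11) * -4 = 9 by clear * -; decide +revert,
          show (6 : ZMod 11) * 4 = 2 by clear * -; decide +revert]
        rw [show (10 : ZMod 11) • e = ((9 : ZMod 11) + 1) • e from rfl, add_smul, one_smul]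
        abel
      · rw [smul_add, smul_smul, smul_smul, neg_add, ← neg_smul, ← neg_smul,
          show -((5 : ZMod 11) * -4) = 9 by clear * -; decide +revert,
          show -((5 : ZMod 11) * 4) = 2 by clear * -; decide +revert]
    exact absurd (hco' _ _ _ _ h4).1 (by clear * -; decide +revert)
  · obtain ⟨rfl, rfl⟩ : γ = 5 ∧ δ = 9 := by clear * - k1 k2 k3 k4; decide +revert
    obtain ⟨rfl, rfl⟩ : γ' = 5 ∧ δ' = 10 := by clear * - k5 k6 k7 k8; decide +revert
    have h6 : (6 : ZMod 11) ≠ 0 := by clear * -; decide +revert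
    have h4' : (4 : ZMod 11) ≠ 0 := by clear * -; decide +revert
    have h9 : (9 : ZMod 11) ≠ 0 := by clear * -; decide +revert
    have hx : (6 : ZMod 11) • ((7 : ZMod 11) • e + (7 : ZMod 11) • f) ≠ 0 :=
      smul_ne_zero h6 (hne _ _ (by clear * -; decide +revert))
    have hA : T ((6 : ZMod 11) • ((7 : ZMod 11) • e + (7 : ZMod 11) • f)) + e =
        (4 : ZMod 11) • ((5 : ZMod 11) • e + (9 : ZMod 11) • f) := by
      rw [hTJ 6 h6, show (6 : ZMod 11)⁻¹ = 2 from inv_eq_of_mul_eq_one_right rfl, smul_add, smul_add, smul_smul,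
        smul_smul, smul_smul, smul_smul, show (2 : ZMod 11) * -7 = 8 by clear * -; decide +revert,
        show (2 : ZMod 11) * 7 = 3 from rfl, show (4 : ZMod 11) * 5 = 8 + 1 from rfl,
        show (4 : ZMod 11) * 9 = 3 from rfl, add_smul, one_smul]
      abel
    have hTA : T ((4 : ZMod 11) • ((5 : ZMod 11) • e + (9 : ZMod 11) • f)) - e =
        (9 : ZMod 11) • ((-7 : ZMod 11) • e + (7 : ZMod 11) • f) := by
      rw [← hce, hscal 4 h4' _ ((ρ c).map_eq_zero_iff.not.2 h.e_ne), h.conj, hce',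
        show (4 : ZMod 11)⁻¹ = 3 from inv_eq_of_mul_eq_one_right rfl, smul_add, smul_add, smul_smul,
        smul_smul, smul_smul, smul_smul, show (3 : ZMod 11) * 5 = 3 + 1 from rfl,
        show (3 : ZMod 11) * 10 = 8 from rfl, show (9 : ZMod 11) * -7 = 3 by clear * -; decide +revert,
        show (9 : ZMod 11) * 7 = 8 from rfl, add_smul, one_smul]
      abel
    have hid := h.ident _ hx (by rw [hA]; exact smul_ne_zero h4' (hne _ _ (by clear * -; decide +revert)))
      (by rw [hA, hTA]; exact smul_ne_zero h9 (hne _ _ (by clear * -; decide +revert)))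
    rw [hA, hTA, hTK 9 h9, show (9 : ZMod 11)⁻¹ = 5 from inv_eq_of_mul_eq_one_right rfl] at hid
    have h4 : (3 : ZMod 11) • e + (2 : ZMod 11) • f = (2 : ZMod 11) • e + (2 : ZMod 11) • f := by
      refine Eq.trans ?_ (hid.trans ?_)
      · rw [smul_add, smul_smul, smul_smul, show (5 : ZMod 11) * 7 = 2 from rfl,
          show (3 : ZMod 11) • e = ((2 : ZMod 11) + 1) • e from rfl, add_smul, one_smul]
        abel
      · rw [smul_add, smul_smul, smul_smul, neg_add, ← neg_smul, ← neg_smul,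
          show -((6 : ZMod 11) * 7) = 2 by clear * -; decide +revert]
    exact absurd (hco' _ _ _ _ h4).1 (by clear * -; decide +revert)

end Cfsg.Agent.Lie.NearfieldInverse
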