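import Mathlib
import Cfsg.Prelude.Def_LieExceptional
import Cfsg.Agent.Lib.Lie.Zassenhaus

/-!
The regular normal subgroup of a point stabiliser of a Zassenhaus group with large two-point
stabilisers is elementary abelian.
-/

set_option autoImplicit false
set_option linter.style.haveILetI false

namespace Cfsg.Agent.Lie.ZassenhausKernel

open MulAction

/-- A finite group on whose non-identity elements a group of automorphisms is semiregular with at
most two orbits is elementary abelian. -/
theorem elementary_of_two_orbits {F H : Type*} [Group F] [Finite F] [Nontrivial F] [Group H] [Finite H]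
    (ρ : H →* MulAut F) (hfree : ∀ (g : H) (x : F), x ≠ 1 → ρ g x = x → g = 1)
    (hle : Nat.card F - 1 ≤ 2 * Nat.card H) :
    IsMulCommutative F ∧ ∃ p f : ℕ, p.Prime ∧ (∀ x : F, x ^ p = 1) ∧ Nat.card F = p ^ f := by
  classical
  haveI := Fintype.ofFinite F
  haveI := Fintype.ofFinite H
  set h := Nat.card H with hh
  have hpos : 0 < h := Nat.card_pos
  -- invariant sets contain whole orbits
  have orbit_le : ∀ S : Finset F, (∀ (g : H), ∀ x ∈ S, ρ g x ∈ S) → (1 : F) ∉ S → S.Nonempty → h ≤ S.card := by
    intro S hS h1 hne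
    obtain ⟨x, hx⟩ := hne
    have hinj : Function.Injective fun g : H => ρ g x := fun g g' e => by
      have e' : ρ (g'⁻¹ * g) x = x := by
        rw [map_mul, MulAut.mul_apply, show ρ g x = ρ g' x from e, ← MulAut.mul_apply, ← map_mul,
          inv_mul_cancel, map_one, MulAut.one_apply]
      exact (inv_mul_eq_one.1 (hfree _ x (fun e1 => h1 (e1 ▸ hx)) e')).symm
    rw [hh, Nat.card_eq_fintype_card, ← Finset.card_univ, ← Finset.card_image_of_injective _ hinj]
    exact Finset.card_le_card (Finset.image_subset_iff.2 fun g _ => hS g x hx)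
  have hn : 1 < Nat.card F := Finite.one_lt_card
  have hsplit : ∀ W : Subgroup F, (∀ g x, x ∈ W → ρ g x ∈ W) → W = ⊥ ∨ W = ⊤ := by
    intro W hW
    by_contra hne
    rw [not_or] at hne
    let S₁ : Finset F := Finset.univ.filter fun x => x ∈ W ∧ x ≠ 1
    let S₂ : Finset F := Finset.univ.filter fun x => x ∉ W
    have hρW : ∀ g x, ρ g x ∈ W → x ∈ W := fun g x hx => by
      have := hW g⁻¹ _ hx
      rwa [← MulAut.mul_apply, ← map_mul, inv_mul_cancel, map_one, MulAut.one_apply] at this
    have hl1 : h ≤ S₁.card := orbit_le S₁ (fun g x hx => by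
        simp only [S₁, Finset.mem_filter] at hx ⊢
        exact ⟨Finset.mem_univ _, hW g x hx.2.1, (MulEquiv.map_ne_one_iff (ρ g)).2 hx.2.2⟩)
      (by simp [S₁]) (by
        obtain ⟨w, hw, hw1⟩ := (Subgroup.bot_or_exists_ne_one W).resolve_left hne.1
        exact ⟨w, by simp [S₁, hw, hw1]⟩)
    have hl2 : h ≤ S₂.card := orbit_le S₂ (fun g x hx => by
        simp only [S₂, Finset.mem_filter] at hx ⊢
        exact ⟨Finset.mem_univ _, fun hm => hx.2 (hρW g x hm)⟩)
      (by simp [S₂, one_mem]) (by
        by_contra hno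
        exact hne.2 ((Subgroup.eq_top_iff' W).2 fun x => by
          by_contra hx
          exact hno ⟨x, by simp [S₂, hx]⟩))
    have e1 : S₁.card + 1 = Nat.card W := by
      have : Finset.univ.filter (fun x => x ∈ W) = insert 1 S₁ := by
        ext x
        by_cases hx : x = 1 <;> simp [S₁, hx, one_mem]
      rw [Nat.card_eq_fintype_card, Fintype.card_subtype, this, Finset.card_insert_of_notMem (by simp [S₁])]
    have e2 : Nat.card W + S₂.card = Nat.card F := by
      rw [Nat.card_eq_fintype_card, Nat.card_eq_fintype_card, Fintype.card_subtype]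
      exact Finset.card_filter_add_card_filter_not _
    obtain ⟨k, hk⟩ := Subgroup.card_subgroup_dvd_card W
    have hW2 : Nat.card W = h + 1 := by omega
    have hF2 : Nat.card F = 2 * h + 1 := by omega
    rw [hW2, hF2] at hk
    have hk2 : k < 2 := by nlinarith
    interval_cases k <;> omega
  set p := (Nat.card F).minFac
  have hp : p.Prime := Nat.minFac_prime hn.ne'
  haveI := Fact.mk hp
  have hpg : IsPGroup p F := by
    by_contra hno
    obtain ⟨q, hq, hqd, hqp⟩ : ∃ q, q.Prime ∧ q ∣ Nat.card F ∧ q ≠ p := by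
      by_contra hall
      push Not at hall
      refine hno (IsPGroup.iff_card.2 ⟨(Nat.card F).primeFactorsList.length, ?_⟩)
      exact Nat.eq_prime_pow_of_unique_prime_dvd (Nat.card_pos).ne' fun {d} hd hdd => hall d hd hdd
    haveI := Fact.mk hq
    let S : ℕ → Finset F := fun r => Finset.univ.filter fun x => orderOf x = r
    have hSinv : ∀ r (g : H), ∀ x ∈ S r, ρ g x ∈ S r := fun r g x hx => by
      simp only [S, Finset.mem_filter, Finset.mem_univ, true_and] at hx ⊢
      rw [MulEquiv.orderOf_eq, hx]
    have hS1 : ∀ r, r ≠ 1 → (1 : F) ∉ S r := fun r hr h => by simp [S] at h; exact hr h.symm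
    have hp1 : h ≤ (S p).card := orbit_le _ (hSinv p) (hS1 p hp.ne_one) (by
      obtain ⟨x, hx⟩ := exists_prime_orderOf_dvd_card' p (Nat.minFac_dvd (Nat.card F))
      exact ⟨x, by simp [S, p, hx]⟩)
    have hq1 : h ≤ (S q).card := orbit_le _ (hSinv q) (hS1 q hq.ne_one) (by
      obtain ⟨x, hx⟩ := exists_prime_orderOf_dvd_card' q hqd
      exact ⟨x, by simp [S, hx]⟩)
    have hdis : Disjoint (S p) (S q) := Finset.disjoint_left.2 fun x hx hx' => by
      simp only [S, Finset.mem_filter] at hx hx'
      exact hqp (hx'.2.symm.trans hx.2)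
    have hsub : S p ∪ S q ⊆ Finset.univ.erase (1 : F) := fun x hx => Finset.mem_erase.2
      ⟨fun e => by
        rcases Finset.mem_union.1 hx with h1 | h1
        · exact hS1 p hp.ne_one (e ▸ h1)
        · exact hS1 q hq.ne_one (e ▸ h1), Finset.mem_univ _⟩
    have hc := Finset.card_le_card hsub
    rw [Finset.card_union_of_disjoint hdis, Finset.card_erase_of_mem (Finset.mem_univ _), Finset.card_univ,
      ← Nat.card_eq_fintype_card] at hc
    have hall : ∀ x : F, x ≠ 1 → orderOf x = p ∨ orderOf x = q := by
      intro x hx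
      have he : S p ∪ S q = Finset.univ.erase (1 : F) := Finset.eq_of_subset_of_card_le hsub (by
        rw [Finset.card_union_of_disjoint hdis, Finset.card_erase_of_mem (Finset.mem_univ _), Finset.card_univ,
          ← Nat.card_eq_fintype_card]
        omega)
      have := he.symm ▸ Finset.mem_erase.2 ⟨hx, Finset.mem_univ x⟩
      simpa [S] using this
    -- class sizes of elements of order p are divisible by q
    have hdvd : q ∣ (S p).card := by
      let act : MulAction (ConjAct F) {x : F // orderOf x = p} :=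
        { smul := fun g x => ⟨ConjAct.ofConjAct g * x * (ConjAct.ofConjAct g)⁻¹,
            ((MulAut.conj (ConjAct.ofConjAct g)).orderOf_eq (x : F)).trans x.2⟩
          one_smul := fun x => Subtype.ext (by
            show ConjAct.ofConjAct (1 : ConjAct F) * (x : F) * (ConjAct.ofConjAct (1 : ConjAct F))⁻¹ = x
            simp)
          mul_smul := fun g g' x => Subtype.ext (by
            show ConjAct.ofConjAct (g * g') * (x : F) * (ConjAct.ofConjAct (g * g'))⁻¹ = _
            rw [map_mul, mul_inv_rev, mul_assoc, mul_assoc]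
            show _ = ConjAct.ofConjAct g * (ConjAct.ofConjAct g' * (x : F) * (ConjAct.ofConjAct g')⁻¹) *
              (ConjAct.ofConjAct g)⁻¹
            simp [mul_assoc]) }
      obtain ⟨Q⟩ : Nonempty (Sylow q F) := inferInstance
      let Q' : Subgroup (ConjAct F) := (Q : Subgroup F).map ConjAct.toConjAct.toMonoidHom
      letI : MulAction Q' {x : F // orderOf x = p} := @MulAction.compHom _ _ _ _ act _ Q'.subtype
      have hQ' : IsPGroup q Q' := Q.2.map _
      have hmod := hQ'.card_modEq_card_fixedPoints {x : F // orderOf x = p}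
      have hfix : IsEmpty (fixedPoints Q' {x : F // orderOf x = p}) := by
        refine ⟨fun ⟨x, hx⟩ => ?_⟩
        have hQne : (Q : Subgroup F) ≠ ⊥ := Q.ne_bot_of_dvd_card hqd
        obtain ⟨y, hy, hy1⟩ := (Subgroup.bot_or_exists_ne_one _).resolve_left hQne
        have e : y * (x : F) * y⁻¹ = x := congrArg Subtype.val
          (hx ⟨ConjAct.toConjAct y, ⟨y, hy, rfl⟩⟩)
        have hyq : q ∣ orderOf y := by
          obtain ⟨k, hk⟩ := Q.2 ⟨y, hy⟩
          have hk' : y ^ q ^ k = 1 := congrArg Subtype.val hk
          obtain ⟨i, -, hi⟩ := (Nat.dvd_prime_pow hq).1 (orderOf_dvd_of_pow_eq_one hk')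
          rcases Nat.eq_zero_or_pos i with h0 | h0
          · rw [h0, pow_zero, orderOf_eq_one_iff] at hi; exact absurd hi hy1
          · rw [hi]; exact dvd_pow_self q h0.ne'
        have hyo : orderOf y = q := by
          rcases hall y hy1 with h' | h'
          · rw [h'] at hyq
            exact absurd ((Nat.prime_dvd_prime_iff_eq hq hp).1 hyq) hqp
          · exact h'
        have hcy : Commute y (x : F) := mul_inv_eq_iff_eq_mul.1 e
        have ho := hcy.orderOf_mul_eq_mul_orderOf_of_coprime (by
          rw [hyo, x.2]; exact (Nat.coprime_primes hq hp).2 hqp)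
        rw [hyo, x.2] at ho
        have hne1 : y * (x : F) ≠ 1 := fun e1 => by
          rw [e1, orderOf_one] at ho
          have := Nat.mul_le_mul hq.two_le hp.two_le
          omega
        have := hq.two_le
        have := hp.two_le
        rcases hall _ hne1 with h' | h' <;> rw [ho] at h' <;> nlinarith
      rw [Nat.card_of_isEmpty (α := fixedPoints Q' {x : F // orderOf x = p})] at hmod
      have : Nat.card {x : F // orderOf x = p} = (S p).card := by
        rw [Nat.card_eq_fintype_card, Fintype.card_subtype]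
      rw [this] at hmod
      exact Nat.modEq_zero_iff_dvd.1 hmod
    have e1 : (S p).card = h := by omega
    have e2 : Nat.card F = 2 * h + 1 := by omega
    rw [e1] at hdvd
    rw [e2] at hqd
    exact hq.ne_one (Nat.dvd_one.1 ((Nat.dvd_add_right (hdvd.mul_left 2)).1 hqd))
  haveI : Nontrivial (Subgroup.center F) := hpg.center_nontrivial
  have hcomm : IsMulCommutative F := by
    rcases hsplit (Subgroup.center F) (fun g x hx => Subgroup.mem_center_iff.2 fun y => by
      obtain ⟨y', rfl⟩ := (ρ g).surjective y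
      rw [← map_mul, ← map_mul, Subgroup.mem_center_iff.1 hx y']) with h1 | h1
    · exact absurd h1 ((Subgroup.nontrivial_iff_ne_bot _).1 inferInstance)
    · exact ⟨⟨fun x y => Subgroup.mem_center_iff.1 (h1 ▸ Subgroup.mem_top y) x⟩⟩
  obtain ⟨f, hf⟩ := IsPGroup.iff_card.1 hpg
  refine ⟨hcomm, p, f, hp, fun x => ?_, hf⟩
  let W : Subgroup F :=
    { carrier := {x | x ^ p = 1}
      one_mem' := one_pow p
      mul_mem' := fun {x y} hx hy => by
        rw [Set.mem_ofPred_eq] at hx hy ⊢
        rw [(show Commute x y from hcomm.is_comm.comm x y).mul_pow, hx, hy, one_mul]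
      inv_mem' := fun {x} hx => by
        rw [Set.mem_ofPred_eq] at hx ⊢
        rw [inv_pow, hx, inv_one] }
  rcases hsplit W (fun g x hx => by
      show (ρ g x) ^ p = 1
      rw [← map_pow, show x ^ p = 1 from hx, map_one]) with h1 | h1
  · obtain ⟨z, hz⟩ := exists_prime_orderOf_dvd_card' p (Nat.minFac_dvd (Nat.card F))
    have hzW : z ∈ W := by
      show z ^ p = 1
      rw [← show orderOf z = p from hz, pow_orderOf_eq_one]
    rw [h1, Subgroup.mem_bot] at hzW
    rw [hzW, orderOf_one] at hz
    exact absurd hz.symm hp.ne_one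
  · have := h1 ▸ Subgroup.mem_top x
    exact this

/-- In a Zassenhaus group with two-point stabilisers of order at least half the degree minus two, the
regular normal subgroup of a point stabiliser is elementary abelian. -/
theorem kernel_elementary {G Ω : Type*} [Group G] [Finite G] [MulAction G Ω] [Fintype Ω]
    (hZ : Cfsg.IsZassenhausGroup G Ω) {a b : Ω} (hab : a ≠ b)
    (hd : Fintype.card Ω - 2 ≤ 2 * Nat.card ↥(stabilizer G a ⊓ stabilizer G b))
    (F : Subgroup G) (hFle : F ≤ stabilizer G a) (hFn : (F.subgroupOf (stabilizer G a)).Normal)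
    (hreg : ∀ y z : Ω, y ≠ a → z ≠ a → ∃! u : F, (u : G) • y = z) :
    IsMulCommutative F ∧ ∃ p f : ℕ, p.Prime ∧ (∀ u ∈ F, u ^ p = 1) ∧ Fintype.card Ω = p ^ f + 1 := by
  classical
  obtain ⟨hF, h2, h3, hfix, -⟩ := hZ
  let ι : F → {ω : Ω // ω ≠ a} := fun u => ⟨(u : G) • b, fun h => hab
    (MulAction.injective (u : G) (h.trans (hFle u.2).symm)).symm⟩
  have hι : Function.Bijective ι := by
    constructor
    · intro u u' e
      obtain ⟨w, -, hw⟩ := hreg b ((u : G) • b) hab.symm (ι u).2
      exact (hw u rfl).trans (hw u' (congrArg Subtype.val e).symm).symm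
    · intro ω
      obtain ⟨w, hw, -⟩ := hreg b ω.1 hab.symm ω.2
      exact ⟨w, Subtype.ext hw⟩
  have hcard : Nat.card F + 1 = Fintype.card Ω := by
    rw [Nat.card_eq_of_bijective ι hι, Nat.card_eq_fintype_card, Fintype.card_subtype_compl,
      Fintype.card_subtype_eq]
    have := Fintype.card_pos_iff.2 ⟨a⟩
    omega
  haveI : Nontrivial F := by
    rw [← Finite.one_lt_card_iff_nontrivial]
    have h3c : 3 ≤ Fintype.card Ω := by
      obtain ⟨g, hg, x, y, hxy, hx, hy⟩ := hfix
      haveI := hF
      obtain ⟨c, hca, hcb⟩ := Cfsg.Agent.Lie.Zassenhaus.three_le_card (G := G) ⟨g, hg, x, y, hxy, hx, hy⟩ hab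
      rw [show (3 : ℕ) = ({a, b, c} : Finset Ω).card from
        (Finset.card_eq_three.2 ⟨a, b, c, hab, hca.symm, hcb.symm, rfl⟩).symm]
      exact Finset.card_le_univ _
    omega
  let ρ : ↥(stabilizer G a ⊓ stabilizer G b) →* MulAut F :=
    { toFun := fun g =>
        { toFun := fun u => ⟨(g : G) * u * (g : G)⁻¹,
            hFn.conj_mem ⟨(u : G), hFle u.2⟩ u.2 ⟨(g : G), g.2.1⟩⟩
          invFun := fun u => ⟨(g : G)⁻¹ * u * ((g : G)⁻¹)⁻¹,
            hFn.conj_mem ⟨(u : G), hFle u.2⟩ u.2 ⟨(g : G)⁻¹, inv_mem g.2.1⟩⟩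
          left_inv := fun u => Subtype.ext (by simp [mul_assoc])
          right_inv := fun u => Subtype.ext (by simp [mul_assoc])
          map_mul' := fun u u' => Subtype.ext (by simp [mul_assoc]) }
      map_one' := MulEquiv.ext fun u => Subtype.ext (by simp)
      map_mul' := fun g g' => MulEquiv.ext fun u => Subtype.ext (by simp [mul_assoc]) }
  obtain ⟨hc, p, f, hp, hexp, hf⟩ := elementary_of_two_orbits ρ (fun g u hu e => by
    have e' : (g : G) * u * (g : G)⁻¹ = u := congrArg Subtype.val e
    have hfixu : (g : G) • (u : G) • b = (u : G) • b := by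
      rw [smul_smul, mul_inv_eq_iff_eq_mul.1 e', mul_smul, g.2.2]
    refine Subtype.ext (h3 _ a b ((u : G) • b) hab ?_ (ι u).2.symm g.2.1 g.2.2 hfixu)
    intro hb
    refine hu (hι.1 (Subtype.ext ?_))
    show (u : G) • b = ((1 : F) : G) • b
    rw [← hb, OneMemClass.coe_one, one_smul]) (by omega)
  exact ⟨hc, p, f, hp, fun u hu => congrArg Subtype.val (hexp ⟨u, hu⟩), by omega⟩

end Cfsg.Agent.Lie.ZassenhausKernel
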