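import Mathlib
import Cfsg.Prelude.Def_LieExceptional
import Cfsg.Agent.Lib.Lie.Zassenhaus
import Cfsg.Agent.Lib.Lie.ZassenhausKernel
import Cfsg.Agent.Lib.Lie.NearfieldInverse

/-!
Coordinates for a sharply triply transitive group: the kernel of a point stabiliser as a vector space,
the regular linear action of the two-point stabiliser on it and the inversion.
-/

set_option autoImplicit false
set_option linter.style.haveILetI false

namespace Cfsg.Agent.Lie.SharpCoords

open MulAction
open Cfsg.Agent.Lie.Zassenhaus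

universe u v

/-- The two-point stabiliser. -/
abbrev Two (G : Type u) {Ω : Type v} [Group G] [MulAction G Ω] (a b : Ω) : Subgroup G :=
  stabilizer G a ⊓ stabilizer G b

/-- Coordinates of a sharply triply transitive group. -/
structure Coords {G : Type u} {Ω : Type v} [Group G] [MulAction G Ω] [Fintype Ω] (a b : Ω) (p f : ℕ)
    [Fact p.Prime] {V : Type u} [AddCommGroup V] [Module (ZMod p) V]
    (ρ : Two G a b →* (V ≃ₗ[ZMod p] V)) (π : V → G) (t : G) (e : V) (τ : Two G a b →* Two G a b)
    (T : V → V) (z : Two G a b) : Prop where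
  card : Nat.card V + 1 = Fintype.card Ω
  pf : Nat.card V = p ^ f
  cardD : Nat.card (Two G a b) + 1 = Nat.card V
  reg : ∀ x y : V, x ≠ 0 → y ≠ 0 → ∃! g, ρ g x = y
  πadd : ∀ x y, π (x + y) = π x * π y
  πa : ∀ x, π x • a = a
  πb : ∀ x, π x • b = b → x = 0
  πt : ∀ y, y ≠ a → ∃ x, π x • b = y
  conj : ∀ (g : Two G a b) x, (g : G) * π x * (g : G)⁻¹ = π (ρ g x)
  ta : t • a = b
  tb : t • b = a
  tt : t * t = 1
  te : t • π e • b = π e • b
  tau : ∀ g, (τ g : G) = t * g * t
  tT : ∀ x, x ≠ 0 → t • π x • b = π (T x) • b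
  z_uniq : ∀ w : Two G a b, orderOf w = 2 → w = z
  setup : NearfieldInverse.Setup ρ e τ T z

variable {G : Type u} {Ω : Type v} [Group G] [Finite G] [MulAction G Ω] [Fintype Ω] [FaithfulSMul G Ω]

theorem with_coords (h2 : IsMultiplyPretransitive G Ω 2) (h3 : ThreePoint G Ω) {a b : Ω} (hab : a ≠ b)
    (hcard : Nat.card (Two G a b) = Fintype.card Ω - 2) (h4 : 4 ≤ Fintype.card Ω) {M : Prop}
    (hM : ∀ (p f : ℕ) [Fact p.Prime] (V : Type u) [AddCommGroup V] [Module (ZMod p) V] [Fintype V]
      [Nontrivial V] (ρ : Two G a b →* (V ≃ₗ[ZMod p] V)) (π : V → G) (t : G) (e : V)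
      (τ : Two G a b →* Two G a b) (T : V → V) (z : Two G a b), Coords a b p f ρ π t e τ T z → M) : M := by
  classical
  have hfix : ∃ g : G, g ≠ 1 ∧ ∃ a b : Ω, a ≠ b ∧ g • a = a ∧ g • b = b := by
    haveI : Nontrivial (Two G a b) := by rw [← Finite.one_lt_card_iff_nontrivial]; omega
    obtain ⟨g, hg⟩ := exists_ne (1 : Two G a b)
    exact ⟨g, fun h => hg (Subtype.ext h), a, b, hab, g.2.1, g.2.2⟩
  obtain ⟨g₀, hg₀, hg₀a, hg₀b⟩ := exists_fix_pair h2 hfix hab
  obtain ⟨U, -, hUa, hUt, hUf, hUn⟩ := kernel_le h2 h3 hfix ⊤ hab (Subgroup.mem_top g₀) hg₀ hg₀a hg₀b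
  let ι : U → {ω : Ω // ω ≠ a} := fun k => ⟨(k : G) • b, fun h => hab
    (MulAction.injective (k : G) (h.trans (hUa k k.2).symm)).symm⟩
  have hιinj : Function.Injective ι := fun k k' e => by
    have e' : (k : G) • b = (k' : G) • b := congrArg Subtype.val e
    have := hUf ((k' : G)⁻¹ * k) (mul_mem (inv_mem k'.2) k.2) (by rw [mul_smul, e', inv_smul_smul])
    exact Subtype.ext (inv_mul_eq_one.1 this).symm
  have hιsurj : Function.Surjective ι := fun ω => by
    obtain ⟨k, hk, hkb⟩ := hUt ω.1 ω.2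
    exact ⟨⟨k, hk⟩, Subtype.ext hkb⟩
  have hUcard : Nat.card U + 1 = Fintype.card Ω := by
    rw [Nat.card_eq_of_bijective ι ⟨hιinj, hιsurj⟩, Nat.card_eq_fintype_card, Fintype.card_subtype_compl,
      Fintype.card_subtype_eq]
    omega
  let ρU : Two G a b →* MulAut U :=
    { toFun := fun g =>
        { toFun := fun k => ⟨(g : G) * k * (g : G)⁻¹, hUn _ g.2.1 g.2.2 k k.2⟩
          invFun := fun k => ⟨(g : G)⁻¹ * k * ((g : G)⁻¹)⁻¹, hUn _ (g⁻¹).2.1 (g⁻¹).2.2 k k.2⟩
          left_inv := fun u => Subtype.ext (by simp [mul_assoc])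
          right_inv := fun u => Subtype.ext (by simp [mul_assoc])
          map_mul' := fun u u' => Subtype.ext (by simp [mul_assoc]) }
      map_one' := MulEquiv.ext fun u => Subtype.ext (by simp)
      map_mul' := fun g g' => MulEquiv.ext fun u => Subtype.ext (by simp [mul_assoc]) }
  have hfree : ∀ (g : Two G a b) (k : U), k ≠ 1 → ρU g k = k → g = 1 := by
    intro g k hk hgk
    have e' : (g : G) * k * (g : G)⁻¹ = k := congrArg Subtype.val hgk
    have hfixk : (g : G) • (k : G) • b = (k : G) • b := by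
      rw [smul_smul, mul_inv_eq_iff_eq_mul.1 e', mul_smul, g.2.2]
    exact Subtype.ext (h3 _ a b ((k : G) • b) hab (fun hb => hk (Subtype.ext (hUf k k.2 hb.symm)))
      (ι k).2.symm g.2.1 g.2.2 hfixk)
  haveI : Nontrivial U := by
    rw [← Finite.one_lt_card_iff_nontrivial]; omega
  obtain ⟨hUc, p, f, hp, hexp, hUpf⟩ := ZassenhausKernel.elementary_of_two_orbits ρU hfree (by omega)
  haveI := Fact.mk hp
  letI : CommGroup U := { (inferInstance : Group U) with mul_comm := fun x y => hUc.is_comm.comm x y }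
  letI : Module (ZMod p) (Additive U) := AddCommGroup.zmodModule fun x => by
    show Additive.ofMul ((Additive.toMul x) ^ p) = 0
    rw [hexp]; rfl
  haveI : Fintype (Additive U) := Fintype.ofFinite _
  suffices main : ∀ (V : Type u) [AddCommGroup V] [Module (ZMod p) V] [Fintype V] [Nontrivial V]
      (act : Two G a b → V ≃+ V) (π : V → G), (∀ g g' x, act (g * g') x = act g (act g' x)) →
      (∀ g x, x ≠ 0 → act g x = x → g = 1) → Nat.card V + 1 = Fintype.card Ω → Nat.card V = p ^ f →
      (∀ x y, π (x + y) = π x * π y) → (∀ x, π x • a = a) → (∀ x, π x • b = b → x = 0) →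
      (∀ y, y ≠ a → ∃ x, π x • b = y) →
      (∀ (g : Two G a b) x, (g : G) * π x * (g : G)⁻¹ = π (act g x)) → M by
    exact main (Additive U) (fun g => MulEquiv.toAdditive (ρU g)) (fun x => ((Additive.toMul x : U) : G))
      (fun g g' x => congrArg Additive.ofMul (MulEquiv.ext_iff.1 (ρU.map_mul g g') (Additive.toMul x)))
      (fun g x hx h => hfree g (Additive.toMul x) (fun e => hx e) h)
      (by rw [Nat.card_congr Additive.toMul]; exact hUcard) (by rw [Nat.card_congr Additive.toMul, hUpf])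
      (fun _ _ => rfl) (fun x => hUa _ (Additive.toMul x).2)
      (fun x hx => Subtype.ext (hUf _ (Additive.toMul x).2 hx))
      (fun y hy => by
        obtain ⟨k, hk, hkb⟩ := hUt y hy
        exact ⟨Additive.ofMul (⟨k, hk⟩ : U), hkb⟩)
      (fun _ _ => rfl)
  clear! U
  intro V iV iM iVf iVn act π hact hfree hVcard hVpf hπadd hπa hπb hπt hconj
  let ρ : Two G a b →* (V ≃ₗ[ZMod p] V) := MonoidHom.mk'
    (fun g => { act g with map_smul' := fun c x => ZMod.map_smul (act g).toAddMonoidHom c x })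
    fun g g' => LinearEquiv.ext fun x => hact g g' x
  have hρfree : ∀ (g : Two G a b) (x : V), x ≠ 0 → ρ g x = x → g = 1 := hfree
  have hDcard : Nat.card (Two G a b) + 1 = Nat.card V := by omega
  haveI : Fintype (Two G a b) := Fintype.ofFinite _
  have hreg : ∀ x y : V, x ≠ 0 → y ≠ 0 → ∃! g : Two G a b, ρ g x = y := by
    intro x y hx hy
    let F : Two G a b → {w : V // w ≠ 0} := fun g => ⟨ρ g x, fun h => hx ((ρ g).map_eq_zero_iff.1 h)⟩
    have hinj : Function.Injective F := fun g g' h => by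
      have h1 : ρ (g'⁻¹ * g) x = x := by
        rw [map_mul, LinearEquiv.mul_apply, show ρ g x = ρ g' x from congrArg Subtype.val h,
          ← LinearEquiv.mul_apply, ← map_mul, inv_mul_cancel, map_one]
        rfl
      exact (inv_mul_eq_one.1 (hρfree _ x hx h1)).symm
    obtain ⟨g, hg⟩ := ((Fintype.bijective_iff_injective_and_card F).2 ⟨hinj, by
      rw [Fintype.card_subtype_compl, Fintype.card_subtype_eq, ← Nat.card_eq_fintype_card,
        ← Nat.card_eq_fintype_card]
      omega⟩).2 ⟨y, hy⟩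
    exact ⟨g, congrArg Subtype.val hg, fun g' hg' => hinj (Subtype.ext (hg'.trans (congrArg Subtype.val hg).symm))⟩
  have hπ0 : π 0 = 1 := by
    have h := hπadd 0 0
    rw [add_zero] at h
    exact left_eq_mul.1 h
  obtain ⟨w₀, hw₀⟩ := exists_ne (0 : V)
  -- minus one
  obtain ⟨z, hz, -⟩ := hreg w₀ (-w₀) hw₀ (neg_ne_zero.2 hw₀)
  have hzz : z * z = 1 := hρfree _ w₀ hw₀ (by rw [map_mul, LinearEquiv.mul_apply, hz, map_neg, hz, neg_neg])
  have hinv : ∀ w : Two G a b, w * w = 1 → w ≠ 1 → ∀ x, ρ w x = -x := by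
    intro w hw hw1 x
    by_contra hne
    refine hw1 (hρfree w (ρ w x + x) (fun h => hne (eq_neg_of_add_eq_zero_left h)) ?_)
    rw [map_add, ← LinearEquiv.mul_apply, ← map_mul, hw, map_one, add_comm]
    rfl
  have hneg : ∀ x, ρ z x = -x := by
    intro x
    by_cases hz1 : z = 1
    · rw [hz1, map_one] at hz
      have h2 : (2 : ZMod p) • w₀ = 0 := by
        rw [two_smul]
        exact add_eq_zero_iff_eq_neg.2 hz
      have h20 : (2 : ZMod p) = 0 := (smul_eq_zero.1 h2).resolve_right hw₀
      rw [hz1, map_one]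
      show x = -x
      rw [← add_eq_zero_iff_eq_neg, ← two_smul (ZMod p), h20, zero_smul]
    · exact hinv z hzz hz1 x
  have hzu : ∀ w : Two G a b, orderOf w = 2 → w = z := by
    intro w hw
    have h1 : w ≠ 1 := fun h => by rw [h, orderOf_one] at hw; exact absurd hw (by norm_num)
    exact (hreg w₀ (-w₀) hw₀ (neg_ne_zero.2 hw₀)).unique
      (hinv w (by rw [← sq, ← hw, pow_orderOf_eq_one]) h1 w₀) hz
  -- the coordinates
  let P : V → Ω := fun x => π x • b
  have hπP : ∀ x y, π x • P y = P (x + y) := fun x y => by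
    show π x • π y • b = π (x + y) • b
    rw [smul_smul, hπadd]
  have hP0 : P 0 = b := by show π 0 • b = b; rw [hπ0, one_smul]
  have hπneg : ∀ x, π (-x) = (π x)⁻¹ := fun x =>
    eq_inv_of_mul_eq_one_left (by rw [← hπadd, neg_add_cancel, hπ0])
  have hPa : ∀ x, P x ≠ a := fun x h => hab (MulAction.injective (π x) (h.trans (hπa x).symm)).symm
  have hPinj : Function.Injective P := fun x y h => by
    have h1 : π (-y + x) • b = b := by
      rw [hπadd, mul_smul, show π x • b = π y • b from h, hπneg, inv_smul_smul]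
    exact (neg_add_eq_zero.1 (hπb _ h1)).symm
  have hDP : ∀ (g : Two G a b) x, (g : G) • P x = P (ρ g x) := fun g x => by
    show (g : G) • π x • b = π (act g x) • b
    rw [← hconj, mul_smul, mul_smul, inv_smul_eq_iff.2 g.2.2.symm]
  -- the swap
  obtain ⟨e, he0⟩ := exists_ne (0 : V)
  obtain ⟨c, hc⟩ : ∃ c : Ω, c = P e := ⟨_, rfl⟩
  have hca : c ≠ a := hc ▸ hPa e
  have hcb : c ≠ b := hc ▸ fun h => he0 (hPinj (h.trans hP0.symm))
  obtain ⟨s, hsa, hsb⟩ := is_two_pretransitive_iff.1 h2 hab hab.symm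
  obtain ⟨y, hy⟩ := hπt (s • c) (fun h => hcb (MulAction.injective s (h.trans hsb.symm)))
  have hy0 : y ≠ 0 := fun h => hca (MulAction.injective s ((hy.symm.trans (by rw [h, hπ0, one_smul])).trans hsa.symm))
  obtain ⟨g, hg, -⟩ := hreg e y he0 hy0
  obtain ⟨t, ht⟩ : ∃ t : G, t = (g : G)⁻¹ * s := ⟨_, rfl⟩
  have hta : t • a = b := by rw [ht, mul_smul, hsa, inv_smul_eq_iff.2 g.2.2.symm]
  have htb : t • b = a := by rw [ht, mul_smul, hsb, inv_smul_eq_iff.2 g.2.1.symm]
  have htc : t • c = c := by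
    rw [ht, mul_smul, inv_smul_eq_iff, ← hy, hc, hDP, hg]
  have htt : t * t = 1 := h3 _ a b c hab hcb.symm hca.symm (by rw [mul_smul, hta, htb])
    (by rw [mul_smul, htb, hta]) (by rw [mul_smul, htc, htc])
  have hτmem : ∀ g : Two G a b, t * (g : G) * t ∈ Two G a b := fun g => by
    refine ⟨?_, ?_⟩
    · show (t * (g : G) * t) • a = a
      rw [mul_smul, mul_smul, hta, g.2.2, htb]
    · show (t * (g : G) * t) • b = b
      rw [mul_smul, mul_smul, htb, g.2.1, hta]
  let τ : Two G a b →* Two G a b := MonoidHom.mk' (fun g => ⟨_, hτmem g⟩) fun g g' => Subtype.ext (by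
    show t * ((g : G) * g') * t = t * g * t * (t * g' * t)
    rw [show t * (g : G) * t * (t * g' * t) = t * g * (t * t) * g' * t by group, htt, mul_one]
    group)
  have hττ : ∀ g, τ (τ g) = g := fun g => Subtype.ext (by
    show t * (t * (g : G) * t) * t = g
    rw [show t * (t * (g : G) * t) * t = (t * t) * g * (t * t) by group, htt, one_mul, mul_one])
  have hTex : ∀ x, x ≠ 0 → ∃ y, P y = t • P x := fun x hx => hπt _ fun h => hx (hPinj (by
    rw [hP0]; exact MulAction.injective t (h.trans htb.symm)))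
  choose T₀ hT₀ using hTex
  let T : V → V := fun x => if h : x = 0 then 0 else T₀ x h
  have hT : ∀ x, x ≠ 0 → t • P x = P (T x) := fun x hx => by
    show _ = P (if h : x = 0 then 0 else T₀ x h)
    rw [dif_neg hx, hT₀]
  have hconjT : ∀ g, T (ρ g e) = ρ (τ g) e := by
    intro g
    refine hPinj ?_
    have hne : ρ g e ≠ 0 := fun h => he0 ((ρ g).map_eq_zero_iff.1 h)
    rw [← hT _ hne, ← hDP, ← hDP, ← hc]
    show _ = (t * (g : G) * t) • c
    rw [mul_smul, mul_smul, htc]
  -- fixed points of the swap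
  have hτz : τ z = z := by
    by_cases hz1 : z = 1
    · rw [hz1, map_one]
    · refine hzu _ (orderOf_eq_prime (by rw [sq, ← map_mul, hzz, map_one]) fun h => hz1 ?_)
      rw [← hττ z, h, map_one]
  have hgc : ∀ g : Two G a b, τ g = g → t • (g : G) • c = (g : G) • c := by
    intro g hg
    have h1 : t * (g : G) * t = g := congrArg Subtype.val hg
    calc t • (g : G) • c = t • (g : G) • t • c := by rw [htc]
      _ = (t * (g : G) * t) • c := by rw [mul_smul, mul_smul]
      _ = _ := by rw [h1]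
  have hinjc : ∀ g g' : Two G a b, (g : G) • c = (g' : G) • c → g = g' := fun g g' h => by
    have h1 := h3 _ a b c hab hcb.symm hca.symm (g'⁻¹ * g).2.1 (g'⁻¹ * g).2.2 (by
      rw [Subgroup.coe_mul, mul_smul, h, Subgroup.coe_inv, inv_smul_smul])
    exact (inv_mul_eq_one.1 (Subtype.ext h1)).symm
  have hthree : ∀ g g' : Two G a b, τ g = g → τ g' = g' → g ≠ 1 → g' ≠ 1 → g = g' := by
    intro g g' hg hg' hg1 hg'1
    by_contra hne
    have h1 := h3 t c ((g : G) • c) ((g' : G) • c)
      (fun h => hg1 (hinjc g 1 (by rw [← h, OneMemClass.coe_one, one_smul])))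
      (fun h => hne (hinjc g g' h))
      (fun h => hg'1 (hinjc g' 1 (by rw [← h, OneMemClass.coe_one, one_smul]))) htc (hgc g hg) (hgc g' hg')
    exact hab (by rw [← hta, h1, one_smul])
  have hfixτ : ∀ g, τ g = g → g = 1 ∨ g = z := by
    intro g hg
    by_cases hg1 : g = 1
    · exact Or.inl hg1
    refine Or.inr ?_
    by_cases hz1 : z = 1
    · exfalso
      by_cases hgg : g * g = 1
      · exact hg1 ((hzu g (orderOf_eq_prime (by rw [sq, hgg]) hg1)).trans hz1)
      · exact hg1 (mul_eq_left.1 (hthree _ _ (by rw [map_mul, hg]) hg hgg hg1))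
    · exact hthree _ _ hg hτz hg1 hz1
  -- the three-cycle
  obtain ⟨u, hu⟩ : ∃ u : G, u = π e := ⟨_, rfl⟩
  have huc : u • b = c := by rw [hu, hc]
  have hua : u • a = a := by rw [hu, hπa]
  have hzzG : (z : G) * z = 1 := congrArg Subtype.val hzz
  have hzu' : (z : G) * u * (z : G) = u⁻¹ := by
    calc (z : G) * u * (z : G) = (z : G) * u * (z : G)⁻¹ := by rw [inv_eq_of_mul_eq_one_right hzzG]
      _ = _ := by rw [hu, hconj, show act z e = -e from hneg e, hπneg]
  have htz : t * (z : G) = (z : G) * t := by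
    have h1 : t * (z : G) * t = z := congrArg Subtype.val hτz
    calc t * (z : G) = t * z * t * t := by rw [mul_assoc (t * (z : G)), htt, mul_one]
      _ = z * t := by rw [h1]
  have hcube : (t * (u * z)) * (t * (u * z)) * (t * (u * z)) = 1 := by
    have ea : (t * (u * z)) • a = b := by rw [mul_smul, mul_smul, z.2.1, hua, hta]
    have eb : (t * (u * z)) • b = c := by rw [mul_smul, mul_smul, z.2.2, huc, htc]
    have ec : (t * (u * z)) • c = a := by
      rw [mul_smul, mul_smul]
      have : u • (z : G) • c = b := by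
        rw [← huc, smul_smul, smul_smul]
        have e1 : u * (z : G) * u = (z : G) := by
          rw [show u * (z : G) * u = u * ((z : G) * u * (z : G)) * ((z : G))⁻¹ by group, hzu', mul_inv_cancel,
            one_mul, inv_eq_of_mul_eq_one_right hzzG]
        rw [e1, z.2.2]
      rw [this, htb]
    refine h3 _ a b c hab hcb.symm hca.symm ?_ ?_ ?_
    · rw [mul_smul, mul_smul, ea, eb, ec]
    · rw [mul_smul, mul_smul, eb, ec, ea]
    · rw [mul_smul, mul_smul, ec, ea, eb]
  have hrel : u * t * u⁻¹ * t * u * t = (z : G) := by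
    have h1 : t * u * t * u⁻¹ * t * u * z = 1 := by
      calc t * u * t * u⁻¹ * t * u * (z : G) = t * u * t * ((z : G) * u * z) * t * u * z := by rw [hzu']
        _ = t * u * (t * (z : G)) * u * z * t * u * z := by simp only [mul_assoc]
        _ = t * u * ((z : G) * t) * u * z * t * u * z := by rw [htz]
        _ = 1 := by rw [← hcube]; simp only [mul_assoc]
    have h2 : t * u * t * u⁻¹ * t * u = z := by
      calc t * u * t * u⁻¹ * t * u = t * u * t * u⁻¹ * t * u * ((z : G) * z) := by rw [hzzG, mul_one]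
        _ = _ := by rw [← mul_assoc, h1, one_mul]
    calc u * t * u⁻¹ * t * u * t = (t * t) * (u * t * u⁻¹ * t * u) * t := by rw [htt, one_mul]
      _ = t * (t * u * t * u⁻¹ * t * u) * t := by group
      _ = z := by rw [h2, htz, mul_assoc, htt, mul_one]
  have hident : ∀ x, x ≠ 0 → T x + e ≠ 0 → T (T x + e) - e ≠ 0 →
      T (T (T x + e) - e) + e = -x := by
    intro x h1 h2' h3'
    refine hPinj ?_
    have hm : ∀ y, u • P y = P (y + e) := fun y => by rw [hu, hπP, add_comm]
    have hm' : ∀ y, u⁻¹ • P y = P (y - e) := fun y => by rw [inv_smul_eq_iff, hm, sub_add_cancel]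
    rw [show P (-x) = (z : G) • P x by rw [hDP, hneg], ← hrel, mul_smul, mul_smul, mul_smul, mul_smul,
      mul_smul, hT x h1, hm, hT _ h2', hm', hT _ h3', hm]
  exact hM p f V ρ π t e τ T z
    { card := hVcard
      pf := hVpf
      cardD := hDcard
      reg := hreg
      πadd := hπadd
      πa := hπa
      πb := hπb
      πt := hπt
      conj := hconj
      ta := hta
      tb := htb
      tt := htt
      te := by
        show t • P e = P e
        rw [← hc, htc]
      tau := fun _ => rfl
      tT := hT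
      z_uniq := hzu
      setup := ⟨fun v hv => hreg e v he0 hv, he0, hττ, hfixτ, hneg, hconjT, hident⟩ }

end Cfsg.Agent.Lie.SharpCoords
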