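import Mathlib
import Cfsg.Agent.Lib.Classical.Dickson.Tools
import Cfsg.Agent.Lib.Lie.SharpCoords
import Cfsg.Agent.Lib.Lie.AbelianField

/-!
A sharply triply transitive group with commutative two-point stabilisers is `PGL₂`.
-/

set_option autoImplicit false
set_option linter.style.haveILetI false

namespace Cfsg.Agent.Lie.SharpPGL

open MulAction
open Cfsg.Agent.Lie.Zassenhaus Cfsg.Agent.Lie.SharpCoords
open scoped OnePoint

universe u v

theorem pgl_of_coords {G : Type u} [Group G] [Finite G] {Ω : Type v} [MulAction G Ω] [FaithfulSMul G Ω]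
    {F : Type} [Field F] [Fintype F] (a : Ω) (P : F → Ω)
    (hPa : ∀ x, P x ≠ a) (hPinj : Function.Injective P) (hPsurj : ∀ ω, ω ≠ a → ∃ x, P x = ω)
    (π : F → G) (hπa : ∀ x, π x • a = a) (hπP : ∀ x y, π x • P y = P (x + y))
    (hD : ∀ g : G, g • a = a → g • P 0 = P 0 → ∃ r : F, r ≠ 0 ∧ ∀ y, g • P y = P (r * y))
    (t : G) (hta : t • a = P 0) (htb : t • P 0 = a)
    (htP : ∀ x, x ≠ 0 → t • P x = P x⁻¹)
    (hcard : Nat.card G = Fintype.card F * (Fintype.card F ^ 2 - 1)) :
    Nonempty (G ≃* Matrix.ProjGenLinGroup (Fin 2) F) := by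
  classical
  let f : OnePoint F → Ω := fun p => p.elim a P
  have hf : Function.Bijective f := by
    constructor
    · intro p q h
      cases p with
      | infty => cases q with
        | infty => rfl
        | coe y => exact absurd h.symm (hPa y)
      | coe x => cases q with
        | infty => exact absurd h (hPa x)
        | coe y => exact congrArg _ (hPinj h)
    · intro ω
      by_cases h : ω = a
      · exact ⟨∞, h.symm⟩
      · obtain ⟨x, hx⟩ := hPsurj ω h
        exact ⟨x, hx⟩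
  let E : OnePoint F ≃ Ω := Equiv.ofBijective f hf
  have hEi : E ∞ = a := rfl
  have hEc : ∀ x : F, E x = P x := fun x => rfl
  let ψ : G →* Equiv.Perm (OnePoint F) :=
    { toFun := fun g => (E.trans (MulAction.toPerm g)).trans E.symm
      map_one' := Equiv.ext fun p => by simp
      map_mul' := fun g h => Equiv.ext fun p => by simp [mul_smul] }
  have hψ : ∀ g p, ψ g p = E.symm (g • E p) := fun g p => rfl
  have hψinj : Function.Injective ψ := fun g h e => eq_of_smul_eq_smul fun ω : Ω => by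
    have := congrArg E (Equiv.congr_fun e (E.symm ω))
    simpa [hψ] using this
  let Φ : GL (Fin 2) F →* Equiv.Perm (OnePoint F) := MulAction.toPermHom (GL (Fin 2) F) (OnePoint F)
  have hΦ : ∀ A p, Φ A p = A • p := fun A p => rfl
  have mk2 : ∀ g : G, ∀ (α β γ δ : F), α * δ - β * γ ≠ 0 →
      (g • a = if γ = 0 then a else P (α / γ)) →
      (∀ y, g • P y = if γ * y + δ = 0 then a else P ((α * y + β) / (γ * y + δ))) → ψ g ∈ Φ.range := by
    intro g α β γ δ hdet hga hgy
    obtain ⟨A, hA⟩ : ∃ A : GL (Fin 2) F, (A : Matrix (Fin 2) (Fin 2) F) = !![α, β; γ, δ] :=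
      ⟨Matrix.GeneralLinearGroup.mkOfDetNeZero !![α, β; γ, δ] (by rw [Matrix.det_fin_two_of]; exact hdet), rfl⟩
    have h00 : A 0 0 = α := by rw [hA]; rfl
    have h01 : A 0 1 = β := by rw [hA]; rfl
    have h10 : A 1 0 = γ := by rw [hA]; rfl
    have h11 : A 1 1 = δ := by rw [hA]; rfl
    refine ⟨A, Equiv.ext fun p => ?_⟩
    rw [hψ, hΦ, eq_comm, Equiv.symm_apply_eq, eq_comm]
    cases p with
    | infty =>
      rw [OnePoint.smul_infty_eq_ite, hEi, hga, h00, h10]
      by_cases hγ : γ = 0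
      · rw [if_pos hγ, if_pos hγ, hEi]
      · rw [if_neg hγ, if_neg hγ, hEc]
    | coe y =>
      rw [OnePoint.smul_some_eq_ite, hEc, hgy, h00, h01, h10, h11]
      by_cases hγ : γ * y + δ = 0
      · rw [if_pos hγ, if_pos hγ, hEi]
      · rw [if_neg hγ, if_neg hγ, hEc]
  have hu : ∀ x, ψ (π x) ∈ Φ.range := by
    intro x
    refine mk2 _ 1 x 0 1 (by simp) (by rw [if_pos rfl, hπa]) fun y => ?_
    rw [if_neg (by simp), hπP]
    congr 1
    ring
  have hh : ∀ g : G, g • a = a → g • P 0 = P 0 → ψ g ∈ Φ.range := by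
    intro g hga hgb
    obtain ⟨r, hr, hgr⟩ := hD g hga hgb
    refine mk2 _ r 0 0 1 (by simp [hr]) (by rw [if_pos rfl, hga]) fun y => ?_
    rw [if_neg (by simp), hgr]
    congr 1
    ring
  have ht : ψ t ∈ Φ.range := by
    refine mk2 _ 0 1 1 0 (by simp) (by rw [if_neg one_ne_zero, hta, zero_div]) fun y => ?_
    by_cases hy : y = 0
    · subst hy
      rw [if_pos (by simp), htb]
    · rw [if_neg (by simp [hy]), htP y hy]
      congr 1
      simp
  have hle : ψ.range ≤ Φ.range := by
    rintro _ ⟨g, rfl⟩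
    have hfix : ∀ k : G, k • a = a → ψ k ∈ Φ.range := by
      intro k hk
      obtain ⟨x, hx⟩ := hPsurj (k • P 0) (fun h => hPa 0 (MulAction.injective k (h.trans hk.symm)))
      have e0 : π (-x) • k • P 0 = P 0 := by rw [← hx, hπP, neg_add_cancel]
      have h1 := hh (π (-x) * k) (by rw [mul_smul, hk, hπa]) (by rw [mul_smul, e0])
      have h2 := mul_mem (inv_mem (hu (-x))) h1
      rwa [← map_inv, ← map_mul, inv_mul_cancel_left] at h2
    by_cases hg : g • a = a
    · exact hfix g hg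
    obtain ⟨x, hx⟩ := hPsurj (g • a) hg
    have h1 := hfix (t * (π (-x) * g)) (by
      rw [mul_smul, mul_smul, ← hx, hπP, neg_add_cancel, htb])
    have h2 := mul_mem (inv_mem (hu (-x))) (mul_mem (inv_mem ht) h1)
    rwa [← map_inv, ← map_inv, ← map_mul, inv_mul_cancel_left, ← map_mul, inv_mul_cancel_left] at h2
  have hker : Φ.ker = Subgroup.center (GL (Fin 2) F) := by
    ext A
    rw [MonoidHom.mem_ker, Matrix.GeneralLinearGroup.center_eq_range_scalar, MonoidHom.mem_range]
    constructor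
    · intro h
      have hp : ∀ p : OnePoint F, A • p = p := fun p => by rw [← hΦ, h]; rfl
      have h0 : A 1 0 = 0 := OnePoint.smul_infty_eq_self_iff.1 (hp ∞)
      have hdet : A 0 0 * A 1 1 ≠ 0 := fun h' => by
        have := A.det.ne_zero
        rw [Matrix.GeneralLinearGroup.val_det_apply, Matrix.det_fin_two, h', h0] at this
        simp at this
      obtain ⟨ha0, hd0⟩ := mul_ne_zero_iff.1 hdet
      have e0 := hp (0 : F)
      have e1 := hp (1 : F)
      rw [OnePoint.smul_some_eq_ite] at e0 e1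
      simp [h0, hd0] at e0 e1
      rw [e0, add_zero, div_eq_one_iff_eq hd0] at e1
      refine ⟨Units.mk0 _ hd0, Units.ext ?_⟩
      ext i j
      fin_cases i <;> fin_cases j <;> simp [h0, e0, e1]
    · rintro ⟨r, rfl⟩
      refine Equiv.ext fun p => ?_
      rw [hΦ]
      cases p with
      | infty =>
        rw [OnePoint.smul_infty_eq_self_iff.2 (by simp)]
        rfl
      | coe y =>
        rw [OnePoint.smul_some_eq_ite]
        simp
  let eR : Matrix.ProjGenLinGroup (Fin 2) F ≃* Φ.range :=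
    (QuotientGroup.quotientMulEquivOfEq hker.symm).trans (QuotientGroup.quotientKerEquivRange Φ)
  have heq : ψ.range = Φ.range := by
    refine Subgroup.eq_of_le_of_card_ge hle ?_
    rw [← Nat.card_congr eR.toEquiv, ← Nat.card_congr (MonoidHom.ofInjective hψinj).toEquiv, hcard,
      Cfsg.Agent.Classical.Dickson.card_pgl]
  exact ⟨((MonoidHom.ofInjective hψinj).trans (MulEquiv.subgroupCongr heq)).trans eR.symm⟩

/-- A sharply triply transitive group with commutative two-point stabilisers is `PGL₂`. -/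
theorem pgl_of_comm {G : Type u} {Ω : Type v} [Group G] [Finite G] [MulAction G Ω] [Fintype Ω]
    [FaithfulSMul G Ω] (h2 : IsMultiplyPretransitive G Ω 2) {a b : Ω} (hab : a ≠ b) {p f : ℕ}
    [Fact p.Prime] {V : Type u} [AddCommGroup V] [Module (ZMod p) V] [Fintype V] [Nontrivial V]
    {ρ : Two G a b →* (V ≃ₗ[ZMod p] V)} {π : V → G} {t : G} {e : V} {τ : Two G a b →* Two G a b}
    {T : V → V} {z : Two G a b} (C : Coords a b p f ρ π t e τ T z)
    (hcomm : ∀ g g' : Two G a b, g * g' = g' * g) :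
    ∃ (F : Type) (_ : Field F) (_ : Fintype F), Fintype.card F = p ^ f ∧
      Nonempty (G ≃* Matrix.ProjGenLinGroup (Fin 2) F) := by
  classical
  have he0 : e ≠ 0 := C.setup.e_ne
  let ρ' : Two G a b →* AddMonoid.End V :=
    { toFun := fun g => (ρ g).toAddEquiv.toAddMonoidHom
      map_one' := AddMonoidHom.ext fun x => by
        show ρ 1 x = x
        rw [map_one]; rfl
      map_mul' := fun g g' => AddMonoidHom.ext fun x => by
        show ρ (g * g') x = ρ g (ρ g' x)
        rw [map_mul]; rfl }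
  obtain ⟨F, iF, iFF, e₀, μ₀, hμ₀⟩ := AbelianField.exists_field ρ'
    (fun g g' => by rw [← map_mul, ← map_mul, hcomm g g'])
    (fun W hW => by
      refine or_iff_not_imp_left.2 fun hne => ?_
      obtain ⟨⟨w, hw⟩, hw0⟩ := AddSubgroup.ne_bot_iff_exists_ne_zero.1 hne
      refine (AddSubgroup.eq_top_iff' W).2 fun y => ?_
      by_cases hy : y = 0
      · rw [hy]; exact zero_mem W
      obtain ⟨g, hg, -⟩ := C.reg w y (fun h => hw0 (Subtype.ext h)) hy
      exact hg ▸ hW g w hw)
  letI := iF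
  letI := iFF
  have hs0 : e₀ e ≠ 0 := fun h => he0 ((map_eq_zero_iff e₀ e₀.injective).1 h)
  refine ⟨F, iF, iFF, by rw [← C.pf, Nat.card_congr e₀.toEquiv, Nat.card_eq_fintype_card], ?_⟩
  obtain ⟨φ, hφ⟩ : ∃ φ : F → V, ∀ x, φ x = e₀.symm (x * e₀ e) := ⟨_, fun _ => rfl⟩
  have hφadd : ∀ x y, φ (x + y) = φ x + φ y := fun x y => by rw [hφ, hφ, hφ, add_mul, map_add]
  have hφinj : Function.Injective φ := fun x y h => by
    rw [hφ, hφ] at h
    exact mul_right_cancel₀ hs0 (e₀.symm.injective h)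
  have hφsurj : ∀ v, ∃ x, φ x = v := fun v => ⟨e₀ v / e₀ e, by
    rw [hφ, div_mul_cancel₀ _ hs0, AddEquiv.symm_apply_apply]⟩
  have hφ0 : φ 0 = 0 := by rw [hφ, zero_mul, map_zero]
  have hφne : ∀ {x}, x ≠ 0 → φ x ≠ 0 := fun hx h => hx (hφinj (h.trans hφ0.symm))
  have hφ1 : φ 1 = e := by rw [hφ, one_mul, AddEquiv.symm_apply_apply]
  have hρφ : ∀ g x, ρ g (φ x) = φ (μ₀ g * x) := fun g x => by
    rw [hφ, hφ]
    apply e₀.injective
    rw [show e₀ (ρ g (e₀.symm (x * e₀ e))) = _ from hμ₀ g (e₀.symm (x * e₀ e)), AddEquiv.apply_symm_apply,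
      AddEquiv.apply_symm_apply, mul_assoc]
  have hρe : ∀ g, ρ g e = φ (μ₀ g) := fun g => by rw [← hφ1, hρφ, mul_one]
  have hμ0 : ∀ g, μ₀ g ≠ 0 := fun g h => by
    have h1 := hρe g
    rw [h, hφ0] at h1
    exact he0 ((ρ g).map_eq_zero_iff.1 h1)
  have hμsurj : ∀ x : F, x ≠ 0 → ∃ g, μ₀ g = x := fun x hx => by
    obtain ⟨g, hg, -⟩ := C.reg e (φ x) he0 (hφne hx)
    exact ⟨g, hφinj (by rw [← hρe, hg])⟩
  have hμinj : Function.Injective μ₀ := fun g g' h => NearfieldInverse.inj C.setup (by rw [hρe, hρe, h])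
  have hμz : μ₀ z = -1 := hφinj (by
    rw [← hρe, C.setup.neg, ← hφ1]
    refine neg_eq_of_add_eq_zero_left ?_
    rw [← hφadd, neg_add_cancel, hφ0])
  have hTμ : ∀ g, T (φ (μ₀ g)) = φ (μ₀ (τ g)) := fun g => by rw [← hρe, ← hρe, C.setup.conj]
  have hsign : ∀ g, g * τ g = 1 ∨ g * τ g = z := fun g => C.setup.fix _ (by
    rw [map_mul, C.setup.invol, hcomm])
  -- the set on which the inversion is the inverse
  let A : Set F := {x | x = 0 ∨ T (φ x) = φ x⁻¹}
  have hAμ : ∀ g, μ₀ g ∈ A ↔ g * τ g = 1 := by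
    intro g
    constructor
    · intro h
      have h1 := h.resolve_left (hμ0 g)
      rw [hTμ] at h1
      refine hμinj ?_
      rw [map_mul, map_one, hφinj h1, mul_inv_cancel₀ (hμ0 g)]
    · intro h
      refine Or.inr ?_
      rw [hTμ, ← inv_eq_of_mul_eq_one_right h]
      congr 1
      exact eq_inv_of_mul_eq_one_left (by rw [← map_mul, inv_mul_cancel, map_one])
  have hA0 : (0 : F) ∈ A := Or.inl rfl
  have hmul : ∀ x ∈ A, ∀ y ∈ A, x * y ∈ A := by
    intro x hx y hy
    by_cases hx0 : x = 0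
    · rw [hx0, zero_mul]; exact hA0
    by_cases hy0 : y = 0
    · rw [hy0, mul_zero]; exact hA0
    obtain ⟨g, rfl⟩ := hμsurj x hx0
    obtain ⟨g', rfl⟩ := hμsurj y hy0
    rw [← map_mul, hAμ, map_mul]
    rw [show g * g' * (τ g * τ g') = (g * τ g) * (g' * τ g') by
      rw [mul_assoc, ← mul_assoc g', hcomm g' (τ g), mul_assoc, ← mul_assoc g], (hAμ g).1 hx, (hAμ g').1 hy, one_mul]
  have hinv : ∀ x ∈ A, x⁻¹ ∈ A := by
    intro x hx
    by_cases hx0 : x = 0
    · rw [hx0, inv_zero]; exact hA0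
    obtain ⟨g, rfl⟩ := hμsurj x hx0
    rw [show (μ₀ g)⁻¹ = μ₀ g⁻¹ from inv_eq_of_mul_eq_one_right (by rw [← map_mul, mul_inv_cancel, map_one]),
      hAμ, map_inv, hcomm, ← mul_inv_rev, (hAμ g).1 hx, inv_one]
  have hsucc : ∀ x ∈ A, 1 + x ∈ A := by
    intro x hx
    by_cases hx0 : x = 0
    · rw [hx0, add_zero, ← map_one μ₀, hAμ, map_one, mul_one]
    by_cases hx1 : 1 + x = 0
    · rw [hx1]; exact hA0
    have hu0 : x⁻¹ + 1 ≠ 0 := fun h => hx1 (by
      have := congrArg (fun y => x * y) h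
      simpa [mul_add, mul_inv_cancel₀ hx0] using this)
    obtain ⟨k, hk⟩ := hμsurj _ hu0
    have hxinv : T (φ x) = φ x⁻¹ := hx.resolve_left hx0
    rw [show 1 + x = (x⁻¹ + 1) * x by rw [add_mul, inv_mul_cancel₀ hx0, one_mul]]
    refine hmul _ ?_ _ hx
    rw [← hk, hAμ]
    by_cases hz : z = 1
    · exact (hsign k).elim id fun h => h.trans hz
    refine (hsign k).resolve_right fun hkz => ?_
    have hz1 : μ₀ z ≠ 1 := fun h => hz (hμinj (h.trans (map_one μ₀).symm))
    have h20 : (2 : F) ≠ 0 := fun h => hz1 (by rw [hμz]; linear_combination -h)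
    have hTu : T (φ (x⁻¹ + 1)) = φ (-(x⁻¹ + 1)⁻¹) := by
      rw [← hk, hTμ]
      congr 1
      have h1 := congrArg μ₀ hkz
      rw [map_mul, hμz] at h1
      field_simp [hμ0 k]
      linear_combination h1
    have hid := C.setup.ident (φ x) (hφne hx0) (by rw [hxinv, ← hφ1, ← hφadd]; exact hφne hu0)
    rw [hxinv, ← hφ1, ← hφadd, hTu] at hid
    have hsub : ∀ y, φ y - φ 1 = φ (y - 1) := fun y => by
      rw [sub_eq_iff_eq_add, ← hφadd, sub_add_cancel]
    have hneg : ∀ y, φ (-y) = -φ y := fun y => eq_neg_of_add_eq_zero_left (by rw [← hφadd, neg_add_cancel, hφ0])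
    rw [hsub, ← hneg] at hid
    by_cases hv : -(x⁻¹ + 1)⁻¹ - 1 = 0
    · have hu1 : x⁻¹ + 1 = -1 := by
        have h2 : (x⁻¹ + 1)⁻¹ = -1 := by linear_combination -hv
        rw [← inv_inv (x⁻¹ + 1), h2, inv_neg, inv_one]
      have hkz' : k = z := hμinj (by rw [hk, hu1, hμz])
      rw [hkz', NearfieldInverse.tau_z C.setup] at hkz
      exact hz1 (by rw [mul_eq_left.1 hkz, map_one])
    · obtain ⟨l, hl⟩ := hμsurj _ hv
      have hid' := hid (hφne hv)
      rw [← hl, hTμ, ← hφadd] at hid'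
      have h3 := hφinj hid'
      have h4 : μ₀ l * μ₀ (τ l) = 1 ∨ μ₀ l * μ₀ (τ l) = -1 := by
        rcases hsign l with h | h
        · left; rw [← map_mul, h, map_one]
        · right; rw [← map_mul, h, hμz]
      rw [show μ₀ (τ l) = -x - 1 by linear_combination h3, hl] at h4
      have key : (-(x⁻¹ + 1)⁻¹ - 1) * (-x - 1) = 2 * x + 1 := by
        field_simp
        ring
      rw [key] at h4
      rcases h4 with h4 | h4
      · exact hx0 ((mul_eq_zero.1 (show (2 : F) * x = 0 by linear_combination h4)).resolve_left h20)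
      · exact hx1 ((mul_eq_zero.1 (show (2 : F) * (1 + x) = 0 by linear_combination h4)).resolve_left h20)
  have hadd : ∀ x ∈ A, ∀ y ∈ A, x + y ∈ A := by
    intro x hx y hy
    by_cases hx0 : x = 0
    · rw [hx0, zero_add]; exact hy
    rw [show x + y = x * (1 + x⁻¹ * y) by field_simp]
    exact hmul _ hx _ (hsucc _ (hmul _ (hinv _ hx) _ hy))
  have hsq : ∀ x, x * x ∈ A := by
    intro x
    by_cases hx0 : x = 0
    · rw [hx0, zero_mul]; exact hA0
    obtain ⟨g, rfl⟩ := hμsurj x hx0
    rw [← map_mul, hAμ, map_mul, Commute.mul_mul_mul_comm (hcomm g (τ g)) g (τ g)]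
    rcases hsign g with h | h <;> rw [h]
    · exact one_mul 1
    · exact hμinj (by rw [map_mul, hμz, map_one, neg_one_mul, neg_neg])
  have hall : ∀ x, x ∈ A := by
    intro x
    by_cases h2' : ringChar F = 2
    · obtain ⟨y, rfl⟩ := FiniteField.isSquare_of_char_two h2' x
      exact hsq y
    · obtain ⟨a', b', h⟩ := FiniteField.exists_root_sum_quadratic (f := (Polynomial.X : Polynomial F) ^ 2)
        (g := Polynomial.X ^ 2 - Polynomial.C x) (Polynomial.degree_X_pow 2)
        (Polynomial.degree_X_pow_sub_C (by norm_num) _)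
        (FiniteField.odd_card_of_char_ne_two h2')
      simp only [Polynomial.eval_pow, Polynomial.eval_X, Polynomial.eval_sub, Polynomial.eval_C] at h
      rw [show x = a' * a' + b' * b' by linear_combination -h]
      exact hadd _ (hsq a') _ (hsq b')
  -- the group order
  have hq : Fintype.card F + 1 = Fintype.card Ω := by
    rw [← C.card, Nat.card_congr e₀.toEquiv, Nat.card_eq_fintype_card]
  have hD : Nat.card (Two G a b) = Fintype.card F - 1 := by
    have := C.cardD
    rw [Nat.card_congr e₀.toEquiv, Nat.card_eq_fintype_card (α := F)] at this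
    omega
  have hcard : Nat.card G = Fintype.card F * (Fintype.card F ^ 2 - 1) := by
    haveI : IsPretransitive G Ω := isPretransitive_of_is_two_pretransitive
    have h1 : (stabilizer G a).index = Fintype.card Ω := by
      rw [MulAction.index_stabilizer_of_transitive, Nat.card_eq_fintype_card]
    have h4 : (Two G a b).relIndex (stabilizer G a) = Fintype.card Ω - 1 := by
      rw [Subgroup.relIndex, show (Two G a b).subgroupOf (stabilizer G a) = stabilizer (stabilizer G a) b from
        Subgroup.ext fun g => ⟨fun hg => hg.2, fun hg => ⟨g.2, hg⟩⟩, MulAction.index_stabilizer,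
        show orbit (stabilizer G a) b = ({a}ᶜ : Set Ω) from ?_, Set.ncard_compl, Set.ncard_singleton,
        Nat.card_eq_fintype_card]
      ext ω
      constructor
      · rintro ⟨g, rfl⟩ h
        exact hab (MulAction.injective (g : G) (h.trans g.2.symm)).symm
      · intro hω
        obtain ⟨g, hg1, hg2⟩ := is_two_pretransitive_iff.1 h2 hab (Ne.symm hω)
        exact ⟨⟨g, hg1⟩, hg2⟩
    have h5 := (Two G a b).card_mul_index
    rw [← Subgroup.relIndex_mul_index (inf_le_left : Two G a b ≤ stabilizer G a), h4, h1, hD, ← hq,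
      Nat.add_sub_cancel] at h5
    rw [← h5]
    have := Nat.sq_sub_sq (Fintype.card F) 1
    rw [one_pow] at this
    rw [this]
    ring
  have hb : π (φ 0) • b = b := by
    rw [hφ0]
    have h := C.πadd 0 0
    rw [add_zero] at h
    rw [left_eq_mul.1 h, one_smul]
  refine pgl_of_coords a (fun x => π (φ x) • b) ?_ ?_ ?_ (fun x => π (φ x)) (fun x => C.πa _) ?_ ?_ t ?_ ?_ ?_ hcard
  · intro x h
    exact hab (MulAction.injective (π (φ x)) (h.trans (C.πa _).symm)).symm
  · intro x y h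
    have h1 : π (-φ y + φ x) • b = b := by
      rw [C.πadd, mul_smul, show π (φ x) • b = π (φ y) • b from h, smul_smul, ← C.πadd, neg_add_cancel, ← hφ0, hb]
    exact hφinj (neg_add_eq_zero.1 (C.πb _ h1)).symm
  · intro ω hω
    obtain ⟨v, hv⟩ := C.πt ω hω
    obtain ⟨x, rfl⟩ := hφsurj v
    exact ⟨x, hv⟩
  · intro x y
    show π (φ x) • π (φ y) • b = π (φ (x + y)) • b
    rw [hφadd, C.πadd, mul_smul]
  · intro g hga hgb
    rw [hb] at hgb
    refine ⟨μ₀ ⟨g, hga, hgb⟩, hμ0 _, fun y => ?_⟩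
    show g • π (φ y) • b = π (φ (_ * y)) • b
    rw [← hρφ, ← C.conj, mul_smul, mul_smul]
    show g • π (φ y) • b = g • π (φ y) • g⁻¹ • b
    rw [inv_smul_eq_iff.2 hgb.symm]
  · rw [hb, C.ta]
  · rw [hb, C.tb]
  · intro x hx
    rw [C.tT _ (hφne hx), (hall x).resolve_left hx]

end Cfsg.Agent.Lie.SharpPGL
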