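import Mathlib
import Cfsg.Prelude.Def_LieExceptional
import Cfsg.Agent.Lib.Lie.Zassenhaus
import Cfsg.Agent.Lib.Perm.GenTuples
import Cfsg.Agent.Lib.Perm.Fpf.Entry
import Cfsg.Agent.Lib.Perm.Fpf.Structure

/-!
The two-point stabiliser of a Zassenhaus group when it has odd order.
-/

set_option autoImplicit false
set_option linter.style.haveILetI false

namespace Cfsg.Agent.Lie.ZassenhausOdd

open MulAction
open Cfsg.Agent.Lie.Zassenhaus

universe u v

variable {G : Type u} {Ω : Type v} [Group G] [MulAction G Ω]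

/-- An element carrying a non-identity element of a two-point stabiliser into it fixes or swaps the
two points. -/
theorem fix_or_swap (h3 : ThreePoint G Ω) {a b : Ω} (hab : a ≠ b) (g : G)
    {x : G} (hx : x ∈ stabilizer G a ⊓ stabilizer G b) (hx1 : x ≠ 1)
    (hgx : g * x * g⁻¹ ∈ stabilizer G a ⊓ stabilizer G b) :
    (g • a = a ∧ g • b = b) ∨ (g • a = b ∧ g • b = a) := by
  obtain ⟨e1, e2⟩ := hgx
  have hne : g * x * g⁻¹ ≠ 1 := by simpa using hx1
  have fa : (g * x * g⁻¹) • (g • a) = g • a := by rw [mul_smul, mul_smul, inv_smul_smul, hx.1]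
  have fb : (g * x * g⁻¹) • (g • b) = g • b := by rw [mul_smul, mul_smul, inv_smul_smul, hx.2]
  have key : ∀ c : Ω, (g * x * g⁻¹) • c = c → c = a ∨ c = b := by
    intro c hc
    by_contra h
    rw [not_or] at h
    exact hne (h3 _ a b c hab (Ne.symm h.2) (Ne.symm h.1) e1 e2 hc)
  have hgab : g • a ≠ g • b := fun h => hab (MulAction.injective g h)
  rcases key _ fa with h | h <;> rcases key _ fb with h' | h'
  · exact absurd (h.trans h'.symm) hgab
  · exact Or.inl ⟨h, h'⟩
  · exact Or.inr ⟨h, h'⟩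
  · exact absurd (h.trans h'.symm) hgab

theorem swap_conj {a b : Ω} {s : G} (ha : s • a = b) (hb : s • b = a) {x : G}
    (hx : x ∈ stabilizer G a ⊓ stabilizer G b) : s * x * s⁻¹ ∈ stabilizer G a ⊓ stabilizer G b := by
  refine ⟨?_, ?_⟩
  · show (s * x * s⁻¹) • a = a
    rw [mul_smul, mul_smul, inv_smul_eq_iff.2 hb.symm, hx.2, hb]
  · show (s * x * s⁻¹) • b = b
    rw [mul_smul, mul_smul, inv_smul_eq_iff.2 ha.symm, hx.1, ha]

/-- An involutory automorphism of a cyclic group of odd order which is trivial or inverting on it: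
here in the form for a cyclic `q`-group. -/
theorem inverted_of_involutive {P : Type u} [Group P] [Finite P] [IsCyclic P] {q : ℕ} [Fact q.Prime]
    (hP : IsPGroup q P) (hodd : Odd (Nat.card P)) (σ : P →* P) (hσ : ∀ x, σ (σ x) = x)
    (hne : ∃ x, σ x ≠ x) : ∀ x, σ x = x⁻¹ := by
  classical
  letI : CommGroup P := IsCyclic.commGroup
  have hsq : ∀ x : P, x * x = 1 → x = 1 := fun x hx => by
    have h := pow_gcd_eq_one.2 ⟨show x ^ 2 = 1 by rw [sq, hx], pow_card_eq_one' (x := x)⟩
    rwa [Nat.Coprime.gcd_eq_one (Nat.prime_two.coprime_iff_not_dvd.2 hodd.not_two_dvd_nat), pow_one] at h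
  obtain ⟨x₀, hx₀⟩ := hne
  have hw : σ (x₀⁻¹ * σ x₀) = (x₀⁻¹ * σ x₀)⁻¹ := by
    rw [map_mul, map_inv, hσ, mul_inv_rev, inv_inv]
  intro x
  by_contra hx
  have hy : σ (x * σ x) = x * σ x := by rw [map_mul, hσ, mul_comm]
  have hy1 : x * σ x ≠ 1 := fun h => hx (eq_inv_of_mul_eq_one_right h)
  have hw1 : x₀⁻¹ * σ x₀ ≠ 1 := fun h => hx₀ (inv_mul_eq_one.1 h).symm
  obtain ⟨w, hwdef⟩ : ∃ w, w = x₀⁻¹ * σ x₀ := ⟨_, rfl⟩
  obtain ⟨y, hydef⟩ : ∃ y, y = x * σ x := ⟨_, rfl⟩
  rw [← hwdef] at hw hw1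
  rw [← hydef] at hy hy1
  obtain ⟨i, hi⟩ := hP w
  obtain ⟨j, hj⟩ := hP y
  -- both fixed and inverted elements of order `q`
  have hpick : ∀ u : P, u ≠ 1 → ∃ n : ℕ, orderOf (u ^ n) = q := by
    intro u hu
    obtain ⟨k, hk⟩ := (IsPGroup.iff_orderOf.1 hP) u
    rcases k with _ | k
    · exact absurd (orderOf_eq_one_iff.1 (by rw [hk, pow_zero])) hu
    · refine ⟨q ^ k, ?_⟩
      rw [orderOf_pow, hk, Nat.gcd_eq_right (pow_dvd_pow q (Nat.le_succ k)), pow_succ,
        Nat.mul_div_cancel_left _ (pow_pos (Fact.out : q.Prime).pos k)]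
  obtain ⟨n, hn⟩ := hpick w hw1
  obtain ⟨m, hm⟩ := hpick y hy1
  have hz : Subgroup.zpowers (w ^ n) = Subgroup.zpowers (y ^ m) := by
    have key : ∀ u : P, orderOf u = q → Subgroup.zpowers u = (powMonoidHom q : P →* P).ker := fun u hu => by
      refine Subgroup.eq_of_le_of_card_ge (Subgroup.zpowers_le.2 ?_) ?_
      · rw [MonoidHom.mem_ker, powMonoidHom_apply, ← hu, pow_orderOf_eq_one]
      · rw [Nat.card_zpowers, hu, IsCyclic.card_powMonoidHom_ker]
        exact Nat.gcd_le_right _ (Fact.out : q.Prime).pos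
    rw [key _ hn, key _ hm]
  obtain ⟨k, hk⟩ := Subgroup.mem_zpowers_iff.1 (hz ▸ Subgroup.mem_zpowers (w ^ n))
  have h1 : σ (w ^ n) = w ^ n := by rw [← hk, map_zpow, map_pow, hy]
  rw [map_pow, hw, inv_pow] at h1
  have h2 := hsq (w ^ n) (by nth_rewrite 1 [← h1]; exact inv_mul_cancel _)
  rw [h2, orderOf_one] at hn
  exact (Fact.out : q.Prime).ne_one hn.symm

theorem swap_even [Finite G] {a b : Ω} (hab : a ≠ b) {s : G} (ha : s • a = b) (hb : s • b = a) :
    2 ∣ Nat.card G := by
  refine dvd_trans ?_ (orderOf_dvd_natCard s)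
  by_contra hodd
  obtain ⟨k, hk⟩ : Odd (orderOf s) := Nat.odd_iff.2 (by omega)
  have h1 : ∀ j, s ^ (2 * j) • a = a := by
    intro j
    induction j with
    | zero => simp
    | succ j ih => rw [Nat.mul_succ, pow_add, mul_smul, pow_two, mul_smul, ha, hb, ih]
  have h2 := pow_orderOf_eq_one s
  rw [hk, pow_succ'] at h2
  have h3 := congrArg (· • a) h2
  simp only [mul_smul, h1, ha, one_smul] at h3
  exact hab h3.symm

/-- In a group without normal `q`-complements for the primes `q` of the odd two-point stabiliser, that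
stabiliser is cyclic, self-centralising and inverted by every element interchanging the two points. -/
theorem cyclic_inverted [Finite G] [Fintype Ω] [FaithfulSMul G Ω] (h2 : IsMultiplyPretransitive G Ω 2)
    (h3 : ThreePoint G Ω) (hfix : ∃ g : G, g ≠ 1 ∧ ∃ a b : Ω, a ≠ b ∧ g • a = a ∧ g • b = b)
    {a b : Ω} (hab : a ≠ b) (hodd : Odd (Nat.card ↥(stabilizer G a ⊓ stabilizer G b)))
    (hnil : ∀ q : ℕ, q.Prime → q ∣ Nat.card ↥(stabilizer G a ⊓ stabilizer G b) →
      ¬ ∃ N : Subgroup G, N.Normal ∧ N.index = q ^ (Nat.card G).factorization q) :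
    IsCyclic ↥(stabilizer G a ⊓ stabilizer G b) ∧
      Subgroup.centralizer ((stabilizer G a ⊓ stabilizer G b : Subgroup G) : Set G) =
        stabilizer G a ⊓ stabilizer G b ∧
      ∀ s : G, s • a = b → s • b = a → s * s = 1 ∧
        ∀ h ∈ stabilizer G a ⊓ stabilizer G b, s * h * s⁻¹ = h⁻¹ := by
  classical
  obtain ⟨g₀, hg₀, hg₀a, hg₀b⟩ := exists_fix_pair h2 hfix hab
  obtain ⟨U, -, hUa, hUt, hUf, hUn⟩ := kernel_le h2 h3 hfix ⊤ hab (Subgroup.mem_top g₀) hg₀ hg₀a hg₀b
  obtain ⟨D, hD⟩ : ∃ D : Subgroup G, D = stabilizer G a ⊓ stabilizer G b := ⟨_, rfl⟩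
  rw [← hD] at hodd hnil ⊢
  have hmem : ∀ g : G, g ∈ D ↔ g • a = a ∧ g • b = b := fun g => by rw [hD]; exact Iff.rfl
  have hg₀D : g₀ ∈ D := (hmem g₀).2 ⟨hg₀a, hg₀b⟩
  haveI : Nontrivial D := ⟨⟨g₀, hg₀D⟩, 1, fun h => hg₀ (congrArg Subtype.val h)⟩
  obtain ⟨c, hca, hcb⟩ := three_le_card hfix hab
  -- a Z-group
  have hUnt : Nontrivial U := by
    obtain ⟨k, hk, hkb⟩ := hUt c hca
    exact ⟨⟨k, hk⟩, 1, fun h => hcb (by rw [← hkb, show k = 1 from congrArg Subtype.val h, one_smul])⟩
  have hne : ∀ k ∈ U, k • b ≠ a := fun k hk h => hab (MulAction.injective k (h.trans (hUa k hk).symm)).symm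
  let ρU : D →* MulAut U :=
    { toFun := fun g =>
        { toFun := fun k => ⟨(g : G) * k * (g : G)⁻¹, hUn _ ((hmem _).1 g.2).1 ((hmem _).1 g.2).2 k k.2⟩
          invFun := fun k => ⟨(g : G)⁻¹ * k * ((g : G)⁻¹)⁻¹,
            hUn _ ((hmem _).1 (g⁻¹).2).1 ((hmem _).1 (g⁻¹).2).2 k k.2⟩
          left_inv := fun u => Subtype.ext (by simp [mul_assoc])
          right_inv := fun u => Subtype.ext (by simp [mul_assoc])
          map_mul' := fun u u' => Subtype.ext (by simp [mul_assoc]) }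
      map_one' := MulEquiv.ext fun u => Subtype.ext (by simp)
      map_mul' := fun g g' => MulEquiv.ext fun u => Subtype.ext (by simp [mul_assoc]) }
  haveI : IsZGroup D := by
    haveI := hUnt
    obtain ⟨K, i1, i2, m, ρ, hm, hρ⟩ := Cfsg.Agent.Perm.Fpf.hasFpf_of_action ρU (fun g hg k hk => by
      by_contra hk1
      refine hg (Subtype.ext (h3 _ a b ((k : G) • b) hab (fun hb => hk1 (Subtype.ext (hUf k k.2 hb.symm)))
        (hne k k.2).symm ((hmem _).1 g.2).1 ((hmem _).1 g.2).2 ?_))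
      have e' : (g : G) * k * (g : G)⁻¹ = k := congrArg Subtype.val hk
      rw [smul_smul, mul_inv_eq_iff_eq_mul.1 e', mul_smul, ((hmem _).1 g.2).2])
    haveI : Nonempty (Fin m) := ⟨⟨0, hm⟩⟩
    have hz : IsZGroup (⊤ : Subgroup D) := hρ.isZGroup_of_odd (by
      rw [Nat.card_congr Subgroup.topEquiv.toEquiv]; exact hodd.not_two_dvd_nat)
    exact IsZGroup.of_injective (f := (Subgroup.topEquiv (G := D)).symm.toMonoidHom)
      (Subgroup.topEquiv (G := D)).symm.injective
  -- the index of the stabiliser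
  haveI : IsPretransitive G Ω := isPretransitive_of_is_two_pretransitive
  have hidx : D.index = Fintype.card Ω * (Fintype.card Ω - 1) := by
    have h1 : (stabilizer G a).index = Fintype.card Ω := by
      rw [MulAction.index_stabilizer_of_transitive, Nat.card_eq_fintype_card]
    have h4 : D.relIndex (stabilizer G a) = Fintype.card Ω - 1 := by
      rw [Subgroup.relIndex, show D.subgroupOf (stabilizer G a) = stabilizer (stabilizer G a) b from
        Subgroup.ext fun g => ⟨fun hg => ((hmem _).1 hg).2, fun hg => (hmem _).2 ⟨g.2, hg⟩⟩,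
        MulAction.index_stabilizer, show orbit (stabilizer G a) b = ({a}ᶜ : Set Ω) from ?_, Set.ncard_compl,
        Set.ncard_singleton, Nat.card_eq_fintype_card]
      ext ω
      constructor
      · rintro ⟨g, rfl⟩ h
        exact hab (MulAction.injective (g : G) (h.trans g.2.symm)).symm
      · intro hω
        obtain ⟨g, hg1, hg2⟩ := is_two_pretransitive_iff.1 h2 hab (Ne.symm hω)
        exact ⟨⟨g, hg1⟩, hg2⟩
    rw [← Subgroup.relIndex_mul_index (show D ≤ stabilizer G a from hD ▸ inf_le_left), h4, h1, mul_comm]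
  have hdvd : Nat.card D ∣ Fintype.card Ω - 2 := by
    letI : MulAction D {y : Ω // y ≠ a ∧ y ≠ b} :=
      { smul := fun g y => ⟨(g : G) • (y : Ω),
          fun h => y.2.1 (MulAction.injective (g : G) (h.trans ((hmem _).1 g.2).1.symm)),
          fun h => y.2.2 (MulAction.injective (g : G) (h.trans ((hmem _).1 g.2).2.symm))⟩
        one_smul := fun y => Subtype.ext (one_smul G (y : Ω))
        mul_smul := fun g g' y => Subtype.ext (mul_smul (g : G) (g' : G) (y : Ω)) }
    have h1 := Cfsg.Agent.Perm.card_dvd_of_free (X := {y : Ω // y ≠ a ∧ y ≠ b})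
      (A := D) fun g y hy =>
      Subtype.ext (h3 g a b y hab (Ne.symm y.2.2) (Ne.symm y.2.1) ((hmem _).1 g.2).1 ((hmem _).1 g.2).2
        (congrArg Subtype.val hy))
    rwa [Nat.card_eq_fintype_card (α := {y : Ω // y ≠ a ∧ y ≠ b}), Fintype.card_subtype,
      show (Finset.univ.filter fun y : Ω => y ≠ a ∧ y ≠ b) = ({a, b} : Finset Ω)ᶜ by ext; simp,
      Finset.card_compl, Finset.card_pair hab] at h1
  have hcop : Nat.Coprime (Nat.card D) D.index := by
    rw [hidx]
    refine Nat.coprime_of_dvd fun q hq h1 h2' => ?_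
    have hq2 : q ≠ 2 := fun h => hodd.not_two_dvd_nat (h ▸ h1)
    have h5 : q ∣ Fintype.card Ω - 2 := h1.trans hdvd
    have hn2 : 2 ≤ Fintype.card Ω := by
      have := Fintype.one_lt_card_iff.2 ⟨a, b, hab⟩
      omega
    rcases (Nat.Prime.dvd_mul hq).1 h2' with h6 | h6
    · have h7 := Nat.dvd_sub h6 h5
      rw [show Fintype.card Ω - (Fintype.card Ω - 2) = 2 by omega] at h7
      exact hq2 ((Nat.prime_dvd_prime_iff_eq hq Nat.prime_two).1 h7)
    · have h7 := Nat.dvd_sub h6 h5
      rw [show Fintype.card Ω - 1 - (Fintype.card Ω - 2) = 1 by omega] at h7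
      exact hq.not_dvd_one h7
  -- conjugation by a swap
  obtain ⟨s, hsa, hsb⟩ := is_two_pretransitive_iff.1 h2 hab hab.symm
  have hsD : ∀ {r : G}, r • a = b → r • b = a → ∀ x : D, r * (x : G) * r⁻¹ ∈ D := fun hra hrb x => by
    have hx : (x : G) ∈ stabilizer G a ⊓ stabilizer G b := (hmem _).1 x.2
    exact (hmem _).2 (swap_conj hra hrb hx)
  let φ : ∀ r : G, r • a = b → r • b = a → (D →* D) := fun r hra hrb =>
    MonoidHom.mk' (fun x => ⟨_, hsD hra hrb x⟩) fun x y => Subtype.ext (by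
      show r * ((x : G) * y) * r⁻¹ = r * x * r⁻¹ * (r * y * r⁻¹)
      group)
  have hφmod : ∀ r hra hrb (x : D), Abelianization.of (φ r hra hrb x) = Abelianization.of (φ s hsa hsb x) := by
    intro r hra hrb x
    obtain ⟨d, hd⟩ : ∃ d : D, (d : G) = r * s⁻¹ := ⟨⟨r * s⁻¹, (hmem _).2 ⟨by
      rw [mul_smul, inv_smul_eq_iff.2 hsb.symm, hrb], by rw [mul_smul, inv_smul_eq_iff.2 hsa.symm, hra]⟩⟩, rfl⟩
    have h1 : φ r hra hrb x = d * φ s hsa hsb x * d⁻¹ := Subtype.ext (by
      show r * (x : G) * r⁻¹ = (d : G) * (s * x * s⁻¹) * (d : G)⁻¹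
      rw [hd]; group)
    rw [h1, map_mul, map_mul, map_inv, mul_inv_cancel_comm]
  -- inversion modulo the commutator subgroup
  let K : Subgroup D :=
    { carrier := {x | Abelianization.of (φ s hsa hsb x) * Abelianization.of x = 1}
      one_mem' := by simp
      mul_mem' := fun {x y} hx hy => by
        show Abelianization.of (φ s hsa hsb (x * y)) * Abelianization.of (x * y) = 1
        rw [map_mul (φ s hsa hsb), map_mul, map_mul, mul_mul_mul_comm, hx, hy, one_mul]
      inv_mem' := fun {x} hx => by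
        show Abelianization.of (φ s hsa hsb x⁻¹) * Abelianization.of x⁻¹ = 1
        rw [map_inv (φ s hsa hsb), map_inv, map_inv, ← mul_inv, hx, inv_one] }
  have hKQ : ∀ (q : ℕ) [Fact q.Prime] (Q : Sylow q D), (Q : Subgroup D) ≤ K := by
    intro q hq Q
    by_cases hqD : q ∣ Nat.card D
    swap
    · intro x hx
      obtain ⟨k, hk⟩ := IsPGroup.iff_card.1 Q.2
      rcases k with _ | k
      · rw [pow_zero, Subgroup.card_eq_one] at hk
        rw [hk, Subgroup.mem_bot] at hx
        rw [hx]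
        exact one_mem K
      · exact absurd ((dvd_pow_self q (Nat.succ_ne_zero k)).trans (hk ▸ Subgroup.card_subgroup_dvd_card _)) hqD
    by_cases hqc : q ∣ Nat.card (commutator D)
    · -- the Sylow subgroup lies in the commutator subgroup
      intro x hx
      have hq' : ¬ q ∣ (commutator D).index := fun h =>
        Nat.Prime.not_coprime_iff_dvd.2 ⟨q, hq.out, hqc, h⟩ (IsZGroup.coprime_commutator_index D)
      have h1 : Abelianization.of x = 1 := by
        obtain ⟨k, hk⟩ := Q.2 ⟨x, hx⟩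
        have hk' : x ^ q ^ k = 1 := congrArg Subtype.val hk
        have h2' := pow_gcd_eq_one.2 ⟨show Abelianization.of x ^ q ^ k = 1 by rw [← map_pow, hk', map_one],
          show Abelianization.of x ^ (commutator D).index = 1 from pow_card_eq_one' (x := Abelianization.of x)⟩
        rwa [Nat.Coprime.gcd_eq_one (Nat.Coprime.pow_left k (hq.out.coprime_iff_not_dvd.2 hq')), pow_one] at h2'
      have h2' : Abelianization.of (φ s hsa hsb x) = Abelianization.map (φ s hsa hsb) (Abelianization.of x) :=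
        (Abelianization.map_of _ _).symm
      show Abelianization.of (φ s hsa hsb x) * Abelianization.of x = 1
      rw [h2', h1, map_one, one_mul]
    · -- transfer
      let P₀ : Subgroup G := (Q : Subgroup D).map D.subtype
      have hP₀ : IsPGroup q P₀ := Q.2.map _
      have hP₀idx : ¬ q ∣ P₀.index := by
        rw [Subgroup.index_map_subtype, Nat.Prime.dvd_mul hq.out, not_or]
        exact ⟨Q.not_dvd_index, fun h => Nat.Prime.not_coprime_iff_dvd.2 ⟨q, hq.out, hqD, h⟩ hcop⟩
      let P : Sylow q G := hP₀.toSylow hP₀idx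
      have hPc : (P : Subgroup G) = P₀ := IsPGroup.toSylow_coe hP₀ hP₀idx
      have hnc : ¬ Subgroup.normalizer (P : Set G) ≤ Subgroup.centralizer (P : Set G) := fun hle => by
        refine hnil q hq.out hqD ⟨(MonoidHom.transferSylow P hle).ker, inferInstance, ?_⟩
        rw [(MonoidHom.ker_transferSylow_isComplement' P hle).symm.index_eq_card]
        exact P.card_eq_multiplicity
      obtain ⟨n, hn, hnc'⟩ := SetLike.not_le_iff_exists.1 hnc
      rw [Subgroup.mem_centralizer_iff] at hnc'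
      push Not at hnc'
      obtain ⟨x, hx, hxn⟩ := hnc'
      have hx0 : x ∈ P₀ := hPc ▸ hx
      obtain ⟨x', hx'Q, rfl⟩ := hx0
      have hnormP : ∀ y ∈ (Q : Subgroup D), ∃ y' ∈ (Q : Subgroup D), (y' : G) = n * (y : G) * n⁻¹ := by
        intro y hy
        have h1 : n * (y : G) * n⁻¹ ∈ (P : Subgroup G) :=
          (Subgroup.mem_normalizer_iff.1 hn (y : G)).1 (hPc ▸ ⟨y, hy, rfl⟩)
        rw [hPc] at h1
        exact h1
      have hcomm : ∀ d ∈ D, d * (x' : G) * d⁻¹ = n * (x' : G) * n⁻¹ → False := by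
        intro d hd he
        obtain ⟨y', hy', hye⟩ := hnormP x' hx'Q
        have h1 : y' = (⟨d, hd⟩ : D) * x' * (⟨d, hd⟩ : D)⁻¹ := Subtype.ext (hye.trans he.symm)
        have h3' : y' * x'⁻¹ ∈ commutator D := by
          rw [h1, commutator_eq_closure]
          exact Subgroup.subset_closure ⟨⟨d, hd⟩, x', rfl⟩
        have h4 : y' * x'⁻¹ = 1 := by
          obtain ⟨k, hk⟩ := Q.2 ⟨_, mul_mem hy' (inv_mem hx'Q)⟩
          have hk' : (y' * x'⁻¹) ^ q ^ k = 1 := congrArg Subtype.val hk
          have h5 := pow_gcd_eq_one.2 ⟨hk', show (y' * x'⁻¹) ^ Nat.card (commutator D) = 1 from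
            congrArg Subtype.val (pow_card_eq_one' (x := (⟨_, h3'⟩ : commutator D)))⟩
          rwa [Nat.Coprime.gcd_eq_one (Nat.Coprime.pow_left k (hq.out.coprime_iff_not_dvd.2 hqc)), pow_one] at h5
        refine hxn ?_
        rw [mul_inv_eq_one] at h4
        rw [h4] at hye
        exact eq_mul_inv_iff_mul_eq.1 hye
      have hx'1 : (x' : G) ≠ 1 := fun h => hxn (by
        rw [show (D.subtype x' : G) = 1 from h, one_mul, mul_one])
      obtain ⟨y₁, hy₁, hy₁e⟩ := hnormP x' hx'Q
      have hfs := fix_or_swap h3 hab n ((hmem _).1 x'.2) hx'1 ((hmem _).1 (hy₁e ▸ y₁.2))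
      rcases hfs with hfix' | ⟨hna, hnb⟩
      · exact (hcomm n ((hmem _).2 hfix') rfl).elim
      have hn2D : n * n ∈ D := (hmem _).2 ⟨by rw [mul_smul, hna, hnb], by rw [mul_smul, hnb, hna]⟩
      have hmap : ∀ y : (Q : Subgroup D), φ n hna hnb y ∈ (Q : Subgroup D) := fun y => by
        obtain ⟨y', hy', hye⟩ := hnormP y y.2
        exact (Subtype.ext hye : y' = φ n hna hnb y) ▸ hy'
      let σ : (Q : Subgroup D) →* (Q : Subgroup D) :=
        ((φ n hna hnb).domRestrict (Q : Subgroup D)).codRestrict _ hmap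
      have hσ2 : ∀ y, σ (σ y) = y := by
        intro y
        refine Subtype.ext ?_
        have h1 : (φ n hna hnb (φ n hna hnb y)) = ⟨n * n, hn2D⟩ * y * ⟨n * n, hn2D⟩⁻¹ := Subtype.ext (by
          show n * (n * (y : G) * n⁻¹) * n⁻¹ = n * n * y * (n * n)⁻¹
          group)
        show φ n hna hnb (φ n hna hnb y) = (y : D)
        have h3' : φ n hna hnb (φ n hna hnb y) * (y : D)⁻¹ ∈ commutator D := by
          rw [h1, commutator_eq_closure]
          exact Subgroup.subset_closure ⟨⟨n * n, hn2D⟩, y, rfl⟩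
        have h4 : φ n hna hnb (φ n hna hnb y) * (y : D)⁻¹ ∈ (Q : Subgroup D) :=
          mul_mem (hmap ⟨_, hmap y⟩) (inv_mem y.2)
        obtain ⟨k, hk⟩ := Q.2 ⟨_, h4⟩
        have hk' := congrArg Subtype.val hk
        have h5 := pow_gcd_eq_one.2 ⟨hk', show (φ n hna hnb (φ n hna hnb y) * (y : D)⁻¹) ^ Nat.card (commutator D) = 1 from
            congrArg Subtype.val (pow_card_eq_one' (x := (⟨_, h3'⟩ : commutator D)))⟩
        rw [Nat.Coprime.gcd_eq_one (Nat.Coprime.pow_left k (hq.out.coprime_iff_not_dvd.2 hqc)), pow_one] at h5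
        exact mul_inv_eq_one.1 h5
      have hinv := inverted_of_involutive Q.2
        (Odd.of_dvd_nat hodd (Subgroup.card_subgroup_dvd_card _)) σ hσ2
        ⟨⟨x', hx'Q⟩, fun h => hxn (by
          have h1 : n * (x' : G) * n⁻¹ = x' := congrArg (fun y : (Q : Subgroup D) => ((y : D) : G)) h
          exact (mul_inv_eq_iff_eq_mul.1 h1).symm)⟩
      intro y hy
      show Abelianization.of (φ s hsa hsb y) * Abelianization.of y = 1
      rw [← hφmod n hna hnb, show φ n hna hnb y = y⁻¹ from congrArg Subtype.val (hinv ⟨y, hy⟩), map_inv,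
        inv_mul_cancel]
  have hKtop : ∀ x : D, Abelianization.of (φ s hsa hsb x) = (Abelianization.of x)⁻¹ := by
    have : K = ⊤ := by
      rw [← Subgroup.card_eq_iff_eq_top]
      refine Nat.dvd_antisymm (Subgroup.card_subgroup_dvd_card K) ?_
      refine (Nat.factorization_le_iff_dvd Nat.card_pos.ne' Nat.card_pos.ne').1 fun q => ?_
      by_cases hq : q.Prime
      · haveI := Fact.mk hq
        refine (hq.pow_dvd_iff_le_factorization Nat.card_pos.ne').1 ?_
        rw [← (default : Sylow q D).card_eq_multiplicity]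
        exact Subgroup.card_dvd_of_le (hKQ q default)
      · rw [Nat.factorization_eq_zero_of_not_prime _ hq]
        exact Nat.zero_le _
    intro x
    have hx : x ∈ K := this ▸ Subgroup.mem_top x
    exact eq_inv_of_mul_eq_one_left hx
  -- the commutator subgroup is central
  haveI : IsCyclic (commutator D) := IsZGroup.isCyclic_commutator D
  let χ : D →* MulAut (commutator D) := MulAut.conjNormal
  have hχ : ∀ x : D, x ∈ commutator D → χ x = 1 := by
    intro x hx
    refine MulEquiv.ext fun y => Subtype.ext ?_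
    letI : CommGroup (commutator D) := IsCyclic.commGroup
    show x * (y : D) * x⁻¹ = y
    rw [mul_inv_eq_iff_eq_mul]
    exact congrArg Subtype.val (mul_comm (⟨x, hx⟩ : commutator D) y)
  have hχ1 : ∀ x : D, χ x = 1 := by
    intro x
    have hφc : ∀ y ∈ commutator D, φ s hsa hsb y ∈ commutator D := fun y hy => by
      have hle : Subgroup.map (φ s hsa hsb) ⁅(⊤ : Subgroup D), (⊤ : Subgroup D)⁆ ≤ ⁅(⊤ : Subgroup D), (⊤ : Subgroup D)⁆ :=
        (Subgroup.map_commutator ⊤ ⊤ _).trans_le (Subgroup.commutator_mono le_top le_top)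
      rw [commutator_def] at hy ⊢
      exact hle ⟨y, hy, rfl⟩
    have h1 : χ (φ s hsa hsb x) = χ x := by
      haveI : Finite (commutator D) := inferInstance
      let ψ0 : commutator D →* commutator D :=
        ((φ s hsa hsb).domRestrict (commutator D)).codRestrict _ fun y => hφc y y.2
      have hψ : Function.Injective ψ0 := fun y y' h => by
        have h' : s * ((y : D) : G) * s⁻¹ = s * ((y' : D) : G) * s⁻¹ :=
          congrArg (fun z : commutator D => ((z : D) : G)) h
        exact Subtype.ext (Subtype.ext (mul_left_cancel (mul_right_cancel h')))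
      let ψ : MulAut (commutator D) := MulEquiv.ofBijective ψ0 (Finite.injective_iff_bijective.1 hψ)
      have h2' : χ (φ s hsa hsb x) * ψ = ψ * χ x := MulEquiv.ext fun y => Subtype.ext (by
        show φ s hsa hsb x * φ s hsa hsb (y : D) * (φ s hsa hsb x)⁻¹ = φ s hsa hsb (x * (y : D) * x⁻¹)
        rw [map_mul, map_mul, map_inv])
      rw [Cfsg.Agent.Perm.Fpf.isMulCommutative_mulAut_of_cyclic ψ (χ x)] at h2'
      exact mul_right_cancel h2'
    obtain ⟨c', hc', hxc⟩ : ∃ c' ∈ commutator D, φ s hsa hsb x = x⁻¹ * c' := by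
      refine ⟨x * φ s hsa hsb x, ?_, by group⟩
      rw [← Abelianization.ker_of, MonoidHom.mem_ker, map_mul, hKtop, mul_inv_cancel]
    rw [hxc, map_mul, hχ c' hc', mul_one, map_inv, inv_eq_iff_mul_eq_one] at h1
    have h3' := pow_gcd_eq_one.2 ⟨show χ x ^ 2 = 1 by rw [sq, h1],
      show χ x ^ Nat.card D = 1 by rw [← map_pow, pow_card_eq_one', map_one]⟩
    rwa [Nat.Coprime.gcd_eq_one (Nat.prime_two.coprime_iff_not_dvd.2 hodd.not_two_dvd_nat), pow_one] at h3'
  have hcen : (Abelianization.of (G := D)).ker ≤ Subgroup.center D := by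
    rw [Abelianization.ker_of]
    intro y hy
    rw [Subgroup.mem_center_iff]
    intro x
    have h1 : x * y * x⁻¹ = y := congrArg (fun f : MulAut (commutator D) => ((f ⟨y, hy⟩ : commutator D) : D)) (hχ1 x)
    exact mul_inv_eq_iff_eq_mul.1 h1
  have hDc : ∀ x y : D, x * y = y * x := commutative_of_cyclic_center_quotient (Abelianization.of (G := D)) hcen
  haveI : IsMulCommutative D := ⟨⟨hDc⟩⟩
  have hbot : commutator D = ⊥ := (commutator_eq_bot_iff_center_eq_top (G := D)).2
    (eq_top_iff.2 fun x _ => Subgroup.mem_center_iff.2 fun y => hDc y x)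
  have hsinv : ∀ r : G, ∀ (hra : r • a = b) (hrb : r • b = a) (x : D), φ r hra hrb x = x⁻¹ := by
    intro r hra hrb x
    have h1 : x * φ r hra hrb x ∈ commutator D := by
      rw [← Abelianization.ker_of, MonoidHom.mem_ker, map_mul, hφmod r hra hrb, hKtop, mul_inv_cancel]
    rw [hbot, Subgroup.mem_bot] at h1
    exact eq_inv_of_mul_eq_one_right h1
  have hcyc : IsCyclic D := by
    haveI : Group.IsNilpotent D := by
      letI : CommGroup D := { (inferInstance : Group D) with mul_comm := hDc }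
      infer_instance
    infer_instance
  have hconj : ∀ r : G, r • a = b → r • b = a → ∀ h ∈ D, r * h * r⁻¹ = h⁻¹ := fun r hra hrb h hh =>
    congrArg Subtype.val (hsinv r hra hrb ⟨h, hh⟩)
  have hsq : ∀ x ∈ D, x = x⁻¹ → x = 1 := fun x hx he => by
    have h1 : (⟨x, hx⟩ : D) ^ 2 = 1 := Subtype.ext (by
      show x ^ 2 = 1
      rw [sq]
      exact mul_eq_one_iff_eq_inv.2 he)
    have h := pow_gcd_eq_one.2 ⟨h1, pow_card_eq_one' (x := (⟨x, hx⟩ : D))⟩
    rw [Nat.Coprime.gcd_eq_one (Nat.prime_two.coprime_iff_not_dvd.2 hodd.not_two_dvd_nat), pow_one] at h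
    exact congrArg Subtype.val h
  refine ⟨hcyc, le_antisymm (fun g hg => ?_) (fun g hg => ?_), fun r hra hrb => ⟨?_, hconj r hra hrb⟩⟩
  · have h1 := hg g₀ hg₀D
    have h2' : g * g₀ * g⁻¹ = g₀ := by rw [← h1, mul_inv_cancel_right]
    rcases fix_or_swap h3 hab g ((hmem _).1 hg₀D) hg₀ ((hmem _).1 (h2'.symm ▸ hg₀D)) with h | h
    · exact (hmem _).2 h
    · exact absurd (hsq g₀ hg₀D (h2'.symm.trans (hconj g h.1 h.2 g₀ hg₀D))) hg₀
  · intro y hy
    exact congrArg Subtype.val (hDc ⟨y, hy⟩ ⟨g, hg⟩)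
  · have hrr : r * r ∈ D := (hmem _).2 ⟨by rw [mul_smul, hra, hrb], by rw [mul_smul, hrb, hra]⟩
    exact hsq _ hrr (by
      have h1 := hconj r hra hrb _ hrr
      rwa [show r * (r * r) * r⁻¹ = r * r by group] at h1)

/-- In a simple group the hypothesis on normal complements holds. -/
theorem no_complement [Finite G] [IsSimpleGroup G] [FaithfulSMul G Ω] (h2 : IsMultiplyPretransitive G Ω 2)
    {a b : Ω} (hab : a ≠ b) (hodd : Odd (Nat.card ↥(stabilizer G a ⊓ stabilizer G b))) :
    ∀ q : ℕ, q.Prime → q ∣ Nat.card ↥(stabilizer G a ⊓ stabilizer G b) →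
      ¬ ∃ N : Subgroup G, N.Normal ∧ N.index = q ^ (Nat.card G).factorization q := by
  rintro q hq hqD ⟨N, hN, hNi⟩
  have hqG : q ∣ Nat.card G := hqD.trans (Subgroup.card_subgroup_dvd_card _)
  have hk : (Nat.card G).factorization q ≠ 0 := (hq.factorization_pos_of_dvd Nat.card_pos.ne' hqG).ne'
  rcases hN.eq_bot_or_eq_top with h | h
  · rw [h, Subgroup.index_bot] at hNi
    obtain ⟨s, hsa, hsb⟩ := is_two_pretransitive_iff.1 h2 hab hab.symm
    have h4 := swap_even hab hsa hsb
    rw [hNi] at h4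
    have h5 := (Nat.prime_dvd_prime_iff_eq Nat.prime_two hq).1 (Nat.prime_two.dvd_of_dvd_pow h4)
    exact hodd.not_two_dvd_nat (h5 ▸ hqD)
  · rw [h, Subgroup.index_top] at hNi
    exact hq.ne_one ((Nat.pow_eq_one.1 hNi.symm).resolve_right hk)

end Cfsg.Agent.Lie.ZassenhausOdd
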