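import Mathlib
import Cfsg.Prelude.Def_LieExceptional
import Cfsg.Agent.Lib.Lie.Zassenhaus
import Cfsg.Agent.Lib.Lie.ZassenhausOdd
import Cfsg.Agent.Lib.Lie.ZassenhausKernel
import Cfsg.Agent.Lib.Lie.AbelianField
import Cfsg.Agent.Lib.Lie.MobiusRecognition
import Cfsg.Agent.Lib.Lie.SharpPGL
import Cfsg.Agent.Lib.Classical.Dickson.Tools

/-!
Simple Zassenhaus groups with two-point stabilisers of odd order at least half the degree minus two
are projective special linear groups.
-/

set_option autoImplicit false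
set_option linter.style.haveILetI false
set_option maxHeartbeats 1000000

namespace Cfsg.Agent.Lie.ZassenhausOddHalf

open MulAction
open Cfsg.Agent.Lie.Zassenhaus Cfsg.Agent.Lie.SharpCoords

universe u v

/-- The order of a point stabiliser of a two-transitive group. -/
theorem card_stabilizer {G : Type u} {Ω : Type v} [Group G] [Finite G] [MulAction G Ω] [Fintype Ω]
    (h2 : IsMultiplyPretransitive G Ω 2) {a b : Ω} (hab : a ≠ b) :
    Nat.card ↥(stabilizer G a) = (Fintype.card Ω - 1) * Nat.card ↥(stabilizer G a ⊓ stabilizer G b) ∧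
      Nat.card G = Fintype.card Ω * Nat.card ↥(stabilizer G a) := by
  classical
  haveI := h2
  haveI : IsPretransitive G Ω := isPretransitive_of_is_two_pretransitive
  set D := stabilizer G a ⊓ stabilizer G b with hDdef
  have h1 : (stabilizer G a).index = Fintype.card Ω := by
    rw [MulAction.index_stabilizer_of_transitive, Nat.card_eq_fintype_card]
  have h4 : D.relIndex (stabilizer G a) = Fintype.card Ω - 1 := by
    rw [Subgroup.relIndex, show D.subgroupOf (stabilizer G a) = stabilizer (stabilizer G a) b from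
      Subgroup.ext fun g => ⟨fun hg => hg.2, fun hg => ⟨g.2, hg⟩⟩, MulAction.index_stabilizer,
      show orbit (stabilizer G a) b = ({a}ᶜ : Set Ω) from ?_, Set.ncard_compl, Set.ncard_singleton,
      Nat.card_eq_fintype_card]
    ext ω
    constructor
    · rintro ⟨g, rfl⟩ h
      exact hab (MulAction.injective (g : G) (h.trans g.2.symm)).symm
    · intro hω
      obtain ⟨g, hg1, hg2⟩ := is_two_pretransitive_iff.1 h2 hab (Ne.symm hω)
      exact ⟨⟨g, hg1⟩, hg2⟩
  have h5 := (D.subgroupOf (stabilizer G a)).card_mul_index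
  rw [show (D.subgroupOf (stabilizer G a)).index = Fintype.card Ω - 1 from h4,
    Nat.card_congr (Subgroup.subgroupOfEquivOfLe (inf_le_left : D ≤ stabilizer G a)).toEquiv] at h5
  refine ⟨by rw [← h5, mul_comm], ?_⟩
  rw [← h1, mul_comm]
  exact ((stabilizer G a).card_mul_index).symm

theorem isSquare_neg_of_not {F : Type} [Field F] [Fintype F] (hchar : ringChar F ≠ 2)
    (hq : Fintype.card F % 4 = 3) {y : F} (hy : y ≠ 0) (hns : ¬ IsSquare y) : IsSquare (-y) := by
  have hm1 : ¬ IsSquare (-1 : F) := fun h => FiniteField.isSquare_neg_one_iff.1 h hq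
  rw [FiniteField.isSquare_iff hchar (neg_ne_zero.2 hy)]
  have e1 := (FiniteField.pow_dichotomy hchar hy).resolve_left
    (fun h => hns ((FiniteField.isSquare_iff hchar hy).2 h))
  have e2 := (FiniteField.pow_dichotomy hchar (neg_ne_zero.2 (one_ne_zero (α := F)))).resolve_left
    (fun h => hm1 ((FiniteField.isSquare_iff hchar (neg_ne_zero.2 one_ne_zero)).2 h))
  rw [show (-y) = (-1) * y by ring, mul_pow, e1, e2]
  ring

/-- A simple Zassenhaus group in which the two-point stabiliser has odd order equal to half the degree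
minus two is `PSL₂`. -/
theorem psl_of_half_odd {G : Type u} {Ω : Type v} [Group G] [Finite G] [IsSimpleGroup G] [MulAction G Ω]
    [Fintype Ω] (hZ : Cfsg.IsZassenhausGroup G Ω) {a b : Ω} (hab : a ≠ b)
    (hodd : Odd (Nat.card ↥(stabilizer G a ⊓ stabilizer G b)))
    (hd : 2 * Nat.card ↥(stabilizer G a ⊓ stabilizer G b) = Fintype.card Ω - 2) :
    ∃ (F : Type) (_ : Field F) (_ : Fintype F),
      Nonempty (G ≃* Matrix.ProjectiveSpecialLinearGroup (Fin 2) F) := by
  classical
  obtain ⟨hF, h2, h3, hfix, -⟩ := hZ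
  haveI := hF
  obtain ⟨-, -, hswap⟩ := ZassenhausOdd.cyclic_inverted h2 h3 hfix hab hodd
    (ZassenhausOdd.no_complement h2 hab hodd)
  obtain ⟨t, hta, htb⟩ := is_two_pretransitive_iff.1 h2 hab hab.symm
  obtain ⟨htt, hinv'⟩ := hswap t hta htb
  obtain ⟨hGa, hGcard⟩ := card_stabilizer h2 hab
  set D := stabilizer G a ⊓ stabilizer G b with hDdef
  have hDpos : 0 < Nat.card D := Nat.card_pos
  obtain ⟨g₀, hg₀, hg₀a, hg₀b⟩ := exists_fix_pair h2 hfix hab
  obtain ⟨U, -, hUa, hUt, hUf, hUn⟩ := kernel_le h2 h3 hfix ⊤ hab (Subgroup.mem_top g₀) hg₀ hg₀a hg₀b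
  let ι : U → {ω : Ω // ω ≠ a} := fun k => ⟨(k : G) • b, fun h => hab
    (MulAction.injective (k : G) (h.trans (hUa k k.2).symm)).symm⟩
  have hιinj : Function.Injective ι := fun k k' e => by
    have e' : (k : G) • b = (k' : G) • b := congrArg Subtype.val e
    have := hUf ((k' : G)⁻¹ * k) (mul_mem (inv_mem k'.2) k.2) (by rw [mul_smul, e', inv_smul_smul])
    exact Subtype.ext (inv_mul_eq_one.1 this).symm
  have hιsurj : Function.Surjective ι := fun ω => by
    obtain ⟨k, hk, hkb⟩ := hUt ω.1 ω.2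
    exact ⟨⟨k, hk⟩, Subtype.ext hkb⟩
  have hUcard : Nat.card U + 1 = Fintype.card Ω := by
    rw [Nat.card_eq_of_bijective ι ⟨hιinj, hιsurj⟩, Nat.card_eq_fintype_card, Fintype.card_subtype_compl,
      Fintype.card_subtype_eq]
    have := Fintype.card_pos_iff.2 ⟨a⟩
    omega
  let ρU : D →* MulAut U :=
    { toFun := fun g =>
        { toFun := fun k => ⟨(g : G) * k * (g : G)⁻¹, hUn _ g.2.1 g.2.2 k k.2⟩
          invFun := fun k => ⟨(g : G)⁻¹ * k * ((g : G)⁻¹)⁻¹, hUn _ (g⁻¹).2.1 (g⁻¹).2.2 k k.2⟩
          left_inv := fun u => Subtype.ext (by simp [mul_assoc])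
          right_inv := fun u => Subtype.ext (by simp [mul_assoc])
          map_mul' := fun u u' => Subtype.ext (by simp [mul_assoc]) }
      map_one' := MulEquiv.ext fun u => Subtype.ext (by simp)
      map_mul' := fun g g' => MulEquiv.ext fun u => Subtype.ext (by simp [mul_assoc]) }
  have hfree : ∀ (g : D) (k : U), k ≠ 1 → ρU g k = k → g = 1 := by
    intro g k hk hgk
    have e' : (g : G) * k * (g : G)⁻¹ = k := congrArg Subtype.val hgk
    have hfixk : (g : G) • (k : G) • b = (k : G) • b := by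
      rw [smul_smul, mul_inv_eq_iff_eq_mul.1 e', mul_smul, g.2.2]
    exact Subtype.ext (h3 _ a b ((k : G) • b) hab (fun hb => hk (Subtype.ext (hUf k k.2 hb.symm)))
      (ι k).2.symm g.2.1 g.2.2 hfixk)
  have hUone : 1 < Nat.card U := by omega
  haveI : Nontrivial U := Finite.one_lt_card_iff_nontrivial.1 hUone
  obtain ⟨hUc, -, -, -, -, -⟩ := ZassenhausKernel.elementary_of_two_orbits ρU hfree (by omega)
  -- D is inverted by t
  have hDcomm : ∀ g g' : D, (g : G) * g' = (g' : G) * g := fun g g' => by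
    have h1 := hinv' _ (g * g').2
    rw [Subgroup.coe_mul, show t * ((g : G) * g') * t⁻¹ = (t * g * t⁻¹) * (t * g' * t⁻¹) by group,
      hinv' _ g.2, hinv' _ g'.2, mul_inv_rev] at h1
    have h4 := congrArg Inv.inv h1
    simp only [mul_inv_rev, inv_inv] at h4
    exact h4.symm
  -- the field
  letI : CommGroup U := { (inferInstance : Group U) with mul_comm := fun x y => hUc.is_comm.comm x y }
  let ρ : D →* AddMonoid.End (Additive U) :=
    { toFun := fun g => AddMonoidHom.mk' (fun k => Additive.ofMul (ρU g (Additive.toMul k)))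
        fun k k' => congrArg Additive.ofMul (map_mul (ρU g) _ _)
      map_one' := AddMonoidHom.ext fun k => congrArg Additive.ofMul (MulEquiv.ext_iff.1 (map_one ρU) _)
      map_mul' := fun g g' => AddMonoidHom.ext fun k => congrArg Additive.ofMul
        (MulEquiv.ext_iff.1 (ρU.map_mul g g') _) }
  have hρfree : ∀ (g : D) (k : Additive U), ρ g k = k → g = 1 ∨ k = 0 := fun g k hk => by
    by_cases hk1 : Additive.toMul k = 1
    · exact Or.inr hk1
    · exact Or.inl (hfree g _ hk1 hk)
  haveI : Nontrivial (Additive U) := by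
    rw [← Finite.one_lt_card_iff_nontrivial, Nat.card_congr Additive.toMul]; exact hUone
  obtain ⟨F, iF, iFF, e₀, μ, hμ⟩ := AbelianField.exists_field ρ
    (fun g g' => by rw [← map_mul, ← map_mul, show g * g' = g' * g from Subtype.ext (hDcomm g g')])
    (fun W hW => by
      by_contra hne
      rw [not_or] at hne
      obtain ⟨⟨w, hw⟩, hw0'⟩ := AddSubgroup.ne_bot_iff_exists_ne_zero.1 hne.1
      have hw0 : w ≠ 0 := fun h => hw0' (Subtype.ext h)
      have hinjW : Function.Injective (fun g : D => (⟨ρ g w, hW g _ hw⟩ : W)) := fun g g' h => by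
        have h1 : ρ (g'⁻¹ * g) (w : Additive U) = w := by
          rw [map_mul]
          show ρ g'⁻¹ (ρ g w) = _
          rw [show ρ g (w : Additive U) = ρ g' w from congrArg Subtype.val h]
          show (ρ g'⁻¹ * ρ g') (w : Additive U) = _
          rw [← map_mul, inv_mul_cancel, map_one]; rfl
        rcases hρfree _ _ h1 with h2 | h2
        · exact (inv_mul_eq_one.1 h2).symm
        · exact absurd h2 hw0
      have h0 : ∀ g : D, (⟨ρ g w, hW g _ hw⟩ : W) ≠ 0 := fun g h => by
        have h1 : (ρ g⁻¹ * ρ g) (w : Additive U) = w := by rw [← map_mul, inv_mul_cancel, map_one]; rfl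
        have h2 : ρ g (w : Additive U) = 0 := congrArg Subtype.val h
        refine hw0 ?_
        rw [← h1]
        show ρ g⁻¹ (ρ g w) = 0
        rw [h2, map_zero]
      haveI := Fintype.ofFinite W
      haveI := Fintype.ofFinite D
      have hlt : Nat.card D + 1 ≤ Nat.card W := by
        rw [Nat.card_eq_fintype_card, Nat.card_eq_fintype_card]
        have := Finset.card_le_univ (insert (0 : W) (Finset.univ.image fun g : D => (⟨ρ g w, hW g _ hw⟩ : W)))
        rwa [Finset.card_insert_of_notMem (fun h => by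
          obtain ⟨g, -, hg⟩ := Finset.mem_image.1 h
          exact h0 g hg), Finset.card_image_of_injective _ hinjW, Finset.card_univ] at this
      obtain ⟨k, hk⟩ := AddSubgroup.card_addSubgroup_dvd_card W
      rw [Nat.card_congr Additive.toMul] at hk
      have hk2 : 2 ≤ k := by
        by_contra hk2
        interval_cases k
        · omega
        · exact hne.2 (AddSubgroup.eq_top_of_card_eq W (by rw [Nat.card_congr Additive.toMul, hk, mul_one]))
      have : Nat.card W * 2 ≤ Nat.card W * k := Nat.mul_le_mul_left _ hk2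
      omega)
  letI := iF
  letI := iFF
  haveI : Fintype (Additive U) := Fintype.ofFinite _
  have hq : Fintype.card F = Nat.card U := by
    rw [← Nat.card_eq_fintype_card, ← Nat.card_congr e₀.toEquiv, Nat.card_congr Additive.toMul]
  have hq4 : Fintype.card F % 4 = 3 := by obtain ⟨m, hm⟩ := hodd; omega
  refine ⟨F, iF, iFF, ?_⟩
  have hchar : ringChar F ≠ 2 := fun h => by
    have := FiniteField.even_card_iff_char_two.1 h
    omega
  -- coordinates
  obtain ⟨c₁, hca, hcb⟩ := three_le_card hfix hab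
  obtain ⟨k₁, hk₁, hk₁c⟩ := hUt c₁ hca
  set s₁ := e₀ (Additive.ofMul (⟨k₁, hk₁⟩ : U)) with hs₁
  have hs₁0 : s₁ ≠ 0 := fun h => hcb (by
    rw [hs₁, map_eq_zero_iff e₀ e₀.injective] at h
    have h1 : (⟨k₁, hk₁⟩ : U) = 1 := h
    rw [← hk₁c, show k₁ = 1 from congrArg Subtype.val h1, one_smul])
  let π : F → G := fun x => ((Additive.toMul (e₀.symm (x * s₁)) : U) : G)
  have hπU : ∀ x, π x ∈ U := fun x => (Additive.toMul (e₀.symm (x * s₁))).2
  have hπadd : ∀ x y, π (x + y) = π x * π y := fun x y => by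
    show ((Additive.toMul (e₀.symm ((x + y) * s₁)) : U) : G) = _
    rw [add_mul, map_add]
    rfl
  let P : F → Ω := fun x => π x • b
  have hπ0 : π 0 = 1 := by
    show ((Additive.toMul (e₀.symm (0 * s₁)) : U) : G) = 1
    rw [zero_mul, map_zero]; rfl
  have hP0 : P 0 = b := by show π 0 • b = b; rw [hπ0, one_smul]
  have hπP : ∀ x y, π x • P y = P (x + y) := fun x y => by
    show π x • π y • b = π (x + y) • b
    rw [hπadd, mul_smul]
  have hPa : ∀ x, P x ≠ a := fun x => (ι (Additive.toMul (e₀.symm (x * s₁)))).2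
  have hPinj : Function.Injective P := fun x y h => by
    have h1 := hιinj (a₁ := Additive.toMul (e₀.symm (x * s₁))) (a₂ := Additive.toMul (e₀.symm (y * s₁)))
      (Subtype.ext h)
    exact mul_right_cancel₀ hs₁0 (e₀.symm.injective (Additive.toMul.injective h1))
  have hPsurj : ∀ ω, ω ≠ a → ∃ x, P x = ω := fun ω hω => by
    obtain ⟨k, hk, hkb⟩ := hUt ω hω
    refine ⟨e₀ (Additive.ofMul (⟨k, hk⟩ : U)) / s₁, ?_⟩
    show ((Additive.toMul (e₀.symm (_ / s₁ * s₁)) : U) : G) • b = ω
    rw [div_mul_cancel₀ _ hs₁0, AddEquiv.symm_apply_apply]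
    exact hkb
  have hDP : ∀ (g : D) y, (g : G) • P y = P (μ g * y) := fun g y => by
    show (g : G) • π y • b = π (μ g * y) • b
    have h1 := hμ g (e₀.symm (y * s₁))
    rw [AddEquiv.apply_symm_apply, ← mul_assoc] at h1
    have h2 : π (μ g * y) = (g : G) * π y * (g : G)⁻¹ := by
      show ((Additive.toMul (e₀.symm (μ g * y * s₁)) : U) : G) = _
      rw [← h1, AddEquiv.symm_apply_apply]
      rfl
    rw [h2, mul_smul, mul_smul, inv_smul_eq_iff.2 g.2.2.symm]
  -- the image of μ is the group of squares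
  have hμinj : Function.Injective μ := fun g g' h => by
    have h1 : ((g'⁻¹ * g : D) : G) • P 1 = P 1 := by
      rw [hDP, map_mul, h, ← map_mul, inv_mul_cancel, map_one, one_mul]
    have h2 := h3 _ a b (P 1) hab (fun e => one_ne_zero (hPinj (e.symm.trans hP0.symm)))
      (hPa 1).symm (g'⁻¹ * g).2.1 (g'⁻¹ * g).2.2 h1
    exact (inv_mul_eq_one.1 (Subtype.ext h2)).symm
  have hμ0 : ∀ g, μ g ≠ 0 := fun g h => by
    have h1 : μ (g * g⁻¹) = 0 := by rw [map_mul, h, zero_mul]
    rw [mul_inv_cancel, map_one] at h1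
    exact one_ne_zero h1
  have hD2 : Fintype.card F / 2 = Nat.card D := by omega
  have hμsq : ∀ x : F, x ≠ 0 → (IsSquare x ↔ ∃ g, μ g = x) := by
    intro x hx
    haveI := Fintype.ofFinite D
    have hpow : ∀ g : D, μ g ^ (Fintype.card F / 2) = 1 := fun g => by
      rw [hD2, ← map_pow, pow_card_eq_one', map_one]
    rw [FiniteField.isSquare_iff hchar hx]
    constructor
    · intro h
      by_contra hno
      push Not at hno
      have hsub : insert x (Finset.univ.image μ) ⊆ (Polynomial.nthRoots (Fintype.card F / 2) (1 : F)).toFinset := by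
        intro y hy
        rw [Multiset.mem_toFinset, Polynomial.mem_nthRoots (by omega)]
        rcases Finset.mem_insert.1 hy with rfl | hy
        · exact h
        · obtain ⟨g, -, rfl⟩ := Finset.mem_image.1 hy
          exact hpow g
      have h1 := (Finset.card_le_card hsub).trans
        ((Multiset.toFinset_card_le _).trans (Polynomial.card_nthRoots _ (1 : F)))
      rw [Finset.card_insert_of_notMem (fun h' => by
          obtain ⟨g, -, hg⟩ := Finset.mem_image.1 h'
          exact hno g hg), Finset.card_image_of_injective _ hμinj, Finset.card_univ,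
        ← Nat.card_eq_fintype_card] at h1
      omega
    · rintro ⟨g, rfl⟩
      exact hpow g
  -- the action of t
  have htti : t⁻¹ = t := inv_eq_of_mul_eq_one_right htt
  obtain ⟨y, hy⟩ := hPsurj (t • P 1) (fun h => one_ne_zero (hPinj (by
    rw [hP0]; exact MulAction.injective t (h.trans htb.symm))))
  have hy0 : y ≠ 0 := fun h0 => hPa 1 (by
    rw [h0, hP0, ← hta] at hy
    exact MulAction.injective t hy.symm)
  have htsq : ∀ x, x ≠ 0 → IsSquare x → t • P x = P (y / x) := by
    intro x hx hsq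
    obtain ⟨g, rfl⟩ := (hμsq x hx).1 hsq
    have hmu : μ g⁻¹ = (μ g)⁻¹ := eq_inv_of_mul_eq_one_left (by rw [← map_mul, inv_mul_cancel, map_one])
    have e1 : t * (g : G) = ((g⁻¹ : D) : G) * t := by
      rw [Subgroup.coe_inv, ← hinv' _ g.2, inv_mul_cancel_right]
    have e2 := hDP g 1
    rw [mul_one] at e2
    rw [← e2, smul_smul, e1, mul_smul, ← hy, hDP, hmu, mul_comm, div_eq_mul_inv]
  have hyns : ¬ IsSquare y := by
    rintro ⟨r, hr⟩
    have hr0 : r ≠ 0 := fun h => hy0 (by rw [hr, h, zero_mul])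
    obtain ⟨r', hr'0, hr's, hr'y⟩ : ∃ r', r' ≠ 0 ∧ IsSquare r' ∧ y = r' * r' := by
      by_cases hrs : IsSquare r
      · exact ⟨r, hr0, hrs, hr⟩
      · exact ⟨-r, neg_ne_zero.2 hr0, isSquare_neg_of_not hchar hq4 hr0 hrs, by rw [hr]; ring⟩
    have hfixp : t • P r' = P r' := by
      rw [htsq r' hr'0 hr's, hr'y, mul_div_assoc, div_self hr'0, mul_one]
    haveI : Fact (Nat.Prime 2) := ⟨Nat.prime_two⟩
    haveI : IsPretransitive G Ω := isPretransitive_of_is_two_pretransitive
    have ht1 : t ≠ 1 := fun e => hab (by rw [← hta, e, one_smul])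
    have hord : orderOf t = 2 := orderOf_eq_prime (by rw [sq, htt]) ht1
    have h1 : Nat.card ↥(stabilizer G (P r')) = Nat.card ↥(stabilizer G a) :=
      Nat.card_congr (MulAction.stabilizerEquivStabilizer (MulAction.exists_smul_eq G (P r') a).choose_spec.symm).toEquiv
    have h3' := Subgroup.orderOf_dvd_natCard (stabilizer G (P r')) (x := t) hfixp
    rw [hord, h1, hGa] at h3'
    have hUodd : Odd (Fintype.card Ω - 1) := ⟨Nat.card D, by omega⟩
    exact (hUodd.mul hodd).not_two_dvd_nat h3'
  have htP : ∀ x, x ≠ 0 → t • P x = P (y / x) := by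
    intro x hx
    by_cases hsq : IsSquare x
    · exact htsq x hx hsq
    have hs : IsSquare (y / x) := by
      rw [FiniteField.isSquare_iff hchar (div_ne_zero hy0 hx), div_pow]
      have h1 := (FiniteField.pow_dichotomy hchar hx).resolve_left (fun h => hsq ((FiniteField.isSquare_iff hchar hx).2 h))
      have h2 := (FiniteField.pow_dichotomy hchar hy0).resolve_left (fun h => hyns ((FiniteField.isSquare_iff hchar hy0).2 h))
      rw [h1, h2, div_self (neg_ne_zero.2 one_ne_zero)]
    have h1 := htsq _ (div_ne_zero hy0 hx) hs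
    rw [show y / (y / x) = x by field_simp] at h1
    rw [← h1, smul_smul, htt, one_smul]
  have hcard : 2 * Nat.card G = (Fintype.card F + 1) * (Fintype.card F * (Fintype.card F - 1)) := by
    rw [hGcard, hGa, show Fintype.card Ω = Fintype.card F + 1 by omega, Nat.add_sub_cancel,
      show Fintype.card F - 1 = 2 * Nat.card D by omega]
    ring
  refine MobiusRecognition.psl_of_coords (by omega) a P hPa hPinj hPsurj π (fun x => hUa _ (hπU x)) hπP
    (fun g hga hgb => ?_) t (by rw [hP0, hta]) (by rw [hP0, htb]) y hy0 (isSquare_neg_of_not hchar hq4 hy0 hyns)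
    htP hcard
  rw [hP0] at hgb
  let g' : D := ⟨g, hga, hgb⟩
  obtain ⟨r, hr⟩ := (hμsq (μ g') (hμ0 g')).2 ⟨g', rfl⟩
  exact ⟨r, fun h => hμ0 g' (by rw [hr, h, zero_mul]), fun y => by rw [← hr]; exact hDP g' y⟩

/-- A simple Zassenhaus group in which the two-point stabiliser has odd order equal to the degree
minus two is `PSL₂`. -/
theorem psl_of_sharp_odd {G : Type u} {Ω : Type v} [Group G] [Finite G] [IsSimpleGroup G] [MulAction G Ω]
    [Fintype Ω] (hZ : Cfsg.IsZassenhausGroup G Ω) {a b : Ω} (hab : a ≠ b)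
    (hodd : Odd (Nat.card ↥(stabilizer G a ⊓ stabilizer G b)))
    (hd : Nat.card ↥(stabilizer G a ⊓ stabilizer G b) = Fintype.card Ω - 2) :
    ∃ (F : Type) (_ : Field F) (_ : Fintype F),
      Nonempty (G ≃* Matrix.ProjectiveSpecialLinearGroup (Fin 2) F) := by
  classical
  obtain ⟨hF, h2, h3, hfix, -⟩ := hZ
  haveI := hF
  obtain ⟨hcyc, -, -⟩ := ZassenhausOdd.cyclic_inverted h2 h3 hfix hab hodd
    (ZassenhausOdd.no_complement h2 hab hodd)
  have h4 : 4 ≤ Fintype.card Ω := by
    obtain ⟨g₀, hg₀, hga, hgb⟩ := exists_fix_pair h2 hfix hab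
    have : Nontrivial ↥(stabilizer G a ⊓ stabilizer G b) :=
      ⟨⟨g₀, hga, hgb⟩, 1, fun h => hg₀ (congrArg Subtype.val h)⟩
    have := Finite.one_lt_card_iff_nontrivial.2 this
    omega
  refine with_coords h2 h3 hab hd h4 fun p f _ V _ _ _ _ ρ π t e τ T z C => ?_
  haveI := hcyc
  obtain ⟨F, iF, iFF, hFcard, ⟨φ⟩⟩ := SharpPGL.pgl_of_comm h2 hab C fun g g' =>
    (IsCyclic.commGroup (α := ↥(stabilizer G a ⊓ stabilizer G b))).mul_comm g g'
  letI := iF
  letI := iFF
  refine ⟨F, iF, iFF, ?_⟩
  have heven : Even (Fintype.card F) := by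
    have h1 := C.cardD
    have h2' := C.pf
    rw [Nat.even_iff]
    obtain ⟨m, hm⟩ := hodd
    have h5 : Nat.card (Two G a b) = Nat.card ↥(stabilizer G a ⊓ stabilizer G b) := rfl
    omega
  have hgcd : Nat.gcd 2 (Fintype.card F - 1) = 1 := by
    refine Nat.Coprime.gcd_eq_one ((Nat.prime_two.coprime_iff_not_dvd).2 ?_)
    have := Fintype.card_pos (α := F)
    obtain ⟨k, hk⟩ := heven
    omega
  have hcard : Nat.card (Matrix.ProjectiveSpecialLinearGroup (Fin 2) F) = Nat.card (Matrix.ProjGenLinGroup (Fin 2) F) := by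
    have h1 := Lead.GLBasic.card_PSL (F := F) 2
    rw [hgcd, one_mul] at h1
    rw [h1, Lead.GLBasic.card_PGL]
  haveI := Classical.Dickson.finite_pgl F
  exact ⟨φ.trans (MulEquiv.ofBijective Matrix.ProjectiveSpecialLinearGroup.toPGL
    ((Function.Injective.bijective_of_nat_card_le Matrix.ProjectiveSpecialLinearGroup.toPGL_injective hcard.ge))).symm⟩

end Cfsg.Agent.Lie.ZassenhausOddHalf
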