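import Cfsg.Agent.Lib.Lie.SuzukiFixityTwo
import Mathlib

/-!
# The partition of a Suzuki group by Sylow subgroups and cyclic tori
-/

set_option autoImplicit false
set_option linter.unusedSectionVars false

namespace Cfsg.Agent.Lie.Suzuki.Partition

open MulAction Cfsg.Agent.Lie.Suzuki

variable {F : Type*} [Field F] {m : ℕ} [Fintype F] (hF : Fintype.card F = 2 ^ (2 * m + 1)) (hm : 1 ≤ m)
include hF hm

theorem card_stab (a : Cfsg.suzukiOvoid F m) :
    Nat.card (stabilizer (Cfsg.Sz F m) a) = Fintype.card F ^ 2 * (Fintype.card F - 1) := by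
  haveI := sz_pretransitive (m := m) hF
  have e := (stabilizer (Cfsg.Sz F m) a).index_mul_card
  rw [index_stabilizer_of_transitive, card_points hF hm, card_sz hF hm] at e
  exact Nat.eq_of_mul_eq_mul_left (by positivity) (e.trans (by ring))

theorem coprime_stab {k : ℕ} (hk : k ∣ Fintype.card F ^ 2 + 1) :
    Nat.Coprime k (Fintype.card F ^ 2 * (Fintype.card F - 1)) := by
  refine Nat.coprime_of_dvd fun r hr h1 h2 => ?_
  obtain ⟨-, hq, hq1, -⟩ := (q_facts hF hm).2.2.2 r hr (h1.trans hk)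
  rcases hr.dvd_mul.1 h2 with h | h
  · exact hq (hr.dvd_of_dvd_pow h)
  · exact hq1 h

section Split

variable {a b : Cfsg.suzukiOvoid F m} (hab : a ≠ b)
include hab

theorem split_comm : ∀ x ∈ stabilizer (Cfsg.Sz F m) a ⊓ stabilizer (Cfsg.Sz F m) b,
    ∀ y ∈ stabilizer (Cfsg.Sz F m) a ⊓ stabilizer (Cfsg.Sz F m) b, x * y = y * x := by
  intro x hx y hy
  obtain ⟨f, hf⟩ := two_point_cyclic hF hm hab
  exact congrArg Subtype.val (hf (show f (⟨x, hx⟩ * ⟨y, hy⟩) = f (⟨y, hy⟩ * ⟨x, hx⟩) by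
    rw [map_mul, map_mul, mul_comm]))

theorem split_fixed {g : Cfsg.Sz F m} (hg : g ∈ stabilizer (Cfsg.Sz F m) a ⊓ stabilizer (Cfsg.Sz F m) b)
    (hg1 : g ≠ 1) {c : Cfsg.suzukiOvoid F m} (hc : g • c = c) : c = a ∨ c = b := by
  by_contra h
  push Not at h
  exact hg1 ((zassenhaus hF hm).2.2.1 g a b c hab h.2.symm h.1.symm hg.1 hg.2 hc)

theorem split_card_fixedBy {g : Cfsg.Sz F m}
    (hg : g ∈ stabilizer (Cfsg.Sz F m) a ⊓ stabilizer (Cfsg.Sz F m) b) (hg1 : g ≠ 1) :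
    Nat.card (fixedBy (Cfsg.suzukiOvoid F m) g) = 2 := by
  have h : fixedBy (Cfsg.suzukiOvoid F m) g = {a, b} := by
    ext c
    refine ⟨fun hc => split_fixed hF hm hab hg hg1 hc, fun hc => ?_⟩
    rcases hc with hc | hc <;> cases hc
    exacts [hg.1, hg.2]
  rw [h, Nat.card_coe_set_eq, Set.ncard_pair hab]

theorem split_odd {g : Cfsg.Sz F m} (hg : g ∈ stabilizer (Cfsg.Sz F m) a ⊓ stabilizer (Cfsg.Sz F m) b) :
    ¬ 2 ∣ orderOf g := by
  intro h
  have h1 : orderOf g ∣ Fintype.card F - 1 := by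
    rw [← two_point_card hF hm hab, ← Subgroup.orderOf_mk g hg]
    exact orderOf_dvd_natCard _
  obtain ⟨h8, he, -⟩ := q_facts hF hm
  obtain ⟨r, hr⟩ := he
  have := h.trans h1
  omega

theorem split_centralizer {g : Cfsg.Sz F m}
    (hg : g ∈ stabilizer (Cfsg.Sz F m) a ⊓ stabilizer (Cfsg.Sz F m) b) (hg1 : g ≠ 1) :
    Subgroup.centralizer ({g} : Set (Cfsg.Sz F m)) = stabilizer (Cfsg.Sz F m) a ⊓ stabilizer (Cfsg.Sz F m) b := by
  refine le_antisymm (fun c hc => ?_) fun c hc =>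
    Subgroup.mem_centralizer_singleton_iff.2 (split_comm hF hm hab c hc g hg)
  have hmem : ∀ w : Cfsg.suzukiOvoid F m, g • w = w → g • (c • w) = c • w := fun w hw => by
    rw [← mul_smul, ← Subgroup.mem_centralizer_singleton_iff.1 hc, mul_smul, hw]
  have honly := fun w => split_fixed hF hm hab hg hg1 (c := w)
  by_cases hca : c • a = a
  · refine ⟨hca, (honly _ (hmem b hg.2)).resolve_left fun h => hab ?_⟩
    exact (smul_left_cancel c (h.trans hca.symm)).symm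
  exfalso
  have hcab : c • a = b := (honly _ (hmem a hg.1)).resolve_left hca
  have hcb : c • b = a := (honly _ (hmem b hg.2)).resolve_right fun h =>
    hab (smul_left_cancel c (hcab.trans h.symm))
  have h2 : 2 ∣ orderOf c := by
    by_contra hodd
    obtain ⟨j, hj⟩ : Odd (orderOf c) := Nat.not_even_iff_odd.1 fun h => hodd h.two_dvd
    have h5 : ∀ i : ℕ, c ^ (2 * i) • a = a := fun i => by
      induction i with
      | zero => simp
      | succ i ih => rw [mul_add, pow_add, mul_smul,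
          show c ^ (2 * 1) • a = a by rw [mul_one, pow_two, mul_smul, hcab, hcb], ih]
    refine hca ?_
    conv_lhs => rw [← (show c ^ (2 * (j + 1)) = c by
      rw [show 2 * (j + 1) = orderOf c + 1 by omega, pow_succ, pow_orderOf_eq_one, one_mul])]
    exact h5 _
  obtain ⟨d, hd, hu⟩ := involution_fixed hF hm (orderOf_pow_orderOf_div (orderOf_pos c).ne' h2)
  set z := c ^ (orderOf c / 2)
  have hzC : z ∈ Subgroup.centralizer ({g} : Set (Cfsg.Sz F m)) := pow_mem hc _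
  have hgd : g • d = d := hu _ (by
    rw [← mul_smul, Subgroup.mem_centralizer_singleton_iff.1 hzC, mul_smul, hd])
  have hcd : c • d = d := hu _ (by rw [← mul_smul, ← (Commute.self_pow c _).eq, mul_smul, hd])
  rcases honly d hgd with rfl | rfl
  · exact hca hcd
  · exact hab (smul_left_cancel c (hcab.trans hcd.symm))

theorem split_pair_of_conj {c k : Cfsg.Sz F m}
    (hk : k ∈ stabilizer (Cfsg.Sz F m) a ⊓ stabilizer (Cfsg.Sz F m) b) (hk1 : k ≠ 1)
    (hck : c * k * c⁻¹ ∈ stabilizer (Cfsg.Sz F m) a ⊓ stabilizer (Cfsg.Sz F m) b) :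
    (c • a = a ∧ c • b = b) ∨ (c • a = b ∧ c • b = a) := by
  have hne : c * k * c⁻¹ ≠ 1 := fun h => hk1 (conj_eq_one_iff.1 h)
  have key : ∀ w : Cfsg.suzukiOvoid F m, k • w = w → (c * k * c⁻¹) • (c • w) = c • w := fun w hw => by
    rw [mul_smul, mul_smul, inv_smul_smul, hw]
  have hd : c • a ≠ c • b := fun h => hab (smul_left_cancel c h)
  rcases split_fixed hF hm hab hck hne (key a hk.1) with h | h <;>
    rcases split_fixed hF hm hab hck hne (key b hk.2) with h' | h'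
  · exact absurd (h.trans h'.symm) hd
  · exact Or.inl ⟨h, h'⟩
  · exact Or.inr ⟨h, h'⟩
  · exact absurd (h.trans h'.symm) hd

theorem split_normalize_of_pair {c : Cfsg.Sz F m} (h : (c • a = a ∧ c • b = b) ∨ (c • a = b ∧ c • b = a)) :
    c ∈ Subgroup.normalizer ((stabilizer (Cfsg.Sz F m) a ⊓ stabilizer (Cfsg.Sz F m) b :
      Subgroup (Cfsg.Sz F m)) : Set (Cfsg.Sz F m)) := by
  rw [Subgroup.mem_set_normalizer_iff]
  intro w
  have key : ∀ p : Cfsg.suzukiOvoid F m, (c * w * c⁻¹) • (c • p) = c • p ↔ w • p = p := fun p => by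
    rw [mul_smul, mul_smul, inv_smul_smul, smul_left_cancel_iff]
  rw [SetLike.mem_coe, SetLike.mem_coe, Subgroup.mem_inf, Subgroup.mem_inf, mem_stabilizer_iff,
    mem_stabilizer_iff, mem_stabilizer_iff, mem_stabilizer_iff, ← key a, ← key b]
  rcases h with ⟨h1, h2⟩ | ⟨h1, h2⟩ <;> rw [h1, h2]
  exact and_comm

theorem split_ti : ∀ g : Cfsg.Sz F m,
    g ∉ Subgroup.normalizer ((stabilizer (Cfsg.Sz F m) a ⊓ stabilizer (Cfsg.Sz F m) b :
      Subgroup (Cfsg.Sz F m)) : Set (Cfsg.Sz F m)) →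
    ∀ k ∈ stabilizer (Cfsg.Sz F m) a ⊓ stabilizer (Cfsg.Sz F m) b,
      g * k * g⁻¹ ∈ stabilizer (Cfsg.Sz F m) a ⊓ stabilizer (Cfsg.Sz F m) b → k = 1 := by
  intro g hg k hk hgk
  by_contra hk1
  exact hg (split_normalize_of_pair hF hm hab (split_pair_of_conj hF hm hab hk hk1 hgk))

theorem split_normalizer_card :
    Nat.card (Subgroup.normalizer ((stabilizer (Cfsg.Sz F m) a ⊓ stabilizer (Cfsg.Sz F m) b :
      Subgroup (Cfsg.Sz F m)) : Set (Cfsg.Sz F m))) = 2 * (Fintype.card F - 1) := by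
  classical
  set A : Subgroup (Cfsg.Sz F m) := stabilizer (Cfsg.Sz F m) a ⊓ stabilizer (Cfsg.Sz F m) b with hA
  set N := Subgroup.normalizer (A : Set (Cfsg.Sz F m)) with hN
  haveI := sz_two_pretransitive (m := m) hF
  obtain ⟨t, ta, tb⟩ := MulAction.is_two_pretransitive_iff.1 (sz_two_pretransitive (m := m) hF) hab hab.symm
  obtain ⟨h8, -⟩ := q_facts hF hm
  obtain ⟨k, hk1⟩ : ∃ k : A, k ≠ 1 := by
    haveI : Nontrivial A := Finite.one_lt_card_iff_nontrivial.1 (by rw [hA, two_point_card hF hm hab]; omega)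
    exact exists_ne 1
  have hpair : ∀ c ∈ N, (c • a = a ∧ c • b = b) ∨ (c • a = b ∧ c • b = a) := fun c hc =>
    split_pair_of_conj hF hm hab k.2 (fun h => hk1 (Subtype.ext h))
      ((Subgroup.mem_set_normalizer_iff.1 hc k).1 k.2)
  have ht : t ∈ N := split_normalize_of_pair hF hm hab (Or.inr ⟨ta, tb⟩)
  have hidx : (A.subgroupOf N).index = 2 := by
    refine Subgroup.index_eq_two_iff.2 ⟨⟨t, ht⟩, fun c => ?_⟩
    rw [Subgroup.mem_subgroupOf, Subgroup.mem_subgroupOf]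
    have e1 : ∀ d : Cfsg.Sz F m, d ∈ N → (d ∈ A ↔ d • a = a) := fun d hd => by
      rcases hpair d hd with ⟨h, h'⟩ | ⟨h, -⟩
      · exact ⟨fun _ => h, fun _ => ⟨h, h'⟩⟩
      · exact ⟨fun h' => h'.1, fun h' => absurd (h'.symm.trans h) hab⟩
    rw [Subgroup.coe_mul, e1 _ (mul_mem c.2 ht), e1 _ c.2, mul_smul, ta]
    rcases hpair c c.2 with ⟨h, h'⟩ | ⟨h, h'⟩
    · exact Or.inr ⟨h, fun h2 => hab (h2.symm.trans h')⟩
    · exact Or.inl ⟨h', fun h2 => hab (h2.symm.trans h)⟩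
  have h := (A.subgroupOf N).index_mul_card
  rw [hidx, Nat.card_congr (Subgroup.subgroupOfEquivOfLe Subgroup.le_normalizer).toEquiv, hA,
    two_point_card hF hm hab] at h
  exact h.symm

end Split

/-- The properties of a torus. -/
theorem torus_ti {U : Subgroup (Cfsg.Sz F m)}
    (hU : ∀ u ∈ U, u ≠ 1 → Subgroup.centralizer ({u} : Set (Cfsg.Sz F m)) = U) :
    ∀ g : Cfsg.Sz F m, g ∉ Subgroup.normalizer (U : Set (Cfsg.Sz F m)) →
      ∀ k ∈ U, g * k * g⁻¹ ∈ U → k = 1 := by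
  intro g hg k hk hgk
  by_contra hk1
  refine hg (Subgroup.mem_set_normalizer_iff.2 fun w => ?_)
  have hne : g * k * g⁻¹ ≠ 1 := fun h => hk1 (conj_eq_one_iff.1 h)
  have h1 := hU k hk hk1
  have h2 := hU _ hgk hne
  constructor
  · intro hw
    rw [SetLike.mem_coe, ← h2, Subgroup.mem_centralizer_singleton_iff]
    rw [SetLike.mem_coe, ← h1, Subgroup.mem_centralizer_singleton_iff] at hw
    rw [conj_mul, conj_mul, hw]
  · intro hw
    rw [SetLike.mem_coe, ← h1, Subgroup.mem_centralizer_singleton_iff]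
    rw [SetLike.mem_coe, ← h2, Subgroup.mem_centralizer_singleton_iff, conj_mul, conj_mul] at hw
    exact mul_left_cancel (mul_right_cancel hw)

theorem torus_fpf {U : Subgroup (Cfsg.Sz F m)} (hk : Nat.card U ∣ Fintype.card F ^ 2 + 1) {u : Cfsg.Sz F m}
    (hu : u ∈ U) (hu1 : u ≠ 1) : Nat.card (fixedBy (Cfsg.suzukiOvoid F m) u) = 0 := by
  have h : fixedBy (Cfsg.suzukiOvoid F m) u = ∅ := by
    rw [Set.eq_empty_iff_forall_notMem]
    intro c hc
    have h1 : orderOf u ∣ Nat.card U := by rw [← Subgroup.orderOf_mk u hu]; exact orderOf_dvd_natCard _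
    have h2 : orderOf u ∣ Fintype.card F ^ 2 * (Fintype.card F - 1) := by
      rw [← card_stab hF hm c, ← Subgroup.orderOf_mk u (mem_stabilizer_iff.2 hc)]
      exact orderOf_dvd_natCard _
    exact hu1 (orderOf_eq_one_iff.1 (Nat.eq_one_of_dvd_coprimes (coprime_stab hF hm hk) h1 h2))
  rw [h, Nat.card_coe_set_eq, Set.ncard_empty]

/-- The two tori, with coprime orders `q ± r + 1`. -/
theorem exists_tori : ∃ U V : Subgroup (Cfsg.Sz F m),
    Nat.card U = 2 ^ (2 * m + 1) + 2 ^ (m + 1) + 1 ∧ Nat.card V = 2 ^ (2 * m + 1) - 2 ^ (m + 1) + 1 ∧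
    Nat.card U * Nat.card V = Fintype.card F ^ 2 + 1 ∧ (Nat.card U).Coprime (Nat.card V) ∧
    (∀ W ∈ ({U, V} : Set (Subgroup (Cfsg.Sz F m))),
      (∀ u ∈ W, u ≠ 1 → Subgroup.centralizer ({u} : Set (Cfsg.Sz F m)) = W) ∧
      (∀ x ∈ W, ∀ y ∈ W, x * y = y * x) ∧
      Nat.card (Subgroup.normalizer (W : Set (Cfsg.Sz F m))) = 4 * Nat.card W ∧
      (∀ u ∈ W, u ≠ 1 → Nat.card (fixedBy (Cfsg.suzukiOvoid F m) u) = 0)) ∧
    (∀ g : Cfsg.Sz F m, g ≠ 1 → Nat.card (fixedBy (Cfsg.suzukiOvoid F m) g) = 0 →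
      ∃ c : Cfsg.Sz F m, c * g * c⁻¹ ∈ U ∨ c * g * c⁻¹ ∈ V) := by
  obtain ⟨U, hcU, hkU, hU, hNU⟩ := two_tori hF hm _ (Or.inl rfl)
  obtain ⟨V, hcV, hkV, hV, hNV⟩ := two_tori hF hm _ (Or.inr rfl)
  have hle : 2 ^ (m + 1) ≤ 2 ^ (2 * m + 1) := Nat.pow_le_pow_right (by norm_num) (by omega)
  have hprod : Nat.card U * Nat.card V = Fintype.card F ^ 2 + 1 := by
    rw [hkU, hkV, hF]
    have h2 : (2 ^ (m + 1)) ^ 2 = 2 * 2 ^ (2 * m + 1) := by rw [← pow_mul, ← pow_succ']; congr 1; ring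
    zify [hle] at h2 ⊢
    linear_combination -h2
  have hcop : (Nat.card U).Coprime (Nat.card V) := by
    refine Nat.coprime_of_dvd fun r hr h1 h2 => ?_
    have h3 := Nat.dvd_sub h1 h2
    rw [hkU, hkV, show 2 ^ (2 * m + 1) + 2 ^ (m + 1) + 1 - (2 ^ (2 * m + 1) - 2 ^ (m + 1) + 1) =
      2 ^ (m + 1 + 1) by rw [pow_succ 2 (m + 1)]; omega] at h3
    have h4 : r = 2 := (Nat.prime_dvd_prime_iff_eq hr Nat.prime_two).1 (hr.dvd_of_dvd_pow h3)
    exact ((q_facts hF hm).2.2.2 r hr (h1.trans ⟨_, hprod.symm⟩)).1 h4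
  refine ⟨U, V, hkU, hkV, hprod, hcop, ?_, ?_⟩
  · intro W hW
    obtain ⟨hW1, hWN, hWd⟩ : (∀ u ∈ W, u ≠ 1 → Subgroup.centralizer ({u} : Set (Cfsg.Sz F m)) = W) ∧
        Nat.card (Subgroup.normalizer (W : Set (Cfsg.Sz F m))) = 4 * Nat.card W ∧
        Nat.card W ∣ Fintype.card F ^ 2 + 1 := by
      rcases hW with rfl | rfl
      · exact ⟨hU, by rw [hNU, hkU], ⟨_, hprod.symm⟩⟩
      · exact ⟨hV, by rw [hNV, hkV], Dvd.intro_left _ hprod⟩
    refine ⟨hW1, fun x hx y hy => ?_, hWN, fun u hu hu1 => torus_fpf hF hm hWd hu hu1⟩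
    by_cases hy1 : y = 1
    · rw [hy1, mul_one, one_mul]
    · rw [← hW1 y hy hy1] at hx
      exact Subgroup.mem_centralizer_singleton_iff.1 hx
  · intro g hg hfix
    have hfpf : ∀ a : Cfsg.suzukiOvoid F m, g • a ≠ a := fun a ha => by
      haveI : Nonempty (fixedBy (Cfsg.suzukiOvoid F m) g) := ⟨⟨a, ha⟩⟩
      exact Nat.card_pos.ne' hfix
    obtain ⟨r, hr, hrd⟩ := Nat.exists_prime_and_dvd (fun h => hg (orderOf_eq_one_iff.1 h))
    haveI := Fact.mk hr
    have hrn := prime_dvd_of_fpf hF hm hfpf hr hrd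
    set x := g ^ (orderOf g / r) with hx
    have hxo : orderOf x = r := orderOf_pow_orderOf_div (orderOf_pos g).ne' hrd
    have hgx : g ∈ Subgroup.centralizer ({x} : Set (Cfsg.Sz F m)) :=
      Subgroup.mem_centralizer_singleton_iff.2 (Commute.self_pow g _).eq
    have key : ∀ W : Subgroup (Cfsg.Sz F m),
        (∀ u ∈ W, u ≠ 1 → Subgroup.centralizer ({u} : Set (Cfsg.Sz F m)) = W) → r ∣ Nat.card W →
        ∃ c : Cfsg.Sz F m, c * g * c⁻¹ ∈ W := by
      intro W hW hdW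
      obtain ⟨y, hy⟩ := exists_prime_orderOf_dvd_card' r hdW
      have hy' : orderOf (y : Cfsg.Sz F m) = r := by rw [Subgroup.orderOf_coe, hy]
      have hy1 : (y : Cfsg.Sz F m) ≠ 1 := fun h => by rw [h, orderOf_one] at hy'; exact hr.ne_one hy'.symm
      have hr2 := ((q_facts hF hm).2.2.2 r hr hrn).1
      obtain ⟨P, hP⟩ := (IsPGroup.of_card (n := 1) (by rw [Nat.card_zpowers, hxo, pow_one]) :
        IsPGroup r (Subgroup.zpowers x)).exists_le_sylow
      obtain ⟨Q, hQ⟩ := (IsPGroup.of_card (n := 1) (by rw [Nat.card_zpowers, hy', pow_one]) :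
        IsPGroup r (Subgroup.zpowers (y : Cfsg.Sz F m))).exists_le_sylow
      obtain ⟨c, hc⟩ := MulAction.exists_smul_eq (Cfsg.Sz F m) P Q
      have hcx : c * x * c⁻¹ ∈ (Q : Subgroup (Cfsg.Sz F m)) := by
        rw [← hc]; exact ⟨x, hP (Subgroup.mem_zpowers x), rfl⟩
      haveI hQc := sylow_cyclic hF hm hr2 Q
      have hcomm : c * x * c⁻¹ * y = y * (c * x * c⁻¹) := congrArg Subtype.val
        (hQc.commGroup.mul_comm (⟨_, hcx⟩ : (Q : Subgroup (Cfsg.Sz F m))) ⟨_, hQ (Subgroup.mem_zpowers _)⟩)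
      have hmem : c * x * c⁻¹ ∈ W := by
        rw [← hW y y.2 hy1]
        exact Subgroup.mem_centralizer_singleton_iff.2 hcomm
      have hcx1 : c * x * c⁻¹ ≠ 1 := fun h => by
        rw [conj_eq_one_iff.1 h, orderOf_one] at hxo; exact hr.ne_one hxo.symm
      refine ⟨c, ?_⟩
      rw [← hW _ hmem hcx1, Subgroup.mem_centralizer_singleton_iff, conj_mul, conj_mul,
        Subgroup.mem_centralizer_singleton_iff.1 hgx]
    rcases hr.dvd_mul.1 (hprod.symm ▸ hrn) with h | h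
    · obtain ⟨c, hc⟩ := key U hU h
      exact ⟨c, Or.inl hc⟩
    · obtain ⟨c, hc⟩ := key V hV h
      exact ⟨c, Or.inr hc⟩

/-- An element with exactly two fixed points is conjugate into the split torus. -/
theorem conj_split {a b : Cfsg.suzukiOvoid F m} (hab : a ≠ b) {g : Cfsg.Sz F m}
    (hg : 2 ≤ Nat.card (fixedBy (Cfsg.suzukiOvoid F m) g)) :
    ∃ c : Cfsg.Sz F m, c * g * c⁻¹ ∈ stabilizer (Cfsg.Sz F m) a ⊓ stabilizer (Cfsg.Sz F m) b := by
  haveI : Nontrivial (fixedBy (Cfsg.suzukiOvoid F m) g) := Finite.one_lt_card_iff_nontrivial.1 hg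
  obtain ⟨⟨x, hx⟩, ⟨y, hy⟩, hxy⟩ := exists_pair_ne (fixedBy (Cfsg.suzukiOvoid F m) g)
  obtain ⟨c, ca, cb⟩ := MulAction.is_two_pretransitive_iff.1 (sz_two_pretransitive (m := m) hF)
    (show x ≠ y from fun h => hxy (Subtype.ext h)) hab
  refine ⟨c, ?_, ?_⟩
  · show (c * g * c⁻¹) • a = a
    rw [← ca, mul_smul, mul_smul, inv_smul_smul, mem_fixedBy.1 hx]
  · show (c * g * c⁻¹) • b = b
    rw [← cb, mul_smul, mul_smul, inv_smul_smul, mem_fixedBy.1 hy]

omit hm in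
theorem card_fixedBy_conj (c g : Cfsg.Sz F m) :
    Nat.card (fixedBy (Cfsg.suzukiOvoid F m) (c * g * c⁻¹)) = Nat.card (fixedBy (Cfsg.suzukiOvoid F m) g) :=
  (Nat.card_congr ((MulAction.toPerm c).subtypeEquiv fun x => by
    simp [mem_fixedBy, mul_smul])).symm

theorem exists_ne_points : ∃ a b : Cfsg.suzukiOvoid F m, a ≠ b :=
  ⟨⟨_, inf_mem⟩, ⟨_, pt_mem (0 : F) 0⟩, fun h => pt_ne_inf 0 0 (congrArg Subtype.val h).symm⟩

end Cfsg.Agent.Lie.Suzuki.Partition
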