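import Mathlib
import Cfsg.Prelude.Def_CaseTheorems
import Cfsg.Prelude.Def_Solvable
import Cfsg.Agent.Lib.Solv.MaxClass
import Cfsg.Agent.Lib.Solv.CyclicSelfCentral

/-!
Sylow 2-subgroups of transitive groups of fixity two.
-/

set_option autoImplicit false
set_option linter.style.haveILetI false
set_option linter.unusedSectionVars false

namespace Cfsg.Agent.Lie.FixityTwoSylow

open MulAction

universe u v

section shape

variable {S : Type u} [Group S] [Finite S]

theorem quaternion_central {k : ℕ} [NeZero k] {v : QuaternionGroup k} (hv : v * v = 1) :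
    ∀ y : QuaternionGroup k, y * v = v * y := by
  cases v with
  | a i =>
    rw [QuaternionGroup.a_mul_a, QuaternionGroup.one_def] at hv
    have hi : i + i = 0 := QuaternionGroup.a.inj hv
    intro y
    cases y with
    | a j => rw [QuaternionGroup.a_mul_a, QuaternionGroup.a_mul_a, add_comm]
    | xa j =>
      rw [QuaternionGroup.xa_mul_a, QuaternionGroup.a_mul_xa]
      congr 1
      rw [sub_eq_add_neg, neg_eq_of_add_eq_zero_right hi]
  | xa i =>
    exfalso
    rw [QuaternionGroup.xa_mul_xa, QuaternionGroup.one_def, add_sub_cancel_right] at hv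
    have hi : ((k : ℕ) : ZMod (2 * k)) = 0 := QuaternionGroup.a.inj hv
    rw [ZMod.natCast_eq_zero_iff] at hi
    have h0 := NeZero.pos k
    have := Nat.le_of_dvd h0 hi
    omega

theorem dihedral_or_cyclic (hS : IsPGroup 2 S) {u : S} (hu : u * u = 1)
    (hC : Nat.card (Subgroup.centralizer ({u} : Set S)) = 4) :
    ((∃ n : ℕ, Nonempty (S ≃* DihedralGroup n)) ∨ Cfsg.IsQuasiDihedral S) ∨ (IsCyclic S ∧ Nat.card S = 4) := by
  haveI : Fact (Nat.Prime 2) := ⟨Nat.prime_two⟩
  obtain ⟨k, hk⟩ := hS.exists_card_eq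
  have h4 : 4 ∣ Nat.card S := hC ▸ Subgroup.card_subgroup_dvd_card _
  have hk2 : 2 ≤ k := by
    by_contra hlt
    have : Nat.card S ≤ 2 := hk ▸ (Nat.pow_le_pow_right two_pos (show k ≤ 1 by omega))
    have := Nat.le_of_dvd Nat.card_pos h4
    omega
  rcases (show k = 2 ∨ 3 ≤ k by omega) with rfl | h3
  · by_cases hc : IsCyclic S
    · exact Or.inr ⟨hc, hk.trans (by norm_num)⟩
    · left; left
      haveI : IsKleinFour S := by
        refine ⟨by rw [hk]; norm_num, ?_⟩
        have hd : Monoid.exponent S ∣ 2 ^ 2 := hk ▸ Group.exponent_dvd_nat_card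
        obtain ⟨j, hj, hj'⟩ := (Nat.dvd_prime_pow Nat.prime_two).1 hd
        interval_cases j
        · exfalso
          haveI : Subsingleton S := Monoid.exp_eq_one_iff.1 (by rw [hj', pow_zero])
          exact hc inferInstance
        · rw [hj', pow_one]
        · exfalso
          letI : CommGroup S :=
            { (inferInstance : Group S) with mul_comm := IsPGroup.commutative_of_card_eq_prime_sq (p := 2) hk }
          exact hc (IsCyclic.of_exponent_eq_card (hj'.trans hk.symm))
      exact ⟨2, IsKleinFour.nonempty_mulEquiv⟩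
  · left
    obtain ⟨m, rfl⟩ : ∃ m, k = m + 3 := ⟨k - 3, by omega⟩
    have hne : (⊤ : Subgroup S).lowerCentralSeries (m + 1) ≠ ⊥ :=
      Solv.lcs_ne_bot_of_small_centralizer (p := 2) (m + 1) (by rw [hk]) ⟨u, by rw [hC]; norm_num⟩
    obtain ⟨x, hx⟩ := Solv.exists_cyclic_index_two m hk hne
    have hidx : (Subgroup.zpowers x).index = 2 := by
      have h := (Subgroup.zpowers x).card_mul_index
      rw [Nat.card_zpowers, hx, hk, pow_succ 2 (m + 2)] at h
      exact Nat.eq_of_mul_eq_mul_left (pow_pos two_pos _) h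
    haveI := Subgroup.normal_of_index_eq_two hidx
    have hself : ∀ j : ℤ, (x ^ j) ^ 2 ≠ 1 → ∀ y : S, Commute y (x ^ j) → y ∈ Subgroup.zpowers x := by
      intro j hj y hy
      by_contra hyn
      exact hj (Solv.sq_eq_one_of_commute hk hne hx hyn j hy)
    have hpow : ∀ i : ℕ, 0 < i → i < 2 ^ (m + 2) → x ^ i ≠ 1 := fun i h0 hlt e => by
      have := Nat.le_of_dvd h0 (orderOf_dvd_of_pow_eq_one e)
      omega
    have h4le : 4 ≤ 2 ^ (m + 2) := by
      calc 4 = 2 ^ 2 := by norm_num
        _ ≤ _ := Nat.pow_le_pow_right two_pos (by omega)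
    have D : Solv.CyclicSelf.Data 2 (m + 2) x := by
      refine ⟨hS, hx, by omega, fun y => ?_, fun y hy => ?_⟩
      · obtain ⟨e, he⟩ := Subgroup.mem_zpowers_iff.1
          (Subgroup.Normal.conj_mem inferInstance x (Subgroup.mem_zpowers x) y)
        exact ⟨e, he.symm⟩
      · refine hself 1 ?_ y (by rwa [zpow_one])
        rw [zpow_one]
        exact hpow 2 two_pos (by omega)
    have hne' : Subgroup.zpowers x ≠ ⊤ := fun e => by rw [e, Subgroup.index_top] at hidx; norm_num at hidx
    obtain ⟨-, hcase⟩ := Solv.CyclicSelf.two_case D hne' fun h3' y hy => by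
      refine hself 2 ?_ y (by simpa using hy)
      rw [zpow_ofNat, ← pow_mul]
      refine hpow 4 (by norm_num) ?_
      calc 4 < 2 ^ 3 := by norm_num
        _ ≤ _ := Nat.pow_le_pow_right two_pos h3'
    rcases hcase with h | ⟨q, ⟨e⟩⟩ | h
    · exact Or.inl h
    · exfalso
      have hq0 : q ≠ 0 := by
        rintro rfl
        haveI : Finite (QuaternionGroup 0) := Finite.of_equiv S e.toEquiv
        haveI : Finite ℤ := Finite.of_injective (fun i : ℤ => (QuaternionGroup.a i : QuaternionGroup 0))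
          (fun i j h => QuaternionGroup.a.inj h)
        exact not_finite (ℤ : Type)
      haveI : NeZero q := ⟨hq0⟩
      have hcen : ∀ y : S, y * u = u * y := fun y => e.injective (by
        rw [map_mul, map_mul]
        exact quaternion_central (by rw [← map_mul, hu, map_one]) _)
      have htop : Subgroup.centralizer ({u} : Set S) = ⊤ :=
        (Subgroup.eq_top_iff' _).2 fun y => Subgroup.mem_centralizer_singleton_iff.2 (hcen y)
      rw [htop, Subgroup.card_top, hk] at hC
      have : 2 ^ 3 ≤ 2 ^ (m + 3) := Nat.pow_le_pow_right two_pos (by omega)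
      omega
    · exact Or.inr h

end shape

variable {G : Type u} [Group G] [Finite G] {Ω : Type v} [Fintype Ω] [MulAction G Ω] [FaithfulSMul G Ω]

/-- fixity two -/
def Fix2 (G : Type u) (Ω : Type v) [Group G] [MulAction G Ω] : Prop :=
  ∀ g : G, g ≠ 1 → ∀ x y z : Ω, g • x = x → g • y = y → g • z = z → x = y ∨ x = z ∨ y = z

theorem fix2_of (hfix : ∀ g : G, g ≠ 1 → Nat.card (fixedBy Ω g) ≤ 2) : Fix2 G Ω := by
  classical
  intro g hg x y z hx hy hz
  by_contra! h
  have hsub : (({x, y, z} : Finset Ω) : Set Ω) ⊆ fixedBy Ω g := by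
    intro w hw
    simp only [Finset.coe_insert, Finset.coe_singleton, Set.mem_insert_iff, Set.mem_singleton_iff] at hw
    rcases hw with rfl | rfl | rfl <;> assumption
  have hcard := Nat.card_mono (Set.toFinite _) hsub
  rw [Nat.card_coe_set_eq, Set.ncard_coe_finset, Finset.card_eq_three.2 ⟨x, y, z, h.1, h.2.1, h.2.2, rfl⟩] at hcard
  have := hfix g hg
  omega

variable {T : Subgroup G}

/-- the setting -/
structure Hyp (T : Subgroup G) (Ω : Type v) [MulAction G Ω] (α : Ω) : Prop where
  two : IsPGroup 2 T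
  fix : Fix2 G Ω
  moves : ¬ T ≤ stabilizer G α
  nontriv : ∃ a ∈ T, a ≠ 1 ∧ a • α = α

theorem exists_swap {α : Ω} (h : Hyp T Ω α) :
    ∃ y ∈ T, y • α ≠ α ∧ (∀ a ∈ T, a • α = α → (y⁻¹ * a * y) • α = α) ∧
      (∀ a ∈ T, a • α = α → a • y • α = y • α) ∧
      (∀ t ∈ T, (∀ a ∈ T, a • α = α → (t⁻¹ * a * t) • α = α) → t • α = α ∨ t • α = y • α) := by
  haveI : Fact (Nat.Prime 2) := ⟨Nat.prime_two⟩
  haveI : Group.IsNilpotent T := h.two.isNilpotent
  set A : Subgroup T := (stabilizer G α).subgroupOf T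
  have hA : A < ⊤ := lt_top_iff_ne_top.2 fun e => h.moves (Subgroup.subgroupOf_eq_top.1 e)
  obtain ⟨y, hy, hyA⟩ := SetLike.exists_of_lt (Group.normalizerCondition_of_isNilpotent A hA)
  have hconj : ∀ a ∈ T, a • α = α → ((y : G)⁻¹ * a * (y : G)) • α = α := by
    intro a ha haα
    have := (Subgroup.mem_normalizer_iff.1 ((Subgroup.normalizer (A : Set T)).inv_mem hy) ⟨a, ha⟩).1 haα
    simpa [A, Subgroup.mem_subgroupOf] using this
  have hfixb : ∀ a ∈ T, a • α = α → a • (y : G) • α = (y : G) • α := by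
    intro a ha haα
    rw [← smul_left_cancel_iff (y : G)⁻¹, smul_smul, smul_smul, inv_smul_smul]
    exact hconj a ha haα
  refine ⟨y, y.2, hyA, hconj, hfixb, fun t ht htn => ?_⟩
  obtain ⟨a, haT, ha1, haα⟩ := h.nontriv
  have h3 : a • t • α = t • α := by
    rw [← smul_left_cancel_iff t⁻¹, smul_smul, smul_smul, inv_smul_smul]
    exact htn a haT haα
  rcases h.fix a ha1 α ((y : G) • α) (t • α) haα (hfixb a haT haα) h3 with e | e | e
  · exact absurd e.symm hyA
  · exact Or.inl e.symm
  · exact Or.inr e.symm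

theorem two_or_index {α : Ω} (h : Hyp T Ω α) :
    Nat.card (T ⊓ stabilizer G α : Subgroup G) = 2 ∨
      ∃ β : Ω, β ≠ α ∧ (∀ t ∈ T, t • α = α ∨ t • α = β) ∧ (∀ a ∈ T, a • α = α → a • β = β) ∧ ∃ t ∈ T, t • α = β := by
  classical
  haveI : Fact (Nat.Prime 2) := ⟨Nat.prime_two⟩
  obtain ⟨y, hyT, hy, hyc, hfixb, hN⟩ := exists_swap h
  by_cases hall : ∀ t ∈ T, t • α = α ∨ t • α = y • α
  · exact Or.inr ⟨y • α, hy, hall, hfixb, y, hyT, rfl⟩
  left
  push Not at hall
  obtain ⟨t₀, ht₀, ht₀α, ht₀β⟩ := hall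
  let N : Subgroup T :=
    { carrier := {t | (t : G) • α = α ∨ (t : G) • α = y • α} ∩ {t | ∀ a ∈ T, a • α = α → a • (t : G) • α = (t : G) • α}
      one_mem' := ⟨Or.inl (one_smul G α), fun a _ ha => by simpa using ha⟩
      mul_mem' := by
        rintro s t ⟨hs1, hs2⟩ ⟨ht1, ht2⟩
        suffices hst : ((s * t : T) : G) • α = α ∨ ((s * t : T) : G) • α = y • α from ⟨hst, fun a ha haα => by
          rcases hst with e | e <;> rw [e]
          · exact haα
          · exact hfixb a ha haα⟩
        rw [Subgroup.coe_mul, mul_smul]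
        rcases ht1 with e | e <;> rw [e]
        · exact hs1
        · have hsn : ∀ a ∈ T, a • α = α → ((s : G)⁻¹ * a * (s : G)) • α = α := fun a ha haα => by
            rw [mul_smul, mul_smul, hs2 a ha haα, inv_smul_smul]
          rw [← mul_smul]
          refine hN _ (T.mul_mem s.2 hyT) fun a ha haα => ?_
          rw [show ((s : G) * y)⁻¹ * a * ((s : G) * y) = y⁻¹ * ((s : G)⁻¹ * a * (s : G)) * y by group]
          exact hyc _ (T.mul_mem (T.mul_mem (T.inv_mem s.2) ha) s.2) (hsn a ha haα)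
      inv_mem' := by
        rintro s ⟨hs1, hs2⟩
        suffices hst : ((s⁻¹ : T) : G) • α = α ∨ ((s⁻¹ : T) : G) • α = y • α from ⟨hst, fun a ha haα => by
          rcases hst with e | e <;> rw [e]
          · exact haα
          · exact hfixb a ha haα⟩
        rw [Subgroup.coe_inv]
        have hsn : ∀ a ∈ T, a • α = α → ((s : G)⁻¹ * a * (s : G)) • α = α := fun a ha haα => by
          rw [mul_smul, mul_smul, hs2 a ha haα, inv_smul_smul]
        -- conjugation by `s` permutes the finite stabilizer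
        let A : Subgroup G := T ⊓ stabilizer G α
        have hle : A.map (MulAut.conj (s : G)⁻¹).toMonoidHom ≤ A := by
          rintro _ ⟨a, ⟨ha, haα⟩, rfl⟩
          exact ⟨by simpa using T.mul_mem (T.mul_mem (T.inv_mem s.2) ha) s.2, by simpa using hsn a ha haα⟩
        have heq := Subgroup.eq_of_le_of_card_ge hle
          (Subgroup.card_map_of_injective (MulEquiv.injective _)).ge
        refine hN _ (T.inv_mem s.2) fun a ha haα => ?_
        obtain ⟨b, ⟨hb, hbα⟩, hba⟩ := (heq.ge (show a ∈ A from ⟨ha, haα⟩) :)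
        rw [inv_inv, show (s : G) * a * (s : G)⁻¹ = b by rw [← hba]; simp [mul_assoc]]
        exact hbα }
  have hNlt : N < ⊤ := lt_top_iff_ne_top.2 fun e => by
    rcases (e.ge (Subgroup.mem_top (⟨t₀, ht₀⟩ : T)) : (⟨t₀, ht₀⟩ : T) ∈ N).1 with h1 | h1
    · exact ht₀α h1
    · exact ht₀β h1
  haveI : Group.IsNilpotent T := h.two.isNilpotent
  obtain ⟨w, hw, hwN⟩ := SetLike.exists_of_lt (Group.normalizerCondition_of_isNilpotent N hNlt)
  have hwα : (w : G) • α ≠ α := fun e => hwN ⟨Or.inl e, fun a ha haα => by rw [e]; exact haα⟩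
  have hwβ : (w : G) • α ≠ y • α := fun e => hwN ⟨Or.inr e, fun a ha haα => by rw [e]; exact hfixb a ha haα⟩
  let A : Subgroup T := (stabilizer G α).subgroupOf T
  have hAN : A ≤ N := fun a ha => ⟨Or.inl ha, fun b hb hbα => by
    rw [show (a : G) • α = α from ha]; exact hbα⟩
  have hkey : ∀ a a' : A, ((w * (a : T) * w⁻¹ : T) : G) • α = ((w * (a' : T) * w⁻¹ : T) : G) • α → a = a' := by
    intro a a' he
    by_contra hne
    set d : T := w * ((a' : T)⁻¹ * (a : T)) * w⁻¹ with hd
    have hdα : (d : G) • α = α := by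
      rw [show d = (w * (a' : T) * w⁻¹)⁻¹ * (w * (a : T) * w⁻¹) by rw [hd]; group, Subgroup.coe_mul,
        Subgroup.coe_inv, mul_smul, he, inv_smul_smul]
    have hd1 : (d : G) ≠ 1 := fun e => hne (by
      have h1 : d = 1 := Subtype.ext e
      rw [hd, conj_eq_one_iff, inv_mul_eq_one] at h1
      exact Subtype.ext h1.symm)
    have hwfix : (d : G) • (w : G) • α = (w : G) • α := by
      have hm : (a' : T)⁻¹ * (a : T) ∈ A := A.mul_mem (A.inv_mem a'.2) a.2
      rw [hd, Subgroup.coe_mul, Subgroup.coe_mul, Subgroup.coe_inv, mul_smul, mul_smul, inv_smul_smul,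
        show (((a' : T)⁻¹ * (a : T) : T) : G) • α = α from hm]
    rcases h.fix d hd1 α (y • α) ((w : G) • α) hdα (hfixb d d.2 hdα) hwfix with e | e | e
    · exact hy e.symm
    · exact hwα e.symm
    · exact hwβ e.symm
  let f : A → Bool := fun a => decide (((w * (a : T) * w⁻¹ : T) : G) • α = α)
  have hf : Function.Injective f := by
    intro a a' he
    refine hkey a a' ?_
    have h1 := ((Subgroup.mem_normalizer_iff.1 hw a).1 (hAN a.2)).1
    have h2 := ((Subgroup.mem_normalizer_iff.1 hw a').1 (hAN a'.2)).1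
    simp only [f, decide_eq_decide] at he
    rcases h1 with e1 | e1
    · rw [e1, he.1 e1]
    · rcases h2 with e2 | e2
      · rw [he.2 e2, e2]
      · rw [e1, e2]
  have hle : Nat.card A ≤ 2 := (Nat.card_le_card_of_injective f hf).trans (by simp)
  have hAcard : Nat.card A = Nat.card (T ⊓ stabilizer G α : Subgroup G) := by
    rw [← Subgroup.card_map_of_injective T.subtype_injective, Subgroup.subgroupOf_map_subtype, inf_comm]
  obtain ⟨a, haT, ha1, haα⟩ := h.nontriv
  have hpos : 1 < Nat.card (T ⊓ stabilizer G α : Subgroup G) :=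
    (Subgroup.one_lt_card_iff_ne_bot _).2 fun e => ha1 (Subgroup.mem_bot.1 (e.le ⟨haT, haα⟩))
  omega

theorem shape {α : Ω} (h : Hyp T Ω α) (h2 : Nat.card (T ⊓ stabilizer G α : Subgroup G) = 2) :
    ((∃ n : ℕ, Nonempty (T ≃* DihedralGroup n)) ∨ Cfsg.IsQuasiDihedral T) ∨ (IsCyclic T ∧ Nat.card T = 4) := by
  classical
  obtain ⟨y, hyT, hy, hyc, hfixb, hN⟩ := exists_swap h
  obtain ⟨u, huT, hu1, huα⟩ := h.nontriv
  have heq : ∀ x : G, x ∈ T → x • α = α → x = 1 ∨ x = u := by
    obtain ⟨p, q, hpq, hU⟩ := Nat.card_eq_two_iff.1 h2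
    have hmem : ∀ v : (T ⊓ stabilizer G α : Subgroup G), v = p ∨ v = q := fun v => by
      have hv : v ∈ ({p, q} : Set _) := hU ▸ Set.mem_univ v
      simpa using hv
    intro x hx hxα
    rcases hmem 1 with e1 | e1 <;> rcases hmem ⟨u, huT, huα⟩ with e2 | e2 <;>
      rcases hmem ⟨x, hx, hxα⟩ with e3 | e3
    all_goals first
      | exact Or.inl (congrArg Subtype.val (e3.trans e1.symm))
      | exact Or.inr (congrArg Subtype.val (e3.trans e2.symm))
      | exact absurd (congrArg Subtype.val (e2.trans e1.symm)) hu1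
  have huu : u * u = 1 := by
    rcases heq (u * u) (T.mul_mem huT huT) (by rw [mul_smul, huα, huα]) with e | e
    · exact e
    · exact absurd (mul_eq_left.1 e) hu1
  have hnorm : ∀ t ∈ T, t • α = α ∨ t • α = y • α → Commute t u := by
    intro t ht htc
    have hfix : (t⁻¹ * u * t) • α = α := by
      rw [mul_smul, mul_smul]
      rcases htc with e | e
      · rw [e, huα, inv_smul_eq_iff, e]
      · rw [e, hfixb u huT huα, inv_smul_eq_iff, e]
    rcases heq _ (T.mul_mem (T.mul_mem (T.inv_mem ht) huT) ht) hfix with e | e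
    · exfalso
      refine hu1 ?_
      calc u = t * (t⁻¹ * u * t) * t⁻¹ := by group
        _ = 1 := by rw [e]; group
    · rw [mul_assoc, inv_mul_eq_iff_eq_mul] at e
      exact e.symm
  refine dihedral_or_cyclic h.two (u := ⟨u, huT⟩) (Subtype.ext huu) ?_
  set C := Subgroup.centralizer ({(⟨u, huT⟩ : T)} : Set T)
  have hmemC : ∀ t : T, t ∈ C ↔ Commute (t : G) u := fun t => by
    rw [Subgroup.mem_centralizer_singleton_iff, Subtype.ext_iff, Subgroup.coe_mul, Subgroup.coe_mul]
    rfl
  have hset : ((C : Set T)) = {1, ⟨u, huT⟩, ⟨y, hyT⟩, ⟨y, hyT⟩ * ⟨u, huT⟩} := by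
    ext t
    simp only [SetLike.mem_coe, Set.mem_insert_iff, Set.mem_singleton_iff]
    constructor
    · intro ht
      have hn : ∀ a ∈ T, a • α = α → ((t : G)⁻¹ * a * (t : G)) • α = α := by
        intro a ha haα
        rcases heq a ha haα with rfl | rfl
        · simp
        · rw [mul_assoc, ← ((hmemC t).1 ht).eq, inv_mul_cancel_left]; exact huα
      rcases hN t t.2 hn with e | e
      · rcases heq t t.2 e with e' | e'
        · exact Or.inl (Subtype.ext e')
        · exact Or.inr (Or.inl (Subtype.ext e'))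
      · rcases heq (y⁻¹ * t) (T.mul_mem (T.inv_mem hyT) t.2) (by rw [mul_smul, e, inv_smul_smul]) with e' | e'
        · exact Or.inr (Or.inr (Or.inl (Subtype.ext (inv_mul_eq_one.1 e').symm)))
        · exact Or.inr (Or.inr (Or.inr (Subtype.ext (inv_mul_eq_iff_eq_mul.1 e'))))
    · intro ht
      refine (hmemC t).2 (hnorm t t.2 ?_)
      rcases ht with rfl | rfl | rfl | rfl
      · exact Or.inl (one_smul G α)
      · exact Or.inl huα
      · exact Or.inr rfl
      · exact Or.inr (by show (y * u) • α = y • α; rw [mul_smul, huα])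
  rw [show Nat.card C = Nat.card (C : Set T) from rfl, hset, Nat.card_coe_set_eq]
  have hne : ∀ {a b : T}, (a : G) • α = α → (b : G) • α = y • α → a ≠ b := fun {a b} ha hb e =>
    hy (by rw [← hb, ← e, ha])
  have hne1 : (1 : T) ≠ ⟨u, huT⟩ := fun e => hu1 (congrArg Subtype.val e).symm
  have hne2 : (⟨y, hyT⟩ : T) ≠ ⟨y, hyT⟩ * ⟨u, huT⟩ := fun e => hne1 (left_eq_mul.1 e).symm
  have hyu : ((⟨y, hyT⟩ * ⟨u, huT⟩ : T) : G) • α = y • α := by
    show (y * u) • α = y • α
    rw [mul_smul, huα]
  have a1 : ((1 : T) : G) • α = α := one_smul G α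
  rw [Set.ncard_insert_of_notMem (by
      simp only [Set.mem_insert_iff, Set.mem_singleton_iff, not_or]
      exact ⟨hne1, hne a1 rfl, hne a1 hyu⟩),
    Set.ncard_insert_of_notMem (by
      simp only [Set.mem_insert_iff, Set.mem_singleton_iff, not_or]
      exact ⟨hne huα rfl, hne huα hyu⟩),
    Set.ncard_pair hne2]

theorem hom_even {X : Type*} [Group X] [Finite X] (hX : IsPGroup 2 X) (hnc : ¬ IsCyclic X) [Fintype X] [DecidableEq X]
    (x : X) : Equiv.Perm.sign (Equiv.mulLeft x) = 1 := by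
  classical
  haveI : Fact (Nat.Prime 2) := ⟨Nat.prime_two⟩
  set H := Subgroup.zpowers x
  have h1 : Equiv.mulLeft x = (Equiv.inv X).permCongr (Equiv.mulRight x⁻¹) := by
    ext y
    simp [Equiv.permCongr_apply]
  rw [h1, Equiv.Perm.sign_permCongr]
  set h : H := ⟨x⁻¹, H.inv_mem (Subgroup.mem_zpowers x)⟩
  let E : (X ⧸ H) × H ≃ X := Equiv.ofBijective (fun p => p.1.out * (p.2 : X)) ⟨by
    rintro ⟨q, s⟩ ⟨q', s'⟩ he
    have hq : q = q' := by
      have h0 := congrArg (QuotientGroup.mk : X → X ⧸ H) (show q.out * (s : X) = q'.out * (s' : X) from he)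
      rwa [QuotientGroup.mk_mul_of_mem _ s.2, QuotientGroup.mk_mul_of_mem _ s'.2, QuotientGroup.out_eq',
        QuotientGroup.out_eq'] at h0
    subst hq
    exact Prod.ext rfl (Subtype.ext (mul_left_cancel he)), fun y => by
      obtain ⟨s, hs⟩ := QuotientGroup.mk_out_eq_mul H y
      exact ⟨(QuotientGroup.mk y, s⁻¹), by simp [hs]⟩⟩
  have h2 : Equiv.mulRight x⁻¹ =
      E.permCongr (Equiv.prodCongrRight fun _ : X ⧸ H => Equiv.mulRight h) := by
    ext y
    obtain ⟨⟨q, s⟩, rfl⟩ := E.surjective y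
    rw [Equiv.permCongr_apply, Equiv.symm_apply_apply]
    show q.out * (s : X) * x⁻¹ = q.out * ((s * h : H) : X)
    rw [mul_assoc]
    rfl
  rw [h2, Equiv.Perm.sign_permCongr, Equiv.Perm.sign_prodCongrRight, Finset.prod_const, Finset.card_univ,
    ← Nat.card_eq_fintype_card, ← Subgroup.index_eq_card]
  obtain ⟨k, hk⟩ := hX.index H
  have hk0 : k ≠ 0 := fun e => hnc ⟨x, fun y => by
    have : H = ⊤ := Subgroup.index_eq_one.1 (by rw [hk, e, pow_zero])
    exact this.ge (Subgroup.mem_top y)⟩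
  obtain ⟨j, rfl⟩ := Nat.exists_eq_succ_of_ne_zero hk0
  rw [hk, pow_succ', pow_mul, Int.units_sq, one_pow]

/-- the data in the third case -/
structure Split (T : Subgroup G) (Ω : Type v) [MulAction G Ω] (α β : Ω) : Prop where
  ne : β ≠ α
  orb : ∀ t ∈ T, t • α = α ∨ t • α = β
  fixb : ∀ a ∈ T, a • α = α → a • β = β
  swap : ∃ t ∈ T, t • α = β
  free : ∀ t ∈ T, t ≠ 1 → ∀ ω : Ω, ω ≠ α → ω ≠ β → t • ω ≠ ω

theorem Split.mem_pair {α β : Ω} (h : Split T Ω α β) (t : G) (ht : t ∈ T) {ω : Ω} (hω : ω = α ∨ ω = β) :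
    t • ω = α ∨ t • ω = β := by
  obtain ⟨s, hs, hsα⟩ := h.swap
  rcases hω with rfl | rfl
  · exact h.orb t ht
  · rw [← hsα, ← mul_smul, hsα]
    exact h.orb _ (T.mul_mem ht hs)

theorem Split.orbit_free {α β : Ω} (h : Split T Ω α β) {ω : Ω} (hω : ω ∉ orbit T α) :
    Nat.card (orbit T ω) = Nat.card T := by
  have h0 : ω ≠ α := fun e => hω (by rw [e]; exact mem_orbit_self _)
  have h1 : ω ≠ β := fun e => by
    obtain ⟨s, hs, hsα⟩ := h.swap
    exact hω ⟨⟨s, hs⟩, hsα.trans e.symm⟩
  have hbot : stabilizer T ω = ⊥ := (Subgroup.eq_bot_iff_forall _).2 fun t ht => by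
    by_contra hne
    exact h.free t t.2 (fun e => hne (Subtype.ext e)) ω h0 h1 ht
  rw [Nat.card_congr (orbitEquivQuotientStabilizer T ω), hbot]
  exact Nat.card_congr (QuotientGroup.quotientBot).toEquiv

theorem Split.orbit_pair {α β : Ω} (h : Split T Ω α β) : Nat.card (orbit T α) = 2 := by
  have : orbit T α = {α, β} := by
    ext ω
    constructor
    · rintro ⟨t, rfl⟩
      exact h.orb t t.2
    · rintro (rfl | rfl)
      · exact mem_orbit_self _
      · obtain ⟨s, hs, hsα⟩ := h.swap
        exact ⟨⟨s, hs⟩, hsα⟩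
  rw [this, Nat.card_coe_set_eq, Set.ncard_pair h.ne.symm]

theorem Split.sign_eq [DecidableEq Ω] {α β : Ω} (h : Split T Ω α β) (hT : IsPGroup 2 T) (hnc : ¬ IsCyclic T)
    (t : G) (ht : t ∈ T) :
    Equiv.Perm.sign (MulAction.toPerm t : Equiv.Perm Ω) = if t • α = α then 1 else -1 := by
  classical
  let p : Ω → Prop := fun ω => ω = α ∨ ω = β
  have hp : ∀ s ∈ T, ∀ ω, p ω ↔ p (s • ω) := fun s hs ω =>
    ⟨fun hω => h.mem_pair s hs hω, fun hω => by simpa using h.mem_pair s⁻¹ (T.inv_mem hs) hω⟩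
  let σ : Equiv.Perm Ω := MulAction.toPerm t
  let ep : Equiv.Perm {ω // p ω} := σ.subtypePerm fun ω => (hp t ht ω).symm
  let en : Equiv.Perm {ω // ¬ p ω} := σ.subtypePerm fun ω => not_congr (hp t ht ω).symm
  have hσ : σ = ep.subtypeCongr en := by
    ext ω
    by_cases hω : p ω <;> simp [Equiv.Perm.subtypeCongr, Equiv.sumCompl, hω, ep, en] <;> rfl
  show Equiv.Perm.sign σ = _
  rw [hσ, Equiv.Perm.sign_subtypeCongr]
  have hen : Equiv.Perm.sign en = 1 := by
    haveI : Fintype T := Fintype.ofFinite _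
    let J := {q : Quotient (orbitRel T Ω) // ¬ p q.out}
    have hinv : ∀ (s : T) (ω : Ω), ¬ p ω → ¬ p ((s : G) • ω) := fun s ω hω h' => hω ((hp s s.2 ω).2 h')
    let F : J × T → {ω // ¬ p ω} := fun x => ⟨(x.2 : G) • x.1.1.out, hinv x.2 _ x.1.2⟩
    have hF : Function.Bijective F := by
      refine ⟨?_, ?_⟩
      · rintro ⟨q, s⟩ ⟨q', s'⟩ he
        have he' : (s : G) • q.1.out = (s' : G) • q'.1.out := congrArg Subtype.val he
        have hq : q = q' := by
          refine Subtype.ext (Quotient.out_equiv_out.1 ⟨s⁻¹ * s', ?_⟩)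
          show ((s⁻¹ * s' : T) : G) • q'.1.out = q.1.out
          rw [Subgroup.coe_mul, Subgroup.coe_inv, mul_smul, ← he', inv_smul_smul]
        subst hq
        refine Prod.ext rfl ?_
        by_contra hne
        have hfx : ((s'⁻¹ * s : T) : G) • q.1.out = q.1.out := by
          rw [Subgroup.coe_mul, Subgroup.coe_inv, mul_smul, he', inv_smul_smul]
        exact h.free _ (s'⁻¹ * s).2 (fun e => hne (inv_mul_eq_one.1 (Subtype.ext e : s'⁻¹ * s = 1)).symm) _
          (fun e => q.2 (Or.inl e)) (fun e => q.2 (Or.inr e)) hfx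
      · rintro ⟨ω, hω⟩
        obtain ⟨s, hs⟩ := (Quotient.mk_out (s := orbitRel T Ω) ω : (Quotient.mk (orbitRel T Ω) ω).out ∈ orbit T ω)
        refine ⟨⟨⟨Quotient.mk _ ω, ?_⟩, s⁻¹⟩, Subtype.ext ?_⟩
        · rw [← hs]; exact hinv s ω hω
        · show ((s⁻¹ : T) : G) • (Quotient.mk (orbitRel T Ω) ω).out = ω
          rw [← hs, Subgroup.coe_inv]
          exact inv_smul_smul (s : G) ω
    haveI : Fintype J := Fintype.ofFinite _
    have hen' : en = (Equiv.ofBijective F hF).permCongr
        (Equiv.prodCongrRight fun _ : J => Equiv.mulLeft (⟨t, ht⟩ : T)) := by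
      ext ω
      obtain ⟨⟨q, s⟩, rfl⟩ := (Equiv.ofBijective F hF).surjective ω
      rw [Equiv.permCongr_apply, Equiv.symm_apply_apply]
      simp [F, en, σ, Equiv.prodCongrRight, mul_smul]
    rw [hen', Equiv.Perm.sign_permCongr, Equiv.Perm.sign_prodCongrRight]
    exact Finset.prod_eq_one fun _ _ => hom_even hT hnc _
  rw [hen, mul_one]
  by_cases htα : t • α = α
  · rw [if_pos htα]
    have : ep = 1 := by
      refine Equiv.ext fun x => Subtype.ext ?_
      show t • (x : Ω) = x
      rcases x.2 with e | e <;> rw [e]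
      exacts [htα, h.fixb t ht htα]
    rw [this, map_one]
  · rw [if_neg htα]
    have htβ : t • α = β := (h.orb t ht).resolve_left htα
    have htβ' : t • β = α := by
      rcases h.mem_pair t ht (Or.inr rfl : β = α ∨ β = β) with e | e
      · exact e
      · exact absurd (smul_left_cancel t (e.trans htβ.symm)) h.ne
    have hab : (⟨α, Or.inl rfl⟩ : {ω // p ω}) ≠ ⟨β, Or.inr rfl⟩ := fun e => h.ne (congrArg Subtype.val e).symm
    have : ep = Equiv.swap ⟨α, Or.inl rfl⟩ ⟨β, Or.inr rfl⟩ := by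
      refine Equiv.ext fun x => ?_
      rcases x.2 with e | e
      · rw [show x = ⟨α, Or.inl rfl⟩ from Subtype.ext e, Equiv.swap_apply_left]
        exact Subtype.ext htβ
      · rw [show x = ⟨β, Or.inr rfl⟩ from Subtype.ext e, Equiv.swap_apply_right]
        exact Subtype.ext htβ'
    rw [this, Equiv.Perm.sign_swap hab]

theorem exists_hom (S : Sylow 2 G) {α β : Ω} (h : Split (S : Subgroup G) Ω α β) :
    ∃ N : Subgroup G, N.Normal ∧ N.index = 2 ∧ ∀ a ∈ (S : Subgroup G), a • α = α → a ∈ N := by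
  classical
  haveI : Fact (Nat.Prime 2) := ⟨Nat.prime_two⟩
  obtain ⟨y, hy, hyα⟩ := h.swap
  set T : Subgroup G := (S : Subgroup G)
  suffices H : ∃ N : Subgroup G, N.Normal ∧ y ∉ N ∧ (∀ a ∈ T, a • α = α → a ∈ N) ∧
      ∀ g₁ g₂ : G, g₁ ∉ N → g₂ ∉ N → g₁⁻¹ * g₂ ∈ N by
    obtain ⟨N, hN, hyN, hA, hxy⟩ := H
    refine ⟨N, hN, Subgroup.index_eq_two_iff.2 ⟨y, fun g => ?_⟩, hA⟩
    by_cases hg : g ∈ N
    · exact Or.inr ⟨hg, fun hgy => hyN (by simpa using N.mul_mem (N.inv_mem hg) hgy)⟩
    · refine Or.inl ⟨?_, hg⟩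
      have := hxy g⁻¹ y (fun h' => hg (by simpa using N.inv_mem h')) hyN
      simpa using this
  by_cases hc : IsCyclic T
  · have heven : (Nat.card G).minFac = 2 := by
      rw [Nat.minFac_eq_two_iff]
      refine dvd_trans ?_ (Subgroup.card_subgroup_dvd_card T)
      rw [← h.orbit_pair, Nat.card_congr (orbitEquivQuotientStabilizer T α)]
      exact Subgroup.card_quotient_dvd_card _
    have hN := IsCyclic.normalizer_le_centralizer heven hc
    set A : Subgroup T := (stabilizer G α).subgroupOf T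
    have hAi : A.index = 2 := by
      rw [← h.orbit_pair, Nat.card_congr (orbitEquivQuotientStabilizer T α), ← Subgroup.index_eq_card]
      rfl
    haveI := Subgroup.normal_of_index_eq_two hAi
    set φ : G →* T ⧸ A := (QuotientGroup.mk' A).comp (MonoidHom.transferSylow S hN)
    have hval : ∀ t : T, φ t = QuotientGroup.mk (t ^ T.index) := fun t => by
      show QuotientGroup.mk' A (MonoidHom.transferSylow S hN t) = _
      rw [MonoidHom.transferSylow_eq_pow S hN (t : G) t.2]
      rfl
    have hodd : ∀ v : T ⧸ A, v ^ T.index = v := fun v => by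
      have h2 : v ^ 2 = 1 := by rw [← hAi, Subgroup.index_eq_card]; exact pow_card_eq_one'
      obtain ⟨m, hm⟩ : Odd T.index := Nat.not_even_iff_odd.1 fun he => S.not_dvd_index (even_iff_two_dvd.1 he)
      rw [hm, pow_succ, pow_mul, h2, one_pow, one_mul]
    refine ⟨φ.ker, inferInstance, fun hk => ?_, fun a ha haα => ?_, fun g₁ g₂ h₁ h₂ => ?_⟩
    · rw [MonoidHom.mem_ker, hval ⟨y, hy⟩, QuotientGroup.mk_pow, hodd] at hk
      exact h.ne (hyα.symm.trans ((QuotientGroup.eq_one_iff (⟨y, hy⟩ : T)).1 hk))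
    · rw [MonoidHom.mem_ker, hval ⟨a, ha⟩, QuotientGroup.mk_pow, hodd]
      exact (QuotientGroup.eq_one_iff _).2 haα
    · rw [MonoidHom.mem_ker, map_mul, map_inv]
      rw [MonoidHom.mem_ker] at h₁ h₂
      have hcard : Nat.card (T ⧸ A) = 2 := by rw [← Subgroup.index_eq_card, hAi]
      obtain ⟨p, q, -, hU⟩ := Nat.card_eq_two_iff.1 hcard
      have hm : ∀ v : T ⧸ A, v = p ∨ v = q := fun v => by
        have hv : v ∈ ({p, q} : Set _) := hU ▸ Set.mem_univ v
        simpa using hv
      rcases hm 1 with e | e <;> rcases hm (φ g₁) with e1 | e1 <;> rcases hm (φ g₂) with e2 | e2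
      all_goals first
        | exact absurd (e1.trans e.symm) h₁
        | exact absurd (e2.trans e.symm) h₂
        | (rw [e1, e2, inv_mul_cancel])
  · set φ : G →* ℤˣ := Equiv.Perm.sign.comp (MulAction.toPermHom G Ω)
    refine ⟨φ.ker, inferInstance, fun hk => ?_, fun a ha haα => ?_, fun g₁ g₂ h₁ h₂ => ?_⟩
    · have h1 := h.sign_eq S.isPGroup' hc y hy
      rw [if_neg (fun e => h.ne (hyα.symm.trans e))] at h1
      rw [MonoidHom.mem_ker] at hk
      exact absurd (hk.symm.trans h1) (by decide)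
    · have h1 := h.sign_eq S.isPGroup' hc a ha
      rw [if_pos haα] at h1
      exact h1
    · rw [MonoidHom.mem_ker, map_mul, map_inv, (Int.units_eq_one_or (φ g₁)).resolve_left h₁,
        (Int.units_eq_one_or (φ g₂)).resolve_left h₂]
      decide

theorem exists_frobenius (S : Sylow 2 G) (htr : IsPretransitive G Ω) (hfix : Fix2 G Ω) {α β : Ω}
    (h : Split (S : Subgroup G) Ω α β) (hnt : ∃ a ∈ (S : Subgroup G), a ≠ 1 ∧ a • α = α)
    (h4 : 4 ≤ Nat.card (S : Subgroup G)) :
    ∃ N : Subgroup G, N.Normal ∧ N.index = 2 ∧ ∃ H : Subgroup N, Cfsg.IsFrobeniusComplement H := by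
  classical
  haveI : Fact (Nat.Prime 2) := ⟨Nat.prime_two⟩
  haveI := htr
  obtain ⟨N, hN, hidx, hA⟩ := exists_hom S h
  set T : Subgroup G := (S : Subgroup G) with hT
  set A : Subgroup G := T ⊓ stabilizer G α
  have hTA : Nat.card T = 2 * Nat.card A := by
    have h1 := Nat.card_congr (orbitProdStabilizerEquivGroup T α)
    rw [Nat.card_prod, h.orbit_pair] at h1
    rw [← h1]
    congr 1
    show Nat.card ((stabilizer G α).subgroupOf T) = _
    rw [← Subgroup.card_map_of_injective T.subtype_injective, Subgroup.subgroupOf_map_subtype, inf_comm]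
  set H : Subgroup N := stabilizer N α
  have hHN : Nat.card H = Nat.card (stabilizer G α ⊓ N : Subgroup G) := by
    show Nat.card ((stabilizer G α).subgroupOf N) = _
    rw [← Subgroup.card_map_of_injective N.subtype_injective, Subgroup.subgroupOf_map_subtype]
  set O := orbit N α
  have hON : Nat.card O = H.index := by
    rw [Nat.card_congr (orbitEquivQuotientStabilizer N α), ← Subgroup.index_eq_card]
  have hGN : Nat.card G = 2 * Nat.card N := by rw [← N.card_mul_index, hidx, mul_comm]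
  have hodd : Odd (Nat.card O) := by
    rw [Nat.odd_iff, ← Nat.two_dvd_ne_zero, hON]
    intro hd
    have h1 : Nat.card A ∣ Nat.card H := by
      rw [hHN]; exact Subgroup.card_dvd_of_le (le_inf inf_le_right fun a ha => hA a ha.1 ha.2)
    have h2 : Nat.card T * 2 ∣ Nat.card G := by
      rw [hTA, hGN, mul_assoc]
      refine mul_dvd_mul_left 2 ?_
      rw [← H.card_mul_index]
      exact mul_dvd_mul h1 hd
    rw [← T.card_mul_index] at h2
    exact S.not_dvd_index (Nat.dvd_of_mul_dvd_mul_left Nat.card_pos h2)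
  have hn : Nat.card G = Nat.card Ω * Nat.card (stabilizer G α) := by
    rw [← Nat.card_congr (orbitProdStabilizerEquivGroup G α), Nat.card_prod, orbit_eq_univ, Nat.card_congr (Equiv.Set.univ Ω)]
  have heven : Even (Nat.card Ω) := by
    have hdvd : ∀ q : Quotient (orbitRel T Ω), 2 ∣ Nat.card (orbit T q.out) := fun q => by
      obtain ⟨ω, hω⟩ : ∃ ω, ω = q.out := ⟨_, rfl⟩
      rw [← hω]
      by_cases hm : ω ∈ orbit T α
      · rw [orbit_eq_iff.2 hm, h.orbit_pair]
      · rw [h.orbit_free hm, hTA]; exact dvd_mul_right _ _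
    haveI : Fintype (Quotient (orbitRel T Ω)) := Fintype.ofFinite _
    rw [Nat.card_congr (selfEquivSigmaOrbits T Ω), Nat.card_sigma, even_iff_two_dvd]
    exact Finset.dvd_sum fun q _ => hdvd q
  -- `Ω` is the union of two `N`-orbits of equal size
  have hhalf : Nat.card Ω = 2 * Nat.card O := by
    have h1 : Nat.card (stabilizer G α ⊓ N : Subgroup G) * N.relIndex (stabilizer G α) = Nat.card (stabilizer G α) := by
      rw [← Subgroup.inf_relIndex_right, inf_comm N]
      have h := ((stabilizer G α ⊓ N).subgroupOf (stabilizer G α)).card_mul_index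
      rwa [Nat.card_congr (Subgroup.subgroupOfEquivOfLe inf_le_left).toEquiv] at h
    have hr2 : N.relIndex (stabilizer G α) ∣ 2 := hidx ▸ Subgroup.relIndex_dvd_index_of_normal N (stabilizer G α)
    have key : Nat.card Ω * N.relIndex (stabilizer G α) = 2 * Nat.card O := by
      have e : Nat.card G = 2 * (Nat.card H * Nat.card O) := by rw [hGN, hON, H.card_mul_index]
      rw [hn, ← h1, hHN] at e
      have hpos : 0 < Nat.card (stabilizer G α ⊓ N : Subgroup G) := Nat.card_pos
      refine Nat.eq_of_mul_eq_mul_left hpos ?_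
      linarith
    rcases (Nat.dvd_prime Nat.prime_two).1 hr2 with e | e <;> rw [e] at key
    · omega
    · exfalso
      obtain ⟨k, hk⟩ := heven
      obtain ⟨j, hj⟩ := hodd
      omega
  refine ⟨N, hN, hidx, H, ?_, ?_, ?_⟩
  · obtain ⟨a, ha, ha1, haα⟩ := hnt
    intro e
    have hm : (⟨a, hA a ha haα⟩ : N) ∈ H := haα
    rw [e, Subgroup.mem_bot] at hm
    exact ha1 (congrArg Subtype.val hm)
  · intro e
    have hO1 : Nat.card O = 1 := by rw [hON, e, Subgroup.index_top]
    rw [hO1, mul_one] at hhalf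
    have : ∀ a ∈ T, a • α = α → a = 1 := by
      intro a ha haα
      refine FaithfulSMul.eq_of_smul_eq_smul (α := Ω) fun ω => ?_
      rw [one_smul]
      obtain ⟨p, q, -, hU⟩ := Nat.card_eq_two_iff.1 hhalf
      have hm : ∀ v : Ω, v = p ∨ v = q := fun v => by
        have hv : v ∈ ({p, q} : Set Ω) := hU ▸ Set.mem_univ v
        simpa using hv
      have hb := h.fixb a ha haα
      rcases hm α with e1 | e1 <;> rcases hm β with e2 | e2 <;> rcases hm ω with e3 | e3
      all_goals first
        | exact absurd (e2.trans e1.symm) h.ne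
        | (rw [e3, ← e1]; exact haα)
        | (rw [e3, ← e2]; exact hb)
    obtain ⟨a, ha, ha1, haα⟩ := hnt
    exact ha1 (this a ha haα)
  · intro g hg
    rw [Subgroup.eq_bot_iff_forall]
    intro x hx
    obtain ⟨hxH, hxg⟩ := hx
    by_contra hx1
    obtain ⟨x', hx', hxe⟩ := hxg
    have hgα : ((g : N) : G) • α ≠ α := hg
    have hxgα : (x : G) • (g : G) • α = (g : G) • α := by
      have hx'α : ((x' : N) : G) • α = α := hx'
      rw [← hxe]
      simp [mul_smul, hx'α]
    have honly : ∀ ω : Ω, (x : G) • ω = ω → ω = α ∨ ω = (g : G) • α := by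
      intro ω hω
      rcases hfix (x : G) (fun e => hx1 (Subtype.ext e)) α ((g : G) • α) ω hxH hxgα hω with e | e | e
      · exact absurd e.symm hgα
      · exact Or.inl e.symm
      · exact Or.inr e.symm
    -- pass to an element of prime order
    obtain ⟨p, hp, hpd⟩ := Nat.exists_prime_and_dvd (fun e => hx1 (orderOf_eq_one_iff.1 e))
    haveI := Fact.mk hp
    set z := x ^ (orderOf x / p) with hz
    have hzo : orderOf z = p := orderOf_pow_orderOf_div (orderOf_pos x).ne' hpd
    have hfixx : ∀ ω : Ω, (x : G) • ω = ω → (z : G) • ω = ω := fun ω hω => by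
      rw [hz, Subgroup.coe_pow]
      exact (stabilizer G ω).pow_mem hω _
    have hz1 : (z : G) ≠ 1 := fun e => by
      rw [show z = 1 from Subtype.ext e, orderOf_one] at hzo
      exact hp.one_lt.ne hzo
    have honlyz : ∀ ω : Ω, (z : G) • ω = ω → ω = α ∨ ω = (g : G) • α := by
      intro ω hω
      rcases hfix (z : G) hz1 α ((g : G) • α) ω (hfixx _ hxH) (hfixx _ hxgα) hω with e | e | e
      · exact absurd e.symm hgα
      · exact Or.inl e.symm
      · exact Or.inr e.symm
    have hpg : IsPGroup p (Subgroup.zpowers z) :=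
      IsPGroup.of_card (n := 1) (by rw [Nat.card_zpowers, hzo, pow_one])
    have hzg : ∀ ω : Ω, ω ∈ fixedPoints (Subgroup.zpowers z) Ω ↔ (z : G) • ω = ω := by
      intro ω
      refine ⟨fun hω => hω ⟨z, Subgroup.mem_zpowers z⟩, fun hω ⟨y, hy⟩ => ?_⟩
      obtain ⟨k, rfl⟩ := Subgroup.mem_zpowers_iff.1 hy
      show ((z ^ k : N) : G) • ω = ω
      rw [Subgroup.coe_zpow]
      exact (stabilizer G ω).zpow_mem hω k
    have hgO : (g : G) • α ∈ O := ⟨g, rfl⟩
    have hαO : α ∈ O := mem_orbit_self α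
    letI : MulAction (Subgroup.zpowers z) O := MulAction.compHom O (Subgroup.zpowers z).subtype
    have hfO : Nat.card (fixedPoints (Subgroup.zpowers z) O) = 2 := by
      have : fixedPoints (Subgroup.zpowers z) O = {⟨α, hαO⟩, ⟨(g : G) • α, hgO⟩} := by
        ext ⟨ω, hω⟩
        simp only [Set.mem_insert_iff, Set.mem_singleton_iff, Subtype.mk.injEq]
        constructor
        · intro hf
          exact honlyz ω ((hzg ω).1 fun k => congrArg Subtype.val (hf k))
        · intro e k
          refine Subtype.ext ?_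
          have hk : ω ∈ fixedPoints (Subgroup.zpowers z) Ω := (hzg ω).2 (by
            rcases e with rfl | rfl
            · exact hfixx _ hxH
            · exact hfixx _ hxgα)
          exact hk k
      rw [this, Nat.card_coe_set_eq, Set.ncard_pair (fun e => hgα (congrArg Subtype.val e).symm)]
    have hfΩ : Nat.card (fixedPoints (Subgroup.zpowers z) Ω) = 2 := by
      have : fixedPoints (Subgroup.zpowers z) Ω = {α, (g : G) • α} := by
        ext ω
        simp only [Set.mem_insert_iff, Set.mem_singleton_iff]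
        exact ⟨fun hω => honlyz ω ((hzg ω).1 hω), fun e => (hzg ω).2 (by
          rcases e with rfl | rfl
          · exact hfixx _ hxH
          · exact hfixx _ hxgα)⟩
      rw [this, Nat.card_coe_set_eq, Set.ncard_pair hgα.symm]
    have e1 := hpg.card_modEq_card_fixedPoints O
    rw [hfO] at e1
    by_cases hp2 : p = 2
    · subst hp2
      obtain ⟨j, hj⟩ := hodd
      have := Nat.ModEq.symm e1
      unfold Nat.ModEq at this
      omega
    · have e2 := hpg.card_modEq_card_fixedPoints Ω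
      rw [hfΩ, hhalf] at e2
      have e3 : 2 * 2 ≡ 2 [MOD p] := (Nat.ModEq.mul_left 2 e1.symm).trans e2
      have h5 : p ∣ 4 - 2 := (Nat.modEq_iff_dvd' (by norm_num)).1 e3.symm
      exact hp2 ((Nat.prime_dvd_prime_iff_eq hp Nat.prime_two).1 h5)

theorem main {G : Type u} [Group G] [Finite G] {Ω : Type v} [Fintype Ω] [MulAction G Ω] [FaithfulSMul G Ω]
    (htr : MulAction.IsPretransitive G Ω)
    (hfix : ∀ g : G, g ≠ 1 → Nat.card (MulAction.fixedBy Ω g) ≤ 2) (α : Ω) (S : Sylow 2 G) :
    (S : Subgroup G) ⊓ MulAction.stabilizer G α = ⊥ ∨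
    (((∃ n : ℕ, Nonempty (↥(S : Subgroup G) ≃* DihedralGroup n)) ∨ Cfsg.IsQuasiDihedral ↥(S : Subgroup G)) ∧
       (Nat.card ↥((S : Subgroup G) ⊓ MulAction.stabilizer G α) = 2 ∨ ((S : Subgroup G) ⊓ MulAction.stabilizer G α).relIndex (S : Subgroup G) = 2)) ∨
    (4 ≤ Nat.card (S : Subgroup G) ∧
       (∃ ω : Ω, Nat.card (MulAction.orbit ↥(S : Subgroup G) ω) = 2 ∧
          ∀ ω' : Ω, ω' ∉ MulAction.orbit ↥(S : Subgroup G) ω → Nat.card (MulAction.orbit ↥(S : Subgroup G) ω') = Nat.card (S : Subgroup G)) ∧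
       ∃ N : Subgroup G, N.Normal ∧ (N.index = 2 ∨ N.index = Nat.card (S : Subgroup G)) ∧ (∃ H : Subgroup ↥N, Cfsg.IsFrobeniusComplement H)) ∨
    (S : Subgroup G) ≤ MulAction.stabilizer G α := by
  classical
  haveI : Fact (Nat.Prime 2) := ⟨Nat.prime_two⟩
  set T : Subgroup G := (S : Subgroup G) with hT
  by_cases hle : T ≤ stabilizer G α
  · exact Or.inr (Or.inr (Or.inr hle))
  by_cases hbot : T ⊓ stabilizer G α = ⊥
  · exact Or.inl hbot
  obtain ⟨a, ⟨haT, haα⟩, ha1⟩ : ∃ a ∈ T ⊓ stabilizer G α, a ≠ 1 := by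
    by_contra! hall
    exact hbot ((Subgroup.eq_bot_iff_forall _).2 hall)
  have hyp : Hyp T Ω α := ⟨S.isPGroup', fix2_of hfix, hle, a, haT, ha1, haα⟩
  -- index two is forced when `T` is cyclic of order four
  have hindex : Nat.card (T ⊓ stabilizer G α : Subgroup G) = 2 → Nat.card T = 4 →
      ∃ β : Ω, β ≠ α ∧ (∀ t ∈ T, t • α = α ∨ t • α = β) ∧ (∀ a ∈ T, a • α = α → a • β = β) ∧ ∃ t ∈ T, t • α = β := by
    intro h2 h4
    obtain ⟨y, hyT, hy, -, hfb, hN⟩ := exists_swap hyp
    refine ⟨y • α, hy, fun t ht => hN t ht fun c hc hcα => ?_, hfb, y, hyT, rfl⟩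
    letI : CommGroup T :=
      { (inferInstance : Group T) with
        mul_comm := IsPGroup.commutative_of_card_eq_prime_sq (p := 2) (h4.trans (by norm_num)) }
    have e : (⟨t, ht⟩ : T) * ⟨c, hc⟩ = ⟨c, hc⟩ * ⟨t, ht⟩ := mul_comm _ _
    have e' : t * c = c * t := congrArg Subtype.val e
    rw [mul_assoc, ← e', inv_mul_cancel_left]
    exact hcα
  by_cases hds : (∃ n : ℕ, Nonempty (T ≃* DihedralGroup n)) ∨ Cfsg.IsQuasiDihedral T
  · by_cases h2 : Nat.card (T ⊓ stabilizer G α : Subgroup G) = 2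
    · exact Or.inr (Or.inl ⟨hds, Or.inl h2⟩)
    · obtain ⟨β, hne, horb, hfb, s, hs, hsα⟩ := (two_or_index hyp).resolve_left h2
      refine Or.inr (Or.inl ⟨hds, Or.inr ?_⟩)
      have horb2 : orbit T α = {α, β} := by
        ext ω
        constructor
        · rintro ⟨t, rfl⟩; exact horb t t.2
        · rintro (rfl | rfl)
          · exact mem_orbit_self _
          · exact ⟨⟨s, hs⟩, hsα⟩
      rw [Subgroup.inf_relIndex_left]
      show ((stabilizer G α).subgroupOf T).index = 2
      rw [show (stabilizer G α).subgroupOf T = stabilizer T α from rfl, Subgroup.index_eq_card,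
        ← Nat.card_congr (orbitEquivQuotientStabilizer T α), horb2, Nat.card_coe_set_eq, Set.ncard_pair hne.symm]
  -- otherwise the third case
  have hsplit : ∃ β : Ω, β ≠ α ∧ (∀ t ∈ T, t • α = α ∨ t • α = β) ∧ (∀ a ∈ T, a • α = α → a • β = β) ∧ ∃ t ∈ T, t • α = β := by
    rcases two_or_index hyp with h2 | h
    · rcases shape hyp h2 with h | ⟨-, h4⟩
      · exact absurd h hds
      · exact hindex h2 h4
    · exact h
  obtain ⟨β, hne, horb, hfb, s, hs, hsα⟩ := hsplit
  have hfree : ∀ t ∈ T, t ≠ 1 → ∀ ω : Ω, ω ≠ α → ω ≠ β → t • ω ≠ ω := by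
    intro t ht ht1 ω hωα hωβ hω
    have htα : t • α ≠ α := fun e => by
      rcases hyp.fix t ht1 α β ω e (hfb t ht e) hω with e' | e' | e'
      · exact hne e'.symm
      · exact hωα e'.symm
      · exact hωβ e'.symm
    have hω2 : Nat.card (T ⊓ stabilizer G ω : Subgroup G) = 2 := by
      rw [Nat.card_eq_two_iff]
      refine ⟨1, ⟨t, ht, hω⟩, fun e => ht1 (congrArg Subtype.val e).symm, ?_⟩
      refine Set.eq_univ_of_forall fun ⟨x, hxT, hxω⟩ => ?_
      by_cases hxα : x • α = α
      · left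
        refine Subtype.ext ?_
        by_contra hx1
        rcases hyp.fix x hx1 α β ω hxα (hfb x hxT hxα) hxω with e' | e' | e'
        · exact hne e'.symm
        · exact hωα e'.symm
        · exact hωβ e'.symm
      · right
        refine Subtype.ext ?_
        show x = t
        by_contra hxt
        have h1 : (t⁻¹ * x) • α = α := by
          rw [mul_smul, (horb x hxT).resolve_left hxα, inv_smul_eq_iff, (horb t ht).resolve_left htα]
        have h2 : (t⁻¹ * x) • ω = ω := by rw [mul_smul, show x • ω = ω from hxω, inv_smul_eq_iff, hω]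
        have h3 : t⁻¹ * x ≠ 1 := fun e => hxt (inv_mul_eq_one.1 e).symm
        rcases hyp.fix _ h3 α β ω h1 (hfb _ (T.mul_mem (T.inv_mem ht) hxT) h1) h2 with e' | e' | e'
        · exact hne e'.symm
        · exact hωα e'.symm
        · exact hωβ e'.symm
    have hypω : Hyp T Ω ω := by
      refine ⟨S.isPGroup', hyp.fix, fun hl => ?_, t, ht, ht1, hω⟩
      rcases hyp.fix a ha1 α β ω haα (hfb a haT haα) (hl haT) with e' | e' | e'
      · exact hne e'.symm
      · exact hωα e'.symm
      · exact hωβ e'.symm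
    rcases shape hypω hω2 with h | ⟨hc, h4⟩
    · exact hds h
    · -- a cyclic group has a single subgroup of order two
      have hAcard : Nat.card (T ⊓ stabilizer G α : Subgroup G) = 2 := by
        have h1 := Nat.card_congr (orbitProdStabilizerEquivGroup T α)
        have horb2 : orbit T α = {α, β} := by
          ext ω'
          constructor
          · rintro ⟨t', rfl⟩; exact horb t' t'.2
          · rintro (rfl | rfl)
            · exact mem_orbit_self _
            · exact ⟨⟨s, hs⟩, hsα⟩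
        rw [Nat.card_prod, horb2, Nat.card_coe_set_eq, Set.ncard_pair hne.symm, h4] at h1
        have h2 : Nat.card (stabilizer T α) = 2 := by omega
        rw [← h2]
        show _ = Nat.card ((stabilizer G α).subgroupOf T)
        rw [← Subgroup.card_map_of_injective T.subtype_injective, Subgroup.subgroupOf_map_subtype, inf_comm]
      have hsq : ∀ ω' : Ω, Nat.card (T ⊓ stabilizer G ω' : Subgroup G) = 2 → ∀ x : G, ∀ hx : x ∈ T,
          x • ω' = ω' → orderOf (⟨x, hx⟩ : T) ∣ 2 := by
        intro ω' hc2 x hx hxω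
        rw [Subgroup.orderOf_mk, ← hc2]
        exact Subgroup.orderOf_dvd_natCard _ ⟨hx, hxω⟩
      have e1 : orderOf (⟨a, haT⟩ : T) = 2 := by
        rcases (Nat.dvd_prime Nat.prime_two).1 (hsq α hAcard a haT haα) with e | e
        · exact absurd (congrArg Subtype.val (orderOf_eq_one_iff.1 e)) ha1
        · exact e
      have e2 : orderOf (⟨t, ht⟩ : T) = 2 := by
        rcases (Nat.dvd_prime Nat.prime_two).1 (hsq ω hω2 t ht hω) with e | e
        · exact absurd (congrArg Subtype.val (orderOf_eq_one_iff.1 e)) ht1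
        · exact e
      haveI : Fintype T := Fintype.ofFinite _
      have hcnt := IsCyclic.card_pow_eq_one_le (α := T) (n := 2) two_pos
      have hsub : ({1, ⟨a, haT⟩, ⟨t, ht⟩} : Finset T) ⊆ Finset.univ.filter (fun v : T => v ^ 2 = 1) := by
        intro v hv
        simp only [Finset.mem_insert, Finset.mem_singleton] at hv
        rw [Finset.mem_filter]
        refine ⟨Finset.mem_univ _, ?_⟩
        rcases hv with rfl | rfl | rfl
        · exact one_pow 2
        · rw [← e1]; exact pow_orderOf_eq_one _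
        · rw [← e2]; exact pow_orderOf_eq_one _
      have h3 : ({1, ⟨a, haT⟩, ⟨t, ht⟩} : Finset T).card = 3 := Finset.card_eq_three.2
        ⟨1, ⟨a, haT⟩, ⟨t, ht⟩, fun e => ha1 (congrArg Subtype.val e).symm,
          fun e => ht1 (congrArg Subtype.val e).symm, fun e => htα (by
            have e' : a = t := congrArg Subtype.val e
            rw [← e']; exact haα), rfl⟩
      have := Finset.card_le_card hsub
      omega
  have hsp : Split T Ω α β := ⟨hne, horb, hfb, ⟨s, hs, hsα⟩, hfree⟩
  have h4 : 4 ≤ Nat.card T := by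
    have h1 := Nat.card_congr (orbitProdStabilizerEquivGroup T α)
    rw [Nat.card_prod, hsp.orbit_pair] at h1
    have h2 : 2 ≤ Nat.card (stabilizer T α) := by
      refine (Subgroup.one_lt_card_iff_ne_bot _).2 fun e => ?_
      have hm : (⟨a, haT⟩ : T) ∈ stabilizer T α := haα
      rw [e, Subgroup.mem_bot] at hm
      exact ha1 (congrArg Subtype.val hm)
    omega
  obtain ⟨N, hN, hidx, hF⟩ := exists_frobenius S htr hyp.fix hsp ⟨a, haT, ha1, haα⟩ h4
  exact Or.inr (Or.inr (Or.inl ⟨h4, ⟨α, hsp.orbit_pair, fun ω' hω' => hsp.orbit_free hω'⟩, N, hN, Or.inl hidx, hF⟩))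

end Cfsg.Agent.Lie.FixityTwoSylow
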