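import Mathlib
import Cfsg.Agent.Lib.Char.FourOrder
import Cfsg.Agent.Lib.Local.ElemAb
import Cfsg.Agent.Lib.Lie.OrderSixty

/-!
An involution whose commuting involutions form a four group.
-/

set_option autoImplicit false

open Cfsg

namespace Cfsg.Agent.Lie.InvFour

variable {G : Type*} [Group G] [Finite G]

/-- the involution in the group generated by two involutions -/
noncomputable def mid (u v : G) : G := (u * v) ^ (orderOf (u * v) / 2)

theorem mid_spec {u v : G} (hu : u * u = 1) (hv : v * v = 1) (hnc : ¬ IsConj u v) :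
    mid u v ≠ 1 ∧ mid u v * mid u v = 1 ∧ mid u v * u = u * mid u v ∧ mid u v * v = v * mid u v := by
  have hui : u⁻¹ = u := inv_eq_of_mul_eq_one_right hu
  have hvi : v⁻¹ = v := inv_eq_of_mul_eq_one_right hv
  have hinv : ∀ k : ℕ, u * (u * v) ^ k * u⁻¹ = ((u * v) ^ k)⁻¹ := fun k => by
    rw [← conj_pow, ← inv_pow]
    congr 1
    rw [mul_inv_rev, hui, hvi, ← mul_assoc u u v, hu, one_mul]
  have hpos := orderOf_pos (u * v)
  set n := orderOf (u * v) with hn
  have hev : Even n := by
    by_contra ho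
    rw [Nat.not_even_iff_odd] at ho
    obtain ⟨k, hk⟩ := ho
    refine hnc (isConj_iff.2 ⟨(u * v) ^ k, ?_⟩)
    have h1 : (u * v) ^ (2 * k) * (u * v) = 1 := by rw [← pow_succ, ← hk, hn, pow_orderOf_eq_one]
    have h2 : u * ((u * v) ^ k)⁻¹ = (u * v) ^ k * u := by
      have := hinv k
      rw [← this, ← mul_assoc u (u * (u * v) ^ k), ← mul_assoc u u, hu, one_mul, hui]
    rw [mul_assoc, h2, ← mul_assoc, ← pow_add, ← two_mul, eq_inv_of_mul_eq_one_left h1, mul_inv_rev, hui, hvi,
      mul_assoc, hu, mul_one]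
  obtain ⟨k, hk⟩ := hev
  have hk2 : n / 2 = k := by omega
  show (u * v) ^ (n / 2) ≠ 1 ∧ (u * v) ^ (n / 2) * (u * v) ^ (n / 2) = 1 ∧ (u * v) ^ (n / 2) * u = u * (u * v) ^ (n / 2) ∧
    (u * v) ^ (n / 2) * v = v * (u * v) ^ (n / 2)
  rw [hk2]
  have hw2 : (u * v) ^ k * (u * v) ^ k = 1 := by rw [← pow_add, ← hk, hn, pow_orderOf_eq_one]
  have hcu : (u * v) ^ k * u = u * (u * v) ^ k := by
    have h := hinv k
    rw [inv_eq_of_mul_eq_one_right hw2, mul_inv_eq_iff_eq_mul] at h
    exact h.symm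
  refine ⟨fun h => ?_, hw2, hcu, ?_⟩
  · have := Nat.le_of_dvd (by omega) (orderOf_dvd_of_pow_eq_one h)
    omega
  · have hc : Commute ((u * v) ^ k) (u * v) := (Commute.refl _).pow_left k
    have h2 : Commute ((u * v) ^ k) (u * (u * v)) := Commute.mul_right hcu hc
    rwa [← mul_assoc, hu, one_mul] at h2

theorem mid_conj (g u v : G) : mid (g * u * g⁻¹) (g * v * g⁻¹) = g * mid u v * g⁻¹ := by
  simp only [mid]
  rw [conj_mul, conj_pow]
  congr 2
  rw [show g * (u * v) * g⁻¹ = MulAut.conj g (u * v) from rfl, MulEquiv.orderOf_eq]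

/-- **All conjugates of `z` commute with it.** -/
theorem class_commute {x z : G} (hx : x * x = 1) (hz : z * z = 1) (hx1 : x ≠ 1) (hz1 : z ≠ 1)
    (hxz : x * z = z * x)
    (hV : ∀ w : G, w * w = 1 → w * x = x * w → w = 1 ∨ w = x ∨ w = z ∨ w = x * z)
    (hconj : IsConj x (x * z)) (hnc : ¬ IsConj x z) :
    ∀ g : G, Commute (g * z * g⁻¹) z := by
  classical
  letI := Fintype.ofFinite G
  let X : Finset G := Finset.univ.filter fun u => IsConj x u
  let Z : Finset G := Finset.univ.filter fun u => IsConj z u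
  have hX : ∀ u, u ∈ X ↔ IsConj x u := fun u => by simp [X]
  have hZ : ∀ u, u ∈ Z ↔ IsConj z u := fun u => by simp [Z]
  have hmove : ∀ (g u w : G), IsConj u w → IsConj u (g * w * g⁻¹) := fun g u w h =>
    h.trans (isConj_iff.2 ⟨g, rfl⟩)
  have hXinv : ∀ u ∈ X, u * u = 1 := fun u hu => by
    obtain ⟨g, rfl⟩ := isConj_iff.1 ((hX u).1 hu)
    rw [conj_mul, hx, mul_one, mul_inv_cancel]
  have hZinv : ∀ u ∈ Z, u * u = 1 := fun u hu => by
    obtain ⟨g, rfl⟩ := isConj_iff.1 ((hZ u).1 hu)
    rw [conj_mul, hz, mul_one, mul_inv_cancel]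
  have hXne : ∀ u ∈ X, u ≠ 1 := fun u hu h => by
    obtain ⟨g, rfl⟩ := isConj_iff.1 ((hX u).1 hu); exact hx1 (conj_eq_one_iff.1 h)
  have hZne : ∀ u ∈ Z, u ≠ 1 := fun u hu h => by
    obtain ⟨g, rfl⟩ := isConj_iff.1 ((hZ u).1 hu); exact hz1 (conj_eq_one_iff.1 h)
  have hdisj : ∀ u ∈ X, u ∉ Z := fun u hu hu' => hnc (((hX u).1 hu).trans ((hZ u).1 hu').symm)
  have hxz1 : x * z ≠ 1 := fun h => hdisj x ((hX x).2 (IsConj.refl x))
    ((hZ x).2 (by rw [mul_eq_one_iff_eq_inv.1 h, inv_eq_of_mul_eq_one_right hz]))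
  -- the elements of the two classes commuting with `x`
  have hZx : ∀ v ∈ Z, v * x = x * v → v = z := fun v hv hc => by
    rcases hV v (hZinv v hv) hc with h | h | h | h
    · exact absurd h (hZne v hv)
    · exact absurd hv (h ▸ hdisj x ((hX x).2 (IsConj.refl x)))
    · exact h
    · exact absurd hv (h ▸ hdisj _ ((hX _).2 hconj))
  have hXx : ∀ u ∈ X, u * x = x * u → u = x ∨ u = x * z := fun u hu hc => by
    rcases hV u (hXinv u hu) hc with h | h | h | h
    · exact absurd h (hXne u hu)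
    · exact Or.inl h
    · exact absurd ((hX z).1 (h ▸ hu)) hnc
    · exact Or.inr h
  have hback : ∀ g a b : G, (g⁻¹ * a * g) * b = b * (g⁻¹ * a * g) ↔ a * (g * b * g⁻¹) = (g * b * g⁻¹) * a := by
    intro g a b
    constructor
    · intro h
      have := congrArg (fun t => g * t * g⁻¹) h
      convert this using 1 <;> group
    · intro h
      have := congrArg (fun t => g⁻¹ * t * g) h
      convert this using 1 <;> group
  -- every element of `X` commutes with exactly one element of `Z`
  have hone : ∀ u ∈ X, (Z.filter fun v => v * u = u * v).card = 1 := fun u hu => by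
    obtain ⟨g, rfl⟩ := isConj_iff.1 ((hX u).1 hu)
    rw [Finset.card_eq_one]
    refine ⟨g * z * g⁻¹, Finset.eq_singleton_iff_unique_mem.2 ⟨Finset.mem_filter.2
      ⟨(hZ _).2 (hmove g z z (IsConj.refl z)), by rw [conj_mul, conj_mul, hxz]⟩, fun v hv => ?_⟩⟩
    obtain ⟨hv, hc⟩ := Finset.mem_filter.1 hv
    have h1 : g⁻¹ * v * g ∈ Z := (hZ _).2 (by simpa using hmove g⁻¹ z v ((hZ v).1 hv))
    have h2 := hZx _ h1 ((hback g v x).2 hc)
    rw [← h2]; group
  set a := (X.filter fun u => u * z = z * u).card with ha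
  set m := (Z.filter fun v => v * z = z * v).card with hm
  have hav : ∀ v ∈ Z, (X.filter fun u => u * v = v * u).card = a := fun v hv => by
    obtain ⟨g, rfl⟩ := isConj_iff.1 ((hZ v).1 hv)
    refine Finset.card_nbij' (fun u => g⁻¹ * u * g) (fun u => g * u * g⁻¹) ?_ ?_ ?_ ?_
    · intro u hu
      obtain ⟨hu, hc⟩ := Finset.mem_filter.1 hu
      exact Finset.mem_filter.2 ⟨(hX _).2 (by simpa using hmove g⁻¹ x u ((hX u).1 hu)), (hback g u z).2 hc⟩
    · intro u hu
      obtain ⟨hu, hc⟩ := Finset.mem_filter.1 hu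
      exact Finset.mem_filter.2 ⟨(hX _).2 (hmove g x u ((hX u).1 hu)), by rw [conj_mul, conj_mul, hc]⟩
    · intro u _; group
    · intro u _; group
  have hdouble : X.card = Z.card * a := by
    have h := Finset.sum_card_bipartiteAbove_eq_sum_card_bipartiteBelow (s := X) (t := Z) (fun u v => v * u = u * v)
    have e1 : ∑ u ∈ X, ((Z.bipartiteAbove (fun u v => v * u = u * v) u).card) = ∑ u ∈ X, 1 :=
      Finset.sum_congr rfl fun u hu => hone u hu
    have e2 : ∑ v ∈ Z, ((X.bipartiteBelow (fun u v => v * u = u * v) v).card) = ∑ v ∈ Z, a :=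
      Finset.sum_congr rfl fun v hv => (congrArg Finset.card (Finset.filter_congr fun u _ => eq_comm)).trans (hav v hv)
    rw [e1, e2, Finset.sum_const, Finset.sum_const, smul_eq_mul, smul_eq_mul, mul_one] at h
    exact h
  let F : G → ℕ := fun w => ((X ×ˢ Z).filter fun p => mid p.1 p.2 = w).card
  have hFconj : ∀ g w, F w ≤ F (g * w * g⁻¹) := fun g w => by
    refine Finset.card_le_card_of_injOn (fun p => (g * p.1 * g⁻¹, g * p.2 * g⁻¹)) (fun p hp => ?_) ?_
    · rw [Finset.mem_coe, Finset.mem_filter, Finset.mem_product] at hp ⊢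
      exact ⟨⟨(hX _).2 (hmove g x _ ((hX _).1 hp.1.1)), (hZ _).2 (hmove g z _ ((hZ _).1 hp.1.2))⟩,
        by rw [mid_conj, hp.2]⟩
    · intro p _ q _ h
      simp only [Prod.mk.injEq, mul_left_inj, mul_right_inj] at h
      exact Prod.ext h.1 h.2
  have hFx : F x ≤ 1 := by
    refine le_trans (Finset.card_le_card (t := {(x * z, z)}) fun p hp => ?_) (by simp)
    obtain ⟨hp, hmid⟩ := Finset.mem_filter.1 hp
    obtain ⟨hu, hv⟩ := Finset.mem_product.1 hp
    obtain ⟨-, -, hcu, hcv⟩ := mid_spec (hXinv _ hu) (hZinv _ hv)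
      (fun h => hnc (((hX _).1 hu).trans (h.trans ((hZ _).1 hv).symm)))
    rw [hmid] at hcu hcv
    have ev := hZx _ hv hcv.symm
    rcases hXx _ hu hcu.symm with eu | eu
    · exfalso
      have h2 : orderOf (x * z) = 2 := orderOf_eq_prime (by
        rw [pow_two, mul_assoc, ← mul_assoc z, ← hxz, mul_assoc x z, hz, mul_one, hx]) hxz1
      rw [ev, eu, mid, h2] at hmid
      simp at hmid
      exact hz1 hmid
    · rw [Finset.mem_singleton]; exact Prod.ext eu ev
  have hFz : F z ≤ a * (m - 1) := by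
    refine le_trans (Finset.card_le_card
      (t := (X.filter fun u => u * z = z * u) ×ˢ ((Z.filter fun v => v * z = z * v).erase z)) fun p hp => ?_) ?_
    · obtain ⟨hp, hmid⟩ := Finset.mem_filter.1 hp
      obtain ⟨hu, hv⟩ := Finset.mem_product.1 hp
      obtain ⟨-, -, hcu, hcv⟩ := mid_spec (hXinv _ hu) (hZinv _ hv)
        (fun h => hnc (((hX _).1 hu).trans (h.trans ((hZ _).1 hv).symm)))
      rw [hmid] at hcu hcv
      refine Finset.mem_product.2 ⟨Finset.mem_filter.2 ⟨hu, hcu.symm⟩,
        Finset.mem_erase.2 ⟨fun e => ?_, Finset.mem_filter.2 ⟨hv, hcv.symm⟩⟩⟩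
      have hne : p.1 * z ≠ 1 := fun h => hdisj _ hu ((hZ _).2 (by
        rw [mul_eq_one_iff_eq_inv.1 h, inv_eq_of_mul_eq_one_right hz]))
      have h2 : orderOf (p.1 * z) = 2 := orderOf_eq_prime (by
        rw [pow_two, mul_assoc, ← mul_assoc z, hcu, mul_assoc p.1 z, hz, mul_one, hXinv _ hu]) hne
      rw [e, mid, h2] at hmid
      simp at hmid
      exact hXne _ hu hmid
    · rw [Finset.card_product, Finset.card_erase_of_mem (s := Z.filter fun v => v * z = z * v) (Finset.mem_filter.2 ⟨(hZ z).2 (IsConj.refl z), rfl⟩)]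
  have hcount : X.card * Z.card ≤ X.card + Z.card * (a * (m - 1)) := by
    rw [← Finset.card_product, Finset.card_eq_sum_card_fiberwise (f := fun p : G × G => mid p.1 p.2) (t := X ∪ Z) ?_,
      Finset.sum_union (Finset.disjoint_left.2 hdisj)]
    · refine add_le_add ((Finset.sum_le_card_nsmul X _ 1 fun w hw => ?_).trans (by simp))
        ((Finset.sum_le_card_nsmul Z _ (a * (m - 1)) fun w hw => ?_).trans (by simp))
      · obtain ⟨g, rfl⟩ := isConj_iff.1 ((hX w).1 hw)
        refine le_trans ?_ hFx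
        have := hFconj g⁻¹ (g * x * g⁻¹)
        rwa [show g⁻¹ * (g * x * g⁻¹) * g⁻¹⁻¹ = x by group] at this
      · obtain ⟨g, rfl⟩ := isConj_iff.1 ((hZ w).1 hw)
        refine le_trans ?_ hFz
        have := hFconj g⁻¹ (g * z * g⁻¹)
        rwa [show g⁻¹ * (g * z * g⁻¹) * g⁻¹⁻¹ = z by group] at this
    · intro p hp
      show mid p.1 p.2 ∈ X ∪ Z
      rw [Finset.mem_coe, Finset.mem_product] at hp
      obtain ⟨h1, h2, hcu, -⟩ := mid_spec (hXinv _ hp.1) (hZinv _ hp.2)
        (fun h => hnc (((hX _).1 hp.1).trans (h.trans ((hZ _).1 hp.2).symm)))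
      obtain ⟨g, hg⟩ := isConj_iff.1 ((hX _).1 hp.1)
      have hback' : mid p.1 p.2 = g * (g⁻¹ * mid p.1 p.2 * g) * g⁻¹ := by group
      rw [Finset.mem_union]
      rcases hV (g⁻¹ * mid p.1 p.2 * g) (by
          rw [show g⁻¹ * mid p.1 p.2 * g * (g⁻¹ * mid p.1 p.2 * g) = g⁻¹ * (mid p.1 p.2 * mid p.1 p.2) * g by group,
            h2]; group)
        ((hback g (mid p.1 p.2) x).2 (by rw [hg]; exact hcu)) with h | h | h | h <;> rw [h] at hback'
      · rw [mul_one, mul_inv_cancel] at hback'; exact absurd hback' h1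
      · left; rw [hX, hback']; exact hmove g x x (IsConj.refl x)
      · right; rw [hZ, hback']; exact hmove g z z (IsConj.refl z)
      · left; rw [hX, hback']; exact hmove g x _ hconj
  have hle : Z.card ≤ m := by
    have hXpos : 0 < X.card := Finset.card_pos.2 ⟨x, (hX x).2 (IsConj.refl x)⟩
    have hmpos : 0 < m := Finset.card_pos.2 ⟨z, Finset.mem_filter.2 ⟨(hZ z).2 (IsConj.refl z), rfl⟩⟩
    obtain ⟨j, hj⟩ : ∃ j, m = j + 1 := ⟨m - 1, by omega⟩
    rw [hj, Nat.add_sub_cancel, ← mul_assoc, ← hdouble, Nat.add_comm, ← Nat.mul_succ] at hcount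
    rw [hj]
    exact Nat.le_of_mul_le_mul_left hcount hXpos
  intro g
  have hall := Finset.eq_of_subset_of_card_le (Finset.filter_subset (fun v => v * z = z * v) Z) hle
  have : g * z * g⁻¹ ∈ Z := (hZ _).2 (hmove g z z (IsConj.refl z))
  rw [← hall] at this
  exact (Finset.mem_filter.1 this).2

/-- In that situation there is a normal elementary abelian subgroup of order two or four. -/
theorem exists_small_normal {x z : G} (hx : x * x = 1) (hz : z * z = 1) (hx1 : x ≠ 1) (hz1 : z ≠ 1)
    (hxz : x * z = z * x)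
    (hV : ∀ w : G, w * w = 1 → w * x = x * w → w = 1 ∨ w = x ∨ w = z ∨ w = x * z)
    (hconj : IsConj x (x * z)) (hnc : ¬ IsConj x z) :
    ∃ E : Subgroup G, E.Normal ∧ IsElementaryAbelian 2 E ∧ (Nat.card E = 2 ∨ Nat.card E = 4) := by
  classical
  haveI : Fact (Nat.Prime 2) := ⟨Nat.prime_two⟩
  have hcm := class_commute hx hz hx1 hz1 hxz hV hconj hnc
  set N := Subgroup.normalClosure ({z} : Set G) with hN
  haveI hNn : N.Normal := Subgroup.normalClosure_normal
  have hcomm : ∀ a ∈ Group.conjugatesOfSet ({z} : Set G), ∀ b ∈ Group.conjugatesOfSet ({z} : Set G), a * b = b * a := by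
    intro a ha b hb
    obtain ⟨z', hz', hca⟩ := Group.mem_conjugatesOfSet_iff.1 ha
    obtain ⟨z'', hz'', hcb⟩ := Group.mem_conjugatesOfSet_iff.1 hb
    rw [Set.mem_singleton_iff] at hz' hz''
    subst z'; subst z''
    obtain ⟨g, rfl⟩ := isConj_iff.1 hca
    obtain ⟨h, rfl⟩ := isConj_iff.1 hcb
    have e := (hcm (h⁻¹ * g)).eq
    have := congrArg (fun t => h * t * h⁻¹) e
    convert this using 1 <;> group
  haveI : IsMulCommutative N := Subgroup.isMulCommutative_closure hcomm
  have hexp : ∀ a ∈ N, a ^ 2 = 1 := by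
    intro a ha
    induction ha using Subgroup.closure_induction with
    | mem a ha =>
      obtain ⟨z', hz', hca⟩ := Group.mem_conjugatesOfSet_iff.1 ha
      rw [Set.mem_singleton_iff] at hz'
      subst z'
      obtain ⟨g, rfl⟩ := isConj_iff.1 hca
      rw [conj_pow, pow_two, hz, mul_one, mul_inv_cancel]
    | one => exact one_pow 2
    | mul a b ha hb iha ihb =>
      have h : Commute a b := congrArg Subtype.val (IsMulCommutative.is_comm.comm (⟨a, ha⟩ : N) ⟨b, hb⟩)
      rw [h.mul_pow, iha, ihb, one_mul]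
    | inv a _ iha => rw [inv_pow, iha, inv_one]
  have hEl : IsElementaryAbelian 2 N := ⟨inferInstance, hexp⟩
  refine ⟨N, hNn, hEl, ?_⟩
  have hzN : z ∈ N := Subgroup.subset_normalClosure rfl
  have hle : Nat.card N ≤ 4 := by
    have hmem : ∀ w ∈ N, w * x = x * w → w = 1 ∨ w = x ∨ w = z ∨ w = x * z := fun w hw hwx =>
      hV w (by rw [← pow_two]; exact hexp w hw) hwx
    by_cases hxN : x ∈ N
    · have hsub : (N : Set G) ⊆ {1, x, z, x * z} := fun w hw => by
        rcases hmem w hw (congrArg Subtype.val (IsMulCommutative.is_comm.comm (⟨w, hw⟩ : N) ⟨x, hxN⟩)) with h | h | h | h <;>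
          simp [h]
      refine le_trans (Set.ncard_le_ncard hsub (Set.toFinite _)) ?_
      refine (Set.ncard_insert_le _ _).trans (Nat.succ_le_succ ?_)
      refine (Set.ncard_insert_le _ _).trans (Nat.succ_le_succ ?_)
      refine (Set.ncard_insert_le _ _).trans (Nat.succ_le_succ ?_)
      simp
    · have hxnorm : x ∈ Subgroup.normalizer (N : Set G) := by rw [Subgroup.normalizer_eq_top]; exact Subgroup.mem_top x
      refine le_trans (Cfsg.Agent.Local.card_le_sq_card_fixed hEl (fun e he => hNn.conj_mem e he x)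
        (fun e _ => by rw [pow_two, hx, one_mul, mul_one])) ?_
      have hsub : ((N ⊓ Subgroup.centralizer {x} : Subgroup G) : Set G) ⊆ {1, z} := fun w hw => by
        rcases hmem w hw.1 (Subgroup.mem_centralizer_singleton_iff.1 hw.2) with h | h | h | h
        · simp [h]
        · exact absurd (h ▸ hw.1) hxN
        · simp [h]
        · exact absurd (by
            have := mul_mem (h ▸ hw.1 : x * z ∈ N) hzN
            rwa [mul_assoc, hz, mul_one] at this) hxN
      have h2 : Nat.card ↥(N ⊓ Subgroup.centralizer {x}) ≤ 2 := by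
        refine le_trans (Set.ncard_le_ncard hsub (Set.toFinite _)) ?_
        exact (Set.ncard_insert_le _ _).trans (by simp)
      calc Nat.card ↥(N ⊓ Subgroup.centralizer {x}) ^ 2 ≤ 2 ^ 2 := Nat.pow_le_pow_left h2 2
        _ = 4 := rfl
  obtain ⟨k, hk⟩ := IsPGroup.iff_card.1 (show IsPGroup 2 N from fun a => ⟨1, Subtype.ext (by simpa using hexp a.1 a.2)⟩)
  have hne : Nat.card N ≠ 1 := fun h => hz1 (Subgroup.mem_bot.1 (Subgroup.card_eq_one.1 h ▸ hzN))
  rw [hk] at hle hne ⊢
  have hk2 : k ≤ 2 := by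
    by_contra h
    have : 2 ^ 3 ≤ 2 ^ k := Nat.pow_le_pow_right two_pos (by omega)
    omega
  interval_cases k <;> norm_num at *

/-- order sixty or twelve from the degree equations -/
theorem arith {n : ℕ} {a b c : ℤ} (ha : a % 4 = 1) (hb : b % 4 = 1) (hc : c % 4 = 1)
    (hsum : 1 + a + b + c = 0) (hprod : (n : ℤ) * ((1 + a) * (1 + b) * (1 + c)) = 32 * (a * b * c))
    (hsq : 1 + a ^ 2 + b ^ 2 + c ^ 2 ≤ n) : n = 60 ∨ n = 12 := by
  have key : ∀ t : ℤ, t % 4 = 1 → (1 + t ≠ 0) ∧ 2 * |t| ≤ 3 * |1 + t| := fun t ht => by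
    refine ⟨by omega, ?_⟩
    rcases abs_cases t with ⟨e, he⟩ | ⟨e, he⟩ <;> rcases abs_cases (1 + t) with ⟨e', he'⟩ | ⟨e', he'⟩ <;> omega
  obtain ⟨a0, ka⟩ := key a ha
  obtain ⟨b0, kb⟩ := key b hb
  obtain ⟨c0, kc⟩ := key c hc
  have hn : (n : ℤ) ≤ 108 := by
    have h2 : (8 : ℤ) * (|a| * |b| * |c|) ≤ 27 * (|1 + a| * |1 + b| * |1 + c|) := by
      have := mul_le_mul (mul_le_mul ka kb (by positivity) (by positivity)) kc (by positivity) (by positivity)
      linarith
    have habs := congrArg abs hprod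
    simp only [abs_mul, Nat.abs_cast] at habs
    rw [abs_of_pos (by norm_num : (0 : ℤ) < 32)] at habs
    have hpos : (0 : ℤ) < |1 + a| * |1 + b| * |1 + c| := by positivity
    nlinarith [habs, h2, hpos]
  have bd : ∀ t : ℤ, t ^ 2 ≤ 107 → t % 4 = 1 → t = -7 ∨ t = -3 ∨ t = 1 ∨ t = 5 ∨ t = 9 := fun t ht ht' => by
    have h1 : -11 < t := by nlinarith
    have h2 : t < 11 := by nlinarith
    omega
  have sa := sq_nonneg a
  have sb := sq_nonneg b
  have sc := sq_nonneg c
  rcases bd a (by linarith) ha with rfl | rfl | rfl | rfl | rfl <;>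
    rcases bd b (by linarith) hb with rfl | rfl | rfl | rfl | rfl <;>
      rcases bd c (by linarith) hc with rfl | rfl | rfl | rfl | rfl <;>
        first | omega | (norm_num at hprod hsq ⊢; done) | (norm_num at hprod hsq ⊢; omega)

open Cfsg.Agent Cfsg.Agent.Char in
/-- The signed degrees of the principal block when the centralisers of a four-group and of its involution agree. -/
theorem degree_equation (P : Sylow 2 G) (hP : Nat.card P = 4) {x : G} (hxP : x ∈ (P : Subgroup G))
    (hx : orderOf x = 2) (hCeq : Subgroup.centralizer ({x} : Set G) = Subgroup.centralizer ((P : Subgroup G) : Set G))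
    (hnc : ¬ HasNormalPComplement 2 G) :
    ∃ a b c : ℤ, a % 4 = 1 ∧ b % 4 = 1 ∧ c % 4 = 1 ∧ 1 + a + b + c = 0 ∧
      (Nat.card G : ℤ) * ((1 + a) * (1 + b) * (1 + c)) =
        8 * (Nat.card ↥(Subgroup.centralizer ({x} : Set G)) : ℤ) * (a * b * c) ∧
      1 + a ^ 2 + b ^ 2 + c ^ 2 ≤ Nat.card G := by
  classical
  letI := Fintype.ofFinite G
  haveI : Fact (Nat.Prime 2) := ⟨Nat.prime_two⟩
  obtain ⟨M, hM⟩ := exists_pModular (p := 2) Nat.prime_two
  obtain ⟨hexp, hone⟩ := one_class_of_four P hP (fun ⟨N, hN, hc⟩ => hnc ⟨P, N, hN, hc⟩)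
  have hx1 : x ≠ 1 := fun h => by simp [h] at hx
  obtain ⟨z, hk, hz, hz2⟩ := four_signs hM P hP hexp hone hxP hx1
  set B := principalBlock M G
  set one : IrrCharacter G := ⟨fun _ => 1, isIrrCharacter_one⟩
  have h1B : one ∈ B := self_mem_blockOf (pmod_prime hM) one
  have hcard : (B.toFinset.erase one).card = 3 := by
    rw [Finset.card_erase_of_mem (Set.mem_toFinset.2 h1B), Set.toFinset_card, ← Nat.card_eq_fintype_card, hk]
  obtain ⟨c1, c2, c3, h12, h13, h23, hB3⟩ := Finset.card_eq_three.1 hcard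
  have hmem : ∀ c, c ∈ B ↔ c = one ∨ c = c1 ∨ c = c2 ∨ c = c3 := fun c => by
    have h := Finset.ext_iff.1 hB3 c
    simp only [Finset.mem_erase, Set.mem_toFinset, Finset.mem_insert, Finset.mem_singleton] at h
    by_cases hc : c = one
    · simp [hc, h1B]
    · simp only [ne_eq, hc, not_false_eq_true, true_and] at h
      simp [h, hc]
  have hnot : ∀ c, c = c1 ∨ c = c2 ∨ c = c3 → c ≠ one := fun c hc => by
    have h := (Finset.ext_iff.1 hB3 c).2 (by simp [hc])
    exact (Finset.mem_erase.1 h).1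
  have hzc : ∀ c, c = c1 ∨ c = c2 ∨ c = c3 → z c = 1 ∨ z c = -1 := fun c hc =>
    sq_eq_one_iff.1 (hz2 c ((hmem c).2 (Or.inr hc)))
  obtain ⟨hdeg, hcnt, -⟩ := four_equations hM P hP hexp hone hxP hx (χ₁ := c1) (χ₂ := c2) (χ₃ := c3)
    (ε₁ := z c1) (ε₂ := z c2) (ε₃ := z c3)
    (Set.ext fun c => by
      rw [Set.mem_setOf_eq, hmem]
      exact or_congr ⟨fun h => by rw [h], fun h => Subtype.ext h⟩ Iff.rfl)
    ⟨fun h => hnot c1 (Or.inl rfl) (Subtype.ext h), fun h => hnot c2 (Or.inr (Or.inl rfl)) (Subtype.ext h),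
      fun h => hnot c3 (Or.inr (Or.inr rfl)) (Subtype.ext h), h12, h13, h23⟩
    ⟨hzc c1 (Or.inl rfl), hzc c2 (Or.inr (Or.inl rfl)), hzc c3 (Or.inr (Or.inr rfl))⟩ ⟨hz c1, hz c2, hz c3⟩
  rw [← hCeq] at hcnt
  set cx := Nat.card ↥(Subgroup.centralizer ({x} : Set G)) with hcx
  have hcx0 : (cx : ℚ) ≠ 0 := Nat.cast_ne_zero.mpr Nat.card_pos.ne'
  -- congruence modulo four
  have hcong : ∀ c, (c = c1 ∨ c = c2 ∨ c = c3) → (z c * (charDegree (c : G → ℂ) : ℤ)) % 4 = 1 := by
    intro c hc
    haveI : Fintype (P : Subgroup G) := Fintype.ofFinite _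
    obtain ⟨n, hn⟩ := classInner_natCast (isCharacter_comp (P : Subgroup G).subtype (irr_isCharacter c.2))
      (isCharacter_one (G := (P : Subgroup G)))
    have hval : ∀ a : (P : Subgroup G), a ≠ 1 → (c : G → ℂ) a = z c := by
      intro a ha
      have ha2 : orderOf (a : G) = 2 := orderOf_eq_prime
        (by have := congrArg Subtype.val (hexp a); rw [← pow_two] at this; simpa using this)
        fun h => ha (Subtype.ext h)
      obtain ⟨g, hg⟩ := isConj_iff.1 (hone a x ha2 hx)
      rw [← isClassFunction_character (irr_isCharacter c.2) (a : G) g, hg, hz]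
    simp only [classInner, Function.comp_apply, Subgroup.coe_subtype, map_one, mul_one] at hn
    rw [← Finset.add_sum_erase _ _ (Finset.mem_univ (1 : (P : Subgroup G))),
      Finset.sum_congr rfl (fun a ha => hval a (Finset.ne_of_mem_erase ha)), Finset.sum_const,
      Finset.card_erase_of_mem (Finset.mem_univ _), Finset.card_univ, ← Nat.card_eq_fintype_card,
      show Nat.card (P : Subgroup G) = 4 from hP, OneMemClass.coe_one, char_one_eq_deg (irr_isCharacter c.2),
      ← charDegree_eq_deg, inv_mul_eq_iff_eq_mul₀ (by norm_num)] at hn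
    have hn' : (charDegree (c : G → ℂ) : ℤ) + 3 * z c = 4 * n := by
      apply Int.cast_injective (α := ℂ)
      push_cast
      simpa [nsmul_eq_mul] using hn
    rcases hzc c hc with h | h <;> rw [h] at hn' ⊢ <;> omega
  have hd0 : ∀ c : IrrCharacter G, (charDegree (c : G → ℂ) : ℚ) ≠ 0 := fun c => by
    rw [charDegree_eq_deg]; exact Nat.cast_ne_zero.mpr (deg_pos c.2).ne'
  have hsq : ∀ c, (c = c1 ∨ c = c2 ∨ c = c3) → (z c * (charDegree (c : G → ℂ) : ℤ)) ^ 2 = (charDegree (c : G → ℂ) : ℤ) ^ 2 := by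
    intro c hc; rcases hzc c hc with h | h <;> rw [h] <;> ring
  refine ⟨z c1 * charDegree (c1 : G → ℂ), z c2 * charDegree (c2 : G → ℂ), z c3 * charDegree (c3 : G → ℂ),
    hcong c1 (Or.inl rfl), hcong c2 (Or.inr (Or.inl rfl)),
    hcong c3 (Or.inr (Or.inr rfl)), hdeg, ?_, ?_⟩
  · have e1 : (1 + (z c1 : ℚ) / charDegree (c1 : G → ℂ) + (z c2 : ℚ) / charDegree (c2 : G → ℂ) +
        (z c3 : ℚ) / charDegree (c3 : G → ℂ)) * (Nat.card G : ℚ) = 8 * (cx : ℚ) := by
      refine mul_right_cancel₀ (pow_ne_zero 2 hcx0) ?_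
      linear_combination hcnt
    have i1 : (z c1 : ℚ) ^ 2 = 1 := by exact_mod_cast hz2 c1 ((hmem c1).2 (Or.inr (Or.inl rfl)))
    have i2 : (z c2 : ℚ) ^ 2 = 1 := by exact_mod_cast hz2 c2 ((hmem c2).2 (Or.inr (Or.inr (Or.inl rfl))))
    have i3 : (z c3 : ℚ) ^ 2 = 1 := by exact_mod_cast hz2 c3 ((hmem c3).2 (Or.inr (Or.inr (Or.inr rfl))))
    have hd : (1 : ℚ) + z c1 * charDegree (c1 : G → ℂ) + z c2 * charDegree (c2 : G → ℂ) +
        z c3 * charDegree (c3 : G → ℂ) = 0 := by exact_mod_cast hdeg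
    have := hd0 c1; have := hd0 c2; have := hd0 c3
    field_simp at e1
    apply Int.cast_injective (α := ℚ)
    push_cast
    linear_combination ((z c1 : ℚ) * z c2 * z c3) * e1
      + (Nat.card G : ℚ) * hd
      - (Nat.card G : ℚ) * ((z c2 * z c3 * charDegree (c2 : G → ℂ) * charDegree (c3 : G → ℂ)) * i1
        + (z c1 * z c3 * charDegree (c1 : G → ℂ) * charDegree (c3 : G → ℂ)) * i2
        + (z c1 * z c2 * charDegree (c1 : G → ℂ) * charDegree (c2 : G → ℂ)) * i3)
  · have h := sum_sq_deg (G := G)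
    have h3 : ∑ c ∈ ({one, c1, c2, c3} : Finset (IrrCharacter G)), (charDegree (c : G → ℂ) : ℝ) ^ 2 ≤
        ∑ c : IrrCharacter G, (charDegree (c : G → ℂ) : ℝ) ^ 2 :=
      Finset.sum_le_sum_of_subset_of_nonneg (Finset.subset_univ _) fun c _ _ => by positivity
    have h' : ∑ c : IrrCharacter G, (charDegree (c : G → ℂ) : ℝ) ^ 2 = (Nat.card G : ℝ) := by
      apply Complex.ofReal_injective
      push_cast
      rw [← h]
      exact Finset.sum_congr rfl fun c _ => by rw [char_one_eq_deg (irr_isCharacter c.2), ← charDegree_eq_deg]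
    rw [h', Finset.sum_insert (by simp [Ne.symm (hnot c1 (Or.inl rfl)), Ne.symm (hnot c2 (Or.inr (Or.inl rfl))),
      Ne.symm (hnot c3 (Or.inr (Or.inr rfl)))]), Finset.sum_insert (by simp [h12, h13]), Finset.sum_pair h23,
      show charDegree (one : G → ℂ) = 1 from by simp [one, charDegree]] at h3
    rw [hsq c1 (Or.inl rfl), hsq c2 (Or.inr (Or.inl rfl)), hsq c3 (Or.inr (Or.inr rfl))]
    have h4 : (1 : ℝ) + (charDegree (c1 : G → ℂ) : ℝ) ^ 2 + (charDegree (c2 : G → ℂ) : ℝ) ^ 2 +
        (charDegree (c3 : G → ℂ) : ℝ) ^ 2 ≤ Nat.card G := by push_cast at h3; linarith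
    exact_mod_cast h4

/-- A self-centralising Sylow four-group. -/
theorem order_of_self_centralising (P : Sylow 2 G) (hP : Nat.card P = 4) {x : G} (hxP : x ∈ (P : Subgroup G))
    (hx : orderOf x = 2) (hC : Nat.card ↥(Subgroup.centralizer ({x} : Set G)) = 4)
    (hnc : ¬ HasNormalPComplement 2 G) : Nat.card G = 60 ∨ Nat.card G = 12 := by
  classical
  letI := Fintype.ofFinite G
  haveI : Fact (Nat.Prime 2) := ⟨Nat.prime_two⟩
  obtain ⟨hexp, -⟩ := Cfsg.Agent.Char.one_class_of_four P hP (fun ⟨N, hN, hc⟩ => hnc ⟨P, N, hN, hc⟩)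
  have hPC : (P : Subgroup G) ≤ Subgroup.centralizer ({x} : Set G) := fun a ha =>
    Subgroup.mem_centralizer_singleton_iff.2 (Cfsg.Agent.Char.comm_of_exp_two hexp a ha x hxP)
  have hCeq : Subgroup.centralizer ({x} : Set G) = Subgroup.centralizer ((P : Subgroup G) : Set G) := by
    refine le_antisymm ?_ (Subgroup.centralizer_le (Set.singleton_subset_iff.2 hxP))
    rw [← Subgroup.eq_of_le_of_card_ge hPC (by rw [hC]; exact hP.ge)]
    exact fun a ha b hb => Cfsg.Agent.Char.comm_of_exp_two hexp b hb a ha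
  obtain ⟨a, b, c, ha, hb, hc, hsum, hprod, hsq⟩ := degree_equation P hP hxP hx hCeq hnc
  rw [hC] at hprod
  exact arith ha hb hc hsum (by rw [hprod]; norm_num) hsq

/-- **Groups with an involution centralised by a four group only.** -/
theorem alt_five_of_centralizer_four (x : G) (hx : orderOf x = 2)
    (hC4 : Nat.card ↥(Subgroup.centralizer ({x} : Set G)) = 4)
    (hCe : ∀ c ∈ Subgroup.centralizer ({x} : Set G), c ^ 2 = 1)
    (hnc : ¬ HasNormalPComplement 2 G)
    (hne : ∀ E : Subgroup G, E.Normal → IsElementaryAbelian 2 E → Nat.card ↥E ≠ 2 ∧ Nat.card ↥E ≠ 4) :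
    Nonempty (G ≃* ↥(alternatingGroup (Fin 5))) := by
  classical
  letI := Fintype.ofFinite G
  haveI : Fact (Nat.Prime 2) := ⟨Nat.prime_two⟩
  set C := Subgroup.centralizer ({x} : Set G) with hCdef
  have hxC : x ∈ C := Subgroup.mem_centralizer_singleton_iff.2 rfl
  have hxx : x * x = 1 := by rw [← pow_two, ← hx, pow_orderOf_eq_one]
  have hx1 : x ≠ 1 := fun h => by simp [h] at hx
  have hC2 : IsPGroup 2 C := IsPGroup.of_card (n := 2) (by rw [hC4]; rfl)
  obtain ⟨P, hCP⟩ := hC2.exists_le_sylow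
  by_cases hPC : (P : Subgroup G) ≤ C
  swap
  · exfalso
    have hlt : C < (P : Subgroup G) := lt_of_le_of_ne hCP fun h => hPC h.ge
    haveI : Nontrivial (P : Subgroup G) :=
      (Subgroup.nontrivial_iff_ne_bot _).2 (fun h => hPC (h ▸ bot_le))
    haveI := P.2.center_nontrivial
    obtain ⟨⟨⟨z, hzP⟩, hzc⟩, hz1'⟩ := exists_ne (1 : ↥(Subgroup.center (P : Subgroup G)))
    have hzc' : ∀ p ∈ (P : Subgroup G), p * z = z * p := fun p hp =>
      congrArg Subtype.val (Subgroup.mem_center_iff.1 hzc ⟨p, hp⟩)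
    have hzC : z ∈ C := Subgroup.mem_centralizer_singleton_iff.2 (hzc' x (hCP hxC)).symm
    have hz1 : z ≠ 1 := fun h => hz1' (Subtype.ext (Subtype.ext h))
    have hzz : z * z = 1 := by rw [← pow_two]; exact hCe z hzC
    have hzx : z ≠ x := fun h => hPC fun p hp => Subgroup.mem_centralizer_singleton_iff.2 (h ▸ hzc' p hp)
    have hxz : x * z = z * x := hzc' x (hCP hxC)
    have hxz1 : x * z ≠ 1 := fun h => hzx (by
      rw [← inv_eq_of_mul_eq_one_right h, inv_eq_of_mul_eq_one_right hxx])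
    have hCeq : ∀ w ∈ C, w = 1 ∨ w = x ∨ w = z ∨ w = x * z := by
      intro w hw
      have hall : (Finset.univ : Finset C) = {1, ⟨x, hxC⟩, ⟨z, hzC⟩, ⟨x * z, mul_mem hxC hzC⟩} := by
        refine (Finset.eq_univ_of_card _ ?_).symm
        rw [← Nat.card_eq_fintype_card, hC4, Finset.card_insert_of_notMem, Finset.card_insert_of_notMem, Finset.card_pair]
        · intro h; exact hx1 (right_eq_mul.1 (congrArg Subtype.val h))
        · simp only [Finset.mem_insert, Finset.mem_singleton, Subtype.mk.injEq, not_or]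
          exact ⟨Ne.symm hzx, fun h => hz1 (left_eq_mul.1 h)⟩
        · simp only [Finset.mem_insert, Finset.mem_singleton, not_or, Subtype.ext_iff, OneMemClass.coe_one]
          exact ⟨Ne.symm hx1, Ne.symm hz1, Ne.symm hxz1⟩
      have : (⟨w, hw⟩ : C) ∈ ({1, ⟨x, hxC⟩, ⟨z, hzC⟩, ⟨x * z, mul_mem hxC hzC⟩} : Finset C) := hall ▸ Finset.mem_univ _
      simpa [Subtype.ext_iff] using this
    -- an element of the normaliser of `C` in `P` outside `C`
    obtain ⟨g, hgN, hgC⟩ : ∃ g : (P : Subgroup G), g ∈ Subgroup.normalizer ((C.subgroupOf P) : Set (P : Subgroup G)) ∧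
        g ∉ C.subgroupOf P := by
      have hlt' : C.subgroupOf P < ⊤ := lt_top_iff_ne_top.2 fun h => hPC (Subgroup.subgroupOf_eq_top.1 h)
      haveI : Group.IsNilpotent (P : Subgroup G) := P.2.isNilpotent
      exact SetLike.exists_of_lt (Group.normalizerCondition_of_isNilpotent _ hlt')
    rw [Subgroup.mem_subgroupOf] at hgC
    have hgx : (g : G) * x * (g : G)⁻¹ ∈ C := (Subgroup.mem_normalizer_iff.1 hgN ⟨x, hCP hxC⟩).1 hxC
    have hgz : (g : G) * z = z * g := hzc' g g.2
    have hconj : IsConj x (x * z) := by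
      rcases hCeq _ hgx with h | h | h | h
      · exact absurd (conj_eq_one_iff.1 h) hx1
      · exact absurd (Subgroup.mem_centralizer_singleton_iff.2 (mul_inv_eq_iff_eq_mul.1 h)) hgC
      · exfalso
        have h' : (g : G) * x * (g : G)⁻¹ = (g : G) * z * (g : G)⁻¹ := by rw [h, hgz, mul_inv_cancel_right]
        exact hzx (mul_left_cancel (mul_right_cancel h')).symm
      · exact isConj_iff.2 ⟨g, h⟩
    have hncj : ¬ IsConj x z := by
      intro h
      obtain ⟨h', rfl⟩ := isConj_iff.1 h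
      have hle : (P : Subgroup G) ≤ C.map (MulAut.conj h').toMonoidHom := fun p hp =>
        ⟨h'⁻¹ * p * h', Subgroup.mem_centralizer_singleton_iff.2 (by
          have e := hzc' p hp
          have := congrArg (fun t => h'⁻¹ * t * h') e
          convert this using 1 <;> group), by simp [mul_assoc]⟩
      have h1 := Subgroup.card_le_of_le hle
      rw [Subgroup.card_map_of_injective (MulAut.conj h').injective, hC4] at h1
      have h2 : Nat.card C < Nat.card (P : Subgroup G) := Set.ncard_lt_ncard hlt (Set.toFinite _)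
      omega
    obtain ⟨E, hE, hEl, hEc⟩ := exists_small_normal hxx hzz hx1 hz1 hxz
      (fun w _ hc => hCeq w (Subgroup.mem_centralizer_singleton_iff.2 hc)) hconj hncj
    rcases hEc with h | h
    · exact (hne E hE hEl).1 h
    · exact (hne E hE hEl).2 h
  have hPeq : (P : Subgroup G) = C := le_antisymm hPC hCP
  have hP : Nat.card P = 4 := by rw [← hC4, ← hPeq]
  obtain ⟨hexp, hone⟩ := Cfsg.Agent.Char.one_class_of_four P hP (fun ⟨N, hN, hc⟩ => hnc ⟨P, N, hN, hc⟩)
  have hPel : IsElementaryAbelian 2 (P : Subgroup G) :=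
    ⟨⟨⟨fun a b => Subtype.ext (Cfsg.Agent.Char.comm_of_exp_two hexp a.1 a.2 b.1 b.2)⟩⟩,
      fun a ha => by rw [pow_two]; exact congrArg Subtype.val (hexp ⟨a, ha⟩)⟩
  have hNP : Subgroup.normalizer ((P : Subgroup G) : Set G) ≠ (P : Subgroup G) := fun h => by
    refine hnc ⟨P, _, inferInstance, MonoidHom.ker_transferSylow_isComplement' P (fun a ha b hb => ?_)⟩
    exact Cfsg.Agent.Char.comm_of_exp_two hexp b hb a (h.le ha)
  have hidx : (P : Subgroup G).index * 4 = Nat.card G := by
    rw [← show Nat.card (P : Subgroup G) = 4 from hP]; exact Subgroup.index_mul_card _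
  -- no odd cyclic normal subgroup
  have hodd : ∀ M : Subgroup G, M.Normal → (Nat.card M = 3 ∨ Nat.card M = 5) → False := by
    intro M hMn hM
    have hpr : (Nat.card M).Prime := by rcases hM with h | h <;> rw [h] <;> norm_num
    haveI := Fact.mk hpr
    haveI hcy : IsCyclic M := isCyclic_of_prime_card rfl
    haveI := hMn
    let φ : G →* MulAut M := MulAut.conjNormal
    have hcen : ∀ v : G, v ≠ 1 → v ∈ (P : Subgroup G) → φ v ≠ 1 := by
      intro v hv1 hvP hφ
      have hv2 : orderOf v = 2 := orderOf_eq_prime (by rw [pow_two]; exact congrArg Subtype.val (hexp ⟨v, hvP⟩)) hv1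
      obtain ⟨g, hg⟩ := isConj_iff.1 (hone v x hv2 hx)
      have hMC : M ≤ C := fun a ha => by
        rw [hCdef, Subgroup.mem_centralizer_singleton_iff]
        have hφ' : φ x = 1 := by rw [← hg, map_mul, map_mul, map_inv, hφ, mul_one, mul_inv_cancel]
        have := congrArg Subtype.val (DFunLike.congr_fun hφ' ⟨a, ha⟩)
        rw [MulAut.conjNormal_apply, MulAut.one_apply] at this
        exact (mul_inv_eq_iff_eq_mul.1 this).symm
      have hd := Subgroup.card_dvd_of_le hMC
      rw [hC4] at hd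
      rcases hM with h | h <;> rw [h] at hd <;> omega
    obtain ⟨y, hyP, hy1, hyx⟩ : ∃ y ∈ (P : Subgroup G), y ≠ 1 ∧ y ≠ x := by
      by_contra h
      push Not at h
      have hsub : ((P : Subgroup G) : Set G) ⊆ {1, x} := fun a ha => by
        by_cases ha1 : a = 1
        · simp [ha1]
        · simp [h a ha ha1]
      have := Set.ncard_le_ncard hsub (Set.toFinite _)
      rw [Set.ncard_pair (Ne.symm hx1), show ((P : Subgroup G) : Set G).ncard = 4 from hP] at this
      omega
    have huniq : ∀ f : MulAut M, f * f = 1 → f ≠ 1 → ∀ a, f a = a⁻¹ := by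
      intro f hf hf1 a
      obtain ⟨g, hg⟩ := hcy.exists_generator
      obtain ⟨i, hi⟩ := Subgroup.mem_zpowers_iff.1 (hg (f g))
      have h2 : g ^ (i * i - 1) = 1 := by
        have := DFunLike.congr_fun hf g
        rw [MulAut.mul_apply, MulAut.one_apply, ← hi, map_zpow, ← hi, ← zpow_mul] at this
        rw [zpow_sub, this, zpow_one, mul_inv_cancel]
      have hdvd := orderOf_dvd_iff_zpow_eq_one.2 h2
      rw [orderOf_eq_card_of_forall_mem_zpowers hg, show i * i - 1 = (i - 1) * (i + 1) by ring] at hdvd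
      obtain ⟨j, hj⟩ := Subgroup.mem_zpowers_iff.1 (hg a)
      rcases (Nat.prime_iff_prime_int.1 hpr).dvd_mul.1 hdvd with h | h
      · exfalso
        refine hf1 (MulEquiv.ext fun b => ?_)
        obtain ⟨j, hj⟩ := Subgroup.mem_zpowers_iff.1 (hg b)
        have hgg : f g = g := by
          rw [← hi]
          have := orderOf_dvd_iff_zpow_eq_one.1 (show ((orderOf g : ℕ) : ℤ) ∣ i - 1 by
            rw [orderOf_eq_card_of_forall_mem_zpowers hg]; exact h)
          rwa [zpow_sub, zpow_one, mul_inv_eq_one] at this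
        rw [← hj, map_zpow, hgg, MulAut.one_apply]
      · have hgg : f g = g⁻¹ := by
          rw [← hi]
          have := orderOf_dvd_iff_zpow_eq_one.1 (show ((orderOf g : ℕ) : ℤ) ∣ i + 1 by
            rw [orderOf_eq_card_of_forall_mem_zpowers hg]; exact h)
          rw [zpow_add, zpow_one] at this
          exact eq_inv_of_mul_eq_one_left this
        rw [← hj, map_zpow, hgg, inv_zpow]
    have hinvo : ∀ v ∈ (P : Subgroup G), v ≠ 1 → ∀ a, φ v a = a⁻¹ := fun v hv hv1 =>
      huniq _ (by rw [← map_mul, show v * v = 1 from congrArg Subtype.val (hexp ⟨v, hv⟩), map_one]) (hcen v hv1 hv)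
    have hxP : x ∈ (P : Subgroup G) := hCP hxC
    refine hcen (x * y) (fun h => hyx ?_) (mul_mem hxP hyP) (MulEquiv.ext fun a => ?_)
    · rw [← inv_eq_of_mul_eq_one_right h, inv_eq_of_mul_eq_one_right hxx]
    · rw [map_mul, MulAut.mul_apply, hinvo y hyP hy1, hinvo x hxP hx1, inv_inv, MulAut.one_apply]
  rcases order_of_self_centralising P hP (hCP hxC) hx hC4 hnc with h60 | h12
  swap
  · exfalso
    have h3 : (P : Subgroup G).index = 3 := by omega
    have hN : Subgroup.normalizer ((P : Subgroup G) : Set G) = ⊤ := by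
      have h1 := Subgroup.index_dvd_of_le (Subgroup.le_normalizer (H := (P : Subgroup G)))
      rw [h3] at h1
      rcases (Nat.dvd_prime (by norm_num)).1 h1 with h | h
      · exact Subgroup.index_eq_one.1 h
      · exfalso
        refine hNP (Subgroup.eq_of_le_of_card_ge Subgroup.le_normalizer ?_).symm
        have a1 := (Subgroup.normalizer ((P : Subgroup G) : Set G)).index_mul_card
        rw [h] at a1
        rw [show Nat.card (P : Subgroup G) = 4 from hP]
        omega
    exact (hne _ (Subgroup.normalizer_eq_top_iff.1 hN) hPel).2 hP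
  -- no element of order five normalises `P`
  have hfive : ¬ 5 ∣ Nat.card ↥(Subgroup.normalizer ((P : Subgroup G) : Set G)) := by
    intro h5
    haveI : Fact (Nat.Prime 5) := ⟨by norm_num⟩
    obtain ⟨r, hr⟩ := exists_prime_orderOf_dvd_card' 5 h5
    set σ := MulAut.toPerm _ (Subgroup.normalizerMonoidHom (P : Subgroup G) r) with hσ
    have h1 : orderOf σ ∣ 5 := by
      rw [← hr]; exact orderOf_map_dvd ((MulAut.toPerm _).comp (Subgroup.normalizerMonoidHom (P : Subgroup G))) r
    have h2 : orderOf σ ∣ 24 := by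
      have h3 : Nat.card (Equiv.Perm (P : Subgroup G)) = 24 := by
        rw [Nat.card_perm, show Nat.card (P : Subgroup G) = 4 from hP]; rfl
      exact h3 ▸ orderOf_dvd_natCard σ
    have hσ1 : σ = 1 := orderOf_eq_one_iff.1 (Nat.dvd_one.1 (by simpa using Nat.dvd_gcd h1 h2))
    have hrC : (r : G) ∈ C := by
      have := congrArg Subtype.val (Equiv.ext_iff.1 hσ1 ⟨x, hCP hxC⟩)
      exact Subgroup.mem_centralizer_singleton_iff.2 (mul_inv_eq_iff_eq_mul.1 this)
    have h4 : orderOf (⟨(r : G), hrC⟩ : C) ∣ 4 := hC4 ▸ orderOf_dvd_natCard _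
    rw [Subgroup.orderOf_mk, Subgroup.orderOf_coe, hr] at h4
    norm_num at h4
  -- simplicity
  haveI : IsSimpleGroup G := by
    haveI : Nontrivial G := Finite.one_lt_card_iff_nontrivial.1 (by omega)
    refine ⟨fun N hNn => ?_⟩
    by_contra hcon
    push Not at hcon
    obtain ⟨hN1, hNt⟩ := hcon
    haveI := hNn
    have hN1' : Nat.card N ≠ 1 := fun h => hN1 (Subgroup.card_eq_one.1 h)
    have hN60 : Nat.card N ≠ 60 := fun h => hNt (Subgroup.eq_top_of_card_eq N (h.trans h60.symm))
    have hd : Nat.card N = 1 ∨ Nat.card N = 2 ∨ Nat.card N = 3 ∨ Nat.card N = 4 ∨ Nat.card N = 5 ∨ Nat.card N = 6 ∨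
        Nat.card N = 10 ∨ Nat.card N = 12 ∨ Nat.card N = 15 ∨ Nat.card N = 20 ∨ Nat.card N = 30 ∨ Nat.card N = 60 := by
      have hm : Nat.card N ∈ Nat.divisors 60 :=
        Nat.mem_divisors.2 ⟨h60 ▸ Subgroup.card_subgroup_dvd_card N, by norm_num⟩
      rw [show Nat.divisors 60 = {1, 2, 3, 4, 5, 6, 10, 12, 15, 20, 30, 60} from by decide +kernel] at hm
      simpa only [Finset.mem_insert, Finset.mem_singleton] using hm
    -- a unique Sylow five-subgroup gives a normal subgroup of order five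
    have hQ5 : ∀ d, Nat.card N = 5 * d → (d = 3 ∨ d = 4) → False := by
      intro d hNd hd5
      haveI : Fact (Nat.Prime 5) := ⟨by norm_num⟩
      obtain ⟨Q⟩ : Nonempty (Sylow 5 N) := inferInstance
      have hq : Nat.card (Q : Subgroup N) = 5 := by
        obtain ⟨a, ha⟩ := IsPGroup.iff_card.1 Q.2
        have h1 : 5 ∣ Nat.card (Q : Subgroup N) := Q.dvd_card_of_dvd_card (hNd ▸ dvd_mul_right 5 d)
        have h2 := Subgroup.card_subgroup_dvd_card (Q : Subgroup N)
        rw [hNd, ha] at h2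
        rcases a with _ | _ | a
        · rw [ha] at h1; norm_num at h1
        · exact ha
        · exfalso
          have := Nat.le_of_dvd (by omega) h2
          have : 25 ≤ 5 ^ (a + 1 + 1) := le_trans (by norm_num) (Nat.pow_le_pow_right (by norm_num) (show 2 ≤ a + 1 + 1 by omega))
          omega
      haveI : Subsingleton (Sylow 5 N) := by
        refine (Nat.card_eq_one_iff_unique.1 ?_).1
        have hd' := Q.card_dvd_index
        have := (Q : Subgroup N).index_mul_card
        rw [hNd, hq] at this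
        rw [show (Q : Subgroup N).index = d by omega] at hd'
        have hmod := card_sylow_modEq_one 5 N
        have hpos : 0 < Nat.card (Sylow 5 N) := Nat.card_pos
        have hle4 := Nat.le_of_dvd (by omega) hd'
        unfold Nat.ModEq at hmod
        omega
      haveI hQn : (Q : Subgroup N).Normal := Sylow.normal_of_subsingleton Q
      haveI := Q.characteristic_of_normal hQn
      exact hodd ((Q : Subgroup N).map N.subtype) inferInstance
        (Or.inr (by rw [Subgroup.card_map_of_injective N.subtype_injective, hq]))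
    by_cases h2 : 2 ∣ Nat.card N
    · obtain ⟨a, ha⟩ := exists_prime_orderOf_dvd_card' 2 h2
      have hinvol : ∀ v : G, orderOf v = 2 → v ∈ N := fun v hv => by
        obtain ⟨g, hg⟩ := isConj_iff.1 (hone a v (by rw [Subgroup.orderOf_coe, ha]) hv)
        rw [← hg]; exact hNn.conj_mem _ a.2 g
      have hPN : ∀ Q : Sylow 2 G, (Q : Subgroup G) ≤ N := fun Q q hq => by
        by_cases hq1 : q = 1
        · rw [hq1]; exact one_mem N
        obtain ⟨g, hg⟩ := MulAction.exists_smul_eq G Q P
        have hm : g * q * g⁻¹ ∈ (P : Subgroup G) := by rw [← hg]; exact ⟨q, hq, rfl⟩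
        have h := congrArg Subtype.val (hexp ⟨_, hm⟩)
        simp only [MulMemClass.mk_mul_mk, conj_mul, OneMemClass.coe_one, conj_eq_one_iff] at h
        exact hinvol q (orderOf_eq_prime (by rw [pow_two]; exact h) hq1)
      have h4 : 4 ∣ Nat.card N := hP ▸ Subgroup.card_dvd_of_le (hPN P)
      rcases (show Nat.card N = 4 ∨ Nat.card N = 12 ∨ Nat.card N = 20 by omega) with hN | hN | hN
      · have : N = (P : Subgroup G) := (Subgroup.eq_of_le_of_card_ge (hPN P) (by rw [hN]; exact hP.ge)).symm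
        exact (hne N hNn (this ▸ hPel)).2 hN
      · let P' : Sylow 2 N := P.subtype (hPN P)
        have hn3 := P'.card_dvd_index
        have hi : (P' : Subgroup N).index = 3 := by
          have := (P' : Subgroup N).index_mul_card
          rw [hN, show Nat.card (P' : Subgroup N) = 4 by
            rw [Sylow.coe_subtype, Nat.card_congr (Subgroup.subgroupOfEquivOfLe (hPN P)).toEquiv]; exact hP] at this
          omega
        rw [hi] at hn3
        have hn := Nat.le_of_dvd (by norm_num) hn3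
        have hinj : Nat.card (Sylow 2 G) ≤ Nat.card (Sylow 2 N) := by
          refine Nat.card_le_card_of_injective (fun Q => Q.subtype (hPN Q)) fun Q R h => Sylow.ext ?_
          have h' := congrArg (fun S : Sylow 2 N => (S : Subgroup N).map N.subtype) h
          simpa only [Sylow.coe_subtype, Subgroup.map_subgroupOf_eq_of_le (hPN _)] using h'
        rw [P.card_eq_index_normalizer] at hinj
        replace hinj : (Subgroup.normalizer ((P : Subgroup G) : Set G)).index ≤ Nat.card (Sylow 2 N) := hinj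
        have hmul := (Subgroup.normalizer ((P : Subgroup G) : Set G)).index_mul_card
        rw [h60] at hmul
        have hdv : (Subgroup.normalizer ((P : Subgroup G) : Set G)).index ∣ 15 := by
          have h1 := Subgroup.index_dvd_of_le (Subgroup.le_normalizer (H := (P : Subgroup G)))
          rwa [show (P : Subgroup G).index = 15 by omega] at h1
        have hle := le_trans hinj hn
        have hne1 : (Subgroup.normalizer ((P : Subgroup G) : Set G)).index ≠ 1 := fun h =>
          (hne _ (Subgroup.normalizer_eq_top_iff.1 (Subgroup.index_eq_one.1 h)) hPel).2 hP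
        obtain ⟨i, hi'⟩ : ∃ i, (Subgroup.normalizer ((P : Subgroup G) : Set G)).index = i := ⟨_, rfl⟩
        rw [hi'] at hdv hle hne1 hmul
        have : i ≠ 0 := fun h => by simp [h] at hdv
        have : i ≠ 2 := fun h => by norm_num [h] at hdv
        refine hfive ⟨4, ?_⟩
        have hi3 : i = 3 := by omega
        rw [hi3] at hmul
        omega
      · exact hQ5 4 hN (Or.inr rfl)
    · rcases (show Nat.card N = 3 ∨ Nat.card N = 5 ∨ Nat.card N = 15 by omega) with h | h | h
      · exact hodd N hNn (Or.inl h)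
      · exact hodd N hNn (Or.inr h)
      · exact hQ5 3 h (Or.inl rfl)
  exact Cfsg.Agent.Lie.simple_sixty h60

end Cfsg.Agent.Lie.InvFour
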