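import Mathlib
import Cfsg.Agent.Lib.Lie.Zassenhaus
import Cfsg.Agent.Lib.Lie.SharpCoords
import Cfsg.Agent.Lib.Perm.GenTuples

/-!
Translating sharp triple transitivity into the three point form.
-/

set_option autoImplicit false

namespace Cfsg.Agent.Lie.SharpBasic

open MulAction
open Cfsg.Agent.Lie.SharpCoords

universe u v

variable {G : Type u} {Ω : Type v} [Group G] [MulAction G Ω]

/-- The embedding of a triple of distinct points. -/
def triple {a b c : Ω} (hab : a ≠ b) (hbc : b ≠ c) (hac : a ≠ c) : Fin 3 ↪ Ω :=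
  ⟨![a, b, c], fun i j h => by
    fin_cases i <;> fin_cases j <;>
      simp [hab, hab.symm, hbc, hbc.symm, hac, hac.symm] at h ⊢⟩

theorem three_point (hsharp : ∀ x : Fin 3 ↪ Ω, stabilizer G x = ⊥) : Zassenhaus.ThreePoint G Ω := by
  intro g a b c hab hbc hac ha hb hc
  have h : g ∈ stabilizer G (triple hab hbc hac) := by
    refine Function.Embedding.ext fun i => ?_
    fin_cases i
    · exact ha
    · exact hb
    · exact hc
  rwa [hsharp, Subgroup.mem_bot] at h

theorem exists_move (h3 : IsMultiplyPretransitive G Ω 3) {a b c a' b' c' : Ω} (hab : a ≠ b) (hbc : b ≠ c)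
    (hac : a ≠ c) (hab' : a' ≠ b') (hbc' : b' ≠ c') (hac' : a' ≠ c') :
    ∃ g : G, g • a = a' ∧ g • b = b' ∧ g • c = c' := by
  haveI := h3
  obtain ⟨g, hg⟩ := exists_smul_eq G (triple hab hbc hac) (triple hab' hbc' hac')
  have e : ∀ i, g • triple hab hbc hac i = triple hab' hbc' hac' i := fun i => by rw [← hg]; rfl
  exact ⟨g, e 0, e 1, e 2⟩

theorem card_two [Finite G] [Fintype Ω] (h3 : IsMultiplyPretransitive G Ω 3)
    (ht : Zassenhaus.ThreePoint G Ω) {a b : Ω} (hab : a ≠ b) (h : 3 ≤ Fintype.card Ω) :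
    Nat.card (Two G a b) = Fintype.card Ω - 2 := by
  classical
  obtain ⟨c, hc⟩ : ∃ c, c ∈ ({a, b} : Finset Ω)ᶜ := by
    refine Finset.card_pos.1 ?_
    rw [Finset.card_compl, Finset.card_pair hab]
    omega
  rw [Finset.mem_compl, Finset.mem_insert, Finset.mem_singleton, not_or] at hc
  let F : Two G a b → {y : Ω // y ∈ ({a, b} : Finset Ω)ᶜ} := fun g => ⟨(g : G) • c, by
    rw [Finset.mem_compl, Finset.mem_insert, Finset.mem_singleton, not_or]
    exact ⟨fun e => hc.1 (MulAction.injective (g : G) (e.trans g.2.1.symm)),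
      fun e => hc.2 (MulAction.injective (g : G) (e.trans g.2.2.symm))⟩⟩
  have hF : Function.Bijective F := by
    constructor
    · intro g g' e
      have e' : (g : G) • c = (g' : G) • c := congrArg Subtype.val e
      have h1 := ht _ a b c hab (Ne.symm hc.2) (Ne.symm hc.1) (g'⁻¹ * g).2.1 (g'⁻¹ * g).2.2 (by
        rw [Subgroup.coe_mul, mul_smul, e', Subgroup.coe_inv, inv_smul_smul])
      exact (inv_mul_eq_one.1 (Subtype.ext h1)).symm
    · rintro ⟨y, hy⟩
      rw [Finset.mem_compl, Finset.mem_insert, Finset.mem_singleton, not_or] at hy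
      obtain ⟨g, ha, hb, hgc⟩ := exists_move h3 hab (Ne.symm hc.2) (Ne.symm hc.1) hab (Ne.symm hy.2) (Ne.symm hy.1)
      exact ⟨⟨g, ha, hb⟩, Subtype.ext hgc⟩
  rw [Nat.card_eq_of_bijective F hF, Nat.card_eq_fintype_card, Fintype.card_coe, Finset.card_compl,
    Finset.card_pair hab]

theorem two_trans [Fintype Ω] (h3 : IsMultiplyPretransitive G Ω 3) (h : 3 ≤ Fintype.card Ω) :
    IsMultiplyPretransitive G Ω 2 := by
  haveI := h3
  exact MulAction.isMultiplyPretransitive_of_le (n := 3) (by norm_num) (by rw [Nat.card_eq_fintype_card]; exact h)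

/-- An index two normal subgroup can be chosen invariant under an involutory automorphism. -/
theorem exists_invariant {D : Type u} [Group D] (φ : D →* D) (hφ : ∀ g, φ (φ g) = g)
    (N : Subgroup D) (h2 : N.index = 2) :
    ∃ M : Subgroup D, M.Normal ∧ M.index = 2 ∧ ∀ g ∈ M, φ g ∈ M := by
  classical
  let ε : D →* Multiplicative (ZMod 2) :=
    MonoidHom.mk' (fun s => if s ∈ N then 1 else Multiplicative.ofAdd 1) fun x y => by
      by_cases hx : x ∈ N <;> by_cases hy : y ∈ N <;>
        simp [Subgroup.mul_mem_iff_of_index_two h2, hx, hy]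
      decide
  have key : ∀ χ : D →* Multiplicative (ZMod 2), (∀ g, χ (φ g) = χ g) → (∃ g, χ g ≠ 1) →
      ∃ M : Subgroup D, M.Normal ∧ M.index = 2 ∧ ∀ g ∈ M, φ g ∈ M := by
    intro χ hinv hne
    obtain ⟨g, hg⟩ := hne
    refine ⟨χ.ker, inferInstance, ?_, fun x hx => by rw [MonoidHom.mem_ker, hinv]; exact hx⟩
    have hsurj : Function.Surjective χ := by
      intro y
      have two : ∀ y : Multiplicative (ZMod 2), y = 1 ∨ y = Multiplicative.ofAdd 1 := by decide
      rcases two y with rfl | rfl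
      · exact ⟨1, map_one χ⟩
      · exact ⟨g, (two (χ g)).resolve_left hg⟩
    rw [Subgroup.index_ker, MonoidHom.range_eq_top.2 hsurj, Nat.card_eq_fintype_card]
    simp
  by_cases hall : ∀ g, ε (φ g) = ε g
  · refine key ε hall ?_
    obtain ⟨g, hg⟩ : ∃ g, g ∉ N := by
      by_contra hall'
      push Not at hall'
      rw [(Subgroup.eq_top_iff' N).2 hall', Subgroup.index_top] at h2
      exact absurd h2 (by norm_num)
    exact ⟨g, by simp [ε, hg]⟩
  · push Not at hall
    obtain ⟨g, hg⟩ := hall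
    refine key (ε * ε.comp φ) (fun x => ?_) ⟨g, ?_⟩
    · show ε (φ x) * ε (φ (φ x)) = ε x * ε (φ x)
      rw [hφ, mul_comm]
    · show ε g * ε (φ g) ≠ 1
      intro h
      refine hg ?_
      generalize ε g = u, ε (φ g) = w at h ⊢
      clear * - h
      decide +revert

end Cfsg.Agent.Lie.SharpBasic
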