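import Mathlib
import Cfsg.Agent.Lib.Perm.AltAut
import Cfsg.Agent.S0253

/-!
An involutory automorphism of a group with central quotient the alternating group of degree five
fixes an element outside the centre.
-/

set_option autoImplicit false
set_option linter.style.haveILetI false

namespace Cfsg.Agent.Lie.InvolutoryFixed

universe u

theorem perm_five : ∀ σ : Equiv.Perm (Fin 5), σ * σ = 1 →
    (∃ x : Equiv.Perm (Fin 5), Equiv.Perm.sign x = 1 ∧ x * x ≠ 1 ∧ σ * x * σ⁻¹ = x) ∨
      (Equiv.Perm.sign σ = 1 ∧ σ ≠ 1) := by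
  decide +kernel

theorem alt_five_perfect : commutator (alternatingGroup (Fin 5)) = ⊤ := by
  rcases (inferInstance : (commutator (alternatingGroup (Fin 5))).Normal).eq_bot_or_eq_top with h | h
  · exfalso
    rw [commutator_eq_bot_iff] at h
    have h1 : ∀ a b : alternatingGroup (Fin 5), a * b = b * a := fun a b => h.is_comm.comm a b
    revert h1
    decide +kernel
  · exact h

theorem exists_fixed_not_central {D : Type u} [Group D] (π : D →* alternatingGroup (Fin 5))
    (hπ : Function.Surjective π) (hker : ∀ d, π d = 1 ↔ d ∈ Subgroup.center D)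
    (τ : D →* D) (hτ : ∀ d, τ (τ d) = d) : ∃ y : D, y ∉ Subgroup.center D ∧ τ y = y := by
  classical
  let τe : D ≃* D := { toFun := τ, invFun := τ, left_inv := hτ, right_inv := hτ, map_mul' := map_mul τ }
  have hτc : ∀ d, d ∈ Subgroup.center D → τ d ∈ Subgroup.center D := by
    intro d hd
    rw [Subgroup.mem_center_iff] at hd ⊢
    intro g
    obtain ⟨g', rfl⟩ := τe.surjective g
    show τ g' * τ d = τ d * τ g'
    rw [← map_mul, hd, map_mul]
  have hwd : ∀ d d', π d = π d' → π (τ d) = π (τ d') := by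
    intro d d' h
    have h1 : π (d'⁻¹ * d) = 1 := by rw [map_mul, map_inv, h, inv_mul_cancel]
    have h2 := (hker _).2 (hτc _ ((hker _).1 h1))
    rw [map_mul τ, map_inv, map_mul, map_inv, inv_mul_eq_one] at h2
    exact h2.symm
  choose s hs using hπ
  let β : MulAut (alternatingGroup (Fin 5)) :=
    { toFun := fun x => π (τ (s x))
      invFun := fun x => π (τ (s x))
      left_inv := fun x => by
        show π (τ (s (π (τ (s x))))) = x
        rw [hwd (s (π (τ (s x)))) (τ (s x)) (hs _), hτ, hs]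
      right_inv := fun x => by
        show π (τ (s (π (τ (s x))))) = x
        rw [hwd (s (π (τ (s x)))) (τ (s x)) (hs _), hτ, hs]
      map_mul' := fun x y => by
        rw [hwd (s (x * y)) (s x * s y) (by rw [map_mul, hs, hs, hs]), map_mul, map_mul] }
  have hβ : ∀ d, π (τ d) = β (π d) := fun d => (hwd _ _ (hs (π d))).symm
  obtain ⟨σ, hσ⟩ := Cfsg.Agent.Perm.AltAut.exists_perm_of_ne_six (by norm_num) (by norm_num) β
  have hσ2 : σ * σ = 1 := by
    refine Cfsg.Agent.Perm.AltAut.conjNormal_injective (n := 5) (by norm_num) ?_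
    rw [map_mul, map_one, ← hσ]
    ext x : 1
    obtain ⟨d, rfl⟩ : ∃ d, π d = x := ⟨s x, hs x⟩
    rw [MulAut.mul_apply, ← hβ, ← hβ, hτ, MulAut.one_apply]
  rcases perm_five σ hσ2 with ⟨x, hx1, hx2, hx3⟩ | ⟨hs1, hne⟩
  swap
  · -- an inner automorphism agrees with a conjugation on the derived subgroup
    set σ' : alternatingGroup (Fin 5) := ⟨σ, hs1⟩ with hσ'
    have hmem : σ' ∈ (commutator D).map π := by
      rw [commutator_def, Subgroup.map_commutator, Subgroup.map_top_of_surjective π (fun x => ⟨s x, hs x⟩),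
        ← commutator_def, alt_five_perfect]
      exact Subgroup.mem_top _
    obtain ⟨w, hw, hπw⟩ := hmem
    have hf : ∀ d, (w * d * w⁻¹)⁻¹ * τ d ∈ Subgroup.center D := fun d => (hker _).1 (by
      rw [map_mul, map_inv, map_mul, map_mul, map_inv, hπw, hβ, hσ, inv_mul_eq_one]
      exact Subtype.ext (by rw [MulAut.conjNormal_apply]; rfl))
    let f : D →* Subgroup.center D := MonoidHom.mk' (fun d => ⟨_, hf d⟩) fun d d' => Subtype.ext (by
      show (w * (d * d') * w⁻¹)⁻¹ * τ (d * d') = (w * d * w⁻¹)⁻¹ * τ d * ((w * d' * w⁻¹)⁻¹ * τ d')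
      have h1 := Subgroup.mem_center_iff.1 (hf d) (w * d' * w⁻¹)⁻¹
      rw [map_mul]
      calc (w * (d * d') * w⁻¹)⁻¹ * (τ d * τ d')
          = (w * d' * w⁻¹)⁻¹ * ((w * d * w⁻¹)⁻¹ * τ d) * τ d' := by group
        _ = _ := by rw [h1, mul_assoc])
    haveI : IsMulCommutative (Subgroup.center D) :=
      ⟨⟨fun a b => Subtype.ext (Subgroup.mem_center_iff.1 b.2 a)⟩⟩
    have hfw : f w = 1 := by
      have : commutator D ≤ f.ker := by
        rw [commutator_def, Subgroup.commutator_le]
        intro a _ b _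
        rw [MonoidHom.mem_ker, map_commutatorElement, commutatorElement_eq_one_iff_mul_comm]
        exact Subtype.ext (Subgroup.mem_center_iff.1 (f b).2 (f a))
      exact this hw
    refine ⟨w, fun h => hne ?_, ?_⟩
    · exact congrArg Subtype.val (hπw.symm.trans ((hker w).2 h))
    · have h1 : (w * w * w⁻¹)⁻¹ * τ w = 1 := congrArg Subtype.val hfw
      rw [mul_inv_cancel_right, inv_mul_eq_one] at h1
      exact h1.symm
  set x' : alternatingGroup (Fin 5) := ⟨x, hx1⟩ with hx'
  set d := s x' with hd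
  have hπd : π d = x' := hs x'
  have hτd : π (τ d) = π d := by
    rw [hβ, hπd, hσ]
    refine Subtype.ext ?_
    rw [MulAut.conjNormal_apply]
    exact hx3
  have hc : d⁻¹ * τ d ∈ Subgroup.center D := (hker _).1 (by rw [map_mul, map_inv, hτd, inv_mul_cancel])
  refine ⟨d * τ d, fun h => hx2 ?_, ?_⟩
  · have h1 := (hker _).2 h
    rw [map_mul, hτd, hπd] at h1
    exact congrArg Subtype.val h1
  · rw [map_mul, hτ]
    have h1 := Subgroup.mem_center_iff.1 hc d
    rw [mul_inv_cancel_left] at h1
    calc τ d * d = d * (d⁻¹ * τ d * d) := by group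
      _ = d * τ d := by rw [← h1]

theorem fixed_sl25 {D : Type u} [Group D] {C : Type*} [CommGroup C]
    (i : D ≃* Matrix.SpecialLinearGroup (Fin 2) (ZMod 5) × C) (τ : D →* D) (hτ : ∀ d, τ (τ d) = d) :
    ∃ y : D, y ∉ Subgroup.center D ∧ τ y = y := by
  haveI : Fact (Nat.Prime 5) := ⟨by norm_num⟩
  obtain ⟨e⟩ := Cfsg.Agent.S0253.result (F := ZMod 5) (ZMod.card 5)
  refine exists_fixed_not_central ((e.toMonoidHom.comp (QuotientGroup.mk' _)).comp
    ((MonoidHom.fst _ _).comp i.toMonoidHom)) ?_ ?_ τ hτ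
  · intro x
    obtain ⟨g, hg⟩ := QuotientGroup.mk'_surjective _ (e.symm x)
    refine ⟨i.symm (g, 1), ?_⟩
    show e (QuotientGroup.mk' _ (i (i.symm (g, 1))).1) = x
    rw [i.apply_symm_apply]
    show e (QuotientGroup.mk' _ g) = x
    rw [hg, e.apply_symm_apply]
  · intro d
    show e (QuotientGroup.mk' _ (i d).1) = 1 ↔ _
    rw [MulEquiv.map_eq_one_iff, QuotientGroup.mk'_apply, QuotientGroup.eq_one_iff]
    have hcen : d ∈ Subgroup.center D ↔ i d ∈ Subgroup.center (Matrix.SpecialLinearGroup (Fin 2) (ZMod 5) × C) := by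
      simp only [Subgroup.mem_center_iff]
      constructor
      · intro h g
        obtain ⟨g', rfl⟩ := i.surjective g
        rw [← map_mul, h, map_mul]
      · intro h g
        apply i.injective
        rw [map_mul, map_mul]
        exact h (i g)
    rw [hcen, Subgroup.center_prod, Subgroup.mem_prod]
    exact ⟨fun h => ⟨h, Subgroup.mem_center_iff.2 fun g => mul_comm g _⟩, fun h => h.1⟩

end Cfsg.Agent.Lie.InvolutoryFixed
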