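import Mathlib
import Cfsg.Agent.S3361
import Cfsg.Agent.S0689
import Cfsg.Agent.Lib.Lie.SharpCoords
import Cfsg.Agent.Lib.Lie.InvolutoryFixed

/-!
The two-point stabiliser of a sharply triply transitive group: it has a subgroup of index two in odd
characteristic, and it is commutative in even characteristic and for fields of odd degree.
-/

set_option autoImplicit false
set_option linter.style.haveILetI false
set_option maxHeartbeats 1000000

namespace Cfsg.Agent.Lie.SharpStructure

open MulAction
open Cfsg.Agent.Lie.SharpCoords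

universe u v

section Frames

variable {D : Type u} [Group D] {τ : D →* D} {z : D}

/-- A frame inside an invariant subgroup `SL(2,3)` around an inverted element of order four. -/
theorem frame_of_inverted (i : Matrix.SpecialLinearGroup (Fin 2) (ZMod 3) →* D)
    (hi : Function.Injective i) (hiz : i (-1) = z) (hall : ∀ x : D, x * x = z → ∃ s, i s = x)
    (hfix : ∀ g, τ g = g → g = 1 ∨ g = z) (hinv : ∀ g, τ (τ g) = g) (hτz : τ z = z)
    {a : Matrix.SpecialLinearGroup (Fin 2) (ZMod 3)} (ha : a * a = -1) (hta : τ (i a) = (i a)⁻¹) :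
    ∃ J c : D, NearfieldInverse.Frame τ z (i a) J c := by
  obtain ⟨b, c, hb, hab, hc3, hca, hcb, hsix⟩ := NearfieldInverse.sl23_facts a ha
  have hz1 : z ≠ 1 := fun h => by
    have := hi ((hiz.trans h).trans (map_one i).symm)
    exact absurd this (by decide)
  have hsq : ∀ s, s * s = -1 → i s * i s = z := fun s hs => by rw [← map_mul, hs, hiz]
  have hzz : z * z = 1 := by rw [← hiz, ← map_mul, neg_one_mul, neg_neg, map_one]
  have hne : ∀ s, s * s = -1 → τ (i s) ≠ i s := fun s hs h => by
    have h2 := hsq s hs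
    rcases hfix _ h with h1 | h1 <;> rw [h1] at h2
    · rw [one_mul] at h2; exact hz1 h2.symm
    · exact hz1 (h2.symm.trans hzz)
  obtain ⟨s, hs⟩ := hall (τ (i b)) (by rw [← map_mul, hsq b hb, hτz])
  have hs2 : s * s = -1 := hi (by rw [map_mul, hs, hiz, ← map_mul, hsq b hb, hτz])
  have hab2 : (a * b) * (a * b) = -1 := (NearfieldInverse.sl23_frame a b ha hb hab).1
  have hba : b ≠ a ∧ b ≠ a⁻¹ := by
    constructor <;> intro h <;> subst h
    · have : b * b * (b * b) = -1 := hab2
      rw [hb, neg_one_mul, neg_neg] at this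
      exact absurd this (by decide)
    · rw [mul_inv_cancel, one_mul] at hab2
      exact absurd hab2 (by decide)
  rcases hsix s hs2 with rfl | rfl | rfl | rfl | rfl | rfl
  · exfalso
    have h := congrArg τ hs
    rw [hinv, hta, ← map_inv] at h
    exact hba.2 (hi h.symm)
  · exfalso
    have h := congrArg τ hs
    rw [hinv, map_inv, map_inv, hta, inv_inv] at h
    exact hba.1 (hi h.symm)
  · exact absurd hs.symm (hne _ hb)
  · exfalso
    refine hne _ hab2 ?_
    have e : a⁻¹ * b⁻¹ = a * b := by
      rw [inv_eq_of_mul_eq_one_right (show a * -a = 1 by rw [mul_neg, ha, neg_neg]),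
        inv_eq_of_mul_eq_one_right (show b * -b = 1 by rw [mul_neg, hb, neg_neg]), neg_mul_neg]
    rw [map_mul i, map_mul τ, hta, ← hs, ← map_inv, ← map_mul i, e, map_mul]
  · exact ⟨i b, i c, hsq a ha, hsq b hb, by rw [← map_inv, ← map_mul, ← map_mul, hab, map_inv], by
      rw [← map_pow]
      rw [hc3, map_one],
      by rw [← map_inv, ← map_mul, ← map_mul, hca], by rw [← map_inv, ← map_mul, ← map_mul, hcb, map_mul],
      hta, by rw [← hs, map_mul]⟩
  · -- use the frame through the third element instead
    obtain ⟨-, hab', -⟩ := NearfieldInverse.sl23_frame a b ha hb hab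
    obtain ⟨-, -, d, hd3, hd1, hd2⟩ := NearfieldInverse.sl23_frame a (a * b) ha hab2 hab'
    refine ⟨i (a * b), i d, hsq a ha, hsq _ hab2, by rw [← map_inv, ← map_mul, ← map_mul, hab', map_inv], by
      rw [← map_pow, hd3, map_one], by rw [← map_inv, ← map_mul, ← map_mul, hd1],
      by rw [← map_inv, ← map_mul, ← map_mul, hd2, map_mul], hta, ?_⟩
    have e : a⁻¹ * (a * b)⁻¹ = a * (a * b) := by
      rw [inv_eq_of_mul_eq_one_right (show a * -a = 1 by rw [mul_neg, ha, neg_neg]),
        inv_eq_of_mul_eq_one_right (show a * b * -(a * b) = 1 by rw [mul_neg, hab2, neg_neg]), neg_mul_neg]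
    rw [map_mul i a b, map_mul τ, hta, ← hs, ← map_inv, ← map_mul i, e, map_mul, map_mul]

end Frames

/-- An element of a field fixed by automorphisms of odd order when it has two-power order. -/
theorem fixed_of_odd {F : Type*} [Field F] (σ : F ≃+* F) {f : ℕ} (hf : Odd f) (hσ : σ ^ f = 1)
    (k : ℕ) : ∀ a : F, a ^ 2 ^ k = 1 → σ a = a := by
  induction k with
  | zero => intro a ha; rw [pow_zero, pow_one] at ha; rw [ha, map_one]
  | succ k ih =>
    intro a ha
    rw [pow_succ', pow_mul] at ha
    have h1 := ih _ ha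
    rw [map_pow] at h1
    rcases eq_or_eq_neg_of_sq_eq_sq (σ a) a h1 with h | h
    · exact h
    · have hn : ∀ n, (σ ^ n) a = (-1) ^ n * a := by
        intro n
        induction n with
        | zero => simp
        | succ n ihn =>
          rw [pow_succ' σ, pow_succ' (-1 : F)]
          show σ ((σ ^ n) a) = _
          rw [ihn, map_mul, map_pow, map_neg, map_one, h]
          ring
      have h2 := hn f
      rw [hσ, hf.neg_one_pow, neg_one_mul] at h2
      rw [h]
      exact h2.symm

section

variable {G : Type u} {Ω : Type v} [Group G] [Finite G] [MulAction G Ω] [Fintype Ω] {a b : Ω} {p f : ℕ}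
  [Fact p.Prime] {V : Type u} [AddCommGroup V] [Module (ZMod p) V] [Fintype V] [Nontrivial V]
  {ρ : Two G a b →* (V ≃ₗ[ZMod p] V)} {π : V → G} {t : G} {e : V} {τ : Two G a b →* Two G a b}
  {T : V → V} {z : Two G a b}

theorem z_sq (C : Coords a b p f ρ π t e τ T z) : z * z = 1 :=
  NearfieldInverse.inj C.setup (by
    rw [map_mul, LinearEquiv.mul_apply, C.setup.neg, C.setup.neg, neg_neg, map_one]; rfl)

theorem z_ne_one (C : Coords a b p f ρ π t e τ T z) (hp : p ≠ 2) : z ≠ 1 := fun h => by
  have h1 : (2 : ZMod p) • e = 0 := by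
    rw [two_smul, add_eq_zero_iff_eq_neg, ← C.setup.neg, h, map_one]; rfl
  have h2 : ((2 : ℕ) : ZMod p) = 0 := by exact_mod_cast (smul_eq_zero.1 h1).resolve_right C.setup.e_ne
  rw [ZMod.natCast_eq_zero_iff] at h2
  exact hp ((Nat.prime_dvd_prime_iff_eq Fact.out Nat.prime_two).1 h2)

theorem rho_injective (C : Coords a b p f ρ π t e τ T z) : Function.Injective ρ :=
  fun g g' h => NearfieldInverse.inj C.setup (by rw [h])

theorem rho_free (C : Coords a b p f ρ π t e τ T z) (v : V) (hv : v ≠ 0) (g : Two G a b)
    (hg : ρ g v = v) : g = 1 :=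
  (C.reg v v hv hv).unique hg (by rw [map_one]; rfl)

/-- In characteristic two the two-point stabiliser is commutative. -/
theorem comm_even (C : Coords a b p f ρ π t e τ T z) (hp : p = 2) (g g' : Two G a b) :
    g * g' = g' * g := by
  subst hp
  have hz : z = 1 := rho_free C e C.setup.e_ne z (by
    rw [C.setup.neg]
    refine neg_eq_of_add_eq_zero_left ?_
    rw [← two_smul (ZMod 2), show (2 : ZMod 2) = 0 from ZMod.natCast_self 2, zero_smul])
  have hfree : MonoidHom.FixedPointFree τ := fun x hx => (C.setup.fix x hx).elim id fun h => h.trans hz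
  exact hfree.commute_all_of_involutive C.setup.invol g g'

theorem not_square {p f k : ℕ} (hp : p.Prime) (hf : Odd f) : p ^ f ≠ k ^ 2 := fun h => by
  have h1 := congrArg (fun n => n.factorization p) h
  simp only [Nat.factorization_pow, Finsupp.smul_apply, smul_eq_mul, hp.factorization_self] at h1
  obtain ⟨j, rfl⟩ := hf
  omega

/-- The solvable case. -/
theorem solvable_of_odd_exponent (C : Coords a b p f ρ π t e τ T z) (hf : Odd f) :
    Group.IsSolvable (Two G a b) := by
  by_contra hsol
  let i : Two G a b ≃* ρ.range := MonoidHom.ofInjective (rho_injective C)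
  have hnH : ¬ Group.IsSolvable ρ.range := fun h =>
    hsol (Group.isSolvable_of_surjective (f := i.symm.toMonoidHom) i.symm.surjective)
  have hregH : ∀ v w : V, v ≠ 0 → w ≠ 0 →
      ∃! h : ρ.range, (h : V ≃ₗ[ZMod p] V) v = w := by
    intro v w hv hw
    obtain ⟨g, hg, hu⟩ := C.reg v w hv hw
    refine ⟨i g, hg, fun h hh => ?_⟩
    obtain ⟨g', rfl⟩ := i.surjective h
    rw [hu g' hh]
  have hp : p.Prime := Fact.out
  rcases S0689.result ρ.range hregH hnH with ⟨h, -⟩ | ⟨h, -⟩ | ⟨h, -⟩ <;> rw [C.pf] at h
  · exact not_square hp hf (h.trans (by norm_num : 121 = 11 ^ 2))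
  · exact not_square hp hf (h.trans (by norm_num : 841 = 29 ^ 2))
  · exact not_square hp hf (h.trans (by norm_num : 3481 = 59 ^ 2))

/-- For fields of odd degree the two-point stabiliser is commutative. -/
theorem comm_odd_exponent (C : Coords a b p f ρ π t e τ T z) (hf : Odd f) (g g' : Two G a b) :
    g * g' = g' * g := by
  classical
  have hp : p.Prime := Fact.out
  haveI : Finite (Two G a b) := inferInstance
  obtain ⟨hx, -⟩ := S3361.result p (G := Two G a b) (solvable_of_odd_exponent C hf) ρ (rho_injective C)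
    (fun v w hv hw => (C.reg v w hv hw).exists) (fun v hv g hg => rho_free C v hv g hg)
  obtain ⟨F, iF, iFF, e₀, hsemi⟩ := hx.resolve_right fun h => by
    rw [C.pf] at h
    simp only [Set.mem_insert_iff, Set.mem_singleton_iff] at h
    rcases h with h | h | h | h
    · exact not_square hp hf (h.trans (by norm_num : 25 = 5 ^ 2))
    · exact not_square hp hf (h.trans (by norm_num : 49 = 7 ^ 2))
    · exact not_square hp hf (h.trans (by norm_num : 121 = 11 ^ 2))
    · exact not_square hp hf (h.trans (by norm_num : 529 = 23 ^ 2))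
  letI := iF
  letI := iFF
  choose α σ hσ using hsemi
  have huniq : ∀ (g : Two G a b) (c : F) (s : F ≃+* F), (∀ v, e₀ (ρ g v) = c * s (e₀ v)) → c = α g ∧ s = σ g := by
    intro g c s h
    have h1 : c = α g := by
      have := (h (e₀.symm 1)).symm.trans (hσ g (e₀.symm 1))
      rwa [AddEquiv.apply_symm_apply, map_one, map_one, mul_one, mul_one] at this
    refine ⟨h1, RingEquiv.ext fun x => ?_⟩
    have := (h (e₀.symm x)).symm.trans (hσ g (e₀.symm x))
    rw [AddEquiv.apply_symm_apply, h1] at this
    refine mul_left_cancel₀ (fun h0 => ?_) this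
    have h2 := hσ g (e₀.symm 1)
    rw [h0, zero_mul, map_eq_zero_iff e₀ e₀.injective, (ρ g).map_eq_zero_iff,
      map_eq_zero_iff e₀.symm e₀.symm.injective] at h2
    exact one_ne_zero h2
  have hmul : ∀ g h, α (g * h) = α g * σ g (α h) ∧ σ (g * h) = σ g * σ h := fun g h => by
    obtain ⟨h1, h2⟩ := huniq (g * h) (α g * σ g (α h)) (σ g * σ h) fun v => by
      rw [map_mul, LinearEquiv.mul_apply, hσ, hσ, map_mul, mul_assoc]
      rfl
    exact ⟨h1.symm, h2.symm⟩
  let χ : Two G a b →* (F ≃+* F) := MonoidHom.mk' σ fun g h => (hmul g h).2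
  -- the automorphism group has odd order
  haveI : CharP F p := by
    refine (CharP.charP_iff_prime_eq_zero hp).2 ?_
    have h1 : (p : ZMod p) • e₀.symm 1 = 0 := by rw [ZMod.natCast_self, zero_smul]
    rw [Nat.cast_smul_eq_nsmul] at h1
    have h2 := congrArg e₀ h1
    rwa [map_nsmul, AddEquiv.apply_symm_apply, map_zero, nsmul_one] at h2
  have hσf : ∀ s : F ≃+* F, s ^ f = 1 := by
    intro s
    letI : Algebra (ZMod p) F := ZMod.algebra F p
    haveI : Module.Finite (ZMod p) F := Module.Finite.of_finite
    have hfin : Module.finrank (ZMod p) F = f := by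
      have h1 := Module.natCard_eq_pow_finrank (K := ZMod p) (V := F)
      rw [Nat.card_zmod, ← Nat.card_congr e₀.toEquiv, C.pf] at h1
      exact (Nat.pow_right_injective hp.two_le h1).symm
    let sA : F ≃ₐ[ZMod p] F := AlgEquiv.ofRingEquiv (f := s) fun c => by
      obtain ⟨n, rfl⟩ := ZMod.natCast_zmod_surjective c
      rw [map_natCast, map_natCast]
    have h2 : sA ^ f = 1 := by
      rw [← hfin, ← IsGalois.card_aut_eq_finrank]
      exact pow_card_eq_one'
    have h3 : ∀ n x, (s ^ n) x = (sA ^ n) x := by
      intro n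
      induction n with
      | zero => intro x; rfl
      | succ n ihn =>
        intro x
        rw [pow_succ', pow_succ']
        show s ((s ^ n) x) = s ((sA ^ n) x)
        rw [ihn]
    exact RingEquiv.ext fun x => by rw [h3, h2]; rfl
  -- two-power elements are central
  have hker : ∀ (w : Two G a b) k, w ^ 2 ^ k = 1 → σ w = 1 := by
    intro w k hw
    have h1 : χ w ^ 2 ^ k = 1 := by rw [← map_pow, hw, map_one]
    have hco : Nat.Coprime (2 ^ k) f := Nat.Coprime.pow_left k (Nat.prime_two.coprime_iff_not_dvd.2 hf.not_two_dvd_nat)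
    have := pow_gcd_eq_one.2 ⟨h1, hσf (χ w)⟩
    rw [Nat.Coprime.gcd_eq_one hco, pow_one] at this
    exact this
  have hcentral : ∀ (w : Two G a b) k, w ^ 2 ^ k = 1 → ∀ h, w * h = h * w := by
    intro w k hw h
    have hw1 := hker w k hw
    have hα : ∀ n, α (w ^ n) = α w ^ n := by
      intro n
      induction n with
      | zero =>
        rw [pow_zero, pow_zero]
        exact ((huniq 1 1 1 fun v => by rw [map_one, one_mul]; rfl).1).symm
      | succ n ihn =>
        rw [pow_succ' w, pow_succ' (α w), (hmul w (w ^ n)).1, hw1, ihn]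
        rfl
    have h1 : α w ^ 2 ^ k = 1 := by
      rw [← hα, hw]
      exact ((huniq 1 1 1 fun v => by rw [map_one, one_mul]; rfl).1).symm
    have h2 := fixed_of_odd (σ h) hf (hσf _) k _ h1
    refine NearfieldInverse.inj C.setup ?_
    apply e₀.injective
    rw [map_mul ρ, LinearEquiv.mul_apply, map_mul ρ, LinearEquiv.mul_apply, hσ, hσ, hσ, hσ, hw1]
    show α w * (α h * σ h (e₀ e)) = α h * σ h (α w * e₀ e)
    rw [map_mul, h2]
    ring
  let S : Subgroup (Two G a b) :=
    { carrier := {w | ∃ k, w ^ 2 ^ k = 1}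
      one_mem' := ⟨0, one_pow _⟩
      mul_mem' := fun {x y} hx hy => by
        obtain ⟨i, hi⟩ := hx
        obtain ⟨j, hj⟩ := hy
        refine ⟨i + j, ?_⟩
        rw [Commute.mul_pow (hcentral x i hi y), pow_add, pow_mul, hi, one_pow, one_mul, mul_comm (2 ^ i),
          pow_mul, hj, one_pow]
      inv_mem' := fun {x} hx => by
        obtain ⟨i, hi⟩ := hx
        exact ⟨i, by rw [inv_pow, hi, inv_one]⟩ }
  haveI hSn : S.Normal := ⟨fun w hw h => by
    obtain ⟨k, hk⟩ := hw
    rw [← hcentral w k hk h, mul_inv_cancel_right]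
    exact ⟨k, hk⟩⟩
  let τS : Two G a b ⧸ S →* Two G a b ⧸ S := QuotientGroup.map S S τ fun w hw => by
    obtain ⟨k, hk⟩ := hw
    exact ⟨k, by rw [← map_pow, hk, map_one]⟩
  have hfree : MonoidHom.FixedPointFree τS := by
    intro q
    obtain ⟨x, rfl⟩ := QuotientGroup.mk_surjective q
    intro hq
    have hq' : x⁻¹ * τ x ∈ S := QuotientGroup.eq.1 (hq : ((τ x : Two G a b) : Two G a b ⧸ S) = x).symm
    obtain ⟨k, hk⟩ := hq'
    rw [QuotientGroup.eq_one_iff]
    have h1 : τ (x ^ 2 ^ k) = x ^ 2 ^ k := by
      have h2 : τ x = (x⁻¹ * τ x) * x := by rw [hcentral _ k hk x, mul_inv_cancel_left]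
      rw [map_pow, h2, Commute.mul_pow (hcentral _ k hk x), hk, one_mul]
    refine ⟨k + 1, ?_⟩
    rw [pow_succ, pow_mul]
    rcases C.setup.fix _ h1 with h | h <;> rw [h]
    · exact one_pow 2
    · rw [sq, z_sq C]
  have hinv : Function.Involutive τS := fun q => by
    obtain ⟨x, rfl⟩ := QuotientGroup.mk_surjective q
    show ((τ (τ x) : Two G a b) : Two G a b ⧸ S) = x
    rw [C.setup.invol]
  have hcS : ∀ x y : Two G a b, x * y * (y * x)⁻¹ ∈ S := fun x y => by
    rw [← QuotientGroup.eq_one_iff, QuotientGroup.mk_mul, QuotientGroup.mk_inv, QuotientGroup.mk_mul,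
      QuotientGroup.mk_mul, (hfree.commute_all_of_involutive hinv (x : Two G a b ⧸ S) y).eq, mul_inv_cancel]
  obtain ⟨c, hc⟩ : ∃ c, c = g * g' * (g' * g)⁻¹ := ⟨_, rfl⟩
  obtain ⟨k, hk⟩ : c ∈ S := hc ▸ hcS g g'
  have hgg : g * g' = c * (g' * g) := by rw [hc, inv_mul_cancel_right]
  have hpow : ∀ n, g ^ n * g' = c ^ n * (g' * g ^ n) := by
    intro n
    induction n with
    | zero => simp
    | succ n ihn =>
      calc g ^ (n + 1) * g' = g * (g ^ n * g') := by rw [pow_succ', mul_assoc]
        _ = g * (c ^ n * (g' * g ^ n)) := by rw [ihn]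
        _ = c ^ n * (g * g') * g ^ n := by
          rw [← mul_assoc g, ← (Commute.pow_left (hcentral c k hk g) n).eq]
          simp only [mul_assoc]
        _ = c ^ n * c * (g' * (g * g ^ n)) := by rw [hgg]; simp only [mul_assoc]
        _ = _ := by rw [← pow_succ c, ← pow_succ' g]
  obtain ⟨j, r, hr, hord⟩ := Nat.exists_eq_two_pow_mul_odd (orderOf_pos g).ne'
  have hgr : (g ^ r) ^ 2 ^ j = 1 := by rw [← pow_mul, mul_comm, ← hord, pow_orderOf_eq_one]
  have hcr : c ^ r = 1 := by
    have := hpow r
    rw [hcentral _ j hgr g'] at this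
    exact right_eq_mul.1 this
  have hc1 : c = 1 := by
    have := pow_gcd_eq_one.2 ⟨hk, hcr⟩
    rwa [Nat.Coprime.gcd_eq_one (Nat.Coprime.pow_left k (Nat.prime_two.coprime_iff_not_dvd.2 hr.not_two_dvd_nat)),
      pow_one] at this
  rw [hgg, hc1, one_mul]

/-- In odd characteristic the two-point stabiliser has a normal subgroup of index two. -/
theorem exists_index_two (C : Coords a b p f ρ π t e τ T z) (hp2 : p ≠ 2) :
    ∃ N : Subgroup (Two G a b), N.Normal ∧ N.index = 2 := by
  classical
  have hp : p.Prime := Fact.out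
  by_contra hidx
  have hsetup := C.setup
  have hz1 := z_ne_one C hp2
  have hzz := z_sq C
  have hτz : τ z = z := NearfieldInverse.tau_z hsetup
  have hz : orderOf z = 2 := orderOf_eq_prime (by rw [sq, hzz]) hz1
  have hzc : ∀ g, z * g = g * z := fun g => NearfieldInverse.inj hsetup (by
    rw [map_mul, LinearEquiv.mul_apply, hsetup.neg, map_mul, LinearEquiv.mul_apply, hsetup.neg, map_neg])
  have he0 := hsetup.e_ne
  by_cases hsol : Group.IsSolvable (Two G a b)
  · obtain ⟨-, hx⟩ := S3361.result p (G := Two G a b) hsol ρ (rho_injective C)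
      (fun v w hv hw => (C.reg v w hv hw).exists) (fun v hv g hg => rho_free C v hv g hg)
    rcases hx hp2 with h | ⟨hV, ⟨i⟩⟩ | ⟨hV, ⟨i⟩⟩
    · exact hidx h
    · have hp5 : p = 5 := by
        have h1 : p ∣ 5 ^ 2 := by
          rw [show (5 : ℕ) ^ 2 = Nat.card V from hV.symm, C.pf]
          refine dvd_pow_self p fun hf0 => ?_
          have := hV.symm.trans C.pf
          rw [hf0, pow_zero] at this
          omega
        exact (Nat.prime_dvd_prime_iff_eq hp (by norm_num)).1 (hp.dvd_of_dvd_pow h1)
      let i' := i.symm.toMonoidHom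
      have hiz : i' (-1) = z := C.z_uniq _ (orderOf_eq_prime (by rw [← map_pow, neg_one_sq, map_one])
        (fun h => by
          have := i.symm.injective (h.trans (map_one i.symm).symm)
          exact absurd this (by decide)))
      subst hp5
      have h20 : (2 : ZMod 5) ≠ 0 := by clear * -; decide +revert
      obtain ⟨g, hg, -⟩ := C.reg e ((2 : ZMod 5) • e) he0 (smul_ne_zero h20 he0)
      have hgg : g * g = z := by
        refine NearfieldInverse.inj hsetup ?_
        rw [map_mul, LinearEquiv.mul_apply, hg, map_smul, hg, smul_smul, hsetup.neg, ← neg_one_smul (ZMod 5) e]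
        rfl
      have hgi : ∀ v, ρ g⁻¹ v = -ρ g v := by
        intro v
        apply (ρ g).injective
        rw [map_neg, ← LinearEquiv.mul_apply, ← map_mul, mul_inv_cancel, map_one, ← LinearEquiv.mul_apply,
          ← map_mul, hgg, hsetup.neg, neg_neg]
        rfl
      have hτg : τ g = g⁻¹ := by
        refine NearfieldInverse.inj hsetup ?_
        rw [← hsetup.conj, hg, NearfieldInverse.T_two hsetup (le_refl 5), hgi, hg,
          show (2 : ZMod 5)⁻¹ = -2 from inv_eq_of_mul_eq_one_right (by clear * -; decide +revert), neg_smul]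
      obtain ⟨a', ha'⟩ : ∃ a', i' a' = g := ⟨i g, i.symm_apply_apply g⟩
      obtain ⟨J, c', hfr⟩ := frame_of_inverted (τ := τ) i' i.symm.injective hiz
        (fun x _ => ⟨i x, i.symm_apply_apply x⟩) hsetup.fix hsetup.invol hτz (a := a')
        (i.symm.injective (by show i' (a' * a') = i' (-1); rw [map_mul, ha', hgg, hiz]))
        (by rw [ha']; exact hτg)
      exact NearfieldInverse.five hsetup hfr rfl hV (by rw [ha']; exact hg)
    · have hp11 : p = 11 := by
        have h1 : p ∣ 11 ^ 2 := by
          rw [show (11 : ℕ) ^ 2 = Nat.card V from hV.symm, C.pf]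
          refine dvd_pow_self p fun hf0 => ?_
          have := hV.symm.trans C.pf
          rw [hf0, pow_zero] at this
          omega
        exact (Nat.prime_dvd_prime_iff_eq hp (by norm_num)).1 (hp.dvd_of_dvd_pow h1)
      let i' := i.symm.toMonoidHom.comp (MonoidHom.inl _ _)
      have hi' : Function.Injective i' := fun x y h => congrArg Prod.fst (i.symm.injective h)
      have hiz : i' (-1) = z := C.z_uniq _ (orderOf_eq_prime (by rw [← map_pow, neg_one_sq, map_one])
        (fun h => absurd (hi' (h.trans (map_one i').symm)) (by decide)))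
      have hall : ∀ x : Two G a b, x * x = z → ∃ s, i' s = x := by
        intro x hx
        refine ⟨(i x).1, i.injective ?_⟩
        show i (i.symm ((i x).1, 1)) = i x
        rw [i.apply_symm_apply]
        refine Prod.ext rfl ?_
        have h1 : (i x).2 * (i x).2 = 1 := by
          have h2 := congrArg (fun y => (i y).2) hx
          rw [show (i z).2 = 1 by rw [← hiz]; show (i (i.symm (_, 1))).2 = 1; rw [i.apply_symm_apply]] at h2
          simpa [map_mul] using h2
        revert h1
        show (i x).2 * (i x).2 = 1 → (1 : Multiplicative (ZMod 5)) = (i x).2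
        generalize (i x).2 = l
        clear * -
        decide +revert
      obtain ⟨⟨a', ha'⟩, -⟩ := NearfieldInverse.sl23_facts'
      obtain ⟨b', -, hb', hab', -, -, -, hsix⟩ := NearfieldInverse.sl23_facts a' ha'
      obtain ⟨q', hab2, -⟩ := NearfieldInverse.sl23_frame a' b' ha' hb' hab'
      obtain ⟨I, hI, hτI⟩ : ∃ I, I * I = -1 ∧ τ (i' I) = (i' I)⁻¹ := by
        have key : ∀ s, s * s = -1 → ∀ r, i' r = τ (i' s) → (r = s ∨ r = s⁻¹) →
            ∃ I, I * I = -1 ∧ τ (i' I) = (i' I)⁻¹ := by
          intro s hs r hr h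
          rcases h with rfl | rfl
          · exfalso
            have h2 : i' r * i' r = z := by rw [← map_mul, hs, hiz]
            rcases hsetup.fix _ hr.symm with h1 | h1 <;> rw [h1] at h2
            · rw [one_mul] at h2
              exact hz1 h2.symm
            · exact hz1 (h2.symm.trans hzz)
          · exact ⟨s, hs, by rw [← hr, map_inv]⟩
        have himg : ∀ s, s * s = -1 → ∃ r, r * r = -1 ∧ i' r = τ (i' s) := fun s hs => by
          obtain ⟨r, hr⟩ := hall (τ (i' s)) (by rw [← map_mul, ← map_mul, hs, hiz, hτz])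
          exact ⟨r, hi' (by rw [map_mul, hr, ← map_mul, ← map_mul, hs, hiz, hτz]), hr⟩
        obtain ⟨r, hr, hra⟩ := himg a' ha'
        obtain ⟨r', hr', hrb⟩ := himg b' hb'
        have hback : τ (i' r) = i' a' := by rw [hra, hsetup.invol]
        rcases hsix r hr with h | h | h | h | h | h
        · exact key a' ha' r hra (Or.inl h)
        · exact key a' ha' r hra (Or.inr h)
        · refine key (a' * b') q' (r * r') (by rw [map_mul i' r, hra, hrb, ← map_mul, ← map_mul]) ?_
          have : i' r' = i' a' := by rw [hrb, ← h, hback]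
          rw [h, hi' this]
          right
          rw [mul_inv_rev, inv_eq_of_mul_eq_one_right (show b' * -b' = 1 by rw [mul_neg, hb', neg_neg]),
            inv_eq_of_mul_eq_one_right (show a' * -a' = 1 by rw [mul_neg, ha', neg_neg]), neg_mul_neg]
        · refine key (a' * b') q' (r * r') (by rw [map_mul i' r, hra, hrb, ← map_mul, ← map_mul]) ?_
          have : i' r' = i' (a'⁻¹) := by rw [hrb, show b' = r⁻¹ by rw [h, inv_inv], map_inv, map_inv, hback, map_inv]
          rw [h, hi' this]
          right
          rw [mul_inv_rev]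
        · refine key b' hb' r' hrb ?_
          have h1 : τ (i' (a' * b')) = i' a' := by rw [← h, hback]
          rw [map_mul, map_mul, ← hra, ← hrb, ← map_mul] at h1
          have h2 : r * r' = a' := hi' h1
          rw [h, mul_assoc] at h2
          exact Or.inr (eq_inv_of_mul_eq_one_right (mul_eq_left.1 h2))
        · refine key b' hb' r' hrb ?_
          have h1 : τ (i' ((a' * b')⁻¹)) = i' a' := by rw [← h, hback]
          rw [map_inv, map_inv, map_mul, map_mul, ← hra, ← hrb, ← map_mul, ← map_inv] at h1
          have h2 : r * r' = a'⁻¹ := inv_eq_iff_eq_inv.1 (hi' h1)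
          rw [h] at h2
          right
          calc r' = (a' * b') * ((a' * b')⁻¹ * r') := (mul_inv_cancel_left _ _).symm
            _ = a' * b' * a'⁻¹ := by rw [h2]
            _ = b'⁻¹ := hab'
      obtain ⟨J, c', hfr⟩ := frame_of_inverted (τ := τ) i' hi' hiz hall hsetup.fix hsetup.invol hτz hI hτI
      subst hp11
      refine NearfieldInverse.eleven hsetup hfr rfl hV (g₅ := i.symm (1, Multiplicative.ofAdd 1)) ?_ ?_ ?_
      · apply i.injective
        rw [map_pow, i.apply_symm_apply, map_one i]
        exact Prod.ext (one_pow 5) (by decide)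
      · intro h
        have h1 := congrArg (fun y => (i y).2) h
        simp only [MulEquiv.apply_symm_apply, map_one, Prod.snd_one] at h1
        exact absurd h1 (by decide)
      · intro g
        apply i.injective
        rw [map_mul, map_mul, i.apply_symm_apply]
        exact Prod.ext (by rw [Prod.fst_mul, Prod.fst_mul, one_mul, mul_one])
          (mul_comm _ _)
  · let i : Two G a b ≃* ρ.range := MonoidHom.ofInjective (rho_injective C)
    have hnH : ¬ Group.IsSolvable ρ.range := fun h =>
      hsol (Group.isSolvable_of_surjective (f := i.symm.toMonoidHom) i.symm.surjective)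
    have hregH : ∀ v w : V, v ≠ 0 → w ≠ 0 → ∃! h : ρ.range, (h : V ≃ₗ[ZMod p] V) v = w := by
      intro v w hv hw
      obtain ⟨g, hg, hu⟩ := C.reg v w hv hw
      refine ⟨i g, hg, fun h hh => ?_⟩
      obtain ⟨g', rfl⟩ := i.surjective h
      rw [hu g' hh]
    have hdone : ∀ y : Two G a b, y ∉ Subgroup.center (Two G a b) → τ y = y → False := fun y hy hty => by
      rcases hsetup.fix y hty with rfl | rfl
      · exact hy (one_mem _)
      · exact hy (Subgroup.mem_center_iff.2 fun g => (hzc g).symm)
    rcases S0689.result ρ.range hregH hnH with ⟨-, ⟨j⟩⟩ | ⟨-, ⟨j⟩⟩ | ⟨-, ⟨j⟩⟩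
    · obtain ⟨y, hy, hty⟩ := InvolutoryFixed.fixed_sl25
        ((i.trans j).trans (MulEquiv.prodUnique (N := Unit)).symm) τ hsetup.invol
      exact hdone y hy hty
    all_goals
      obtain ⟨y, hy, hty⟩ := InvolutoryFixed.fixed_sl25 (i.trans j) τ hsetup.invol
      exact hdone y hy hty

end

end Cfsg.Agent.Lie.SharpStructure
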