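import Mathlib
import Cfsg.Agent.Lib.Lie.Zassenhaus
import Cfsg.Agent.Lib.Lie.ZassenhausOdd

/-!
Counting in a Zassenhaus group with two-point stabilisers of odd order: involutions and fixed point numbers.
-/

set_option autoImplicit false
set_option linter.style.haveILetI false

namespace Cfsg.Agent.Lie.ZassenhausCount

open MulAction
open Cfsg.Agent.Lie.Zassenhaus

universe u v

variable {G : Type u} {Ω : Type v} [Group G] [Fintype G] [DecidableEq G] [MulAction G Ω] [Fintype Ω]
  [DecidableEq Ω]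

/-- The number of fixed points. -/
def nfix (g : G) : ℕ := (Finset.univ.filter fun c : Ω => g • c = c).card

/-- The involutions. -/
def invols : Finset G := Finset.univ.filter fun x : G => x ≠ 1 ∧ x * x = 1

theorem nfix_le (h3 : ThreePoint G Ω) {g : G} (hg : g ≠ 1) : nfix (Ω := Ω) g ≤ 2 := by
  by_contra h
  rw [not_le, nfix] at h
  obtain ⟨x, hx, y, hy, z, hz, hxy, hxz, hyz⟩ := Finset.two_lt_card.1 h
  simp only [Finset.mem_filter, Finset.mem_univ, true_and] at hx hy hz
  exact hg (h3 g x y z hxy hyz hxz hx hy hz)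

theorem nfix_one : nfix (Ω := Ω) (1 : G) = Fintype.card Ω := by
  rw [nfix, Finset.filter_true_of_mem (fun c _ => one_smul G c), Finset.card_univ]

/-- All swaps are involutions, the two-point stabiliser is inverted, and has more than two elements. -/
structure OddCtx (G : Type u) (Ω : Type v) [Group G] [MulAction G Ω] [Fintype Ω] (a b : Ω) (h e : ℕ) : Prop where
  h2 : IsMultiplyPretransitive G Ω 2
  h3 : ThreePoint G Ω
  ab : a ≠ b
  card : Fintype.card Ω = h + 1
  two : 2 ≤ h
  ecard : Nat.card ↥(stabilizer G a ⊓ stabilizer G b) = e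
  eodd : Odd e
  ethree : 3 ≤ e
  comm : ∀ x ∈ stabilizer G a ⊓ stabilizer G b, ∀ y ∈ stabilizer G a ⊓ stabilizer G b, x * y = y * x
  swap : ∀ s : G, s • a = b → s • b = a → s * s = 1 ∧
    ∀ x ∈ stabilizer G a ⊓ stabilizer G b, s * x * s⁻¹ = x⁻¹

omit [Fintype G] [DecidableEq G] [DecidableEq Ω] in
theorem oddCtx [Finite G] [FaithfulSMul G Ω] (h2 : IsMultiplyPretransitive G Ω 2) (h3 : ThreePoint G Ω)
    (hfix : ∃ g : G, g ≠ 1 ∧ ∃ a b : Ω, a ≠ b ∧ g • a = a ∧ g • b = b) [IsSimpleGroup G] {a b : Ω}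
    (hab : a ≠ b) {h e : ℕ} (hh : Fintype.card Ω = h + 1)
    (he : Nat.card ↥(stabilizer G a ⊓ stabilizer G b) = e) (hodd : Odd e) : OddCtx G Ω a b h e := by
  classical
  obtain ⟨hc, -, hs⟩ := ZassenhausOdd.cyclic_inverted h2 h3 hfix hab (he ▸ hodd)
    (ZassenhausOdd.no_complement h2 hab (he ▸ hodd))
  obtain ⟨g, hg, hga, hgb⟩ := exists_fix_pair h2 hfix hab
  obtain ⟨c, hca, hcb⟩ := three_le_card (G := G) hfix hab
  refine ⟨h2, h3, hab, hh, ?_, he, hodd, ?_, fun x hx y hy => ?_, hs⟩
  · have h1 : ({a, b, c} : Finset Ω).card = 3 := Finset.card_eq_three.2 ⟨a, b, c, hab, hca.symm, hcb.symm, rfl⟩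
    have := Finset.card_le_univ ({a, b, c} : Finset Ω)
    omega
  · haveI : Nontrivial ↥(stabilizer G a ⊓ stabilizer G b) :=
      ⟨⟨g, hga, hgb⟩, 1, fun e => hg (congrArg Subtype.val e)⟩
    have := Finite.one_lt_card (α := ↥(stabilizer G a ⊓ stabilizer G b))
    rw [he] at this
    obtain ⟨k, rfl⟩ := hodd
    omega
  · haveI := hc
    letI : CommGroup ↥(stabilizer G a ⊓ stabilizer G b) := IsCyclic.commGroup
    exact congrArg Subtype.val (mul_comm (⟨x, hx⟩ : ↥(stabilizer G a ⊓ stabilizer G b)) ⟨y, hy⟩)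

variable {a b : Ω} {h e : ℕ}

section
variable (C : OddCtx G Ω a b h e)
include C

omit [Fintype G] [DecidableEq G] [DecidableEq Ω] in
theorem exists_pair {c d : Ω} (hcd : c ≠ d) : ∃ k : G, k • a = c ∧ k • b = d :=
  is_two_pretransitive_iff.1 C.h2 C.ab hcd

theorem card_fix_pair {c d : Ω} (hcd : c ≠ d) :
    (Finset.univ.filter fun g : G => g • c = c ∧ g • d = d).card = e := by
  obtain ⟨k, hka, hkb⟩ := exists_pair C hcd
  haveI : Fintype ↥(stabilizer G a ⊓ stabilizer G b) := Fintype.ofFinite _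
  rw [← C.ecard, Nat.card_eq_fintype_card]
  refine Finset.card_bij' (fun g hg => (⟨k⁻¹ * g * k, ?_, ?_⟩ : ↥(stabilizer G a ⊓ stabilizer G b)))
    (fun x _ => k * (x : G) * k⁻¹) (fun _ _ => Finset.mem_univ _) (fun x _ => ?_) (fun g _ => by group)
    (fun x _ => Subtype.ext (by simp [mul_assoc]))
  · show (k⁻¹ * g * k) • a = a
    rw [Finset.mem_filter] at hg
    rw [mul_smul, mul_smul, hka, hg.2.1, inv_smul_eq_iff, hka]
  · show (k⁻¹ * g * k) • b = b
    rw [Finset.mem_filter] at hg
    rw [mul_smul, mul_smul, hkb, hg.2.2, inv_smul_eq_iff, hkb]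
  · rw [Finset.mem_filter]
    refine ⟨Finset.mem_univ _, ?_, ?_⟩
    · rw [mul_smul, mul_smul, inv_smul_eq_iff.2 hka.symm, x.2.1, hka]
    · rw [mul_smul, mul_smul, inv_smul_eq_iff.2 hkb.symm, x.2.2, hkb]

omit [Fintype G] [DecidableEq G] [DecidableEq Ω] in
theorem swap_sq {c d : Ω} (hcd : c ≠ d) {x : G} (hxc : x • c = d) (hxd : x • d = c) : x * x = 1 := by
  obtain ⟨k, hka, hkb⟩ := exists_pair C hcd
  have h1 := (C.swap (k⁻¹ * x * k) (by rw [mul_smul, mul_smul, hka, hxc, inv_smul_eq_iff, hkb])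
    (by rw [mul_smul, mul_smul, hkb, hxd, inv_smul_eq_iff, hka])).1
  rw [show k⁻¹ * x * k * (k⁻¹ * x * k) = k⁻¹ * (x * x) * k by group] at h1
  calc x * x = k * (k⁻¹ * (x * x) * k) * k⁻¹ := by group
    _ = 1 := by rw [h1, mul_one, mul_inv_cancel]

theorem card_swap {c d : Ω} (hcd : c ≠ d) :
    (invols.filter fun x : G => x • c = d).card = e := by
  obtain ⟨s, hsc, hsd⟩ := is_two_pretransitive_iff.1 C.h2 hcd hcd.symm
  rw [← card_fix_pair C hcd]
  refine Finset.card_equiv (Equiv.mulLeft s) fun x => ?_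
  simp only [invols, Finset.mem_filter, Finset.mem_univ, true_and, Equiv.coe_mulLeft]
  constructor
  · rintro ⟨⟨-, hxx⟩, hxc⟩
    have hxd : x • d = c := by
      calc x • d = x • x • c := by rw [hxc]
        _ = c := by rw [smul_smul, hxx, one_smul]
    exact ⟨by rw [mul_smul, hxc, hsd], by rw [mul_smul, hxd, hsc]⟩
  · rintro ⟨hc, hd⟩
    rw [mul_smul] at hc hd
    have hxc : x • c = d := MulAction.injective s (hc.trans hsd.symm)
    have hxd : x • d = c := MulAction.injective s (hd.trans hsc.symm)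
    exact ⟨⟨fun h1 => hcd (by rw [← hxc, h1, one_smul]), swap_sq C hcd hxc hxd⟩, hxc⟩

omit [Fintype G] [DecidableEq G] [DecidableEq Ω] in
theorem invol_conj [Finite G] [FaithfulSMul G Ω] {x y : G} (hx : x ≠ 1) (hxx : x * x = 1) (hy : y ≠ 1)
    (hyy : y * y = 1) : IsConj x y := by
  have key : ∀ w : G, w ≠ 1 → w * w = 1 → ∃ s : G, IsConj w s ∧ s • a = b ∧ s • b = a := by
    intro w hw hww
    obtain ⟨c, hc⟩ : ∃ c : Ω, w • c ≠ c := by
      by_contra hall
      push Not at hall
      exact hw (eq_of_smul_eq_smul fun c : Ω => by rw [hall, one_smul])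
    obtain ⟨k, hka, hkb⟩ := exists_pair C (Ne.symm hc)
    refine ⟨k⁻¹ * w * k, isConj_iff.2 ⟨k⁻¹, by group⟩, ?_, ?_⟩
    · rw [mul_smul, mul_smul, hka, inv_smul_eq_iff, hkb]
    · rw [mul_smul, mul_smul, hkb, smul_smul w w, hww, one_smul, inv_smul_eq_iff, hka]
  obtain ⟨s, hs, hsa, hsb⟩ := key x hx hxx
  obtain ⟨s', hs', hsa', hsb'⟩ := key y hy hyy
  refine hs.trans (IsConj.trans ?_ hs'.symm)
  obtain ⟨hss, hinv⟩ := C.swap s hsa hsb
  have hmem : s * s' ∈ stabilizer G a ⊓ stabilizer G b :=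
    ⟨by show (s * s') • a = a; rw [mul_smul, hsa', hsb], by show (s * s') • b = b; rw [mul_smul, hsb', hsa]⟩
  -- a square root of the quotient
  obtain ⟨⟨r, hr⟩, hr'⟩ := (powCoprime (G := ↥(stabilizer G a ⊓ stabilizer G b)) (n := 2)
    (by rw [C.ecard]; exact (Nat.prime_two.coprime_iff_not_dvd.2 C.eodd.not_two_dvd_nat).symm)).surjective ⟨_, hmem⟩
  have hr2 : r * r = s * s' := by
    have := congrArg Subtype.val hr'
    simpa [powCoprime, sq] using this
  refine isConj_iff.2 ⟨r⁻¹, ?_⟩
  have h1 : s * r⁻¹ * s⁻¹ = r := by rw [hinv _ (inv_mem hr), inv_inv]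
  calc r⁻¹ * s * r⁻¹⁻¹ = s * ((s⁻¹ * r⁻¹ * s) * r) := by group
    _ = s * (r * r) := by rw [inv_eq_of_mul_eq_one_right hss] at h1 ⊢; rw [h1]
    _ = s' := by rw [hr2, ← mul_assoc, hss, one_mul]

omit [DecidableEq G] in
theorem nfix_invol {x : G} (hx : x ≠ 1) (hxx : x * x = 1) :
    nfix (Ω := Ω) x = if Even h then 1 else 0 := by
  classical
  haveI : Fact (Nat.Prime 2) := ⟨Nat.prime_two⟩
  have hle : nfix (Ω := Ω) x ≤ 1 := by
    by_contra hlt
    rw [not_le, nfix] at hlt
    obtain ⟨c, hc, d, hd, hcd⟩ := Finset.one_lt_card.1 hlt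
    simp only [Finset.mem_filter, Finset.mem_univ, true_and] at hc hd
    obtain ⟨k, hka, hkb⟩ := exists_pair C hcd
    have hm : k⁻¹ * x * k ∈ stabilizer G a ⊓ stabilizer G b :=
      ⟨by show (k⁻¹ * x * k) • a = a; rw [mul_smul, mul_smul, hka, hc, inv_smul_eq_iff, hka],
        by show (k⁻¹ * x * k) • b = b; rw [mul_smul, mul_smul, hkb, hd, inv_smul_eq_iff, hkb]⟩
    have h1 : (⟨_, hm⟩ : ↥(stabilizer G a ⊓ stabilizer G b)) ^ 2 = 1 := Subtype.ext (by
      show (k⁻¹ * x * k) ^ 2 = 1
      rw [sq, show k⁻¹ * x * k * (k⁻¹ * x * k) = k⁻¹ * (x * x) * k by group, hxx]; group)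
    have h2' := pow_gcd_eq_one.2 ⟨h1, pow_card_eq_one' (x := (⟨_, hm⟩ : ↥(stabilizer G a ⊓ stabilizer G b)))⟩
    rw [C.ecard, Nat.Coprime.gcd_eq_one (Nat.prime_two.coprime_iff_not_dvd.2 C.eodd.not_two_dvd_nat), pow_one] at h2'
    have h3' : k⁻¹ * x * k = 1 := congrArg Subtype.val h2'
    exact hx (by rw [show x = k * (k⁻¹ * x * k) * k⁻¹ by group, h3', mul_one, mul_inv_cancel])
  -- parity
  let σ : Equiv.Perm Ω := MulAction.toPerm x
  have hσ : σ ^ 2 ^ 1 = 1 := Equiv.ext fun c => by
    show x • x • c = c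
    rw [smul_smul, hxx, one_smul]
  have hpar := Equiv.Perm.card_compl_support_modEq (n := 1) (p := 2) hσ
  have hsupp : σ.supportᶜ = Finset.univ.filter fun c : Ω => x • c = c := by
    ext c
    simp [σ]
  rw [hsupp] at hpar
  change nfix (Ω := Ω) x % 2 = Fintype.card Ω % 2 at hpar
  rw [C.card] at hpar
  split_ifs with hh
  · obtain ⟨m, rfl⟩ := hh
    omega
  · rw [Nat.not_even_iff_odd] at hh
    obtain ⟨m, rfl⟩ := hh
    omega

/-- The number of involutions. -/
theorem card_invols : (invols : Finset G).card = if Even h then e * (h + 1) else e * h := by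
  classical
  have hcount : ∑ x ∈ (invols : Finset G), (Finset.univ.filter fun c : Ω => x • c ≠ c).card = (h + 1) * h * e := by
    calc ∑ x ∈ (invols : Finset G), (Finset.univ.filter fun c : Ω => x • c ≠ c).card
        = ∑ p ∈ (Finset.univ : Finset Ω).offDiag, (invols.filter fun x : G => x • p.1 = p.2).card := by
          rw [Finset.sum_congr rfl (g := fun x => ((Finset.univ : Finset Ω).offDiag.filter
            fun p => x • p.1 = p.2).card) (fun x _ => ?_)]
          · exact Finset.sum_card_bipartiteAbove_eq_sum_card_bipartiteBelow (fun (x : G) (p : Ω × Ω) => x • p.1 = p.2)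
          · refine Finset.card_bij' (fun c _ => (c, x • c)) (fun p _ => p.1) (fun c hc => ?_) (fun p hp => ?_)
              (fun c _ => rfl) (fun p hp => ?_)
            · simp only [Finset.mem_filter, Finset.mem_univ, true_and] at hc
              simp [Ne.symm hc]
            · simp only [Finset.mem_filter, Finset.mem_offDiag] at hp
              simp only [Finset.mem_filter, Finset.mem_univ, true_and]
              rw [hp.2]
              exact Ne.symm hp.1.2.2
            · simp only [Finset.mem_filter] at hp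
              exact Prod.ext rfl hp.2
      _ = ∑ p ∈ (Finset.univ : Finset Ω).offDiag, e :=
          Finset.sum_congr rfl fun p hp => card_swap C (Finset.mem_offDiag.1 hp).2.2
      _ = (h + 1) * h * e := by
          rw [Finset.sum_const, Finset.offDiag_card, Finset.card_univ, C.card, smul_eq_mul,
            ← Nat.mul_sub_one, Nat.add_sub_cancel]
  have hmoved : ∀ x ∈ (invols : Finset G), (Finset.univ.filter fun c : Ω => x • c ≠ c).card =
      if Even h then h else h + 1 := by
    intro x hx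
    simp only [invols, Finset.mem_filter, Finset.mem_univ, true_and] at hx
    have h1 := Finset.card_filter_add_card_filter_not (s := (Finset.univ : Finset Ω)) (fun c => x • c = c)
    have h2' := nfix_invol C hx.1 hx.2
    rw [Finset.card_univ, C.card] at h1
    change nfix (Ω := Ω) x + (Finset.univ.filter fun c : Ω => x • c ≠ c).card = h + 1 at h1
    split_ifs at h2' ⊢ <;> omega
  rw [Finset.sum_congr rfl hmoved, Finset.sum_const, smul_eq_mul] at hcount
  have := C.two
  split_ifs at hcount ⊢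
  · exact Nat.eq_of_mul_eq_mul_right (show 0 < h by omega) (hcount.trans (by ring))
  · exact Nat.eq_of_mul_eq_mul_right (show 0 < h + 1 by omega) (hcount.trans (by ring))

theorem card_group : Fintype.card G = (h + 1) * h * e := by
  classical
  have h1 : ∑ p ∈ (Finset.univ : Finset Ω).offDiag, (Finset.univ.filter fun g : G => g • a = p.1 ∧ g • b = p.2).card =
      Fintype.card G := by
    rw [← Finset.card_univ (α := G)]
    rw [Finset.card_eq_sum_card_fiberwise (s := (Finset.univ : Finset G)) (f := fun g : G => (g • a, g • b))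
      (t := (Finset.univ : Finset Ω).offDiag) (fun g _ => by
        simp [C.ab])]
    simp [Prod.ext_iff]
  rw [← h1, Finset.sum_congr rfl (g := fun _ => e) fun p hp => ?_, Finset.sum_const, Finset.offDiag_card,
    Finset.card_univ, C.card, smul_eq_mul, ← Nat.mul_sub_one, Nat.add_sub_cancel]
  obtain ⟨k, hka, hkb⟩ := exists_pair C (Finset.mem_offDiag.1 hp).2.2
  rw [← card_fix_pair C C.ab]
  refine Finset.card_equiv (Equiv.mulLeft k⁻¹) fun g => ?_
  simp [mul_smul, inv_smul_eq_iff, hka, hkb]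

/-- The elements with a given number of fixed points. -/
theorem card_nfix :
    2 * (Finset.univ.filter fun g : G => g ≠ 1 ∧ nfix (Ω := Ω) g = 2).card = (h + 1) * h * (e - 1) ∧
      (Finset.univ.filter fun g : G => g ≠ 1 ∧ nfix (Ω := Ω) g = 1).card = (h + 1) * (h - 1) ∧
      2 * (Finset.univ.filter fun g : G => nfix (Ω := Ω) g = 0).card = (h + 1) * h * (e - 1) + 2 * h := by
  classical
  haveI : IsPretransitive G Ω := by
    haveI := C.h2
    exact isPretransitive_of_is_two_pretransitive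
  have hG := card_group C
  -- first moment
  have hm1 : ∑ g : G, nfix (Ω := Ω) g = Fintype.card G := by
    have h1 : ∀ c : Ω, (Finset.univ.filter fun g : G => g • c = c).card = h * e := by
      intro c
      have h2' : Nat.card (stabilizer G c) * (stabilizer G c).index = Fintype.card G := by
        rw [Subgroup.card_mul_index, Nat.card_eq_fintype_card]
      rw [MulAction.index_stabilizer_of_transitive, Nat.card_eq_fintype_card (α := Ω), C.card, hG,
        Nat.card_eq_fintype_card, Fintype.card_subtype] at h2'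
      have h3' : (Finset.univ.filter fun g : G => g • c = c).card = (Finset.univ.filter fun g : G => g ∈ stabilizer G c).card :=
        congrArg Finset.card (Finset.filter_congr fun g _ => Iff.rfl)
      rw [h3']
      exact Nat.eq_of_mul_eq_mul_right (show 0 < h + 1 by omega) (h2'.trans (by ring))
    calc ∑ g : G, nfix (Ω := Ω) g = ∑ c : Ω, (Finset.univ.filter fun g : G => g • c = c).card :=
          Finset.sum_card_bipartiteAbove_eq_sum_card_bipartiteBelow (fun (g : G) (c : Ω) => g • c = c)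
      _ = _ := by rw [Finset.sum_congr rfl fun c _ => h1 c, Finset.sum_const, Finset.card_univ, C.card, hG, smul_eq_mul, mul_assoc]
  -- second moment
  have hm2 : ∑ g : G, nfix (Ω := Ω) g * (nfix (Ω := Ω) g - 1) = (h + 1) * h * e := by
    calc ∑ g : G, nfix (Ω := Ω) g * (nfix (Ω := Ω) g - 1)
        = ∑ g : G, ((Finset.univ : Finset Ω).offDiag.filter fun p => g • p.1 = p.1 ∧ g • p.2 = p.2).card := by
          refine Finset.sum_congr rfl fun g _ => ?_
          rw [nfix, Nat.mul_sub_one, ← Finset.offDiag_card]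
          congr 1
          ext p
          simp [Finset.mem_offDiag]
          tauto
      _ = ∑ p ∈ (Finset.univ : Finset Ω).offDiag, (Finset.univ.filter fun g : G => g • p.1 = p.1 ∧ g • p.2 = p.2).card :=
          Finset.sum_card_bipartiteAbove_eq_sum_card_bipartiteBelow
            (fun (g : G) (p : Ω × Ω) => g • p.1 = p.1 ∧ g • p.2 = p.2)
      _ = _ := by
          rw [Finset.sum_congr rfl (g := fun _ => e) fun p hp => card_fix_pair C (Finset.mem_offDiag.1 hp).2.2,
            Finset.sum_const, Finset.offDiag_card, Finset.card_univ, C.card, smul_eq_mul, ← Nat.mul_sub_one,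
            Nat.add_sub_cancel]
  obtain ⟨S, hS⟩ : ∃ S : Finset G, S = Finset.univ.erase 1 := ⟨_, rfl⟩
  have hval : ∀ g ∈ S, nfix (Ω := Ω) g = 0 ∨ nfix (Ω := Ω) g = 1 ∨ nfix (Ω := Ω) g = 2 := fun g hg => by
    have := nfix_le (Ω := Ω) C.h3 (g := g) (by rw [hS] at hg; exact (Finset.mem_erase.1 hg).1)
    omega
  have hpart : ∀ F : ℕ → ℕ, ∑ g ∈ S, F (nfix (Ω := Ω) g) =
      F 0 * (S.filter fun g : G => nfix (Ω := Ω) g = 0).card + F 1 * (S.filter fun g : G => nfix (Ω := Ω) g = 1).card +
        F 2 * (S.filter fun g : G => nfix (Ω := Ω) g = 2).card := by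
    intro F
    rw [← Finset.sum_fiberwise_of_maps_to (t := ({0, 1, 2} : Finset ℕ)) (g := fun g : G => nfix (Ω := Ω) g)
      (fun g hg => by simpa using hval g hg)]
    have h1 : ∀ k : ℕ, ∑ g ∈ S.filter (fun g : G => nfix (Ω := Ω) g = k), F (nfix (Ω := Ω) g) =
        F k * (S.filter fun g : G => nfix (Ω := Ω) g = k).card := by
      intro k
      rw [Finset.sum_congr rfl (g := fun _ => F k) (fun g hg => by rw [(Finset.mem_filter.1 hg).2]), Finset.sum_const,
        smul_eq_mul, mul_comm]
    simp [h1, add_assoc]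
  rw [← Finset.add_sum_erase _ _ (Finset.mem_univ (1 : G)), ← hS, nfix_one, C.card] at hm1 hm2
  have e1 := hpart (fun k => k)
  have e2 := hpart (fun k => k * (k - 1))
  have e0 := hpart (fun _ => 1)
  simp only [Finset.sum_const, smul_eq_mul, mul_one, one_mul] at e0
  rw [hS, Finset.card_erase_of_mem (Finset.mem_univ _), Finset.card_univ, ← hS, hG] at e0
  have hf : ∀ k, (Finset.univ.filter fun g : G => g ≠ 1 ∧ nfix (Ω := Ω) g = k) = S.filter fun g : G => nfix (Ω := Ω) g = k := by
    intro k; ext g; simp [hS]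
  have hf0 : (Finset.univ.filter fun g : G => nfix (Ω := Ω) g = 0) = S.filter fun g : G => nfix (Ω := Ω) g = 0 := by
    ext g
    simp only [hS, Finset.mem_filter, Finset.mem_univ, true_and, Finset.mem_erase, and_true]
    refine ⟨fun hg => ⟨fun h1 => ?_, hg⟩, fun hg => hg.2⟩
    rw [h1, nfix_one, C.card] at hg
    omega
  rw [hf, hf, hf0]
  obtain ⟨j, hj⟩ : ∃ j, e = j + 1 := ⟨e - 1, by have := C.ethree; omega⟩
  obtain ⟨m, hm⟩ : ∃ m, h = m + 1 := ⟨h - 1, by have := C.two; omega⟩
  rw [e1, hG] at hm1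
  rw [e2] at hm2
  subst hj hm
  simp only [Nat.add_sub_cancel] at hm2 ⊢
  generalize (S.filter fun g : G => nfix (Ω := Ω) g = 0).card = A0 at *
  generalize (S.filter fun g : G => nfix (Ω := Ω) g = 1).card = A1 at *
  generalize (S.filter fun g : G => nfix (Ω := Ω) g = 2).card = A2 at *
  norm_num at hm1 hm2
  have hpos : 0 < (m + 1 + 1) * (m + 1) * (j + 1) := by positivity
  have e0' : A0 + A1 + A2 + 1 = (m + 1 + 1) * (m + 1) * (j + 1) := by omega
  refine ⟨?_, ?_, ?_⟩ <;> nlinarith

end

end Cfsg.Agent.Lie.ZassenhausCount
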