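import Mathlib
import Cfsg.Prelude.Def_LieExceptional
import Cfsg.Agent.Lib.Lie.ZassenhausCount
import Cfsg.Agent.Lib.Lie.AbelianField
import Cfsg.Agent.Lib.Lie.MobiusRecognition

/-!
A simple Zassenhaus group with abelian kernel and two-point stabiliser of odd order half the degree minus two
is a projective special linear group; one with the largest two-point stabiliser is sharply triply transitive.
-/

set_option autoImplicit false
set_option linter.unusedSectionVars false
set_option linter.style.haveILetI false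

namespace Cfsg.Agent.Lie.ZassenhausHalfOdd

open MulAction
open Cfsg.Agent.Lie.Zassenhaus
open Cfsg.Agent.Lie.ZassenhausCount

universe u v

theorem sharp_three {G : Type u} {Ω : Type v} [Group G] [Finite G] [MulAction G Ω] [Fintype Ω]
    (h2 : IsMultiplyPretransitive G Ω 2) (h3 : ThreePoint G Ω) {a b : Ω} (hab : a ≠ b)
    (hcard : Nat.card ↥(stabilizer G a ⊓ stabilizer G b) = Fintype.card Ω - 2) :
    IsMultiplyPretransitive G Ω 3 ∧ ∀ t : Fin 3 ↪ Ω, stabilizer G t = ⊥ := by
  classical
  refine ⟨⟨fun x y => ?_⟩, fun t => ?_⟩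
  · obtain ⟨c₀, hc₀⟩ : ∃ c₀, c₀ = x 2 := ⟨_, rfl⟩
    have hx : ∀ i j : Fin 3, i ≠ j → x i ≠ x j := fun i j h e => h (x.injective e)
    have hy : ∀ i j : Fin 3, i ≠ j → y i ≠ y j := fun i j h e => h (y.injective e)
    obtain ⟨k, hka, hkb⟩ := is_two_pretransitive_iff.1 h2 hab (hx 0 1 (by decide))
    obtain ⟨l, hla, hlb⟩ := is_two_pretransitive_iff.1 h2 hab (hy 0 1 (by decide))
    let D := stabilizer G a ⊓ stabilizer G b
    have hne : ∀ (z : Fin 3 ↪ Ω) (m : G), m • a = z 0 → m • b = z 1 →
        m⁻¹ • z 2 ≠ a ∧ m⁻¹ • z 2 ≠ b := fun z m h0 h1 =>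
      ⟨fun e => (fun i j h e => h (z.injective e) : ∀ i j : Fin 3, i ≠ j → z i ≠ z j) 2 0 (by decide)
          (by rw [← h0, ← e, smul_inv_smul]),
        fun e => (fun i j h e => h (z.injective e) : ∀ i j : Fin 3, i ≠ j → z i ≠ z j) 2 1 (by decide)
          (by rw [← h1, ← e, smul_inv_smul])⟩
    let T := {c : Ω // c ≠ a ∧ c ≠ b}
    let c₁ : T := ⟨k⁻¹ • x 2, hne x k hka hkb⟩
    let f : D → T := fun d => ⟨(d : G) • (c₁ : Ω),
      fun h => c₁.2.1 (MulAction.injective (d : G) (h.trans d.2.1.symm)),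
      fun h => c₁.2.2 (MulAction.injective (d : G) (h.trans d.2.2.symm))⟩
    haveI := Fintype.ofFinite D
    have hf : Function.Bijective f := by
      refine (Fintype.bijective_iff_injective_and_card f).2 ⟨fun d d' h => ?_, ?_⟩
      · have h1 : ((d'⁻¹ * d : D) : G) • (c₁ : Ω) = c₁ := by
          rw [Subgroup.coe_mul, mul_smul, show (d : G) • (c₁ : Ω) = (d' : G) • (c₁ : Ω) from congrArg Subtype.val h,
            Subgroup.coe_inv, inv_smul_smul]
        have h4 := h3 _ a b c₁ hab (Ne.symm c₁.2.2) (Ne.symm c₁.2.1) (d'⁻¹ * d).2.1 (d'⁻¹ * d).2.2 h1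
        exact (inv_mul_eq_one.1 (Subtype.ext h4)).symm
      · rw [← Nat.card_eq_fintype_card (α := D), hcard, Fintype.card_subtype,
          show (Finset.univ.filter fun c : Ω => c ≠ a ∧ c ≠ b) = ({a, b} : Finset Ω)ᶜ by ext; simp,
          Finset.card_compl, Finset.card_pair hab]
    obtain ⟨d, hd⟩ := hf.2 ⟨l⁻¹ • y 2, hne y l hla hlb⟩
    have hd' : (d : G) • k⁻¹ • x 2 = l⁻¹ • y 2 := congrArg Subtype.val hd
    refine ⟨l * d * k⁻¹, Function.Embedding.ext fun i => ?_⟩
    show (l * (d : G) * k⁻¹) • x i = y i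
    rw [mul_smul, mul_smul]
    fin_cases i
    · show l • (d : G) • k⁻¹ • x 0 = y 0
      rw [← hka, inv_smul_smul, (d.2.1 : (d : G) • a = a), hla]
    · show l • (d : G) • k⁻¹ • x 1 = y 1
      rw [← hkb, inv_smul_smul, (d.2.2 : (d : G) • b = b), hlb]
    · show l • (d : G) • k⁻¹ • x 2 = y 2
      rw [hd', smul_inv_smul]
  · rw [Subgroup.eq_bot_iff_forall]
    intro g hg
    have hi : ∀ i, g • t i = t i := fun i => DFunLike.congr_fun (hg : g • t = t) i
    exact h3 g (t 0) (t 1) (t 2) (t.injective.ne (by decide)) (t.injective.ne (by decide))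
      (t.injective.ne (by decide)) (hi 0) (hi 1) (hi 2)

set_option maxHeartbeats 1000000 in
theorem psl_of_half_odd {G : Type u} {Ω : Type v} [Group G] [Fintype G] [MulAction G Ω] [Fintype Ω]
    [FaithfulSMul G Ω] {a b : Ω} {h e : ℕ} (C : OddCtx G Ω a b h e) (hhe : h = 2 * e + 1)
    (U : Subgroup G) (hUa : U ≤ stabilizer G a)
    (hUn : ∀ g ∈ stabilizer G a, ∀ k ∈ U, g * k * g⁻¹ ∈ U) (hUcomm : ∀ x y : U, x * y = y * x)
    (hreg : ∀ c : Ω, c ≠ a → ∃! k : U, (k : G) • b = c) :
    ∃ (F : Type) (_ : Field F) (_ : Fintype F), ringChar F ≠ 2 ∧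
      Nonempty (G ≃* Matrix.ProjectiveSpecialLinearGroup (Fin 2) F) := by
  classical
  have hab := C.ab
  have h3 := C.h3
  let ι : U → {ω : Ω // ω ≠ a} := fun k => ⟨(k : G) • b, fun e => hab
    (MulAction.injective (k : G) (e.trans (hUa k.2).symm)).symm⟩
  have hιinj : Function.Injective ι := fun k k' e => by
    obtain ⟨w, -, hw⟩ := hreg _ (ι k').2
    exact (hw k (congrArg Subtype.val e)).trans (hw k' rfl).symm
  have hιsurj : Function.Surjective ι := fun ω => by
    obtain ⟨k, hk, -⟩ := hreg ω.1 ω.2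
    exact ⟨k, Subtype.ext hk⟩
  have hUcard : Nat.card U = h := by
    rw [Nat.card_eq_of_bijective ι ⟨hιinj, hιsurj⟩, Nat.card_eq_fintype_card, Fintype.card_subtype_compl,
      Fintype.card_subtype_eq, C.card, Nat.add_sub_cancel]
  have hUf : ∀ k : U, (k : G) • b = b → k = 1 := fun k hk => hιinj (Subtype.ext (by
    show (k : G) • b = ((1 : U) : G) • b
    rw [hk, OneMemClass.coe_one, one_smul]))
  set D := stabilizer G a ⊓ stabilizer G b with hDdef
  have hDcard : Nat.card D = e := C.ecard
  obtain ⟨t, hta, htb⟩ := is_two_pretransitive_iff.1 C.h2 hab hab.symm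
  obtain ⟨htt, htinv⟩ := C.swap t hta htb
  have ht1 : t ≠ 1 := fun e1 => hab (by rw [← hta, e1, one_smul])
  have hinv : ∀ g : D, t * (g : G) * t = (g : G)⁻¹ := fun g => by
    rw [← htinv g g.2, inv_eq_of_mul_eq_one_right htt]
  have hodd : ¬ Even h := by rw [Nat.not_even_iff_odd, hhe]; exact odd_two_mul_add_one e
  have htfix : ∀ c : Ω, t • c ≠ c := fun c hc => by
    have h1 := nfix_invol C ht1 htt
    rw [if_neg hodd, nfix, Finset.card_eq_zero] at h1
    have h2 : c ∈ (Finset.univ.filter fun c : Ω => t • c = c) := by simp [hc]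
    rw [h1] at h2
    exact Finset.notMem_empty _ h2
  -- the field
  letI : CommGroup U := { (inferInstance : Group U) with mul_comm := hUcomm }
  let conjU : D → U → U := fun g k => ⟨(g : G) * k * (g : G)⁻¹, hUn _ g.2.1 k k.2⟩
  have hconj_mul : ∀ g k k', conjU g (k * k') = conjU g k * conjU g k' := fun g k k' => Subtype.ext (by
    show (g : G) * ((k : G) * k') * (g : G)⁻¹ = (g : G) * k * (g : G)⁻¹ * ((g : G) * k' * (g : G)⁻¹)
    group)
  let ρ : D →* AddMonoid.End (Additive U) :=
    { toFun := fun g => AddMonoidHom.mk' (fun k => Additive.ofMul (conjU g (Additive.toMul k)))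
        fun k k' => congrArg Additive.ofMul (hconj_mul g _ _)
      map_one' := AddMonoidHom.ext fun k => congrArg Additive.ofMul (Subtype.ext (by
        show ((1 : D) : G) * (Additive.toMul k : U) * ((1 : D) : G)⁻¹ = (Additive.toMul k : U)
        simp))
      map_mul' := fun g g' => AddMonoidHom.ext fun k => congrArg Additive.ofMul (Subtype.ext (by
        show ((g * g' : D) : G) * (Additive.toMul k : U) * ((g * g' : D) : G)⁻¹ =
          (g : G) * ((g' : G) * (Additive.toMul k : U) * (g' : G)⁻¹) * (g : G)⁻¹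
        simp [mul_assoc])) }
  have hρfree : ∀ (g : D) (k : Additive U), ρ g k = k → g = 1 ∨ k = 0 := by
    intro g k hk
    set k' : U := Additive.toMul k
    have e1 : (g : G) * k' * (g : G)⁻¹ = k' := congrArg (fun x => ((Additive.toMul x : U) : G)) hk
    have hfixk : (g : G) • (k' : G) • b = (k' : G) • b := by
      rw [smul_smul, mul_inv_eq_iff_eq_mul.1 e1, mul_smul, g.2.2]
    by_cases hkb : (k' : G) • b = b
    · exact Or.inr (congrArg Additive.ofMul (hUf k' hkb))
    · exact Or.inl (Subtype.ext (h3 _ a b ((k' : G) • b) hab (Ne.symm hkb) (ι k').2.symm g.2.1 g.2.2 hfixk))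
  haveI : Nontrivial (Additive U) := by
    rw [← Finite.one_lt_card_iff_nontrivial, Nat.card_congr Additive.toMul, hUcard]
    exact C.two
  obtain ⟨F, iF, iFF, e₀, μ, hμ⟩ := AbelianField.exists_field ρ
    (fun g g' => by rw [← map_mul, ← map_mul, show g * g' = g' * g from Subtype.ext (C.comm g g.2 g' g'.2)])
    (fun W hW => by
      by_contra hne
      rw [not_or] at hne
      obtain ⟨⟨w, hw⟩, hw0'⟩ := AddSubgroup.ne_bot_iff_exists_ne_zero.1 hne.1
      have hw0 : w ≠ 0 := fun h => hw0' (Subtype.ext h)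
      have hinjW : Function.Injective (fun g : D => (⟨ρ g w, hW g _ hw⟩ : W)) := fun g g' hgg => by
        have h1 : ρ (g'⁻¹ * g) (w : Additive U) = w := by
          rw [map_mul]
          show ρ g'⁻¹ (ρ g w) = _
          rw [show ρ g (w : Additive U) = ρ g' w from congrArg Subtype.val hgg]
          show (ρ g'⁻¹ * ρ g') (w : Additive U) = _
          rw [← map_mul, inv_mul_cancel, map_one]; rfl
        rcases hρfree _ _ h1 with h2 | h2
        · exact (inv_mul_eq_one.1 h2).symm
        · exact absurd h2 hw0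
      have h0 : ∀ g : D, (⟨ρ g w, hW g _ hw⟩ : W) ≠ 0 := fun g hg => by
        have h1 : (ρ g⁻¹ * ρ g) (w : Additive U) = w := by rw [← map_mul, inv_mul_cancel, map_one]; rfl
        have h2 : ρ g (w : Additive U) = 0 := congrArg Subtype.val hg
        refine hw0 ?_
        rw [← h1]
        show ρ g⁻¹ (ρ g w) = 0
        rw [h2, map_zero]
      haveI := Fintype.ofFinite W
      haveI := Fintype.ofFinite D
      have hlt : Nat.card D + 1 ≤ Nat.card W := by
        rw [Nat.card_eq_fintype_card, Nat.card_eq_fintype_card]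
        have := Finset.card_le_univ (insert (0 : W) (Finset.univ.image fun g : D => (⟨ρ g w, hW g _ hw⟩ : W)))
        rwa [Finset.card_insert_of_notMem (fun hmem => by
          obtain ⟨g, -, hg⟩ := Finset.mem_image.1 hmem
          exact h0 g hg), Finset.card_image_of_injective _ hinjW, Finset.card_univ] at this
      obtain ⟨k, hk⟩ := AddSubgroup.card_addSubgroup_dvd_card W
      rw [Nat.card_congr Additive.toMul, hUcard, hhe] at hk
      have hk2 : 2 ≤ k := by
        by_contra hk2
        interval_cases k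
        · omega
        · exact hne.2 (AddSubgroup.eq_top_of_card_eq W (by
            rw [Nat.card_congr Additive.toMul, hUcard, hhe, hk, mul_one]))
      have : Nat.card W * 2 ≤ Nat.card W * k := Nat.mul_le_mul_left _ hk2
      omega)
  letI := iF
  letI := iFF
  haveI : Fintype (Additive U) := Fintype.ofFinite _
  have hq : Fintype.card F = h := by
    rw [← Nat.card_eq_fintype_card, ← Nat.card_congr e₀.toEquiv, Nat.card_congr Additive.toMul, hUcard]
  have hchar : ringChar F ≠ 2 := fun hc => by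
    have h1 := FiniteField.even_card_iff_char_two.1 hc
    omega
  refine ⟨F, iF, iFF, hchar, ?_⟩
  have hneg1 : ¬ IsSquare (-1 : F) := by
    rw [FiniteField.isSquare_neg_one_iff, not_not]
    obtain ⟨j, hj⟩ := C.eodd
    omega
  -- coordinates
  obtain ⟨k₁, hk₁⟩ : ∃ k₁ : U, k₁ ≠ 1 := by
    haveI : Nontrivial U := Finite.one_lt_card_iff_nontrivial.1 (by rw [hUcard]; exact C.two)
    exact exists_ne 1
  set s₁ := e₀ (Additive.ofMul k₁) with hs₁
  have hs₁0 : s₁ ≠ 0 := fun h0 => hk₁ (by
    rw [hs₁, map_eq_zero_iff e₀ e₀.injective] at h0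
    exact h0)
  let π : F → G := fun x => ((Additive.toMul (e₀.symm (x * s₁)) : U) : G)
  have hπU : ∀ x, π x ∈ U := fun x => (Additive.toMul (e₀.symm (x * s₁))).2
  have hπadd : ∀ x y, π (x + y) = π x * π y := fun x y => by
    show ((Additive.toMul (e₀.symm ((x + y) * s₁)) : U) : G) = _
    rw [add_mul, map_add]
    rfl
  let P : F → Ω := fun x => π x • b
  have hπ0 : π 0 = 1 := by
    show ((Additive.toMul (e₀.symm (0 * s₁)) : U) : G) = 1
    rw [zero_mul, map_zero]; rfl
  have hP0 : P 0 = b := by show π 0 • b = b; rw [hπ0, one_smul]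
  have hπP : ∀ x y, π x • P y = P (x + y) := fun x y => by
    show π x • π y • b = π (x + y) • b
    rw [hπadd, mul_smul]
  have hPa : ∀ x, P x ≠ a := fun x => (ι (Additive.toMul (e₀.symm (x * s₁)))).2
  have hPinj : Function.Injective P := fun x y hxy => by
    have h1 := hιinj (a₁ := Additive.toMul (e₀.symm (x * s₁))) (a₂ := Additive.toMul (e₀.symm (y * s₁)))
      (Subtype.ext hxy)
    exact mul_right_cancel₀ hs₁0 (e₀.symm.injective (Additive.toMul.injective h1))
  have hPsurj : ∀ ω, ω ≠ a → ∃ x, P x = ω := fun ω hω => by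
    obtain ⟨k, hkb, -⟩ := hreg ω hω
    refine ⟨e₀ (Additive.ofMul k) / s₁, ?_⟩
    show ((Additive.toMul (e₀.symm (_ / s₁ * s₁)) : U) : G) • b = ω
    rw [div_mul_cancel₀ _ hs₁0, AddEquiv.symm_apply_apply]
    exact hkb
  have hDP : ∀ (g : D) y, (g : G) • P y = P (μ g * y) := fun g y => by
    show (g : G) • π y • b = π (μ g * y) • b
    have h1 := hμ g (e₀.symm (y * s₁))
    rw [AddEquiv.apply_symm_apply, ← mul_assoc] at h1
    have h2 : π (μ g * y) = (g : G) * π y * (g : G)⁻¹ := by
      show ((Additive.toMul (e₀.symm (μ g * y * s₁)) : U) : G) = _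
      rw [← h1, AddEquiv.symm_apply_apply]
      rfl
    rw [h2, mul_smul, mul_smul, inv_smul_eq_iff.2 g.2.2.symm]
  -- the image of μ is the group of squares
  have hμinj : Function.Injective μ := fun g g' hgg => by
    have h1 : ((g'⁻¹ * g : D) : G) • P 1 = P 1 := by
      rw [hDP, map_mul, hgg, ← map_mul, inv_mul_cancel, map_one, one_mul]
    have hb1 : b ≠ P 1 := fun e1 => one_ne_zero (hPinj (e1.symm.trans hP0.symm))
    have h2 := h3 _ a b (P 1) hab hb1 (hPa 1).symm (g'⁻¹ * g).2.1 (g'⁻¹ * g).2.2 h1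
    exact (inv_mul_eq_one.1 (Subtype.ext h2)).symm
  have hμ0 : ∀ g, μ g ≠ 0 := fun g hg => by
    have h1 : μ (g * g⁻¹) = 0 := by rw [map_mul, hg, zero_mul]
    rw [mul_inv_cancel, map_one] at h1
    exact one_ne_zero h1
  have hD2 : Fintype.card F / 2 = Nat.card D := by omega
  have hμsq : ∀ x : F, x ≠ 0 → (IsSquare x ↔ ∃ g, μ g = x) := by
    intro x hx
    haveI := Fintype.ofFinite D
    have hpow : ∀ g : D, μ g ^ (Fintype.card F / 2) = 1 := fun g => by
      rw [hD2, ← map_pow, pow_card_eq_one', map_one]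
    rw [FiniteField.isSquare_iff hchar hx]
    constructor
    · intro hxp
      by_contra hno
      push Not at hno
      have hsub : insert x (Finset.univ.image μ) ⊆ (Polynomial.nthRoots (Fintype.card F / 2) (1 : F)).toFinset := by
        intro y hy
        rw [Multiset.mem_toFinset, Polynomial.mem_nthRoots (by have := C.ethree; omega)]
        rcases Finset.mem_insert.1 hy with rfl | hy
        · exact hxp
        · obtain ⟨g, -, rfl⟩ := Finset.mem_image.1 hy
          exact hpow g
      have h1 := (Finset.card_le_card hsub).trans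
        ((Multiset.toFinset_card_le _).trans (Polynomial.card_nthRoots _ (1 : F)))
      rw [Finset.card_insert_of_notMem (fun h' => by
          obtain ⟨g, -, hg⟩ := Finset.mem_image.1 h'
          exact hno g hg), Finset.card_image_of_injective _ hμinj, Finset.card_univ,
        ← Nat.card_eq_fintype_card] at h1
      omega
    · rintro ⟨g, rfl⟩
      exact hpow g
  -- the inversion
  have hcex : ∀ x, x ≠ 0 → ∃ y, y ≠ 0 ∧ t • P x = P y := by
    intro x hx
    obtain ⟨y, hy⟩ := hPsurj (t • P x) fun h1 => hx (hPinj (by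
      rw [hP0]; exact MulAction.injective t (h1.trans htb.symm)))
    refine ⟨y, fun h0 => hPa x ?_, hy.symm⟩
    rw [h0, hP0, ← hta] at hy
    exact MulAction.injective t hy.symm
  obtain ⟨c, hc0, hc⟩ := hcex 1 one_ne_zero
  have htμ : ∀ (g : D) x y, t • P x = P y → t • P (μ g * x) = P ((μ g)⁻¹ * y) := by
    intro g x y hxy
    have hmu : μ g⁻¹ = (μ g)⁻¹ := eq_inv_of_mul_eq_one_left (by rw [← map_mul, inv_mul_cancel, map_one])
    rw [← hDP g x, ← hmu, ← hDP g⁻¹ y, ← hxy, Subgroup.coe_inv, ← hinv g, ← mul_smul t (g : G) (P x),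
      ← mul_smul (t * (g : G) * t) t (P x), mul_assoc (t * (g : G)) t t, htt, mul_one]
  have htsq : ∀ x, x ≠ 0 → IsSquare x → t • P x = P (c / x) := by
    intro x hx hsq
    obtain ⟨g, rfl⟩ := (hμsq x hx).1 hsq
    have h1 := htμ g 1 c hc
    rw [mul_one] at h1
    rw [h1, inv_mul_eq_div]
  have hcns : ¬ IsSquare c := by
    rintro ⟨r, hr⟩
    have hr0 : r ≠ 0 := fun h0 => hc0 (by rw [hr, h0, zero_mul])
    have key : ∀ s, s * s = c → IsSquare s → False := fun s hs hsq => by
      have hs0 : s ≠ 0 := fun h0 => hc0 (by rw [← hs, h0, zero_mul])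
      refine htfix (P s) ?_
      rw [htsq s hs0 hsq, ← hs, mul_div_assoc, div_self hs0, mul_one]
    by_cases hrs : IsSquare r
    · exact key r hr.symm hrs
    · refine key (-r) (by rw [hr]; ring) ?_
      by_contra hns
      refine hneg1 ?_
      have h1 := (FiniteField.pow_dichotomy hchar hr0).resolve_left
        (fun h1 => hrs ((FiniteField.isSquare_iff hchar hr0).2 h1))
      have h2 := (FiniteField.pow_dichotomy hchar (neg_ne_zero.2 hr0)).resolve_left
        (fun h2 => hns ((FiniteField.isSquare_iff hchar (neg_ne_zero.2 hr0)).2 h2))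
      rw [FiniteField.isSquare_iff hchar (neg_ne_zero.2 one_ne_zero)]
      rw [neg_pow, h1] at h2
      linear_combination -h2
  have htP : ∀ x, x ≠ 0 → t • P x = P (c / x) := by
    intro x hx
    by_cases hsq : IsSquare x
    · exact htsq x hx hsq
    · have hsq' : IsSquare (c / x) := by
        rw [FiniteField.isSquare_iff hchar (div_ne_zero hc0 hx), div_pow,
          (FiniteField.pow_dichotomy hchar hc0).resolve_left
            (fun h1 => hcns ((FiniteField.isSquare_iff hchar hc0).2 h1)),
          (FiniteField.pow_dichotomy hchar hx).resolve_left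
            (fun h1 => hsq ((FiniteField.isSquare_iff hchar hx).2 h1)), div_self (neg_ne_zero.2 one_ne_zero)]
      have h1 := htsq _ (div_ne_zero hc0 hx) hsq'
      rw [div_div_cancel₀ hc0] at h1
      rw [← h1, smul_smul, htt, one_smul]
  have hcneg : IsSquare (-c) := by
    rw [FiniteField.isSquare_iff hchar (neg_ne_zero.2 hc0), neg_pow,
      (FiniteField.pow_dichotomy hchar hc0).resolve_left
        (fun h1 => hcns ((FiniteField.isSquare_iff hchar hc0).2 h1)),
      (FiniteField.pow_dichotomy hchar (neg_ne_zero.2 (one_ne_zero (α := F)))).resolve_left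
        (fun h1 => hneg1 ((FiniteField.isSquare_iff hchar (neg_ne_zero.2 one_ne_zero)).2 h1))]
    ring
  refine MobiusRecognition.psl_of_coords (by omega) a P hPa hPinj hPsurj π (fun x => hUa (hπU x)) hπP
    (fun g hga hgb => ?_) t (by rw [hP0, hta]) (by rw [hP0, htb]) c hc0 hcneg htP ?_
  · rw [hP0] at hgb
    let g' : D := ⟨g, hga, hgb⟩
    obtain ⟨r, hr⟩ := (hμsq (μ g') (hμ0 g')).2 ⟨g', rfl⟩
    exact ⟨r, fun h0 => hμ0 g' (by rw [hr, h0, zero_mul]), fun y => by rw [← hr]; exact hDP g' y⟩
  · rw [Nat.card_eq_fintype_card, card_group C, hq, hhe, Nat.add_sub_cancel]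
    ring

end Cfsg.Agent.Lie.ZassenhausHalfOdd
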