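import Cfsg.Agent.Lib.Lie.Cert

/-!
The checks on a certificate imply the facts about the datum.
-/

set_option autoImplicit false

namespace Cfsg.Agent.Lie

open Cfsg.Lie

theorem array_getD_eq {α : Type*} (A : Array α) (i : ℕ) (d : α) (h : i < A.toList.length) :
    A.getD i d = A.toList[i] := by
  simp only [Array.getD]
  rw [dif_pos (by simpa using h)]
  simp

namespace Cert

variable {c : Cert} {D : ChevalleyDatum}

theorem fitItem_iff {e : ℕ × ℤ} : fitItem e = true ↔ e.1 < 256 ∧ -14 ≤ e.2 ∧ e.2 ≤ 14 := by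
  simp [fitItem, and_assoc]

theorem encItem_bounds {e : ℕ × ℤ} (h : fitItem e = true) :
    0 < encItem e ∧ encItem e < 8192 ∧ encItem e % 256 = e.1 ∧
      ((encItem e / 256 : ℕ) : ℤ) - 15 = e.2 := by
  rw [fitItem_iff] at h
  have : encItem e = e.1 + 256 * (e.2 + 15).toNat := rfl
  rw [this]
  refine ⟨?_, ?_, ?_, ?_⟩ <;> omega

theorem encRow_cons (a : ℕ × ℤ) (L : List (ℕ × ℤ)) :
    encRow (a :: L) = encItem a + 8192 * encRow L := rfl

theorem encRow_lt {L : List (ℕ × ℤ)} (h : ∀ a ∈ L, fitItem a = true) {k : ℕ}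
    (hk : L.length ≤ k) : encRow L < 2 ^ (13 * k) := by
  induction L generalizing k with
  | nil => exact Nat.two_pow_pos _
  | cons a L ih =>
    cases k with
    | zero => simp at hk
    | succ k =>
      have := ih (fun x hx => h x (List.mem_cons_of_mem _ hx)) (k := k) (by simpa using hk)
      have h2 := (encItem_bounds (h a (by simp))).2.1
      rw [encRow_cons, Nat.mul_succ, pow_add]
      calc encItem a + 8192 * encRow L < 8192 * (encRow L + 1) := by rw [mul_add]; omega
        _ ≤ 8192 * 2 ^ (13 * k) := Nat.mul_le_mul_left _ this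
        _ = 2 ^ (13 * k) * 2 ^ 13 := by rw [Nat.mul_comm]; norm_num

theorem decRow_succ (f N : ℕ) : decRow (f + 1) N =
    cond (Nat.beq N 0) [] ((N % 8192 % 256, ((N % 8192 / 256 : ℕ) : ℤ) - 15) :: decRow f (N / 8192)) :=
  rfl

theorem decRow_encRow {L : List (ℕ × ℤ)} {f : ℕ} (h : ∀ a ∈ L, fitItem a = true)
    (hk : L.length ≤ f) : decRow f (encRow L) = L := by
  induction f generalizing L with
  | zero =>
    have : L = [] := by simpa using hk
    subst this
    rfl
  | succ f ih =>
    cases L with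
    | nil => rfl
    | cons a L =>
      obtain ⟨h0, h1, h2, h3⟩ := encItem_bounds (h a (by simp))
      rw [decRow_succ, encRow_cons]
      have hne : Nat.beq (encItem a + 8192 * encRow L) 0 = false := by
        rw [nbeq, decide_eq_false_iff_not]; omega
      have hm : (encItem a + 8192 * encRow L) % 8192 = encItem a := by omega
      have hd : (encItem a + 8192 * encRow L) / 8192 = encRow L := by omega
      rw [hne, cond_false, hm, hd, h2, h3,
        ih (fun x hx => h x (List.mem_cons_of_mem _ hx)) (by simpa using hk)]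

theorem sumTo_eq (k : ℕ) (f : ℕ → ℤ) : sumTo k f = ∑ j ∈ Finset.range k, f j := by
  induction k with
  | zero => rfl
  | succ k ih => rw [Finset.sum_range_succ, ← ih]; rfl

theorem mapRow_eq (i : ℕ) (es : Bool) (v : ℤ) (hv : v = cond es (-1) 1) (σ : Bool) (t : ℤ)
    (ht : t = cond σ (-1) 1) : ∀ (L : List (ℕ × ℤ)) (k : ℕ),
    c.mapRow i es L σ =
      (L.zipIdx k).map fun q =>
        (c.cR i q.1.1, q.1.2 * (v ^ (q.2 + 1 - k) * t * c.eta i q.1.1))
  | [], k => rfl
  | a :: L, k => by
    rw [List.zipIdx_cons, List.map_cons]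
    show (c.cR i a.1, cond (xor (xor σ es) (c.cN i a.1)) (-a.2) a.2) :: c.mapRow i es L (xor σ es) = _
    rw [mapRow_eq i es v hv (xor σ es) (t * v) (by subst hv ht; cases σ <;> cases es <;> rfl) L (k + 1)]
    simp only [List.cons.injEq, Prod.mk.injEq, true_and]
    refine ⟨?_, List.map_congr_left fun q hq => ?_⟩
    · subst hv ht
      simp only [eta, show k + 1 - k = 1 by omega, pow_one]
      cases σ <;> cases es <;> cases c.cN i a.1 <;> simp
    · have hk : k + 1 ≤ q.2 := List.le_snd_of_mem_zipIdx hq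
      rw [show q.2 + 1 - k = (q.2 + 1 - (k + 1)) + 1 by omega, pow_succ]
      simp only [Prod.mk.injEq, true_and]
      ring

theorem wtRow_iff (s : ℕ) : ∀ (L : List (ℕ × ℤ)) (acc : ℤ) (k : ℕ), c.wtRow s L acc = true →
    ∀ q ∈ L.zipIdx k, c.cP q.1.1 = acc + (q.2 + 1 - k : ℕ) * c.cP s
  | [], _, _, _, q, hq => by simp at hq
  | a :: L, acc, k, h, q, hq => by
    change (decide (c.cP a.1 = acc + c.cP s) && c.wtRow s L (acc + c.cP s)) = true at h
    simp only [Bool.and_eq_true, decide_eq_true_eq] at h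
    rw [List.zipIdx_cons, List.mem_cons] at hq
    rcases hq with rfl | hq
    · simp [h.1, show k + 1 - k = 1 by omega]
    · have hk : k + 1 ≤ q.2 := List.le_snd_of_mem_zipIdx hq
      rw [wtRow_iff s L _ (k + 1) h.2 q hq, show q.2 + 1 - k = (q.2 + 1 - (k + 1)) + 1 by omega]
      push_cast
      ring

/-- The facts provided by a checked certificate. -/
theorem facts_of_checks (h1 : c.okShape D = true) (h2 : c.okChain D = true)
    (h3 : c.okRoots = true) (h4 : ∀ i, i < c.l → c.okRefl i = true)
    (h5 : ∀ i, i < c.l → c.okChainRefl D i = true) (h6 : ∀ i, i < c.l → c.okN D i = true)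
    (h7 : c.okReps D = true) (hshort' : c.maxlen ≤ 7) : Nonempty (Facts D) := by
  simp only [okShape, Bool.and_eq_true, allIdx_iff, Nat.zero_add, Nat.beq_eq, Nat.ble_eq,
    Nat.blt_eq, decide_eq_true_eq, beq_iff_eq, nblt] at h1
  obtain ⟨⟨⟨⟨⟨⟨⟨⟨⟨⟨⟨⟨⟨hn, hl⟩, h512⟩, hl0⟩, hn256⟩, heven⟩, hnegl⟩, hneg⟩, hsimpl⟩, hsimp⟩,
    hcarl⟩, hcar⟩, hcol⟩, hco⟩ := h1
  simp only [okChain, Bool.and_eq_true, allIdx_iff, Nat.zero_add, Nat.beq_eq, Nat.blt_eq,
    Nat.ble_eq, allMem_iff, Bool.not_eq_true', nbeq, decide_eq_true_eq,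
    decide_eq_false_iff_not] at h2
  obtain ⟨hchl, hch⟩ := h2
  have eneg : ∀ s, s < c.n → D.neg s = c.negC s := fun s hs => by
    rw [ChevalleyDatum.neg, array_getD_eq _ _ _ (hnegl ▸ hs)]
    exact hneg s (hnegl ▸ hs)
  have negC_eq : ∀ s, c.negC s = c.n - 1 - s := fun s => rfl
  have negC_lt : ∀ s, s < c.n → c.negC s < c.n := fun s hs => by rw [negC_eq]; omega
  have esimp : ∀ i, i < c.l → D.simple i = c.cS i ∧ c.cS i < c.n ∧ c.n / 2 ≤ c.cS i := fun i hi => by
    have := hsimp i (hsimpl ▸ hi)
    rw [ChevalleyDatum.simple, array_getD_eq _ _ _ (hsimpl ▸ hi), ← this.1.1]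
    exact ⟨rfl, this.1.2, this.2⟩
  have ecar : ∀ j, j < c.l → ∀ s, s < c.n → D.cartan j s = c.cA j s ∧ |c.cA j s| ≤ 15 := by
    intro j hj s hs
    obtain ⟨hlen, hrow⟩ := hcar j (hcarl ▸ hj)
    have := hrow s (hlen ▸ hs)
    rw [ChevalleyDatum.cartan, array_getD_eq D.cartanSR _ _ (hcarl ▸ hj), array_getD_eq (D.cartanSR.toList[j]'(hcarl ▸ hj)) _ _ (hlen ▸ hs)]
    exact ⟨this.1.1, abs_le.2 ⟨this.1.1 ▸ this.1.2, this.1.1 ▸ this.2⟩⟩
  have eco : ∀ s, s < c.n → ∀ j, j < c.l → co D s j = c.cC s j := by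
    intro s hs j hj
    obtain ⟨⟨⟨hlen, hrow⟩, -⟩, -⟩ := hco s (hcol ▸ hs)
    rw [co, array_getD_eq D.coroot _ _ (hcol ▸ hs), array_getD_eq (D.coroot.toList[s]'(hcol ▸ hs)) _ _ (hlen ▸ hj)]
    exact hrow j (hlen ▸ hj)
  have epair : ∀ r, r < c.n → ∀ s, s < c.n → D.pairing r s = c.cpair r s := by
    intro r hr s hs
    rw [pairing_eq, cpair, sumTo_eq, hl]
    refine Finset.sum_congr rfl fun j hj => ?_
    rw [eco r hr j (Finset.mem_range.1 hj), (ecar j (Finset.mem_range.1 hj) s hs).1]
  have epsi : ∀ s, s < c.n → psiOf D c.wtF s = c.cpsi s := by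
    intro s hs
    rw [psiOf, cpsi, sumTo_eq, hl]
    refine Finset.sum_congr rfl fun j hj => ?_
    rw [(ecar j (Finset.mem_range.1 hj) s hs).1]
  have epos : ∀ s, s < c.n →
      ((∀ x ∈ (D.coroot.getD s #[]).toList, 0 ≤ x) ↔ c.n / 2 ≤ s) ∧
      ((∀ x ∈ (D.coroot.getD s #[]).toList, x ≤ 0) ↔ s < c.n / 2) := by
    intro s hs
    obtain ⟨⟨⟨-, -⟩, hp⟩, hm⟩ := hco s (hcol ▸ hs)
    rw [array_getD_eq _ _ _ (hcol ▸ hs)]
    rw [Bool.eq_iff_iff] at hp hm
    simp only [allMem_iff, decide_eq_true_eq, Nat.ble_eq] at hp hm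
    exact ⟨hp, hm⟩
  -- the chain table
  have hrowfind : ∀ s, ∀ hs : s < c.n, ∀ v,
      D.chainEntry s v = (((D.chain.toList[s]'(hchl ▸ hs)).toList.find? fun e => e.1 = v).map
        fun e => e.2.toList).getD [] := by
    intro s hs v
    rw [ChevalleyDatum.chainEntry, array_getD_eq _ _ _ (hchl ▸ hs)]
    cases ((D.chain.toList[s]'(hchl ▸ hs)).toList.find? fun e => e.1 = v) <;> rfl
  have hrowmem : ∀ s, s < c.n → ∀ v, D.chainEntry s v ≠ [] → ∃ e : ℕ × Array (ℕ × ℤ), e.1 = v ∧
      D.chainEntry s v = e.2.toList ∧ e.1 < c.n ∧ e.1 ≠ s ∧ e.1 ≠ c.negC s ∧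
      e.2.toList.length ≤ c.maxlen ∧
      (∀ a ∈ e.2.toList, fitItem a = true ∧ a.1 < c.n) ∧ c.wtRow s e.2.toList (c.cP e.1) = true ∧
      (e.2.toList.length ≤ 2 ∨ (D.chainM (e.2.toList.headD (0, 0)).1 s 2 % 3 = 0 ∧
        D.chainM (e.2.toList.headD (0, 0)).1 e.1 2 % 3 = 0)) := by
    intro s hs v hne
    rw [hrowfind s hs v] at hne ⊢
    generalize hf : ((D.chain.toList[s]'(hchl ▸ hs)).toList.find? fun e => e.1 = v) = o at hne ⊢
    cases o with
    | none => simp at hne
    | some e =>
      have := (hch s (hchl ▸ hs)).2 e (List.mem_of_find?_eq_some hf)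
      obtain ⟨⟨⟨⟨⟨⟨ha, hb⟩, hc⟩, hd⟩, hg⟩, hw⟩, h3'⟩ := this
      exact ⟨e, by simpa using List.find?_some hf, rfl, ha, hb, hc, hd, hg, hw, by
        simpa [Nat.ble_eq] using h3'⟩
  have ecE : ∀ s, s < c.n → ∀ v, c.cE s v = D.chainEntry s v ∧
      dig (13 * c.maxlen) (nth 0 c.K s) v = encRow (D.chainEntry s v) := by
    intro s hs v
    obtain ⟨⟨hinc, hK⟩, hmem⟩ := hch s (hchl ▸ hs)
    have hd := dig_packAt (w := 13 * c.maxlen) (f := fun e : ℕ × Array (ℕ × ℤ) => encRow e.2.toList)
      v hinc fun e he => by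
        have := hmem e he
        exact encRow_lt (fun a ha => (this.1.1.2 a ha).1) this.1.1.1.2
    rw [hK] at hd
    have hdig : dig (13 * c.maxlen) (nth 0 c.K s) v = encRow (D.chainEntry s v) := by
      rw [hd, hrowfind s hs v]
      cases ((D.chain.toList[s]'(hchl ▸ hs)).toList.find? fun e => e.1 = v) <;> rfl
    refine ⟨?_, hdig⟩
    rw [cE, hdig]
    by_cases hne : D.chainEntry s v = []
    · rw [hne]; exact decRow_encRow (by simp) (by simp)
    · obtain ⟨e, -, he, -, -, -, hlen, hfit, -, -⟩ := hrowmem s hs v hne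
      rw [he]
      exact decRow_encRow (fun a ha => (hfit a ha).1) hlen
  have echain_lt : ∀ s, s < c.n → ∀ v, ∀ a ∈ D.chainEntry s v, a.1 < c.n := by
    intro s hs v a ha
    obtain ⟨e, -, he, -, -, -, -, hfit, -, -⟩ := hrowmem s hs v (List.ne_nil_of_mem ha)
    exact (hfit a (he ▸ ha)).2
  have eR : ∀ i, i < c.l → ∀ s, s < c.n → D.reflectRoot i s = c.cR i s := by
    intro i hi s hs
    obtain ⟨he, hlt, -⟩ := esimp i hi
    have := h4 i hi
    simp only [okRefl, Bool.and_eq_true, allRange_iff, Nat.beq_eq] at this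
    have hfast := (this.2 s hs).1.1.1.1.1.1.1
    rw [← hfast, reflFast, ChevalleyDatum.reflectRoot]
    simp only [he, eneg _ hlt, (ecar i hi s hs).1, nbeq, Bool.cond_decide]
    by_cases a1 : s = c.cS i
    · rw [if_pos a1, if_pos a1]
    rw [if_neg a1, if_neg a1]
    by_cases a2 : s = c.negC (c.cS i)
    · rw [if_pos a2, if_pos a2]
    rw [if_neg a2, if_neg a2, ChevalleyDatum.chainRoot, ChevalleyDatum.chainRoot,
      (ecE _ (negC_lt _ hlt) s).1, (ecE _ hlt s).1]
  have hrefl : ∀ i, i < c.l → ∀ s, s < c.n → c.cR i s < c.n ∧ c.cR i (c.cR i s) = s ∧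
      c.cR i (c.negC s) = c.negC (c.cR i s) ∧
      (c.n / 2 ≤ s → s ≠ c.cS i → c.n / 2 ≤ c.cR i s) ∧
      (∀ j, j < c.l → c.cA j (c.cR i s) = c.cA j s - c.cA i s * c.cA j (c.cS i) ∧
        c.cC (c.cR i s) j = c.cC s j - if j = i then c.cpair s (c.cS i) else 0) ∧
      c.cN i (c.negC s) = c.cN i s ∧
      (xor (c.cN i s) (c.cN i (c.cR i s)) = decide ((c.cA i s).natAbs % 2 = 1)) := by
    intro i hi s hs
    have := h4 i hi
    simp only [okRefl, Bool.and_eq_true, allRange_iff, Nat.beq_eq, Bool.or_eq_true, Nat.blt_eq,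
      Nat.ble_eq, decide_eq_true_eq, beq_iff_eq, Bool.cond_decide, nbeq] at this
    obtain ⟨⟨⟨⟨⟨⟨⟨-, a1⟩, a2⟩, a3⟩, a4⟩, a5⟩, a6⟩, a7⟩ := this.2 s hs
    refine ⟨a1, a2, a3, fun hp hne => ?_, a5, a6, a7⟩
    rcases a4 with (h | h) | h
    · omega
    · exact absurd h hne
    · exact h
  have hreflI : ∀ i, i < c.l → c.cA i (c.cS i) = 2 ∧
      (∀ j, j < c.l → c.cC (c.cS i) j = if j = i then 1 else 0) ∧ c.cN i (c.cS i) = true := by
    intro i hi
    have := h4 i hi
    simp only [okRefl, Bool.and_eq_true, allRange_iff, decide_eq_true_eq, nbeq,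
      Bool.cond_decide] at this
    exact ⟨this.1.1.1, this.1.1.2, this.1.2⟩
  simp only [okRoots, allRange_iff, Bool.and_eq_true, decide_eq_true_eq, Bool.or_eq_true,
    Bool.not_eq_true', nblt, decide_eq_false_iff_not] at h3
  simp only [okReps, allRange_iff, Bool.or_eq_true, Bool.and_eq_true, beq_iff_eq, Nat.beq_eq,
    Nat.ble_eq, Bool.eq_false_iff, Ne, Bool.not_eq_true', nbeq, decide_eq_true_eq,
    decide_eq_false_iff_not] at h7
  refine ⟨{
    wt := c.wtF
    eta := c.eta
    size_le := by
      have : c.n + c.l ≤ 512 := h512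
      omega
    even := by
      have : 2 * (c.n / 2) = c.n := heven
      rw [hn]; exact this
    neg_eq := fun s hs => by rw [hn] at hs ⊢; rw [eneg s hs, negC_eq]
    pos_iff := fun s hs => by rw [hn] at hs ⊢; exact (epos s hs).1
    nonpos_iff := fun s hs => by rw [hn] at hs ⊢; exact (epos s hs).2
    psi_step := fun s hs => by
      rw [hn] at hs
      rw [epsi s (by omega), epsi (s + 1) hs]
      exact (h3 s (by omega)).1.2.resolve_left (fun h => h hs)
    simple_lt := fun i hi => by rw [hl] at hi; rw [hn, (esimp i hi).1]; exact (esimp i hi).2.1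
    simple_ge := fun i hi => by rw [hl] at hi; rw [hn, (esimp i hi).1]; exact (esimp i hi).2.2
    cartan_simple := fun i hi => by
      rw [hl] at hi
      obtain ⟨he, hlt, -⟩ := esimp i hi
      rw [he, (ecar i hi _ hlt).1]
      exact (hreflI i hi).1
    co_simple := fun i hi j hj => by
      rw [hl] at hi hj
      obtain ⟨he, hlt, -⟩ := esimp i hi
      rw [he, eco _ hlt j hj]
      exact (hreflI i hi).2.1 j hj
    cartan_neg := fun j hj s hs => by
      rw [hn] at hs; rw [hl] at hj
      rw [eneg s hs, (ecar j hj _ (negC_lt s hs)).1, (ecar j hj s hs).1]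
      exact ((h3 s hs).2 j hj).1
    co_neg := fun s hs j hj => by
      rw [hn] at hs; rw [hl] at hj
      rw [eneg s hs, eco _ (negC_lt s hs) j hj, eco s hs j hj]
      exact ((h3 s hs).2 j hj).2
    pairing_self := fun s hs => by
      rw [hn] at hs
      rw [epair s hs s hs]
      exact (h3 s hs).1.1.1.2
    co_primitive := fun s hs => by
      rw [hn] at hs
      refine ⟨fun j => (nth [] c.bezout s).getD j 0, ?_⟩
      rw [hl, Finset.sum_congr rfl fun j hj => by rw [eco s hs j (Finset.mem_range.1 hj)],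
        ← sumTo_eq]
      exact (h3 s hs).1.1.2
    refl_lt := fun i hi s hs => by
      rw [hn] at hs ⊢; rw [hl] at hi; rw [eR i hi s hs]; exact (hrefl i hi s hs).1
    refl_refl := fun i hi s hs => by
      rw [hn] at hs; rw [hl] at hi
      rw [eR i hi s hs, eR i hi _ (hrefl i hi s hs).1]
      exact (hrefl i hi s hs).2.1
    refl_neg := fun i hi s hs => by
      rw [hn] at hs; rw [hl] at hi
      rw [eneg s hs, eR i hi _ (negC_lt s hs), eR i hi s hs, eneg _ (hrefl i hi s hs).1]
      exact (hrefl i hi s hs).2.2.1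
    refl_pos := fun i hi s hs hp hne => by
      rw [hn] at hs hp ⊢; rw [hl] at hi
      rw [(esimp i hi).1] at hne
      rw [eR i hi s hs]
      exact (hrefl i hi s hs).2.2.2.1 hp hne
    cartan_refl := fun i hi s hs j hj => by
      rw [hn] at hs; rw [hl] at hi hj
      obtain ⟨he, hlt, -⟩ := esimp i hi
      rw [eR i hi s hs, (ecar j hj _ (hrefl i hi s hs).1).1, (ecar j hj s hs).1, (ecar i hi s hs).1,
        he, (ecar j hj _ hlt).1]
      exact ((hrefl i hi s hs).2.2.2.2.1 j hj).1
    co_refl := fun i hi s hs j hj => by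
      rw [hn] at hs; rw [hl] at hi hj
      obtain ⟨he, hlt, -⟩ := esimp i hi
      rw [eR i hi s hs, eco _ (hrefl i hi s hs).1 j hj, eco s hs j hj, he, epair s hs _ hlt]
      exact ((hrefl i hi s hs).2.2.2.2.1 j hj).2
    eta_sign := fun i _ s _ => by
      unfold eta
      cases c.cN i s <;> simp
    eta_neg := fun i hi s hs => by
      rw [hn] at hs; rw [hl] at hi
      rw [eneg s hs, eta, eta, (hrefl i hi s hs).2.2.2.2.2.1]
    eta_simple := fun i hi => by
      rw [hl] at hi
      rw [(esimp i hi).1, eta, (hreflI i hi).2.2]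
      rfl
    eta_refl := fun i hi s hs => by
      rw [hn] at hs; rw [hl] at hi
      rw [eR i hi s hs, (ecar i hi s hs).1, eta, eta]
      have h := (hrefl i hi s hs).2.2.2.2.2.2
      rcases Nat.mod_two_eq_zero_or_one (c.cA i s).natAbs with he | he
      · rw [Even.neg_one_pow (Nat.even_iff.2 he)]
        cases hx : c.cN i s <;> cases hy : c.cN i (c.cR i s) <;> simp_all
      · rw [Odd.neg_one_pow (Nat.odd_iff.2 he)]
        cases hx : c.cN i s <;> cases hy : c.cN i (c.cR i s) <;> simp_all
    chain_ne := fun s hs v hne => by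
      rw [hn] at hs ⊢
      obtain ⟨e, rfl, -, ha, hb, hc, -⟩ := hrowmem s hs v hne
      exact ⟨ha, hb, eneg s hs ▸ hc⟩
    chain_lt := fun s hs v a ha => by rw [hn] at hs ⊢; exact echain_lt s hs v a ha
    chain_coeff := fun s hs v u => by
      rw [hn] at hs
      rw [ChevalleyDatum.chainCoeff, array_getD_eq _ _ _ (hchl ▸ hs), hrowfind s hs v]
      have hinc := (hch s (hchl ▸ hs)).1.1
      generalize (D.chain.toList[s]'(hchl ▸ hs)).toList = L at hinc
      clear hrowfind hrowmem
      revert hinc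
      suffices h : ∀ lo, incFrom Prod.fst L lo = true → _ from h 0
      intro lo hinc
      induction L generalizing lo with
      | nil => simp
      | cons e L ih =>
        rw [incFrom_cons] at hinc
        by_cases he : e.1 = v
        · have hnone : L.filter (fun x => decide (x.1 = v)) = [] := by
            rw [List.filter_eq_nil_iff]
            intro x hx
            have := incFrom_le hinc.2 x hx
            simp only [decide_eq_true_eq]
            omega
          simp [he, hnone]
        · simp only [List.filter_cons_of_neg, he, decide_false, Bool.false_eq_true,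
            not_false_eq_true, List.find?_cons_of_neg]
          exact ih _ hinc.2
    chain_refl := fun i hi s hs v hv => by
      rw [hn] at hs hv; rw [hl] at hi
      rw [eR i hi s hs, eR i hi v hv]
      have key : ∀ s, s < c.n → ∀ v, D.chainEntry s v ≠ [] →
          D.chainEntry (c.cR i s) (c.cR i v) =
            c.mapRow i (c.cN i s) (D.chainEntry s v) (c.cN i v) := by
        intro s hs v hne
        obtain ⟨e, rfl, he, hev, -, -, hlen, hfit, -, -⟩ := hrowmem s hs v hne
        have hmem : e.1 ∈ ((D.chain.toList[s]'(hchl ▸ hs)).toList).map Prod.fst := by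
          rw [hrowfind s hs e.1] at hne
          generalize hf : ((D.chain.toList[s]'(hchl ▸ hs)).toList.find? fun x => x.1 = e.1) = o at hne
          cases o with
          | none => simp at hne
          | some x =>
            exact List.mem_map.2 ⟨x, List.mem_of_find?_eq_some hf, by simpa using List.find?_some hf⟩
        obtain ⟨x, hx, hxv⟩ := List.mem_map.1 hmem
        have hxe : x.2.toList = e.2.toList := by
          have hinc := (hch s (hchl ▸ hs)).1.1
          rw [← he, hrowfind s hs e.1, ← hxv]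
          generalize (D.chain.toList[s]'(hchl ▸ hs)).toList = L at hinc hx
          generalize 0 = lo at hinc
          clear * - hinc hx
          induction L generalizing lo with
          | nil => simp at hx
          | cons y L ih =>
            rw [incFrom_cons] at hinc
            rcases List.mem_cons.1 hx with rfl | hx
            · simp
            · have := incFrom_le hinc.2 x hx
              rw [List.find?_cons_of_neg (by simp; omega)]
              exact ih hx _ hinc.2
        have hok := h5 i hi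
        simp only [okChainRefl, allIdx_iff, allMem_iff, Nat.zero_add, Nat.beq_eq] at hok
        have hd := hok s (hchl ▸ hs) x hx
        rw [hxv, hxe, ← he] at hd
        rw [← (ecE _ (hrefl i hi s hs).1 (c.cR i e.1)).1, cE, hd]
        apply decRow_encRow
        · intro a ha
          rw [mapRow_eq i _ _ rfl _ _ rfl _ 0] at ha
          obtain ⟨q, hq, rfl⟩ := List.mem_map.1 ha
          have hqm : q.1 ∈ e.2.toList := (List.fst_mem_of_mem_zipIdx (he ▸ hq))
          obtain ⟨hfa, hlt⟩ := hfit q.1 (he ▸ hqm)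
          rw [fitItem_iff] at hfa ⊢
          refine ⟨lt_of_lt_of_le (hrefl i hi _ hlt).1 hn256, ?_⟩
          have hb : ∀ b : Bool, ((cond b (-1) 1 : ℤ) = 1 ∨ (cond b (-1) 1 : ℤ) = -1) := by
            intro b; cases b <;> simp
          have hsgn : ((cond (c.cN i s) (-1) 1 : ℤ) ^ (q.2 + 1 - 0) * cond (c.cN i e.1) (-1) 1 *
              c.eta i q.1.1 = 1) ∨
              ((cond (c.cN i s) (-1) 1 : ℤ) ^ (q.2 + 1 - 0) * cond (c.cN i e.1) (-1) 1 *
              c.eta i q.1.1 = -1) := by
            rcases hb (c.cN i s) with a | a <;> rcases hb (c.cN i e.1) with b | b <;>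
              rcases hb (c.cN i q.1.1) with d | d <;>
              rcases neg_one_pow_eq_or ℤ (q.2 + 1 - 0) with e' | e' <;>
              simp only [eta, a, b, d, e', one_pow] <;> norm_num
          rcases hsgn with hh | hh <;> simp only [hh] <;> omega
        · rw [mapRow_eq i _ _ rfl _ _ rfl _ 0]
          simpa [← he] using hlen
      by_cases hne : D.chainEntry s v = []
      · rw [hne]
        by_contra hne'
        obtain ⟨hs', hs2, -⟩ := hrefl i hi s hs
        have hk := key _ hs' _ hne'
        rw [hs2, (hrefl i hi v hv).2.1, hne] at hk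
        have : c.mapRow i (c.cN i (c.cR i s)) (D.chainEntry (c.cR i s) (c.cR i v))
            (c.cN i (c.cR i v)) = [] := hk.symm
        rw [mapRow_eq i _ _ rfl _ _ rfl _ 0] at this
        exact hne' (by simpa using this)
      · rw [key s hs v hne, mapRow_eq i _ _ rfl _ _ rfl _ 0]
        refine List.map_congr_left fun q hq => ?_
        rw [eR i hi _ (echain_lt s hs v _ (List.fst_mem_of_mem_zipIdx hq))]
        simp [eta]
    chain_cartan := fun s hs v q hq j hj => by
      rw [hn] at hs; rw [hl] at hj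
      obtain ⟨e, rfl, he, hev, -, -, -, hfit, hw, -⟩ :=
        hrowmem s hs v (List.ne_nil_of_mem (List.fst_mem_of_mem_zipIdx hq))
      rw [he] at hq
      have hu : q.1.1 < c.n := (hfit q.1 (List.fst_mem_of_mem_zipIdx hq)).2
      have hlin := wtRow_iff s _ _ 0 hw q hq
      rw [Nat.sub_zero, (h3 _ hu).1.1.1.1, (h3 _ hev).1.1.1.1, (h3 _ hs).1.1.1.1] at hlin
      have hadd : ∀ (k : ℤ) (f g : ℕ → ℤ) (L : List ℕ),
          packZ 256 (L.map f) + k * packZ 256 (L.map g) = packZ 256 (L.map fun j => f j + k * g j) := by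
        intro k f g L
        induction L with
        | nil => simp [packZ]
        | cons a L ih => simp only [List.map_cons, packZ]; rw [← ih]; ring
      rw [hadd] at hlin
      have hk : q.2 + 1 ≤ c.maxlen := by
        have := List.snd_lt_of_mem_zipIdx hq
        obtain ⟨e', -, he', -, -, -, hl', -⟩ := hrowmem s hs e.1 (he ▸ (List.ne_nil_of_mem
          (List.fst_mem_of_mem_zipIdx hq)))
        rw [← he', he] at hl'
        simp at this
        simp at hl'
        omega
      by_cases hsmall : q.2 + 1 ≤ 7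
      · have hb : ∀ j, j < c.l → |c.cA j e.1 + ((q.2 + 1 : ℕ) : ℤ) * c.cA j s| ≤ 120 := by
          intro j hj
          have a1 := abs_le.1 (ecar j hj _ hev).2
          have a2 := abs_le.1 (ecar j hj _ hs).2
          have a3 : ((q.2 + 1 : ℕ) : ℤ) ≤ 7 := by exact_mod_cast hsmall
          have a4 : (0 : ℤ) ≤ ((q.2 + 1 : ℕ) : ℤ) := Int.natCast_nonneg _
          rw [abs_le]
          constructor <;> nlinarith
        have hlists := packZ_inj (by norm_num : (0:ℤ) < 256) (by simp) ?_ ?_ hlin
        · have := List.map_inj_left.1 hlists j (List.mem_range.2 hj)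
          rw [(ecar j hj _ hu).1, (ecar j hj _ hev).1, (ecar j hj _ hs).1]
          exact this
        · intro a ha
          obtain ⟨j, hj, rfl⟩ := List.mem_map.1 ha
          have := (ecar j (List.mem_range.1 hj) _ hu).2
          omega
        · intro a ha
          obtain ⟨j, hj, rfl⟩ := List.mem_map.1 ha
          have := hb j (List.mem_range.1 hj)
          omega
      · exact absurd (le_trans hk hshort') hsmall
    chain_div := fun s hs v k hk hlen => by
      rw [hn] at hs
      obtain ⟨e, rfl, he, -, -, -, -, -, -, h3'⟩ :=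
        hrowmem s hs v (List.ne_nil_of_length_pos (by omega))
      rw [ChevalleyDatum.chainRoot, he] at hk
      rw [he] at hlen
      have hk' : (e.2.toList.headD (0, 0)).1 = k := by
        cases hl' : e.2.toList with
        | nil => simp [hl'] at hk
        | cons a L => simpa [hl'] using hk
      rcases h3' with h | h
      · omega
      · exact ⟨Int.dvd_of_emod_eq_zero (hk' ▸ h.1), Int.dvd_of_emod_eq_zero (hk' ▸ h.2)⟩
    n_check := fun i hi => by rw [hl] at hi; exact h6 i hi
    add_reps := fun r hr hdom => by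
      rw [hn] at hr
      refine ((h7 r hr).resolve_left fun h => ?_).1
      exact h fun i hi => eR i hi r hr ▸ hdom i (hl.symm ▸ hi)
    comm_reps := fun r hr s hs hsr hsn hdom hstab => by
      rw [hn] at hr hs
      rw [eneg r hr] at hsn
      have hh := ((h7 r hr).resolve_left fun h => h fun i hi => eR i hi r hr ▸ hdom i (hl.symm ▸ hi)).2 s hs
      rcases hh with ((h | h) | h) | h
      · exact absurd h hsr
      · exact absurd h hsn
      · refine absurd (fun i hi => ?_) h
        by_cases hr' : c.cR i r = r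
        · exact Or.inr (eR i hi s hs ▸ hstab i (hl.symm ▸ hi) ((eR i hi r hr).trans hr'))
        · exact Or.inl hr'
      · exact h }⟩

end Cert

end Cfsg.Agent.Lie
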