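import Cfsg.Agent.Lib.Lie.DataB2
import Cfsg.Agent.Lib.Lie.CertSound

/-! The facts about the datum of type B2, checked by the kernel. -/

set_option autoImplicit false
set_option maxRecDepth 100000

namespace Cfsg.Agent.Lie

open Cfsg.Lie

theorem certB2_okShape : certB2.okShape chevB2 = true := by decide +kernel

theorem certB2_okChain : certB2.okChain chevB2 = true := by decide +kernel

theorem certB2_okRoots : certB2.okRoots = true := by decide +kernel

theorem certB2_okReps : certB2.okReps chevB2 = true := by decide +kernel

theorem certB2_okRefl0 : certB2.okRefl 0 = true := by decide +kernel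

theorem certB2_okRefl1 : certB2.okRefl 1 = true := by decide +kernel

theorem certB2_okChainRefl0 : certB2.okChainRefl chevB2 0 = true := by decide +kernel

theorem certB2_okChainRefl1 : certB2.okChainRefl chevB2 1 = true := by decide +kernel

theorem certB2_okN0 : certB2.okN chevB2 0 = true := by decide +kernel

theorem certB2_okN1 : certB2.okN chevB2 1 = true := by decide +kernel

theorem nonempty_factsB2 : Nonempty (Facts chevB2) := by
  refine Cert.facts_of_checks (c := certB2) certB2_okShape certB2_okChain certB2_okRoots ?_ ?_ ?_ certB2_okReps
    (by decide +kernel) <;>
    (intro i hi; have hi' : i < 2 := hi; interval_cases i)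
  · exact certB2_okRefl0
  · exact certB2_okRefl1
  · exact certB2_okChainRefl0
  · exact certB2_okChainRefl1
  · exact certB2_okN0
  · exact certB2_okN1

/-- The facts about the datum of type B2. -/
noncomputable def factsB2 : Facts chevB2 := Classical.choice nonempty_factsB2

end Cfsg.Agent.Lie
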