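import Cfsg.Agent.Lib.Lie.DataD4
import Cfsg.Agent.Lib.Lie.CertSound

/-! The facts about the datum of type D4, checked by the kernel. -/

set_option autoImplicit false
set_option maxRecDepth 100000

namespace Cfsg.Agent.Lie

open Cfsg.Lie

theorem certD4_okShape : certD4.okShape chevD4 = true := by decide +kernel

theorem certD4_okChain : certD4.okChain chevD4 = true := by decide +kernel

theorem certD4_okRoots : certD4.okRoots = true := by decide +kernel

theorem certD4_okReps : certD4.okReps chevD4 = true := by decide +kernel

theorem certD4_okRefl0 : certD4.okRefl 0 = true := by decide +kernel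

theorem certD4_okRefl1 : certD4.okRefl 1 = true := by decide +kernel

theorem certD4_okRefl2 : certD4.okRefl 2 = true := by decide +kernel

theorem certD4_okRefl3 : certD4.okRefl 3 = true := by decide +kernel

theorem certD4_okChainRefl0 : certD4.okChainRefl chevD4 0 = true := by decide +kernel

theorem certD4_okChainRefl1 : certD4.okChainRefl chevD4 1 = true := by decide +kernel

theorem certD4_okChainRefl2 : certD4.okChainRefl chevD4 2 = true := by decide +kernel

theorem certD4_okChainRefl3 : certD4.okChainRefl chevD4 3 = true := by decide +kernel

theorem certD4_okN0 : certD4.okN chevD4 0 = true := by decide +kernel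

theorem certD4_okN1 : certD4.okN chevD4 1 = true := by decide +kernel

theorem certD4_okN2 : certD4.okN chevD4 2 = true := by decide +kernel

theorem certD4_okN3 : certD4.okN chevD4 3 = true := by decide +kernel

theorem nonempty_factsD4 : Nonempty (Facts chevD4) := by
  refine Cert.facts_of_checks (c := certD4) certD4_okShape certD4_okChain certD4_okRoots ?_ ?_ ?_ certD4_okReps
    (by decide +kernel) <;>
    (intro i hi; have hi' : i < 4 := hi; interval_cases i)
  · exact certD4_okRefl0
  · exact certD4_okRefl1
  · exact certD4_okRefl2
  · exact certD4_okRefl3
  · exact certD4_okChainRefl0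
  · exact certD4_okChainRefl1
  · exact certD4_okChainRefl2
  · exact certD4_okChainRefl3
  · exact certD4_okN0
  · exact certD4_okN1
  · exact certD4_okN2
  · exact certD4_okN3

/-- The facts about the datum of type D4. -/
noncomputable def factsD4 : Facts chevD4 := Classical.choice nonempty_factsD4

end Cfsg.Agent.Lie
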