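import Cfsg.Agent.Lib.Lie.DataE6
import Cfsg.Agent.Lib.Lie.CertSound

/-! The facts about the datum of type E6, checked by the kernel. -/

set_option autoImplicit false
set_option maxRecDepth 100000

namespace Cfsg.Agent.Lie

open Cfsg.Lie

theorem certE6_okShape : certE6.okShape chevE6 = true := by decide +kernel

theorem certE6_okChain : certE6.okChain chevE6 = true := by decide +kernel

theorem certE6_okRoots : certE6.okRoots = true := by decide +kernel

theorem certE6_okReps : certE6.okReps chevE6 = true := by decide +kernel

theorem certE6_okRefl0 : certE6.okRefl 0 = true := by decide +kernel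

theorem certE6_okRefl1 : certE6.okRefl 1 = true := by decide +kernel

theorem certE6_okRefl2 : certE6.okRefl 2 = true := by decide +kernel

theorem certE6_okRefl3 : certE6.okRefl 3 = true := by decide +kernel

theorem certE6_okRefl4 : certE6.okRefl 4 = true := by decide +kernel

theorem certE6_okRefl5 : certE6.okRefl 5 = true := by decide +kernel

theorem certE6_okChainRefl0 : certE6.okChainRefl chevE6 0 = true := by decide +kernel

theorem certE6_okChainRefl1 : certE6.okChainRefl chevE6 1 = true := by decide +kernel

theorem certE6_okChainRefl2 : certE6.okChainRefl chevE6 2 = true := by decide +kernel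

theorem certE6_okChainRefl3 : certE6.okChainRefl chevE6 3 = true := by decide +kernel

theorem certE6_okChainRefl4 : certE6.okChainRefl chevE6 4 = true := by decide +kernel

theorem certE6_okChainRefl5 : certE6.okChainRefl chevE6 5 = true := by decide +kernel

theorem certE6_okN0 : certE6.okN chevE6 0 = true := by decide +kernel

theorem certE6_okN1 : certE6.okN chevE6 1 = true := by decide +kernel

theorem certE6_okN2 : certE6.okN chevE6 2 = true := by decide +kernel

theorem certE6_okN3 : certE6.okN chevE6 3 = true := by decide +kernel

theorem certE6_okN4 : certE6.okN chevE6 4 = true := by decide +kernel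

theorem certE6_okN5 : certE6.okN chevE6 5 = true := by decide +kernel

theorem nonempty_factsE6 : Nonempty (Facts chevE6) := by
  refine Cert.facts_of_checks (c := certE6) certE6_okShape certE6_okChain certE6_okRoots ?_ ?_ ?_ certE6_okReps
    (by decide +kernel) <;>
    (intro i hi; have hi' : i < 6 := hi; interval_cases i)
  · exact certE6_okRefl0
  · exact certE6_okRefl1
  · exact certE6_okRefl2
  · exact certE6_okRefl3
  · exact certE6_okRefl4
  · exact certE6_okRefl5
  · exact certE6_okChainRefl0
  · exact certE6_okChainRefl1
  · exact certE6_okChainRefl2
  · exact certE6_okChainRefl3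
  · exact certE6_okChainRefl4
  · exact certE6_okChainRefl5
  · exact certE6_okN0
  · exact certE6_okN1
  · exact certE6_okN2
  · exact certE6_okN3
  · exact certE6_okN4
  · exact certE6_okN5

/-- The facts about the datum of type E6. -/
noncomputable def factsE6 : Facts chevE6 := Classical.choice nonempty_factsE6

end Cfsg.Agent.Lie
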