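import Cfsg.Agent.Lib.Lie.DataE7
import Cfsg.Agent.Lib.Lie.CertSound

/-! The facts about the datum of type E7, checked by the kernel. -/

set_option autoImplicit false
set_option maxRecDepth 100000

namespace Cfsg.Agent.Lie

open Cfsg.Lie

theorem certE7_okShape : certE7.okShape chevE7 = true := by decide +kernel

theorem certE7_okChain : certE7.okChain chevE7 = true := by decide +kernel

theorem certE7_okRoots : certE7.okRoots = true := by decide +kernel

theorem certE7_okReps : certE7.okReps chevE7 = true := by decide +kernel

theorem certE7_okRefl0 : certE7.okRefl 0 = true := by decide +kernel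

theorem certE7_okRefl1 : certE7.okRefl 1 = true := by decide +kernel

theorem certE7_okRefl2 : certE7.okRefl 2 = true := by decide +kernel

theorem certE7_okRefl3 : certE7.okRefl 3 = true := by decide +kernel

theorem certE7_okRefl4 : certE7.okRefl 4 = true := by decide +kernel

theorem certE7_okRefl5 : certE7.okRefl 5 = true := by decide +kernel

theorem certE7_okRefl6 : certE7.okRefl 6 = true := by decide +kernel

theorem certE7_okChainRefl0 : certE7.okChainRefl chevE7 0 = true := by decide +kernel

theorem certE7_okChainRefl1 : certE7.okChainRefl chevE7 1 = true := by decide +kernel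

theorem certE7_okChainRefl2 : certE7.okChainRefl chevE7 2 = true := by decide +kernel

theorem certE7_okChainRefl3 : certE7.okChainRefl chevE7 3 = true := by decide +kernel

theorem certE7_okChainRefl4 : certE7.okChainRefl chevE7 4 = true := by decide +kernel

theorem certE7_okChainRefl5 : certE7.okChainRefl chevE7 5 = true := by decide +kernel

theorem certE7_okChainRefl6 : certE7.okChainRefl chevE7 6 = true := by decide +kernel

theorem certE7_okN0 : certE7.okN chevE7 0 = true := by decide +kernel

theorem certE7_okN1 : certE7.okN chevE7 1 = true := by decide +kernel

theorem certE7_okN2 : certE7.okN chevE7 2 = true := by decide +kernel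

theorem certE7_okN3 : certE7.okN chevE7 3 = true := by decide +kernel

theorem certE7_okN4 : certE7.okN chevE7 4 = true := by decide +kernel

theorem certE7_okN5 : certE7.okN chevE7 5 = true := by decide +kernel

theorem certE7_okN6 : certE7.okN chevE7 6 = true := by decide +kernel

theorem nonempty_factsE7 : Nonempty (Facts chevE7) := by
  refine Cert.facts_of_checks (c := certE7) certE7_okShape certE7_okChain certE7_okRoots ?_ ?_ ?_ certE7_okReps
    (by decide +kernel) <;>
    (intro i hi; have hi' : i < 7 := hi; interval_cases i)
  · exact certE7_okRefl0
  · exact certE7_okRefl1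
  · exact certE7_okRefl2
  · exact certE7_okRefl3
  · exact certE7_okRefl4
  · exact certE7_okRefl5
  · exact certE7_okRefl6
  · exact certE7_okChainRefl0
  · exact certE7_okChainRefl1
  · exact certE7_okChainRefl2
  · exact certE7_okChainRefl3
  · exact certE7_okChainRefl4
  · exact certE7_okChainRefl5
  · exact certE7_okChainRefl6
  · exact certE7_okN0
  · exact certE7_okN1
  · exact certE7_okN2
  · exact certE7_okN3
  · exact certE7_okN4
  · exact certE7_okN5
  · exact certE7_okN6

/-- The facts about the datum of type E7. -/
noncomputable def factsE7 : Facts chevE7 := Classical.choice nonempty_factsE7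

end Cfsg.Agent.Lie
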