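import Cfsg.Agent.Lib.Lie.DataE8
import Cfsg.Agent.Lib.Lie.CertSound

/-! The facts about the datum of type E8, checked by the kernel. -/

set_option autoImplicit false
set_option maxRecDepth 100000

namespace Cfsg.Agent.Lie

open Cfsg.Lie

theorem certE8_okShape : certE8.okShape chevE8 = true := by decide +kernel

theorem certE8_okChain : certE8.okChain chevE8 = true := by decide +kernel

theorem certE8_okRoots : certE8.okRoots = true := by decide +kernel

theorem certE8_okReps : certE8.okReps chevE8 = true := by decide +kernel

theorem certE8_okRefl0 : certE8.okRefl 0 = true := by decide +kernel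

theorem certE8_okRefl1 : certE8.okRefl 1 = true := by decide +kernel

theorem certE8_okRefl2 : certE8.okRefl 2 = true := by decide +kernel

theorem certE8_okRefl3 : certE8.okRefl 3 = true := by decide +kernel

theorem certE8_okRefl4 : certE8.okRefl 4 = true := by decide +kernel

theorem certE8_okRefl5 : certE8.okRefl 5 = true := by decide +kernel

theorem certE8_okRefl6 : certE8.okRefl 6 = true := by decide +kernel

theorem certE8_okRefl7 : certE8.okRefl 7 = true := by decide +kernel

theorem certE8_okChainRefl0 : certE8.okChainRefl chevE8 0 = true := by decide +kernel

theorem certE8_okChainRefl1 : certE8.okChainRefl chevE8 1 = true := by decide +kernel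

theorem certE8_okChainRefl2 : certE8.okChainRefl chevE8 2 = true := by decide +kernel

theorem certE8_okChainRefl3 : certE8.okChainRefl chevE8 3 = true := by decide +kernel

theorem certE8_okChainRefl4 : certE8.okChainRefl chevE8 4 = true := by decide +kernel

theorem certE8_okChainRefl5 : certE8.okChainRefl chevE8 5 = true := by decide +kernel

theorem certE8_okChainRefl6 : certE8.okChainRefl chevE8 6 = true := by decide +kernel

theorem certE8_okChainRefl7 : certE8.okChainRefl chevE8 7 = true := by decide +kernel

theorem certE8_okN0 : certE8.okN chevE8 0 = true := by decide +kernel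

theorem certE8_okN1 : certE8.okN chevE8 1 = true := by decide +kernel

theorem certE8_okN2 : certE8.okN chevE8 2 = true := by decide +kernel

theorem certE8_okN3 : certE8.okN chevE8 3 = true := by decide +kernel

theorem certE8_okN4 : certE8.okN chevE8 4 = true := by decide +kernel

theorem certE8_okN5 : certE8.okN chevE8 5 = true := by decide +kernel

theorem certE8_okN6 : certE8.okN chevE8 6 = true := by decide +kernel

theorem certE8_okN7 : certE8.okN chevE8 7 = true := by decide +kernel

theorem nonempty_factsE8 : Nonempty (Facts chevE8) := by
  refine Cert.facts_of_checks (c := certE8) certE8_okShape certE8_okChain certE8_okRoots ?_ ?_ ?_ certE8_okReps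
    (by decide +kernel) <;>
    (intro i hi; have hi' : i < 8 := hi; interval_cases i)
  · exact certE8_okRefl0
  · exact certE8_okRefl1
  · exact certE8_okRefl2
  · exact certE8_okRefl3
  · exact certE8_okRefl4
  · exact certE8_okRefl5
  · exact certE8_okRefl6
  · exact certE8_okRefl7
  · exact certE8_okChainRefl0
  · exact certE8_okChainRefl1
  · exact certE8_okChainRefl2
  · exact certE8_okChainRefl3
  · exact certE8_okChainRefl4
  · exact certE8_okChainRefl5
  · exact certE8_okChainRefl6
  · exact certE8_okChainRefl7
  · exact certE8_okN0
  · exact certE8_okN1
  · exact certE8_okN2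
  · exact certE8_okN3
  · exact certE8_okN4
  · exact certE8_okN5
  · exact certE8_okN6
  · exact certE8_okN7

/-- The facts about the datum of type E8. -/
noncomputable def factsE8 : Facts chevE8 := Classical.choice nonempty_factsE8

end Cfsg.Agent.Lie
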