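import Cfsg.Agent.Lib.Lie.DataF4
import Cfsg.Agent.Lib.Lie.CertSound

/-! The facts about the datum of type F4, checked by the kernel. -/

set_option autoImplicit false
set_option maxRecDepth 100000

namespace Cfsg.Agent.Lie

open Cfsg.Lie

theorem certF4_okShape : certF4.okShape chevF4 = true := by decide +kernel

theorem certF4_okChain : certF4.okChain chevF4 = true := by decide +kernel

theorem certF4_okRoots : certF4.okRoots = true := by decide +kernel

theorem certF4_okReps : certF4.okReps chevF4 = true := by decide +kernel

theorem certF4_okRefl0 : certF4.okRefl 0 = true := by decide +kernel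

theorem certF4_okRefl1 : certF4.okRefl 1 = true := by decide +kernel

theorem certF4_okRefl2 : certF4.okRefl 2 = true := by decide +kernel

theorem certF4_okRefl3 : certF4.okRefl 3 = true := by decide +kernel

theorem certF4_okChainRefl0 : certF4.okChainRefl chevF4 0 = true := by decide +kernel

theorem certF4_okChainRefl1 : certF4.okChainRefl chevF4 1 = true := by decide +kernel

theorem certF4_okChainRefl2 : certF4.okChainRefl chevF4 2 = true := by decide +kernel

theorem certF4_okChainRefl3 : certF4.okChainRefl chevF4 3 = true := by decide +kernel

theorem certF4_okN0 : certF4.okN chevF4 0 = true := by decide +kernel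

theorem certF4_okN1 : certF4.okN chevF4 1 = true := by decide +kernel

theorem certF4_okN2 : certF4.okN chevF4 2 = true := by decide +kernel

theorem certF4_okN3 : certF4.okN chevF4 3 = true := by decide +kernel

theorem nonempty_factsF4 : Nonempty (Facts chevF4) := by
  refine Cert.facts_of_checks (c := certF4) certF4_okShape certF4_okChain certF4_okRoots ?_ ?_ ?_ certF4_okReps
    (by decide +kernel) <;>
    (intro i hi; have hi' : i < 4 := hi; interval_cases i)
  · exact certF4_okRefl0
  · exact certF4_okRefl1
  · exact certF4_okRefl2
  · exact certF4_okRefl3
  · exact certF4_okChainRefl0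
  · exact certF4_okChainRefl1
  · exact certF4_okChainRefl2
  · exact certF4_okChainRefl3
  · exact certF4_okN0
  · exact certF4_okN1
  · exact certF4_okN2
  · exact certF4_okN3

/-- The facts about the datum of type F4. -/
noncomputable def factsF4 : Facts chevF4 := Classical.choice nonempty_factsF4

end Cfsg.Agent.Lie
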