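import Cfsg.Agent.Lib.Lie.FactsG2
import Cfsg.Agent.Lib.Lie.FactsB2
import Cfsg.Agent.Lib.Lie.FactsD4
import Cfsg.Agent.Lib.Lie.FactsF4
import Cfsg.Agent.Lib.Lie.FactsE6
import Cfsg.Agent.Lib.Lie.FactsE7
import Cfsg.Agent.Lib.Lie.FactsE8

/-! The facts for each of the seven tabulated data. -/

set_option autoImplicit false

namespace Cfsg.Agent.Lie

open Cfsg.Lie

theorem facts_of_mem {D : ChevalleyDatum}
    (hD : D ∈ [chevG2, chevB2, chevD4, chevF4, chevE6, chevE7, chevE8]) : Nonempty (Facts D) := by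
  simp only [List.mem_cons, List.not_mem_nil, or_false] at hD
  rcases hD with rfl | rfl | rfl | rfl | rfl | rfl | rfl
  exacts [nonempty_factsG2, nonempty_factsB2, nonempty_factsD4, nonempty_factsF4,
    nonempty_factsE6, nonempty_factsE7, nonempty_factsE8]

end Cfsg.Agent.Lie
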