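import Cfsg.Agent.Lib.Lie.Diagonal

/-!
The order of the diagonal subgroup over a finite field.
-/

set_option autoImplicit false

namespace Cfsg.Agent.Lie

open Cfsg.Lie Matrix
open scoped MatrixGroups

/-- Certificate for the solutions of a square homogeneous integral system in an abelian group. -/
structure KerCert {l : ℕ} (C : Fin l → Fin l → ℤ) {k : ℕ} (d : Fin k → ℕ) where
  v : Fin k → Fin l → ℤ
  u : Fin k → Fin l → ℤ
  w : Fin l → Fin l → ℤ
  w' : Fin k → Fin l → ℤ
  h1 : ∀ i m, (if m = i then 1 else 0) - ∑ a, v a i * u a m = ∑ s, w i s * C s m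
  h2 : ∀ a m, (d a : ℤ) * u a m = ∑ s, w' a s * C s m
  h3 : ∀ a b, (d b : ℤ) ∣ (∑ m, u a m * v b m) - if a = b then 1 else 0
  h4 : ∀ s b, (d b : ℤ) ∣ ∑ m, C s m * v b m

namespace KerCert

variable {l : ℕ} {C : Fin l → Fin l → ℤ} {k : ℕ} {d : Fin k → ℕ} (K : KerCert C d)
  {M : Type*} [AddCommGroup M]

theorem lin_eq (x : Fin l → ℤ) (z : Fin k → M) :
    (∑ m, x m • ∑ a, K.v a m • z a) = ∑ a, (∑ m, x m * K.v a m) • z a := by
  simp only [Finset.smul_sum, smul_smul, Finset.sum_smul]
  exact Finset.sum_comm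

theorem dvd_smul_eq_zero {n : ℕ} {x : ℤ} {z : M} (h : (n : ℤ) ∣ x) (hz : n • z = 0) : x • z = 0 := by
  obtain ⟨e, rfl⟩ := h
  rw [mul_comm, mul_smul, natCast_zsmul, hz, smul_zero]

/-- The solutions are parametrised by torsion elements. -/
def equiv : {c : Fin l → M // ∀ s, ∑ m, C s m • c m = 0} ≃ ((a : Fin k) → {z : M // d a • z = 0}) where
  toFun c a := ⟨∑ m, K.u a m • c.1 m, by
    have e : d a • ∑ m, K.u a m • c.1 m = ∑ m, (∑ s, K.w' a s * C s m) • c.1 m := by
      rw [Finset.smul_sum]
      refine Finset.sum_congr rfl fun m _ => ?_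
      rw [← K.h2, mul_smul, natCast_zsmul]
    rw [e]
    simp only [Finset.sum_smul]
    rw [Finset.sum_comm]
    refine Finset.sum_eq_zero fun s _ => ?_
    simp only [mul_smul, ← Finset.smul_sum, c.2 s, smul_zero]⟩
  invFun z := ⟨fun m => ∑ a, K.v a m • (z a).1, fun s => by
    rw [K.lin_eq (C s) fun a => (z a).1]
    exact Finset.sum_eq_zero fun a _ => dvd_smul_eq_zero (K.h4 s a) (z a).2⟩
  left_inv c := by
    apply Subtype.ext
    funext i
    show ∑ a, K.v a i • ∑ m, K.u a m • c.1 m = c.1 i
    have e : ∑ m, ((if m = i then (1 : ℤ) else 0) - ∑ a, K.v a i * K.u a m) • c.1 m = 0 := by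
      simp only [K.h1, Finset.sum_smul]
      rw [Finset.sum_comm]
      refine Finset.sum_eq_zero fun s _ => ?_
      simp only [mul_smul, ← Finset.smul_sum, c.2 s, smul_zero]
    simp only [sub_smul, Finset.sum_sub_distrib, ite_smul, one_smul, zero_smul, Finset.sum_ite_eq',
      Finset.mem_univ, if_true, sub_eq_zero, Finset.sum_smul] at e
    conv_rhs => rw [e]
    rw [Finset.sum_comm]
    refine Finset.sum_congr rfl fun a _ => ?_
    rw [Finset.smul_sum]
    exact Finset.sum_congr rfl fun m _ => by rw [mul_smul]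
  right_inv z := by
    funext a
    apply Subtype.ext
    show ∑ m, K.u a m • ∑ b, K.v b m • (z b).1 = (z a).1
    rw [K.lin_eq (K.u a) fun b => (z b).1]
    rw [Finset.sum_eq_single a]
    · have := dvd_smul_eq_zero (K.h3 a a) (z a).2
      rwa [if_pos rfl, sub_smul, one_smul, sub_eq_zero] at this
    · intro b _ hb
      have := dvd_smul_eq_zero (K.h3 a b) (z b).2
      rwa [if_neg (Ne.symm hb), sub_zero] at this
    · simp

end KerCert

variable {D : ChevalleyDatum} {F : Type*} [Field F]

theorem coe_torus_eq_one (c : Fin D.rank → Fˣ) :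
    torus D F c = 1 ↔ ∀ s, s < D.nroots → torChar D c s = 1 := by
  constructor
  · intro h s hs
    have h1 := congrArg Units.val h
    rw [coe_torus, Units.val_one] at h1
    have h2 := congrFun (congrFun h1 (Sum.inr ⟨s, hs⟩)) (Sum.inr ⟨s, hs⟩)
    rw [diagM, Matrix.diagonal_apply_eq, Matrix.one_apply_eq] at h2
    exact Units.ext h2
  · intro h
    ext1
    rw [coe_torus, Units.val_one, ← Facts.diagM_one]
    exact Facts.diagM_congr fun s hs => by rw [h s hs, Units.val_one]

/-- The Cartan matrix, as a system on torus coordinates. -/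
def cartanSys (D : ChevalleyDatum) (s m : Fin D.rank) : ℤ := D.cartan m.val (D.simple s.val)

theorem Facts.torChar_eq_one_iff (hF : Facts D) (c : Fin D.rank → Fˣ) :
    (∀ s, s < D.nroots → torChar D c s = 1) ↔
      ∀ i : Fin D.rank, torChar D c (D.simple i.val) = 1 := by
  refine ⟨fun h i => h _ (hF.simple_lt i i.isLt), fun h => ?_⟩
  refine hF.simple_induction _ (fun i hi => h ⟨i, hi⟩) (fun i hi r hr ih => ?_)
  have e : torChar D c (D.reflectRoot i r) =
      torChar D c r * (torChar D c (D.simple i) ^ D.cartan i r)⁻¹ := by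
    rw [torChar, torChar, torChar, ← Finset.prod_zpow, ← Finset.prod_inv_distrib,
      ← Finset.prod_mul_distrib]
    refine Finset.prod_congr rfl fun j _ => ?_
    rw [hF.cartan_refl i hi r hr j j.isLt, sub_eq_add_neg, _root_.zpow_add, _root_.zpow_neg,
      mul_comm (D.cartan i r), _root_.zpow_mul]
  rw [e, ih, h ⟨i, hi⟩]
  simp

theorem card_torsion (F : Type*) [Field F] [Finite F] (d : ℕ) :
    Nat.card {z : Additive Fˣ // d • z = 0} = Nat.gcd d (Nat.card F - 1) := by
  have h : Nat.card (powMonoidHom d : Fˣ →* Fˣ).ker = Nat.gcd (Nat.card Fˣ) d :=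
    IsCyclic.card_powMonoidHom_ker Fˣ d
  rw [Nat.gcd_comm, ← Nat.card_units, ← h]
  refine Nat.card_congr (Equiv.subtypeEquiv Additive.toMul fun z => ?_)
  show d • z = 0 ↔ powMonoidHom d (Additive.toMul z) = 1
  rw [powMonoidHom_apply, ← toMul_nsmul]
  exact ⟨fun hz => by rw [hz]; rfl, fun hz => Additive.toMul.injective hz⟩

/-- The order of the diagonal subgroup. -/
theorem Facts.card_diagonal (hF : Facts D) [Finite F] {k : ℕ} {d : Fin k → ℕ}
    (K : KerCert (cartanSys D) d) :
    (∏ a, Nat.gcd (d a) (Nat.card F - 1)) * Nat.card (D.diagonalSubgroup F) =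
      (Nat.card F - 1) ^ D.rank := by
  have hker : Nat.card (torus D F).ker = ∏ a, Nat.gcd (d a) (Nat.card F - 1) := by
    rw [← Finset.prod_congr rfl fun a _ => card_torsion F (d a), ← Nat.card_pi,
      ← Nat.card_congr (K.equiv (M := Additive Fˣ))]
    refine Nat.card_congr (Equiv.subtypeEquiv (Equiv.piCongrRight fun _ => Additive.ofMul) fun c => ?_)
    rw [MonoidHom.mem_ker, coe_torus_eq_one, hF.torChar_eq_one_iff]
    refine forall_congr' fun i => ?_
    have hsum : ∀ S : Finset (Fin D.rank),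
        Additive.ofMul (∏ m ∈ S, c m ^ D.cartan m.val (D.simple i.val)) =
          ∑ m ∈ S, cartanSys D i m • Additive.ofMul (c m) := by
      intro S
      induction S using Finset.induction_on with
      | empty => simp
      | insert a S ha ih =>
        rw [Finset.prod_insert ha, Finset.sum_insert ha, ofMul_mul, ih, ofMul_zpow]
        rfl
    rw [torChar]
    constructor
    · intro h
      show ∑ m, cartanSys D i m • Additive.ofMul (c m) = 0
      rw [← hsum, h, ofMul_one]
    · intro h
      apply Additive.ofMul.injective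
      rw [hsum, ofMul_one]
      exact h
  have h1 := Subgroup.card_eq_card_quotient_mul_card_subgroup (torus D F).ker
  have h2 : Nat.card (D.diagonalSubgroup F) = Nat.card ((Fin D.rank → Fˣ) ⧸ (torus D F).ker) := by
    rw [hF.diagonalSubgroup_eq F]
    exact Nat.card_congr (QuotientGroup.quotientKerEquivRange _).toEquiv.symm
  rw [h2, ← hker, mul_comm, ← h1, Nat.card_fun, Nat.card_units, Nat.card_fin]

end Cfsg.Agent.Lie
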