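import Cfsg.Agent.Lib.Lie.Bruhat
import Cfsg.Agent.Lib.Lie.AllFacts
import Cfsg.Agent.Lib.Lie.TorusCard
import Cfsg.Prelude.Def_ChevAutomorphisms
import Mathlib.FieldTheory.Fixed
import Mathlib.LinearAlgebra.Matrix.GeneralLinearGroup.Defs

/-!
Change of field in the Chevalley matrix groups, and fixed points of field automorphisms.
-/

set_option autoImplicit false

namespace Cfsg.Agent.Lie

open Cfsg.Lie Matrix
open scoped MatrixGroups

variable {D : ChevalleyDatum} {F K : Type*} [Field F] [Field K]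

/-- A ring map applied to the entries. -/
noncomputable abbrev gmap (f : K →+* F) : GL D.Idx K →* GL D.Idx F :=
  Matrix.GeneralLinearGroup.map f

theorem coe_gmap (f : K →+* F) (g : GL D.Idx K) :
    ((gmap f g : GL D.Idx F) : Matrix D.Idx D.Idx F) = (g : Matrix D.Idx D.Idx K).map f := rfl

theorem gmap_injective (f : K →+* F) : Function.Injective (gmap (D := D) f) := by
  intro a b h
  ext p q
  have h' := congrArg (fun g : GL D.Idx F => (g : Matrix D.Idx D.Idx F) p q) h
  exact f.injective h'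

theorem torChar_map (f : K →+* F) (c : Fin D.rank → Kˣ) (s : ℕ) :
    torChar D (fun i => Units.map f.toMonoidHom (c i)) s = Units.map f.toMonoidHom (torChar D c s) := by
  simp [torChar, map_prod, map_zpow]

theorem torChar_map_val (f : K →+* F) (c : Fin D.rank → Kˣ) (s : ℕ) :
    f (torChar D c s : K) = (torChar D (fun i => Units.map f.toMonoidHom (c i)) s : F) := by
  rw [torChar_map]; rfl

theorem gmap_torus (f : K →+* F) (c : Fin D.rank → Kˣ) :
    gmap f (torus D K c) = torus D F fun i => Units.map f.toMonoidHom (c i) := by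
  ext1
  rw [coe_gmap, coe_torus, coe_torus, diagM, diagM, Matrix.diagonal_map (map_zero f)]
  congr 1
  funext p
  cases p with
  | inl i => simp
  | inr s => exact torChar_map_val f c s

theorem torus_injective (hF : Facts D) {d : Fin 0 → ℕ} (Kc : KerCert (cartanSys D) d) :
    Function.Injective (torus D F) := by
  rw [injective_iff_map_eq_one]
  intro c hc
  rw [coe_torus_eq_one, hF.torChar_eq_one_iff] at hc
  have hsum : ∀ (i : Fin D.rank) (S : Finset (Fin D.rank)),
      Additive.ofMul (∏ m ∈ S, c m ^ D.cartan m.val (D.simple i.val)) =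
        ∑ m ∈ S, cartanSys D i m • Additive.ofMul (c m) := by
    intro i S
    induction S using Finset.induction_on with
    | empty => simp
    | insert a S ha ih =>
      rw [Finset.prod_insert ha, Finset.sum_insert ha, ofMul_mul, ih, ofMul_zpow]
      rfl
  have h0 : (fun m => Additive.ofMul (c m)) = fun _ => 0 := by
    have := (Kc.equiv (M := Additive Fˣ)).injective
      (a₁ := ⟨fun m => Additive.ofMul (c m), fun i => by
        rw [← hsum]; exact (congrArg Additive.ofMul (hc i)).trans ofMul_one⟩)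
      (a₂ := ⟨fun _ => 0, fun i => by simp⟩) (funext fun a => a.elim0)
    exact congrArg Subtype.val this
  funext m
  exact Additive.ofMul.injective (congrFun h0 m)

namespace Facts

variable (hF : Facts D)

theorem gmap_xg (f : K →+* F) (r : ℕ) (t : K) : gmap f (hF.xg r t) = hF.xg r (f t) :=
  Units.ext (by rw [coe_gmap, coe_xg, coe_xg, x_map])

theorem gmap_ng (f : K →+* F) (r : ℕ) (t : K) : gmap f (hF.ng r t) = hF.ng r (f t) := by
  simp only [ng_eq, map_mul, hF.gmap_xg, map_neg, map_inv₀]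

theorem gmap_nW (f : K →+* F) (w : hF.weyl) :
    gmap f ((hF.tsys K).nW w) = (hF.tsys F).nW w := by
  show gmap f (TorusSys.nw _ _) = TorusSys.nw _ _
  rw [TorusSys.nw, TorusSys.nw, map_list_prod, List.map_map]
  congr 1
  refine List.map_congr_left fun i _ => ?_
  rw [Function.comp_apply, hF.tsys_nS, hF.tsys_nS, hF.gmap_ng, map_one]

theorem gmap_US_le (f : K →+* F) (L : List ℕ) :
    ((hF.tsys K).US L).map (gmap f) ≤ (hF.tsys F).US L := by
  rw [Subgroup.map_le_iff_le_comap]
  refine CommSys.US_le _ fun r hr t => ?_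
  show gmap f (hF.xg r t) ∈ (hF.tsys F).US L
  rw [hF.gmap_xg]
  exact CommSys.x_mem_US _ hr _

theorem gmap_H_mem (f : K →+* F) {a : GL D.Idx K} (ha : a ∈ (hF.tsys K).H) :
    gmap f a ∈ (hF.tsys F).H := by
  rw [hF.tsys_H, hF.diagonalSubgroup_eq] at ha ⊢
  obtain ⟨c, rfl⟩ := ha
  exact ⟨_, (gmap_torus f c).symm⟩

theorem gmap_B_mem (f : K →+* F) {a : GL D.Idx K} (ha : a ∈ (hF.tsys K).B) :
    gmap f a ∈ (hF.tsys F).B := by
  obtain ⟨u, hu, h, hh, rfl⟩ := (hF.tsys K).mem_B.1 ha
  rw [map_mul]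
  exact mul_mem ((hF.tsys F).U_le_B (hF.gmap_US_le f _ ⟨u, hu, rfl⟩))
    ((hF.tsys F).H_le_B (hF.gmap_H_mem f hh))

include hF in
theorem gmap_group_le (f : K →+* F) : (D.group K).map (gmap f) ≤ D.group F := by
  rw [hF.group_eq (F := K), MonoidHom.map_closure, Subgroup.closure_le]
  rintro g ⟨_, ⟨⟨r, t⟩, rfl⟩, rfl⟩
  rw [hF.gmap_xg]
  exact hF.xg_mem_group r (f t)

theorem fixed_US {σ : F ≃+* F} {f : K →+* F} (hfix : ∀ t, σ t = t → ∃ t₀, f t₀ = t)
    {L : List ℕ} (hL : ClosedList D L) {u : GL D.Idx F} (hu : u ∈ (hF.tsys F).US L)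
    (hs : gmap σ.toRingHom u = u) : u ∈ ((hF.tsys K).US L).map (gmap f) := by
  obtain ⟨t, ht⟩ := CommSys.exists_prodOver (hF.sys F).toCommSys hL hu
  have hmap : ∀ (M : List ℕ) (g : ℕ → F),
      gmap σ.toRingHom ((hF.sys F).prodOver M g) = (hF.sys F).prodOver M fun r => σ (g r) := by
    intro M g
    simp only [CommSys.prodOver, map_list_prod, List.map_map]
    congr 1
    exact List.map_congr_left fun r _ => hF.gmap_xg _ r (g r)
  rw [ht] at hs
  replace hs := (hmap L t).symm.trans hs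
  have key := hF.prodOver_inj hL hs
  choose g hg using fun r : {r // r ∈ L} => hfix (t r) (key r r.2)
  classical
  refine ⟨(hF.sys K).prodOver L fun r => if h : r ∈ L then g ⟨r, h⟩ else 0,
    CommSys.prodOver_mem _ L _, ?_⟩
  rw [ht]
  simp only [CommSys.prodOver, map_list_prod, List.map_map]
  congr 1
  refine List.map_congr_left fun r hr => ?_
  show gmap f (hF.xg r _) = hF.xg r (t r)
  rw [hF.gmap_xg, dif_pos hr, hg ⟨r, hr⟩]

include hF in
theorem torus_mem_group (c : Fin D.rank → Fˣ) : torus D F c ∈ D.group F := by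
  suffices h : c ∈ (D.group F).comap (torus D F) from h
  rw [← Finset.univ_prod_mulSingle c]
  refine Subgroup.prod_mem _ fun i _ => ?_
  show torus D F _ ∈ D.group F
  rw [hF.torus_single]
  exact hF.wg_mem_group _

theorem nW_mem_group (w : hF.weyl) : (hF.tsys F).nW w ∈ D.group F := by
  show TorusSys.nw _ _ ∈ _
  refine Subgroup.list_prod_mem _ fun g hg => ?_
  obtain ⟨i, -, rfl⟩ := List.mem_map.1 hg
  rw [hF.tsys_nS]
  exact hF.wg_mem_group _

include hF in
/-- Elements of the group fixed by σ come from the fixed field. -/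
theorem fixed_mem_map {d : Fin 0 → ℕ} (Kc : KerCert (cartanSys D) d) {σ : F ≃+* F} {f : K →+* F}
    (hfix : ∀ t, σ t = t → ∃ t₀, f t₀ = t) {g : GL D.Idx F} (hg : g ∈ D.group F)
    (hs : gmap σ.toRingHom g = g) : g ∈ (D.group K).map (gmap f) := by
  obtain ⟨b, hb, w, u, hu, rfl⟩ := hF.mem_bnu hg
  rw [map_mul, map_mul, hF.gmap_nW] at hs
  obtain ⟨-, hbe, hue⟩ := hF.bruhat_unique (hF.gmap_B_mem _ hb) hb
    (hF.gmap_US_le _ _ ⟨u, hu, rfl⟩) hu hs
  obtain ⟨v, hv, a, ha, rfl⟩ := (hF.tsys F).mem_B.1 hb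
  have hva : v⁻¹ * gmap σ.toRingHom v = 1 := by
    refine hF.U_inter_H (mul_mem (inv_mem hv) (hF.gmap_US_le _ _ ⟨v, hv, rfl⟩)) ?_
    rw [map_mul] at hbe
    have : v⁻¹ * gmap σ.toRingHom v = a * (gmap σ.toRingHom a)⁻¹ := by
      rw [inv_mul_eq_iff_eq_mul, ← mul_assoc, ← hbe, mul_inv_cancel_right]
    rw [this]
    exact mul_mem ha (inv_mem (hF.gmap_H_mem _ ha))
  have hve : gmap σ.toRingHom v = v := (inv_mul_eq_one.1 hva).symm
  have hae : gmap σ.toRingHom a = a := by
    rw [map_mul, hve] at hbe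
    exact mul_left_cancel hbe
  have hG : ∀ {L : List ℕ} {x : GL D.Idx K}, x ∈ (hF.tsys K).US L → x ∈ D.group K := fun hx =>
    CommSys.US_le _ (fun r _ t => hF.xg_mem_group r t) hx
  refine mul_mem (mul_mem (mul_mem ?_ ?_) ?_) ?_
  · exact Subgroup.map_mono (fun x hx => hG hx) (hF.fixed_US hfix hF.closedList_posL hv hve)
  · rw [hF.tsys_H, hF.diagonalSubgroup_eq] at ha
    obtain ⟨c, rfl⟩ := ha
    rw [gmap_torus] at hae
    have hc := torus_injective hF Kc hae
    choose c₀ hc₀ using fun i => hfix (c i : F) (congrArg Units.val (congrFun hc i))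
    have hne : ∀ i, c₀ i ≠ 0 := fun i h => (c i).ne_zero (by rw [← hc₀ i, h, map_zero])
    refine ⟨torus D K fun i => Units.mk0 _ (hne i), ?_, ?_⟩
    · exact hF.torus_mem_group _
    · rw [gmap_torus]
      congr 1
      funext i
      exact Units.ext (hc₀ i)
  · refine ⟨(hF.tsys K).nW w, ?_, hF.gmap_nW f w⟩
    exact hF.nW_mem_group w
  · exact Subgroup.map_mono (fun x hx => hG hx) (hF.fixed_US hfix (TorusSys.closed_invList w) hu hue)

include hF in
theorem fieldAut_fixed {F : Type*} [Field F] [Fintype F] {d : Fin 0 → ℕ}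
    (Kc : KerCert (cartanSys D) d) (φ : MulAut ↥(D.group F)) (hφ : D.IsFieldAut φ) (hpos : 0 < D.nroots)
    (r : ℕ) (ho : orderOf φ = r) :
    ∃ (F₀ : Type) (_ : Field F₀) (_ : Fintype F₀), Fintype.card F = Fintype.card F₀ ^ r ∧
      Nonempty (↥((MulEquiv.toMonoidHom φ).eqLocus (MonoidHom.id ↥(D.group F))) ≃* ↥(D.group F₀)) := by
  obtain ⟨σ, hσ⟩ := hφ
  have happ : ∀ g : D.group F, ((φ g : D.group F) : GL D.Idx F) = gmap σ.toRingHom (g : GL D.Idx F) := by
    have : ∀ (x : GL D.Idx F) (hx : x ∈ Subgroup.closure (Set.range fun p : ℕ × F => hF.xg p.1 p.2))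
        (hx' : x ∈ D.group F), ((φ ⟨x, hx'⟩ : D.group F) : GL D.Idx F) = gmap σ.toRingHom x := by
      intro x hx
      induction hx using Subgroup.closure_induction with
      | mem y hy =>
        intro hy'
        obtain ⟨⟨s, t⟩, rfl⟩ := hy
        by_cases hs : s < D.nroots
        · refine Units.ext ?_
          rw [hσ ⟨_, hy'⟩ s t hs (hF.coe_xg s t), hF.gmap_xg, coe_xg]
          rfl
        · have hout := hF.xg_out (F := F) (not_lt.1 hs) t
          have h1 : (⟨hF.xg s t, hy'⟩ : D.group F) = 1 := Subtype.ext hout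
          rw [h1, map_one]
          show (1 : GL D.Idx F) = gmap σ.toRingHom (hF.xg s t)
          rw [hout, map_one]
      | one =>
        intro h'
        have h1 : (⟨1, h'⟩ : D.group F) = 1 := rfl
        rw [h1, map_one, map_one]
        rfl
      | mul a b ha hb iha ihb =>
        intro h'
        have ha' : a ∈ D.group F := by rwa [hF.group_eq]
        have hb' : b ∈ D.group F := by rwa [hF.group_eq]
        have h1 : (⟨a * b, h'⟩ : D.group F) = ⟨a, ha'⟩ * ⟨b, hb'⟩ := rfl
        rw [h1, map_mul, Subgroup.coe_mul, iha ha', ihb hb', map_mul]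
      | inv a ha iha =>
        intro h'
        have ha' : a ∈ D.group F := by rwa [hF.group_eq]
        have h1 : (⟨a⁻¹, h'⟩ : D.group F) = ⟨a, ha'⟩⁻¹ := rfl
        rw [h1, map_inv, Subgroup.coe_inv, iha ha', map_inv]
    intro g
    exact this _ (hF.group_eq (F := F) ▸ g.2) g.2
  have hpow : ∀ (n : ℕ) (g : D.group F),
      (((φ ^ n) g : D.group F) : GL D.Idx F) = gmap (σ ^ n : RingAut F).toRingHom (g : GL D.Idx F) := by
    intro n
    induction n with
    | zero =>
      intro g
      ext p q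
      rfl
    | succ n ih =>
      intro g
      rw [pow_succ', MulAut.mul_apply, happ, ih]
      ext p q
      simp [coe_gmap, pow_succ']
  have hord : orderOf (σ : RingAut F) = r := by
    rw [← ho, orderOf_eq_orderOf_iff]
    intro n
    constructor
    · intro h
      apply MulEquiv.ext
      intro g
      apply Subtype.ext
      rw [hpow, h]
      ext p q
      rfl
    · intro h
      apply RingEquiv.ext
      intro t
      have h1 := hpow n ⟨hF.xg 0 t, hF.xg_mem_group 0 t⟩
      rw [h] at h1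
      have h2 : hF.xg 0 t = hF.xg 0 ((σ ^ n : RingAut F) t) := h1.trans (hF.gmap_xg _ 0 t)
      have h3 : hF.xg 0 ((σ ^ n : RingAut F) t - t) = 1 := by
        rw [sub_eq_add_neg, hF.xg_add, hF.xg_neg, ← h2, mul_inv_cancel]
      have h4 := congrArg Units.val h3
      rw [coe_xg, Units.val_one, hF.x_eq_one 0 hpos, sub_eq_zero] at h4
      exact h4
  classical
  let G₀ := Subgroup.zpowers (σ : RingAut F)
  haveI : Finite (RingAut F) := Finite.of_injective (fun e : F ≃+* F => (e : F → F)) DFunLike.coe_injective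
  haveI : Fintype G₀ := Fintype.ofFinite _
  let K₀ := FixedPoints.subfield G₀ F
  have hdeg : Module.finrank K₀ F = r := by
    rw [FixedPoints.finrank_eq_card G₀ F, ← Nat.card_eq_fintype_card, Nat.card_zpowers, hord]
  have hcard : Fintype.card F = Fintype.card K₀ ^ r := by
    rw [← hdeg]
    exact Module.card_eq_pow_finrank
  let e := (Fintype.equivFin K₀).symm
  let : Field (Fin (Fintype.card K₀)) := e.field
  let f : Fin (Fintype.card K₀) →+* F := (Subfield.subtype K₀).comp e.ringEquiv.toRingHom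
  have hfix : ∀ t, σ t = t → ∃ t₀, f t₀ = t := by
    intro t ht
    have hm : t ∈ K₀ := by
      rintro ⟨g, hg⟩
      obtain ⟨k, rfl⟩ := Subgroup.mem_zpowers_iff.1 hg
      have : (σ : RingAut F) ∈ MulAction.stabilizer (RingAut F) t := ht
      exact Subgroup.zpow_mem _ this k
    exact ⟨e.symm ⟨t, hm⟩, by simp [f]⟩
  have hf : ∀ t₀, σ (f t₀) = f t₀ := fun t₀ =>
    (e.ringEquiv t₀).2 ⟨σ, Subgroup.mem_zpowers _⟩
  refine ⟨Fin (Fintype.card K₀), inferInstance, inferInstance, ?_, ⟨?_⟩⟩
  · rw [Fintype.card_fin]; exact hcard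
  refine MulEquiv.symm (MulEquiv.ofBijective
    (MonoidHom.mk' (fun g : ↥(D.group (Fin (Fintype.card K₀))) =>
      (⟨⟨gmap f (g : GL D.Idx _), hF.gmap_group_le f ⟨g, g.2, rfl⟩⟩, ?_⟩ :
        ↥((MulEquiv.toMonoidHom φ).eqLocus (MonoidHom.id ↥(D.group F))))) ?_) ⟨?_, ?_⟩)
  · apply Subtype.ext
    show ((φ _ : D.group F) : GL D.Idx F) = gmap f (g : GL D.Idx _)
    rw [happ]
    ext p q
    exact hf _
  · intro a b
    exact Subtype.ext (Subtype.ext (map_mul _ _ _))
  · intro a b h
    exact Subtype.ext (gmap_injective f (congrArg (fun x => (x.1.1 : GL D.Idx F)) h))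
  · rintro ⟨⟨g, hg⟩, hg'⟩
    have hs : gmap σ.toRingHom g = g := by
      rw [← happ ⟨g, hg⟩]
      exact congrArg Subtype.val hg'
    obtain ⟨g₀, hg₀, he⟩ := hF.fixed_mem_map Kc hfix hg hs
    exact ⟨⟨g₀, hg₀⟩, Subtype.ext (Subtype.ext he)⟩

end Facts

end Cfsg.Agent.Lie
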