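import Cfsg.Agent.Lib.Lie.BruhatAux
import Cfsg.Agent.Lib.Lie.AllFacts

/-!
Perfectness of Chevalley groups.
-/

set_option autoImplicit false

namespace Cfsg.Agent.Lie

open Cfsg.Lie Matrix
open scoped MatrixGroups commutatorElement

variable {D : ChevalleyDatum} {F : Type*} [Field F]

/-- One certificate step: the root k occurs once, linearly in u, with unit coefficient, among known roots. -/
def okPerfStep (D : ChevalleyDatum) (two : Bool) (known : List ℕ) (e : ℕ × ℕ × ℕ) : Bool :=
  let T := D.commTerms e.2.1 e.2.2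
  decide (e.2.1 < D.nroots) && decide (e.2.2 < D.nroots) && e.2.2 != e.2.1 && e.2.2 != D.neg e.2.1 &&
    (T.filter fun c => c.1 == e.1).length == 1 &&
    T.all fun c =>
      if c.1 == e.1 then
        c.2.2.2 == 1 && (c.2.1.natAbs == 1 || (two && c.2.1.natAbs == 2))
      else known.contains c.1

/-- Check a certificate of perfectness. -/
def okPerf (D : ChevalleyDatum) (two : Bool) : List ℕ → List (ℕ × ℕ × ℕ) → Bool
  | known, [] => (List.range D.rank).all fun i => known.contains (D.simple i)
  | known, e :: L => okPerfStep D two known e && okPerf D two (e.1 :: known) L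

theorem middle_mem {G α : Type*} [Group G] (K : Subgroup G) (g : α → G) (p : α → Bool) :
    ∀ L : List α, (L.map g).prod ∈ K → (∀ c ∈ L, p c = false → g c ∈ K) →
      (L.filter p).length = 1 → ∀ c ∈ L, p c = true → g c ∈ K := by
  intro L
  induction L with
  | nil => simp
  | cons a L ih =>
    intro hprod hk hlen c hc hp
    rw [List.map_cons, List.prod_cons] at hprod
    by_cases ha : p a = true
    · have h0 : ∀ d ∈ L, p d = false := by
        intro d hd
        by_contra hne
        rw [Bool.not_eq_false] at hne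
        rw [List.filter_cons_of_pos ha, List.length_cons] at hlen
        have : d ∈ L.filter p := List.mem_filter.2 ⟨hd, hne⟩
        have := List.length_pos_of_mem this
        omega
      have hL : (L.map g).prod ∈ K := by
        refine Subgroup.list_prod_mem K fun x hx => ?_
        obtain ⟨d, hd, rfl⟩ := List.mem_map.1 hx
        exact hk d (List.mem_cons_of_mem _ hd) (h0 d hd)
      rcases List.mem_cons.1 hc with rfl | hc
      · exact (mul_mem_cancel_right hL).1 hprod
      · rw [h0 c hc] at hp; exact absurd hp Bool.false_ne_true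
    · rw [Bool.not_eq_true] at ha
      rcases List.mem_cons.1 hc with rfl | hc
      · rw [ha] at hp; exact absurd hp Bool.false_ne_true
      · refine ih ((mul_mem_cancel_left (hk a (List.mem_cons_self) ha)).1 hprod)
          (fun d hd => hk d (List.mem_cons_of_mem _ hd)) ?_ c hc hp
        rwa [List.filter_cons_of_neg (by simp [ha])] at hlen

namespace Facts

variable (hF : Facts D)

/-- x_r(t) lies in the derived group. -/
def InDerived (F : Type*) [Field F] (r : ℕ) : Prop := ∀ t : F, hF.xg r t ∈ ⁅D.group F, D.group F⁆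

theorem inDerived_step {two : Bool} (h2 : two = true → (2 : F) ≠ 0) {known : List ℕ}
    (hk : ∀ r ∈ known, hF.InDerived F r) {e : ℕ × ℕ × ℕ} (h : okPerfStep D two known e = true) :
    hF.InDerived F e.1 := by
  obtain ⟨k, r, s⟩ := e
  simp only [okPerfStep, Bool.and_eq_true, decide_eq_true_eq, bne_iff_ne, beq_iff_eq] at h
  obtain ⟨⟨⟨⟨⟨hr, hs⟩, hne1⟩, hne2⟩, hlen⟩, hall⟩ := h
  rw [List.all_eq_true] at hall
  intro t
  obtain ⟨c, hc, hck⟩ : ∃ c ∈ D.commTerms r s, c.1 = k := by
    obtain ⟨c, hc⟩ := List.exists_mem_of_length_pos (l := (D.commTerms r s).filter fun c => c.1 == k)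
      (by omega)
    rw [List.mem_filter, beq_iff_eq] at hc
    exact ⟨c, hc⟩
  have hc' := hall c hc
  rw [if_pos (by simp [hck])] at hc'
  simp only [Bool.and_eq_true, Bool.or_eq_true, beq_iff_eq] at hc'
  obtain ⟨hj, hC⟩ := hc'
  have hne : (c.2.1 : F) ≠ 0 := by
    rcases hC with h1 | ⟨ht, h1⟩
    · rcases Int.natAbs_eq c.2.1 with h' | h' <;> rw [h', h1] <;> simp
    · rcases Int.natAbs_eq c.2.1 with h' | h' <;> rw [h', h1] <;> simpa using h2 ht
  have hu : (c.2.1 : F) * (-1) ^ c.2.2.1 ≠ 0 := mul_ne_zero hne (pow_ne_zero _ (neg_ne_zero.2 one_ne_zero))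
  set u := ((c.2.1 : F) * (-1) ^ c.2.2.1)⁻¹ * t with hudef
  have h := (hF.sys F).x_comm r s hr hs hne1 hne2 1 u
  simp only [sys_x] at h
  have hprod : ((D.commWord F r s 1 u).map fun p => hF.xg p.1 p.2).prod ∈ ⁅D.group F, D.group F⁆ := by
    have e : ((D.commWord F r s 1 u).map fun p => hF.xg p.1 p.2).prod =
        ⁅(hF.xg s u)⁻¹, (hF.xg r (1 : F))⁻¹⁆ := by
      rw [← mul_right_inj (hF.xg r (1 : F) * hF.xg s u), ← h, commutatorElement_def]
      group
    rw [e]
    exact Subgroup.commutator_mem_commutator (inv_mem (hF.xg_mem_group _ _))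
      (inv_mem (hF.xg_mem_group _ _))
  rw [ChevalleyDatum.commWord, List.map_map] at hprod
  have := middle_mem _ _ (fun c => c.1 == k) (D.commTerms r s) hprod (fun d hd hdk => ?_) hlen c hc
    (by simp [hck])
  · simp only [Function.comp_apply, hck, hj, pow_one] at this
    rwa [hudef, ← mul_assoc, mul_inv_cancel₀ hu, one_mul] at this
  · have hd' := hall d hd
    rw [if_neg (by simpa using hdk)] at hd'
    exact hk d.1 (by simpa using hd') _

theorem inDerived_cert {two : Bool} (h2 : two = true → (2 : F) ≠ 0) :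
    ∀ (L : List (ℕ × ℕ × ℕ)) (known : List ℕ), (∀ r ∈ known, hF.InDerived F r) →
      okPerf D two known L = true → ∀ i, i < D.rank → hF.InDerived F (D.simple i)
  | [], known, hk, h, i, hi => by
    simp only [okPerf, List.all_eq_true, List.mem_range, List.contains_iff_mem] at h
    exact hk _ (h i hi)
  | e :: L, known, hk, h, i, hi => by
    simp only [okPerf, Bool.and_eq_true] at h
    refine inDerived_cert h2 L _ (fun r hr => ?_) h.2 i hi
    rcases List.mem_cons.1 hr with rfl | hr
    · exact hF.inDerived_step h2 hk h.1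
    · exact hk r hr

theorem derived_eq_of_simple (h : ∀ i, i < D.rank → hF.InDerived F (D.simple i)) :
    ⁅D.group F, D.group F⁆ = D.group F := by
  refine le_antisymm (Subgroup.commutator_le_self _) ?_
  have hnorm : ∀ g ∈ D.group F, ∀ x ∈ ⁅D.group F, D.group F⁆, g * x * g⁻¹ ∈ ⁅D.group F, D.group F⁆ := by
    intro g hg x hx
    have he : g * x * g⁻¹ = ⁅g, x⁆ * x := by rw [commutatorElement_def]; group
    rw [he]
    exact mul_mem (Subgroup.commutator_mem_commutator hg (Subgroup.commutator_le_self _ hx)) hx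
  have hall : ∀ r, r < D.nroots → hF.InDerived F r := by
    refine hF.simple_induction _ h fun i hi r hr ih t => ?_
    have h1 := (hF.tsys F).nS_conj ⟨i, hi⟩ hr (hF.sgn F i r * t)
    rw [← mul_assoc, hF.sgn_mul_self hi hr, one_mul, hF.tsys_x, hF.tsys_x] at h1
    rw [← h1]
    exact hnorm _ (hF.monomial_le_group (by rw [← hF.tsys_N]; exact (hF.tsys F).nS_mem_N _)) _ (ih _)
  conv_lhs => rw [hF.group_eq]
  refine (Subgroup.closure_le _).2 ?_
  rintro g ⟨⟨r, t⟩, rfl⟩
  by_cases hr : r < D.nroots
  · exact hall r hr t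
  · simp only [hF.xg_out (not_lt.1 hr), SetLike.mem_coe, one_mem]

theorem inDerived_torus {a : F} (ha : a ≠ 0) (ha2 : a ^ 2 ≠ 1) (i : ℕ) (hi : i < D.rank) :
    hF.InDerived F (D.simple i) := by
  intro t
  have hα := hF.simple_lt i hi
  set h := torus D F (hCoord D (D.simple i) (Units.mk0 a ha)) with hh
  have hG : h ∈ D.group F := by
    rw [hh, ← hF.hg_eq_torus hα]
    exact hF.wg_mem_group _
  have hc : (torChar D (hCoord D (D.simple i) (Units.mk0 a ha)) (D.simple i) : F) = a ^ 2 := by
    rw [hF.torChar_simple hi, hF.cartan_simple i hi, Units.val_zpow_eq_zpow_val, Units.val_mk0, _root_.zpow_two, pow_two]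
  have hd : a ^ 2 - 1 ≠ 0 := sub_ne_zero.2 ha2
  have e : hF.xg (D.simple i) t = ⁅h, hF.xg (D.simple i) (t / (a ^ 2 - 1))⁆ := by
    rw [commutatorElement_def, hh, hF.torus_conj _ hα, hc, ← hF.xg_neg, ← hF.xg_add]
    congr 1
    field_simp
    ring
  rw [e]
  exact Subgroup.commutator_mem_commutator hG (hF.xg_mem_group _ _)

include hF in
theorem commutator_top_of_eq (h : ⁅D.group F, D.group F⁆ = D.group F) :
    commutator ↥(D.group F) = ⊤ := by
  apply Subgroup.map_injective (D.group F).subtype_injective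
  rw [Subgroup.map_subtype_commutator, h, ← MonoidHom.range_eq_map, Subgroup.range_subtype]

end Facts

/-- Certificates. -/
def perfG2 : List (ℕ × ℕ × ℕ) := [(6, 1, 11), (5, 0, 10), (10, 5, 11), (7, 3, 9)]
/-- Certificates. -/
def perfB2 : List (ℕ × ℕ × ℕ) := [(4, 2, 6), (3, 1, 5), (5, 1, 7)]
/-- Certificates. -/
def perfD4 : List (ℕ × ℕ × ℕ) := [(18, 6, 22), (14, 1, 23), (13, 3, 22), (12, 2, 22)]
/-- Certificates. -/
def perfF4 : List (ℕ × ℕ × ℕ) := [(33, 7, 44), (27, 8, 40), (25, 2, 46), (24, 1, 47)]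
/-- Certificates. -/
def perfE6 : List (ℕ × ℕ × ℕ) := [(56, 16, 66), (46, 1, 71), (42, 5, 69), (39, 2, 70), (37, 3, 69), (36, 4, 68)]
/-- Certificates. -/
def perfE7 : List (ℕ × ℕ × ℕ) :=
  [(93, 1, 125), (78, 7, 122), (73, 2, 124), (69, 3, 123), (66, 4, 122), (64, 5, 121), (63, 6, 120)]
/-- Certificates. -/
def perfE8 : List (ℕ × ℕ × ℕ) :=
  [(162, 14, 233), (141, 7, 234), (135, 6, 234), (130, 5, 235), (126, 4, 236), (123, 3, 237), (121, 2, 238),
    (120, 1, 239)]

theorem okPerfG2 : okPerf chevG2 true [] perfG2 = true := by decide +kernel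
theorem okPerfB2 : okPerf chevB2 true [] perfB2 = true := by decide +kernel
theorem okPerfD4 : okPerf chevD4 false [] perfD4 = true := by decide +kernel
theorem okPerfF4 : okPerf chevF4 false [] perfF4 = true := by decide +kernel
theorem okPerfE6 : okPerf chevE6 false [] perfE6 = true := by decide +kernel
theorem okPerfE7 : okPerf chevE7 false [] perfE7 = true := by decide +kernel
theorem okPerfE8 : okPerf chevE8 false [] perfE8 = true := by decide +kernel

theorem perfect_small {L : List (ℕ × ℕ × ℕ)} (hF : Facts D) (hL : okPerf D true [] L = true)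
    (h : ∃ a : F, a ≠ 0 ∧ a ≠ 1) : ⁅D.group F, D.group F⁆ = D.group F := by
  obtain ⟨a, ha, ha1⟩ := h
  by_cases ha2 : a ^ 2 = 1
  · refine hF.derived_eq_of_simple (hF.inDerived_cert (fun _ h2 => ha1 ?_) L [] (by simp) hL)
    rcases sq_eq_one_iff.1 ha2 with h' | h'
    · exact h'
    · rw [h']
      exact neg_eq_iff_add_eq_zero.2 (by rw [← h2]; norm_num)
  · exact hF.derived_eq_of_simple (hF.inDerived_torus ha ha2)

theorem perfect_big {L : List (ℕ × ℕ × ℕ)} (hF : Facts D) (hL : okPerf D false [] L = true) :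
    ⁅D.group F, D.group F⁆ = D.group F :=
  hF.derived_eq_of_simple (hF.inDerived_cert (fun h => absurd h Bool.false_ne_true) L [] (by simp) hL)

theorem derived_eq {D : ChevalleyDatum}
    (hD : D ∈ [chevG2, chevB2, chevD4, chevF4, chevE6, chevE7, chevE8])
    (h2 : D = chevG2 ∨ D = chevB2 → ∃ a : F, a ≠ 0 ∧ a ≠ 1) :
    ⁅D.group F, D.group F⁆ = D.group F := by
  obtain ⟨hF⟩ := facts_of_mem hD
  simp only [List.mem_cons, List.not_mem_nil, or_false] at hD
  rcases hD with rfl | rfl | rfl | rfl | rfl | rfl | rfl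
  · exact perfect_small hF okPerfG2 (h2 (Or.inl rfl))
  · exact perfect_small hF okPerfB2 (h2 (Or.inr rfl))
  · exact perfect_big hF okPerfD4
  · exact perfect_big hF okPerfF4
  · exact perfect_big hF okPerfE6
  · exact perfect_big hF okPerfE7
  · exact perfect_big hF okPerfE8

end Cfsg.Agent.Lie
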