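import Cfsg.Agent.Lib.Lie.DataG2
import Cfsg.Agent.Lib.Lie.CertSound

/-! The facts about the datum of type G2, checked by the kernel. -/

set_option autoImplicit false
set_option maxRecDepth 100000

namespace Cfsg.Agent.Lie

open Cfsg.Lie

theorem certG2_okShape : certG2.okShape chevG2 = true := by decide +kernel

theorem certG2_okChain : certG2.okChain chevG2 = true := by decide +kernel

theorem certG2_okRoots : certG2.okRoots = true := by decide +kernel

theorem certG2_okReps : certG2.okReps chevG2 = true := by decide +kernel

theorem certG2_okRefl0 : certG2.okRefl 0 = true := by decide +kernel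

theorem certG2_okRefl1 : certG2.okRefl 1 = true := by decide +kernel

theorem certG2_okChainRefl0 : certG2.okChainRefl chevG2 0 = true := by decide +kernel

theorem certG2_okChainRefl1 : certG2.okChainRefl chevG2 1 = true := by decide +kernel

theorem certG2_okN0 : certG2.okN chevG2 0 = true := by decide +kernel

theorem certG2_okN1 : certG2.okN chevG2 1 = true := by decide +kernel

theorem nonempty_factsG2 : Nonempty (Facts chevG2) := by
  refine Cert.facts_of_checks (c := certG2) certG2_okShape certG2_okChain certG2_okRoots ?_ ?_ ?_ certG2_okReps
    (by decide +kernel) <;>
    (intro i hi; have hi' : i < 2 := hi; interval_cases i)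
  · exact certG2_okRefl0
  · exact certG2_okRefl1
  · exact certG2_okChainRefl0
  · exact certG2_okChainRefl1
  · exact certG2_okN0
  · exact certG2_okN1

/-- The facts about the datum of type G2. -/
noncomputable def factsG2 : Facts chevG2 := Classical.choice nonempty_factsG2

end Cfsg.Agent.Lie
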