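import Cfsg.Agent.Lib.Lie.Sparse
import Cfsg.Prelude.Def_Steinberg

/-!
Small representations of the group presented by Steinberg's relations, given by term lists and
checked as identities of polynomial matrices.
-/

set_option autoImplicit false

namespace Cfsg.Agent.Lie

open Cfsg.Lie Matrix
open scoped MatrixGroups

/-- The data: terms of x_r(t) − 1 and the weights of h_r. -/
structure SRep where
  /-- dimension -/
  N : ℕ
  /-- terms in the first variable -/
  ent : ℕ → List Tm
  /-- weights -/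
  wt : ℕ → ℕ → ℤ

namespace SRep

variable (S : SRep)

/-- The identity. -/
def oneL : List Tm := (List.range S.N).map fun i => ⟨i, i, 0, 0, 1⟩

/-- x_r evaluated at k t^i u^j. -/
def xL (r : ℕ) (k : ℤ) (i j : ℕ) : List Tm :=
  S.oneL ++ (S.ent r).map fun m => ⟨m.row, m.col, i * m.a, j * m.a, m.c * k ^ m.a⟩

/-- x_r at t + u. -/
def xAdd (r : ℕ) : List Tm :=
  S.oneL ++ (S.ent r).flatMap fun m =>
    if m.a = 1 then [⟨m.row, m.col, 1, 0, m.c⟩, ⟨m.row, m.col, 0, 1, m.c⟩]
    else [⟨m.row, m.col, 2, 0, m.c⟩, ⟨m.row, m.col, 1, 1, 2 * m.c⟩, ⟨m.row, m.col, 0, 2, m.c⟩]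

/-- n_r(t) with u standing for the inverse of t. -/
def nL (D : ChevalleyDatum) (r : ℕ) : List Tm :=
  mulL S.N (mulL S.N (S.xL r 1 1 0) (S.xL (D.neg r) (-1) 0 1)) (S.xL r 1 1 0)

/-- n_r(-1). -/
def nOne (D : ChevalleyDatum) (r : ℕ) : List Tm :=
  mulL S.N (mulL S.N (S.xL r (-1) 0 0) (S.xL (D.neg r) 1 0 0)) (S.xL r (-1) 0 0)

/-- Cancel t against u. -/
def reduceL (L : List Tm) : List Tm := L.map fun m => ⟨m.row, m.col, m.a - m.b, m.b - m.a, m.c⟩

/-- diag t^wt. -/
def diagL (r : ℕ) : List Tm :=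
  (List.range S.N).map fun i => ⟨i, i, (S.wt r i).toNat, (-S.wt r i).toNat, 1⟩

/-- All relations. -/
def okRels (D : ChevalleyDatum) : Bool :=
  decide (S.N ≤ 512) && ((List.range D.nroots).all fun r =>
    ((S.ent r).all fun m => (m.a == 1 || m.a == 2) && m.b == 0) &&
    eqL (mulL S.N (S.xL r 1 1 0) (S.xL r 1 0 1)) (S.xAdd r) &&
    eqL (reduceL (mulL S.N (S.nL D r) (S.nOne D r))) (S.diagL r) &&
    (List.range D.nroots).all fun s => s == r || s == D.neg r ||
      eqL (mulL S.N (S.xL s 1 0 1) (S.xL r 1 1 0))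
        ((D.commTerms r s).foldl (fun M c => mulL S.N M (S.xL c.1 (c.2.1 * (-1) ^ c.2.2.1) c.2.2.1 c.2.2.2))
          (mulL S.N (S.xL r 1 1 0) (S.xL s 1 0 1))))

variable {ι : Type} [Fintype ι] [DecidableEq ι] (e : ι ≃ Fin S.N) (F : Type*) [Field F]

/-- x_r(t). -/
noncomputable def mat (r : ℕ) (t : F) : Matrix ι ι F :=
  1 + evL e t t ((S.ent r).map fun m => ⟨m.row, m.col, m.a, 0, m.c⟩)

variable {S e F}

theorem evL_oneL (t u : F) : evL e t u S.oneL = 1 := by
  ext p q
  rw [evL, oneL, List.map_map]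
  have h : ∀ (L : List (Matrix ι ι F)), L.sum p q = (L.map fun M : Matrix ι ι F => M p q).sum := by
    intro L; induction L with
    | nil => simp
    | cons a L ih => simp [ih]
  rw [h, List.map_map, ← List.sum_toFinset _ List.nodup_range, List.toFinset_range, Matrix.one_apply]
  simp only [Function.comp_def, Tm.ev, Matrix.smul_apply, matUnit_apply, smul_eq_mul, pow_zero, mul_one,
    Int.cast_one, one_mul, ite_and]
  rw [Finset.sum_ite_eq, if_pos (Finset.mem_range.2 (e p).isLt)]
  exact if_congr ⟨fun h => e.injective (Fin.ext h.symm), fun h => by rw [h]⟩ rfl rfl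

theorem evL_xL (r : ℕ) (k : ℤ) (i j : ℕ) (t u : F) :
    evL e t u (S.xL r k i j) = S.mat e F r ((k : F) * t ^ i * u ^ j) := by
  rw [xL, evL_append, evL_oneL, mat]
  congr 1
  induction S.ent r with
  | nil => rfl
  | cons m L ih =>
    simp only [List.map_cons, evL_cons, ih]
    congr 1
    simp only [Tm.ev, Int.cast_mul, Int.cast_pow, mul_pow, ← pow_mul, pow_zero, mul_one]
    ring_nf

theorem evL_reduceL {t u : F} (h : t * u = 1) (L : List Tm) : evL e t u (reduceL L) = evL e t u L := by
  refine evL_map_eq e _ L fun m _ => ?_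
  simp only [Tm.ev]
  congr 1
  rcases le_total m.a m.b with hab | hab
  · obtain ⟨d, hd⟩ := Nat.exists_eq_add_of_le hab
    rw [Nat.sub_eq_zero_of_le hab, hd, Nat.add_sub_cancel_left, pow_add]
    rw [show (m.c : F) * t ^ m.a * (u ^ m.a * u ^ d) = (m.c : F) * (t * u) ^ m.a * u ^ d by ring, h]
    simp
  · obtain ⟨d, hd⟩ := Nat.exists_eq_add_of_le hab
    rw [Nat.sub_eq_zero_of_le hab, hd, Nat.add_sub_cancel_left, pow_add]
    rw [show (m.c : F) * (t ^ m.b * t ^ d) * u ^ m.b = (m.c : F) * (t * u) ^ m.b * t ^ d by ring, h]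
    simp

theorem evL_diagL (r : ℕ) {t : F} (ht : t ≠ 0) :
    evL e t t⁻¹ (S.diagL r) = Matrix.diagonal fun p => t ^ S.wt r (e p) := by
  ext p q
  rw [evL, diagL, List.map_map]
  have h : ∀ (L : List (Matrix ι ι F)), L.sum p q = (L.map fun M : Matrix ι ι F => M p q).sum := by
    intro L; induction L with
    | nil => simp
    | cons a L ih => simp [ih]
  rw [h, List.map_map, ← List.sum_toFinset _ List.nodup_range, List.toFinset_range]
  simp only [Function.comp_def, Tm.ev, Matrix.smul_apply, matUnit_apply, smul_eq_mul, Int.cast_one, one_mul,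
    ite_and, mul_ite, mul_one, mul_zero]
  rw [Finset.sum_ite_eq, if_pos (Finset.mem_range.2 (e p).isLt), Matrix.diagonal_apply]
  by_cases hpq : p = q
  · subst hpq
    rw [if_pos rfl, if_pos rfl, inv_pow, ← zpow_natCast, ← zpow_natCast, ← _root_.zpow_neg, ← zpow_add₀ ht]
    congr 1
    omega
  · rw [if_neg (fun h => hpq (e.injective (Fin.ext h.symm))), if_neg hpq]

theorem mat_out {r : ℕ} (h : S.ent r = []) (t : F) : S.mat e F r t = 1 := by simp [mat, h]

variable {D : ChevalleyDatum}

/-- The homomorphism. -/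
theorem exists_hom (hok : S.okRels D = true) (hneg : ∀ r, r < D.nroots → D.neg r < D.nroots)
    (hout : ∀ r, D.nroots ≤ r → S.ent r = []) :
    ∃ φ : D.SteinbergGroup F →* GL ι F,
      (∀ r t, (φ (D.stGen F r t) : Matrix ι ι F) = S.mat e F r t) ∧
      ∀ r, r < D.nroots → ∀ t : F, t ≠ 0 →
        (φ (PresentedGroup.mk (D.steinbergRels F) (D.stH r t)) : Matrix ι ι F) =
          Matrix.diagonal fun p => t ^ S.wt r (e p) := by
  simp only [okRels, Bool.and_eq_true, decide_eq_true_eq, List.all_eq_true, List.mem_range,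
    Bool.or_eq_true, beq_iff_eq] at hok
  obtain ⟨hN, hok⟩ := hok
  have hadd : ∀ r t u, S.mat e F r t * S.mat e F r u = S.mat e F r (t + u) := by
    intro r t u
    by_cases hr : r < D.nroots
    · obtain ⟨⟨⟨hdeg, ha⟩, -⟩, -⟩ := hok r hr
      have h := eqL_sound (R := F) e ha t u
      rw [evL_mulL e hN, evL_xL, evL_xL, xAdd, evL_append, evL_oneL] at h
      simp only [Int.cast_one, one_mul, pow_one, pow_zero, mul_one] at h
      rw [h, mat]
      congr 1
      rw [evL_flatMap, evL, List.map_map]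
      refine congrArg List.sum (List.map_congr_left fun m hm => ?_)
      rcases (hdeg m hm).1 with h1 | h1
      · simp [h1, Tm.ev, ← add_smul, mul_add]
      · simp only [h1, show ¬ (2 : ℕ) = 1 by omega, if_false, evL_cons, evL_nil, add_zero, Function.comp_apply,
          Tm.ev, ← add_smul, Int.cast_mul, Int.cast_ofNat, pow_zero, mul_one, pow_one]
        congr 1
        ring
    · simp [mat_out (hout r (not_lt.1 hr))]
  have hzero : ∀ r, S.mat e F r 0 = 1 := by
    intro r
    by_cases hr : r < D.nroots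
    · rw [mat, evL, List.map_map, add_eq_left]
      refine List.sum_eq_zero fun M hM => ?_
      obtain ⟨m, hm, rfl⟩ := List.mem_map.1 hM
      obtain ⟨⟨⟨hdeg, -⟩, -⟩, -⟩ := hok r hr
      rcases (hdeg m hm).1 with h1 | h1 <;> simp [Tm.ev, h1]
    · exact mat_out (hout r (not_lt.1 hr)) 0
  let g : ℕ → F → GL ι F := fun r t =>
    ⟨S.mat e F r t, S.mat e F r (-t), by rw [hadd, add_neg_cancel, hzero],
      by rw [hadd, neg_add_cancel, hzero]⟩
  have hX : ∀ r t, FreeGroup.lift (fun p : Fin D.nroots × F => g p.1.val p.2) (D.stX r t) = g r t := by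
    intro r t
    rw [ChevalleyDatum.stX]
    split_ifs with h
    · simp
    · rw [map_one]; exact Units.ext (mat_out (hout r (not_lt.1 h)) t).symm
  have hH : ∀ r, r < D.nroots → ∀ t : F, t ≠ 0 →
      (FreeGroup.lift (fun p : Fin D.nroots × F => g p.1.val p.2) (D.stH r t) : Matrix ι ι F) =
        Matrix.diagonal fun p => t ^ S.wt r (e p) := by
    intro r hr t ht
    obtain ⟨⟨-, hh⟩, -⟩ := hok r hr
    have h := eqL_sound (R := F) e hh t t⁻¹
    rw [evL_reduceL (mul_inv_cancel₀ ht), evL_diagL r ht, evL_mulL e hN, nL, nOne, evL_mulL e hN,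
      evL_mulL e hN, evL_mulL e hN, evL_mulL e hN, evL_xL, evL_xL, evL_xL, evL_xL] at h
    rw [← h, ChevalleyDatum.stH, ChevalleyDatum.stWord]
    simp [ChevalleyDatum.hWord, ChevalleyDatum.nWord, hX, g, mul_assoc]
  have hrels : ∀ x ∈ D.steinbergRels F, FreeGroup.lift (fun p : Fin D.nroots × F => g p.1.val p.2) x = 1 := by
    rintro x ((⟨r, t, u, hr, rfl⟩ | ⟨r, s, t, u, hr, hs, h1, h2, rfl⟩) | ⟨r, t, u, hr, ht, hu, rfl⟩)
    · rw [map_mul, map_mul, map_inv, mul_inv_eq_one, hX, hX, hX]
      exact Units.ext (hadd r t u)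
    · obtain ⟨-, hc⟩ := hok r hr
      rcases hc s hs with (hc | hc) | hc
      · exact absurd hc h1
      · exact absurd hc h2
      have h := eqL_sound (R := F) e hc t u
      have hfold : ∀ (l : List (ℕ × ℤ × ℕ × ℕ)) (M : List Tm),
          evL e t u (l.foldl (fun M c => mulL S.N M (S.xL c.1 (c.2.1 * (-1) ^ c.2.2.1) c.2.2.1 c.2.2.2)) M) =
            evL e t u M * ((l.map fun c => g c.1 ((c.2.1 : F) * (-t) ^ c.2.2.1 * u ^ c.2.2.2)).prod : GL ι F).val := by
        intro l
        induction l with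
        | nil => intro M; simp
        | cons c l ih =>
          intro M
          rw [List.foldl_cons, ih, evL_mulL e hN, evL_xL, List.map_cons, List.prod_cons, Units.val_mul, mul_assoc]
          congr 2
          simp only [g]
          congr 1
          rw [neg_pow t]
          push_cast
          ring
      rw [hfold, evL_mulL e hN, evL_mulL e hN, evL_xL, evL_xL] at h
      simp only [Int.cast_one, one_mul, pow_one, pow_zero, mul_one] at h
      have h' : g s u * g r t = g r t * g s u *
          FreeGroup.lift (fun p : Fin D.nroots × F => g p.1.val p.2) (D.stWord (D.commWord F r s t u)) := by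
        refine Units.ext ?_
        rw [ChevalleyDatum.stWord, map_list_prod, ChevalleyDatum.commWord, List.map_map, List.map_map]
        simp only [Function.comp_def, hX]
        exact h
      simp only [map_mul, map_inv, hX]
      rw [mul_inv_eq_one, mul_assoc (_ * _), h']
      group
    · rw [map_mul, map_mul, map_inv, mul_inv_eq_one]
      refine Units.ext ?_
      rw [Units.val_mul, hH r hr t ht, hH r hr u hu, hH r hr _ (mul_ne_zero ht hu), Matrix.diagonal_mul_diagonal]
      exact congrArg _ (funext fun p => (_root_.mul_zpow t u _).symm)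
  refine ⟨PresentedGroup.toGroup hrels, fun r t => ?_, fun r hr t ht => hH r hr t ht⟩
  exact congrArg Units.val (hX r t)

end SRep

end Cfsg.Agent.Lie
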