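import Cfsg.Agent.Lib.Lie.AllFacts
import Cfsg.Prelude.Def_ChevStructure

/-! Root coefficient functionals of the tabulated data. -/

set_option autoImplicit false
set_option maxRecDepth 100000

namespace Cfsg.Agent.Lie

open Cfsg.Lie

/-- A functional on weights from a list. -/
def coeffFun (l : List (List ℤ)) (i : ℕ) (k : ℕ) : ℤ := (l.getD i []).getD k 0

/-- Sign and support of the coefficient functionals. -/
def okCoeff (D : ChevalleyDatum) (l : List (List ℤ)) : Bool :=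
  (List.range D.nroots).all fun r => (List.range D.rank).all fun i =>
    let v := ((List.range D.rank).map fun k => coeffFun l i k * D.cartan k r).sum
    ((decide (v = 0)) == decide ((D.coroot.getD r #[]).getD i 0 = 0)) &&
      (if D.nroots / 2 ≤ r then decide (0 ≤ v) else decide (v ≤ 0))

/-- Coefficients. -/
def coeffG2 : List (List ℤ) := [[2, 3], [1, 2]]

theorem okCoeffG2 : okCoeff chevG2 coeffG2 = true := by decide +kernel

/-- Coefficients. -/
def coeffB2 : List (List ℤ) := [[1, 1], [1, 2]]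

theorem okCoeffB2 : okCoeff chevB2 coeffB2 = true := by decide +kernel

/-- Coefficients. -/
def coeffD4 : List (List ℤ) := [[2, 2, 1, 1], [1, 2, 1, 1], [1, 2, 2, 1], [1, 2, 1, 2]]

theorem okCoeffD4 : okCoeff chevD4 coeffD4 = true := by decide +kernel

/-- Coefficients. -/
def coeffF4 : List (List ℤ) := [[2, 3, 4, 2], [3, 6, 8, 4], [2, 4, 6, 3], [1, 2, 3, 2]]

theorem okCoeffF4 : okCoeff chevF4 coeffF4 = true := by decide +kernel

/-- Coefficients. -/
def coeffE6 : List (List ℤ) := [[4, 3, 5, 6, 4, 2], [1, 2, 2, 3, 2, 1], [5, 6, 10, 12, 8, 4], [2, 3, 4, 6, 4, 2], [4, 6, 8, 12, 10, 5], [2, 3, 4, 6, 5, 4]]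

theorem okCoeffE6 : okCoeff chevE6 coeffE6 = true := by decide +kernel

/-- Coefficients. -/
def coeffE7 : List (List ℤ) := [[2, 2, 3, 4, 3, 2, 1], [4, 7, 8, 12, 9, 6, 3], [3, 4, 6, 8, 6, 4, 2], [4, 6, 8, 12, 9, 6, 3], [6, 9, 12, 18, 15, 10, 5], [2, 3, 4, 6, 5, 4, 2], [2, 3, 4, 6, 5, 4, 3]]

theorem okCoeffE7 : okCoeff chevE7 coeffE7 = true := by decide +kernel

/-- Coefficients. -/
def coeffE8 : List (List ℤ) := [[4, 5, 7, 10, 8, 6, 4, 2], [5, 8, 10, 15, 12, 9, 6, 3], [7, 10, 14, 20, 16, 12, 8, 4], [10, 15, 20, 30, 24, 18, 12, 6], [8, 12, 16, 24, 20, 15, 10, 5], [6, 9, 12, 18, 15, 12, 8, 4], [4, 6, 8, 12, 10, 8, 6, 3], [2, 3, 4, 6, 5, 4, 3, 2]]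

theorem okCoeffE8 : okCoeff chevE8 coeffE8 = true := by decide +kernel

theorem coeff_of_mem {D : ChevalleyDatum}
    (hD : D ∈ [chevG2, chevB2, chevD4, chevF4, chevE6, chevE7, chevE8]) : ∃ l, okCoeff D l = true := by
  simp only [List.mem_cons, List.not_mem_nil, or_false] at hD
  rcases hD with rfl | rfl | rfl | rfl | rfl | rfl | rfl
  exacts [⟨_, okCoeffG2⟩, ⟨_, okCoeffB2⟩, ⟨_, okCoeffD4⟩, ⟨_, okCoeffF4⟩, ⟨_, okCoeffE6⟩, ⟨_, okCoeffE7⟩,
    ⟨_, okCoeffE8⟩]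

end Cfsg.Agent.Lie
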