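import Cfsg.Agent.Lib.Lie.BruhatPair
import Cfsg.Agent.Lib.Lie.Coeff

/-!
Parabolic subgroups and their Levi decomposition.
-/

set_option autoImplicit false

namespace Cfsg.Agent.Lie

open Cfsg.Lie Matrix
open scoped MatrixGroups

variable {D : ChevalleyDatum} {F : Type*} [Field F]

/-- Subgroup of elements g with g and g⁻¹ graded of degree zero. -/
def gradedSubgroup {ι : Type*} [Fintype ι] [DecidableEq ι] (φ : ι → ℤ) : Subgroup (GL ι F) where
  carrier := {g | (∀ p q, (g : Matrix ι ι F) p q ≠ 0 → φ p = φ q) ∧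
    ∀ p q, (↑g⁻¹ : Matrix ι ι F) p q ≠ 0 → φ p = φ q}
  one_mem' := by
    have h : ∀ p q : ι, (1 : Matrix ι ι F) p q ≠ 0 → φ p = φ q := by
      intro p q h
      by_cases hpq : p = q
      · rw [hpq]
      · exact absurd (Matrix.one_apply_ne hpq) h
    exact ⟨by simpa using h, by simpa using h⟩
  inv_mem' := fun {g} ⟨h1, h2⟩ => ⟨h2, by simpa using h1⟩
  mul_mem' := by
    intro a b ha hb
    have key : ∀ M N : Matrix ι ι F, (∀ p q, M p q ≠ 0 → φ p = φ q) →
        (∀ p q, N p q ≠ 0 → φ p = φ q) → ∀ p q, (M * N) p q ≠ 0 → φ p = φ q := by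
      intro M N hM hN p q h
      rw [Matrix.mul_apply] at h
      obtain ⟨r, -, hr⟩ := Finset.exists_ne_zero_of_sum_ne_zero h
      rw [hM p r (left_ne_zero_of_mul hr), hN r q (right_ne_zero_of_mul hr)]
    refine ⟨?_, ?_⟩
    · rw [Units.val_mul]; exact key _ _ ha.1 hb.1
    · rw [_root_.mul_inv_rev, Units.val_mul]; exact key _ _ hb.2 ha.2

/-- Subgroup of elements congruent to 1 above the diagonal of a grading. -/
def raiseGraded {ι : Type*} [Fintype ι] [DecidableEq ι] (φ : ι → ℤ) : Subgroup (GL ι F) where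
  carrier := {g | (∀ p q, ((g : Matrix ι ι F) - 1) p q ≠ 0 → φ q < φ p) ∧
    ∀ p q, ((↑g⁻¹ : Matrix ι ι F) - 1) p q ≠ 0 → φ q < φ p}
  one_mem' := by simp
  inv_mem' := fun {g} ⟨h1, h2⟩ => ⟨h2, by simpa using h1⟩
  mul_mem' := by
    intro a b ha hb
    have key : ∀ M N : Matrix ι ι F, (∀ p q, (M - 1) p q ≠ 0 → φ q < φ p) →
        (∀ p q, (N - 1) p q ≠ 0 → φ q < φ p) → ∀ p q, (M * N - 1) p q ≠ 0 → φ q < φ p := by
      intro M N hM hN p q h
      rw [show M * N - 1 = (M - 1) * (N - 1) + ((M - 1) + (N - 1)) by noncomm_ring,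
        Matrix.add_apply, Matrix.add_apply] at h
      by_contra hc
      have h1 : (M - 1) p q = 0 := by_contra fun h' => hc (hM p q h')
      have h2 : (N - 1) p q = 0 := by_contra fun h' => hc (hN p q h')
      rw [h1, h2, add_zero, add_zero, Matrix.mul_apply] at h
      obtain ⟨r, -, hr⟩ := Finset.exists_ne_zero_of_sum_ne_zero h
      exact hc ((hN r q (right_ne_zero_of_mul hr)).trans (hM p r (left_ne_zero_of_mul hr)))
    refine ⟨?_, ?_⟩
    · rw [Units.val_mul]; exact key _ _ ha.1 hb.1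
    · rw [_root_.mul_inv_rev, Units.val_mul]; exact key _ _ hb.2 ha.2

theorem graded_inter_raise {ι : Type*} [Fintype ι] [DecidableEq ι] {φ : ι → ℤ} {g : GL ι F}
    (h1 : g ∈ gradedSubgroup φ) (h2 : g ∈ raiseGraded φ) : g = 1 := by
  refine Units.ext (sub_eq_zero.1 ?_)
  rw [Units.val_one]
  ext p q
  rw [Matrix.zero_apply]
  by_contra h
  have hlt := h2.1 p q h
  by_cases hpq : p = q
  · rw [hpq] at hlt; exact lt_irrefl _ hlt
  · have h' : (g : Matrix ι ι F) p q ≠ 0 := by
      simpa [Units.val_one, Matrix.sub_apply, Matrix.one_apply_ne hpq] using h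
    exact hlt.ne' (h1.1 p q h')

namespace Facts

variable (hF : Facts D)

/-- The weight functional of the nodes outside J. -/
noncomputable def wJ (D : ChevalleyDatum) (l : List (List ℤ)) (J : Set ℕ) (k : ℕ) : ℤ := by
  classical exact ∑ i ∈ (Finset.range D.rank).filter (fun i => i ∉ J), coeffFun l i k

theorem coeff_spec {l : List (List ℤ)} (hl : okCoeff D l = true) {r i : ℕ} (hr : r < D.nroots)
    (hi : i < D.rank) :
    (psiOf D (coeffFun l i) r = 0 ↔ (D.coroot.getD r #[]).getD i 0 = 0) ∧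
      (D.nroots / 2 ≤ r → 0 ≤ psiOf D (coeffFun l i) r) ∧
      (r < D.nroots / 2 → psiOf D (coeffFun l i) r ≤ 0) := by
  simp only [okCoeff, List.all_eq_true, List.mem_range, Bool.and_eq_true, beq_iff_eq] at hl
  obtain ⟨h1, h2⟩ := hl r hr i hi
  have e : ((List.range D.rank).map fun k => coeffFun l i k * D.cartan k r).sum =
      psiOf D (coeffFun l i) r := by
    unfold psiOf
    induction D.rank with
    | zero => simp
    | succ n ih => rw [List.range_succ, List.map_append, List.sum_append, ih, Finset.sum_range_succ]; simp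
  rw [e] at h1 h2
  refine ⟨decide_eq_decide.1 h1, fun hp => ?_, fun hn => ?_⟩
  · rw [if_pos hp] at h2; exact of_decide_eq_true h2
  · rw [if_neg (not_le.2 hn)] at h2; exact of_decide_eq_true h2

theorem psiOf_wJ (l : List (List ℤ)) (J : Set ℕ) [DecidablePred (· ∉ J)] (r : ℕ) :
    psiOf D (wJ D l J) r =
      ∑ i ∈ (Finset.range D.rank).filter (fun i => i ∉ J), psiOf D (coeffFun l i) r := by
  simp only [psiOf, wJ, Finset.sum_mul]
  rw [Finset.sum_comm]
  congr 1
  ext i
  simp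

section

variable {l : List (List ℤ)} (hl : okCoeff D l = true) (J : Set ℕ)

include hl in
theorem wJ_spec {r : ℕ} (hr : r < D.nroots) :
    (psiOf D (wJ D l J) r = 0 ↔ D.InRootSub J r) ∧
      (D.nroots / 2 ≤ r → 0 ≤ psiOf D (wJ D l J) r) ∧
      (r < D.nroots / 2 → psiOf D (wJ D l J) r ≤ 0) := by
  classical
  rw [psiOf_wJ]
  have hmem : ∀ i ∈ (Finset.range D.rank).filter (fun i => i ∉ J), i < D.rank := fun i hi =>
    Finset.mem_range.1 (Finset.mem_filter.1 hi).1
  refine ⟨⟨fun h => ⟨hr, fun i hi hiJ => ?_⟩, fun h => ?_⟩,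
    fun hp => Finset.sum_nonneg fun i hi => (coeff_spec hl hr (hmem i hi)).2.1 hp,
    fun hn => Finset.sum_nonpos fun i hi => (coeff_spec hl hr (hmem i hi)).2.2 hn⟩
  · have himem : i ∈ (Finset.range D.rank).filter (fun i => i ∉ J) :=
      Finset.mem_filter.2 ⟨Finset.mem_range.2 hi, hiJ⟩
    refine (coeff_spec hl hr hi).1.1 ?_
    by_cases hp : D.nroots / 2 ≤ r
    · exact (Finset.sum_eq_zero_iff_of_nonneg fun i hi => (coeff_spec hl hr (hmem i hi)).2.1 hp).1 h i himem
    · exact (Finset.sum_eq_zero_iff_of_nonpos fun i hi =>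
        (coeff_spec hl hr (hmem i hi)).2.2 (not_le.1 hp)).1 h i himem
  · exact Finset.sum_eq_zero fun i hi =>
      (coeff_spec hl hr (hmem i hi)).1.2 (h.2 i (hmem i hi) (Finset.mem_filter.1 hi).2)

include hF in
theorem inRootSub_simple {j : ℕ} (hj : j < D.rank) : D.InRootSub J (D.simple j) ↔ j ∈ J := by
  constructor
  · intro h
    by_contra hc
    have := h.2 j hj hc
    have e := hF.co_simple j hj j hj
    rw [co, this, if_pos rfl] at e
    exact zero_ne_one e
  · intro h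
    refine ⟨hF.simple_lt j hj, fun i hi hiJ => ?_⟩
    have e := hF.co_simple j hj i hi
    rw [co, if_neg (fun h' : i = j => hiJ (h' ▸ h))] at e
    exact e

include hF in
theorem inRootSub_refl {j r : ℕ} (hj : j < D.rank) (hjJ : j ∈ J) (h : D.InRootSub J r) :
    D.InRootSub J (D.reflectRoot j r) := by
  refine ⟨hF.refl_lt j hj r h.1, fun i hi hiJ => ?_⟩
  have e := hF.co_refl j hj r h.1 i hi
  rw [co, co, h.2 i hi hiJ, if_neg (fun h' : i = j => hiJ (h' ▸ hjJ)), sub_zero] at e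
  exact e

include hF in
theorem inRootSub_neg {r : ℕ} (h : D.InRootSub J r) : D.InRootSub J (D.neg r) := by
  refine ⟨hF.neg_lt h.1, fun i hi hiJ => ?_⟩
  have e := hF.co_neg r h.1 i hi
  rw [co, co, h.2 i hi hiJ, neg_zero] at e
  exact e

include hF in
theorem exists_refl_lt_J {r : ℕ} (h : D.InRootSub J r) (hr' : D.nroots / 2 ≤ r) :
    ∃ i, i < D.rank ∧ i ∈ J ∧ D.reflectRoot i r < r := by
  by_contra hc
  simp only [not_exists, not_and, not_lt] at hc
  have hA : ∀ j, j < D.rank → j ∈ J → D.cartan j r ≤ 0 := by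
    intro j hj hjJ
    by_contra hA
    have h1 := hF.psi_refl hj h.1
    have h2 := hF.psi_pos (hF.simple_lt j hj) (hF.simple_ge j hj)
    have h3 : hF.psi (D.reflectRoot j r) < hF.psi r := by nlinarith
    exact absurd (hF.lt_of_psi_lt (hF.refl_lt j hj r h.1) h3) (not_lt.2 (hc j hj hjJ))
  have h2 := hF.pairing_self r h.1
  have h0 : D.pairing r r ≤ 0 := by
    rw [pairing_eq]
    refine Finset.sum_nonpos fun j hj => ?_
    have hj' := Finset.mem_range.1 hj
    by_cases hjJ : j ∈ J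
    · exact mul_nonpos_of_nonneg_of_nonpos (hF.co_nonneg h.1 hr' j) (hA j hj' hjJ)
    · rw [co, h.2 j hj' hjJ, zero_mul]
  omega

theorem nS_mem_parabolic {j : ℕ} (hj : j < D.rank) (hjJ : j ∈ J) :
    (hF.tsys F).nS ⟨j, hj⟩ ∈ D.parabolicSubgroup F J :=
  Subgroup.mem_sup_right (Subgroup.subset_closure ⟨j, hjJ, hj, by rw [hF.tsys_nS, coe_ng]⟩)

theorem x_mem_parabolic {r : ℕ} (h : (D.nroots / 2 ≤ r ∧ r < D.nroots) ∨ D.InRootSub J r) (t : F) :
    hF.xg r t ∈ D.parabolicSubgroup F J := by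
  have hposB : ∀ r, D.nroots / 2 ≤ r → r < D.nroots → ∀ t, hF.xg r t ∈ D.parabolicSubgroup F J :=
    fun r h1 h2 t => Subgroup.mem_sup_left (by
      rw [← hF.tsys_B]; exact (hF.tsys F).U_le_B ((hF.tsys F).x_mem_U h1 h2 t))
  rcases h with ⟨h1, h2⟩ | h
  · exact hposB r h1 h2 t
  by_cases hp : D.nroots / 2 ≤ r
  · exact hposB r hp h.1 t
  suffices hneg : ∀ q, D.InRootSub J q → D.nroots / 2 ≤ q → ∀ t,
      hF.xg (D.neg q) t ∈ D.parabolicSubgroup F J by
    have := hneg (D.neg r) (hF.inRootSub_neg J h) ((hF.neg_ge_iff h.1).2 (not_le.1 hp)) t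
    rwa [hF.neg_neg h.1] at this
  intro q
  induction q using Nat.strong_induction_on with
  | _ q ih =>
    intro hq hq' t
    obtain ⟨i, hi, hiJ, hlt⟩ := hF.exists_refl_lt_J J hq hq'
    have hn := hF.nS_mem_parabolic (F := F) J hi hiJ
    by_cases hs : q = D.simple i
    · subst hs
      have h1 := (hF.tsys F).nS_conj ⟨i, hi⟩ hq.1 (hF.sgn F i (D.simple i) * t)
      rw [← mul_assoc, hF.sgn_mul_self hi hq.1, one_mul, Facts.refl_simple, hF.tsys_x, hF.tsys_x] at h1
      rw [← h1]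
      exact mul_mem (mul_mem hn (hposB _ hq' hq.1 _)) (inv_mem hn)
    · have hlow := hF.refl_lt i hi q hq.1
      have hlp := hF.refl_pos i hi q hq.1 hq' hs
      have hnl := hF.neg_lt hlow
      have h1 := (hF.tsys F).nS_conj ⟨i, hi⟩ hnl (hF.sgn F i (D.neg (D.reflectRoot i q)) * t)
      rw [← mul_assoc, hF.sgn_mul_self hi hnl, one_mul, hF.refl_neg i hi _ hlow,
        hF.refl_refl i hi q hq.1, hF.tsys_x, hF.tsys_x] at h1
      rw [← h1]
      exact mul_mem (mul_mem hn (ih _ hlt (hF.inRootSub_refl J hi hiJ hq) hlp _)) (inv_mem hn)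

include hF in
theorem parabolic_eq : D.parabolicSubgroup F J = D.diagonalSubgroup F ⊔
    Subgroup.closure {g : GL D.Idx F | ∃ (r : ℕ) (t : F), (D.IsPosRoot r ∨ D.InRootSub J r) ∧
      (g : Matrix D.Idx D.Idx F) = D.x F r t} := by
  apply le_antisymm
  · refine sup_le (sup_le ?_ le_sup_left) ((Subgroup.closure_le _).2 ?_)
    · refine ((Subgroup.closure_le _).2 ?_)
      rintro g ⟨r, t, hr, hg⟩
      exact Subgroup.mem_sup_right (Subgroup.subset_closure ⟨r, t, Or.inl hr, hg⟩)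
    · rintro g ⟨j, hjJ, hj, hg⟩
      rw [hF.eq_tsys_nS hj hg, hF.tsys_nS, hF.ng_eq]
      have h1 : D.InRootSub J (D.simple j) := (hF.inRootSub_simple J hj).2 hjJ
      have hx : ∀ r, D.InRootSub J r → ∀ t : F, hF.xg r t ∈ D.diagonalSubgroup F ⊔
          Subgroup.closure {g : GL D.Idx F | ∃ (r : ℕ) (t : F), (D.IsPosRoot r ∨ D.InRootSub J r) ∧
            (g : Matrix D.Idx D.Idx F) = D.x F r t} := fun r hr t =>
        Subgroup.mem_sup_right (Subgroup.subset_closure ⟨r, t, Or.inr hr, rfl⟩)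
      exact mul_mem (mul_mem (hx _ h1 _) (hx _ (hF.inRootSub_neg J h1) _)) (hx _ h1 _)
  · refine sup_le ((le_sup_right : D.diagonalSubgroup F ≤ D.borelSubgroup F).trans le_sup_left)
      ((Subgroup.closure_le _).2 ?_)
    rintro g ⟨r, t, hr, hg⟩
    rw [hF.eq_xg.1 hg]
    refine hF.x_mem_parabolic J (hr.imp (fun h => (hF.isPosRoot_iff r).1 h) id) t

/-- The positive roots outside Φ_J. -/
noncomputable def radL (D : ChevalleyDatum) (J : Set ℕ) : List ℕ := by
  classical exact (posL D).filter fun r => decide (¬ D.InRootSub J r)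

theorem mem_radL {r : ℕ} :
    r ∈ radL D J ↔ D.nroots / 2 ≤ r ∧ r < D.nroots ∧ ¬ D.InRootSub J r := by
  simp [radL, mem_posL, and_assoc]

include hF in
theorem unipotentRadical_eq : D.unipotentRadical F J = (hF.tsys F).US (radL D J) := by
  unfold ChevalleyDatum.unipotentRadical CommSys.US
  congr 1
  ext g
  simp only [Set.mem_ofPred_eq, tsys_x, mem_radL, hF.isPosRoot_iff, hF.eq_xg]
  constructor
  · rintro ⟨r, t, ⟨h1, h2⟩, h3, rfl⟩; exact ⟨r, ⟨h1, h2, h3⟩, t, rfl⟩
  · rintro ⟨r, ⟨h1, h2, h3⟩, t, rfl⟩; exact ⟨r, t, ⟨h1, h2⟩, h3, rfl⟩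

include hl in
theorem radL_iff {r : ℕ} (hr : r < D.nroots) : r ∈ radL D J ↔ 0 < psiOf D (wJ D l J) r := by
  obtain ⟨h0, hp, hn⟩ := wJ_spec hl J hr
  rw [mem_radL]
  constructor
  · rintro ⟨h1, -, h3⟩
    exact lt_of_le_of_ne (hp h1) fun h => h3 (h0.1 h.symm)
  · intro h
    refine ⟨?_, hr, fun h' => h.ne' (h0.2 h')⟩
    by_contra hc
    have := hn (not_le.1 hc)
    omega

include hF in
theorem psiOf_commTerms (w : ℕ → ℤ) {r s : ℕ} (hr : r < D.nroots) (hs : s < D.nroots) {c : ℕ × ℤ × ℕ × ℕ}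
    (hc : c ∈ D.commTerms r s) :
    psiOf D w c.1 = c.2.2.1 * psiOf D w r + c.2.2.2 * psiOf D w s := by
  simp only [psiOf, Finset.mul_sum, ← Finset.sum_add_distrib]
  refine Finset.sum_congr rfl fun j hj => ?_
  rw [(hF.commTerms_psi hr hs hc).2.2 j (Finset.mem_range.1 hj)]
  ring

include hF hl in
theorem x_normalizes_rad {r : ℕ} (h : (D.nroots / 2 ≤ r ∧ r < D.nroots) ∨ D.InRootSub J r) (t : F) :
    hF.xg r t ∈ Subgroup.normalizer (D.unipotentRadical F J : Set (GL D.Idx F)) := by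
  have hr : r < D.nroots := h.elim (·.2) (·.1)
  have hr0 : 0 ≤ psiOf D (wJ D l J) r := by
    rcases h with h | h
    · exact (wJ_spec hl J hr).2.1 h.1
    · exact ((wJ_spec hl J hr).1.2 h).ge
  rw [hF.unipotentRadical_eq]
  refine CommSys.x_normalizes _ hr (fun s hs => ?_) t
  obtain ⟨h1, h2, h3⟩ := (mem_radL J).1 hs
  have hs0 := (radL_iff hl J h2).1 hs
  refine ⟨h2, fun he => ?_, fun _ c hc => ?_⟩
  · have : psiOf D (wJ D l J) s = -psiOf D (wJ D l J) r := by rw [he, hF.psiOf_neg _ hr]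
    omega
  · have hlt := hF.commTerms_lt hr h2 c hc
    obtain ⟨a1, b1, -⟩ := hF.commTerms_psi hr h2 hc
    refine (radL_iff hl J hlt).2 ?_
    rw [hF.psiOf_commTerms _ hr h2 hc]
    have a1' : (1 : ℤ) ≤ c.2.2.1 := by exact_mod_cast a1
    have b1' : (1 : ℤ) ≤ c.2.2.2 := by exact_mod_cast b1
    nlinarith

include hF hl in
theorem rad_le_raise : D.unipotentRadical F J ≤
    (raiseGraded (hgtW (D := D) (wJ D l J)) : Subgroup (GL D.Idx F)) := by
  rw [hF.unipotentRadical_eq]
  refine CommSys.US_le _ fun r hr t => ?_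
  have h2 := ((mem_radL J).1 hr).2.1
  have h0 := (radL_iff hl J h2).1 hr
  have key : ∀ u : F, ∀ p q, (D.x F r u - 1) p q ≠ 0 →
      hgtW (D := D) (wJ D l J) q < hgtW (D := D) (wJ D l J) p := by
    intro u p q h
    obtain ⟨k, hk, he⟩ := hF.x_sub_one_suppW (wJ D l J) r h2 u p q h
    have : (1 : ℤ) ≤ k := by exact_mod_cast hk
    nlinarith
  refine ⟨key t, ?_⟩
  show ∀ p q, ((↑(hF.xg r t)⁻¹ : Matrix D.Idx D.Idx F) - 1) p q ≠ 0 → _
  rw [← hF.xg_neg]
  exact key (-t)

include hF hl in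
theorem levi_le_graded : D.leviSubgroup F J ≤
    (gradedSubgroup (hgtW (D := D) (wJ D l J)) : Subgroup (GL D.Idx F)) := by
  refine sup_le ?_ ((Subgroup.closure_le _).2 ?_)
  · intro a ha
    have key : ∀ b ∈ D.diagonalSubgroup F, ∀ p q, (b : Matrix D.Idx D.Idx F) p q ≠ 0 →
        hgtW (D := D) (wJ D l J) p = hgtW (D := D) (wJ D l J) q := by
      intro b hb p q h
      obtain ⟨d, hd⟩ := hF.diagonal_entry hb
      rw [hd] at h
      by_cases hpq : p = q
      · rw [hpq]
      · exact absurd (Matrix.diagonal_apply_ne d hpq) h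
    exact ⟨key a ha, key a⁻¹ (inv_mem ha)⟩
  · rintro g ⟨r, t, hr, hg⟩
    rw [hF.eq_xg.1 hg]
    have key : ∀ u : F, ∀ p q, (D.x F r u) p q ≠ 0 →
        hgtW (D := D) (wJ D l J) p = hgtW (D := D) (wJ D l J) q := by
      intro u p q h
      by_cases hpq : p = q
      · rw [hpq]
      · obtain ⟨k, -, he⟩ := hF.x_sub_one_suppW (wJ D l J) r hr.1 u p q
          (by rwa [Matrix.sub_apply, Matrix.one_apply_ne hpq, sub_zero])
        rw [(wJ_spec hl J hr.1).1.2 hr, mul_zero, sub_eq_zero] at he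
        exact he
    refine ⟨key t, ?_⟩
    show ∀ p q, (↑(hF.xg r t)⁻¹ : Matrix D.Idx D.Idx F) p q ≠ 0 → _
    rw [← hF.xg_neg]
    exact key (-t)

include hF hl in
theorem parabolic_normalizes :
    D.parabolicSubgroup F J ≤ Subgroup.normalizer (D.unipotentRadical F J : Set (GL D.Idx F)) := by
  rw [hF.parabolic_eq]
  refine sup_le ?_ ((Subgroup.closure_le _).2 ?_)
  · intro a ha
    rw [← hF.tsys_H] at ha
    rw [hF.unipotentRadical_eq, Subgroup.mem_normalizer_iff]
    have hL : ∀ r ∈ radL D J, r < D.nroots := fun r hr => ((mem_radL J).1 hr).2.1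
    refine fun u => ⟨(hF.tsys F).H_conj_US ha hL, fun h => ?_⟩
    have h2 := (hF.tsys F).H_conj_US (inv_mem ha) hL h
    rwa [show a⁻¹ * (a * u * a⁻¹) * a⁻¹⁻¹ = u by group] at h2
  · rintro g ⟨r, t, hr, hg⟩
    rw [hF.eq_xg.1 hg]
    exact hF.x_normalizes_rad hl J (hr.imp (fun h => (hF.isPosRoot_iff r).1 h) id) t

include hF hl in
theorem rad_sup_levi : D.unipotentRadical F J ⊔ D.leviSubgroup F J = D.parabolicSubgroup F J := by
  rw [hF.parabolic_eq]
  apply le_antisymm
  · refine sup_le ?_ (sup_le le_sup_left ?_)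
    · refine le_trans ?_ le_sup_right
      exact Subgroup.closure_mono fun g ⟨r, t, h1, _, hg⟩ => ⟨r, t, Or.inl h1, hg⟩
    · refine le_trans ?_ le_sup_right
      exact Subgroup.closure_mono fun g ⟨r, t, h1, hg⟩ => ⟨r, t, Or.inr h1, hg⟩
  · refine sup_le (le_sup_left.trans le_sup_right) ((Subgroup.closure_le _).2 ?_)
    rintro g ⟨r, t, hr, hg⟩
    by_cases hJ : D.InRootSub J r
    · exact Subgroup.mem_sup_right (Subgroup.mem_sup_right (Subgroup.subset_closure ⟨r, t, hJ, hg⟩))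
    · exact Subgroup.mem_sup_left
        (Subgroup.subset_closure ⟨r, t, hr.resolve_right hJ, hJ, hg⟩)

include hF hl in
theorem rad_inf_levi : D.unipotentRadical F J ⊓ D.leviSubgroup F J = ⊥ :=
  (Subgroup.eq_bot_iff_forall _).2 fun _ hg =>
    graded_inter_raise (hF.levi_le_graded hl J hg.2) (hF.rad_le_raise hl J hg.1)

include hl in
theorem nW_mem_parabolic_of_normalizes : ∀ w : hF.weyl,
    (hF.tsys F).nW w ∈ Subgroup.normalizer (D.unipotentRadical F J : Set (GL D.Idx F)) →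
      (hF.tsys F).nW w ∈ D.parabolicSubgroup F J := by
  intro w
  induction hn : hF.refSys.len w using Nat.strong_induction_on generalizing w with
  | _ n ih =>
    subst hn
    intro hw
    obtain ⟨ω, hω, hlen⟩ := hF.refSys.exists_reduced w
    rcases List.eq_nil_or_concat ω with rfl | ⟨q, i, rfl⟩
    · rw [RefSystem.pr_nil] at hω
      rw [← hω]
      exact Subgroup.mem_sup_left (by rw [← hF.tsys_B]; exact (hF.tsys F).H_le_B (hF.tsys F).nW_one)
    rw [List.concat_eq_append] at hω hlen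
    rw [RefSystem.pr_append, RefSystem.pr_singleton] at hω
    rw [List.length_append, List.length_singleton] at hlen
    have hneg : w • hF.refSys.α i ∉ hF.refSys.P := by
      intro hp
      have h1 := hF.refSys.len_mul_s_of_mem hp
      rw [show w * hF.refSys.s i = hF.refSys.pr q by rw [← hω, mul_assoc, hF.refSys.sq, mul_one]] at h1
      have := hF.refSys.len_pr_le q
      omega
    have hiJ : (i : ℕ) ∈ J := by
      by_contra hc
      have hrad : D.simple i.val ∈ radL D J :=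
        (mem_radL J).2 ⟨hF.simple_ge i i.isLt, hF.simple_lt i i.isLt,
          fun h => hc ((hF.inRootSub_simple J i.isLt).1 h)⟩
      obtain ⟨e, he, heq⟩ := hF.nW_conj (F := F) w (hF.refSys.α i)
      have hx : hF.xg (D.simple i.val) (1 : F) ∈ D.unipotentRadical F J := by
        rw [hF.unipotentRadical_eq]; exact CommSys.x_mem_US _ hrad 1
      have h2 := (Subgroup.mem_normalizer_iff.1 hw _).1 hx
      rw [show (hF.refSys.α i : Fin D.nroots).val = D.simple i.val from rfl] at heq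
      rw [heq] at h2
      have hU : hF.xg (w • hF.refSys.α i : Fin D.nroots).val (e * 1) ∈ (hF.tsys F).B := by
        rw [hF.unipotentRadical_eq] at h2
        exact (hF.tsys F).U_le_B (CommSys.US_mono _
          (fun r hr => mem_posL.2 ⟨((mem_radL J).1 hr).1, ((mem_radL J).1 hr).2.1⟩) h2)
      have h3 := congrArg Units.val (hF.B_inter_V hU (hF.x_mem_negUnipotent
        (by simpa [refSys] using hneg) _))
      rw [coe_xg, Units.val_one, hF.x_eq_one _ (Fin.isLt _), mul_one] at h3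
      exact left_ne_zero_of_mul_eq_one he h3
    have hnP := hF.nS_mem_parabolic (F := F) J i.isLt hiJ
    obtain ⟨c, hc, hce⟩ := (hF.tsys F).nw_eq (ω := TorusSys.word (hF.refSys.pr q) ++ [i]) (w := w)
      (by rw [RefSystem.pr_append, RefSystem.pr_singleton, TorusSys.pr_word, hω])
    rw [TorusSys.nw_append, TorusSys.nw_singleton] at hce
    have hcP : c ∈ D.parabolicSubgroup F J :=
      Subgroup.mem_sup_left (by rw [← hF.tsys_B]; exact (hF.tsys F).H_le_B hc)
    have hq : (hF.tsys F).nW (hF.refSys.pr q) = c * (hF.tsys F).nW w * ((hF.tsys F).nS i)⁻¹ := by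
      rw [← hce]; show _ = (hF.tsys F).nw _ * _ * _; rw [mul_inv_cancel_right]; rfl
    have h1 := hF.refSys.len_pr_le q
    have hq' := ih _ (by omega) (hF.refSys.pr q) rfl (by
      rw [hq]
      exact mul_mem (mul_mem (hF.parabolic_normalizes hl J hcP) hw)
        (inv_mem (hF.parabolic_normalizes hl J hnP)))
    rw [show (hF.tsys F).nW w = c⁻¹ * (hF.tsys F).nW (hF.refSys.pr q) * (hF.tsys F).nS i by
      rw [hq]; group]
    exact mul_mem (mul_mem (inv_mem hcP) hq') hnP

include hF hl in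
theorem normalizer_rad :
    Subgroup.normalizer (D.unipotentRadical F J : Set (GL D.Idx F)) ⊓ D.group F =
      D.parabolicSubgroup F J := by
  have hPG : D.parabolicSubgroup F J ≤ D.group F := by
    refine sup_le hF.borel_le_group ((Subgroup.closure_le _).2 ?_)
    rintro g ⟨j, -, hj, hg⟩
    rw [hF.eq_tsys_nS hj hg]
    exact hF.nS_mem_group _
  refine le_antisymm ?_ (le_inf (hF.parabolic_normalizes hl J) hPG)
  rintro g ⟨hg, hgG⟩
  obtain ⟨b, hb, w, u, hu, rfl⟩ := hF.mem_bnu hgG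
  have hbP : b ∈ D.parabolicSubgroup F J := Subgroup.mem_sup_left (by rw [← hF.tsys_B]; exact hb)
  have huP : u ∈ D.parabolicSubgroup F J := Subgroup.mem_sup_left (by
    rw [← hF.tsys_B]
    exact (hF.tsys F).U_le_B (CommSys.US_mono _
      (fun r hr => mem_posL.2 ((TorusSys.closed_invList w).mem_pos r hr)) hu))
  refine mul_mem (mul_mem hbP (hF.nW_mem_parabolic_of_normalizes hl J w ?_)) huP
  rw [show (hF.tsys F).nW w = b⁻¹ * (b * (hF.tsys F).nW w * u) * u⁻¹ by group]
  exact mul_mem (mul_mem (inv_mem (hF.parabolic_normalizes hl J hbP)) hg)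
    (inv_mem (hF.parabolic_normalizes hl J huP))

end

end Facts

end Cfsg.Agent.Lie
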