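import Cfsg.Agent.Lib.Lie.BruhatPair
import Cfsg.Agent.Lib.Lie.Perfect

/-!
Solvability of B and simplicity of perfect Chevalley groups.
-/

set_option autoImplicit false

namespace Cfsg.Agent.Lie

open Cfsg.Lie Matrix
open scoped MatrixGroups commutatorElement

variable {D : ChevalleyDatum} {F : Type*} [Field F]

/-- No proper nonempty set of nodes is closed under adjacency. -/
def okConn (D : ChevalleyDatum) : Prop :=
  ∀ J : Fin D.rank → Bool, (∃ i, J i = true) →
    (∀ i k, J i = true → D.cartan i.val (D.simple k.val) ≠ 0 → J k = true) → ∀ k, J k = true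

instance (D : ChevalleyDatum) : Decidable (okConn D) := by unfold okConn; infer_instance

theorem okConnG2 : okConn chevG2 := by decide +kernel
theorem okConnB2 : okConn chevB2 := by decide +kernel
theorem okConnD4 : okConn chevD4 := by decide +kernel
theorem okConnF4 : okConn chevF4 := by decide +kernel
theorem okConnE6 : okConn chevE6 := by decide +kernel
theorem okConnE7 : okConn chevE7 := by decide +kernel
theorem okConnE8 : okConn chevE8 := by decide +kernel

theorem conn_of_mem {D : ChevalleyDatum}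
    (hD : D ∈ [chevG2, chevB2, chevD4, chevF4, chevE6, chevE7, chevE8]) : okConn D := by
  simp only [List.mem_cons, List.not_mem_nil, or_false] at hD
  rcases hD with rfl | rfl | rfl | rfl | rfl | rfl | rfl
  exacts [okConnG2, okConnB2, okConnD4, okConnF4, okConnE6, okConnE7, okConnE8]

namespace Facts

variable (hF : Facts D)

theorem derived_borel_le (F : Type*) [Field F] :
    ∀ n : ℕ, (derivedSeries ↥(D.borelSubgroup F) (n + 1)).map (D.borelSubgroup F).subtype ≤
      hF.raiseSubgroup (n + 1) := by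
  intro n
  induction n with
  | zero =>
    rw [derivedSeries_one, Subgroup.map_subtype_commutator, Subgroup.commutator_le]
    intro g hg h hh
    rw [← hF.tsys_B] at hg hh
    obtain ⟨u, hu, a, ha, rfl⟩ := (hF.tsys F).mem_B.1 hg
    obtain ⟨v, hv, b, hb, rfl⟩ := (hF.tsys F).mem_B.1 hh
    have hab : a * b = b * a := by
      rw [hF.tsys_H, hF.diagonalSubgroup_eq F] at ha hb
      obtain ⟨c, rfl⟩ := ha
      obtain ⟨d, rfl⟩ := hb
      rw [← map_mul, mul_comm c d, map_mul]
    have e : ⁅u * a, v * b⁆ = u * (a * v * a⁻¹) * ((a * b * a⁻¹) * u⁻¹ * (a * b * a⁻¹)⁻¹) *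
        (a * b * a⁻¹ * b⁻¹) * v⁻¹ := by
      rw [commutatorElement_def]; group
    rw [e, show a * b * a⁻¹ * b⁻¹ = 1 by rw [hab]; group, mul_one,
      show a * b * a⁻¹ = b by rw [hab]; group]
    refine hF.U_mem_raise (mul_mem (mul_mem (mul_mem hu ?_) ?_) (inv_mem hv))
    · exact (hF.tsys F).H_conj_US ha TorusSys.posL_lt hv
    · exact (hF.tsys F).H_conj_US hb TorusSys.posL_lt (inv_mem hu)
  | succ n ih =>
    rw [derivedSeries_succ, Subgroup.map_commutator]
    exact ((Subgroup.commutator_mono ih ih).trans (hF.commutator_raise _ _)).trans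
      (hF.raiseSubgroup_antitone (by omega))

include hF in
theorem borel_solvable (F : Type*) [Field F] : Group.IsSolvable ↥(D.borelSubgroup F) := by
  obtain ⟨n, hn⟩ : ∃ n : ℕ, 2 * ∑ q : D.Idx, |hF.hgt q| < ((n + 1 : ℕ) : ℤ) :=
    ⟨(2 * ∑ q : D.Idx, |hF.hgt q|).toNat, by push_cast; omega⟩
  refine ⟨⟨n + 1, (Subgroup.eq_bot_iff_forall _).2 fun g hg => ?_⟩⟩
  have h := hF.derived_borel_le F n (Subgroup.mem_map_of_mem _ hg)
  have h0 := hF.raises_large hn h.1
  exact Subtype.ext (Units.ext (sub_eq_zero.1 h0))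

theorem not_le_borel {N : Subgroup (GL D.Idx F)}
    (hnorm : ∀ g ∈ D.group F, ∀ x ∈ N, g * x * g⁻¹ ∈ N) (hNB : N ≤ (hF.tsys F).B) : N = ⊥ := by
  obtain ⟨w, hw⟩ := hF.exists_longest
  set n := (hF.tsys F).nW w with hn
  have hnG : n ∈ D.group F :=
    hF.monomial_le_group (by rw [← hF.tsys_N]; exact (hF.tsys F).nW_mem_N w)
  have hle : ∀ y ∈ N, y ∈ (hF.tsys F).H := by
    intro y hy
    have h2 : n⁻¹ * y * n ∈ (hF.tsys F).B := by
      have h := hnorm n⁻¹ (inv_mem hnG) y hy
      rw [inv_inv] at h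
      exact hNB h
    obtain ⟨u, hu, a, ha, he⟩ := (hF.tsys F).mem_B.1 h2
    have hk : n * a * n⁻¹ ∈ (hF.tsys F).H := (hF.tsys F).nW_H ha
    have hv : n * u * n⁻¹ ∈ D.negUnipotent F := by
      rw [← hF.conj_longest hw, ← hF.tsys_U]
      exact ⟨u, hu, rfl⟩
    have he' : y = n * u * n⁻¹ * (n * a * n⁻¹) := by
      rw [show n * u * n⁻¹ * (n * a * n⁻¹) = n * (u * a) * n⁻¹ by group, ← he]; group
    have h1' : n * u * n⁻¹ = 1 := by
      refine hF.B_inter_V ?_ hv
      rw [show n * u * n⁻¹ = y * (n * a * n⁻¹)⁻¹ by rw [he']; group]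
      exact mul_mem (hNB hy) (inv_mem ((hF.tsys F).H_le_B hk))
    rw [he', h1', one_mul]
    exact hk
  rw [Subgroup.eq_bot_iff_forall]
  intro g hg
  obtain ⟨c, hc⟩ : g ∈ (torus D F).range := by
    rw [← hF.diagonalSubgroup_eq F, ← hF.tsys_H]; exact hle g hg
  have hchar : ∀ r, r < D.nroots → (torChar D c r : F) = 1 := by
    intro r hr
    have h3 := hle _ (mul_mem (hnorm _ (hF.xg_mem_group r 1) g hg) (inv_mem hg))
    have h4 : hF.xg r 1 * g * (hF.xg r 1)⁻¹ * g⁻¹ = hF.xg r (1 + (torChar D c r : F) * -1) := by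
      rw [hF.xg_add, ← hF.torus_conj c hr (-1), hc, hF.xg_neg]
      simp [mul_assoc]
    rw [h4] at h3
    have h5 : hF.xg r (1 + (torChar D c r : F) * -1) = 1 := by
      by_cases hp : D.nroots / 2 ≤ r
      · exact hF.U_inter_H ((hF.tsys F).x_mem_U hp hr _) h3
      · exact hF.B_inter_V ((hF.tsys F).H_le_B h3) (hF.x_mem_negUnipotent (not_le.1 hp) _)
    have h6 := congrArg Units.val h5
    rw [coe_xg, Units.val_one, hF.x_eq_one r hr, mul_neg, mul_one] at h6
    exact (add_neg_eq_zero.1 h6).symm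
  refine Units.ext ?_
  rw [← hc, coe_torus, diagM_congr (χ' := fun _ => (1 : F)) fun s hs => hchar s hs,
    diagM_one, Units.val_one]

/-- A subgroup containing B and the representative of w contains the fundamental representatives of the
left descents of w. -/
theorem nS_mem_of_descent {M : Subgroup (GL D.Idx F)} (hBM : (hF.tsys F).B ≤ M) {w : hF.weyl}
    (hw : (hF.tsys F).nW w ∈ M) (i : Fin D.rank) (hi : w⁻¹ • hF.refSys.α i ∉ hF.refSys.P) :
    (hF.tsys F).nS i ∈ M := by
  obtain ⟨u, hu⟩ := hF.nW_conj' (F := F) w (w⁻¹ • hF.refSys.neg (hF.refSys.α i)) 1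
  rw [smul_inv_smul] at hu
  have hpos : D.nroots / 2 ≤ (w⁻¹ • hF.refSys.neg (hF.refSys.α i) : Fin D.nroots).val := by
    have := (hF.refSys.neg_mem _).2 hi
    rw [RefSystem.smul_neg]
    simpa [refSys] using this
  have hneg : hF.xg (D.neg (D.simple i.val)) (1 : F) ∈ M := by
    rw [show hF.xg (D.neg (D.simple i.val)) (1 : F) =
      hF.xg (hF.refSys.neg (hF.refSys.α i) : Fin D.nroots).val (1 : F) from rfl, hu]
    exact mul_mem (mul_mem hw (hBM ((hF.tsys F).U_le_B ((hF.tsys F).x_mem_U hpos (Fin.isLt _) u))))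
      (inv_mem hw)
  obtain ⟨a, g, hg, he⟩ := (hF.tsys F).neg_simple_eq i (one_ne_zero (α := F))
  have hx : (hF.tsys F).x (D.simple i.val) a ∈ M :=
    hBM ((hF.tsys F).U_le_B ((hF.tsys F).x_mem_U (hF.simple_ge i i.isLt) (hF.simple_lt i i.isLt) a))
  rw [show (hF.tsys F).nS i =
    ((hF.tsys F).x (D.simple i.val) a * g)⁻¹ * (hF.tsys F).x (D.neg (D.simple i.val)) 1 *
      ((hF.tsys F).x (D.simple i.val) a)⁻¹ by rw [he]; group]
  exact mul_mem (mul_mem (inv_mem (mul_mem hx (hBM ((hF.tsys F).H_le_B hg)))) hneg) (inv_mem hx)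

include hF in
theorem isSimple (hconn : okConn D) (hperf : ⁅D.group F, D.group F⁆ = D.group F) (hrank : 0 < D.rank) :
    IsSimpleGroup ↥(D.group F) ∧ ¬ IsMulCommutative ↥(D.group F) := by
  have hx1 : (⟨hF.xg (D.simple 0) 1, hF.xg_mem_group _ _⟩ : D.group F) ≠ 1 := by
    intro h
    have h' := congrArg (fun z : D.group F => (z : GL D.Idx F).val) h
    simp only [coe_xg, Subgroup.coe_one, Units.val_one] at h'
    exact one_ne_zero ((hF.x_eq_one _ (hF.simple_lt 0 hrank) 1).1 h')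
  haveI : Nontrivial ↥(D.group F) := ⟨⟨_, _, hx1⟩⟩
  have hcomm := hF.commutator_top_of_eq hperf
  refine ⟨⟨fun N hN => ?_⟩, fun hc => hx1 ?_⟩
  swap
  · haveI := hc
    have h : commutator ↥(D.group F) = ⊥ := by
      rw [commutator_def, Subgroup.commutator_eq_bot_iff_le_centralizer]
      intro g _
      rw [Subgroup.mem_centralizer_iff]
      exact fun z _ => mul_comm' z g
    rw [hcomm] at h
    exact (Subgroup.mem_bot).1 (h ▸ Subgroup.mem_top _)
  set N' := N.map (D.group F).subtype with hN'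
  have hN'G : N' ≤ D.group F := by rintro _ ⟨x, -, rfl⟩; exact x.2
  have hnorm : ∀ g ∈ D.group F, ∀ x ∈ N', g * x * g⁻¹ ∈ N' := by
    rintro g hg _ ⟨x, hx, rfl⟩
    exact ⟨⟨g, hg⟩ * x * ⟨g, hg⟩⁻¹, hN.conj_mem x hx _, rfl⟩
  by_cases hNB : N' ≤ (hF.tsys F).B
  · exact Or.inl ((Subgroup.map_eq_bot_iff_of_injective N (D.group F).subtype_injective).1
      (hF.not_le_borel hnorm hNB))
  right
  set M := (hF.tsys F).B ⊔ N' with hM
  have hBM : (hF.tsys F).B ≤ M := le_sup_left
  have hBG : (hF.tsys F).B ≤ D.group F := by rw [hF.tsys_B]; exact hF.borel_le_group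
  have hMdec : ∀ y ∈ M, ∃ b ∈ (hF.tsys F).B, ∃ m ∈ N', y = b * m := by
    intro y hy
    have hnrm : (hF.tsys F).B ≤ Subgroup.normalizer (N' : Set (GL D.Idx F)) := by
      intro b hb
      rw [Subgroup.mem_normalizer_iff]
      refine fun x => ⟨hnorm b (hBG hb) x, fun h => ?_⟩
      have h2 := hnorm b⁻¹ (inv_mem (hBG hb)) _ h
      rwa [show b⁻¹ * (b * x * b⁻¹) * b⁻¹⁻¹ = x by group] at h2
    have hy' : y ∈ (((hF.tsys F).B ⊔ N' : Subgroup _) : Set (GL D.Idx F)) := hy
    rw [Subgroup.coe_mul_of_left_le_normalizer_right _ _ hnrm] at hy'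
    obtain ⟨b, hb, m, hm, rfl⟩ := Set.mem_mul.1 hy'
    exact ⟨b, hb, m, hm, rfl⟩
  -- W-set of M
  have hWmul : ∀ {w v : hF.weyl}, (hF.tsys F).nW w ∈ M → (hF.tsys F).nW v ∈ M →
      (hF.tsys F).nW (w * v) ∈ M := by
    intro w v hw hv
    obtain ⟨c, hc, h⟩ := hF.nW_mul (F := F) w v
    rw [show (hF.tsys F).nW (w * v) = c⁻¹ * ((hF.tsys F).nW w * (hF.tsys F).nW v) by rw [h]; group]
    exact mul_mem (inv_mem (hBM ((hF.tsys F).H_le_B hc))) (mul_mem hw hv)
  have hWS : ∀ i, (hF.tsys F).nS i ∈ M → (hF.tsys F).nW (hF.wS i) ∈ M := by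
    intro i hi
    obtain ⟨a, ha, h⟩ := hF.nS_eq_nW (F := F) i
    rw [show (hF.tsys F).nW (hF.wS i) = a⁻¹ * (hF.tsys F).nS i by rw [h]; group]
    exact mul_mem (inv_mem (hBM ((hF.tsys F).H_le_B ha))) hi
  have hbase : ∃ i, (hF.tsys F).nS i ∈ M := by
    obtain ⟨x, hxN, hxB⟩ := SetLike.not_le_iff_exists.1 hNB
    obtain ⟨b, hb, w, u, hu, rfl⟩ := hF.mem_bnu (hN'G hxN)
    have huB : u ∈ (hF.tsys F).B := (hF.tsys F).U_le_B (CommSys.US_mono _
      (fun r hr => mem_posL.2 ((TorusSys.closed_invList w).mem_pos r hr)) hu)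
    have hwM : (hF.tsys F).nW w ∈ M := by
      rw [show (hF.tsys F).nW w = b⁻¹ * (b * (hF.tsys F).nW w * u) * u⁻¹ by group]
      exact mul_mem (mul_mem (inv_mem (hBM hb)) (Subgroup.mem_sup_right hxN)) (inv_mem (hBM huB))
    obtain ⟨i, hi⟩ : ∃ i, w⁻¹ • hF.refSys.α i ∉ hF.refSys.P := by
      obtain ⟨ω, hω, hlen⟩ := hF.refSys.exists_reduced w⁻¹
      rcases List.eq_nil_or_concat ω with rfl | ⟨q, i, rfl⟩
      · rw [RefSystem.pr_nil] at hω
        have hw1 : w = 1 := inv_eq_one.1 hω.symm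
        exact absurd (mul_mem (mul_mem hb ((hF.tsys F).H_le_B (hw1 ▸ (hF.tsys F).nW_one))) huB) hxB
      · refine ⟨i, fun hp => ?_⟩
        rw [List.concat_eq_append] at hω hlen
        have h1 := hF.refSys.len_mul_s_of_mem hp
        rw [← hω, RefSystem.pr_append, RefSystem.pr_singleton] at h1 hlen
        rw [mul_assoc, hF.refSys.sq, mul_one] at h1
        have := hF.refSys.len_pr_le q
        simp only [List.length_append, List.length_singleton] at hlen
        omega
    exact ⟨i, hF.nS_mem_of_descent hBM hwM i hi⟩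
  have hstep : ∀ i k : Fin D.rank, (hF.tsys F).nS i ∈ M → D.cartan i.val (D.simple k.val) ≠ 0 →
      (hF.tsys F).nS k ∈ M := by
    intro i k hi hadj
    by_cases hik : i = k
    · exact hik ▸ hi
    have hw : (hF.wS k * hF.wS i * hF.wS k)⁻¹ • hF.refSys.α k ∉ hF.refSys.P := by
      have hne : hF.refSys.α k ≠ hF.refSys.α i := by
        intro h
        have h' := congrArg (fun z => D.cartan i.val z.val) h
        have h2 : D.simple k.val = D.simple i.val := congrArg Fin.val h
        have e1 := hF.co_simple k.val k.isLt k.val k.isLt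
        have e2 := hF.co_simple i.val i.isLt k.val k.isLt
        rw [h2] at e1
        rw [e1, if_pos rfl, if_neg (fun h => hik (Fin.ext h.symm))] at e2
        exact one_ne_zero e2
      have h1 := hF.refSys.perm i _ (hF.refSys.α_mem k) hne
      have h2 : hF.refSys.s i • hF.refSys.α k ≠ hF.refSys.α k := by
        intro h
        have h' : D.cartan i.val (D.reflectRoot i.val (D.simple k.val)) = D.cartan i.val (D.simple k.val) :=
          congrArg (fun z : Fin D.nroots => D.cartan i.val z.val) h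
        rw [hF.cartan_refl_self i.isLt (hF.simple_lt k.val k.isLt)] at h'
        omega
      have h3 := hF.refSys.perm k _ h1 h2
      have e : (hF.wS k * hF.wS i * hF.wS k)⁻¹ = hF.wS k * hF.wS i * hF.wS k := by
        refine inv_eq_of_mul_eq_one_right ?_
        rw [show hF.wS k * hF.wS i * hF.wS k * (hF.wS k * hF.wS i * hF.wS k) =
          hF.wS k * hF.wS i * (hF.wS k * hF.wS k) * (hF.wS i * hF.wS k) by group,
          hF.wS_sq, mul_one, mul_assoc, ← mul_assoc (hF.wS i) (hF.wS i), hF.wS_sq, one_mul, hF.wS_sq]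
      rw [e, mul_smul, mul_smul, show hF.wS k • hF.refSys.α k = hF.refSys.neg (hF.refSys.α k) from
        hF.refSys.s_α k, RefSystem.smul_neg, RefSystem.smul_neg, hF.refSys.neg_mem, not_not]
      exact h3
    obtain ⟨a, ha, hak⟩ := hF.nS_eq_nW (F := F) k
    have hconjw : ∃ c ∈ (hF.tsys F).H, (hF.tsys F).nS k * (hF.tsys F).nS i * ((hF.tsys F).nS k)⁻¹ =
        c * (hF.tsys F).nW (hF.wS k * hF.wS i * hF.wS k) := by
      obtain ⟨c, hc, he⟩ := (hF.tsys F).nw_eq (ω := [k, i, k]) (w := hF.wS k * hF.wS i * hF.wS k)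
        (by simp only [RefSystem.pr_cons, RefSystem.pr_nil, mul_one]; rw [← mul_assoc]; rfl)
      obtain ⟨d, hd, hde⟩ := (hF.tsys F).nS_inv k
      refine ⟨((hF.tsys F).nS k * (hF.tsys F).nS i) * d * ((hF.tsys F).nS k * (hF.tsys F).nS i)⁻¹ * c,
        mul_mem ?_ hc, ?_⟩
      · rw [show (hF.tsys F).nS k * (hF.tsys F).nS i * d *
            ((hF.tsys F).nS k * (hF.tsys F).nS i)⁻¹ = (hF.tsys F).nS k *
            ((hF.tsys F).nS i * d * ((hF.tsys F).nS i)⁻¹) * ((hF.tsys F).nS k)⁻¹ by group]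
        exact (hF.tsys F).nS_H k ((hF.tsys F).nS_H i hd)
      · rw [hde, mul_assoc (_ * _) c, ← he]
        simp only [TorusSys.nw_cons, TorusSys.nw_nil, mul_one]
        group
    obtain ⟨c, hc, hce⟩ := hconjw
    have hdone : (hF.tsys F).nW (hF.wS k * hF.wS i * hF.wS k) ∈ M → (hF.tsys F).nS k ∈ M :=
      fun h => hF.nS_mem_of_descent hBM h k hw
    obtain ⟨b, hb, m, hm, hbm⟩ := hMdec _ hi
    have hkG : (hF.tsys F).nS k ∈ D.group F := hF.nS_mem_group k
    have hm' : (hF.tsys F).nS k * m * ((hF.tsys F).nS k)⁻¹ ∈ M :=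
      Subgroup.mem_sup_right (hnorm _ hkG m hm)
    obtain ⟨d, hd, hde⟩ := (hF.tsys F).nS_inv k
    -- n_k b n_k⁻¹ lies in B or B n_k B
    have hb2 : b * d ∈ (hF.tsys F).B := mul_mem hb ((hF.tsys F).H_le_B hd)
    obtain ⟨b₁, h1, b₂, h2, hcase⟩ := hF.nS_mul_N k hb2 ((hF.tsys F).nS_mem_N k)
    have hsplit : (hF.tsys F).nS k * (hF.tsys F).nS i * ((hF.tsys F).nS k)⁻¹ =
        ((hF.tsys F).nS k * (b * d) * (hF.tsys F).nS k) * ((hF.tsys F).nS k * m * ((hF.tsys F).nS k)⁻¹) := by
      rw [hbm, show (hF.tsys F).nS k * (b * d) * (hF.tsys F).nS k =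
        (hF.tsys F).nS k * b * (d * (hF.tsys F).nS k) by group, ← hde]
      group
    rcases hcase with hcase | hcase
    · apply hdone
      rw [show (hF.tsys F).nW (hF.wS k * hF.wS i * hF.wS k) =
        c⁻¹ * ((hF.tsys F).nS k * (hF.tsys F).nS i * ((hF.tsys F).nS k)⁻¹) by rw [hce]; group]
      refine mul_mem (inv_mem (hBM ((hF.tsys F).H_le_B hc))) ?_
      rw [hsplit, hcase]
      exact mul_mem (mul_mem (mul_mem (hBM h1) (hBM ((hF.tsys F).H_le_B ((hF.tsys F).nS_sq_mem k))))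
        (hBM h2)) hm'
    · set y := b₂ * ((hF.tsys F).nS k * m * ((hF.tsys F).nS k)⁻¹) with hy
      have hyM : y ∈ M := mul_mem (hBM h2) hm'
      obtain ⟨p, hp, v, u, hu, hyv⟩ := hF.mem_bnu
        (mul_mem (hBG h2) (mul_mem (mul_mem hkG (hN'G hm)) (inv_mem hkG)))
      have huB : u ∈ (hF.tsys F).B := (hF.tsys F).U_le_B (CommSys.US_mono _
        (fun r hr => mem_posL.2 ((TorusSys.closed_invList v).mem_pos r hr)) hu)
      have hvM : (hF.tsys F).nW v ∈ M := by
        rw [show (hF.tsys F).nW v = p⁻¹ * y * u⁻¹ by rw [hy, hyv]; group]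
        exact mul_mem (mul_mem (inv_mem (hBM hp)) hyM) (inv_mem (hBM huB))
      have heq : c * (hF.tsys F).nW (hF.wS k * hF.wS i * hF.wS k) =
          b₁ * ((hF.tsys F).nS k * p * (hF.tsys F).nW v) * u := by
        rw [← hce, hsplit, hcase, mul_assoc (b₁ * _) b₂, ← hy, hy, hyv]
        group
      rcases (hF.tsys F).nS_mul_mem k hp v with ⟨q1, hq1, q2, hq2, hq⟩ | ⟨q1, hq1, q2, hq2, hq, -⟩
      · rw [hq] at heq
        have hwv := (hF.tsys F).bruhat_eq hF.hsep ((hF.tsys F).H_le_B hc) (one_mem _)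
          (mul_mem h1 hq1) (mul_mem hq2 huB) (v := hF.wS k * v) (by rw [mul_one, heq]; group)
        have hv : v = hF.wS i * hF.wS k := by
          rw [mul_assoc] at hwv
          exact (mul_left_cancel hwv).symm
        have hk' := hWmul (hWS i hi) hvM
        rw [hv, ← mul_assoc, hF.wS_sq, one_mul] at hk'
        rw [hak]
        exact mul_mem (hBM ((hF.tsys F).H_le_B ha)) hk'
      · rw [hq] at heq
        have hwv := (hF.tsys F).bruhat_eq hF.hsep ((hF.tsys F).H_le_B hc) (one_mem _)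
          (mul_mem h1 hq1) (mul_mem hq2 huB) (v := v) (by rw [mul_one, heq]; group)
        exact hdone (hwv ▸ hvM)
  have hall : ∀ k, (hF.tsys F).nS k ∈ M := by
    classical
    intro k
    have := hconn (fun i => decide ((hF.tsys F).nS i ∈ M))
      (by obtain ⟨i, hi⟩ := hbase; exact ⟨i, by simpa using hi⟩)
      (fun i k hi hadj => by simp only [decide_eq_true_eq] at hi ⊢; exact hstep i k hi hadj) k
    simpa using this
  have hGM : D.group F ≤ M := by
    rw [← hF.borel_sup_monomial, ← hF.tsys_B, ← hF.tsys_N]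
    refine sup_le hBM (sup_le ((hF.tsys F).H_le_B.trans hBM) ((Subgroup.closure_le _).2 ?_))
    rintro _ ⟨i, rfl⟩
    exact hall i
  haveI := hF.borel_solvable F
  set ψ : ↥(D.borelSubgroup F) →* ↥(D.group F) ⧸ N :=
    (QuotientGroup.mk' N).comp (Subgroup.inclusion hF.borel_le_group) with hψ
  have hsurj : Function.Surjective ψ := by
    intro q
    obtain ⟨g, rfl⟩ := QuotientGroup.mk'_surjective N q
    obtain ⟨b, hb, m, ⟨mm, hmm, rfl⟩, hgb⟩ := hMdec g (hGM g.2)
    rw [hF.tsys_B] at hb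
    refine ⟨⟨b, hb⟩, ?_⟩
    simp only [hψ, MonoidHom.coe_comp, Function.comp_apply, QuotientGroup.mk'_apply, QuotientGroup.eq]
    have : (Subgroup.inclusion hF.borel_le_group ⟨b, hb⟩)⁻¹ * g = mm := by
      refine Subtype.ext ?_
      rw [Subgroup.coe_mul, Subgroup.coe_inv, Subgroup.coe_inclusion, hgb]
      simp
    rw [this]
    exact hmm
  obtain ⟨n, hn⟩ := (Group.isSolvable_of_surjective hsurj).solvable
  have hser : ∀ n, derivedSeries (↥(D.group F) ⧸ N) n = ⊤ := by
    intro n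
    induction n with
    | zero => rfl
    | succ n ih =>
      have hs := QuotientGroup.mk'_surjective N
      rw [derivedSeries_succ, ih, ← Subgroup.map_top_of_surjective _ hs, ← Subgroup.map_commutator,
        ← commutator_def, hcomm]
  rw [hser n] at hn
  rw [eq_top_iff]
  intro g _
  have : QuotientGroup.mk' N g = 1 := Subgroup.mem_bot.1 (hn ▸ Subgroup.mem_top _)
  exact (QuotientGroup.eq_one_iff g).1 this

end Facts

end Cfsg.Agent.Lie
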