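import Cfsg.Agent.Lib.Lie.TorusCard
import Cfsg.Agent.Lib.Lie.AllFacts

/-! Certificates for the kernel of the torus map of each datum. -/

set_option autoImplicit false

namespace Cfsg.Agent.Lie

open Cfsg.Lie

/-- Certificate for type G2. -/
def kerCertG2 : KerCert (l := chevG2.rank) (cartanSys chevG2) (k := 0) ![] where
  v := (![] : Fin 0 → Fin 2 → ℤ)
  u := (![] : Fin 0 → Fin 2 → ℤ)
  w := (![![2, 1], ![3, 2]] : Fin 2 → Fin 2 → ℤ)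
  w' := (![] : Fin 0 → Fin 2 → ℤ)
  h1 := by decide +kernel
  h2 := by decide +kernel
  h3 := by decide +kernel
  h4 := by decide +kernel

/-- Certificate for type F4. -/
def kerCertF4 : KerCert (l := chevF4.rank) (cartanSys chevF4) (k := 0) ![] where
  v := (![] : Fin 0 → Fin 4 → ℤ)
  u := (![] : Fin 0 → Fin 4 → ℤ)
  w := (![![2, 3, 2, 1], ![3, 6, 4, 2], ![4, 8, 6, 3], ![2, 4, 3, 2]] : Fin 4 → Fin 4 → ℤ)
  w' := (![] : Fin 0 → Fin 4 → ℤ)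
  h1 := by decide +kernel
  h2 := by decide +kernel
  h3 := by decide +kernel
  h4 := by decide +kernel

/-- Certificate for type E8. -/
def kerCertE8 : KerCert (l := chevE8.rank) (cartanSys chevE8) (k := 0) ![] where
  v := (![] : Fin 0 → Fin 8 → ℤ)
  u := (![] : Fin 0 → Fin 8 → ℤ)
  w := (![![4, 5, 7, 10, 8, 6, 4, 2], ![5, 8, 10, 15, 12, 9, 6, 3], ![7, 10, 14, 20, 16, 12, 8, 4], ![10, 15, 20, 30, 24, 18, 12, 6], ![8, 12, 16, 24, 20, 15, 10, 5], ![6, 9, 12, 18, 15, 12, 8, 4], ![4, 6, 8, 12, 10, 8, 6, 3], ![2, 3, 4, 6, 5, 4, 3, 2]] : Fin 8 → Fin 8 → ℤ)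
  w' := (![] : Fin 0 → Fin 8 → ℤ)
  h1 := by decide +kernel
  h2 := by decide +kernel
  h3 := by decide +kernel
  h4 := by decide +kernel

/-- Certificate for type E6. -/
def kerCertE6 : KerCert (l := chevE6.rank) (cartanSys chevE6) (k := 1) ![3] where
  v := (![![1, 0, 2, 0, 1, 2]] : Fin 1 → Fin 6 → ℤ)
  u := (![![0, 0, 0, 0, 0, 2]] : Fin 1 → Fin 6 → ℤ)
  w := (![![0, -1, -1, -2, -2, -2], ![1, 2, 2, 3, 2, 1], ![-1, -2, -2, -4, -4, -4], ![2, 3, 4, 6, 4, 2], ![0, 0, 0, 0, 0, -1], ![-2, -3, -4, -6, -5, -4]] : Fin 6 → Fin 6 → ℤ)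
  w' := (![![4, 6, 8, 12, 10, 8]] : Fin 1 → Fin 6 → ℤ)
  h1 := by decide +kernel
  h2 := by decide +kernel
  h3 := by decide +kernel
  h4 := by decide +kernel

/-- Certificate for type E7. -/
def kerCertE7 : KerCert (l := chevE7.rank) (cartanSys chevE7) (k := 1) ![2] where
  v := (![![0, 1, 0, 0, 1, 0, 1]] : Fin 1 → Fin 7 → ℤ)
  u := (![![0, 0, 0, 0, 0, 0, 1]] : Fin 1 → Fin 7 → ℤ)
  w := (![![2, 2, 3, 4, 3, 2, 1], ![1, 2, 2, 3, 2, 1, 0], ![3, 4, 6, 8, 6, 4, 2], ![4, 6, 8, 12, 9, 6, 3], ![2, 3, 4, 6, 5, 3, 1], ![2, 3, 4, 6, 5, 4, 2], ![0, 0, 0, 0, 0, 0, 0]] : Fin 7 → Fin 7 → ℤ)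
  w' := (![![2, 3, 4, 6, 5, 4, 3]] : Fin 1 → Fin 7 → ℤ)
  h1 := by decide +kernel
  h2 := by decide +kernel
  h3 := by decide +kernel
  h4 := by decide +kernel

/-- Certificate for type B2. -/
def kerCertB2 : KerCert (l := chevB2.rank) (cartanSys chevB2) (k := 1) ![2] where
  v := (![![1, 0]] : Fin 1 → Fin 2 → ℤ)
  u := (![![1, 0]] : Fin 1 → Fin 2 → ℤ)
  w := (![![0, 0], ![1, 1]] : Fin 2 → Fin 2 → ℤ)
  w' := (![![2, 1]] : Fin 1 → Fin 2 → ℤ)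
  h1 := by decide +kernel
  h2 := by decide +kernel
  h3 := by decide +kernel
  h4 := by decide +kernel

/-- Certificate for type D4. -/
def kerCertD4 : KerCert (l := chevD4.rank) (cartanSys chevD4) (k := 2) ![2, 2] where
  v := (![![0, 0, 1, 1], ![1, 0, 0, 1]] : Fin 2 → Fin 4 → ℤ)
  u := (![![0, 0, 1, 0], ![0, 0, 1, 1]] : Fin 2 → Fin 4 → ℤ)
  w := (![![0, -1, -1, -1], ![1, 2, 1, 1], ![0, 0, 0, 0], ![-1, -2, -2, -1]] : Fin 4 → Fin 4 → ℤ)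
  w' := (![![1, 2, 2, 1], ![2, 4, 3, 3]] : Fin 2 → Fin 4 → ℤ)
  h1 := by decide +kernel
  h2 := by decide +kernel
  h3 := by decide +kernel
  h4 := by decide +kernel

end Cfsg.Agent.Lie
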