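import Cfsg.Agent.Lib.Lie.NegList
import Cfsg.Agent.Lib.Lie.Parabolic
import Cfsg.Agent.Lib.Lie.TorusCerts
import Cfsg.Agent.Lib.Lie.Simple
import Cfsg.Prelude.Def_Steinberg

/-!
The group presented by Steinberg's relations as a system with torus relations, and the kernel
of its projection.
-/

set_option autoImplicit false

namespace Cfsg.Agent.Lie

open Cfsg.Lie Matrix
open scoped MatrixGroups commutatorElement

variable {D : ChevalleyDatum} {F : Type*} [Field F]

/-- A pair of roots whose commutator contains the root a with unit coefficient, linearly in one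
variable, and no multiple of a otherwise. -/
def okAlpha (D : ChevalleyDatum) (a : ℕ) (e : ℕ × ℕ) : Bool :=
  decide (e.1 < D.nroots) && decide (e.2 < D.nroots) &&
  e.1 != a && e.1 != D.neg a && e.2 != a && e.2 != D.neg a && e.2 != e.1 && e.2 != D.neg e.1 &&
    ((D.commTerms e.1 e.2).filter fun c => c.1 == a).length == 1 &&
    (D.commTerms e.1 e.2).all fun c =>
      if c.1 == a then c.2.1.natAbs == 1 && (c.2.2.1 == 1 || c.2.2.2 == 1) else c.1 != D.neg a

/-- Pairs for all fundamental roots and their negatives. -/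
def okAlphaAll (D : ChevalleyDatum) (L : List ((ℕ × ℕ) × (ℕ × ℕ))) : Bool :=
  (List.range D.rank).all fun i =>
    okAlpha D (D.simple i) (L.getD i ((0, 0), (0, 0))).1 &&
      okAlpha D (D.neg (D.simple i)) (L.getD i ((0, 0), (0, 0))).2

/-- Certificates. -/
def alphaG2 : List ((ℕ × ℕ) × (ℕ × ℕ)) := [((0, 9), (0, 8)), ((0, 8), (0, 10))]
/-- Certificates. -/
def alphaB2 : List ((ℕ × ℕ) × (ℕ × ℕ)) := [((1, 7), (0, 6)), ((0, 6), (0, 5))]
/-- Certificates. -/
def alphaD4 : List ((ℕ × ℕ) × (ℕ × ℕ)) :=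
  [((6, 22), (1, 17)), ((1, 23), (0, 22)), ((3, 22), (1, 20)), ((2, 22), (1, 21))]
/-- Certificates. -/
def alphaF4 : List ((ℕ × ℕ) × (ℕ × ℕ)) :=
  [((7, 44), (3, 40)), ((3, 45), (2, 44)), ((0, 39), (0, 38)), ((1, 47), (0, 46))]
/-- Certificates. -/
def alphaE6 : List ((ℕ × ℕ) × (ℕ × ℕ)) :=
  [((16, 66), (5, 55)), ((1, 71), (0, 70)), ((5, 69), (2, 66)), ((2, 70), (1, 69)), ((3, 69), (2, 68)),
    ((4, 68), (3, 67))]
/-- Certificates. -/
def alphaE7 : List ((ℕ × ℕ) × (ℕ × ℕ)) :=
  [((1, 125), (0, 124)), ((7, 122), (3, 118)), ((2, 124), (1, 123)), ((3, 123), (2, 122)), ((4, 122), (3, 121)),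
    ((5, 121), (4, 120)), ((6, 120), (5, 119))]
/-- Certificates. -/
def alphaE8 : List ((ℕ × ℕ) × (ℕ × ℕ)) :=
  [((14, 233), (6, 225)), ((7, 234), (5, 232)), ((6, 234), (5, 233)), ((5, 235), (4, 234)), ((4, 236), (3, 235)),
    ((3, 237), (2, 236)), ((2, 238), (1, 237)), ((1, 239), (0, 238))]

theorem okAlphaG2 : okAlphaAll chevG2 alphaG2 = true := by decide +kernel
theorem okAlphaB2 : okAlphaAll chevB2 alphaB2 = true := by decide +kernel
theorem okAlphaD4 : okAlphaAll chevD4 alphaD4 = true := by decide +kernel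
theorem okAlphaF4 : okAlphaAll chevF4 alphaF4 = true := by decide +kernel
theorem okAlphaE6 : okAlphaAll chevE6 alphaE6 = true := by decide +kernel
theorem okAlphaE7 : okAlphaAll chevE7 alphaE7 = true := by decide +kernel
theorem okAlphaE8 : okAlphaAll chevE8 alphaE8 = true := by decide +kernel

/-- What is needed to treat the presented group. -/
def StHyp (D : ChevalleyDatum) : Prop :=
  (∀ i, i < D.rank → ∃ e, okAlpha D (D.simple i) e = true) ∧
    (∀ i, i < D.rank → ∃ e, okAlpha D (D.neg (D.simple i)) e = true) ∧ ∃ l, okCoeff D l = true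

theorem stHyp_of_mem {D : ChevalleyDatum}
    (hD : D ∈ [chevG2, chevB2, chevD4, chevF4, chevE6, chevE7, chevE8]) : StHyp D := by
  have key : ∀ L, okAlphaAll D L = true → StHyp D := by
    intro L hL
    simp only [okAlphaAll, List.all_eq_true, List.mem_range, Bool.and_eq_true] at hL
    exact ⟨fun i hi => ⟨_, (hL i hi).1⟩, fun i hi => ⟨_, (hL i hi).2⟩, coeff_of_mem hD⟩
  simp only [List.mem_cons, List.not_mem_nil, or_false] at hD
  rcases hD with rfl | rfl | rfl | rfl | rfl | rfl | rfl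
  exacts [key _ okAlphaG2, key _ okAlphaB2, key _ okAlphaD4, key _ okAlphaF4, key _ okAlphaE6,
    key _ okAlphaE7, key _ okAlphaE8]

theorem middle_eq {G α : Type*} [Group G] (g g' : α → G) (p : α → Bool) :
    ∀ L : List α, (L.map g).prod = (L.map g').prod → (∀ c ∈ L, p c = false → g c = g' c) →
      (L.filter p).length = 1 → ∀ c ∈ L, p c = true → g c = g' c := by
  intro L
  induction L with
  | nil => simp
  | cons a L ih =>
    intro hprod hk hlen c hc hp
    rw [List.map_cons, List.map_cons, List.prod_cons, List.prod_cons] at hprod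
    by_cases ha : p a = true
    · have h0 : ∀ d ∈ L, p d = false := by
        intro d hd
        by_contra hne
        rw [Bool.not_eq_false] at hne
        rw [List.filter_cons_of_pos ha, List.length_cons] at hlen
        have : d ∈ L.filter p := List.mem_filter.2 ⟨hd, hne⟩
        have := List.length_pos_of_mem this
        omega
      rw [List.map_congr_left fun d hd => hk d (List.mem_cons_of_mem _ hd) (h0 d hd)] at hprod
      rcases List.mem_cons.1 hc with rfl | hc
      · exact mul_right_cancel hprod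
      · exact absurd hp (by rw [h0 c hc]; exact Bool.false_ne_true)
    · rw [Bool.not_eq_true] at ha
      rcases List.mem_cons.1 hc with rfl | hc
      · exact absurd hp (by rw [ha]; exact Bool.false_ne_true)
      · rw [hk a List.mem_cons_self ha] at hprod
        refine ih (mul_left_cancel hprod) (fun d hd => hk d (List.mem_cons_of_mem _ hd)) ?_ c hc hp
        rwa [List.filter_cons_of_neg (by simp [ha])] at hlen

namespace Facts

variable (hF : Facts D)

theorem st_rel {g : FreeGroup (Fin D.nroots × F)} (h : g ∈ D.steinbergRels F) :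
    PresentedGroup.mk (D.steinbergRels F) g = 1 :=
  PresentedGroup.one_of_mem h

theorem mk_stWord (w : List (ℕ × F)) : PresentedGroup.mk (D.steinbergRels F) (D.stWord w) =
    (w.map fun p => D.stGen F p.1 p.2).prod := by
  rw [ChevalleyDatum.stWord, map_list_prod, List.map_map]
  rfl

theorem stGen_out {r : ℕ} (hr : D.nroots ≤ r) (t : F) : D.stGen F r t = 1 := by
  rw [ChevalleyDatum.stGen, ChevalleyDatum.stX, dif_neg (not_lt.2 hr), map_one]

theorem mk_stH (r : ℕ) (t : F) : PresentedGroup.mk (D.steinbergRels F) (D.stH r t) =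
    nElt D (D.stGen F) r t * nElt D (D.stGen F) r (-1) := by
  rw [ChevalleyDatum.stH, mk_stWord]
  simp [ChevalleyDatum.hWord, ChevalleyDatum.nWord, nElt, mul_assoc]

/-- The presented group with its generators. -/
noncomputable def stC (F : Type*) [Field F] : CommSys hF F (D.SteinbergGroup F) where
  x := D.stGen F
  x_out _ t h := stGen_out h t
  x_add r t u := by
    by_cases hr : r < D.nroots
    · have h := st_rel (F := F) (D := D) (Or.inl (Or.inl ⟨r, t, u, hr, rfl⟩))
      rw [map_mul, map_mul, map_inv, mul_inv_eq_one] at h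
      exact h.symm
    · simp [stGen_out (not_lt.1 hr)]
  x_comm r s hr hs h1 h2 t u := by
    have h := st_rel (F := F) (D := D) (Or.inl (Or.inr ⟨r, s, t, u, hr, hs, h1, h2, rfl⟩))
    rw [map_mul, map_inv _ (D.stWord _), mk_stWord, mul_inv_eq_one] at h
    rw [← h, map_mul, map_mul, map_mul, map_inv, map_inv]
    simp only [ChevalleyDatum.stGen]
    group

theorem stC_x (r : ℕ) (t : F) : (hF.stC F).x r t = D.stGen F r t := rfl

theorem mapsTo_rels : ∀ g ∈ D.steinbergRels F,
    FreeGroup.lift (fun p : Fin D.nroots × F => hF.xg p.1.val p.2) g = 1 := by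
  have hX : ∀ r t, FreeGroup.lift (fun p : Fin D.nroots × F => hF.xg p.1.val p.2) (D.stX r t) =
      hF.xg r t := by
    intro r t
    unfold ChevalleyDatum.stX
    split_ifs with h
    · simp
    · simp [hF.xg_out (not_lt.1 h)]
  have hW : ∀ w : List (ℕ × F),
      FreeGroup.lift (fun p : Fin D.nroots × F => hF.xg p.1.val p.2) (D.stWord w) = hF.wg w := by
    intro w
    rw [ChevalleyDatum.stWord, map_list_prod, List.map_map, wg]
    congr 1
    exact List.map_congr_left fun p _ => hX _ _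
  rintro g ((⟨r, t, u, hr, rfl⟩ | ⟨r, s, t, u, hr, hs, h1, h2, rfl⟩) | ⟨r, t, u, hr, ht, hu, rfl⟩)
  · simp only [map_mul, map_inv, hX]
    rw [hF.xg_add, mul_inv_cancel]
  · simp only [map_mul, map_inv, hX, hW]
    have h := (hF.sys F).x_comm r s hr hs h1 h2 t u
    simp only [sys_x] at h
    rw [mul_inv_eq_one, mul_assoc (_ * _), h, wg]
    group
  · simp only [map_mul, map_inv, ChevalleyDatum.stH, hW]
    show hF.hg r t * hF.hg r u * (hF.hg r (t * u))⁻¹ = 1
    rw [mul_inv_eq_one, show t = ((Units.mk0 t ht : Fˣ) : F) from rfl,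
      show u = ((Units.mk0 u hu : Fˣ) : F) from rfl, ← Units.val_mul, hF.hg_eq_torus hr, hF.hg_eq_torus hr,
      hF.hg_eq_torus hr, ← map_mul]
    congr 1
    funext j
    simp [hCoord, _root_.mul_zpow]

/-- The projection to GL. -/
noncomputable def proj (F : Type*) [Field F] : D.SteinbergGroup F →* GL D.Idx F :=
  PresentedGroup.toGroup hF.mapsTo_rels

theorem proj_x (r : ℕ) (t : F) : hF.proj F (D.stGen F r t) = hF.xg r t := by
  by_cases hr : r < D.nroots
  · rw [ChevalleyDatum.stGen, ChevalleyDatum.stX, dif_pos hr]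
    exact PresentedGroup.toGroup.of hF.mapsTo_rels
  · rw [stGen_out (not_lt.1 hr), map_one, hF.xg_out (not_lt.1 hr)]

theorem proj_prodOver (L : List ℕ) (t : ℕ → F) :
    hF.proj F ((hF.stC F).prodOver L t) = (hF.sys F).prodOver L t := by
  rw [CommSys.prodOver, CommSys.prodOver, map_list_prod, List.map_map]
  congr 1
  exact List.map_congr_left fun r _ => hF.proj_x r _

theorem proj_inj_pos {L : List ℕ} (hL : ClosedList D L) {g g' : D.SteinbergGroup F}
    (hg : g ∈ (hF.stC F).US L) (hg' : g' ∈ (hF.stC F).US L) (h : hF.proj F g = hF.proj F g') :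
    g = g' := by
  obtain ⟨t, rfl⟩ := (hF.stC F).exists_prodOver hL hg
  obtain ⟨t', rfl⟩ := (hF.stC F).exists_prodOver hL hg'
  rw [proj_prodOver, proj_prodOver] at h
  exact (hF.stC F).prodOver_congr fun r hr => hF.prodOver_inj hL h r hr

theorem proj_inj_neg {L : List ℕ} (hL : NegList D L) {g g' : D.SteinbergGroup F}
    (hg : g ∈ (hF.stC F).US L) (hg' : g' ∈ (hF.stC F).US L) (h : hF.proj F g = hF.proj F g') :
    g = g' := by
  obtain ⟨t, rfl⟩ := (hF.stC F).exists_prodOver_neg hL hg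
  obtain ⟨t', rfl⟩ := (hF.stC F).exists_prodOver_neg hL hg'
  rw [proj_prodOver, proj_prodOver] at h
  exact (hF.stC F).prodOver_congr fun r hr => hF.prodOver_inj_neg hL h r hr

/-! ### Lists avoiding a fundamental root -/

include hF in
theorem pos_not_multiple {i s : ℕ} (hi : i < D.rank) (hs : s < D.nroots) (hp : D.nroots / 2 ≤ s)
    (hne : s ≠ D.simple i) : ∃ k, k < D.rank ∧ k ≠ i ∧ co D s k ≠ 0 := by
  by_contra hc
  simp only [not_exists, not_and, not_not] at hc
  have h1 := hF.pairing_self s hs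
  have hα := hF.simple_lt i hi
  have hlt := hF.refl_lt i hi s hs
  have hpos := hF.co_nonneg hlt (hF.refl_pos i hi s hs hp hne) i
  have hco : co D s i ≠ 0 := by
    intro h0
    have : D.pairing s s = 0 := by
      rw [pairing_eq]
      refine Finset.sum_eq_zero fun j hj => ?_
      by_cases hji : j = i
      · rw [hji, h0, zero_mul]
      · rw [hc j (Finset.mem_range.1 hj) hji, zero_mul]
    omega
  have hps : D.pairing s (D.simple i) = co D s i * 2 := by
    rw [pairing_eq, Finset.sum_eq_single i]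
    · rw [hF.cartan_simple i hi]
    · intro j hj hji; rw [hc j (Finset.mem_range.1 hj) hji, zero_mul]
    · intro h; exact absurd (Finset.mem_range.2 hi) h
  rw [hF.co_refl i hi s hs i hi, if_pos rfl, hps] at hpos
  have := hF.co_nonneg hs hp i
  omega

/-- Positive roots other than α, or their negatives in decreasing order. -/
def negNe (D : ChevalleyDatum) (i : ℕ) : List ℕ :=
  ((List.range (D.nroots / 2)).filter fun r => r != D.neg (D.simple i)).reverse

theorem mem_negNe {D : ChevalleyDatum} {i r : ℕ} :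
    r ∈ negNe D i ↔ r < D.nroots / 2 ∧ r ≠ D.neg (D.simple i) := by
  simp [negNe]

section

variable {l : List (List ℤ)} (hl : okCoeff D l = true)

include hF hl in
theorem term_avoid {i r s : ℕ} (hi : i < D.rank) (hr : r < D.nroots) (hs : s < D.nroots)
    (hr' : r = D.simple i ∨ r = D.neg (D.simple i) ∨ D.nroots / 2 ≤ r ∧ r ≠ D.simple i)
    (hs' : D.nroots / 2 ≤ s) (hsne : s ≠ D.simple i) {c : ℕ × ℤ × ℕ × ℕ} (hc : c ∈ D.commTerms r s) :
    D.nroots / 2 ≤ c.1 ∧ c.1 < D.nroots ∧ c.1 ≠ D.simple i := by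
  obtain ⟨k, hk, hki, hco⟩ := hF.pos_not_multiple hi hs hs' hsne
  have hlt := hF.commTerms_lt hr hs c hc
  obtain ⟨a1, b1, -⟩ := hF.commTerms_psi hr hs hc
  have hfs : 0 < psiOf D (coeffFun l k) s := by
    obtain ⟨h0, h1, -⟩ := coeff_spec hl hs hk
    exact lt_of_le_of_ne (h1 hs') fun h => hco (h0.1 h.symm)
  have hsimple : psiOf D (coeffFun l k) (D.simple i) = 0 :=
    (coeff_spec hl (hF.simple_lt i hi) hk).1.2 (by
      have := hF.co_simple i hi k hk
      rwa [if_neg hki, co] at this)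
  have hfr : 0 ≤ psiOf D (coeffFun l k) r := by
    rcases hr' with rfl | rfl | ⟨h, -⟩
    · exact hsimple.ge
    · rw [hF.psiOf_neg _ (hF.simple_lt i hi), hsimple, neg_zero]
    · exact (coeff_spec hl hr hk).2.1 h
  have hfc := hF.psiOf_commTerms (coeffFun l k) hr hs hc
  have a1' : (1 : ℤ) ≤ c.2.2.1 := by exact_mod_cast a1
  have b1' : (1 : ℤ) ≤ c.2.2.2 := by exact_mod_cast b1
  have hfc' : 0 < psiOf D (coeffFun l k) c.1 := by rw [hfc]; nlinarith
  refine ⟨?_, hlt, fun h => ?_⟩
  · by_contra hn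
    have := (coeff_spec hl hlt hk).2.2 (not_le.1 hn)
    omega
  · rw [h, hsimple] at hfc'
    exact lt_irrefl _ hfc'

include hF hl in
theorem term_avoid_neg {i r s : ℕ} (hi : i < D.rank) (hr : r < D.nroots) (hs : s < D.nroots)
    (hr' : r = D.simple i ∨ r = D.neg (D.simple i) ∨ r < D.nroots / 2 ∧ r ≠ D.neg (D.simple i))
    (hs' : s < D.nroots / 2) (hsne : s ≠ D.neg (D.simple i)) {c : ℕ × ℤ × ℕ × ℕ}
    (hc : c ∈ D.commTerms r s) : c.1 < D.nroots / 2 ∧ c.1 ≠ D.neg (D.simple i) := by
  have hns := hF.neg_lt hs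
  have hnsne : D.neg s ≠ D.simple i := fun h => hsne (by rw [← h, hF.neg_neg hs])
  obtain ⟨k, hk, hki, hco⟩ := hF.pos_not_multiple hi hns ((hF.neg_ge_iff hs).2 hs') hnsne
  have hco' : co D s k ≠ 0 := by
    rw [hF.co_neg s hs k hk, neg_ne_zero] at hco; exact hco
  have hlt := hF.commTerms_lt hr hs c hc
  obtain ⟨a1, b1, -⟩ := hF.commTerms_psi hr hs hc
  have hfs : psiOf D (coeffFun l k) s < 0 := by
    obtain ⟨h0, -, h2⟩ := coeff_spec hl hs hk
    exact lt_of_le_of_ne (h2 hs') fun h => hco' (h0.1 h)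
  have hsimple : psiOf D (coeffFun l k) (D.simple i) = 0 :=
    (coeff_spec hl (hF.simple_lt i hi) hk).1.2 (by
      have := hF.co_simple i hi k hk
      rwa [if_neg hki, co] at this)
  have hfr : psiOf D (coeffFun l k) r ≤ 0 := by
    rcases hr' with rfl | rfl | ⟨h, -⟩
    · exact hsimple.le
    · rw [hF.psiOf_neg _ (hF.simple_lt i hi), hsimple, neg_zero]
    · exact (coeff_spec hl hr hk).2.2 h
  have hfc := hF.psiOf_commTerms (coeffFun l k) hr hs hc
  have a1' : (1 : ℤ) ≤ c.2.2.1 := by exact_mod_cast a1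
  have b1' : (1 : ℤ) ≤ c.2.2.2 := by exact_mod_cast b1
  have hfc' : psiOf D (coeffFun l k) c.1 < 0 := by rw [hfc]; nlinarith
  refine ⟨?_, fun h => ?_⟩
  · by_contra hn
    have := (coeff_spec hl hlt hk).2.1 (not_lt.1 hn)
    omega
  · rw [h, hF.psiOf_neg _ (hF.simple_lt i hi), hsimple, neg_zero] at hfc'
    exact lt_irrefl _ hfc'

include hF hl in
theorem negList_negNe (i : Fin D.rank) : NegList D (negNe D i) := by
  refine ⟨?_, fun r hr => (mem_negNe.1 hr).1, fun r hr s hs _ c hc => ?_⟩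
  · rw [negNe, List.pairwise_reverse]
    exact List.pairwise_lt_range.filter _
  · obtain ⟨r1, r2⟩ := mem_negNe.1 hr
    obtain ⟨s1, s2⟩ := mem_negNe.1 hs
    exact mem_negNe.2 (hF.term_avoid_neg hl i.isLt (by omega) (by omega) (Or.inr (Or.inr ⟨r1, r2⟩)) s1 s2 hc)

end

/-- Transport of the relation `g x_s g⁻¹ = x_{π s}(φ_s t)` from GL to the presented group. -/
theorem st_transport (hH : StHyp D) (i : Fin D.rank) (g : D.SteinbergGroup F)
    (hg : g ∈ Subgroup.closure
      (Set.range (D.stGen F (D.simple i.val)) ∪ Set.range (D.stGen F (D.neg (D.simple i.val)))))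
    (π : ℕ → ℕ) (φ : ℕ → F) (hπlt : ∀ s, s < D.nroots → π s < D.nroots)
    (hπinj : ∀ r s, r < D.nroots → s < D.nroots → π r = π s → r = s)
    (hπneg : ∀ s, s < D.nroots → π (D.neg s) = D.neg (π s))
    (hπpos : ∀ s, s ∈ TorusSys.posNe D i → π s ∈ TorusSys.posNe D i)
    (hπn : ∀ s, s ∈ negNe D i → π s ∈ negNe D i)
    (himg : ∀ s, s < D.nroots → ∀ t, hF.proj F g * hF.xg s t * (hF.proj F g)⁻¹ = hF.xg (π s) (φ s * t))
    (hword : ∀ r s, r < D.nroots → s < D.nroots → ∀ t u, D.commWord F (π r) (π s) (φ r * t) (φ s * u) =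
      (D.commWord F r s t u).map fun p => (π p.1, φ p.1 * p.2)) :
    ∀ s, s < D.nroots → ∀ t, g * D.stGen F s t * g⁻¹ = D.stGen F (π s) (φ s * t) := by
  obtain ⟨hA, hA', l, hl⟩ := hH
  have hα := hF.simple_lt i.val i.isLt
  have hge := hF.simple_ge i.val i.isLt
  have hnα : D.neg (D.simple i.val) < D.nroots / 2 := by
    have := hF.neg_eq _ hα
    have := hF.even
    omega
  have hnormP : g ∈ Subgroup.normalizer ((hF.stC F).US (TorusSys.posNe D i) : Set (D.SteinbergGroup F)) := by
    refine (Subgroup.closure_le _).2 ?_ hg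
    rintro _ (⟨t, rfl⟩ | ⟨t, rfl⟩)
    · refine (hF.stC F).x_normalizes hα (fun s hs => ?_) t
      obtain ⟨h1, h2, h3⟩ := TorusSys.mem_posNe.1 hs
      exact ⟨h2, by omega, fun _ c hc => TorusSys.mem_posNe.2
        (hF.term_avoid hl i.isLt hα h2 (Or.inl rfl) h1 h3 hc)⟩
    · refine (hF.stC F).x_normalizes (hF.neg_lt hα) (fun s hs => ?_) t
      obtain ⟨h1, h2, h3⟩ := TorusSys.mem_posNe.1 hs
      exact ⟨h2, by rw [hF.neg_neg hα]; exact h3, fun _ c hc => TorusSys.mem_posNe.2
        (hF.term_avoid hl i.isLt (hF.neg_lt hα) h2 (Or.inr (Or.inl rfl)) h1 h3 hc)⟩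
  have hnormN : g ∈ Subgroup.normalizer ((hF.stC F).US (negNe D i) : Set (D.SteinbergGroup F)) := by
    refine (Subgroup.closure_le _).2 ?_ hg
    rintro _ (⟨t, rfl⟩ | ⟨t, rfl⟩)
    · refine (hF.stC F).x_normalizes hα (fun s hs => ?_) t
      obtain ⟨h1, h2⟩ := mem_negNe.1 hs
      exact ⟨by omega, h2, fun _ c hc => mem_negNe.2
        (hF.term_avoid_neg hl i.isLt hα (by omega) (Or.inl rfl) h1 h2 hc)⟩
    · refine (hF.stC F).x_normalizes (hF.neg_lt hα) (fun s hs => ?_) t
      obtain ⟨h1, h2⟩ := mem_negNe.1 hs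
      exact ⟨by omega, by rw [hF.neg_neg hα]; omega, fun _ c hc => mem_negNe.2
        (hF.term_avoid_neg hl i.isLt (hF.neg_lt hα) (by omega) (Or.inr (Or.inl rfl)) h1 h2 hc)⟩
  have hgen : ∀ s, s < D.nroots → s ≠ D.simple i.val → s ≠ D.neg (D.simple i.val) → ∀ t,
      g * D.stGen F s t * g⁻¹ = D.stGen F (π s) (φ s * t) := by
    intro s hs h1 h2 t
    have hp : hF.proj F (g * D.stGen F s t * g⁻¹) = hF.proj F (D.stGen F (π s) (φ s * t)) := by
      rw [map_mul, map_mul, map_inv, proj_x, proj_x, himg s hs]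
    by_cases hpos : D.nroots / 2 ≤ s
    · have hsL : s ∈ TorusSys.posNe D i := TorusSys.mem_posNe.2 ⟨hpos, hs, h1⟩
      exact hF.proj_inj_pos (TorusSys.closed_posNe (hF := hF) i)
        ((Subgroup.mem_normalizer_iff.1 hnormP _).1 ((hF.stC F).x_mem_US hsL t))
        ((hF.stC F).x_mem_US (hπpos s hsL) _) hp
    · have hsL : s ∈ negNe D i := mem_negNe.2 ⟨not_le.1 hpos, h2⟩
      exact hF.proj_inj_neg (hF.negList_negNe hl i)
        ((Subgroup.mem_normalizer_iff.1 hnormN _).1 ((hF.stC F).x_mem_US hsL t))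
        ((hF.stC F).x_mem_US (hπn s hsL) _) hp
  have hspec : ∀ a e, okAlpha D a e = true → (a = D.simple i.val ∨ a = D.neg (D.simple i.val)) →
      ∀ t, g * D.stGen F a t * g⁻¹ = D.stGen F (π a) (φ a * t) := by
    intro a e he ha v
    obtain ⟨r, s⟩ := e
    simp only [okAlpha, Bool.and_eq_true, decide_eq_true_eq, bne_iff_ne, beq_iff_eq] at he
    obtain ⟨⟨⟨⟨⟨⟨⟨⟨⟨hr, hs⟩, hr1⟩, hr2⟩, hs1⟩, hs2⟩, hne1⟩, hne2⟩, hlen⟩, hall⟩ := he
    rw [List.all_eq_true] at hall
    have hoff : ∀ k, k ≠ a → k ≠ D.neg a → k ≠ D.simple i.val ∧ k ≠ D.neg (D.simple i.val) := by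
      intro k k1 k2
      rcases ha with rfl | rfl
      · exact ⟨k1, k2⟩
      · rw [hF.neg_neg hα] at k2; exact ⟨k2, k1⟩
    obtain ⟨c, hc, hca⟩ : ∃ c ∈ D.commTerms r s, c.1 = a := by
      obtain ⟨c, hc⟩ := List.exists_mem_of_length_pos (l := (D.commTerms r s).filter fun c => c.1 == a)
        (by omega)
      rw [List.mem_filter, beq_iff_eq] at hc
      exact ⟨c, hc⟩
    have hc' := hall c hc
    rw [if_pos (by simp [hca])] at hc'
    simp only [Bool.and_eq_true, Bool.or_eq_true, beq_iff_eq] at hc'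
    obtain ⟨hC, hij⟩ := hc'
    have hCne : (c.2.1 : F) ≠ 0 := by
      rcases Int.natAbs_eq c.2.1 with h' | h' <;> rw [h', hC] <;> simp
    obtain ⟨t, u, htu⟩ : ∃ t u : F, (c.2.1 : F) * (-t) ^ c.2.2.1 * u ^ c.2.2.2 = v := by
      rcases hij with h | h
      · exact ⟨-(v / c.2.1), 1, by rw [h, _root_.neg_neg, pow_one, one_pow, mul_one, mul_div_cancel₀ _ hCne]⟩
      · exact ⟨-1, v / c.2.1, by rw [h, _root_.neg_neg, one_pow, mul_one, pow_one, mul_div_cancel₀ _ hCne]⟩
    obtain ⟨r3, r4⟩ := hoff r hr1 hr2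
    obtain ⟨s3, s4⟩ := hoff s hs1 hs2
    have h0 := congrArg (fun z => g * z * g⁻¹) ((hF.stC F).x_comm r s hr hs hne1 hne2 t u)
    simp only [stC_x] at h0
    have hconj : ∀ a b : D.SteinbergGroup F, g * (a * b) * g⁻¹ = g * a * g⁻¹ * (g * b * g⁻¹) :=
      fun a b => by group
    rw [hconj, hconj, hconj, hgen s hs s3 s4, hgen r hr r3 r4] at h0
    have h1 := (hF.stC F).x_comm (π r) (π s) (hπlt r hr) (hπlt s hs)
      (fun h => hne1 (hπinj s r hs hr h))
      (fun h => hne2 (hπinj s _ hs (hF.neg_lt hr) (h.trans (hπneg r hr).symm))) (φ r * t) (φ s * u)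
    simp only [stC_x] at h1
    rw [h1, mul_right_inj, hword r s hr hs, List.map_map,
      show ∀ z, g * z * g⁻¹ = (MulAut.conj g).toMonoidHom z from fun z => rfl, map_list_prod,
      List.map_map, ChevalleyDatum.commWord, List.map_map, List.map_map] at h0
    have hm := middle_eq _ _ (fun c => c.1 == a) (D.commTerms r s) h0.symm (fun d hd hda => ?_) hlen c hc
      (by simp [hca])
    · simp only [Function.comp_apply, hca, htu] at hm
      exact hm
    · have hd' := hall d hd
      rw [if_neg (by simpa using hda)] at hd'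
      obtain ⟨d1, d2⟩ := hoff d.1 (by simpa using hda) (by simpa using hd')
      simp only [Function.comp_apply]
      exact hgen d.1 (hF.commTerms_lt hr hs d hd) d1 d2 _
  intro s hs t
  by_cases h1 : s = D.simple i.val
  · obtain ⟨e, he⟩ := hA i.val i.isLt
    exact h1 ▸ hspec _ e he (Or.inl rfl) t
  by_cases h2 : s = D.neg (D.simple i.val)
  · obtain ⟨e, he⟩ := hA' i.val i.isLt
    exact h2 ▸ hspec _ e he (Or.inr rfl) t
  exact hgen s hs h1 h2 t

theorem proj_nElt (r : ℕ) (t : F) : hF.proj F (nElt D (D.stGen F) r t) = hF.ng r t := by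
  rw [nElt, map_mul, map_mul, proj_x, proj_x, hF.ng_eq]

theorem nElt_mem (i : ℕ) (t : F) : nElt D (D.stGen F) (D.simple i) t ∈ Subgroup.closure
    (Set.range (D.stGen F (D.simple i)) ∪ Set.range (D.stGen F (D.neg (D.simple i)))) :=
  mul_mem (mul_mem (Subgroup.subset_closure (Or.inl ⟨t, rfl⟩))
    (Subgroup.subset_closure (Or.inr ⟨_, rfl⟩))) (Subgroup.subset_closure (Or.inl ⟨t, rfl⟩))

/-- The presented group as a system with torus relations. -/
noncomputable def stT (hH : StHyp D) (F : Type*) [Field F] : TorusSys hF F (D.SteinbergGroup F) where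
  toCommSys := hF.stC F
  n_conj i hi s hs t := by
    show nElt D (D.stGen F) (D.simple i) 1 * D.stGen F s t * (nElt D (D.stGen F) (D.simple i) 1)⁻¹ =
      D.stGen F _ _
    refine hF.st_transport hH ⟨i, hi⟩ _ (nElt_mem i 1) (D.reflectRoot i) (fun r => hF.sgn F i r)
      (hF.refl_lt i hi) ?_ (hF.refl_neg i hi)
      (fun r hr => TorusSys.refl_posNe (hF := hF) ⟨i, hi⟩ hr) ?_ ?_ ?_ s hs t
    · intro a b ha hb h
      exact hF.refl_inj hi ha hb h
    · intro r hr
      obtain ⟨h1, h2⟩ := mem_negNe.1 hr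
      have hr' : r < D.nroots := by omega
      have hm : D.neg r ∈ TorusSys.posNe D ⟨i, hi⟩ := TorusSys.mem_posNe.2
        ⟨(hF.neg_ge_iff hr').2 h1, hF.neg_lt hr', fun h => h2 (by rw [← h, hF.neg_neg hr'])⟩
      obtain ⟨a, b, c⟩ := TorusSys.mem_posNe.1 (TorusSys.refl_posNe (hF := hF) ⟨i, hi⟩ hm)
      rw [hF.refl_neg i hi r hr'] at a c
      exact mem_negNe.2 ⟨(hF.neg_ge_iff (hF.refl_lt i hi r hr')).1 a,
        fun h => c (by rw [h, hF.neg_neg (hF.simple_lt i hi)])⟩
    · intro r hr v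
      rw [proj_nElt]
      exact hF.ng_conj i hi r hr v
    · intro r q hr hq v w
      have h := hF.commWord_refl (F := F) hi hr hq (hF.sgn F i r * v) (hF.sgn F i q * w)
      rw [← mul_assoc, ← mul_assoc, hF.sgn_mul_self hi hr, hF.sgn_mul_self hi hq, one_mul, one_mul] at h
      exact h.symm
  h_conj i hi c hc s hs t := by
    show (nElt D (D.stGen F) (D.simple i) c * nElt D (D.stGen F) (D.simple i) (-1)) * D.stGen F s t *
      (nElt D (D.stGen F) (D.simple i) c * nElt D (D.stGen F) (D.simple i) (-1))⁻¹ = D.stGen F s _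
    refine hF.st_transport hH ⟨i, hi⟩ _ (mul_mem (nElt_mem i c) (nElt_mem i (-1))) id
      (fun r => c ^ D.cartan i r) (fun _ h => h) (fun _ _ _ _ h => h) (fun _ _ => rfl)
      (fun _ h => h) (fun _ h => h) ?_ ?_ s hs t
    · intro r hr v
      rw [map_mul, proj_nElt, proj_nElt, ← hF.hg_eq]
      have e : (hF.tsys F).h (D.simple i) c = hF.hg (D.simple i) c := hF.tsys_h _ _
      rw [← e]
      exact (hF.tsys F).h_conj i hi c hc r hr v
    · intro r q hr hq v w
      simp only [id_eq, ChevalleyDatum.commWord, List.map_map]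
      refine List.map_congr_left fun d hd => ?_
      simp only [Function.comp_apply, Prod.mk.injEq, true_and]
      rw [(hF.commTerms_psi hr hq hd).2.2 i hi, zpow_add₀ hc, mul_comm (d.2.2.1 : ℤ),
        mul_comm (d.2.2.2 : ℤ), _root_.zpow_mul, _root_.zpow_mul, zpow_natCast, zpow_natCast,
        show -(c ^ D.cartan i r * v) = c ^ D.cartan i r * -v by ring, mul_pow, mul_pow]
      ring

/-! ### The kernel -/

variable (hH : StHyp D)

theorem stT_x (r : ℕ) (t : F) : (hF.stT hH F).x r t = D.stGen F r t := rfl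

theorem stT_G : (hF.stT hH F).G = ⊤ := by
  rw [eq_top_iff, ← PresentedGroup.closure_range_of (D.steinbergRels F)]
  refine (Subgroup.closure_le _).2 ?_
  rintro _ ⟨⟨r, t⟩, rfl⟩
  refine Subgroup.subset_closure ⟨r.val, t, ?_⟩
  rw [stT_x, ChevalleyDatum.stGen, ChevalleyDatum.stX, dif_pos r.isLt]
  rfl

theorem proj_n (r : ℕ) (t : F) : hF.proj F ((hF.stT hH F).n r t) = hF.ng r t := hF.proj_nElt r t

theorem proj_h (r : ℕ) (t : F) : hF.proj F ((hF.stT hH F).h r t) = hF.hg r t := by
  rw [TorusSys.h, map_mul, proj_n, proj_n, hF.hg_eq]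

theorem proj_H {a : D.SteinbergGroup F} (ha : a ∈ (hF.stT hH F).H) :
    hF.proj F a ∈ (hF.tsys F).H := by
  induction ha using Subgroup.closure_induction with
  | mem g hg =>
    obtain ⟨r, t, hr, ht, rfl⟩ := hg
    rw [proj_h, ← hF.tsys_h]
    exact (hF.tsys F).h_mem hr ht
  | one => rw [map_one]; exact one_mem _
  | mul x y _ _ hx hy => rw [map_mul]; exact mul_mem hx hy
  | inv x _ hx => rw [map_inv]; exact inv_mem hx

theorem proj_U {u : D.SteinbergGroup F} (hu : u ∈ (hF.stT hH F).U) :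
    hF.proj F u ∈ (hF.tsys F).U := by
  induction hu using Subgroup.closure_induction with
  | mem g hg =>
    obtain ⟨r, hr, t, rfl⟩ := hg
    rw [stT_x, proj_x, ← hF.tsys_x]
    exact CommSys.x_mem_US _ hr t
  | one => rw [map_one]; exact one_mem _
  | mul x y _ _ hx hy => rw [map_mul]; exact mul_mem hx hy
  | inv x _ hx => rw [map_inv]; exact inv_mem hx

theorem proj_B {b : D.SteinbergGroup F} (hb : b ∈ (hF.stT hH F).B) :
    hF.proj F b ∈ (hF.tsys F).B := by
  obtain ⟨u, hu, a, ha, rfl⟩ := (hF.stT hH F).mem_B.1 hb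
  rw [map_mul]
  exact mul_mem ((hF.tsys F).U_le_B (hF.proj_U hH hu)) ((hF.tsys F).H_le_B (hF.proj_H hH ha))

theorem proj_nw (ω : List (Fin D.rank)) :
    hF.proj F ((hF.stT hH F).nw ω) = (hF.tsys F).nw ω := by
  induction ω with
  | nil => simp [TorusSys.nw]
  | cons i ω ih =>
    rw [TorusSys.nw_cons, TorusSys.nw_cons, map_mul, ih, TorusSys.nS, proj_n, hF.tsys_nS]

theorem ker_le_H : (hF.proj F).ker ≤ (hF.stT hH F).H := by
  intro g hg
  rw [MonoidHom.mem_ker] at hg
  obtain ⟨b, hb, w, b', hb', rfl⟩ := (hF.stT hH F).mem_BNB (g := g)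
    (by rw [hF.stT_G hH]; exact Subgroup.mem_top g)
  have hw : w = 1 := by
    refine hF.hsep (F := F) w ?_
    rw [map_mul, map_mul, show hF.proj F ((hF.stT hH F).nW w) = (hF.tsys F).nW w from
      hF.proj_nw hH _] at hg
    rw [show (hF.tsys F).nW w =
      (hF.proj F b)⁻¹ * (hF.proj F b * (hF.tsys F).nW w * hF.proj F b') * (hF.proj F b')⁻¹ by group, hg,
      mul_one]
    exact mul_mem (inv_mem (hF.proj_B hH hb)) (inv_mem (hF.proj_B hH hb'))
  subst hw
  obtain ⟨u, hu, a, ha, he⟩ := (hF.stT hH F).mem_B.1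
    (mul_mem (mul_mem hb ((hF.stT hH F).H_le_B (hF.stT hH F).nW_one)) hb')
  rw [he] at hg ⊢
  rw [map_mul] at hg
  have h1 : hF.proj F u = 1 := by
    refine hF.U_inter_H (hF.proj_U hH hu) ?_
    rw [eq_inv_of_mul_eq_one_left hg]
    exact inv_mem (hF.proj_H hH ha)
  have h2 : u = 1 := hF.proj_inj_pos hF.closedList_posL hu (one_mem _) (by rw [h1, map_one])
  rw [h2, one_mul]
  exact ha

theorem h_conj_n {j : Fin D.rank} {c : F} (hc : c ≠ 0) (i : Fin D.rank) (a : F) :
    (hF.stT hH F).h (D.simple j.val) c * (hF.stT hH F).n (D.simple i.val) a *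
      ((hF.stT hH F).h (D.simple j.val) c)⁻¹ =
      (hF.stT hH F).n (D.simple i.val) (c ^ D.cartan j.val (D.simple i.val) * a) := by
  set S := hF.stT hH F with hS
  have hα := hF.simple_lt i.val i.isLt
  have h1 : S.h (D.simple j.val) c * S.x (D.simple i.val) a * (S.h (D.simple j.val) c)⁻¹ =
      S.x (D.simple i.val) (c ^ D.cartan j.val (D.simple i.val) * a) :=
    S.h_conj j.val j.isLt c hc _ hα a
  have h2 : S.h (D.simple j.val) c * S.x (D.neg (D.simple i.val)) (-a⁻¹) * (S.h (D.simple j.val) c)⁻¹ =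
      S.x (D.neg (D.simple i.val)) (c ^ D.cartan j.val (D.neg (D.simple i.val)) * -a⁻¹) :=
    S.h_conj j.val j.isLt c hc _ (hF.neg_lt hα) (-a⁻¹)
  rw [hF.cartan_neg j.val j.isLt _ hα, _root_.zpow_neg, mul_neg, ← _root_.mul_inv_rev,
    mul_comm a] at h2
  simp only [TorusSys.n, nElt]
  rw [← h1, ← h2]
  group

/-- The subgroup generated by the h_i(t). -/
def H0 : Subgroup (D.SteinbergGroup F) :=
  Subgroup.closure {g | ∃ (i : Fin D.rank) (t : F), t ≠ 0 ∧ (hF.stT hH F).h (D.simple i.val) t = g}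

theorem H_le_H0 : (hF.stT hH F).H ≤ hF.H0 (F := F) hH := by
  set S := hF.stT hH F with hS
  have hmem : ∀ (i : Fin D.rank) (t : F), t ≠ 0 → S.h (D.simple i.val) t ∈ hF.H0 hH := fun i t ht =>
    Subgroup.subset_closure ⟨i, t, ht, rfl⟩
  have hstep : ∀ i : Fin D.rank, ∀ g ∈ hF.H0 (F := F) hH, S.nS i * g * (S.nS i)⁻¹ ∈ hF.H0 hH := by
    intro i g hg
    have hle : hF.H0 (F := F) hH ≤ (hF.H0 hH).comap (MulAut.conj (S.nS i)).toMonoidHom := by
      refine (Subgroup.closure_le _).2 ?_
      rintro _ ⟨j, t, ht, rfl⟩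
      show S.nS i * S.h (D.simple j.val) t * (S.nS i)⁻¹ ∈ hF.H0 hH
      set A := D.cartan j.val (D.simple i.val) with hA
      have h1 := hF.h_conj_n (F := F) hH ht i (1 : F) (j := j)
      rw [mul_one, S.n_eq_h_mul (D.simple i.val) (t ^ A)] at h1
      have e : S.nS i * S.h (D.simple j.val) t * (S.nS i)⁻¹ =
          (S.h (D.simple i.val) (t ^ A))⁻¹ * S.h (D.simple j.val) t := by
        have h2 : S.h (D.simple j.val) t * S.nS i * (S.h (D.simple j.val) t)⁻¹ =
            S.h (D.simple i.val) (t ^ A) * S.nS i := h1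
        calc S.nS i * S.h (D.simple j.val) t * (S.nS i)⁻¹
            = S.nS i * (S.h (D.simple j.val) t * S.nS i * (S.h (D.simple j.val) t)⁻¹)⁻¹ *
                S.h (D.simple j.val) t := by group
          _ = _ := by rw [h2]; group
      rw [e]
      exact mul_mem (inv_mem (hmem i _ (zpow_ne_zero _ ht))) (hmem j t ht)
    exact hle hg
  have hall : ∀ r, r < D.nroots → ∀ c : F, c ≠ 0 → S.h r c ∈ hF.H0 hH := by
    refine hF.simple_induction _ (fun i hi c hc => hmem ⟨i, hi⟩ c hc) (fun i hi r hr ih c hc => ?_)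
    have hne : hF.sgn F i r ≠ 0 := left_ne_zero_of_mul_eq_one (hF.sgn_mul_self hi hr)
    have h1 := S.nS_conj_h ⟨i, hi⟩ hr (hF.sgn F i r * c)
    rw [← mul_assoc, hF.sgn_mul_self hi hr, one_mul] at h1
    rw [show S.h (D.reflectRoot i r) c = S.nS ⟨i, hi⟩ * S.h r (hF.sgn F i r * c) * (S.nS ⟨i, hi⟩)⁻¹ *
      S.h (D.reflectRoot i r) (hF.sgn F i r) by rw [h1, inv_mul_cancel_right]]
    refine mul_mem (hstep _ _ (ih _ (mul_ne_zero hne hc))) ?_
    have h2 := S.nS_conj_h ⟨i, hi⟩ hr (1 : F)
    rw [S.h_one, mul_one, mul_one, mul_inv_cancel] at h2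
    have h3 := S.nS_conj_h ⟨i, hi⟩ hr (hF.sgn F i r)
    rw [hF.sgn_mul_self hi hr, S.h_one, one_mul] at h3
    rw [← inv_mem_iff, ← h3]
    exact hstep _ _ (ih _ hne)
  refine (Subgroup.closure_le _).2 ?_
  rintro _ ⟨r, t, hr, ht, rfl⟩
  exact hall r hr t ht

include hH in
theorem ker_eq_center (hl : ∃ l, okCoeff D l = true) :
    (hF.proj F).ker = Subgroup.center (D.SteinbergGroup F) := by
  set S := hF.stT hH F with hS
  refine le_antisymm (fun g hg => ?_) (fun z hz => ?_)
  · rw [← Subgroup.centralizer_univ, ← Subgroup.coe_top, ← hF.stT_G hH, TorusSys.G,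
      Subgroup.centralizer_closure, Subgroup.mem_centralizer_iff]
    rintro _ ⟨r, t, rfl⟩
    by_cases hr : r < D.nroots
    · obtain ⟨u, hu⟩ := (S.H_conj_X (hF.ker_le_H hH hg) hr t).1
      have h1 := congrArg (hF.proj F) hu
      rw [map_mul, map_mul, map_inv, MonoidHom.mem_ker.1 hg, one_mul, inv_one, mul_one] at h1
      change hF.proj F (D.stGen F r t) = hF.proj F (D.stGen F r u) at h1
      rw [proj_x, proj_x] at h1
      have h2 : t = u := by
        have h3 : hF.xg r (t - u) = 1 := by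
          rw [sub_eq_add_neg, hF.xg_add, hF.xg_neg, h1, mul_inv_cancel]
        have h4 := congrArg Units.val h3
        rw [coe_xg, Units.val_one, hF.x_eq_one r hr, sub_eq_zero] at h4
        exact h4
      rw [← h2, mul_inv_eq_iff_eq_mul] at hu
      exact hu.symm
    · rw [S.x_out r t (not_lt.1 hr), one_mul, mul_one]
  · obtain ⟨l, hl⟩ := hl
    rw [MonoidHom.mem_ker]
    have hz' : ∀ y ∈ D.group F, y * hF.proj F z = hF.proj F z * y := by
      intro y hy
      rw [hF.group_eq] at hy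
      induction hy using Subgroup.closure_induction with
      | mem x hx =>
        obtain ⟨⟨r, t⟩, rfl⟩ := hx
        simp only
        rw [← hF.proj_x r t, ← map_mul, ← map_mul, Subgroup.mem_center_iff.1 hz]
      | one => simp
      | mul a b _ _ ha hb => rw [mul_assoc, hb, ← mul_assoc, ha, mul_assoc]
      | inv a _ ha => rw [inv_mul_eq_iff_eq_mul, ← mul_assoc, ha, mul_inv_cancel_right]
    have hzG : hF.proj F z ∈ D.group F := by
      have key : ∀ y ∈ S.G, hF.proj F y ∈ D.group F := by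
        intro y hy
        induction hy using Subgroup.closure_induction with
        | mem x hx =>
          obtain ⟨r, t, rfl⟩ := hx
          rw [stT_x, proj_x]; exact hF.xg_mem_group r t
        | one => rw [map_one]; exact one_mem _
        | mul a b _ _ ha hb => rw [map_mul]; exact mul_mem ha hb
        | inv a _ ha => rw [map_inv]; exact inv_mem ha
      exact key z (by rw [hS, hF.stT_G hH]; exact Subgroup.mem_top z)
    have hB : hF.proj F z ∈ (hF.tsys F).B := by
      have hU : D.unipotentRadical F ∅ ≤ D.group F := by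
        rw [hF.unipotentRadical_eq]
        exact CommSys.US_le _ fun r _ t => hF.xg_mem_group r t
      have hN : hF.proj F z ∈ Subgroup.normalizer (D.unipotentRadical F ∅ : Set (GL D.Idx F)) ⊓ D.group F := by
        refine ⟨Subgroup.mem_normalizer_iff.2 fun y => ⟨fun hy => ?_, fun hy => ?_⟩, hzG⟩
        · rwa [← hz' y (hU hy), mul_inv_cancel_right]
        · have := hz' _ (hU hy)
          rw [inv_mul_cancel_right] at this
          rw [← mul_left_cancel this] at hy
          exact hy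
      rw [hF.normalizer_rad hl ∅] at hN
      rw [hF.tsys_B]
      have : D.parabolicSubgroup F ∅ = D.borelSubgroup F := by
        simp [ChevalleyDatum.parabolicSubgroup]
      rwa [this] at hN
    have hK := hF.not_le_borel (N := Subgroup.zpowers (hF.proj F z)) (fun g hg x hx => by
      obtain ⟨k, rfl⟩ := hx
      have : Commute g (hF.proj F z) := hz' g hg
      rw [(this.zpow_right k).eq, mul_inv_cancel_right]
      exact ⟨k, rfl⟩) (Subgroup.zpowers_le.2 hB)
    exact Subgroup.zpowers_eq_bot.1 hK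

theorem H0_torus {g : D.SteinbergGroup F} (hg : g ∈ hF.H0 (F := F) hH) :
    ∀ (hinj : Function.Injective (torus D F)), hF.proj F g = 1 → g = 1 := by
  intro hinj hone
  set S := hF.stT hH F with hS
  have hsum : ∀ a b : Fˣ, ∀ j : Fin D.rank,
      S.h (D.simple j.val) (a : F) * S.h (D.simple j.val) (b : F) = S.h (D.simple j.val) ((a * b : Fˣ) : F) := by
    intro a b j
    have h := st_rel (F := F) (D := D)
      (Or.inr ⟨D.simple j.val, (a : F), (b : F), hF.simple_lt j.val j.isLt, a.ne_zero, b.ne_zero, rfl⟩)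
    rw [map_mul, map_mul, map_inv, mul_inv_eq_one, mk_stH, mk_stH, mk_stH] at h
    rw [Units.val_mul]
    exact h
  let hh : (j : Fin D.rank) → Fˣ →* D.SteinbergGroup F := fun j =>
    MonoidHom.mk' (fun u => S.h (D.simple j.val) (u : F)) fun a b => (hsum a b j).symm
  have hcomm : Pairwise fun i j => ∀ x y, Commute (hh i x) (hh j y) := by
    intro i j _ x y
    show S.h (D.simple i.val) (x : F) * S.h (D.simple j.val) (y : F) =
      S.h (D.simple j.val) (y : F) * S.h (D.simple i.val) (x : F)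
    set e := (x : F) ^ D.cartan i.val (D.simple j.val) with he
    have h1 := hF.h_conj_n (F := F) hH x.ne_zero j ((y : F)) (j := i)
    have h2 := hF.h_conj_n (F := F) hH x.ne_zero j (-1 : F) (j := i)
    have hu : e ≠ 0 := zpow_ne_zero _ x.ne_zero
    rw [← mul_inv_eq_iff_eq_mul]
    simp only [← hS] at h1 h2
    have h3 : S.h (D.simple i.val) (x : F) * S.h (D.simple j.val) (y : F) * (S.h (D.simple i.val) (x : F))⁻¹ =
        S.n (D.simple j.val) (e * y) * S.n (D.simple j.val) (e * -1) := by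
      rw [← h1, ← h2, show S.h (D.simple j.val) (y : F) = S.n (D.simple j.val) (y : F) * S.n (D.simple j.val) (-1) from rfl]
      group
    rw [h3, mul_neg, mul_one, TorusSys.n_mul_n]
    have h4 := hsum (Units.mk0 e hu) y j
    rw [Units.val_mk0, Units.val_mul, Units.val_mk0] at h4
    have h5 : S.h (D.simple j.val) e * S.h (D.simple j.val) (y : F) =
        S.h (D.simple j.val) (y : F) * S.h (D.simple j.val) e := by
      have h6 := hsum y (Units.mk0 e hu) j
      rw [Units.val_mk0, Units.val_mul, Units.val_mk0] at h6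
      rw [h4, h6, mul_comm e]
    rw [← h4, h5, mul_inv_cancel_right]
  let ψ : (Fin D.rank → Fˣ) →* D.SteinbergGroup F := MonoidHom.noncommPiCoprod hh hcomm
  have hψ : ∀ c, hF.proj F (ψ c) = torus D F c := by
    intro c
    have : (hF.proj F).comp ψ = torus D F := by
      refine MonoidHom.pi_ext fun j u => ?_
      show hF.proj F (ψ (Pi.mulSingle j u)) = torus D F (Pi.mulSingle j u)
      rw [MonoidHom.noncommPiCoprod_mulSingle, torus_single hF]
      exact hF.proj_h hH _ _
    exact DFunLike.congr_fun this c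
  obtain ⟨c, rfl⟩ : g ∈ ψ.range := by
    refine (Subgroup.closure_le _).2 ?_ hg
    rintro _ ⟨i, t, ht, rfl⟩
    exact ⟨Pi.mulSingle i (Units.mk0 t ht), by simp only [ψ, MonoidHom.noncommPiCoprod_mulSingle]; rfl⟩
  rw [hψ] at hone
  have : c = 1 := hinj (hone.trans (map_one _).symm)
  rw [this, map_one]

end Facts

end Cfsg.Agent.Lie
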