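import Mathlib
import Cfsg.Agent.Lib.Lie.SmallRep
import Cfsg.Agent.Lib.Lie.FactsG2
import Cfsg.Agent.Lib.Lie.Steinberg
import Cfsg.Prelude.Def_ChevG2

/-!
The seven-dimensional representation of the presented group of type G2 and the six-dimensional one in
characteristic two.
-/

set_option autoImplicit false
set_option maxRecDepth 100000

namespace Cfsg.Agent.Lie

open Cfsg.Lie Matrix
open scoped MatrixGroups

/-- The terms. -/
def g2Ent : List (List Tm) :=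
  [[⟨5, 0, 1, 0, -1⟩, ⟨6, 1, 1, 0, -1⟩],
    [⟨4, 0, 1, 0, 1⟩, ⟨6, 2, 1, 0, -1⟩],
    [⟨3, 0, 1, 0, -1⟩, ⟨4, 1, 1, 0, 1⟩, ⟨5, 2, 1, 0, 1⟩, ⟨6, 3, 1, 0, -2⟩, ⟨6, 0, 2, 0, 1⟩],
    [⟨2, 0, 1, 0, -1⟩, ⟨3, 1, 1, 0, 1⟩, ⟨5, 3, 1, 0, -2⟩, ⟨6, 4, 1, 0, 1⟩, ⟨5, 1, 2, 0, -1⟩],
    [⟨1, 0, 1, 0, 1⟩, ⟨3, 2, 1, 0, 1⟩, ⟨4, 3, 1, 0, 2⟩, ⟨6, 5, 1, 0, 1⟩, ⟨4, 2, 2, 0, 1⟩],
    [⟨2, 1, 1, 0, 1⟩, ⟨5, 4, 1, 0, 1⟩],
    [⟨1, 2, 1, 0, 1⟩, ⟨4, 5, 1, 0, 1⟩],
    [⟨0, 1, 1, 0, 1⟩, ⟨2, 3, 1, 0, 2⟩, ⟨3, 4, 1, 0, 1⟩, ⟨5, 6, 1, 0, 1⟩, ⟨2, 4, 2, 0, 1⟩],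
    [⟨0, 2, 1, 0, -1⟩, ⟨1, 3, 1, 0, 2⟩, ⟨3, 5, 1, 0, -1⟩, ⟨4, 6, 1, 0, 1⟩, ⟨1, 5, 2, 0, -1⟩],
    [⟨0, 3, 1, 0, -2⟩, ⟨1, 4, 1, 0, 1⟩, ⟨2, 5, 1, 0, 1⟩, ⟨3, 6, 1, 0, -1⟩, ⟨0, 6, 2, 0, 1⟩],
    [⟨0, 4, 1, 0, 1⟩, ⟨2, 6, 1, 0, -1⟩],
    [⟨0, 5, 1, 0, -1⟩, ⟨1, 6, 1, 0, -1⟩]]

/-- The weights. -/
def g2Wt : List (List ℤ) :=
  [[-1, -1, 0, 0, 0, 1, 1],
    [-1, 0, -1, 0, 1, 0, 1],
    [-2, -1, -1, 0, 1, 1, 2],
    [-1, -2, 1, 0, -1, 2, 1],
    [-1, 1, -2, 0, 2, -1, 1],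
    [0, -1, 1, 0, -1, 1, 0],
    [0, 1, -1, 0, 1, -1, 0],
    [1, -1, 2, 0, -2, 1, -1],
    [1, 2, -1, 0, 1, -2, -1],
    [2, 1, 1, 0, -1, -1, -2],
    [1, 0, 1, 0, -1, 0, -1],
    [1, 1, 0, 0, 0, -1, -1]]

/-- The representation. -/
def g2Rep : SRep where
  N := 7
  ent r := g2Ent.getD r []
  wt r i := (g2Wt.getD r []).getD i 0

theorem g2Rep_ok : g2Rep.okRels chevG2 = true := by decide +kernel

theorem g2Rep_col : ∀ r : Fin 12, ∀ m ∈ g2Rep.ent r.val, m.col = 3 → m.c % 2 = 0 := by decide +kernel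

theorem g2Rep_out (r : ℕ) (hr : 12 ≤ r) : g2Rep.ent r = [] :=
  List.getD_eq_default _ _ hr

theorem evL_map {ι : Type*} {N : ℕ} (e : ι ≃ Fin N) {R S : Type*} [CommRing R] [CommRing S] (f : R →+* S)
    (t u : R) (L : List Tm) : (evL e t u L).map f = evL e (f t) (f u) L := by
  induction L with
  | nil => simp [evL_nil]
  | cons m L ih =>
    rw [evL_cons, evL_cons, ← ih, Matrix.map_add f (map_add f)]
    congr 1
    ext p q
    simp only [Tm.ev, Matrix.map_apply, Matrix.smul_apply, matUnit_apply, smul_eq_mul, map_mul, map_pow, map_intCast]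
    split_ifs <;> simp

/-- The matrix of x_r(t) on the six coordinates, over any ring. -/
def g2Six {R : Type*} [CommRing R] (r : ℕ) (t : R) : Matrix (Fin 6) (Fin 6) R :=
  (1 + evL (Equiv.refl (Fin 7)) t t ((g2Rep.ent r).map fun m => ⟨m.row, m.col, m.a, 0, m.c⟩)).submatrix
    (Fin.succAbove 3) (Fin.succAbove 3)

theorem g2Six_map {R S : Type*} [CommRing R] [CommRing S] (f : R →+* S) (r : ℕ) (t : R) :
    (g2Six r t).map f = g2Six r (f t) := by
  rw [g2Six, g2Six, ← evL_map, ← Matrix.submatrix_map, Matrix.map_add f (map_add f), Matrix.map_one f (map_zero f) (map_one f)]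

variable {F : Type*} [Field F] [CharP F 2]

theorem g2Rep_col_zero (r : ℕ) (t : F) (i : Fin 7) (hi : i ≠ 3) :
    g2Rep.mat (Equiv.refl (Fin 7)) F r t i 3 = 0 := by
  have key : ∀ L : List Tm, (∀ m ∈ L, m.col = 3 → m.c % 2 = 0) →
      evL (Equiv.refl (Fin 7)) t t L i 3 = 0 := by
    intro L
    induction L with
    | nil => simp
    | cons m L ih =>
      intro h
      rw [evL_cons, Matrix.add_apply, ih fun x hx => h x (List.mem_cons_of_mem _ hx), add_zero, Tm.ev,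
        Matrix.smul_apply, matUnit_apply, smul_eq_mul]
      split_ifs with h'
      · rw [(CharP.intCast_eq_zero_iff F 2 m.c).2 (Int.dvd_of_emod_eq_zero
          (h m List.mem_cons_self h'.2.symm)), zero_mul, zero_mul, zero_mul]
      · rw [mul_zero]
  simp only [SRep.mat, Matrix.add_apply]
  rw [Matrix.one_apply_ne hi, zero_add]
  refine key _ fun m hm => ?_
  obtain ⟨m', hm', rfl⟩ := List.mem_map.1 hm
  by_cases hr : r < 12
  · exact g2Rep_col ⟨r, hr⟩ m' hm'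
  · rw [g2Rep_out r (not_lt.1 hr)] at hm'
    simp at hm'

/-- The six-dimensional homomorphism. -/
theorem exists_g2Six : ∃ φ : chevG2.SteinbergGroup F →* GL (Fin 6) F,
    ∀ r t, (φ (chevG2.stGen F r t) : Matrix (Fin 6) (Fin 6) F) = g2Six r t := by
  obtain ⟨ψ, hψ, -⟩ := SRep.exists_hom (S := g2Rep) (e := Equiv.refl (Fin 7)) (F := F) g2Rep_ok
    (fun r hr => (by decide +kernel : ∀ x < chevG2.nroots, chevG2.neg x < chevG2.nroots) r hr) g2Rep_out
  let P : Subgroup (GL (Fin 7) F) :=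
    { carrier := {g | ∀ i, i ≠ 3 → (g : Matrix (Fin 7) (Fin 7) F) i 3 = 0 ∧ (↑g⁻¹ : Matrix (Fin 7) (Fin 7) F) i 3 = 0}
      one_mem' := fun i hi => by simp [Matrix.one_apply_ne hi]
      inv_mem' := fun {g} hg i hi => ⟨(hg i hi).2, by rw [inv_inv]; exact (hg i hi).1⟩
      mul_mem' := fun {g h} hg hh i hi => by
        refine ⟨?_, ?_⟩
        · rw [Units.val_mul, Matrix.mul_apply, Finset.sum_eq_zero]
          intro k _
          by_cases hk : k = 3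
          · rw [hk, (hg i hi).1, zero_mul]
          · rw [(hh k hk).1, mul_zero]
        · rw [_root_.mul_inv_rev, Units.val_mul, Matrix.mul_apply, Finset.sum_eq_zero]
          intro k _
          by_cases hk : k = 3
          · rw [hk, (hh i hi).2, zero_mul]
          · rw [(hg k hk).2, mul_zero] }
  have hP : ∀ x, ψ x ∈ P := by
    intro x
    have hx : x ∈ Subgroup.closure (Set.range PresentedGroup.of) := by
      rw [PresentedGroup.closure_range_of]; trivial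
    induction hx using Subgroup.closure_induction with
    | one => rw [map_one]; exact one_mem _
    | mul x y _ _ hx hy => rw [map_mul]; exact mul_mem hx hy
    | inv x _ hx => rw [map_inv]; exact inv_mem hx
    | mem x hx =>
      obtain ⟨⟨r, t⟩, rfl⟩ := hx
      have e : ∀ u, PresentedGroup.of (rels := chevG2.steinbergRels F) (r, u) = chevG2.stGen F r.val u := by
        intro u
        simp [ChevalleyDatum.stGen, ChevalleyDatum.stX, PresentedGroup.of]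
      have h0 : chevG2.stGen F r.val t * chevG2.stGen F r.val (-t) = 1 := by
        rw [← Facts.stC_x factsG2, ← Facts.stC_x factsG2, ← (factsG2.stC F).x_add, add_neg_cancel]
        exact (factsG2.stC F).x_zero r.val
      intro i hi
      rw [e, ← map_inv, inv_eq_of_mul_eq_one_right h0, hψ, hψ]
      exact ⟨g2Rep_col_zero _ _ i hi, g2Rep_col_zero _ _ i hi⟩
  let π : chevG2.SteinbergGroup F →* Matrix (Fin 6) (Fin 6) F :=
    { toFun := fun x => (ψ x : Matrix (Fin 7) (Fin 7) F).submatrix (Fin.succAbove 3) (Fin.succAbove 3)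
      map_one' := by
        rw [map_one, Units.val_one]
        exact Matrix.submatrix_one _ Fin.succAbove_right_injective
      map_mul' := fun x y => by
        ext i j
        rw [map_mul, Units.val_mul, Matrix.submatrix_apply, Matrix.mul_apply, Fin.sum_univ_succAbove _ 3,
          (hP x (Fin.succAbove 3 i) (Fin.succAbove_ne 3 i)).1, zero_mul, zero_add, Matrix.mul_apply]
        rfl }
  refine ⟨π.toHomUnits, fun r t => ?_⟩
  show (ψ (chevG2.stGen F r t) : Matrix (Fin 7) (Fin 7) F).submatrix _ _ = _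
  rw [hψ]
  rfl

end Cfsg.Agent.Lie
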