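import Cfsg.Agent.Lib.Lie.Steinberg
import Cfsg.Prelude.Def_Classical

/-!
From a representation of the presented group onto the derived group of an isometry group to an
isomorphism of the Chevalley group with the central quotient.
-/

set_option autoImplicit false

namespace Cfsg.Agent.Lie

open Cfsg.Lie Matrix
open scoped MatrixGroups commutatorElement

variable {D : ChevalleyDatum} {F : Type*} [Field F] (hF : Facts D) {ι : Type} [Fintype ι] [DecidableEq ι]

include hF in
theorem stGen_closure : Subgroup.closure (Set.range fun p : Fin D.nroots × F => D.stGen F p.1.val p.2) = ⊤ := by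
  rw [← PresentedGroup.closure_range_of (D.steinbergRels F)]
  congr 1
  ext z
  simp only [Set.mem_range, ChevalleyDatum.stGen, ChevalleyDatum.stX, Fin.is_lt, dif_pos]
  rfl

include hF in
/-- The isomorphism. -/
theorem iso_of_rep (hH : StHyp D) (hrank : 0 < D.rank) (hconn : okConn D)
    (hperf : ⁅D.group F, D.group F⁆ = D.group F) (Q : (ι → F) → F) (φ : D.SteinbergGroup F →* GL ι F)
    (hrange : φ.range = ⁅Cfsg.isometryGroup F Q, Cfsg.isometryGroup F Q⁆) (hne : ∃ a b, φ a * φ b ≠ φ b * φ a) :
    Nonempty (↥(D.group F) ≃* Cfsg.POmega F Q) := by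
  obtain ⟨hsimp, hnc⟩ := hF.isSimple hconn hperf hrank
  haveI := hsimp
  have hmap : (Cfsg.Omega F Q).map (Cfsg.isometryGroup F Q).subtype = φ.range := by
    rw [hrange, Cfsg.Omega, commutator_def, Subgroup.map_commutator, ← MonoidHom.range_eq_map,
      Subgroup.range_subtype]
  let ι' : ↥(Cfsg.Omega F Q) ≃* ↥φ.range :=
    ((Cfsg.Omega F Q).equivMapOfInjective _ (Cfsg.isometryGroup F Q).subtype_injective).trans
      (MulEquiv.subgroupCongr hmap)
  let π : D.SteinbergGroup F →* Cfsg.POmega F Q :=
    (QuotientGroup.mk' _).comp (ι'.symm.toMonoidHom.comp φ.rangeRestrict)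
  have hπ : Function.Surjective π :=
    (QuotientGroup.mk'_surjective _).comp (ι'.symm.surjective.comp φ.rangeRestrict_surjective)
  have hpr : (hF.proj F).range = D.group F := by
    rw [MonoidHom.range_eq_map, ← stGen_closure hF, MonoidHom.map_closure, hF.group_eq, ← Set.range_comp]
    refine le_antisymm ((Subgroup.closure_le _).2 ?_) ((Subgroup.closure_le _).2 ?_)
    · rintro _ ⟨⟨r, t⟩, rfl⟩
      simp only [Function.comp_apply, hF.proj_x]
      exact Subgroup.subset_closure ⟨(r.val, t), rfl⟩
    · rintro _ ⟨⟨r, t⟩, rfl⟩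
      by_cases hr : r < D.nroots
      · exact Subgroup.subset_closure ⟨(⟨r, hr⟩, t), hF.proj_x r t⟩
      · show hF.xg r t ∈ _
        rw [hF.xg_out (not_lt.1 hr)]; exact one_mem _
  have hZ : (hF.proj F).ker = Subgroup.center (D.SteinbergGroup F) := hF.ker_eq_center hH hH.2.2
  let P : D.SteinbergGroup F →* ↥(D.group F) :=
    (MulEquiv.subgroupCongr hpr).toMonoidHom.comp (hF.proj F).rangeRestrict
  have hP : Function.Surjective P :=
    (MulEquiv.subgroupCongr hpr).surjective.comp (hF.proj F).rangeRestrict_surjective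
  have hPker : P.ker = Subgroup.center (D.SteinbergGroup F) := by
    rw [← hZ]
    ext g
    rw [MonoidHom.mem_ker, MonoidHom.mem_ker, Subtype.ext_iff]
    rfl
  have hle : Subgroup.center (D.SteinbergGroup F) ≤ π.ker := by
    intro z hz
    rw [MonoidHom.mem_ker]
    show QuotientGroup.mk' _ (ι'.symm (φ.rangeRestrict z)) = 1
    rw [QuotientGroup.mk'_apply, QuotientGroup.eq_one_iff, Subgroup.mem_center_iff]
    intro w
    obtain ⟨y, rfl⟩ : ∃ y, ι'.symm (φ.rangeRestrict y) = w :=
      (ι'.symm.surjective.comp φ.rangeRestrict_surjective) w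
    rw [← map_mul, ← map_mul, ← map_mul, ← map_mul, Subgroup.mem_center_iff.1 hz y]
  have hker : π.ker = Subgroup.center (D.SteinbergGroup F) := by
    haveI : (π.ker.map P).Normal := Subgroup.Normal.map inferInstance P hP
    rcases (inferInstance : (π.ker.map P).Normal).eq_bot_or_eq_top with h | h
    · exact le_antisymm (hPker ▸ (Subgroup.map_eq_bot_iff _).1 h) hle
    · exfalso
      have htop : π.ker = ⊤ := by
        rw [← sup_eq_left.2 (hPker ▸ hle : P.ker ≤ π.ker), ← Subgroup.comap_map_eq, h, Subgroup.comap_top]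
      obtain ⟨a, b, hab⟩ := hne
      apply hab
      have hg : ι'.symm (φ.rangeRestrict a) ∈ Subgroup.center ↥(Cfsg.Omega F Q) := by
        rw [← QuotientGroup.eq_one_iff]
        exact MonoidHom.mem_ker.1 (htop ▸ Subgroup.mem_top a : a ∈ π.ker)
      have h' := Subgroup.mem_center_iff.1 hg (ι'.symm (φ.rangeRestrict b))
      simp only [← map_mul] at h'
      rw [← map_mul, ← map_mul]; exact congrArg Subtype.val (ι'.symm.injective h').symm
  exact ⟨((QuotientGroup.quotientKerEquivOfSurjective P hP).symm.trans
    (QuotientGroup.quotientMulEquivOfEq (hPker.trans hker.symm))).trans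
    (QuotientGroup.quotientKerEquivOfSurjective π hπ)⟩

end Cfsg.Agent.Lie
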