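import Mathlib
import Cfsg.Agent.Lib.Lie.RepG2
import Cfsg.Agent.Lib.Lie.SmallRepIso
import Cfsg.Agent.Lib.Lie.FieldFix
import Cfsg.Agent.Lib.Lie.TorusCerts
import Cfsg.Agent.Lib.Lie.Simple
import Cfsg.Agent.Lib.Lie.Perfect
import Cfsg.Agent.Lib.Classical.LinBasic

/-!
The group of type G2 as a group of matrices of size seven which preserve a symmetric form and an alternating
trilinear form, and its subgroup isomorphic to SL3.
-/

set_option autoImplicit false
set_option maxRecDepth 100000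

namespace Cfsg.Agent.Lie.G2Seven

open Cfsg.Lie Matrix
open scoped MatrixGroups

/-- The symmetric form as a term list. -/
def jL : List Tm :=
  [⟨0, 6, 0, 0, 1⟩, ⟨6, 0, 0, 0, 1⟩, ⟨2, 4, 0, 0, 1⟩, ⟨4, 2, 0, 0, 1⟩, ⟨1, 5, 0, 0, -1⟩, ⟨5, 1, 0, 0, -1⟩,
    ⟨3, 3, 0, 0, -2⟩]

/-- The alternating form, one slice for each first index. -/
def phiL (i : ℕ) : List Tm :=
  [(0, 3, 6, (-1 : ℤ)), (0, 4, 5, 1), (1, 2, 6, 1), (1, 3, 5, -1), (2, 3, 4, 1)].flatMap fun x =>
    if x.1 = i then [⟨x.2.1, x.2.2.1, 0, 0, x.2.2.2⟩, ⟨x.2.2.1, x.2.1, 0, 0, -x.2.2.2⟩]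
    else if x.2.1 = i then [⟨x.2.2.1, x.1, 0, 0, x.2.2.2⟩, ⟨x.1, x.2.2.1, 0, 0, -x.2.2.2⟩]
    else if x.2.2.1 = i then [⟨x.1, x.2.1, 0, 0, x.2.2.2⟩, ⟨x.2.1, x.1, 0, 0, -x.2.2.2⟩]
    else []

/-- The transpose. -/
def trL (L : List Tm) : List Tm := L.map fun m => ⟨m.col, m.row, m.a, m.b, m.c⟩

/-- The slices combined by the entries of column a. -/
def combL (L : List Tm) (a : ℕ) : List Tm :=
  L.flatMap fun m => if m.col = a then (phiL m.row).map fun m' => ⟨m'.row, m'.col, m.a, m.b, m.c * m'.c⟩ else []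

/-- The matrix of x_r(t) as a list. -/
def xl (r : ℕ) : List Tm := g2Rep.xL r 1 1 0

theorem phiL_const : ∀ i : Fin 7, ∀ m ∈ phiL i.val, m.a = 0 ∧ m.b = 0 := by decide +kernel

theorem jL_const : ∀ m ∈ jL, m.a = 0 ∧ m.b = 0 := by decide +kernel

theorem xl_row : ∀ r : Fin 12, ∀ m ∈ xl r.val, m.row < 7 ∧ m.col < 7 := by decide +kernel

theorem chk_form : ∀ r : Fin 12, eqL (mulL 7 (mulL 7 (trL (xl r.val)) jL) (xl r.val)) jL = true := by
  decide +kernel

theorem chk_phi : ∀ (r : Fin 12) (a : Fin 7),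
    eqL (mulL 7 (mulL 7 (trL (xl r.val)) (combL (xl r.val) a.val)) (xl r.val)) (phiL a.val) = true := by
  decide +kernel

section eval

variable {R : Type*} [CommRing R]

local notation "e7" => Equiv.refl (Fin 7)

theorem evL_const {L : List Tm} (h : ∀ m ∈ L, m.a = 0 ∧ m.b = 0) (t u t' u' : R) :
    evL e7 t u L = evL e7 t' u' L := by
  have := evL_map_eq e7 (t := t) (u := u) (t' := t') (u' := u') id L fun m hm => by
    simp [Tm.ev, (h m hm).1, (h m hm).2]
  simpa using this

theorem evL_trL (t u : R) (L : List Tm) : evL e7 t u (trL L) = (evL e7 t u L)ᵀ := by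
  induction L with
  | nil => simp [trL]
  | cons m L ih =>
    rw [trL, List.map_cons, evL_cons, ← trL, ih, evL_cons, Matrix.transpose_add]
    congr 1
    ext p q
    simp only [Tm.ev, Matrix.transpose_apply, Matrix.smul_apply, matUnit_apply, and_comm]

/-- The symmetric form. -/
def J (R : Type*) [CommRing R] : Matrix (Fin 7) (Fin 7) R := evL (Equiv.refl (Fin 7)) 0 0 jL

/-- The slices of the alternating form. -/
def M (R : Type*) [CommRing R] (i : Fin 7) : Matrix (Fin 7) (Fin 7) R :=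
  evL (Equiv.refl (Fin 7)) 0 0 (phiL i.val)

theorem evL_combL (t u : R) (a : Fin 7) : ∀ L : List Tm, (∀ m ∈ L, m.row < 7) →
    evL e7 t u (combL L a.val) = ∑ i, evL e7 t u L i a • M R i := by
  intro L
  induction L with
  | nil => simp [combL]
  | cons m L ih =>
    intro h
    rw [combL, List.flatMap_cons, evL_append, ← combL, ih fun x hx => h x (List.mem_cons_of_mem _ hx)]
    simp only [evL_cons, Matrix.add_apply, add_smul, Finset.sum_add_distrib]
    congr 1
    have hr := h m List.mem_cons_self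
    rw [Finset.sum_eq_single (⟨m.row, hr⟩ : Fin 7)]
    · by_cases hc : m.col = a.val
      · rw [if_pos hc, M, evL_const (phiL_const ⟨m.row, hr⟩) 0 0 t u]
        simp only [Tm.ev, Matrix.smul_apply, matUnit_apply, Equiv.refl_apply, hc, and_self, if_true,
          smul_eq_mul, mul_one]
        have hcst := phiL_const ⟨m.row, hr⟩
        simp only at hcst
        generalize phiL m.row = P at hcst ⊢
        induction P with
        | nil => simp
        | cons x P ihP =>
          rw [List.map_cons, evL_cons, evL_cons, smul_add, ihP fun y hy => hcst y (List.mem_cons_of_mem _ hy)]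
          congr 1
          simp only [Tm.ev, (hcst x List.mem_cons_self).1, (hcst x List.mem_cons_self).2, pow_zero, mul_one,
            smul_smul, Int.cast_mul]
          congr 1
          ring
      · rw [if_neg hc, evL_nil]
        simp [Tm.ev, matUnit_apply, Ne.symm hc]
    · intro i _ hi
      have : ¬ (i : ℕ) = m.row := fun h' => hi (Fin.ext h')
      simp [Tm.ev, matUnit_apply, this]
    · simp

/-- Preserving both forms. -/
def Pres (X : Matrix (Fin 7) (Fin 7) R) : Prop :=
  Xᵀ * J R * X = J R ∧ ∀ a, Xᵀ * (∑ i, X i a • M R i) * X = M R a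

theorem pres_one : Pres (1 : Matrix (Fin 7) (Fin 7) R) := by
  refine ⟨by simp, fun a => ?_⟩
  rw [Matrix.transpose_one, Matrix.one_mul, Matrix.mul_one, Finset.sum_eq_single a]
  · simp
  · intro i _ hi; simp [Matrix.one_apply_ne hi]
  · simp

theorem pres_mul {X Y : Matrix (Fin 7) (Fin 7) R} (hX : Pres X) (hY : Pres Y) : Pres (X * Y) := by
  refine ⟨?_, fun a => ?_⟩
  · have : Yᵀ * (Xᵀ * J R * X) * Y = J R := by rw [hX.1]; exact hY.1
    rw [Matrix.transpose_mul]
    simpa [Matrix.mul_assoc] using this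
  · have h1 : ∑ i, (X * Y) i a • M R i = ∑ b, Y b a • ∑ i, X i b • M R i := by
      simp only [Matrix.mul_apply, Finset.sum_smul, Finset.smul_sum, smul_smul]
      rw [Finset.sum_comm]
      exact Finset.sum_congr rfl fun b _ => Finset.sum_congr rfl fun i _ => by rw [mul_comm]
    have h2 : Xᵀ * (∑ b, Y b a • ∑ i, X i b • M R i) * X = ∑ b, Y b a • M R b := by
      rw [Matrix.mul_sum, Matrix.sum_mul]
      exact Finset.sum_congr rfl fun b _ => by rw [Matrix.mul_smul, Matrix.smul_mul, hX.2 b]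
    have h3 : Yᵀ * (Xᵀ * (∑ b, Y b a • ∑ i, X i b • M R i) * X) * Y = M R a := by rw [h2]; exact hY.2 a
    rw [Matrix.transpose_mul, h1]
    simpa [Matrix.mul_assoc] using h3

end eval

variable {F : Type*} [Field F]

theorem pres_mat (r : ℕ) (t : F) : Pres (g2Rep.mat (Equiv.refl (Fin 7)) F r t) := by
  by_cases hr : r < 12
  · have hx : evL (Equiv.refl (Fin 7)) t t (xl r) = g2Rep.mat (Equiv.refl (Fin 7)) F r t := by
      have := SRep.evL_xL (S := g2Rep) (e := Equiv.refl (Fin 7)) (F := F) r 1 1 0 t t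
      simp only [Int.cast_one, one_mul, pow_one, pow_zero, mul_one] at this
      exact this
    refine ⟨?_, fun a => ?_⟩
    · have h := eqL_sound (R := F) (Equiv.refl (Fin 7)) (chk_form ⟨r, hr⟩) t t
      rw [evL_mulL _ (by norm_num), evL_mulL _ (by norm_num), evL_trL, hx, evL_const jL_const t t 0 0] at h
      exact h
    · have h := eqL_sound (R := F) (Equiv.refl (Fin 7)) (chk_phi ⟨r, hr⟩ a) t t
      rw [evL_mulL _ (by norm_num), evL_mulL _ (by norm_num), evL_trL,
        evL_combL t t a _ fun m hm => (xl_row ⟨r, hr⟩ m hm).1, hx,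
        evL_const (phiL_const a) t t 0 0] at h
      exact h
  · have h1 := SRep.mat_out (S := g2Rep) (e := Equiv.refl (Fin 7)) (g2Rep_out r (not_lt.1 hr)) t
    exact h1 ▸ pres_one

/-! ### The subgroup isomorphic to SL3 -/

/-- The coordinates adapted to the subgroup. -/
def blk : Fin 3 ⊕ (Fin 3 ⊕ Fin 1) ≃ Fin 7 where
  toFun := Sum.elim ![0, 4, 5] (Sum.elim ![6, 2, 1] fun _ => 3)
  invFun := ![Sum.inl 0, Sum.inr (Sum.inl 2), Sum.inr (Sum.inl 1), Sum.inr (Sum.inr 0), Sum.inl 1, Sum.inl 2,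
    Sum.inr (Sum.inl 0)]
  left_inv := by
    rintro (i | i | i) <;> fin_cases i <;> rfl
  right_inv := by
    intro i; fin_cases i <;> rfl

/-- The signs of the pairing. -/
def D3 (R : Type*) [CommRing R] : Matrix (Fin 3) (Fin 3) R := Matrix.diagonal ![1, 1, -1]

theorem D3_sq (R : Type*) [CommRing R] : D3 R * D3 R = 1 := by
  rw [D3, Matrix.diagonal_mul_diagonal, ← Matrix.diagonal_one]
  congr 1
  funext i
  fin_cases i <;> simp

/-- The block of the dual. -/
def dual (A : SpecialLinearGroup (Fin 3) F) : Matrix (Fin 3) (Fin 3) F :=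
  D3 F * (((A⁻¹ : SpecialLinearGroup (Fin 3) F) : Matrix (Fin 3) (Fin 3) F)ᵀ * D3 F)

theorem dual_mul (A B : SpecialLinearGroup (Fin 3) F) : dual (A * B) = dual A * dual B := by
  rw [dual, dual, dual, _root_.mul_inv_rev]
  erw [Matrix.SpecialLinearGroup.coe_mul B⁻¹ A⁻¹, Matrix.transpose_mul]
  simp only [Matrix.mul_assoc]
  rw [← Matrix.mul_assoc (D3 F) (D3 F), D3_sq, Matrix.one_mul]

/-- The embedding. -/
def emb (A : SpecialLinearGroup (Fin 3) F) : Matrix (Fin 7) (Fin 7) F :=
  Matrix.reindex blk blk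
    (Matrix.fromBlocks (A : Matrix (Fin 3) (Fin 3) F) 0 0 (Matrix.fromBlocks (dual A) 0 0 1))

theorem emb_one : emb (1 : SpecialLinearGroup (Fin 3) F) = 1 := by
  have h : dual (1 : SpecialLinearGroup (Fin 3) F) = 1 := by simp [dual, D3_sq]
  simp [emb, h, Matrix.fromBlocks_one]

theorem emb_mul (A B : SpecialLinearGroup (Fin 3) F) : emb (A * B) = emb A * emb B := by
  simp only [emb, Matrix.reindex_apply, Matrix.submatrix_mul_equiv, Matrix.fromBlocks_multiply,
    dual_mul]
  simp

/-- The root and sign of a transvection. -/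
def tRoot : Fin 3 → Fin 3 → ℕ × ℤ :=
  ![![(0, 1), (10, 1), (11, -1)], ![(1, 1), (0, 1), (6, 1)], ![(0, -1), (5, 1), (0, 1)]]

/-- The terms of a transvection. -/
def tEnt (i j : Fin 3) : List Tm :=
  [⟨blk (Sum.inl i), blk (Sum.inl j), 1, 0, 1⟩,
    ⟨blk (Sum.inr (Sum.inl j)), blk (Sum.inr (Sum.inl i)), 1, 0,
      -((![1, 1, -1] : Fin 3 → ℤ) i * (![1, 1, -1] : Fin 3 → ℤ) j)⟩]

theorem chk_tr : ∀ i j : Fin 3, i ≠ j →
    eqL (g2Rep.xL (tRoot i j).1 (tRoot i j).2 1 0) (g2Rep.oneL ++ tEnt i j) = true := by decide +kernel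

theorem emb_transvection {i j : Fin 3} (h : i ≠ j) (c : F) :
    emb (SpecialLinearGroup.transvection h c) =
      g2Rep.mat (Equiv.refl (Fin 7)) F (tRoot i j).1 (((tRoot i j).2 : F) * c) := by
  have h1 := eqL_sound (R := F) (Equiv.refl (Fin 7)) (chk_tr i j h) c c
  rw [evL_append] at h1
  have hL := SRep.evL_xL (S := g2Rep) (e := Equiv.refl (Fin 7)) (F := F) (tRoot i j).1 (tRoot i j).2 1 0 c c
  have hO := SRep.evL_oneL (S := g2Rep) (e := Equiv.refl (Fin 7)) (F := F) c c
  simp only [pow_one, pow_zero, mul_one] at hL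
  refine Eq.trans ?_ ((hL.symm.trans h1).trans (congrArg₂ (· + ·) hO rfl)).symm
  apply (Matrix.reindex blk blk).symm.injective
  rw [emb, Equiv.symm_apply_apply, dual, SpecialLinearGroup.transvection_inv]
  ext p q
  simp only [SpecialLinearGroup.transvection_coe, tEnt, evL_cons, evL_nil, add_zero, Tm.ev, D3,
    Matrix.reindex_symm, Matrix.reindex_apply, Equiv.symm_symm, Matrix.submatrix_apply, Matrix.add_apply,
    Matrix.smul_apply, matUnit_apply, Equiv.refl_apply, Fin.val_inj, EmbeddingLike.apply_eq_iff_eq,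
    Matrix.one_apply, smul_eq_mul, pow_one, pow_zero, mul_one]
  have hd : ∀ k : Fin 3, ((![1, 1, -1] : Fin 3 → ℤ) k : F) = (![1, 1, -1] : Fin 3 → F) k := by
    intro k; fin_cases k <;> simp
  have hd2 : ∀ k : Fin 3, (![1, 1, -1] : Fin 3 → F) k * (![1, 1, -1] : Fin 3 → F) k = 1 := by
    intro k; fin_cases k <;> simp
  push_cast
  simp only [hd]
  generalize (![1, 1, -1] : Fin 3 → F) = d at hd2 ⊢
  rcases p with p | p | p <;> rcases q with q | q | q <;>
    simp only [Matrix.fromBlocks_apply₁₁, Matrix.fromBlocks_apply₁₂, Matrix.fromBlocks_apply₂₁,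
      Matrix.fromBlocks_apply₂₂, Matrix.add_apply, Matrix.single_apply, Matrix.one_apply, Matrix.zero_apply,
      Matrix.diagonal_mul, Matrix.mul_diagonal, Matrix.transpose_apply, Sum.inl.injEq, Sum.inr.injEq,
      reduceCtorEq, false_and, and_false, if_false, mul_zero, add_zero, zero_add]
  · by_cases h' : i = p ∧ j = q
    · rw [if_pos h', if_pos (⟨h'.1.symm, h'.2.symm⟩ : p = i ∧ q = j)]; ring
    · rw [if_neg h', if_neg (fun h'' => h' ⟨h''.1.symm, h''.2.symm⟩ : ¬(p = i ∧ q = j))]; ring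
  · by_cases h' : i = q ∧ j = p
    · rw [if_pos h', if_pos (⟨h'.2.symm, h'.1.symm⟩ : p = j ∧ q = i), ← h'.1, ← h'.2, if_neg h]
      rw [if_neg (Ne.symm h)]
      ring
    · rw [if_neg h', if_neg (fun h'' => h' ⟨h''.2.symm, h''.1.symm⟩ : ¬(p = j ∧ q = i))]
      by_cases hpq : p = q
      · subst hpq; rw [if_pos rfl]; linear_combination hd2 p
      · rw [if_neg hpq, if_neg (Ne.symm hpq)]; ring

set_option maxHeartbeats 2000000 in
theorem exists_embed [Fintype F] (h3 : 3 ≤ Fintype.card F) :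
    ∃ ψ : ↥(chevG2.group F) →* GL (Fin 7) F, Function.Injective ψ ∧
      (∀ g, Pres (ψ g : Matrix (Fin 7) (Fin 7) F)) ∧ (∀ g, (ψ g : Matrix (Fin 7) (Fin 7) F).det = 1) ∧
      ∀ A : SpecialLinearGroup (Fin 3) F, ∃ g, (ψ g : Matrix (Fin 7) (Fin 7) F) = emb A := by
  obtain ⟨φ, hφ, -⟩ := SRep.exists_hom (S := g2Rep) (e := Equiv.refl (Fin 7)) (F := F) g2Rep_ok
    (fun r hr => (by decide +kernel : ∀ x < chevG2.nroots, chevG2.neg x < chevG2.nroots) r hr) g2Rep_out
  have hF := factsG2
  have hH : StHyp chevG2 := stHyp_of_mem (by simp)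
  have hpr : (hF.proj F).range = chevG2.group F := by
    rw [MonoidHom.range_eq_map, ← stGen_closure hF, MonoidHom.map_closure, hF.group_eq, ← Set.range_comp]
    refine le_antisymm ((Subgroup.closure_le _).2 ?_) ((Subgroup.closure_le _).2 ?_)
    · rintro _ ⟨⟨r, t⟩, rfl⟩
      simp only [Function.comp_apply, hF.proj_x]
      exact Subgroup.subset_closure ⟨(r.val, t), rfl⟩
    · rintro _ ⟨⟨r, t⟩, rfl⟩
      by_cases hr : r < chevG2.nroots
      · exact Subgroup.subset_closure ⟨(⟨r, hr⟩, t), hF.proj_x r t⟩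
      · show hF.xg r t ∈ _
        rw [hF.xg_out (not_lt.1 hr)]; exact one_mem _
  have hker : Function.Injective (hF.proj F) := by
    rw [injective_iff_map_eq_one]
    intro g hg
    exact hF.H0_torus hH (hF.H_le_H0 hH (hF.ker_le_H hH (MonoidHom.mem_ker.2 hg)))
      (Cfsg.Agent.Lie.torus_injective hF kerCertG2) hg
  let P : chevG2.SteinbergGroup F →* ↥(chevG2.group F) :=
    (MulEquiv.subgroupCongr hpr).toMonoidHom.comp (hF.proj F).rangeRestrict
  have hP : Function.Bijective P :=
    ⟨(MulEquiv.subgroupCongr hpr).injective.comp (by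
        intro x y h
        exact hker (congrArg Subtype.val h)),
      (MulEquiv.subgroupCongr hpr).surjective.comp (hF.proj F).rangeRestrict_surjective⟩
  let E := MulEquiv.ofBijective P hP
  let ψ : ↥(chevG2.group F) →* GL (Fin 7) F := φ.comp E.symm.toMonoidHom
  have hψ : ∀ r t, (ψ (P (chevG2.stGen F r t)) : Matrix (Fin 7) (Fin 7) F) =
      g2Rep.mat (Equiv.refl (Fin 7)) F r t := by
    intro r t
    show (φ (E.symm (E (chevG2.stGen F r t))) : Matrix (Fin 7) (Fin 7) F) = _
    rw [MulEquiv.symm_apply_apply, hφ]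
  obtain ⟨a, ha, ha1⟩ : ∃ a : F, a ≠ 0 ∧ a ≠ 1 := by
    classical
    obtain ⟨a, -, ha⟩ := Finset.exists_mem_notMem_of_card_lt_card
      (show ({0, 1} : Finset F).card < (Finset.univ : Finset F).card by
        rw [Finset.card_univ]; exact lt_of_le_of_lt Finset.card_le_two (by omega))
    simp only [Finset.mem_insert, Finset.mem_singleton, not_or] at ha
    exact ⟨a, ha⟩
  have hperf := perfect_small hF okPerfG2 ⟨a, ha, ha1⟩
  obtain ⟨hsimp, hnc⟩ := hF.isSimple okConnG2 hperf (show 0 < chevG2.rank by decide)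
  have hne : ψ.ker ≠ ⊤ := by
    intro h
    have h1 := hψ 5 1
    rw [MonoidHom.mem_ker.1 (show P (chevG2.stGen F 5 1) ∈ ψ.ker by rw [h]; trivial), Units.val_one] at h1
    have h2 := congrFun (congrFun h1 5) 4
    simp [SRep.mat, g2Rep, g2Ent, Tm.ev, matUnit_apply] at h2
  refine ⟨ψ, ?_, ?_, ?_, ?_⟩
  · rw [← MonoidHom.ker_eq_bot_iff]
    exact (hsimp.eq_bot_or_eq_top_of_normal ψ.ker inferInstance).resolve_right hne
  · intro g
    obtain ⟨x, rfl⟩ := hP.2 g
    have hx : x ∈ Subgroup.closure (Set.range PresentedGroup.of) := by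
      rw [PresentedGroup.closure_range_of]; trivial
    induction hx using Subgroup.closure_induction'' with
    | one => rw [map_one, map_one, Units.val_one]; exact pres_one
    | mul x y _ _ hx hy => rw [map_mul, map_mul, Units.val_mul]; exact pres_mul hx hy
    | mem x hx =>
      obtain ⟨⟨r, t⟩, rfl⟩ := hx
      rw [show PresentedGroup.of (rels := chevG2.steinbergRels F) (r, t) = chevG2.stGen F r.val t by
        simp [ChevalleyDatum.stGen, ChevalleyDatum.stX, PresentedGroup.of], hψ]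
      exact pres_mat _ _
    | inv_mem x hx =>
      obtain ⟨⟨r, t⟩, rfl⟩ := hx
      have h0 : chevG2.stGen F r.val t * chevG2.stGen F r.val (-t) = 1 := by
        rw [← Facts.stC_x hF, ← Facts.stC_x hF, ← (hF.stC F).x_add, add_neg_cancel]
        exact (hF.stC F).x_zero r.val
      rw [show PresentedGroup.of (rels := chevG2.steinbergRels F) (r, t) = chevG2.stGen F r.val t by
        simp [ChevalleyDatum.stGen, ChevalleyDatum.stX, PresentedGroup.of],
        inv_eq_of_mul_eq_one_right h0, hψ]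
      exact pres_mat _ _
  · intro g
    have hle : commutator ↥(chevG2.group F) ≤ (Matrix.GeneralLinearGroup.det.comp ψ).ker :=
      Abelianization.commutator_subset_ker _
    rw [hF.commutator_top_of_eq hperf] at hle
    have := MonoidHom.mem_ker.1 (hle (Subgroup.mem_top g))
    exact congrArg Units.val this
  · let T : Subgroup (SpecialLinearGroup (Fin 3) F) :=
      { carrier := {A | ∃ g, (ψ g : Matrix (Fin 7) (Fin 7) F) = emb A}
        one_mem' := ⟨1, by rw [map_one, Units.val_one, emb_one]⟩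
        mul_mem' := by
          rintro A B ⟨g, hg⟩ ⟨h, hh⟩
          exact ⟨g * h, by rw [map_mul, Units.val_mul, hg, hh, emb_mul]⟩
        inv_mem' := by
          rintro A ⟨g, hg⟩
          refine ⟨g⁻¹, ?_⟩
          rw [map_inv]
          apply Units.inv_eq_of_mul_eq_one_right
          rw [hg, ← emb_mul, mul_inv_cancel, emb_one] }
    have hT : T = ⊤ := by
      rw [eq_top_iff, ← Cfsg.Agent.Classical.sl_closure_transvections, Subgroup.closure_le]
      rintro _ ⟨i, j, h, c, rfl⟩
      exact ⟨_, (hψ _ _).trans (emb_transvection h c).symm⟩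
    intro A
    exact (hT ▸ Subgroup.mem_top A : A ∈ T)

end Cfsg.Agent.Lie.G2Seven
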