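import Mathlib
import Cfsg.Agent.Lib.Lie.G2Embed

/-!
The self-centralizing cyclic subgroup of order q^2 + q + 1 of the group of type G2.
-/

set_option autoImplicit false

namespace Cfsg.Agent.Lie.G2Seven

open Cfsg.Lie Matrix
open scoped MatrixGroups

variable {F : Type*} [Field F]

/-- Intertwining two elements which are not conjugate is zero. -/
theorem intertwine_zero {K : Type*} [Field K] [Algebra F K] {n n' : Type*} [Fintype n] [DecidableEq n]
    [Fintype n'] [DecidableEq n'] (f : K →ₐ[F] Matrix n n F) (g : K →ₐ[F] Matrix n' n' F) (x y : K)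
    (hy : Polynomial.aeval y (minpoly F x) ≠ 0) {Z : Matrix n n' F} (h : f x * Z = Z * g y) : Z = 0 := by
  have key : ∀ p : Polynomial F, f (Polynomial.aeval x p) * Z = Z * g (Polynomial.aeval y p) := by
    intro p
    induction p using Polynomial.induction_on with
    | C a =>
      rw [Polynomial.aeval_C, Polynomial.aeval_C, AlgHom.commutes, AlgHom.commutes]
      simp [Algebra.algebraMap_eq_smul_one]
    | add p q hp hq => simp only [map_add, Matrix.add_mul, Matrix.mul_add, hp, hq]
    | monomial k a ih =>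
      simp only [pow_succ, ← mul_assoc, map_mul (Polynomial.aeval x), map_mul (Polynomial.aeval y),
        Polynomial.aeval_X, map_mul f, map_mul g] at ih ⊢
      rw [Matrix.mul_assoc, h, ← Matrix.mul_assoc, ih, Matrix.mul_assoc]
  have h1 := key (minpoly F x)
  rw [minpoly.aeval, map_zero, Matrix.zero_mul] at h1
  calc Z = Z * g (Polynomial.aeval y (minpoly F x) * (Polynomial.aeval y (minpoly F x))⁻¹) := by
        rw [mul_inv_cancel₀ hy, map_one, Matrix.mul_one]
    _ = 0 := by rw [map_mul, ← Matrix.mul_assoc, ← h1, Matrix.zero_mul]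

/-- The first pairing. -/
theorem J_blocks :
    (J F).submatrix blk blk = Matrix.fromBlocks 0 (Matrix.fromCols (D3 F) 0) (Matrix.fromRows (D3 F) 0)
      (Matrix.fromBlocks 0 0 0 (Matrix.diagonal fun _ : Fin 1 => (-2 : F))) := by
  ext p q
  rcases p with p | p | p <;> rcases q with q | q | q <;> fin_cases p <;> fin_cases q <;>
    simp [J, jL, Tm.ev, matUnit_apply, blk, D3, Matrix.fromCols_apply_inl, Matrix.fromCols_apply_inr, Matrix.fromRows_apply_inl,
      Matrix.fromRows_apply_inr]

theorem det_eq_one {X : Matrix (Fin 7) (Fin 7) F} {a b : Matrix (Fin 3) (Fin 3) F} {c : Matrix (Fin 1) (Fin 1) F}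
    (hX : X = Matrix.reindex blk blk (Matrix.fromBlocks a 0 0 (Matrix.fromBlocks b 0 0 c)))
    (h : Pres X) : a.det = 1 ∧ (aᵀ * D3 F * b = D3 F) ∧ c = 1 := by
  have hJ : aᵀ * D3 F * b = D3 F := by
    have h1 := congrArg (fun M : Matrix (Fin 7) (Fin 7) F => M.submatrix blk blk) h.1
    rw [hX] at h1
    simp only [Matrix.reindex_apply, ← Matrix.submatrix_mul_equiv _ _ _ blk _, Matrix.transpose_submatrix,
      Matrix.submatrix_submatrix, Equiv.symm_comp_self, Matrix.submatrix_id_id] at h1
    rw [J_blocks, Matrix.fromBlocks_transpose, Matrix.fromBlocks_multiply, Matrix.fromBlocks_multiply,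
      Matrix.fromBlocks_inj] at h1
    have h2 := h1.2.1
    simp only [Matrix.transpose_zero, Matrix.zero_mul, Matrix.mul_zero, add_zero, zero_add, Matrix.mul_fromCols,
      Matrix.fromCols_mul_fromBlocks, Matrix.fromCols_ext_iff] at h2
    exact h2.1
  obtain ⟨b0, b1, b2, b3, b4, b5, b6⟩ : blk.symm (0 : Fin 7) = Sum.inl 0 ∧
      blk.symm (1 : Fin 7) = Sum.inr (Sum.inl 2) ∧ blk.symm (2 : Fin 7) = Sum.inr (Sum.inl 1) ∧
      blk.symm (3 : Fin 7) = Sum.inr (Sum.inr 0) ∧ blk.symm (4 : Fin 7) = Sum.inl 1 ∧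
      blk.symm (5 : Fin 7) = Sum.inl 2 ∧ blk.symm (6 : Fin 7) = Sum.inr (Sum.inl 0) :=
    ⟨rfl, rfl, rfl, rfl, rfl, rfl, rfl⟩
  refine ⟨?_, hJ, ?_⟩
  · have h1 := congrFun (congrFun (h.2 0) 4) 5
    rw [hX] at h1
    simp [Matrix.mul_apply, Fin.sum_univ_seven, M, phiL, Tm.ev, matUnit_apply, b0, b1, b2, b3, b4, b5, b6,
      Matrix.sum_apply] at h1
    rw [Matrix.det_fin_three]
    linear_combination h1
  · have h1 := congrFun (congrFun (h.2 3) 0) 6
    rw [hX] at h1
    have h2 := congrFun (congrFun hJ 0) 0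
    simp [Matrix.mul_apply, Fin.sum_univ_three, D3] at h2
    simp [Matrix.mul_apply, Fin.sum_univ_seven, M, phiL, Tm.ev, matUnit_apply, b0, b1, b2, b3, b4, b5, b6,
      Matrix.sum_apply] at h1
    ext i j
    fin_cases i; fin_cases j
    show c 0 0 = (1 : Matrix (Fin 1) (Fin 1) F) 0 0
    rw [Matrix.one_apply_eq]
    linear_combination h1 - c 0 0 * h2

theorem exists_cyclic [Fintype F] {q : ℕ} (hq : Fintype.card F = q) (h3 : 3 ≤ q) :
    ∃ H : Subgroup ↥(chevG2.group F), IsCyclic ↥H ∧ Nat.card ↥H = q ^ 2 + q + 1 ∧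
      Subgroup.centralizer (H : Set ↥(chevG2.group F)) = H := by
  classical
  obtain ⟨p, hpc⟩ := CharP.exists F
  haveI := Fact.mk (CharP.char_is_prime F p)
  let K := FiniteField.Extension F p 3
  haveI : Fintype K := Fintype.ofFinite K
  set m := q ^ 2 + q + 1 with hm
  have hcK : Nat.card K = q ^ 3 := by rw [FiniteField.natCard_extension, Nat.card_eq_fintype_card, hq]
  have hm3 : q ^ 3 - 1 = m * (q - 1) := by
    obtain ⟨r, rfl⟩ : ∃ r, q = r + 1 := ⟨q - 1, by omega⟩
    rw [hm, Nat.add_sub_cancel]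
    refine Nat.sub_eq_of_eq_add ?_
    ring
  obtain ⟨g₀, hg₀⟩ := IsCyclic.exists_ofOrder_eq_natCard (α := Kˣ)
  rw [Nat.card_units, hcK, hm3] at hg₀
  let l : Kˣ := g₀ ^ (q - 1)
  have hl : orderOf l = m := by
    rw [orderOf_pow_of_dvd (by omega) (hg₀ ▸ dvd_mul_left _ _), hg₀,
      Nat.mul_div_cancel _ (by omega : 0 < q - 1)]
  have hlpow : ∀ k, 0 < k → k < m → (l : K) ^ k ≠ 1 := by
    intro k hk hkm h
    have := Nat.le_of_dvd hk (hl ▸ orderOf_dvd_of_pow_eq_one (x := l) (n := k) (Units.ext (by simpa using h)))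
    omega
  have hl0 : (l : K) ≠ 0 := l.ne_zero
  have hl1 : (l : K) - 1 ≠ 0 := by
    intro h
    exact hlpow 1 one_pos (by nlinarith) (by simpa using sub_eq_zero.1 h)
  have hnorm : ∀ z : K, algebraMap F K (Algebra.norm F z) = z ^ m := by
    intro z
    rw [FiniteField.algebraMap_norm_eq_pow, hcK, Nat.card_eq_fintype_card, hq, hm3,
      Nat.mul_div_cancel _ (by omega : 0 < q - 1)]
  let bK := Module.finBasisOfFinrankEq F K (FiniteField.finrank_extension F p 3)
  let L : K →ₐ[F] Matrix (Fin 3) (Fin 3) F := Algebra.leftMulMatrix bK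
  let Lt : K →ₐ[F] Matrix (Fin 3) (Fin 3) F :=
    { toFun := fun z => (L z)ᵀ
      map_one' := by simp
      map_mul' := fun x y => by rw [mul_comm, map_mul, Matrix.transpose_mul]
      map_zero' := by simp
      map_add' := fun x y => by rw [map_add, Matrix.transpose_add]
      commutes' := fun r => by
        show (L (algebraMap F K r))ᵀ = algebraMap F (Matrix (Fin 3) (Fin 3) F) r
        rw [AlgHom.commutes]
        simp [Algebra.algebraMap_eq_smul_one] }
  have hadj : Algebra.adjoin F ({(l : K)} : Set K) = ⊤ := by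
    haveI := Subalgebra.isSimpleOrder_of_finrank_prime F K
      (by rw [FiniteField.finrank_extension]; norm_num)
    rcases eq_bot_or_eq_top (Algebra.adjoin F ({(l : K)} : Set K)) with h | h
    · exfalso
      obtain ⟨c, hc⟩ := Algebra.mem_bot.1 (h ▸ Algebra.subset_adjoin (Set.mem_singleton (l : K)))
      refine hlpow (q - 1) (by omega) (by nlinarith [Nat.sub_le q 1]) ?_
      have hc0 : c ≠ 0 := fun h0 => hl0 (by rw [← hc, h0, map_zero])
      rw [← hc, ← map_pow, ← hq, FiniteField.pow_card_sub_one_eq_one c hc0, map_one]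
    · exact h
  have hconj : ∀ x y : K, Polynomial.aeval y (minpoly F x) = 0 → ∃ i < 3, y = x ^ q ^ i := by
    intro x y h
    obtain ⟨σ, hσ⟩ := minpoly.exists_algEquiv_of_root (Algebra.IsAlgebraic.isAlgebraic (R := F) x) h
    obtain ⟨i, hi, hσi⟩ := FiniteField.Extension.exists_frob_pow_eq F p 3 σ.symm
    refine ⟨i, hi, ?_⟩
    have := FiniteField.Extension.frob_iterate_apply F p 3 i (x := x)
    rw [hσi, Nat.card_eq_fintype_card, hq] at this
    rw [← this, ← hσ, AlgEquiv.symm_apply_apply]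
  have hnc : ∀ i < 3, (l : K) ^ (q ^ i + 1) ≠ 1 := by
    intro i hi
    refine hlpow _ (Nat.succ_pos _) ?_
    have := Nat.pow_le_pow_right (show 1 ≤ q by omega) (show i ≤ 2 by omega)
    omega
  have hli : Polynomial.aeval ((l : K)⁻¹) (minpoly F (l : K)) ≠ 0 := by
    intro h
    obtain ⟨i, hi, he⟩ := hconj _ _ h
    exact hnc i hi (by rw [pow_succ, ← he, inv_mul_cancel₀ hl0])
  have hil : Polynomial.aeval (l : K) (minpoly F ((l : K)⁻¹)) ≠ 0 := by
    intro h
    obtain ⟨i, hi, he⟩ := hconj _ _ h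
    refine hnc i hi ?_
    rw [inv_pow] at he
    rw [pow_succ]
    nth_rewrite 2 [he]
    exact mul_inv_cancel₀ (pow_ne_zero _ hl0)
  have hdet : ∀ z : K, (L z).det = Algebra.norm F z := fun z => (Algebra.norm_eq_matrix_det bK z).symm
  let A : SpecialLinearGroup (Fin 3) F := ⟨L (l : K), by
    rw [hdet]
    apply (algebraMap F K).injective
    rw [hnorm, map_one, ← Units.val_pow_eq_pow_val, ← hl, pow_orderOf_eq_one, Units.val_one]⟩
  have hAinv : ((A⁻¹ : SpecialLinearGroup (Fin 3) F) : Matrix (Fin 3) (Fin 3) F) = L ((l : K)⁻¹) := by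
    refine (Matrix.inv_eq_left_inv (A := L (l : K)) ?_).symm.trans (Matrix.inv_eq_left_inv ?_)
    · exact congrArg Subtype.val (inv_mul_cancel A)
    · rw [← map_mul, inv_mul_cancel₀ hl0, map_one]
  obtain ⟨ψ, hinj, hpres, -, hemb⟩ := exists_embed (F := F) (hq ▸ h3)
  obtain ⟨g, hg⟩ := hemb A
  -- the injection of the centralizer
  have hzero : ∀ z : K, z ≠ 0 → ∀ {n : Type} (Z : Matrix (Fin 3) n F), L z * Z = 0 → Z = 0 := by
    intro z hz n Z h
    have := congrArg (L z⁻¹ * ·) h
    simpa [← Matrix.mul_assoc, ← map_mul, inv_mul_cancel₀ hz] using this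
  have hzero' : ∀ z : K, z ≠ 0 → ∀ {n : Type} (Z : Matrix n (Fin 3) F), Z * L z = 0 → Z = 0 := by
    intro z hz n Z h
    have := congrArg (· * L z⁻¹) h
    simpa [Matrix.mul_assoc, ← map_mul, mul_inv_cancel₀ hz] using this
  have key : ∀ x ∈ Subgroup.centralizer ({g} : Set ↥(chevG2.group F)), ∃ z : K, z ^ m = 1 ∧
      (ψ x : Matrix (Fin 7) (Fin 7) F) = Matrix.reindex blk blk
        (Matrix.fromBlocks (L z) 0 0 (Matrix.fromBlocks (D3 F * (Lt z⁻¹ * D3 F)) 0 0 1)) := by
    intro x hx
    have hcomm : (ψ g : Matrix (Fin 7) (Fin 7) F) * ψ x = (ψ x : Matrix (Fin 7) (Fin 7) F) * ψ g := by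
      rw [← Units.val_mul, ← map_mul, Subgroup.mem_centralizer_iff.1 hx g rfl, map_mul, Units.val_mul]
    set X := (ψ x : Matrix (Fin 7) (Fin 7) F) with hXdef
    obtain ⟨a, y, u, y', b, v, u', v', c, hX⟩ : ∃ (a : Matrix (Fin 3) (Fin 3) F) (y : Matrix (Fin 3) (Fin 3) F)
        (u : Matrix (Fin 3) (Fin 1) F) (y' : Matrix (Fin 3) (Fin 3) F) (b : Matrix (Fin 3) (Fin 3) F)
        (v : Matrix (Fin 3) (Fin 1) F) (u' : Matrix (Fin 1) (Fin 3) F) (v' : Matrix (Fin 1) (Fin 3) F)
        (c : Matrix (Fin 1) (Fin 1) F), X = Matrix.reindex blk blk (Matrix.fromBlocks a (Matrix.fromCols y u)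
          (Matrix.fromRows y' u') (Matrix.fromBlocks b v v' c)) := by
      refine ⟨fun i j => X (blk (.inl i)) (blk (.inl j)), fun i j => X (blk (.inl i)) (blk (.inr (.inl j))),
        fun i j => X (blk (.inl i)) (blk (.inr (.inr j))), fun i j => X (blk (.inr (.inl i))) (blk (.inl j)),
        fun i j => X (blk (.inr (.inl i))) (blk (.inr (.inl j))),
        fun i j => X (blk (.inr (.inl i))) (blk (.inr (.inr j))),
        fun i j => X (blk (.inr (.inr i))) (blk (.inl j)), fun i j => X (blk (.inr (.inr i))) (blk (.inr (.inl j))),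
        fun i j => X (blk (.inr (.inr i))) (blk (.inr (.inr j))), ?_⟩
      apply (Matrix.reindex blk blk).symm.injective
      rw [Equiv.symm_apply_apply]
      ext (i | i | i) (j | j | j) <;> rfl
    rw [hg, hX, emb] at hcomm
    simp only [Matrix.reindex_apply, Matrix.submatrix_mul_equiv, Matrix.fromBlocks_multiply] at hcomm
    have hcomm' := congrArg (fun N : Matrix (Fin 7) (Fin 7) F => N.submatrix blk blk) hcomm
    simp only [Matrix.submatrix_submatrix, Equiv.symm_comp_self, Matrix.submatrix_id_id] at hcomm'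
    simp only [Matrix.fromBlocks_inj, Matrix.mul_fromCols, Matrix.fromCols_mul_fromBlocks,
      Matrix.fromBlocks_mul_fromRows, Matrix.fromRows_mul, Matrix.zero_mul, Matrix.mul_zero,
      add_zero, zero_add, Matrix.fromBlocks_multiply, Matrix.fromCols_ext_iff, Matrix.fromRows_ext_iff,
      Matrix.mul_one, Matrix.one_mul] at hcomm'
    obtain ⟨ha, ⟨hy, hu⟩, ⟨hy', hu'⟩, hb, hv, hv', -⟩ := hcomm'
    have hA : (A : Matrix (Fin 3) (Fin 3) F) = L (l : K) := rfl
    have hd : dual A = D3 F * (Lt (l : K)⁻¹ * D3 F) := by rw [dual, hAinv]; rfl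
    rw [hA] at ha hy hu hy' hu'
    rw [hd] at hy hy' hv hv'
    have hD := D3_sq F
    have hu0 : u = 0 := hzero _ hl1 u (by rw [map_sub, map_one, Matrix.sub_mul, Matrix.one_mul, hu, sub_self])
    have hu'0 : u' = 0 :=
      hzero' _ hl1 u' (by rw [map_sub, map_one, Matrix.mul_sub, Matrix.mul_one, ← hu', sub_self])
    have hy0 : y = 0 := by
      have h1 : y * D3 F = 0 := intertwine_zero L Lt (l : K) (l : K)⁻¹ hli (Z := y * D3 F) (by
        rw [← Matrix.mul_assoc, hy]
        simp only [Matrix.mul_assoc, hD, Matrix.mul_one])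
      simpa [Matrix.mul_assoc, hD] using congrArg (· * D3 F) h1
    have hy'0 : y' = 0 := by
      have h1 : D3 F * y' = 0 := intertwine_zero Lt L (l : K)⁻¹ (l : K) hil (Z := D3 F * y') (by
        have := congrArg (D3 F * ·) hy'
        simpa [← Matrix.mul_assoc, hD] using this)
      simpa [← Matrix.mul_assoc, hD] using congrArg (D3 F * ·) h1
    have hfix : ∀ {n : Type} (Z : Matrix (Fin 3) n F), (L ((l : K)⁻¹))ᵀ * Z = Z → Z = 0 := by
      intro n Z h
      have hi1 : (l : K)⁻¹ - 1 ≠ 0 := fun e => hl1 (by rw [sub_eq_zero] at e ⊢; exact inv_eq_one.1 e)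
      have h1 : (L ((l : K)⁻¹ - 1))ᵀ * Z = 0 := by
        rw [map_sub, map_one, Matrix.transpose_sub, Matrix.transpose_one, Matrix.sub_mul, Matrix.one_mul, h,
          sub_self]
      have e : (L (((l : K)⁻¹ - 1)⁻¹))ᵀ * (L ((l : K)⁻¹ - 1))ᵀ = 1 := by
        rw [← Matrix.transpose_mul, ← map_mul, mul_inv_cancel₀ hi1, map_one, Matrix.transpose_one]
      rw [← Matrix.one_mul Z, ← e, Matrix.mul_assoc, h1, Matrix.mul_zero]
    have hv0 : v = 0 := by
      have h1 : D3 F * v = 0 := hfix _ (by
        have := congrArg (D3 F * ·) hv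
        simpa [← Matrix.mul_assoc, hD, Lt] using this)
      simpa [← Matrix.mul_assoc, hD] using congrArg (D3 F * ·) h1
    have hv'0 : v' = 0 := by
      have h1 : (v' * D3 F) * ((L ((l : K)⁻¹))ᵀ) = v' * D3 F := by
        have := congrArg (· * D3 F) hv'.symm
        simpa [Matrix.mul_assoc, hD, Lt] using this
      have hi1 : (l : K)⁻¹ - 1 ≠ 0 := fun e => hl1 (by rw [sub_eq_zero] at e ⊢; exact inv_eq_one.1 e)
      have h2 : (v' * D3 F) * (L ((l : K)⁻¹ - 1))ᵀ = 0 := by
        rw [map_sub, map_one, Matrix.transpose_sub, Matrix.transpose_one, Matrix.mul_sub, Matrix.mul_one, h1,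
          sub_self]
      have h3 := congrArg (· * (L ((l : K)⁻¹ - 1)⁻¹)ᵀ) h2
      simp only [Matrix.mul_assoc, ← Matrix.transpose_mul, ← map_mul, inv_mul_cancel₀ hi1, map_one,
        Matrix.transpose_one, Matrix.mul_one, Matrix.zero_mul] at h3
      simpa [Matrix.mul_assoc, hD] using congrArg (· * D3 F) h3
    subst hu0 hu'0 hy0 hy'0 hv0 hv'0
    rw [Matrix.fromCols_zero, Matrix.fromRows_zero] at hX
    obtain ⟨hdet1, hJ, rfl⟩ := det_eq_one hX (hpres x)
    -- a is a multiplication
    have hall : ∀ w : K, L w * a = a * L w := by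
      intro w
      have hle : Algebra.adjoin F ({(l : K)} : Set K) ≤
          (Subalgebra.centralizer F ({a} : Set (Matrix (Fin 3) (Fin 3) F))).comap L :=
        Algebra.adjoin_le (Set.singleton_subset_iff.2 (Subalgebra.mem_centralizer_iff F |>.2
          (by rintro _ rfl; exact ha.symm)))
      have := hle (hadj ▸ Algebra.mem_top : w ∈ Algebra.adjoin F ({(l : K)} : Set K))
      exact ((Subalgebra.mem_centralizer_iff F).1 this a rfl).symm
    obtain ⟨z, rfl⟩ : ∃ z, a = L z := by
      refine ⟨Matrix.toLin bK bK a 1, (Matrix.toLin bK bK).injective (LinearMap.ext fun w => ?_)⟩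
      have h1 := congrArg (fun M => Matrix.toLin bK bK M 1) (hall w)
      simp only [Matrix.toLin_mul bK bK bK, LinearMap.comp_apply, L, Algebra.leftMulMatrix_apply,
        Matrix.toLin_toMatrix, Algebra.coe_lmul_eq_mul, LinearMap.mul_apply', mul_one] at h1 ⊢
      rw [← h1, mul_comm]
    rw [hdet] at hdet1
    have hz : z ^ m = 1 := by rw [← hnorm, hdet1, map_one]
    have hz0 : z ≠ 0 := by rintro rfl; rw [zero_pow (by omega)] at hz; exact zero_ne_one hz
    refine ⟨z, hz, hX.trans ?_⟩
    congr 3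
    have h1 : D3 F * b = Lt z⁻¹ * D3 F := by
      have h2 := congrArg (Lt z⁻¹ * ·) hJ
      simpa [← Matrix.mul_assoc, Lt, ← Matrix.transpose_mul, ← map_mul, mul_inv_cancel₀ hz0] using h2
    simpa [← Matrix.mul_assoc, hD] using congrArg (D3 F * ·) h1
  -- counting
  have hgord : orderOf g = m := by
    rw [← orderOf_injective ψ hinj, ← orderOf_units, hg]
    let E : SpecialLinearGroup (Fin 3) F →* Matrix (Fin 7) (Fin 7) F :=
      { toFun := emb, map_one' := emb_one, map_mul' := emb_mul }
    have hE : Function.Injective E := fun X Y h => by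
      have h' : emb X = emb Y := h
      have h'' := (Matrix.reindex blk blk).injective h'
      exact Subtype.ext (Matrix.fromBlocks_inj.1 h'').1
    rw [show emb A = E A from rfl, orderOf_injective E hE, ← hl,
      ← orderOf_injective (Units.coeHom K) Units.val_injective]
    let S : SpecialLinearGroup (Fin 3) F →* Matrix (Fin 3) (Fin 3) F :=
      { toFun := fun X => (X : Matrix (Fin 3) (Fin 3) F), map_one' := rfl, map_mul' := fun _ _ => rfl }
    rw [← orderOf_injective S Subtype.val_injective]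
    exact orderOf_injective (L : K →* Matrix (Fin 3) (Fin 3) F) (Algebra.leftMulMatrix_injective bK) _
  have hcard : Nat.card ↥(Subgroup.centralizer ({g} : Set ↥(chevG2.group F))) ≤ m := by
    choose z hz1 hz2 using key
    let T := (Polynomial.nthRootsFinset m (1 : K))
    calc Nat.card _ ≤ Nat.card ↥T := by
          refine Nat.card_le_card_of_injective (fun x => ⟨z x.1 x.2, ?_⟩) fun x y h => ?_
          · rw [Polynomial.mem_nthRootsFinset (by omega)]; exact hz1 _ _
          · apply Subtype.ext; apply hinj; apply Units.ext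
            rw [hz2 _ x.2, hz2 _ y.2, Subtype.mk.injEq] at *
            rw [h]
      _ ≤ m := by
          rw [Nat.card_eq_finsetCard]
          simp only [T, Polynomial.nthRootsFinset]
          exact (Multiset.toFinset_card_le _).trans (Polynomial.card_nthRoots m (1 : K))
  have hle : Subgroup.zpowers g ≤ Subgroup.centralizer ({g} : Set ↥(chevG2.group F)) :=
    Subgroup.zpowers_le.2 (Subgroup.mem_centralizer_iff.2 (by rintro _ rfl; rfl))
  have heq := Subgroup.eq_of_le_of_card_ge hle (by rw [Nat.card_zpowers, hgord]; exact hcard)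
  refine ⟨Subgroup.zpowers g, inferInstance, by rw [Nat.card_zpowers, hgord], ?_⟩
  rw [Subgroup.zpowers_eq_closure, Subgroup.centralizer_closure, ← Subgroup.zpowers_eq_closure]
  exact heq.symm

end Cfsg.Agent.Lie.G2Seven
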