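import Mathlib

/-!
Packed natural-number tables with cheap kernel lookup.
-/

set_option autoImplicit false

namespace Cfsg.Agent.Lie

/-- All k < n satisfy p. -/
noncomputable def allRange (n : ℕ) (p : ℕ → Bool) : Bool :=
  Nat.rec true (fun k ih => p k && ih) n

theorem allRange_iff {n : ℕ} {p : ℕ → Bool} : allRange n p = true ↔ ∀ k < n, p k = true := by
  induction n with
  | zero => simp [allRange]
  | succ n ih =>
    show (p n && allRange n p) = true ↔ _
    simp only [Bool.and_eq_true, ih]
    constructor
    · rintro ⟨h1, h2⟩ k hk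
      rcases Nat.lt_succ_iff_lt_or_eq.1 hk with h | h
      · exact h2 k h
      · exact h ▸ h1
    · exact fun h => ⟨h n (Nat.lt_succ_self n), fun k hk => h k (Nat.lt_succ_of_lt hk)⟩

/-- All members satisfy p. -/
noncomputable def allMem {α : Type*} (p : α → Bool) (L : List α) : Bool :=
  List.rec true (fun a _ ih => p a && ih) L

theorem allMem_iff {α : Type*} {p : α → Bool} {L : List α} :
    allMem p L = true ↔ ∀ a ∈ L, p a = true := by
  induction L with
  | nil => simp [allMem]
  | cons a L ih =>
    show (p a && allMem p L) = true ↔ _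
    simp [ih]

/-- All members satisfy p at their position, counted from k. -/
noncomputable def allIdx {α : Type*} (p : ℕ → α → Bool) (L : List α) : ℕ → Bool :=
  List.rec (fun _ => true) (fun a _ ih k => p k a && ih (Nat.succ k)) L

theorem allIdx_iff {α : Type*} {p : ℕ → α → Bool} {L : List α} {k : ℕ} :
    allIdx p L k = true ↔ ∀ (j : ℕ) (h : j < L.length), p (k + j) L[j] = true := by
  induction L generalizing k with
  | nil => simp [allIdx]
  | cons a L ih =>
    show (p k a && allIdx p L (k + 1)) = true ↔ _
    simp only [Bool.and_eq_true, ih]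
    constructor
    · rintro ⟨h1, h2⟩ j hj
      cases j with
      | zero => simpa using h1
      | succ j => simpa [Nat.add_comm 1, ← add_assoc, add_right_comm] using h2 j (by simpa using hj)
    · intro h
      refine ⟨by have := h 0 (Nat.succ_pos _); exact this, fun j hj => ?_⟩
      have := h (j + 1) (by simpa using hj)
      rw [List.getElem_cons_succ, ← Nat.add_assoc, Nat.add_right_comm] at this
      exact this

/-- Entry of a list with default. -/
noncomputable def nth {α : Type*} (d : α) (L : List α) : ℕ → α :=
  List.rec (fun _ => d) (fun a _ ih i => Nat.rec a (fun j _ => ih j) i) L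

theorem nth_eq {α : Type*} (d : α) (L : List α) (i : ℕ) : nth d L i = L.getD i d := by
  induction L generalizing i with
  | nil => simp [nth]
  | cons a L ih =>
    cases i with
    | zero => rfl
    | succ j =>
      show nth d L j = _
      simp [ih]

/-- The i-th digit of width w. -/
def dig (w N i : ℕ) : ℕ := Nat.mod (Nat.shiftRight N (Nat.mul w i)) (Nat.pow 2 w)

theorem dig_eq (w N i : ℕ) : dig w N i = N / 2 ^ (w * i) % 2 ^ w := by
  simp [dig, Nat.shiftRight_eq_div_pow]
  rfl

/-- Weighted sum placing `f x` at digit `key x`. -/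
noncomputable def packAt {α : Type*} (w : ℕ) (key f : α → ℕ) (L : List α) : ℕ :=
  List.rec 0 (fun a _ ih => Nat.add (Nat.shiftLeft (f a) (Nat.mul w (key a))) ih) L

theorem packAt_cons {α : Type*} (w : ℕ) (key f : α → ℕ) (a : α) (L : List α) :
    packAt w key f (a :: L) = f a * 2 ^ (w * key a) + packAt w key f L := by
  show Nat.add (Nat.shiftLeft _ _) _ = _
  simp [Nat.shiftLeft_eq, packAt]

theorem pow_dvd_packAt {α : Type*} (w : ℕ) (key f : α → ℕ) (L : List α) (lo : ℕ)
    (h : ∀ a ∈ L, lo ≤ key a) : 2 ^ (w * lo) ∣ packAt w key f L := by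
  induction L with
  | nil => simp [packAt]
  | cons a L ih =>
    rw [packAt_cons]
    refine Dvd.dvd.add (Dvd.dvd.mul_left (Nat.pow_dvd_pow 2 ?_) _)
      (ih fun x hx => h x (List.mem_cons_of_mem _ hx))
    exact Nat.mul_le_mul_left _ (h a (by simp))

/-- Keys strictly increasing, starting at or above lo. -/
noncomputable def incFrom {α : Type*} (key : α → ℕ) (L : List α) : ℕ → Bool :=
  List.rec (fun _ => true) (fun a _ ih lo => Nat.ble lo (key a) && ih (Nat.succ (key a))) L

theorem incFrom_cons {α : Type*} {key : α → ℕ} {a : α} {L : List α} {lo : ℕ} :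
    incFrom key (a :: L) lo = true ↔ lo ≤ key a ∧ incFrom key L (key a + 1) = true := by
  show (Nat.ble lo (key a) && incFrom key L (key a + 1)) = true ↔ _
  simp

theorem incFrom_le {α : Type*} {key : α → ℕ} {L : List α} {lo : ℕ}
    (h : incFrom key L lo = true) : ∀ a ∈ L, lo ≤ key a := by
  induction L generalizing lo with
  | nil => simp
  | cons a L ih =>
    rw [incFrom_cons] at h
    intro x hx
    rcases List.mem_cons.1 hx with rfl | hx
    · exact h.1
    · have := ih h.2 x hx
      omega

theorem find?_key_none {α : Type*} {key : α → ℕ} {L : List α} {lo v : ℕ}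
    (h : incFrom key L lo = true) (hv : v < lo) :
    L.find? (fun e => key e = v) = none := by
  rw [List.find?_eq_none]
  intro x hx
  have := incFrom_le h x hx
  simp only [decide_eq_true_eq]
  omega

theorem dig_packAt {α : Type*} {w : ℕ} {key f : α → ℕ} {L : List α} {lo : ℕ} (v : ℕ)
    (h : incFrom key L lo = true) (hf : ∀ a ∈ L, f a < 2 ^ w) :
    dig w (packAt w key f L) v = ((L.find? fun e => key e = v).map f).getD 0 := by
  induction L generalizing lo with
  | nil => simp [packAt, dig_eq]
  | cons a L ih =>
    rw [incFrom_cons] at h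
    have hdvd : 2 ^ (w * (key a + 1)) ∣ packAt w key f L := pow_dvd_packAt w key f L _ (incFrom_le h.2)
    have hfa : f a < 2 ^ w := hf a (by simp)
    have ih := ih h.2 fun x hx => hf x (List.mem_cons_of_mem _ hx)
    rw [packAt_cons, dig_eq]
    rw [dig_eq] at ih
    obtain ⟨m, hm⟩ := hdvd
    rcases lt_trichotomy v (key a) with hv | rfl | hv
    · have hne : decide (key a = v) = false := by simp; omega
      rw [List.find?_cons, hne]
      rw [find?_key_none h.2 (by omega)]
      obtain ⟨c, hc⟩ : ∃ c, key a = v + 1 + c := Nat.exists_eq_add_of_lt hv |>.imp fun c hc => by omega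
      have : f a * 2 ^ (w * key a) + packAt w key f L =
          2 ^ (w * v) * (2 ^ w * (2 ^ (w * c) * f a + 2 ^ (w * (1 + c)) * m)) := by
        rw [hm, hc]
        ring
      rw [this, Nat.mul_div_cancel_left _ (Nat.two_pow_pos _), Nat.mul_mod_right]
      rfl
    · simp only [List.find?_cons, decide_true, Option.map_some, Option.getD_some]
      have : f a * 2 ^ (w * key a) + packAt w key f L = 2 ^ (w * key a) * (f a + 2 ^ w * m) := by
        rw [hm]; ring
      rw [this, Nat.mul_div_cancel_left _ (Nat.two_pow_pos _), Nat.add_mul_mod_self_left,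
        Nat.mod_eq_of_lt hfa]
    · have hne : decide (key a = v) = false := by simp; omega
      rw [List.find?_cons, hne]
      rw [← ih]
      congr 1
      obtain ⟨c, rfl⟩ : ∃ c, v = key a + 1 + c := ⟨v - key a - 1, by omega⟩
      rw [hm, Nat.mul_add w (key a + 1) c, pow_add, ← Nat.div_div_eq_div_mul,
        ← Nat.div_div_eq_div_mul, Nat.add_mul_div_left _ _ (Nat.two_pow_pos _),
        Nat.mul_div_cancel_left _ (Nat.two_pow_pos _)]
      have hlt : f a * 2 ^ (w * key a) < 2 ^ (w * (key a + 1)) := by
        rw [Nat.mul_add, pow_add, Nat.mul_one, mul_comm (f a)]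
        exact (Nat.mul_lt_mul_left (Nat.two_pow_pos _)).2 hfa
      rw [Nat.div_eq_of_lt hlt, zero_add]

/-- Balanced packing of an integer vector. -/
def packZ (B : ℤ) : List ℤ → ℤ
  | [] => 0
  | x :: L => x + B * packZ B L

theorem packZ_inj {B : ℤ} (hB : 0 < B) : ∀ {x y : List ℤ}, x.length = y.length →
    (∀ a ∈ x, 2 * |a| < B) → (∀ a ∈ y, 2 * |a| < B) → packZ B x = packZ B y → x = y
  | [], [], _, _, _, _ => rfl
  | [], _ :: _, h, _, _, _ => by simp at h
  | _ :: _, [], h, _, _, _ => by simp at h
  | a :: x, b :: y, h, hx, hy, he => by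
    simp only [packZ] at he
    have ha := hx a (by simp)
    have hb := hy b (by simp)
    rw [abs_eq_max_neg] at ha hb
    have hd : a = b := by
      have hdvd : B ∣ a - b := ⟨packZ B y - packZ B x, by rw [mul_sub]; linarith⟩
      obtain ⟨k, hk⟩ := hdvd
      rcases lt_trichotomy k 0 with hk0 | hk0 | hk0
      · have : B * k ≤ B * (-1) := mul_le_mul_of_nonneg_left (by omega) hB.le
        have h1 := le_max_left a (-a)
        have h2 := le_max_right a (-a)
        have h3 := le_max_left b (-b)
        have h4 := le_max_right b (-b)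
        omega
      · subst hk0
        omega
      · have : B * 1 ≤ B * k := mul_le_mul_of_nonneg_left (by omega) hB.le
        have h1 := le_max_left a (-a)
        have h2 := le_max_right a (-a)
        have h3 := le_max_left b (-b)
        have h4 := le_max_right b (-b)
        omega
    subst hd
    have : packZ B x = packZ B y := mul_left_cancel₀ hB.ne' (by linarith)
    rw [packZ_inj hB (by simpa using h) (fun c hc => hx c (List.mem_cons_of_mem _ hc))
      (fun c hc => hy c (List.mem_cons_of_mem _ hc)) this]

end Cfsg.Agent.Lie
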