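import Cfsg.Agent.Lib.Lie.Weyl
import Cfsg.Agent.Lib.Lie.Pack

/-!
The length generating function of the Weyl group, from orbits of fundamental weights under
parabolic subgroups.
-/

set_option autoImplicit false

namespace Cfsg.Agent.Lie

open Cfsg.Lie

/-- Coefficient list multiplication. -/
def polyMul : List ℕ → List ℕ → List ℕ
  | [], _ => []
  | a :: p, r => polyAdd (r.map (a * ·)) (0 :: polyMul p r)
where
  /-- Coefficient list addition. -/
  polyAdd : List ℕ → List ℕ → List ℕ
  | [], r => r
  | a :: p, [] => a :: p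
  | a :: p, b :: r => (a + b) :: polyAdd p r

/-- Evaluation of a coefficient list. -/
def polyEval (q : ℕ) : List ℕ → ℕ
  | [] => 0
  | a :: p => a + q * polyEval q p

theorem polyEval_add (q : ℕ) : ∀ p r : List ℕ,
    polyEval q (polyMul.polyAdd p r) = polyEval q p + polyEval q r
  | [], r => by simp [polyMul.polyAdd, polyEval]
  | a :: p, [] => by simp [polyMul.polyAdd, polyEval]
  | a :: p, b :: r => by
    simp only [polyMul.polyAdd, polyEval, polyEval_add q p r]; ring

theorem polyEval_mul (q : ℕ) : ∀ p r : List ℕ, polyEval q (polyMul p r) = polyEval q p * polyEval q r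
  | [], r => by simp [polyMul, polyEval]
  | a :: p, r => by
    have hmap : ∀ s : List ℕ, polyEval q (s.map (a * ·)) = a * polyEval q s := by
      intro s
      induction s with
      | nil => simp [polyEval]
      | cons b s ih => simp only [List.map_cons, polyEval, ih]; ring
    simp only [polyMul, polyEval_add, polyEval, hmap, polyEval_mul q p r]
    ring

/-- The monomial q^c. -/
def polyMono : ℕ → List ℕ
  | 0 => [1]
  | c + 1 => 0 :: polyMono c

theorem polyEval_mono (q : ℕ) : ∀ c, polyEval q (polyMono c) = q ^ c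
  | 0 => by simp [polyMono, polyEval]
  | c + 1 => by simp [polyMono, polyEval, polyEval_mono q c, pow_succ']

/-- Σ q^c over a list of exponents. -/
def polyOf : List ℕ → List ℕ
  | [] => []
  | c :: L => polyMul.polyAdd (polyMono c) (polyOf L)

theorem polyEval_of (q : ℕ) : ∀ L : List ℕ, polyEval q (polyOf L) = (L.map (q ^ ·)).sum
  | [] => rfl
  | c :: L => by simp [polyOf, polyEval_add, polyEval_mono, polyEval_of q L]

/-- Product of a list of coefficient lists. -/
def polyProd : List (List ℕ) → List ℕ
  | [] => [1]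
  | p :: L => polyMul p (polyProd L)

theorem polyEval_prod (q : ℕ) : ∀ L : List (List ℕ),
    polyEval q (polyProd L) = (L.map (polyEval q)).prod
  | [] => by simp [polyProd, polyEval]
  | p :: L => by simp [polyProd, polyEval_mul, polyEval_prod q L]

/-- [d]_q as a coefficient list. -/
def polyGeom (d : ℕ) : List ℕ := List.replicate d 1

theorem polyEval_geom (q : ℕ) : ∀ d, polyEval q (polyGeom d) = ∑ k ∈ Finset.range d, q ^ k
  | 0 => rfl
  | d + 1 => by
    rw [polyGeom, List.replicate_succ, polyEval, ← polyGeom, polyEval_geom q d,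
      Finset.sum_range_succ', pow_zero, add_comm, Finset.mul_sum]
    simp [pow_succ']

/-- Equality of coefficient lists up to trailing zeros. -/
def polyEqb : List ℕ → List ℕ → Bool
  | [], r => r.all (· == 0)
  | a :: p, [] => (a :: p).all (· == 0)
  | a :: p, b :: r => a == b && polyEqb p r

theorem polyEval_zero (q : ℕ) : ∀ r : List ℕ, r.all (· == 0) = true → polyEval q r = 0
  | [], _ => rfl
  | a :: p, h => by
    simp only [List.all_cons, Bool.and_eq_true, beq_iff_eq] at h
    simp [polyEval, h.1, polyEval_zero q p h.2]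

theorem polyEqb_sound (q : ℕ) : ∀ p r : List ℕ, polyEqb p r = true → polyEval q p = polyEval q r
  | [], r, h => by rw [polyEval_zero q r h]; rfl
  | a :: p, [], h => by rw [polyEval_zero q (a :: p) h]; rfl
  | a :: p, b :: r, h => by
    simp only [polyEqb, Bool.and_eq_true, beq_iff_eq] at h
    simp [polyEval, h.1, polyEqb_sound q p r h.2]

/-- Apply the i-th reflection to a weight given as a list. -/
def reflWt (D : ChevalleyDatum) (i : ℕ) (x : List ℤ) : List ℤ := actW D i x

/-- Scalar product with a coroot row. -/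
def dotZ : List ℤ → List ℤ → ℤ
  | a :: p, b :: r => a * b + dotZ p r
  | _, _ => 0

/-- Number of positive roots with negative value on a weight. -/
def negCount (D : ChevalleyDatum) (x : List ℤ) : ℕ :=
  ((D.coroot.toList.drop (D.nroots / 2)).filter fun row => decide (dotZ row.toList x < 0)).length

/-- One step of the computation: a node and the orbit of its fundamental weight with exponents. -/
structure OrbitStep where
  node : ℕ
  orbit : List (List ℤ × ℕ × List ℕ)

/-- Check one step: `nbr` lists the positions of the images under the reflections in J. -/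
noncomputable def okStep (D : ChevalleyDatum) (cols : List (List ℤ)) (J : List ℕ) (S : OrbitStep) : Bool :=
  decide (S.node < D.rank) && J.contains S.node &&
  (match S.orbit with
    | [] => false
    | e :: _ => e.1 == (List.range D.rank).map (fun k => if k = S.node then 1 else 0)) &&
  decide ((S.orbit.map Prod.fst).Nodup) &&
  S.orbit.zipIdx.all fun e =>
    e.1.2.1 == negCount D e.1.1 &&
    (List.zip J e.1.2.2).all (fun p => (nth ([], 0, []) S.orbit p.2).1 == reflW (nth [] cols p.1) p.1 e.1.1 &&
      decide (p.2 < S.orbit.length)) &&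
    e.1.2.2.length == J.length && e.1.1.length == D.rank &&
    (e.2 == 0 || (List.zip J e.1.2.2).any fun p =>
      decide ((nth ([], 0, []) S.orbit p.2).2.1 < e.1.2.1))

/-- Check the whole chain. -/
noncomputable def okChainW (D : ChevalleyDatum) (cols : List (List ℤ)) : List ℕ → List OrbitStep → Bool
  | J, [] => J.isEmpty
  | J, S :: L => okStep D cols J S && okChainW D cols (J.filter (· != S.node)) L

/-- The literal reflection columns agree with the datum, and J is in range. -/
def okCols (D : ChevalleyDatum) (cols : List (List ℤ)) : Bool :=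
  cols == (List.range D.rank).map fun i => wList D (D.simple i)

/-- The polynomial of a chain. -/
def chainPoly (L : List OrbitStep) : List ℕ := polyProd (L.map fun S => polyOf (S.orbit.map fun e => e.2.1))

namespace Facts

variable {D : ChevalleyDatum} (hF : Facts D)

/-- ⟨μ, r∨⟩ -/
def wpair (μ : Fin D.rank → ℤ) (r : ℕ) : ℤ := ∑ j, co D r j.val * μ j

theorem wpair_simple (μ : Fin D.rank → ℤ) (j : Fin D.rank) (hF : Facts D) :
    wpair μ (D.simple j.val) = μ j := by
  rw [wpair, Finset.sum_eq_single j]
  · rw [hF.co_simple j j.isLt j j.isLt, if_pos rfl, one_mul]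
  · intro b _ hb
    rw [hF.co_simple j j.isLt b b.isLt, if_neg (fun h => hb (Fin.ext h)), zero_mul]
  · simp

/-- s_i μ -/
def reflMu (D : ChevalleyDatum) (i : Fin D.rank) (μ : Fin D.rank → ℤ) : Fin D.rank → ℤ :=
  fun k => μ k - μ i * D.cartan k.val (D.simple i.val)

include hF in
theorem wpair_refl (i : Fin D.rank) (μ : Fin D.rank → ℤ) {r : ℕ} (hr : r < D.nroots) :
    wpair (reflMu D i μ) (D.reflectRoot i.val r) = wpair μ r := by
  have h : ∀ j : Fin D.rank, co D (D.reflectRoot i.val r) j.val * reflMu D i μ j =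
      co D r j.val * μ j - μ i * (co D r j.val * D.cartan j.val (D.simple i.val)) -
        (if j = i then D.pairing r (D.simple i.val) * reflMu D i μ i else 0) := by
    intro j
    rw [hF.co_refl i i.isLt r hr j j.isLt]
    by_cases hji : j = i
    · subst hji
      rw [if_pos rfl, if_pos rfl, reflMu]
      ring
    · rw [if_neg hji, if_neg (fun hv => hji (Fin.ext hv)), sub_zero, reflMu]
      ring
  rw [wpair, Finset.sum_congr rfl fun j _ => h j, Finset.sum_sub_distrib, Finset.sum_sub_distrib,
    ← Finset.mul_sum, Finset.sum_ite_eq', if_pos (Finset.mem_univ i)]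
  rw [show (∑ j : Fin D.rank, co D r j.val * D.cartan j.val (D.simple i.val)) = D.pairing r (D.simple i.val) by
    rw [pairing_eq, Finset.sum_range]]
  rw [reflMu, hF.cartan_simple i i.isLt, wpair]
  ring

/-- w μ -/
def actMu (w : hF.weyl) (μ : Fin D.rank → ℤ) : Fin D.rank → ℤ :=
  fun j => wpair μ (w⁻¹ • (hF.refSys.α j) : Fin D.nroots).val

theorem wpair_actMu (w : hF.weyl) : ∀ (μ : Fin D.rank → ℤ) (x : Fin D.nroots),
    wpair (hF.actMu w μ) x.val = wpair μ (w⁻¹ • x : Fin D.nroots).val := by
  induction w using hF.weyl_induction with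
  | one =>
    intro μ x
    have : hF.actMu 1 μ = μ := funext fun j => by
      rw [actMu, inv_one, one_smul]; exact wpair_simple μ j hF
    rw [this, inv_one, one_smul]
  | step i w ih =>
    intro μ x
    have hinv : (hF.wS i * w)⁻¹ = w⁻¹ * hF.wS i := by
      rw [mul_inv_rev]
      congr 1
    have hval : ∀ y : Fin D.nroots, wpair μ ((hF.wS i * w)⁻¹ • y : Fin D.nroots).val =
        wpair (reflMu D i (hF.actMu w μ)) y.val := by
      intro y
      rw [hinv, mul_smul, ← ih μ (hF.wS i • y)]
      have h1 := hF.wpair_refl i (hF.actMu w μ) (r := D.reflectRoot i.val y.val)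
        (hF.refl_lt i i.isLt y y.isLt)
      rw [hF.refl_refl i i.isLt y y.isLt] at h1
      rw [h1, wS_smul]
    have heq : hF.actMu (hF.wS i * w) μ = reflMu D i (hF.actMu w μ) := funext fun j => by
      rw [actMu, hval]
      exact wpair_simple _ j hF
    rw [heq, hval]

theorem actMu_one (μ : Fin D.rank → ℤ) : hF.actMu 1 μ = μ := funext fun j => by
  rw [actMu, inv_one, one_smul]; exact wpair_simple μ j hF

theorem actMu_mul (v w : hF.weyl) (μ : Fin D.rank → ℤ) :
    hF.actMu (v * w) μ = hF.actMu v (hF.actMu w μ) := funext fun j => by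
  rw [actMu, actMu, hF.wpair_actMu, mul_inv_rev, mul_smul]

theorem actMu_wS (i : Fin D.rank) (μ : Fin D.rank → ℤ) : hF.actMu (hF.wS i) μ = reflMu D i μ := by
  funext j
  have h1 := hF.wpair_refl i μ (r := D.reflectRoot i.val (D.simple j.val))
    (hF.refl_lt i i.isLt _ (hF.simple_lt j j.isLt))
  rw [hF.refl_refl i i.isLt _ (hF.simple_lt j j.isLt), wpair_simple _ j hF] at h1
  rw [actMu, show (hF.wS i)⁻¹ = hF.wS i from inv_eq_of_mul_eq_one_right (hF.wS_sq i), h1, wS_smul]
  rfl

include hF in
theorem reflMu_fix {i : Fin D.rank} {μ : Fin D.rank → ℤ} (h : μ i = 0) : reflMu D i μ = μ := by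
  funext k; simp [reflMu, h]

/-- Elements with a word in J. -/
def InJ (J : List ℕ) (w : hF.weyl) : Prop :=
  ∃ ω : List (Fin D.rank), (∀ i ∈ ω, i.val ∈ J) ∧ hF.refSys.pr ω = w

theorem InJ.mul {J : List ℕ} {v w : hF.weyl} (hv : hF.InJ J v) (hw : hF.InJ J w) :
    hF.InJ J (v * w) := by
  obtain ⟨a, ha, rfl⟩ := hv
  obtain ⟨b, hb, rfl⟩ := hw
  refine ⟨a ++ b, fun i hi => ?_, hF.refSys.pr_append a b⟩
  rcases List.mem_append.1 hi with h | h
  exacts [ha i h, hb i h]

theorem InJ.inv {J : List ℕ} {v : hF.weyl} (hv : hF.InJ J v) : hF.InJ J v⁻¹ := by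
  obtain ⟨a, ha, rfl⟩ := hv
  exact ⟨a.reverse, fun i hi => ha i (List.mem_reverse.1 hi), hF.refSys.pr_reverse a⟩

theorem InJ.mono {J J' : List ℕ} (h : ∀ i ∈ J, i ∈ J') {w : hF.weyl} (hw : hF.InJ J w) :
    hF.InJ J' w := by
  obtain ⟨a, ha, rfl⟩ := hw
  exact ⟨a, fun i hi => h _ (ha i hi), rfl⟩

/-- Reduced words with letters in J. -/
theorem exists_reduced_inJ {J : List ℕ} {w : hF.weyl} (h : hF.InJ J w) :
    ∃ ω : List (Fin D.rank), (∀ i ∈ ω, i.val ∈ J) ∧ hF.refSys.pr ω = w ∧ ω.length = hF.refSys.len w := by
  obtain ⟨ω, hJ, hω⟩ := h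
  induction hn : ω.length using Nat.strong_induction_on generalizing ω with
  | _ n ih =>
    subst hn
    rcases (hF.refSys.len_pr_le ω).lt_or_eq with hlt | heq
    · obtain ⟨A, i, Mid, j, C, rfl, hd⟩ := hF.refSys.deletion hlt
      refine ih _ ?_ (A ++ (Mid ++ C)) (fun k hk => hJ k ?_) ?_ rfl
      · simp
      · simp only [List.mem_append, List.mem_cons] at hk ⊢
        tauto
      · rw [← hω]
        have key : hF.refSys.pr Mid * hF.refSys.pr C =
            hF.refSys.s i * (hF.refSys.pr Mid * (hF.refSys.s j * hF.refSys.pr C)) := by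
          have : hF.refSys.pr (i :: Mid) * hF.refSys.s j = hF.refSys.pr Mid := by
            rw [hd, RefSystem.pr_append, RefSystem.pr_singleton, mul_assoc, hF.refSys.sq, mul_one]
          conv_lhs => rw [← this]
          simp only [RefSystem.pr_cons, mul_assoc]
        simp only [RefSystem.pr_append, RefSystem.pr_cons, key]
    · exact ⟨ω, hJ, hω, by rw [← heq, hω]⟩

theorem len_inv (w : hF.weyl) : hF.refSys.len w⁻¹ = hF.refSys.len w := by
  have h : ∀ v : hF.weyl, hF.refSys.len v⁻¹ ≤ hF.refSys.len v := by
    intro v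
    obtain ⟨ω, hω, hlen⟩ := hF.refSys.exists_reduced v
    rw [← hω, ← RefSystem.pr_reverse]
    have := hF.refSys.len_pr_le ω.reverse
    rw [List.length_reverse, hlen, ← hω] at this
    exact this
  exact le_antisymm (h w) (by simpa using h w⁻¹)

theorem wpair_nonneg {μ : Fin D.rank → ℤ} (hμ : ∀ j, 0 ≤ μ j) {x : Fin D.nroots}
    (hx : x ∈ hF.refSys.P) : 0 ≤ wpair μ x.val := by
  have hx' : D.nroots / 2 ≤ x.val := by simpa [refSys] using hx
  exact Finset.sum_nonneg fun j _ => mul_nonneg (hF.co_nonneg x.isLt hx' j) (hμ j)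

include hF in
theorem wpair_neg (μ : Fin D.rank → ℤ) {r : ℕ} (hr : r < D.nroots) :
    wpair μ (D.neg r) = -wpair μ r := by
  rw [wpair, wpair, ← Finset.sum_neg_distrib]
  exact Finset.sum_congr rfl fun j _ => by rw [hF.co_neg r hr j j.isLt, neg_mul]

theorem wpair_nonpos {μ : Fin D.rank → ℤ} (hμ : ∀ j, 0 ≤ μ j) {x : Fin D.nroots}
    (hx : x ∉ hF.refSys.P) : wpair μ x.val ≤ 0 := by
  have h := hF.wpair_nonneg hμ ((hF.refSys.neg_mem x).2 hx)
  change 0 ≤ wpair μ (D.neg x.val) at h
  rw [hF.wpair_neg μ x.isLt] at h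
  omega

/-- Fundamental weight. -/
def fund (D : ChevalleyDatum) (node : ℕ) : Fin D.rank → ℤ := fun k => if k.val = node then 1 else 0

/-- The stabiliser of a fundamental weight in a parabolic subgroup. -/
theorem stab_inJ {J : List ℕ} (node : ℕ) {w : hF.weyl} (hw : hF.InJ J w) :
    hF.actMu w (fund D node) = fund D node ↔ hF.InJ (J.filter (· != node)) w := by
  constructor
  · intro hfix
    obtain ⟨ω, hJ, rfl, hlen⟩ := hF.exists_reduced_inJ hw
    clear hw
    induction ω using List.reverseRecOn with
    | nil => exact ⟨[], by simp, rfl⟩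
    | append_singleton ω j ih =>
      have hneg : hF.refSys.pr ω • hF.refSys.α j ∈ hF.refSys.P := by
        by_contra hc
        have := hF.refSys.len_mul_s_of_not_mem hc
        rw [RefSystem.pr_append, RefSystem.pr_singleton, List.length_append, List.length_singleton] at hlen
        have := hF.refSys.len_pr_le ω
        omega
      have hzero : fund D node j = 0 := by
        have hnn : ∀ k, 0 ≤ fund D node k := fun k => by unfold fund; split_ifs <;> norm_num
        have h0 := hF.wpair_actMu (hF.refSys.pr (ω ++ [j])) (fund D node)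
          (hF.refSys.pr (ω ++ [j]) • hF.refSys.α j)
        rw [hfix, inv_smul_smul] at h0
        have hnp : hF.refSys.pr (ω ++ [j]) • hF.refSys.α j ∉ hF.refSys.P := by
          rw [RefSystem.pr_append, RefSystem.pr_singleton, mul_smul, hF.refSys.s_α, RefSystem.smul_neg,
            hF.refSys.neg_mem]
          exact not_not.2 hneg
        have h1 := hF.wpair_nonpos hnn hnp
        rw [h0, show ((hF.refSys.α j).val) = D.simple j.val from rfl, wpair_simple _ j hF] at h1
        exact le_antisymm h1 (hnn j)
      have hfix' : hF.actMu (hF.refSys.pr ω) (fund D node) = fund D node := by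
        rw [RefSystem.pr_append, RefSystem.pr_singleton, actMu_mul] at hfix
        rwa [show hF.refSys.s j = hF.wS j from rfl, actMu_wS, hF.reflMu_fix hzero] at hfix
      have hlen' : ω.length = hF.refSys.len (hF.refSys.pr ω) := by
        rw [RefSystem.pr_append, RefSystem.pr_singleton, hF.refSys.len_mul_s_of_mem hneg,
          List.length_append, List.length_singleton] at hlen
        omega
      obtain ⟨ω', h1, h2⟩ := ih (fun i hi => hJ i (List.mem_append_left _ hi)) hfix' hlen'
      refine ⟨ω' ++ [j], fun i hi => ?_, ?_⟩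
      · rcases List.mem_append.1 hi with h | h
        · exact h1 i h
        · obtain rfl := List.mem_singleton.1 h
          refine List.mem_filter.2 ⟨hJ i (by simp), ?_⟩
          simp only [bne_iff_ne, ne_eq]
          intro he
          simp [fund, he] at hzero
      · rw [RefSystem.pr_append, h2, RefSystem.pr_append]
  · rintro ⟨ω, hJ, rfl⟩
    clear hw
    induction ω with
    | nil => exact hF.actMu_one _
    | cons i ω ih =>
      rw [RefSystem.pr_cons, actMu_mul, ih (fun k hk => hJ k (List.mem_cons_of_mem _ hk)),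
        show hF.refSys.s i = hF.wS i from rfl, actMu_wS]
      apply hF.reflMu_fix
      have := (List.mem_filter.1 (hJ i (by simp))).2
      simp only [bne_iff_ne, ne_eq] at this
      simp [fund, this]

/-- Roots negative on μ. -/
def negSet (μ : Fin D.rank → ℤ) : Finset (Fin D.nroots) :=
  hF.refSys.P.filter fun x => wpair μ x.val < 0

theorem negSet_refl {i : Fin D.rank} {μ : Fin D.rank → ℤ} (h : 0 < μ i) :
    (hF.negSet (reflMu D i μ)).card = (hF.negSet μ).card + 1 := by
  have hre : ∀ y : Fin D.nroots, wpair (reflMu D i μ) y.val = wpair μ (hF.wS i • y : Fin D.nroots).val := by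
    intro y
    have h1 := hF.wpair_refl i μ (r := D.reflectRoot i.val y.val) (hF.refl_lt i i.isLt y y.isLt)
    rw [hF.refl_refl i i.isLt y y.isLt] at h1
    exact h1
  have hα : wpair μ (hF.refSys.α i).val = μ i := wpair_simple μ i hF
  have hset : hF.negSet (reflMu D i μ) =
      insert (hF.refSys.α i) ((hF.negSet μ).image fun x => hF.wS i • x) := by
    ext x
    simp only [negSet, Finset.mem_insert, Finset.mem_image, Finset.mem_filter, hre]
    constructor
    · rintro ⟨hx, hw⟩
      by_cases hxα : x = hF.refSys.α i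
      · exact Or.inl hxα
      · exact Or.inr ⟨hF.wS i • x, ⟨hF.refSys.perm i x hx hxα, hw⟩, by rw [← mul_smul, wS_sq, one_smul]⟩
    · rintro (rfl | ⟨y, ⟨hy, hw⟩, rfl⟩)
      · refine ⟨hF.refSys.α_mem i, ?_⟩
        rw [show hF.wS i • hF.refSys.α i = hF.refSys.neg (hF.refSys.α i) from hF.refSys.s_α i]
        show wpair μ (D.neg (hF.refSys.α i).val) < 0
        rw [hF.wpair_neg μ (Fin.isLt _), hα]
        omega
      · have hyα : y ≠ hF.refSys.α i := fun hy' => by rw [hy', hα] at hw; omega
        exact ⟨hF.refSys.perm i y hy hyα, by rwa [← mul_smul, wS_sq, one_smul]⟩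
  have hnot : hF.refSys.α i ∉ (hF.negSet μ).image fun x => hF.wS i • x := by
    simp only [Finset.mem_image, negSet, Finset.mem_filter, not_exists, not_and, and_imp]
    intro y hy _ hyeq
    have : y = hF.refSys.neg (hF.refSys.α i) := by
      rw [← hF.refSys.s_α i, ← hyeq]
      show y = hF.wS i • hF.wS i • y
      rw [← mul_smul, wS_sq, one_smul]
    rw [this, hF.refSys.neg_mem] at hy
    exact hy (hF.refSys.α_mem i)
  rw [hset, Finset.card_insert_of_notMem hnot,
    Finset.card_image_of_injective _ (MulAction.injective (hF.wS i))]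

theorem negSet_fund (node : ℕ) : (hF.negSet (fund D node)).card = 0 := by
  rw [Finset.card_eq_zero, negSet, Finset.filter_eq_empty_iff]
  intro x hx
  exact not_lt.2 (hF.wpair_nonneg (fun k => by unfold fund; split_ifs <;> norm_num) hx)

/-- Shortest among the elements of the parabolic subgroup with the same image of the weight. -/
def IsShortest (J : List ℕ) (node : ℕ) (d : hF.weyl) : Prop :=
  hF.InJ J d ∧ ∀ e, hF.InJ J e → hF.actMu e (fund D node) = hF.actMu d (fund D node) →
    hF.refSys.len d ≤ hF.refSys.len e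

theorem len_shortest {J : List ℕ} {node : ℕ} {d : hF.weyl} (hd : hF.IsShortest J node d) :
    hF.refSys.len d = (hF.negSet (hF.actMu d (fund D node))).card := by
  obtain ⟨ω, hJ, hω, hlen⟩ := hF.exists_reduced_inJ hd.1
  induction ω generalizing d with
  | nil =>
    subst hω
    rw [RefSystem.pr_nil, RefSystem.len_one, actMu_one, negSet_fund]
  | cons i ω ih =>
    subst hω
    have hJω : ∀ k ∈ ω, k.val ∈ J := fun k hk => hJ k (List.mem_cons_of_mem _ hk)
    have hlen' : ω.length = hF.refSys.len (hF.refSys.pr ω) := by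
      have h1 := hF.refSys.len_pr_le ω
      have h2 : hF.refSys.len (hF.refSys.pr (i :: ω)) ≤ hF.refSys.len (hF.refSys.pr ω) + 1 := by
        obtain ⟨ω', hω', hlω'⟩ := hF.refSys.exists_reduced (hF.refSys.pr ω)
        have := hF.refSys.len_pr_le (i :: ω')
        rw [RefSystem.pr_cons, hω', ← RefSystem.pr_cons, List.length_cons, hlω'] at this
        exact this
      rw [List.length_cons] at hlen
      omega
    have hshort : hF.IsShortest J node (hF.refSys.pr ω) := by
      refine ⟨⟨ω, hJω, rfl⟩, fun e he heq => ?_⟩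
      have := hd.2 (hF.wS i * e) (InJ.mul hF ⟨[i], by simpa using hJ i (by simp), RefSystem.pr_singleton _ i⟩ he)
        (by rw [actMu_mul, heq, ← actMu_mul]; rfl)
      obtain ⟨ω', hω', hlω'⟩ := hF.refSys.exists_reduced e
      have h3 := hF.refSys.len_pr_le (i :: ω')
      rw [RefSystem.pr_cons, hω', List.length_cons, hlω'] at h3
      have h4 : hF.refSys.len (hF.wS i * e) ≤ hF.refSys.len e + 1 := h3
      rw [List.length_cons] at hlen
      omega
    have hih := ih hshort hJω rfl hlen'
    have hact : hF.actMu (hF.refSys.pr (i :: ω)) (fund D node) =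
        reflMu D i (hF.actMu (hF.refSys.pr ω) (fund D node)) := by
      rw [RefSystem.pr_cons, actMu_mul, show hF.refSys.s i = hF.wS i from rfl, actMu_wS]
    have hpos : 0 < hF.actMu (hF.refSys.pr ω) (fund D node) i := by
      rcases lt_trichotomy (hF.actMu (hF.refSys.pr ω) (fund D node) i) 0 with h | h | h
      · exfalso
        have hnp : (hF.refSys.pr ω)⁻¹ • hF.refSys.α i ∉ hF.refSys.P := fun hm =>
          absurd (hF.wpair_nonneg (fun k => by unfold fund; split_ifs <;> norm_num) hm) (not_le.2 h)
        have h1 := hF.refSys.len_mul_s_of_not_mem hnp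
        have h2 : (hF.refSys.pr ω)⁻¹ * hF.refSys.s i = (hF.refSys.pr (i :: ω))⁻¹ := by
          rw [RefSystem.pr_cons, mul_inv_rev, RefSystem.s_inv]
        rw [h2, len_inv, len_inv] at h1
        rw [List.length_cons] at hlen
        omega
      · exfalso
        have hsame : hF.actMu (hF.refSys.pr ω) (fund D node) =
            hF.actMu (hF.refSys.pr (i :: ω)) (fund D node) := by rw [hact, hF.reflMu_fix h]
        have := hd.2 _ ⟨ω, hJω, rfl⟩ hsame
        rw [List.length_cons] at hlen
        omega
      · exact h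
    rw [hact, hF.negSet_refl hpos, ← hih, ← hlen, List.length_cons, hlen']

theorem len_mul_shortest {J : List ℕ} {node : ℕ} {d v : hF.weyl} (hd : hF.IsShortest J node d)
    (hv : hF.InJ (J.filter (· != node)) v) :
    hF.refSys.len (d * v) = hF.refSys.len d + hF.refSys.len v := by
  obtain ⟨ω, hJ, rfl, hlen⟩ := hF.exists_reduced_inJ hv
  clear hv
  induction ω using List.reverseRecOn with
  | nil => simp [RefSystem.len_one]
  | append_singleton ω j ih =>
    have hωJ : ∀ i ∈ ω, i.val ∈ J.filter (· != node) := fun i hi => hJ i (List.mem_append_left _ hi)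
    have hjJ : j.val ∈ J.filter (· != node) := hJ j (by simp)
    rw [RefSystem.pr_append, RefSystem.pr_singleton, List.length_append, List.length_singleton] at hlen
    have hpos : hF.refSys.pr ω • hF.refSys.α j ∈ hF.refSys.P := by
      by_contra hc
      have := hF.refSys.len_mul_s_of_not_mem hc
      have := hF.refSys.len_pr_le ω
      omega
    have hlen' : ω.length = hF.refSys.len (hF.refSys.pr ω) := by
      rw [hF.refSys.len_mul_s_of_mem hpos] at hlen; omega
    have ih := ih hωJ hlen'
    rw [RefSystem.pr_append, RefSystem.pr_singleton, hF.refSys.len_mul_s_of_mem hpos, ← mul_assoc]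
    by_cases hc : (d * hF.refSys.pr ω) • hF.refSys.α j ∈ hF.refSys.P
    · rw [hF.refSys.len_mul_s_of_mem hc, ih]; omega
    exfalso
    obtain ⟨ωd, hdJ, rfl, hdlen⟩ := hF.exists_reduced_inJ hd.1
    rw [← RefSystem.pr_append] at hc
    obtain ⟨A, i, C, hsplit, hi⟩ := hF.refSys.exchange _ j hc
    have hw : hF.refSys.pr (ωd ++ ω) * hF.refSys.s j = hF.refSys.pr (A ++ C) := by
      rw [hsplit, RefSystem.pr_append, RefSystem.pr_append, RefSystem.pr_cons, mul_assoc, mul_assoc,
        hi, ← mul_assoc (hF.refSys.s i), hF.refSys.sq, one_mul]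
    rcases List.append_eq_append_iff.1 hsplit with ⟨a', rfl, rfl⟩ | ⟨c', rfl, hc'⟩
    · have h1 : hF.refSys.pr (a' ++ i :: C) * hF.refSys.s j = hF.refSys.pr (a' ++ C) :=
        mul_left_cancel (a := hF.refSys.pr ωd)
          (by simpa only [RefSystem.pr_append, List.append_assoc, mul_assoc] using hw)
      rw [hF.refSys.len_mul_s_of_mem hpos] at hlen
      have h2 := hF.refSys.len_pr_le (a' ++ C)
      rw [← h1, hF.refSys.len_mul_s_of_mem hpos] at h2
      simp only [List.length_append, List.length_cons] at h2 hlen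
      omega
    · cases c' with
      | nil =>
        simp only [List.nil_append] at hc'
        subst hc'
        rw [List.append_nil] at hw
        have h1 : hF.refSys.pr (i :: C) * hF.refSys.s j = hF.refSys.pr C :=
          mul_left_cancel (a := hF.refSys.pr A)
            (by simpa only [RefSystem.pr_append, List.append_nil, mul_assoc] using hw)
        rw [hF.refSys.len_mul_s_of_mem hpos] at hlen
        have h2 := hF.refSys.len_pr_le C
        rw [← h1, hF.refSys.len_mul_s_of_mem hpos] at h2
        simp only [List.length_cons] at hlen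
        omega
      | cons e c'' =>
        simp only [List.cons_append, List.cons.injEq] at hc'
        obtain ⟨rfl, rfl⟩ := hc'
        rw [← List.append_assoc, RefSystem.pr_append (ω' := ω),
          RefSystem.pr_append (ω := A ++ c'') (ω' := ω)] at hw
        have hmem : hF.InJ (J.filter (· != node)) (hF.refSys.pr ω * hF.refSys.s j * (hF.refSys.pr ω)⁻¹) :=
          InJ.mul hF (InJ.mul hF ⟨ω, hωJ, rfl⟩ ⟨[j], by simpa using hjJ, RefSystem.pr_singleton _ j⟩)
            (InJ.inv hF ⟨ω, hωJ, rfl⟩)
        have hd' : hF.refSys.pr (A ++ c'') = hF.refSys.pr (A ++ i :: c'') *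
            (hF.refSys.pr ω * hF.refSys.s j * (hF.refSys.pr ω)⁻¹) := by
          rw [← mul_assoc, ← mul_assoc, hw, mul_inv_cancel_right]
        have hfix := (hF.stab_inJ node
          (InJ.mono hF (fun i hi => (List.mem_filter.1 hi).1) hmem)).2 hmem
        have hcJ : ∀ k ∈ A ++ c'', k.val ∈ J := fun k hk => hdJ k (by
          simp only [List.mem_append, List.mem_cons] at hk ⊢; tauto)
        have := hd.2 _ ⟨A ++ c'', hcJ, rfl⟩ (by rw [hd', actMu_mul, hfix])
        have h2 := hF.refSys.len_pr_le (A ++ c'')
        simp only [List.length_append, List.length_cons] at hdlen h2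
        omega

/-- A list as a weight. -/
def toMu (D : ChevalleyDatum) (x : List ℤ) : Fin D.rank → ℤ := fun k => x.getD k.val 0

theorem reflWt_toMu (i : Fin D.rank) {x : List ℤ} (hx : x.length = D.rank) :
    toMu D (reflWt D i.val x) = reflMu D i (toMu D x) := by
  funext k
  have hk : k.val < x.length := by rw [hx]; exact k.isLt
  simp [toMu, reflWt, actW, reflW, wList, reflMu, List.getElem?_eq_getElem, hk, hx]

theorem dotZ_eq : ∀ (p r : List ℤ), p.length = r.length →
    dotZ p r = ∑ k ∈ Finset.range p.length, p.getD k 0 * r.getD k 0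
  | [], [], _ => rfl
  | a :: p, b :: r, h => by
    rw [dotZ, dotZ_eq p r (by simpa using h), List.length_cons, Finset.sum_range_succ', add_comm]
    simp
  | [], _ :: _, h => by simp at h
  | _ :: _, [], h => by simp at h

theorem toMu_inj {x y : List ℤ} (hx : x.length = D.rank) (hy : y.length = D.rank)
    (h : toMu D x = toMu D y) : x = y := by
  refine List.ext_getElem (hx.trans hy.symm) fun k h1 h2 => ?_
  have := congrFun h ⟨k, hx ▸ h1⟩
  simpa [toMu, List.getElem?_eq_getElem h1, List.getElem?_eq_getElem h2] using this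

/-- The shape of the coroot table. -/
def okCoroot (D : ChevalleyDatum) : Bool :=
  D.coroot.toList.length == D.nroots && D.coroot.toList.all fun row => row.toList.length == D.rank

theorem negCount_eq (hD : okCoroot D = true) {x : List ℤ} (hx : x.length = D.rank) :
    negCount D x = (hF.negSet (toMu D x)).card := by
  simp only [okCoroot, Bool.and_eq_true, beq_iff_eq, List.all_eq_true] at hD
  obtain ⟨hlen, hrows⟩ := hD
  have hget : ∀ r, (hr : r < D.coroot.toList.length) → D.coroot.getD r #[] = D.coroot.toList[r] := by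
    intro r hr
    simp only [Array.getD]
    rw [dif_pos (by simpa using hr)]
    simp
  have hdot : ∀ r, (hr : r < D.coroot.toList.length) →
      dotZ (D.coroot.toList[r]).toList x = wpair (toMu D x) r := by
    intro r hr
    have hrow := hrows _ (List.getElem_mem hr)
    rw [dotZ_eq _ _ (hrow.trans hx.symm), hrow, wpair, Finset.sum_range]
    refine Finset.sum_congr rfl fun k _ => ?_
    rw [co, hget r hr, toMu]
    generalize hA : D.coroot.toList[r] = A at hrow
    have hk : k.val < A.toList.length := by rw [hrow]; exact k.isLt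
    congr 1
    simp only [Array.getD]
    rw [dif_pos (by simpa using hk)]
    simp [List.getElem?_eq_getElem hk]
  rw [negCount]
  have hdrop : D.coroot.toList.drop (D.nroots / 2) = ((List.finRange D.nroots).filter
      fun r => decide (D.nroots / 2 ≤ r.val)).map fun r => D.coroot.getD r.val #[] := by
    have h1 : D.coroot.toList = (List.range D.nroots).map fun r => D.coroot.getD r #[] := by
      refine List.ext_getElem (by simpa using hlen) fun k a b => ?_
      simp only [List.getElem_map, List.getElem_range]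
      exact (hget k a).symm
    have h2 : (List.range D.nroots).drop (D.nroots / 2) =
        (List.range D.nroots).filter fun r => decide (D.nroots / 2 ≤ r) := by
      conv_rhs => rw [← List.take_append_drop (D.nroots / 2) (List.range D.nroots)]
      rw [List.filter_append, List.filter_eq_nil_iff.2, List.nil_append, List.filter_eq_self.2]
      · intro a ha
        rw [List.range_eq_range', List.drop_range', List.mem_range'_1] at ha
        simp only [decide_eq_true_eq]
        omega
      · intro a ha
        rw [List.take_range, List.mem_range] at ha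
        simp only [decide_eq_true_eq]
        omega
    conv_lhs => rw [h1, ← List.map_drop, h2, ← List.map_coe_finRange_eq_range, List.filter_map,
      List.map_map]
    rfl
  rw [hdrop, List.filter_map, List.length_map, List.filter_filter,
    ← List.toFinset_card_of_nodup ((List.nodup_finRange _).filter _)]
  congr 1
  ext r
  have hr : r.val < D.coroot.toList.length := hlen.symm ▸ r.isLt
  simp only [List.toFinset_filter, Finset.mem_filter, List.mem_toFinset, List.mem_finRange, true_and,
    Function.comp_apply, Bool.and_eq_true, decide_eq_true_eq, negSet, hget _ hr, hdot _ hr,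
    Finset.mem_univ, refSys]
  exact and_comm

open Classical in
/-- The length generating function of a parabolic subgroup. -/
noncomputable def lenSum (J : List ℕ) (q : ℕ) : ℕ :=
  ∑ w ∈ (Finset.univ : Finset hF.weyl).filter (fun w => hF.InJ J w), q ^ hF.refSys.len w

theorem lenSum_nil (q : ℕ) : hF.lenSum [] q = 1 := by
  classical
  rw [lenSum, show (Finset.univ : Finset hF.weyl).filter (fun w => hF.InJ [] w) = {1} from ?_,
    Finset.sum_singleton, RefSystem.len_one, pow_zero]
  ext w
  simp only [Finset.mem_filter, Finset.mem_univ, true_and, Finset.mem_singleton]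
  constructor
  · rintro ⟨ω, hω, rfl⟩
    cases ω with
    | nil => rfl
    | cons a _ => exact absurd (hω a (by simp)) (by simp)
  · rintro rfl
    exact ⟨[], by simp, rfl⟩

theorem lenSum_step (hD : okCoroot D = true) {cols : List (List ℤ)} (hcols : okCols D cols = true)
    {J : List ℕ} (hJ : ∀ j ∈ J, j < D.rank) {S : OrbitStep}
    (hS : okStep D cols J S = true) (q : ℕ) :
    hF.lenSum J q = polyEval q (polyOf (S.orbit.map fun e => e.2.1)) *
      hF.lenSum (J.filter (· != S.node)) q := by
  classical
  have hcol : ∀ i ∈ J, ∀ x, reflW (nth [] cols i) i x = reflWt D i x := by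
    intro i hi x
    simp only [okCols, beq_iff_eq] at hcols
    simp [reflWt, actW, nth_eq, hcols, List.getElem?_eq_getElem, hJ i hi]
  simp only [okStep, Bool.and_eq_true, decide_eq_true_eq, List.all_eq_true, beq_iff_eq,
    Bool.or_eq_true, List.any_eq_true, nth_eq] at hS
  obtain ⟨⟨⟨⟨hnode, -⟩, hhead⟩, hnd⟩, hall⟩ := hS
  set node := S.node with hnode_def
  have hget : ∀ k, (hk : k < S.orbit.length) → S.orbit.getD k ([], 0, []) = S.orbit[k] := by
    intro k hk; simp [List.getD, List.getElem?_eq_getElem hk]
  have hmem : ∀ e ∈ S.orbit, ∃ k, ∃ h : k < S.orbit.length, S.orbit[k] = e :=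
    fun e he => List.mem_iff_getElem.1 he
  have hidx : ∀ k, (hk : k < S.orbit.length) → (S.orbit[k], k) ∈ S.orbit.zipIdx := by
    intro k hk
    rw [List.mem_zipIdx_iff_getElem?]
    simp [List.getElem?_eq_getElem hk]
  have hlenx : ∀ e ∈ S.orbit, e.1.length = D.rank ∧ e.2.1 = (hF.negSet (toMu D e.1)).card := by
    intro e he
    obtain ⟨k, hk, rfl⟩ := hmem e he
    obtain ⟨⟨⟨⟨hc, -⟩, -⟩, hl⟩, -⟩ := hall _ (hidx k hk)
    exact ⟨hl, hc.trans (hF.negCount_eq hD hl)⟩
  have hz : 0 < S.orbit.length := by
    cases ho : S.orbit with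
    | nil => rw [ho] at hhead; simp at hhead
    | cons a L => simp
  have hzero : toMu D (S.orbit[0]).1 = fund D node := by
    obtain ⟨a, L, ho⟩ : ∃ a L, S.orbit = a :: L := List.exists_cons_of_ne_nil (List.ne_nil_of_length_pos hz)
    simp only [ho, beq_iff_eq] at hhead ⊢
    funext k
    simp only [List.getElem_cons_zero, toMu, hhead, fund]
    simp [List.getElem?_eq_getElem, k.isLt]
  have hclosed : ∀ e ∈ S.orbit, ∀ j : Fin D.rank, j.val ∈ J →
      ∃ e' ∈ S.orbit, toMu D e'.1 = reflMu D j (toMu D e.1) := by
    intro e he j hj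
    obtain ⟨k, hk, rfl⟩ := hmem e he
    obtain ⟨⟨⟨⟨-, hz'⟩, hjl⟩, hl⟩, -⟩ := hall _ (hidx k hk)
    simp only at hz' hjl hl
    obtain ⟨p, hp, hpj⟩ := List.mem_iff_getElem.1 hj
    have hp2 : p < (S.orbit[k]).2.2.length := by omega
    have hpm : (J[p], (S.orbit[k]).2.2[p]) ∈ List.zip J (S.orbit[k]).2.2 := by
      rw [List.mem_iff_getElem]
      exact ⟨p, by simp [hp, hp2], by simp⟩
    obtain ⟨h1, h2⟩ := hz' _ hpm
    rw [hget _ h2] at h1
    refine ⟨_, List.getElem_mem h2, ?_⟩
    rw [← nth_eq [] cols, hcol _ (List.getElem_mem hp)] at h1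
    rw [h1, hpj, reflWt_toMu j hl]
  have hin : ∀ w, hF.InJ J w → ∃ e ∈ S.orbit, toMu D e.1 = hF.actMu w (fund D node) := by
    rintro w ⟨ω, hω, rfl⟩
    induction ω with
    | nil => exact ⟨_, List.getElem_mem hz, by rw [RefSystem.pr_nil, actMu_one, hzero]⟩
    | cons j ω ih =>
      obtain ⟨e, he, heq⟩ := ih fun i hi => hω i (List.mem_cons_of_mem _ hi)
      obtain ⟨e', he', heq'⟩ := hclosed e he j (hω j (by simp))
      refine ⟨e', he', ?_⟩
      rw [heq', heq, RefSystem.pr_cons, actMu_mul, show hF.refSys.s j = hF.wS j from rfl, actMu_wS]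
  have hreach : ∀ c, ∀ e ∈ S.orbit, e.2.1 = c →
      ∃ w, hF.InJ J w ∧ hF.actMu w (fund D node) = toMu D e.1 := by
    intro c
    induction c using Nat.strong_induction_on with
    | _ c ih =>
      intro e he hec
      obtain ⟨k, hk, rfl⟩ := hmem e he
      obtain ⟨⟨⟨⟨-, hz'⟩, -⟩, hl⟩, hlow⟩ := hall _ (hidx k hk)
      simp only at hz' hl hlow
      rcases hlow with h0 | ⟨p, hp, hlt⟩
      · subst h0
        exact ⟨1, ⟨[], by simp, rfl⟩, by rw [actMu_one, hzero]⟩
      · obtain ⟨h1, h2⟩ := hz' p hp
        rw [hget _ h2] at h1 hlt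
        rw [← nth_eq [] cols, hcol _ (List.of_mem_zip hp).1] at h1
        obtain ⟨w, hw, hwe⟩ := ih _ (hec ▸ hlt) _ (List.getElem_mem h2) rfl
        have hpJ : p.1 ∈ J := (List.of_mem_zip hp).1
        have hl2 := (hlenx _ (List.getElem_mem h2)).1
        have hplt : p.1 < D.rank := hJ _ hpJ
        refine ⟨hF.wS ⟨p.1, hplt⟩ * w, InJ.mul hF ⟨[⟨p.1, hplt⟩], by simpa using hpJ,
          RefSystem.pr_singleton _ _⟩ hw, ?_⟩
        rw [actMu_mul, hwe, actMu_wS, h1, reflWt_toMu ⟨p.1, hplt⟩ hl]
        funext m
        simp only [reflMu, hF.cartan_simple p.1 hplt]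
        by_cases hm : m = ⟨p.1, hplt⟩
        · subst hm
          rw [hF.cartan_simple p.1 hplt]; ring
        · ring
  have hchoice : ∀ e ∈ S.orbit, ∃ d, hF.IsShortest J node d ∧ hF.actMu d (fund D node) = toMu D e.1 := by
    intro e he
    obtain ⟨w, hw, hwe⟩ := hreach _ e he rfl
    obtain ⟨d, hd, hmin⟩ := Finset.exists_min_image
      ((Finset.univ : Finset hF.weyl).filter fun x => hF.InJ J x ∧ hF.actMu x (fund D node) = toMu D e.1)
      hF.refSys.len ⟨w, by simp [hw, hwe]⟩
    simp only [Finset.mem_filter, Finset.mem_univ, true_and] at hd hmin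
    exact ⟨d, ⟨hd.1, fun x hx hxe => hmin x ⟨hx, hxe.trans hd.2⟩⟩, hd.2⟩
  choose d hd hde using hchoice
  have hnodup : S.orbit.Nodup := hnd.of_map
  have hpoly : polyEval q (polyOf (S.orbit.map fun e => e.2.1)) = ∑ e ∈ S.orbit.toFinset, q ^ e.2.1 := by
    rw [polyEval_of, List.map_map, List.sum_toFinset _ hnodup]
    rfl
  rw [hpoly, lenSum, lenSum, Finset.sum_mul_sum, ← Finset.sum_product']
  refine (Finset.sum_bij (fun p hp => d p.1 (List.mem_toFinset.1 (Finset.mem_product.1 hp).1) * p.2)
    ?_ ?_ ?_ ?_).symm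
  · intro p hp
    simp only [Finset.mem_product, List.mem_toFinset, Finset.mem_filter, Finset.mem_univ, true_and] at hp ⊢
    exact InJ.mul hF (hd _ hp.1).1 (InJ.mono hF (fun i hi => (List.mem_filter.1 hi).1) hp.2)
  · intro p hp p' hp' heq
    simp only [Finset.mem_product, List.mem_toFinset, Finset.mem_filter, Finset.mem_univ, true_and] at hp hp'
    have hsub : ∀ i ∈ J.filter (· != node), i ∈ J := fun i hi => (List.mem_filter.1 hi).1
    have h1 := congrArg (fun w => hF.actMu w (fund D node)) heq
    simp only [actMu_mul, (hF.stab_inJ node (InJ.mono hF hsub hp.2)).2 hp.2,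
      (hF.stab_inJ node (InJ.mono hF hsub hp'.2)).2 hp'.2, hde _ hp.1, hde _ hp'.1] at h1
    have h2 := toMu_inj (hlenx _ hp.1).1 (hlenx _ hp'.1).1 h1
    have h3 : p.1 = p'.1 := List.inj_on_of_nodup_map hnd hp.1 hp'.1 h2
    obtain ⟨a, b⟩ := p
    obtain ⟨a', b'⟩ := p'
    simp only at h3 heq
    subst h3
    rw [mul_left_cancel heq]
  · intro w hw
    simp only [Finset.mem_filter, Finset.mem_univ, true_and] at hw
    obtain ⟨e, he, hee⟩ := hin w hw
    have hv : hF.InJ J ((d e he)⁻¹ * w) := InJ.mul hF (InJ.inv hF (hd e he).1) hw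
    have hfix : hF.actMu ((d e he)⁻¹ * w) (fund D node) = fund D node := by
      rw [actMu_mul, ← hee, ← hde e he, ← actMu_mul, inv_mul_cancel, actMu_one]
    refine ⟨(e, (d e he)⁻¹ * w), ?_, ?_⟩
    · simp only [Finset.mem_product, List.mem_toFinset, Finset.mem_filter, Finset.mem_univ, true_and]
      exact ⟨he, (hF.stab_inJ node hv).1 hfix⟩
    · simp
  · intro p hp
    simp only [Finset.mem_product, List.mem_toFinset, Finset.mem_filter, Finset.mem_univ, true_and] at hp
    rw [hF.len_mul_shortest (hd _ hp.1) hp.2, pow_add, hF.len_shortest (hd _ hp.1), hde _ hp.1,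
      ← (hlenx _ hp.1).2]

theorem lenSum_chain (hD : okCoroot D = true) {cols : List (List ℤ)} (hcols : okCols D cols = true) :
    ∀ (L : List OrbitStep) (J : List ℕ), okChainW D cols J L = true → (∀ j ∈ J, j < D.rank) →
      ∀ q, hF.lenSum J q = polyEval q (chainPoly L)
  | [], J, h, _, q => by
    simp only [okChainW, List.isEmpty_iff] at h
    subst h
    simp [chainPoly, polyProd, polyEval, hF.lenSum_nil]
  | S :: L, J, h, hJ, q => by
    simp only [okChainW, Bool.and_eq_true] at h
    rw [hF.lenSum_step hD hcols hJ h.1 q,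
      lenSum_chain hD hcols L _ h.2 (fun j hj => hJ j (List.mem_filter.1 hj).1) q]
    simp [chainPoly, polyProd, polyEval_mul]

theorem card_weyl : Nat.card hF.weyl = hF.lenSum (List.range D.rank) 1 := by
  classical
  have hall : ∀ w : hF.weyl, hF.InJ (List.range D.rank) w := fun w => by
    obtain ⟨ω, hω⟩ := hF.refSys.exists_word w
    exact ⟨ω, fun i _ => List.mem_range.2 i.isLt, hω⟩
  rw [lenSum, Finset.filter_true_of_mem fun w _ => hall w]
  simp [Nat.card_eq_fintype_card]

end Facts

end Cfsg.Agent.Lie
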