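import Cfsg.Agent.Lib.Lie.BruhatAux
import Cfsg.Agent.Lib.Lie.WeylCount
import Cfsg.Agent.Lib.Lie.TorusCard

/-!
The order of a Chevalley group over a finite field.
-/

set_option autoImplicit false

namespace Cfsg.Agent.Lie

open Cfsg.Lie
open scoped MatrixGroups

variable {D : ChevalleyDatum} {F : Type*} [Field F]

namespace Facts

variable (hF : Facts D)

theorem card_US {L : List ℕ} (hL : ClosedList D L) :
    Nat.card ((hF.tsys F).US L) = Nat.card F ^ L.length := by
  classical
  have hnd : L.Nodup := hL.sorted.nodup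
  let f : ({r // r ∈ L} → F) → (hF.tsys F).US L := fun t =>
    ⟨(hF.tsys F).prodOver L fun r => if h : r ∈ L then t ⟨r, h⟩ else 0, CommSys.prodOver_mem _ _ _⟩
  have hbij : Function.Bijective f := by
    constructor
    · intro t t' h
      funext r
      have := hF.prodOver_inj hL (congrArg Subtype.val h) r.1 r.2
      simpa [r.2] using this
    · intro g
      obtain ⟨t, ht⟩ := (hF.tsys F).exists_prodOver hL g.2
      refine ⟨fun r => t r.1, Subtype.ext ?_⟩
      rw [ht]
      show (L.map _).prod = (L.map _).prod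
      exact congrArg List.prod (List.map_congr_left fun r hr => by simp [hr])
  rw [← Nat.card_eq_of_bijective f hbij, Nat.card_fun]
  congr 1
  rw [Nat.card_eq_fintype_card, Fintype.card_of_subtype L.toFinset (fun r => List.mem_toFinset),
    List.toFinset_card_of_nodup hnd]

include hF in
theorem length_posL : (posL D).length = D.nroots / 2 := by
  have h : ∀ m a : ℕ, a ≤ m → ((List.range m).filter fun r => decide (a ≤ r)).length = m - a := by
    intro m a ham
    induction m with
    | zero => simp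
    | succ m ih =>
      rw [List.range_succ, List.filter_append, List.length_append]
      rcases Nat.lt_or_ge m a with h | h
      · have : a = m + 1 := by omega
        subst this
        have h0 : ((List.range m).filter fun r => decide (m + 1 ≤ r)) = [] := by
          rw [List.filter_eq_nil_iff]
          intro r hr
          have := List.mem_range.1 hr
          simp only [decide_eq_true_eq]
          omega
        rw [h0]
        simp
      · rw [ih h]
        simp [h]
        omega
  rw [posL, h _ _ (Nat.div_le_self _ 2)]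
  have := hF.even
  omega

theorem card_borel : Nat.card (hF.tsys F).B =
    Nat.card (hF.tsys F).U * Nat.card (hF.tsys F).H := by
  rw [← Nat.card_prod]
  refine (Nat.card_eq_of_bijective (fun p : (hF.tsys F).U × (hF.tsys F).H =>
    (⟨p.1.1 * p.2.1, (hF.tsys F).mem_B.2 ⟨_, p.1.2, _, p.2.2, rfl⟩⟩ : (hF.tsys F).B)) ⟨?_, ?_⟩).symm
  · rintro ⟨u, a⟩ ⟨u', a'⟩ h
    have h' : u.1 * a.1 = u'.1 * a'.1 := congrArg Subtype.val h
    have e : u'.1⁻¹ * u.1 = a'.1 * a.1⁻¹ := by
      rw [eq_mul_inv_iff_mul_eq, mul_assoc, h', inv_mul_cancel_left]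
    have h1 := hF.U_inter_H (mul_mem (inv_mem u'.2) u.2) (e ▸ mul_mem a'.2 (inv_mem a.2))
    have hu : u'.1 = u.1 := inv_mul_eq_one.1 h1
    rw [hu] at h'
    exact Prod.ext (Subtype.ext hu.symm) (Subtype.ext (mul_left_cancel h'))
  · rintro ⟨g, hg⟩
    obtain ⟨u, hu, a, ha, rfl⟩ := (hF.tsys F).mem_B.1 hg
    exact ⟨(⟨u, hu⟩, ⟨a, ha⟩), rfl⟩

theorem card_group_sum [Finite F] : Nat.card (D.group F) =
    Nat.card F ^ (D.nroots / 2) * Nat.card (D.diagonalSubgroup F) *
      hF.lenSum (List.range D.rank) (Nat.card F) := by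
  classical
  have hall : ∀ w : hF.weyl, hF.InJ (List.range D.rank) w := fun w => by
    obtain ⟨ω, hω⟩ := hF.refSys.exists_word w
    exact ⟨ω, fun i _ => List.mem_range.2 i.isLt, hω⟩
  have hf : ∀ p : (hF.tsys F).B × (Σ w : hF.weyl, (hF.tsys F).US (TorusSys.invList w)),
      p.1.1 * (hF.tsys F).nW p.2.1 * p.2.2.1 ∈ D.group F := fun p =>
    mul_mem (mul_mem (hF.borel_le_group (by rw [← hF.tsys_B]; exact p.1.2))
      (hF.monomial_le_group (by rw [← hF.tsys_N]; exact (hF.tsys F).nW_mem_N _)))
      (hF.borel_le_group (by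
        rw [← hF.tsys_B]
        exact (hF.tsys F).U_le_B (CommSys.US_mono _
          (fun r hr => mem_posL.2 ((TorusSys.closed_invList p.2.1).mem_pos r hr)) p.2.2.2)))
  rw [← Nat.card_eq_of_bijective (fun p : (hF.tsys F).B × (Σ w : hF.weyl, (hF.tsys F).US (TorusSys.invList w)) =>
    (⟨_, hf p⟩ : D.group F)) ⟨?_, ?_⟩, Nat.card_prod, card_borel, Nat.card_sigma]
  · rw [show (hF.tsys F).U = (hF.tsys F).US (posL D) from rfl, hF.card_US hF.closedList_posL,
      hF.length_posL, hF.tsys_H, lenSum, Finset.filter_true_of_mem fun w _ => hall w]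
    congr 1
    refine Finset.sum_congr rfl fun w _ => ?_
    rw [hF.card_US (TorusSys.closed_invList w), TorusSys.length_invList]
  · rintro ⟨b, w, u⟩ ⟨b', w', u'⟩ h
    obtain ⟨rfl, hb, hu⟩ := hF.bruhat_unique b.2 b'.2 u.2 u'.2 (congrArg Subtype.val h)
    obtain rfl : b = b' := Subtype.ext hb
    obtain rfl : u = u' := Subtype.ext hu
    rfl
  · rintro ⟨g, hg⟩
    obtain ⟨b, hb, w, u, hu, rfl⟩ := hF.mem_bnu hg
    exact ⟨(⟨b, hb⟩, ⟨w, ⟨u, hu⟩⟩), rfl⟩

theorem pred_pow_mul_geom (ds : List ℕ) {q : ℕ} (hq : 1 ≤ q) :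
    (q - 1) ^ ds.length * (ds.map fun d => ∑ k ∈ Finset.range d, q ^ k).prod =
      (ds.map fun d => q ^ d - 1).prod := by
  induction ds with
  | nil => simp
  | cons d ds ih =>
    obtain ⟨q, rfl⟩ : ∃ p, q = p + 1 := ⟨q - 1, by omega⟩
    have hg : q * ∑ k ∈ Finset.range d, (q + 1) ^ k = (q + 1) ^ d - 1 := by
      have h := geom_sum_mul_add q d
      rw [mul_comm]
      omega
    simp only [List.map_cons, List.prod_cons, List.length_cons, pow_succ, Nat.add_sub_cancel] at ih ⊢
    rw [← hg, ← ih]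
    ring

/-- The order formula. -/
theorem card_group [Fintype F] {q : ℕ} (hq : Fintype.card F = q) {k : ℕ} {d : Fin k → ℕ}
    (K : KerCert (cartanSys D) d) (ds : List ℕ) (hds : ds.length = D.rank)
    (hlen : ∀ q, hF.lenSum (List.range D.rank) q = (ds.map fun e => ∑ j ∈ Finset.range e, q ^ j).prod) :
    (∏ a, Nat.gcd (d a) (q - 1)) * Nat.card (D.group F) =
      q ^ (D.nroots / 2) * (ds.map fun e => q ^ e - 1).prod := by
  have hq' : Nat.card F = q := by rw [Nat.card_eq_fintype_card, hq]
  have h1 := hF.card_diagonal (F := F) K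
  rw [hq'] at h1
  have hq1 : 1 ≤ q := by rw [← hq]; exact Fintype.card_pos
  rw [hF.card_group_sum, hq', hlen, ← pred_pow_mul_geom ds hq1, hds, ← h1]
  ring

end Facts

end Cfsg.Agent.Lie
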