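import Cfsg.Agent.Lib.Lie.WeylCount
import Cfsg.Agent.Lib.Lie.FactsG2

/-! The Weyl group of type G2: presentation and length generating function. -/

set_option autoImplicit false
set_option maxRecDepth 100000

namespace Cfsg.Agent.Lie

open Cfsg.Lie

/-- Orbit data, part. -/
def orbitG2_1p0 : List (List ℤ × ℕ × List ℕ) := [([0, 1], 0, [0, 1]),
    ([3, -1], 1, [2, 0]),
    ([-3, 2], 2, [1, 3]),
    ([3, -2], 3, [4, 2]),
    ([-3, 1], 4, [3, 5]),
    ([0, -1], 5, [5, 4])]

/-- Orbit data. -/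
def orbitG2_1 : OrbitStep where
  node := 1
  orbit := orbitG2_1p0

/-- Orbit data, part. -/
def orbitG2_0p0 : List (List ℤ × ℕ × List ℕ) := [([1, 0], 0, [1]),
    ([-1, 1], 1, [0])]

/-- Orbit data. -/
def orbitG2_0 : OrbitStep where
  node := 0
  orbit := orbitG2_0p0

/-- The orbit chain of type G2. -/
def orbitChainG2 : List OrbitStep := [orbitG2_1, orbitG2_0]

theorem okCorootG2 : Facts.okCoroot chevG2 = true := by decide +kernel

/-- Reflection columns. -/
def colsG2 : List (List ℤ) := [[2, -1], [-3, 2]]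

theorem okColsG2 : okCols chevG2 colsG2 = true := by decide +kernel

theorem okOrbitsG2 : okChainW chevG2 colsG2 (List.range chevG2.rank) orbitChainG2 = true := by decide +kernel

theorem polyG2 : polyEqb (chainPoly orbitChainG2) (polyProd (([2, 6] : List ℕ).map polyGeom)) = true := by decide +kernel

/-- The Coxeter matrix entries. -/
def coxFunG2 (i j : ℕ) : ℕ := if h : i < 2 ∧ j < 2 then (CoxeterMatrix.G₂ : CoxeterMatrix (Fin 2)).M ⟨i, h.1⟩ ⟨j, h.2⟩ else 1

theorem okOrdersG2 : okOrders chevG2 coxFunG2 = true := by decide +kernel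

theorem coxeterG2 :
    (∀ i j, (factsG2.refSys.s i * factsG2.refSys.s j) ^ (CoxeterMatrix.G₂ : CoxeterMatrix (Fin chevG2.rank)) i j = 1) ∧
      ∀ i j (r : ℕ), (factsG2.refSys.s i * factsG2.refSys.s j) ^ r = 1 → (CoxeterMatrix.G₂ : CoxeterMatrix (Fin chevG2.rank)) i j ∣ r :=
  factsG2.orders_of_check _ coxFunG2 (fun i j => by
    unfold coxFunG2
    rw [dif_pos (⟨i.isLt, j.isLt⟩ : i.val < 2 ∧ j.val < 2)]
    exact rfl) okOrdersG2

/-- The Weyl group of type G2 is the Coxeter group. -/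
noncomputable def weylEquivG2 : (CoxeterMatrix.G₂ : CoxeterMatrix (Fin chevG2.rank)).Group ≃* factsG2.weyl :=
  factsG2.refSys.coxeterEquiv _ coxeterG2.1 coxeterG2.2

theorem lenSumG2 (q : ℕ) : factsG2.lenSum (List.range chevG2.rank) q =
    ((([2, 6] : List ℕ).map fun d => ∑ k ∈ Finset.range d, q ^ k)).prod := by
  rw [factsG2.lenSum_chain okCorootG2 okColsG2 orbitChainG2 _ okOrbitsG2 (fun j hj => List.mem_range.1 hj) q, polyEqb_sound q _ _ polyG2, polyEval_prod, List.map_map]
  simp only [Function.comp_def, polyEval_geom]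

end Cfsg.Agent.Lie
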