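import Cfsg.Agent.Lib.Lie.Bruhat

/-!
Consequences of the Bruhat decomposition: N/H, the longest element, the bound on the group.
-/

set_option autoImplicit false

namespace Cfsg.Agent.Lie

open Cfsg.Lie Matrix
open scoped MatrixGroups

variable {D : ChevalleyDatum} {F : Type*} [Field F]

namespace Facts

variable (hF : Facts D)

theorem nW_mul (w v : hF.weyl) : ∃ c ∈ (hF.tsys F).H,
    (hF.tsys F).nW w * (hF.tsys F).nW v = c * (hF.tsys F).nW (w * v) := by
  obtain ⟨c, hc, hceq⟩ := (hF.tsys F).nw_eq (ω := TorusSys.word w ++ TorusSys.word v) (w := w * v)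
    (by rw [RefSystem.pr_append, TorusSys.pr_word, TorusSys.pr_word])
  rw [TorusSys.nw_append] at hceq
  exact ⟨c, hc, hceq⟩

theorem mem_monomial {g : GL D.Idx F} :
    g ∈ D.monomialSubgroup F ↔ ∃ a ∈ (hF.tsys F).H, ∃ w, g = a * (hF.tsys F).nW w := by
  rw [← hF.tsys_N]; exact (hF.tsys F).mem_N

/-- The W-component of an element of N. -/
noncomputable def wOf (g : D.monomialSubgroup F) : hF.weyl :=
  Classical.choose (Classical.choose_spec ((hF.mem_monomial (F := F)).1 g.2)).2

theorem wOf_spec (g : D.monomialSubgroup F) :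
    ∃ a ∈ (hF.tsys F).H, (g : GL D.Idx F) = a * (hF.tsys F).nW (hF.wOf g) :=
  ⟨_, (Classical.choose_spec ((hF.mem_monomial (F := F)).1 g.2)).1,
    Classical.choose_spec (Classical.choose_spec ((hF.mem_monomial (F := F)).1 g.2)).2⟩

theorem wOf_eq {g : D.monomialSubgroup F} {a : GL D.Idx F} {w : hF.weyl}
    (ha : a ∈ (hF.tsys F).H) (h : (g : GL D.Idx F) = a * (hF.tsys F).nW w) : hF.wOf g = w := by
  obtain ⟨b, hb, hbeq⟩ := hF.wOf_spec g
  exact hF.nW_eq_of_mul hb ha (hbeq.symm.trans h)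

/-- N → W. -/
noncomputable def wHom (F : Type*) [Field F] : D.monomialSubgroup F →* hF.weyl :=
  MonoidHom.mk' hF.wOf fun g g' => by
    obtain ⟨a, ha, hg⟩ := hF.wOf_spec g
    obtain ⟨b, hb, hg'⟩ := hF.wOf_spec g'
    obtain ⟨c, hc, hceq⟩ := hF.nW_mul (F := F) (hF.wOf g) (hF.wOf g')
    refine hF.wOf_eq (a := a * ((hF.tsys F).nW (hF.wOf g) * b * ((hF.tsys F).nW (hF.wOf g))⁻¹) * c)
      (mul_mem (mul_mem ha ((hF.tsys F).nW_H hb)) hc) ?_
    rw [Subgroup.coe_mul, hg, hg', mul_assoc (a * _) c, ← hceq]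
    group

theorem wHom_surjective : Function.Surjective (hF.wHom F) := fun w =>
  ⟨⟨(hF.tsys F).nW w, (hF.mem_monomial (F := F)).2 ⟨1, one_mem _, w, (one_mul _).symm⟩⟩,
    hF.wOf_eq (one_mem _) (one_mul _).symm⟩

theorem wHom_ker : (hF.wHom F).ker = (D.diagonalSubgroup F).subgroupOf (D.monomialSubgroup F) := by
  ext g
  rw [MonoidHom.mem_ker, Subgroup.mem_subgroupOf, ← hF.tsys_H]
  show hF.wOf g = 1 ↔ _
  constructor
  · intro h
    obtain ⟨a, ha, hg⟩ := hF.wOf_spec g
    rw [hg, h]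
    exact mul_mem ha (hF.tsys F).nW_one
  · intro h
    exact hF.wOf_eq (mul_mem h (inv_mem (hF.tsys F).nW_one)) (by group)

theorem wHom_nS (i : Fin D.rank) (g : D.monomialSubgroup F) (hg : (g : GL D.Idx F) = (hF.tsys F).nS i) :
    hF.wHom F g = hF.wS i := by
  obtain ⟨a, ha, haeq⟩ := (hF.tsys F).nw_eq (ω := [i]) (w := hF.wS i) (RefSystem.pr_singleton _ i)
  refine hF.wOf_eq ha ?_
  rw [hg, ← haeq, TorusSys.nw_singleton]

include hF in
/-- An element sending the simple roots to negative roots sends all positive roots to negative roots. -/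
theorem neg_of_simple_neg (w : hF.weyl) (h : ∀ i, w • hF.refSys.α i ∉ hF.refSys.P) :
    ∀ r : Fin D.nroots, r ∈ hF.refSys.P → w • r ∉ hF.refSys.P := by
  have hnegpsi : ∀ x : Fin D.nroots, x ∉ hF.refSys.P → hF.psi x.val < 0 := by
    intro x hx
    have h := (hF.refSys.neg_mem x).2 hx
    have h' : D.nroots / 2 ≤ D.neg x.val := by simpa [refSys] using h
    have := hF.psi_pos (hF.neg_lt x.isLt) h'
    rw [hF.psi_neg x.isLt] at this
    omega
  suffices hm : ∀ r, (hr : r < D.nroots) → D.nroots / 2 ≤ r →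
      hF.psi (w • (⟨r, hr⟩ : Fin D.nroots) : Fin D.nroots).val < 0 by
    intro r hr hc
    have h1 := hm r.val r.isLt (by simpa [refSys] using hr)
    have h2 := hF.psi_pos (Fin.isLt _)
      (show D.nroots / 2 ≤ (w • r : Fin D.nroots).val by simpa [refSys] using hc)
    exact absurd h1 (not_lt.2 h2.le)
  intro r
  induction r using Nat.strong_induction_on with
  | _ r ih =>
    intro hr hr'
    obtain ⟨i, hi, hlt⟩ := hF.exists_refl_lt hr hr'
    have hα := hF.simple_lt i hi
    by_cases hp : r = D.simple i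
    · exact hnegpsi _ (by subst hp; exact h ⟨i, hi⟩)
    · have hq := hF.refl_lt i hi r hr
      have hqp := hF.refl_pos i hi r hr hr' hp
      have h1 := ih _ hlt hq hqp
      have h2 := hnegpsi _ (h ⟨i, hi⟩)
      have hA : 0 < -D.cartan i (D.reflectRoot i r) := by
        have := hF.psi_refl hi hq
        rw [hF.refl_refl i hi r hr] at this
        have h3 := hF.psi_lt hlt hr
        have h4 := hF.psi_pos hα (hF.simple_ge i hi)
        nlinarith
      have hcomb : ∀ k, k < D.rank → D.cartan k r =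
          1 * D.cartan k (D.reflectRoot i r) + (-D.cartan i (D.reflectRoot i r)) * D.cartan k (D.simple i) := by
        intro k hk
        have := hF.cartan_refl i hi _ hq k hk
        rw [hF.refl_refl i hi r hr] at this
        rw [this]; ring
      have hlin := TorusSys.weyl_comb w ⟨r, hr⟩ ⟨_, hq⟩ (hF.refSys.α ⟨i, hi⟩) 1
        (-D.cartan i (D.reflectRoot i r)) hcomb
      rw [TorusSys.psi_comb (hF := hF) _ _ hlin, one_mul]
      nlinarith

include hF in
theorem exists_longest : ∃ w : hF.weyl, ∀ r : Fin D.nroots, r ∈ hF.refSys.P → w • r ∉ hF.refSys.P := by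
  obtain ⟨w, hw⟩ := Finite.exists_max hF.refSys.len
  refine ⟨w, hF.neg_of_simple_neg w fun i hi => ?_⟩
  have := hF.refSys.len_mul_s_of_mem hi
  have := hw (w * hF.refSys.s i)
  omega

theorem conj_longest {w : hF.weyl} (hw : ∀ r : Fin D.nroots, r ∈ hF.refSys.P → w • r ∉ hF.refSys.P) :
    (D.posUnipotent F).map (MulAut.conj ((hF.tsys F).nW w)).toMonoidHom = D.negUnipotent F := by
  apply le_antisymm
  · rw [Subgroup.map_le_iff_le_comap, hF.posUnipotent_eq F]
    refine CommSys.US_le _ fun r hr t => ?_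
    obtain ⟨h1, h2⟩ := mem_posL.1 hr
    obtain ⟨e, -, heq⟩ := hF.nW_conj (F := F) w ⟨r, h2⟩
    show (hF.tsys F).nW w * hF.xg r t * ((hF.tsys F).nW w)⁻¹ ∈ D.negUnipotent F
    rw [heq]
    refine hF.x_mem_negUnipotent ?_ _
    have := hw ⟨r, h2⟩ (by simp [refSys, h1])
    simpa [refSys] using this
  · refine hF.negUnipotent_le fun r hr t => ?_
    set s : Fin D.nroots := w⁻¹ • ⟨r, by omega⟩ with hs
    have hsP : s ∈ hF.refSys.P := by
      by_contra hc
      have h1 := hw (hF.refSys.neg s) ((hF.refSys.neg_mem s).2 hc)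
      rw [RefSystem.smul_neg, hs, smul_inv_smul, hF.refSys.neg_mem] at h1
      have h2 : D.nroots / 2 ≤ r := by simpa [refSys] using h1
      omega
    obtain ⟨u, hu⟩ := hF.nW_conj' (F := F) w s t
    rw [hs, smul_inv_smul] at hu
    refine ⟨hF.xg s.val u, ?_, hu.symm⟩
    rw [hF.posUnipotent_eq F]
    exact CommSys.x_mem_US _ (mem_posL.2 ⟨by simpa [refSys] using hsP, s.isLt⟩) u

include hF in
theorem borel_le_group : D.borelSubgroup F ≤ D.group F := by
  refine sup_le ((Subgroup.closure_le _).2 ?_) ((Subgroup.closure_le _).2 ?_)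
  · rintro g ⟨r, t, -, hg⟩
    rw [hF.eq_xg.1 hg]
    exact hF.xg_mem_group r t
  · rintro g ⟨r, t, -, -, hg⟩
    have : g = hF.hg r t := Units.ext (by rw [hg, coe_hg])
    rw [this]
    exact hF.wg_mem_group _

include hF in
theorem monomial_le_group : D.monomialSubgroup F ≤ D.group F := by
  refine sup_le (le_sup_right.trans hF.borel_le_group) ((Subgroup.closure_le _).2 ?_)
  rintro g ⟨r, -, hg⟩
  have : g = hF.ng r 1 := Units.ext (by rw [hg, coe_ng])
  rw [this]
  exact hF.wg_mem_group _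

include hF in
theorem borel_sup_monomial : D.borelSubgroup F ⊔ D.monomialSubgroup F = D.group F := by
  refine le_antisymm (sup_le hF.borel_le_group hF.monomial_le_group) ?_
  rw [← hF.tsys_G, ← hF.tsys_B, ← hF.tsys_N]
  refine (Subgroup.closure_le _).2 ?_
  rintro _ ⟨r, t, rfl⟩
  by_cases hr : r < D.nroots
  · exact (hF.tsys F).X_mem_BN r hr t
  · rw [(hF.tsys F).x_out r t (not_lt.1 hr)]; exact one_mem _

end Facts

end Cfsg.Agent.Lie
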