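import Cfsg.Prelude.Def_LieExceptional

/-!
Tits systems: double cosets, exchange, parabolic subgroups, the simplicity criterion.
-/

set_option autoImplicit false

namespace Cfsg.Agent.Lie.Tits

open DoubleCoset

variable {G : Type*} [Group G] (P : Cfsg.BNPair G)

/-- The subgroup B ∩ N. -/
def H : Subgroup G := P.B ⊓ P.N

/-- Congruence modulo H. -/
def Cong (n m : G) : Prop := n⁻¹ * m ∈ H P

/-- The double coset of n. -/
def DC (n : G) : Set G := doubleCoset n (P.B : Set G) P.B

/-- A word in S. -/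
def IsWord (ω : List G) : Prop := ∀ s ∈ ω, s ∈ P.S

/-- n is represented by a word of length k. -/
def HasLen (n : G) (k : ℕ) : Prop := ∃ ω, IsWord P ω ∧ ω.length = k ∧ Cong P ω.prod n

/-- The length. -/
noncomputable def len (n : G) : ℕ := sInf {k | HasLen P n k}

variable {P}

theorem H_le_B : H P ≤ P.B := inf_le_left

theorem H_le_N : H P ≤ P.N := inf_le_right

theorem H_conj {n h : G} (hn : n ∈ P.N) (hh : h ∈ H P) : n * h * n⁻¹ ∈ H P :=
  Subgroup.mem_inf.2 ⟨P.conj_mem n hn h hh, mul_mem (mul_mem hn (H_le_N hh)) (inv_mem hn)⟩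

theorem H_conj' {n h : G} (hn : n ∈ P.N) (hh : h ∈ H P) : n⁻¹ * h * n ∈ H P := by
  simpa using H_conj (inv_mem hn) hh

theorem mem_H {g : G} (hB : g ∈ P.B) (hN : g ∈ P.N) : g ∈ H P := ⟨hB, hN⟩

@[refl] theorem Cong.refl (n : G) : Cong P n n := by simp [Cong]

theorem Cong.symm {n m : G} (h : Cong P n m) : Cong P m n := by
  simpa [Cong] using inv_mem h

theorem Cong.trans {n m k : G} (h : Cong P n m) (h' : Cong P m k) : Cong P n k := by
  simpa [Cong, mul_assoc] using mul_mem h h'

theorem Cong.mul_left {n m : G} (a : G) (h : Cong P n m) : Cong P (a * n) (a * m) := by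
  simpa [Cong, mul_assoc] using h

theorem Cong.mul_right {n m a : G} (ha : a ∈ P.N) (h : Cong P n m) : Cong P (n * a) (m * a) := by
  show (n * a)⁻¹ * (m * a) ∈ H P
  rw [show (n * a)⁻¹ * (m * a) = a⁻¹ * (n⁻¹ * m) * a by group]
  exact H_conj' ha h

theorem Cong.mem_N {n m : G} (h : Cong P n m) (hn : n ∈ P.N) : m ∈ P.N := by
  simpa using mul_mem hn (H_le_N h)

theorem S_N {s : G} (hs : s ∈ P.S) : s ∈ P.N := P.subset hs

theorem S_sq {s : G} (hs : s ∈ P.S) : s * s ∈ H P := ⟨P.sq_mem s hs, mul_mem (S_N hs) (S_N hs)⟩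

theorem S_inv {s : G} (hs : s ∈ P.S) : Cong P s s⁻¹ := by
  show s⁻¹ * s⁻¹ ∈ H P
  simpa using inv_mem (S_sq hs)

theorem sq_cancel {s : G} (hs : s ∈ P.S) {n : G} (hn : n ∈ P.N) : Cong P (s * (s * n)) n := by
  show (s * (s * n))⁻¹ * n ∈ H P
  rw [show (s * (s * n))⁻¹ * n = n⁻¹ * (s * s)⁻¹ * n by group]
  exact H_conj' hn (inv_mem (S_sq hs))

theorem word_N {ω : List G} (h : IsWord P ω) : ω.prod ∈ P.N :=
  list_prod_mem fun _ hx => S_N (h _ hx)

theorem exists_hasLen {n : G} (hn : n ∈ P.N) : ∃ k, HasLen P n k := by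
  suffices ∃ ω, IsWord P ω ∧ Cong P ω.prod n by
    obtain ⟨ω, h1, h2⟩ := this
    exact ⟨_, ω, h1, rfl, h2⟩
  rw [← P.closure_sup, ← Subgroup.closure_eq (P.B ⊓ P.N), ← Subgroup.closure_union] at hn
  induction hn using Subgroup.closure_induction'' with
  | mem x hx =>
    rcases hx with hx | hx
    · exact ⟨[x], by simpa [IsWord] using hx, by simp [Cong]⟩
    · have hx' : x ∈ H P := hx
      exact ⟨[], by simp [IsWord], by simpa [Cong] using hx'⟩
  | inv_mem x hx =>
    rcases hx with hx | hx
    · exact ⟨[x], by simpa [IsWord] using hx, by simpa using S_inv hx⟩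
    · have hx' : x⁻¹ ∈ H P := @inv_mem _ _ _ _ _ (H P) _ hx
      exact ⟨[], by simp [IsWord], by simpa [Cong] using hx'⟩
  | one => exact ⟨[], by simp [IsWord], by simp [Cong]⟩
  | mul x y hx hy h1 h2 =>
    obtain ⟨α, ha, hx'⟩ := h1
    obtain ⟨β, hb, hy'⟩ := h2
    refine ⟨α ++ β, fun s hs => (List.mem_append.1 hs).elim (ha s) (hb s), ?_⟩
    rw [List.prod_append]
    exact (hx'.mul_right (word_N hb)).trans (hy'.mul_left x)

theorem exists_reduced {n : G} (hn : n ∈ P.N) :
    ∃ ω, IsWord P ω ∧ ω.length = len P n ∧ Cong P ω.prod n :=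
  Nat.sInf_mem (s := {k | HasLen P n k}) (exists_hasLen hn)

theorem len_le {n : G} {ω : List G} (hω : IsWord P ω) (h : Cong P ω.prod n) :
    len P n ≤ ω.length := Nat.sInf_le ⟨ω, hω, rfl, h⟩

theorem len_congr {n m : G} (h : Cong P n m) : len P n = len P m := by
  unfold len
  congr 1
  ext k
  exact ⟨fun ⟨ω, h1, h2, h3⟩ => ⟨ω, h1, h2, h3.trans h⟩,
    fun ⟨ω, h1, h2, h3⟩ => ⟨ω, h1, h2, h3.trans h.symm⟩⟩

theorem len_mul_le {s n : G} (hs : s ∈ P.S) (hn : n ∈ P.N) : len P (s * n) ≤ len P n + 1 := by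
  obtain ⟨ω, h1, h2, h3⟩ := exists_reduced hn
  have := len_le (n := s * n) (ω := s :: ω) (fun x hx => (List.mem_cons.1 hx).elim (· ▸ hs) (h1 x))
    (by simpa using h3.mul_left s)
  simpa [h2] using this

theorem len_le_mul {s n : G} (hs : s ∈ P.S) (hn : n ∈ P.N) : len P n ≤ len P (s * n) + 1 := by
  have := len_mul_le hs (mul_mem (S_N hs) hn)
  rwa [len_congr (sq_cancel hs hn)] at this

theorem len_eq_zero {n : G} (hn : n ∈ P.N) (h : len P n = 0) : n ∈ H P := by
  obtain ⟨ω, -, h2, h3⟩ := exists_reduced hn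
  rw [h] at h2
  rw [List.eq_nil_of_length_eq_zero h2] at h3
  simpa [Cong] using h3

theorem len_of_mem_H {n : G} (hn : n ∈ H P) : len P n = 0 :=
  Nat.le_zero.1 (len_le (ω := []) (by simp [IsWord]) (by simpa [Cong] using hn))

/-! ### Double cosets -/

theorem self_mem_DC (n : G) : n ∈ DC P n :=
  mem_doubleCoset.2 ⟨1, one_mem _, 1, one_mem _, by simp⟩

theorem DC_congr {n m : G} (h : Cong P n m) : DC P n = DC P m :=
  (doubleCoset_eq_of_mem (mem_doubleCoset.2
    ⟨1, one_mem _, n⁻¹ * m, H_le_B h, by group⟩)).symm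

theorem DC_mul {n g b b' : G} (hb : b ∈ P.B) (hb' : b' ∈ P.B) (hg : g ∈ DC P n) :
    b * g * b' ∈ DC P n := by
  obtain ⟨x, hx, y, hy, rfl⟩ := mem_doubleCoset.1 hg
  exact mem_doubleCoset.2 ⟨b * x, mul_mem hb hx, y * b', mul_mem hy hb', by group⟩

theorem DC_mul_left {n g b : G} (hb : b ∈ P.B) (hg : g ∈ DC P n) : b * g ∈ DC P n := by
  simpa using DC_mul hb (one_mem _) hg

theorem DC_mul_right {n g b : G} (hb : b ∈ P.B) (hg : g ∈ DC P n) : g * b ∈ DC P n := by
  simpa using DC_mul (one_mem _) hb hg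

theorem DC_eq_of_mem {n g : G} (hg : g ∈ DC P n) : DC P g = DC P n := doubleCoset_eq_of_mem hg

theorem DC_inv {n g : G} (hg : g ∈ DC P n) : g⁻¹ ∈ DC P n⁻¹ := by
  obtain ⟨x, hx, y, hy, rfl⟩ := mem_doubleCoset.1 hg
  exact mem_doubleCoset.2 ⟨y⁻¹, inv_mem hy, x⁻¹, inv_mem hx, by group⟩

theorem mem_DC_iff_B {g h : G} (hh : h ∈ P.B) : g ∈ DC P h ↔ g ∈ P.B := by
  constructor
  · intro hg
    obtain ⟨x, hx, y, hy, rfl⟩ := mem_doubleCoset.1 hg
    exact mul_mem (mul_mem hx hh) hy
  · intro hg
    exact mem_doubleCoset.2 ⟨g * h⁻¹, mul_mem hg (inv_mem hh), 1, one_mem _, by group⟩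

/-- s B n lies in two double cosets. -/
theorem left_mul {s n b : G} (hs : s ∈ P.S) (hn : n ∈ P.N) (hb : b ∈ P.B) :
    s * b * n ∈ DC P (s * n) ∨ s * b * n ∈ DC P n := P.mul_mem_union s hs n hn b hb

theorem left_mul_DC {s n g b : G} (hs : s ∈ P.S) (hn : n ∈ P.N) (hb : b ∈ P.B) (hg : g ∈ DC P n) :
    s * b * g ∈ DC P (s * n) ∨ s * b * g ∈ DC P n := by
  obtain ⟨x, hx, y, hy, rfl⟩ := mem_doubleCoset.1 hg
  rw [show s * b * (x * n * y) = s * (b * x) * n * y by group]
  exact (left_mul hs hn (mul_mem hb hx)).imp (DC_mul_right hy) (DC_mul_right hy)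

theorem right_mul_DC {s n g b : G} (hs : s ∈ P.S) (hn : n ∈ P.N) (hb : b ∈ P.B) (hg : g ∈ DC P n) :
    g * b * s ∈ DC P (n * s) ∨ g * b * s ∈ DC P n := by
  have h := left_mul_DC hs (inv_mem hn) (mul_mem (inv_mem (P.sq_mem s hs)) (one_mem _)) (DC_inv hg)
  have hs2 := S_inv hs
  have key := left_mul_DC hs (inv_mem hn) (inv_mem hb) (DC_inv hg)
  rcases key with hk | hk
  · left
    have h2 := DC_mul_left (inv_mem (P.sq_mem s hs)) hk
    rw [show (s * s)⁻¹ * (s * b⁻¹ * g⁻¹) = s⁻¹ * b⁻¹ * g⁻¹ by group] at h2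
    have h3 := DC_inv h2
    rw [show (s⁻¹ * b⁻¹ * g⁻¹)⁻¹ = g * b * s by group, mul_inv_rev, inv_inv] at h3
    rwa [DC_congr (hs2.symm.mul_left n)] at h3
  · right
    have h2 := DC_mul_left (inv_mem (P.sq_mem s hs)) hk
    rw [show (s * s)⁻¹ * (s * b⁻¹ * g⁻¹) = s⁻¹ * b⁻¹ * g⁻¹ by group] at h2
    have h3 := DC_inv h2
    rwa [show (s⁻¹ * b⁻¹ * g⁻¹)⁻¹ = g * b * s by group, inv_inv] at h3

/-- Elements of S are outside B. -/
theorem S_not_B {s : G} (hs : s ∈ P.S) : s ∉ P.B := by
  intro h
  refine P.conj_ne s hs ?_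
  ext x
  constructor
  · rintro ⟨b, hb, rfl⟩; exact mul_mem (mul_mem h hb) h
  · intro hx
    exact ⟨s⁻¹ * x * s⁻¹, mul_mem (mul_mem (inv_mem h) hx) (inv_mem h), by group⟩

theorem S_not_H {s : G} (hs : s ∈ P.S) : s ∉ H P := fun h => S_not_B hs h.1

theorem exists_flip {s : G} (hs : s ∈ P.S) : ∃ b ∈ P.B, s * b * s ∈ DC P s := by
  by_contra hc
  simp only [not_exists, not_and] at hc
  have hsub : ∀ b ∈ P.B, s * b * s ∈ P.B := by
    intro b hb
    rcases left_mul hs (S_N hs) hb with h | h
    · exact (mem_DC_iff_B (P.sq_mem s hs)).1 h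
    · exact absurd h (hc b hb)
  refine P.conj_ne s hs ?_
  ext x
  constructor
  · rintro ⟨b, hb, rfl⟩; exact hsub b hb
  · intro hx
    refine ⟨(s * s)⁻¹ * (s * x * s) * (s * s)⁻¹, ?_, by group⟩
    exact mul_mem (mul_mem (inv_mem (P.sq_mem s hs)) (hsub x hx)) (inv_mem (P.sq_mem s hs))

/-- Bruhat: equal double cosets give congruent elements. -/
theorem DC_inj : ∀ {n m : G}, n ∈ P.N → m ∈ P.N → DC P n = DC P m → Cong P n m := by
  suffices h : ∀ (k : ℕ) (n m : G), n ∈ P.N → m ∈ P.N → len P n = k → k ≤ len P m →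
      DC P n = DC P m → Cong P n m by
    intro n m hn hm he
    rcases le_total (len P n) (len P m) with hle | hle
    · exact h _ n m hn hm rfl hle he
    · exact (h _ m n hm hn rfl hle he.symm).symm
  intro k
  induction k with
  | zero =>
    intro n m hn hm hk _ he
    have hnH := len_eq_zero hn hk
    have hm' : m ∈ DC P n := he ▸ self_mem_DC m
    have hmB : m ∈ P.B := (mem_DC_iff_B (H_le_B hnH)).1 hm'
    exact mul_mem (inv_mem hnH) (mem_H hmB hm)
  | succ k ih =>
    intro n m hn hm hk hle he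
    obtain ⟨ω, hω, hlen, hc⟩ := exists_reduced hn
    rw [hk] at hlen
    obtain ⟨s, τ, rfl⟩ := List.exists_cons_of_length_eq_add_one hlen
    have hs : s ∈ P.S := hω s (List.mem_cons_self)
    have hτ : IsWord P τ := fun x hx => hω x (List.mem_cons_of_mem _ hx)
    rw [List.prod_cons] at hc
    simp only [List.length_cons, Nat.add_right_cancel_iff] at hlen
    have hτN := word_N hτ
    have hlτ : len P τ.prod = k := by
      have h1 := len_le hτ (Cong.refl τ.prod)
      have h2 := len_mul_le hs hτN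
      rw [len_congr hc] at h2
      omega
    have hsn : s * τ.prod ∈ DC P m := by
      rw [← he, ← DC_congr hc]; exact self_mem_DC _
    have hsn' := left_mul_DC hs hm (inv_mem (P.sq_mem s hs)) hsn
    rw [show s * (s * s)⁻¹ * (s * τ.prod) = τ.prod by group] at hsn'
    rcases hsn' with h | h
    · have hsm := mul_mem (S_N hs) hm
      have h1 := ih τ.prod (s * m) hτN hsm hlτ (by have := len_le_mul hs hm; omega)
        (DC_eq_of_mem h)
      exact hc.symm.trans ((h1.mul_left s).trans (sq_cancel hs hm))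
    · have h1 := ih τ.prod m hτN hm hlτ (by omega) (DC_eq_of_mem h)
      have := len_congr h1
      omega

theorem Cong_of_mem {g n m : G} (hn : n ∈ P.N) (hm : m ∈ P.N) (h1 : g ∈ DC P n) (h2 : g ∈ DC P m) :
    Cong P n m := DC_inj hn hm ((DC_eq_of_mem h1).symm.trans (DC_eq_of_mem h2))

/-- If the length does not drop, s B n is in one double coset. -/
theorem left_mul_of_le : ∀ {s n b : G}, s ∈ P.S → n ∈ P.N → b ∈ P.B → len P n ≤ len P (s * n) →
    s * b * n ∈ DC P (s * n) := by
  suffices h : ∀ (k : ℕ) (s n b : G), s ∈ P.S → n ∈ P.N → b ∈ P.B → len P n = k →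
      k ≤ len P (s * n) → s * b * n ∈ DC P (s * n) from fun {s n b} hs hn hb hl => h _ _ _ _ hs hn hb rfl hl
  intro k
  induction k with
  | zero =>
    intro s n b hs hn hb hk _
    have hnH := len_eq_zero hn hk
    exact mem_doubleCoset.2 ⟨1, one_mem _, n⁻¹ * (b * n),
      mul_mem (inv_mem (H_le_B hnH)) (mul_mem hb (H_le_B hnH)), by group⟩
  | succ k ih =>
    intro s n b hs hn hb hk hle
    rcases left_mul hs hn hb with h | h
    · exact h
    exfalso
    obtain ⟨ω, hω, hlen, hc⟩ := exists_reduced hn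
    rw [hk] at hlen
    obtain ⟨τ, t, rfl⟩ := (List.eq_nil_or_concat ω).resolve_left (by intro h'; simp [h'] at hlen)
    rw [List.concat_eq_append] at hω hlen hc
    have ht : t ∈ P.S := hω t (by simp)
    have hτ : IsWord P τ := fun x hx => hω x (List.mem_append_left _ hx)
    rw [List.prod_append, List.prod_singleton] at hc
    simp only [List.length_append, List.length_singleton, Nat.add_right_cancel_iff] at hlen
    have hτN := word_N hτ
    have hsτ := mul_mem (S_N hs) hτN
    have hlτ : len P τ.prod = k := by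
      have h1 := len_le hτ (Cong.refl τ.prod)
      obtain ⟨ρ, hρ, hρl, hρc⟩ := exists_reduced hτN
      have h2 := len_le (n := n) (ω := ρ ++ [t])
        (fun x hx => (List.mem_append.1 hx).elim (hρ x) fun h => by simp at h; exact h ▸ ht)
        (by rw [List.prod_append, List.prod_singleton]; exact (hρc.mul_right (S_N ht)).trans hc)
      simp only [List.length_append, List.length_singleton] at h2
      omega
    have hge : k ≤ len P (s * τ.prod) := by
      by_contra hlt
      obtain ⟨ρ, hρ, hρl, hρc⟩ := exists_reduced hsτ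
      have h2 := len_le (n := s * n) (ω := ρ ++ [t])
        (fun x hx => (List.mem_append.1 hx).elim (hρ x) fun h => by simp at h; exact h ▸ ht)
        (by rw [List.prod_append, List.prod_singleton]
            exact (hρc.mul_right (S_N ht)).trans (by rw [mul_assoc]; exact hc.mul_left s))
      simp only [List.length_append, List.length_singleton] at h2
      omega
    have h1 := ih s τ.prod b hs hτN hb hlτ hge
    have h2 := right_mul_DC ht hsτ (one_mem _) h1
    rw [mul_one, show s * b * τ.prod * t = s * b * (τ.prod * t) by group] at h2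
    have h3 : s * b * (τ.prod * t) ∈ DC P n := by
      rw [show s * b * (τ.prod * t) = s * b * n * ((τ.prod * t)⁻¹ * n)⁻¹ by group]
      exact DC_mul_right (inv_mem (H_le_B hc)) h
    rcases h2 with h2 | h2
    · have h4 := Cong_of_mem hn (mul_mem hsτ (S_N ht)) h3 h2
      have h5 : Cong P (s * n) n :=
        (hc.symm.mul_left s).trans ((by rw [← mul_assoc]; exact h4.symm : Cong P (s * (τ.prod * t)) n))
      refine S_not_H hs ?_
      have h6 : n⁻¹ * s⁻¹ * n ∈ H P := by simpa [Cong, mul_assoc] using h5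
      have h7 := H_conj hn h6
      simp only [← mul_assoc, mul_inv_cancel, one_mul, mul_inv_cancel_right] at h7
      simpa using inv_mem h7
    · have h4 := Cong_of_mem hn hsτ h3 h2
      have := len_congr ((h4.mul_left s).trans (sq_cancel hs hτN))
      omega

/-- If the length drops, s B n meets the double coset of n. -/
theorem exists_left_mul_mem {s n : G} (hs : s ∈ P.S) (hn : n ∈ P.N) (hl : len P (s * n) ≤ len P n) :
    ∃ b ∈ P.B, s * b * n ∈ DC P n := by
  obtain ⟨b, hb, hbs⟩ := exists_flip hs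
  have hc := sq_cancel hs hn
  rcases left_mul_DC hs (mul_mem (S_N hs) hn) (one_mem P.B) (self_mem_DC (s * n)) with h0 | h0
  · -- the product s b s (s n) lies in the double coset of n
    have hm := mul_mem (S_N hs) hn
    have hle : len P (s * n) ≤ len P (s * (s * n)) := by rw [len_congr hc]; exact hl
    obtain ⟨x, hx, y, hy, hxy⟩ := mem_doubleCoset.1 hbs
    have h1 := left_mul_of_le hs hm hy hle
    rw [DC_congr hc] at h1
    have h2 : s * b * s * (s * n) ∈ DC P n := by
      rw [show s * b * s * (s * n) = x * (s * y * (s * n)) by rw [hxy]; group]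
      exact DC_mul_left hx h1
    exact ⟨b * (s * s), mul_mem hb (P.sq_mem s hs),
      by rwa [show s * (b * (s * s)) * n = s * b * s * (s * n) by group]⟩
  · exfalso
    have h1 := Cong_of_mem hn (mul_mem (S_N hs) hn)
      (by rw [DC_congr hc.symm]; simpa using self_mem_DC (P := P) (s * (s * n))) (by simpa using h0)
    refine S_not_H hs ?_
    have h7 := H_conj hn (show n⁻¹ * (s * n) ∈ H P from h1)
    simpa [mul_assoc] using h7

theorem len_mul_ne {s n : G} (hs : s ∈ P.S) (hn : n ∈ P.N) : len P (s * n) ≠ len P n := by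
  intro he
  obtain ⟨b, hb, h⟩ := exists_left_mul_mem hs hn he.le
  have h2 := left_mul_of_le hs hn hb he.ge
  have h1 := Cong_of_mem (mul_mem (S_N hs) hn) hn h2 h
  refine S_not_H hs ?_
  have h6 : n⁻¹ * s⁻¹ * n ∈ H P := by simpa [Cong, mul_assoc] using h1
  have h7 := H_conj hn h6
  simp only [← mul_assoc, mul_inv_cancel, one_mul, mul_inv_cancel_right] at h7
  simpa using inv_mem h7

/-- The exchange condition. -/
theorem exchange {s : G} (hs : s ∈ P.S) : ∀ ω : List G, IsWord P ω → len P ω.prod = ω.length →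
    len P (s * ω.prod) ≤ ω.length →
    ∃ α t β, ω = α ++ t :: β ∧ Cong P (s * ω.prod) (α ++ β).prod := by
  intro ω
  induction ω using List.reverseRecOn with
  | nil =>
    intro _ _ hle
    simp only [List.prod_nil, mul_one, List.length_nil, Nat.le_zero] at hle
    exact absurd (len_eq_zero (S_N hs) hle) (S_not_H hs)
  | append_singleton τ t ih =>
    intro hω hred hle
    have ht : t ∈ P.S := hω t (by simp)
    have hτ : IsWord P τ := fun x hx => hω x (List.mem_append_left _ hx)
    have hτN := word_N hτ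
    have hsτ := mul_mem (S_N hs) hτN
    have hτred : len P τ.prod = τ.length := by
      have h1 := len_le hτ (Cong.refl τ.prod)
      obtain ⟨ρ, hρ, hρl, hρc⟩ := exists_reduced hτN
      have h2 := len_le (n := (τ ++ [t]).prod) (ω := ρ ++ [t])
        (fun x hx => (List.mem_append.1 hx).elim (hρ x) fun h => by simp at h; exact h ▸ ht)
        (by simp only [List.prod_append, List.prod_singleton]; exact hρc.mul_right (S_N ht))
      simp only [List.length_append, List.length_singleton] at h2 hred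
      omega
    by_cases hlt : len P (s * τ.prod) ≤ τ.length
    · obtain ⟨α, u, β, rfl, hc⟩ := ih hτ hτred hlt
      refine ⟨α, u, β ++ [t], by simp, ?_⟩
      have e1 : s * (α ++ u :: β ++ [t]).prod = s * (α ++ u :: β).prod * t := by
        simp [mul_assoc]
      rw [e1, ← List.append_assoc α β, List.prod_append (l₁ := α ++ β), List.prod_singleton]
      exact hc.mul_right (S_N ht)
    · refine ⟨τ, t, [], rfl, ?_⟩
      rw [List.append_nil]
      have hN : (τ ++ [t]).prod ∈ P.N := word_N hω
      obtain ⟨b, hb, h⟩ := exists_left_mul_mem hs hN (by rw [hred]; exact hle)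
      have h1 := left_mul_of_le hs hτN hb (by rw [hτred]; omega)
      have h2 := right_mul_DC ht hsτ (one_mem _) h1
      simp only [List.prod_append, List.prod_singleton] at h hN hle hred ⊢
      rw [mul_one, show s * b * τ.prod * t = s * b * (τ.prod * t) by group] at h2
      rcases h2 with h2 | h2
      · exfalso
        have h4 := Cong_of_mem hN (mul_mem hsτ (S_N ht)) h h2
        refine S_not_H hs ?_
        have h6 : (τ.prod * t)⁻¹ * s * (τ.prod * t) ∈ H P := by simpa [Cong, mul_assoc] using h4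
        have h7 := H_conj hN h6
        simpa [mul_assoc] using h7
      · exact ((Cong_of_mem hN hsτ h h2).mul_left s).trans (sq_cancel hs hτN)

/-- Every word contains a reduced word for the same element. -/
theorem exists_reduced_sub : ∀ {ω : List G}, IsWord P ω →
    ∃ ρ, IsWord P ρ ∧ (∀ x ∈ ρ, x ∈ ω) ∧ Cong P ρ.prod ω.prod ∧ len P ρ.prod = ρ.length
  | [], _ => ⟨[], by simp [IsWord], by simp, Cong.refl _, by simpa using len_of_mem_H (one_mem (H P))⟩
  | s :: ω, h => by
    have hs : s ∈ P.S := h s (List.mem_cons_self)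
    obtain ⟨ρ, hρ, hsub, hc, hred⟩ := exists_reduced_sub (fun x hx => h x (List.mem_cons_of_mem _ hx))
    by_cases hle : len P (s * ρ.prod) ≤ ρ.length
    · obtain ⟨α, t, β, rfl, hx⟩ := exchange hs ρ hρ hred hle
      have hw : IsWord P (α ++ β) := fun x hx => hρ x (by
        rcases List.mem_append.1 hx with h | h <;> simp [h])
      refine ⟨α ++ β, hw, fun x hx => List.mem_cons_of_mem _ (hsub x (by
        rcases List.mem_append.1 hx with h | h <;> simp [h])), ?_, ?_⟩
      · rw [List.prod_cons]; exact hx.symm.trans (hc.mul_left s)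
      · have h1 := len_le hw (Cong.refl _)
        have h2 := len_le_mul hs (word_N hρ)
        rw [len_congr hx, hred] at h2
        simp only [List.length_append, List.length_cons] at h1 h2 ⊢
        omega
    · refine ⟨s :: ρ, fun x hx => (List.mem_cons.1 hx).elim (· ▸ hs) (hρ x), ?_, ?_, ?_⟩
      · intro x hx
        rcases List.mem_cons.1 hx with rfl | hx
        · exact List.mem_cons_self
        · exact List.mem_cons_of_mem _ (hsub x hx)
      · simp only [List.prod_cons]; exact hc.mul_left s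
      · have := len_mul_le hs (word_N hρ)
        simp only [List.prod_cons, List.length_cons]
        omega

theorem len_S {s : G} (hs : s ∈ P.S) : len P s = 1 := by
  have h1 := len_le (n := s) (ω := [s]) (by simpa [IsWord] using hs) (by simp [Cong])
  rcases Nat.eq_zero_or_pos (len P s) with h | h
  · exact absurd (len_eq_zero (S_N hs) h) (S_not_H hs)
  · simp at h1; omega

/-! ### Words over a subset -/

theorem closure_cong_word {J : Set G} (hJ : J ⊆ P.S) {n : G} (hn : n ∈ Subgroup.closure J ⊔ H P) :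
    ∃ ω : List G, IsWord P ω ∧ (∀ x ∈ ω, x ∈ J) ∧ Cong P ω.prod n := by
  rw [← Subgroup.closure_eq (H P), ← Subgroup.closure_union] at hn
  induction hn using Subgroup.closure_induction'' with
  | mem x hx =>
    rcases hx with hx | hx
    · exact ⟨[x], by simpa [IsWord] using hJ hx, by simpa using hx, by simp [Cong]⟩
    · exact ⟨[], by simp [IsWord], by simp, by simpa [Cong] using hx⟩
  | inv_mem x hx =>
    rcases hx with hx | hx
    · exact ⟨[x], by simpa [IsWord] using hJ hx, by simpa using hx, by simpa using S_inv (hJ hx)⟩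
    · exact ⟨[], by simp [IsWord], by simp, by simpa [Cong] using inv_mem (hx : x ∈ H P)⟩
  | one => exact ⟨[], by simp [IsWord], by simp, by simp [Cong]⟩
  | mul x y hx hy h1 h2 =>
    obtain ⟨α, ha, ha', hx'⟩ := h1
    obtain ⟨β, hb, hb', hy'⟩ := h2
    refine ⟨α ++ β, fun s hs => (List.mem_append.1 hs).elim (ha s) (hb s),
      fun s hs => (List.mem_append.1 hs).elim (ha' s) (hb' s), ?_⟩
    rw [List.prod_append]
    exact (hx'.mul_right (word_N hb)).trans (hy'.mul_left x)

theorem closure_le_N {J : Set G} (hJ : J ⊆ P.S) : Subgroup.closure J ≤ P.N :=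
  (Subgroup.closure_le _).2 fun _ hx => S_N (hJ hx)

/-- An element of S in W_J lies in J. -/
theorem mem_of_mem_closure {J : Set G} (hJ : J ⊆ P.S) {s : G} (hs : s ∈ P.S)
    (h : s ∈ Subgroup.closure J ⊔ H P) : s ∈ J := by
  obtain ⟨ω, hω, hωJ, hc⟩ := closure_cong_word hJ h
  obtain ⟨ρ, hρ, hsub, hρc, hred⟩ := exists_reduced_sub hω
  have hc' := hρc.trans hc
  rw [len_congr hc', len_S hs] at hred
  obtain ⟨t, rfl⟩ : ∃ t, ρ = [t] := List.length_eq_one_iff.1 hred.symm
  have ht : t ∈ P.S := hρ t (by simp)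
  rw [List.prod_singleton] at hc'
  exact P.inj t ht s hs (H_le_B hc') ▸ hωJ t (hsub t (by simp))

/-! ### Generation by conjugates of B -/

theorem exists_descent {n : G} (hn : n ∈ P.N) (h : n ∉ H P) :
    ∃ s ∈ P.S, len P (s * n) < len P n := by
  obtain ⟨ω, hω, hlen, hc⟩ := exists_reduced hn
  cases ω with
  | nil => exact absurd (by simpa [Cong] using hc) h
  | cons s τ =>
    have hs : s ∈ P.S := hω s (List.mem_cons_self)
    have hτ : IsWord P τ := fun x hx => hω x (List.mem_cons_of_mem _ hx)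
    refine ⟨s, hs, ?_⟩
    rw [List.prod_cons] at hc
    have h1 := len_congr ((hc.symm.mul_left s).trans (sq_cancel hs (word_N hτ)))
    have h2 := len_le hτ (Cong.refl τ.prod)
    simp only [List.length_cons] at hlen
    omega

/-- A subgroup containing B and nBn⁻¹ contains the letters of any reduced word of n. -/
theorem letters_mem {M : Subgroup G} (hM : P.B ≤ M) :
    ∀ ω : List G, IsWord P ω → len P ω.prod = ω.length →
      (∀ b ∈ P.B, ω.prod * b * ω.prod⁻¹ ∈ M) → ∀ x ∈ ω, x ∈ M
  | [], _, _, _ => by simp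
  | s :: τ, hω, hred, hconj => by
    have hs : s ∈ P.S := hω s (List.mem_cons_self)
    have hτ : IsWord P τ := fun x hx => hω x (List.mem_cons_of_mem _ hx)
    have hτN := word_N hτ
    rw [List.prod_cons, List.length_cons] at hred
    have h1 := len_le hτ (Cong.refl τ.prod)
    have h2 := len_mul_le hs hτN
    have hdrop : len P (s * (s * τ.prod)) ≤ len P (s * τ.prod) := by
      rw [len_congr (sq_cancel hs hτN)]; omega
    obtain ⟨b, hb, hd⟩ := exists_left_mul_mem hs (mul_mem (S_N hs) hτN) hdrop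
    obtain ⟨x, hx, y, hy, he⟩ := mem_doubleCoset.1 hd
    have hc := hconj y hy
    rw [List.prod_cons] at hc
    have hsM : s ∈ M := by
      rw [show s = x * (s * τ.prod * y * (s * τ.prod)⁻¹) * b⁻¹ from
        calc s = s * b * (s * τ.prod) * (s * τ.prod)⁻¹ * b⁻¹ := by group
          _ = _ := by rw [he]; group]
      exact mul_mem (mul_mem (hM hx) hc) (inv_mem (hM hb))
    intro z hz
    rcases List.mem_cons.1 hz with rfl | hz
    · exact hsM
    · refine letters_mem hM τ hτ (by omega) (fun c hc => ?_) z hz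
      have h3 := hconj c hc
      rw [List.prod_cons] at h3
      rw [show τ.prod * c * τ.prod⁻¹ = s⁻¹ * (s * τ.prod * c * (s * τ.prod)⁻¹) * s by group]
      exact mul_mem (mul_mem (inv_mem hsM) h3) hsM

theorem mem_of_conj_le {M : Subgroup G} (hM : P.B ≤ M) {n : G} (hn : n ∈ P.N)
    (hconj : ∀ b ∈ P.B, n * b * n⁻¹ ∈ M) : n ∈ M := by
  obtain ⟨ω, hω, hlen, hc⟩ := exists_reduced hn
  have hl := letters_mem hM ω hω (by rw [len_congr hc, hlen]) (fun b hb => by
    rw [show ω.prod * b * ω.prod⁻¹ = n * ((ω.prod⁻¹ * n)⁻¹ * b * (ω.prod⁻¹ * n)) * n⁻¹ by group]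
    exact hconj _ (mul_mem (mul_mem (inv_mem (H_le_B hc)) hb) (H_le_B hc)))
  rw [show n = ω.prod * (ω.prod⁻¹ * n) by group]
  exact mul_mem (list_prod_mem hl) (hM (H_le_B hc))

/-! ### Parabolic subgroups -/

theorem mem_parabolic {J : Set G} (hJ : J ⊆ P.S) {g : G} :
    g ∈ P.parabolic J ↔ ∃ n ∈ Subgroup.closure J, g ∈ DC P n := by
  constructor
  · intro hg
    suffices h : ∀ g ∈ P.parabolic J, ∀ m ∈ Subgroup.closure J, ∀ y ∈ DC P m,
        ∃ n ∈ Subgroup.closure J, g * y ∈ DC P n by
      simpa using h g hg 1 (one_mem _) 1 (self_mem_DC 1)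
    intro g hg
    rw [BNPair.parabolic, ← Subgroup.closure_eq P.B, ← Subgroup.closure_union] at hg
    have hstep : ∀ s ∈ J, ∀ m ∈ Subgroup.closure J, ∀ y ∈ DC P m,
        ∃ n ∈ Subgroup.closure J, s * y ∈ DC P n := by
      intro s hs m hm y hy
      have h := left_mul_DC (hJ hs) (closure_le_N hJ hm) (one_mem _) hy
      rw [mul_one] at h
      rcases h with h | h
      · exact ⟨s * m, mul_mem (Subgroup.subset_closure hs) hm, h⟩
      · exact ⟨m, hm, h⟩
    induction hg using Subgroup.closure_induction'' with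
    | mem x hx =>
      rcases hx with hx | hx
      · exact fun m hm y hy => ⟨m, hm, DC_mul_left hx hy⟩
      · exact hstep x hx
    | inv_mem x hx =>
      rcases hx with hx | hx
      · exact fun m hm y hy => ⟨m, hm, DC_mul_left (inv_mem hx) hy⟩
      · intro m hm y hy
        obtain ⟨n, hn, h⟩ := hstep x hx m hm y hy
        refine ⟨n, hn, ?_⟩
        rw [show x⁻¹ * y = (x * x)⁻¹ * (x * y) by group]
        exact DC_mul_left (inv_mem (P.sq_mem x (hJ hx))) h
    | one => exact fun m hm y hy => ⟨m, hm, by simpa using hy⟩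
    | mul a b _ _ ha hb =>
      intro m hm y hy
      obtain ⟨n, hn, h⟩ := hb m hm y hy
      obtain ⟨k, hk, h'⟩ := ha n hn _ h
      exact ⟨k, hk, by rwa [mul_assoc]⟩
  · rintro ⟨n, hn, hg⟩
    obtain ⟨x, hx, y, hy, rfl⟩ := mem_doubleCoset.1 hg
    exact mul_mem (mul_mem (Subgroup.mem_sup_left hx) (Subgroup.mem_sup_right hn))
      (Subgroup.mem_sup_left hy)

theorem parabolic_S : P.parabolic P.S = ⊤ := by
  rw [eq_top_iff, ← P.sup_eq_top]
  refine sup_le le_sup_left ?_
  rw [← P.closure_sup]
  exact sup_le le_sup_right (inf_le_left.trans le_sup_left)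

theorem bruhat (g : G) : ∃ n ∈ P.N, g ∈ DC P n := by
  obtain ⟨n, hn, h⟩ := (mem_parabolic (P := P) (J := P.S) subset_rfl (g := g)).1
    (by rw [parabolic_S]; exact Subgroup.mem_top g)
  exact ⟨n, closure_le_N subset_rfl hn, h⟩

theorem S_inter_parabolic {J : Set G} (hJ : J ⊆ P.S) {s : G} (hs : s ∈ P.S) :
    s ∈ P.parabolic J ↔ s ∈ J := by
  refine ⟨fun h => ?_, fun h => Subgroup.mem_sup_right (Subgroup.subset_closure h)⟩
  obtain ⟨n, hn, hsn⟩ := (mem_parabolic hJ).1 h
  have hc := DC_inj (closure_le_N hJ hn) (S_N hs) (DC_eq_of_mem hsn).symm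
  refine mem_of_mem_closure hJ hs ?_
  rw [show s = n * (n⁻¹ * s) by group]
  exact mul_mem (Subgroup.mem_sup_left hn) (Subgroup.mem_sup_right hc)

theorem eq_parabolic {M : Subgroup G} (hM : P.B ≤ M) : M = P.parabolic (P.S ∩ M) := by
  refine le_antisymm (fun g hg => ?_)
    (sup_le hM ((Subgroup.closure_le _).2 Set.inter_subset_right))
  obtain ⟨n, hn, hgn⟩ := bruhat (P := P) g
  obtain ⟨x, hx, y, hy, rfl⟩ := mem_doubleCoset.1 hgn
  have hnM : n ∈ M := by
    rw [show n = x⁻¹ * (x * n * y) * y⁻¹ by group]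
    exact mul_mem (mul_mem (inv_mem (hM hx)) hg) (inv_mem (hM hy))
  obtain ⟨ω, hω, hlen, hc⟩ := exists_reduced hn
  have hωM : ω.prod ∈ M := by
    rw [show ω.prod = n * (ω.prod⁻¹ * n)⁻¹ by group]
    exact mul_mem hnM (inv_mem (hM (H_le_B hc)))
  have hl := letters_mem hM ω hω (by rw [len_congr hc, hlen])
    (fun b hb => mul_mem (mul_mem hωM (hM hb)) (inv_mem hωM))
  refine mul_mem (mul_mem (Subgroup.mem_sup_left hx) ?_) (Subgroup.mem_sup_left hy)
  rw [show n = ω.prod * (ω.prod⁻¹ * n) by group]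
  exact mul_mem (list_prod_mem fun z hz => Subgroup.mem_sup_right
    (Subgroup.subset_closure ⟨hω z hz, hl z hz⟩)) (Subgroup.mem_sup_left (H_le_B hc))

theorem mem_of_conj_B_le {M : Subgroup G} (hM : P.B ≤ M) (g : G)
    (h : ∀ b ∈ P.B, g * b * g⁻¹ ∈ M) : g ∈ M := by
  obtain ⟨n, hn, hgn⟩ := bruhat (P := P) g
  obtain ⟨x, hx, y, hy, rfl⟩ := mem_doubleCoset.1 hgn
  refine mul_mem (mul_mem (hM hx) (mem_of_conj_le hM hn fun b hb => ?_)) (hM hy)
  have h1 := h (y⁻¹ * b * y) (mul_mem (mul_mem (inv_mem hy) hb) hy)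
  rw [show n * b * n⁻¹ = x⁻¹ * (x * n * y * (y⁻¹ * b * y) * (x * n * y)⁻¹) * x by group]
  exact mul_mem (mul_mem (inv_mem (hM hx)) h1) (hM hx)

/-- The simplicity criterion. -/
theorem simple [Nontrivial G] (hirr : P.Irreducible) (hsolv : Group.IsSolvable P.B)
    (hperf : commutator G = ⊤) (hcore : P.B.normalCore = ⊥) : IsSimpleGroup G := by
  refine ⟨fun K hK => ?_⟩
  by_cases hKB : K ≤ P.B
  · left
    rw [eq_bot_iff, ← hcore]
    haveI := hK
    exact Subgroup.normal_le_normalCore.2 hKB
  right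
  haveI := hK
  set M := P.B ⊔ K with hMdef
  set J := P.S ∩ M with hJdef
  have hJ : J ⊆ P.S := Set.inter_subset_left
  have hM : M = P.parabolic J := eq_parabolic le_sup_left
  have hMdec : ∀ y ∈ M, ∃ b ∈ P.B, ∃ k ∈ K, y = b * k := by
    intro y hy
    have hy' : y ∈ ((P.B ⊔ K : Subgroup G) : Set G) := hy
    rw [Subgroup.mul_normal] at hy'
    obtain ⟨b, hb, k, hk, rfl⟩ := Set.mem_mul.1 hy'
    exact ⟨b, hb, k, hk, rfl⟩
  have hJne : J.Nonempty := by
    rw [Set.nonempty_iff_ne_empty]
    intro he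
    rw [he] at hM
    refine hKB fun k hk => ?_
    have : k ∈ P.parabolic ∅ := hM ▸ Subgroup.mem_sup_right hk
    simpa [BNPair.parabolic] using this
  have hall : P.S \ J = ∅ := by
    rw [← Set.not_nonempty_iff_eq_empty]
    intro hne
    obtain ⟨s, hsJ, t, ⟨ht, htJ⟩, hcomm⟩ := hirr J hJ hJne hne
    have hs : s ∈ P.S := hJ hsJ
    have hsN := S_N hs
    have htN := S_N ht
    -- s t is reduced
    have hst : len P (s * t) = 2 := by
      have h1 := len_mul_le hs htN
      have h2 := len_le_mul hs htN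
      rw [len_S ht] at h1 h2
      have h3 := len_mul_ne hs htN
      rw [len_S ht] at h3
      have h4 : len P (s * t) ≠ 0 := by
        intro h0
        have h5 := len_eq_zero (mul_mem hsN htN) h0
        refine htJ (mem_of_mem_closure hJ ht ?_)
        rw [show t = s⁻¹ * (s * t) by group]
        exact mul_mem (Subgroup.mem_sup_left (inv_mem (Subgroup.subset_closure hsJ)))
          (Subgroup.mem_sup_right h5)
      omega
    have hnot : t * (s * t) ∉ M := by
      intro hmem
      have hw : IsWord P [t, s, t] := by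
        intro x hx; simp at hx; rcases hx with rfl | rfl | rfl <;> assumption
      have hpr : [t, s, t].prod = t * (s * t) := by simp
      by_cases hred : len P (t * (s * t)) = 3
      · have hl := letters_mem (M := M) le_sup_left [t, s, t] hw (by rw [hpr, hred]; rfl)
          (fun b hb => by rw [hpr]; exact mul_mem (mul_mem hmem (Subgroup.mem_sup_left hb)) (inv_mem hmem))
        exact htJ ⟨ht, hl t (by simp)⟩
      · have hle : len P (t * [s, t].prod) ≤ [s, t].length := by
          have h1 := len_mul_le ht (mul_mem hsN htN)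
          simp only [List.prod_cons, List.prod_nil, mul_one, List.length_cons, List.length_nil]
          omega
        obtain ⟨α, u, β, hab, hx⟩ := exchange ht [s, t] (fun x hx => hw x (by simp at hx ⊢; tauto))
          (by simpa using hst) hle
        have hcases : (α ++ β = [t]) ∨ (α ++ β = [s]) := by
          rcases α with _ | ⟨a, α⟩
          · simp at hab
            exact Or.inl (by simp [← hab.2])
          · rcases α with _ | ⟨a', α⟩
            · simp at hab
              exact Or.inr (by simp [← hab.1, ← hab.2.2])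
            · exfalso
              have := congrArg List.length hab
              simp at this
        simp only [List.prod_cons, List.prod_nil, mul_one] at hx
        rcases hcases with h | h <;> rw [h, List.prod_singleton] at hx
        · -- t s t ≡ t
          have h1 : Cong P (s * t) 1 := by
            have := (sq_cancel ht (mul_mem hsN htN)).symm.trans (hx.mul_left t)
            exact this.trans (by show (t * t)⁻¹ * 1 ∈ H P; simpa using inv_mem (S_sq ht))
          rw [len_congr h1, len_of_mem_H (one_mem _)] at hst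
          omega
        · -- t s t ≡ s
          refine hcomm ?_
          have h1 : Cong P (s * t) (t * s) :=
            (sq_cancel ht (mul_mem hsN htN)).symm.trans (hx.mul_left t)
          have h2 : Cong P (t * s) (s * t) := h1.symm
          have h3 := H_conj (mul_mem htN hsN) h2
          refine H_le_B ?_
          convert h3 using 1
          group
    -- t s t⁻¹
    obtain ⟨b, hb, k, hk, hsk⟩ := hMdec s hsJ.2
    have hk' : t * k * t⁻¹ ∈ M := Subgroup.mem_sup_right (hK.conj_mem k hk t)
    have hb2 : b * (t * t)⁻¹ ∈ P.B := mul_mem hb (inv_mem (P.sq_mem t ht))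
    have hsplit : t * s * t⁻¹ = t * (b * (t * t)⁻¹) * t * (t * k * t⁻¹) := by rw [hsk]; group
    have hcong : Cong P (t * (s * t)) (t * s * t⁻¹) := by
      rw [← mul_assoc]
      exact (S_inv ht).mul_left (t * s)
    have hM2 : t * s * t⁻¹ ∉ M := by
      intro h
      refine hnot ?_
      rw [show t * (s * t) = t * s * t⁻¹ * ((t * (s * t))⁻¹ * (t * s * t⁻¹))⁻¹ by group]
      exact mul_mem h (inv_mem (Subgroup.mem_sup_left (H_le_B hcong)))
    rcases left_mul ht htN hb2 with hc | hc
    · refine hM2 ?_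
      rw [hsplit]
      exact mul_mem (Subgroup.mem_sup_left ((mem_DC_iff_B (P.sq_mem t ht)).1 hc)) hk'
    · obtain ⟨x, hx, y, hy, he⟩ := mem_doubleCoset.1 hc
      have hy' : y * (t * k * t⁻¹) ∈ P.parabolic J := hM ▸ mul_mem (Subgroup.mem_sup_left hy) hk'
      obtain ⟨v, hv, hyv⟩ := (mem_parabolic hJ).1 hy'
      have hvN := closure_le_N hJ hv
      have hmem : t * s * t⁻¹ ∈ DC P (t * v) ∨ t * s * t⁻¹ ∈ DC P v := by
        rw [hsplit, he, show x * t * y * (t * k * t⁻¹) = x * (t * 1 * (y * (t * k * t⁻¹))) by group]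
        exact (left_mul_DC ht hvN (one_mem _) hyv).imp (DC_mul_left hx) (DC_mul_left hx)
      rcases hmem with h | h
      · have h1 := (DC_inj (mul_mem (mul_mem htN hsN) (inv_mem htN)) (mul_mem htN hvN)
          (DC_eq_of_mem h))
        have h2 : Cong P (s * t⁻¹) v := by simpa [Cong, mul_assoc] using h1
        refine htJ (mem_of_mem_closure hJ ht ?_)
        rw [show t = (v * ((s * t⁻¹)⁻¹ * v)⁻¹)⁻¹ * s by group]
        exact mul_mem (inv_mem (mul_mem (Subgroup.mem_sup_left hv) (inv_mem (Subgroup.mem_sup_right h2))))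
          (Subgroup.mem_sup_left (Subgroup.subset_closure hsJ))
      · refine hM2 ?_
        rw [hM]
        exact (mem_parabolic hJ).2 ⟨v, hv, h⟩
  have hS : P.S ⊆ J := Set.sdiff_eq_empty.1 hall
  have htop : M = ⊤ := by
    rw [eq_top_iff, ← parabolic_S (P := P), hM]
    exact sup_le_sup_left (Subgroup.closure_mono hS) _
  set ψ : P.B →* G ⧸ K := (QuotientGroup.mk' K).comp P.B.subtype with hψ
  have hsurj : Function.Surjective ψ := by
    intro q
    obtain ⟨g, rfl⟩ := QuotientGroup.mk'_surjective K q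
    obtain ⟨b, hb, k, hk, rfl⟩ := hMdec g (htop ▸ Subgroup.mem_top g)
    refine ⟨⟨b, hb⟩, ?_⟩
    simp [hψ, QuotientGroup.eq, hk]
  haveI := hsolv
  obtain ⟨n, hn⟩ := (Group.isSolvable_of_surjective hsurj).solvable
  have hser : ∀ n, derivedSeries (G ⧸ K) n = ⊤ := by
    intro n
    induction n with
    | zero => rfl
    | succ n ih =>
      have hs := QuotientGroup.mk'_surjective K
      rw [derivedSeries_succ, ih, ← Subgroup.map_top_of_surjective _ hs, ← Subgroup.map_commutator,
        ← commutator_def, hperf]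
  rw [hser n] at hn
  rw [eq_top_iff]
  intro g _
  have : QuotientGroup.mk' K g = 1 := Subgroup.mem_bot.1 (hn ▸ Subgroup.mem_top _)
  exact (QuotientGroup.eq_one_iff g).1 this

end Cfsg.Agent.Lie.Tits
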