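import Cfsg.Agent.Lib.Lie.TwistBN

/-!
The (B, N)-pair on a twisted group and the triviality of the core of its Borel subgroup.
-/

set_option autoImplicit false

namespace Cfsg.Agent.Lie

open Cfsg.Lie Matrix
open scoped MatrixGroups

variable {D : ChevalleyDatum} {F : Type*} [Field F] {hF : Facts D}

namespace Facts

/-- Conjugation of root subgroups by a monomial element, downwards. -/
theorem conj_nW_US (hF : Facts D) {a : GL D.Idx F} (ha : a ∈ (hF.tsys F).H) (w : hF.weyl) {L L' : List ℕ}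
    (h : ∀ s ∈ L, ∃ h : s < D.nroots, (w⁻¹ • (⟨s, h⟩ : Fin D.nroots) : Fin D.nroots).val ∈ L')
    {y : GL D.Idx F} (hy : y ∈ (hF.tsys F).US L) :
    (a * (hF.tsys F).nW w)⁻¹ * y * (a * (hF.tsys F).nW w) ∈ (hF.tsys F).US L' := by
  have key : (hF.tsys F).US L ≤
      ((hF.tsys F).US L').comap (MulAut.conj (a * (hF.tsys F).nW w)⁻¹).toMonoidHom := by
    refine CommSys.US_le _ fun s hs t => ?_
    obtain ⟨h1, h2⟩ := h s hs
    obtain ⟨v, hv⟩ := ((hF.tsys F).H_conj_X ha h1 t).2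
    obtain ⟨u, hu⟩ := hF.nW_conj' (F := F) w (w⁻¹ • ⟨s, h1⟩) v
    rw [smul_inv_smul] at hu
    change hF.xg s v = _ at hu
    show (a * (hF.tsys F).nW w)⁻¹ * (hF.tsys F).x s t * (a * (hF.tsys F).nW w)⁻¹⁻¹ ∈ (hF.tsys F).US L'
    rw [inv_inv, show (a * (hF.tsys F).nW w)⁻¹ * (hF.tsys F).x s t * (a * (hF.tsys F).nW w) =
      ((hF.tsys F).nW w)⁻¹ * (a⁻¹ * (hF.tsys F).x s t * a) * (hF.tsys F).nW w by group, hv, hF.tsys_x, hu,
      show ((hF.tsys F).nW w)⁻¹ * ((hF.tsys F).nW w *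
          hF.xg (w⁻¹ • (⟨s, h1⟩ : Fin D.nroots) : Fin D.nroots).val u * ((hF.tsys F).nW w)⁻¹) *
        (hF.tsys F).nW w = hF.xg (w⁻¹ • (⟨s, h1⟩ : Fin D.nroots) : Fin D.nroots).val u by
          simp [mul_assoc], ← hF.tsys_x]
    exact CommSys.x_mem_US _ h2 u
  have hk := key hy
  change (a * (hF.tsys F).nW w)⁻¹ * y * (a * (hF.tsys F).nW w)⁻¹⁻¹ ∈ (hF.tsys F).US L' at hk
  rwa [inv_inv] at hk

end Facts

namespace TwData

variable [Finite F] {T : Twist hF F} {Os : List (List (Fin D.rank))} (X : TwData T Os)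

include X

/-- The sign of the images of an orbit is constant. -/
theorem orbit_sign {ω : List (Fin D.rank)} (hω : ω ∈ Os) {z : hF.weyl} (hz : T.PiFix z) :
    (∀ r, (h : r < D.nroots) → r ∈ orbL D (ω.map Fin.val) → z • (⟨r, h⟩ : Fin D.nroots) ∉ hF.refSys.P) ∨
    (∀ r, (h : r < D.nroots) → r ∈ orbL D (ω.map Fin.val) → z • (⟨r, h⟩ : Fin D.nroots) ∈ hF.refSys.P) := by
  by_cases hc : ∃ i ∈ ω, z • hF.refSys.α i ∉ hF.refSys.P
  · obtain ⟨i, hi, hneg⟩ := hc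
    exact Or.inl (T.orbit_neg X.hOs hω hz hi hneg)
  · refine Or.inr fun r h hr => ?_
    obtain ⟨w0, hw0, hL⟩ := T.exists_longest
    have hflip : ∀ x : Fin D.nroots, x ∈ hF.refSys.P → w0 • x ∉ hF.refSys.P := by
      intro x hx
      have : x.val ∈ TorusSys.invList w0 := by
        rw [hL]; exact Facts.mem_posL.2 ⟨by simpa [Facts.refSys] using hx, x.isLt⟩
      obtain ⟨hh, hi⟩ := TorusSys.mem_invList.1 this
      exact ((RefSystem.mem_inv _).1 hi).2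
    by_cases hω0 : ∃ i, i ∈ ω
    · obtain ⟨i, hi⟩ := hω0
      have hpos : z • hF.refSys.α i ∈ hF.refSys.P := by
        by_contra hn; exact hc ⟨i, hi, hn⟩
      have h1 := T.orbit_neg X.hOs hω (T.piFix_mul hw0 hz) hi (by rw [mul_smul]; exact hflip _ hpos) r h hr
      by_contra hn
      refine h1 ?_
      rw [mul_smul]
      have h2 := hflip _ ((hF.refSys.neg_mem _).2 hn)
      rwa [RefSystem.smul_neg, hF.refSys.neg_mem, not_not] at h2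
    · exfalso
      obtain ⟨j, hj, hjJ, -⟩ := hF.exists_refl_lt_J (nodeSet ω)
        ((T.orbL_iff X.hOs hω h (T.mem_orbL hr).1).1 hr) (T.mem_orbL hr).1
      obtain ⟨i, hi, -⟩ := List.mem_map.1 hjJ
      exact hω0 ⟨i, hi⟩

/-- A representative of an orbit element. -/
noncomputable def nO (ω : {ω : List (Fin D.rank) // ω ∈ Os}) : GL D.Idx F :=
  Classical.choose (X.exists_nO ω.2) * (hF.tsys F).nW (T.wO ω.1)

theorem nO_spec (ω : {ω : List (Fin D.rank) // ω ∈ Os}) :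
    X.nO ω ∈ X.G1 ∧ ∃ a ∈ (hF.tsys F).H, X.nO ω = a * (hF.tsys F).nW (T.wO ω.1) :=
  ⟨(Classical.choose_spec (X.exists_nO ω.2)).2, _, (Classical.choose_spec (X.exists_nO ω.2)).1, rfl⟩

theorem nO_sq (ω : {ω : List (Fin D.rank) // ω ∈ Os}) {c : GL D.Idx F} (hc : c ∈ (hF.tsys F).H) :
    c * (hF.tsys F).nW (T.wO ω.1) * X.nO ω ∈ (hF.tsys F).H := by
  obtain ⟨-, a, ha, he⟩ := X.nO_spec ω
  obtain ⟨e, he', hee⟩ := hF.nW_mul (F := F) (T.wO ω.1) (T.wO ω.1)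
  rw [T.wO_sq X.hOs ω.2] at hee
  rw [he, show c * (hF.tsys F).nW (T.wO ω.1) * (a * (hF.tsys F).nW (T.wO ω.1)) =
    c * ((hF.tsys F).nW (T.wO ω.1) * a * ((hF.tsys F).nW (T.wO ω.1))⁻¹) *
      ((hF.tsys F).nW (T.wO ω.1) * (hF.tsys F).nW (T.wO ω.1)) by group, hee]
  exact mul_mem (mul_mem hc ((hF.tsys F).nW_H ha)) (mul_mem he' (hF.tsys F).nW_one)

theorem nO_mem_N (ω : {ω : List (Fin D.rank) // ω ∈ Os}) : X.nO ω ∈ (hF.tsys F).N := by
  obtain ⟨-, a, ha, he⟩ := X.nO_spec ω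
  rw [he]
  exact mul_mem ((hF.tsys F).H_le_N ha) ((hF.tsys F).nW_mem_N _)

theorem neg_orbit_subgroup {ω : List (Fin D.rank)} (hω : ω ∈ Os) {a : GL D.Idx F}
    (ha : a ∈ (hF.tsys F).H) :
    (∀ x ∈ (hF.tsys F).US (orbL D (ω.map Fin.val)), a * (hF.tsys F).nW (T.wO ω) * x *
      (a * (hF.tsys F).nW (T.wO ω))⁻¹ ∈ (hF.tsys F).US (Twist.negL D ω)) ∧
    (∀ x ∈ (hF.tsys F).US (Twist.negL D ω), (a * (hF.tsys F).nW (T.wO ω))⁻¹ * x *
      (a * (hF.tsys F).nW (T.wO ω)) ∈ (hF.tsys F).US (orbL D (ω.map Fin.val))) := by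
  refine ⟨fun x hx => (T.conj_US X.hOs hω ha (fun s hs => ?_) hx).2,
    fun x hx => (T.conj_US X.hOs hω ha (fun s hs => ?_) hx).1⟩
  · refine ⟨(T.mem_orbL hs).2, ?_⟩
    obtain ⟨-, h2⟩ := T.wO_L X.hOs hω (r := ⟨s, (T.mem_orbL hs).2⟩) hs
    exact List.mem_map.2 ⟨_, h2, hF.neg_neg (Fin.isLt _)⟩
  · obtain ⟨r, hr, rfl⟩ := List.mem_map.1 hs
    refine ⟨hF.neg_lt (T.mem_orbL hr).2, ?_⟩
    obtain ⟨-, h2⟩ := T.wO_L X.hOs hω (r := ⟨r, (T.mem_orbL hr).2⟩) hr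
    have e : (⟨D.neg r, hF.neg_lt (T.mem_orbL hr).2⟩ : Fin D.nroots) =
        hF.refSys.neg ⟨r, (T.mem_orbL hr).2⟩ := rfl
    rw [e, RefSystem.smul_neg]
    exact h2

/-- The double-coset condition. -/
theorem rule (ω : {ω : List (Fin D.rank) // ω ∈ Os}) {b m : GL D.Idx F}
    (hb : b ∈ (hF.tsys F).B) (hbG : b ∈ X.G1) (hm : m ∈ (hF.tsys F).N) (hmG : m ∈ X.G1) :
    ∃ b₁ ∈ (hF.tsys F).B, b₁ ∈ X.G1 ∧ ∃ b₂ ∈ (hF.tsys F).B, b₂ ∈ X.G1 ∧
      (X.nO ω * b * m = b₁ * (X.nO ω * m) * b₂ ∨ X.nO ω * b * m = b₁ * m * b₂) := by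
  classical
  obtain ⟨hnG, a, ha, hne⟩ := X.nO_spec ω
  set n := X.nO ω with hn
  obtain ⟨u, hu, huG, h, hh, hhG, rfl⟩ := X.mem_B1 hb hbG
  obtain ⟨w0, hw0, hw0L⟩ := T.exists_longest
  obtain ⟨i, hi⟩ : ∃ i, i ∈ ω.1 := by
    have h0 := T.orbL_ne_nil X.hOs ω.2
    obtain ⟨r, hr⟩ := List.exists_mem_of_ne_nil _ h0
    obtain ⟨j, hj, hjJ, -⟩ := hF.exists_refl_lt_J (nodeSet ω.1)
      ((T.orbL_iff X.hOs ω.2 (T.mem_orbL hr).2 (T.mem_orbL hr).1).1 hr) (T.mem_orbL hr).1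
    obtain ⟨i, hi, -⟩ := List.mem_map.1 hjJ
    exact ⟨i, hi⟩
  have hneg0 : w0 • hF.refSys.α i ∉ hF.refSys.P := by
    have : D.simple i.val ∈ TorusSys.invList w0 := by
      rw [hw0L]; exact Facts.mem_posL.2 ⟨hF.simple_ge i i.isLt, hF.simple_lt i i.isLt⟩
    obtain ⟨h, hh⟩ := TorusSys.mem_invList.1 this
    exact ((RefSystem.mem_inv _).1 hh).2
  obtain ⟨hq1, hq2, hq3⟩ := T.split X.hOs ω.2 hw0 hi hneg0
  have hww : w0 * T.wO ω.1 * T.wO ω.1 = w0 := by rw [mul_assoc, T.wO_sq X.hOs ω.2, mul_one]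
  have hS : T.SplitHyp ω.1 (w0 * T.wO ω.1) :=
    ⟨hq1, by rw [hww]; exact hw0, by rw [hww]; exact hq2, hq3⟩
  obtain ⟨y, hy, hyf, x, hx, hxf, hue⟩ := hS.fixed T ω.2 X.hOs ha (hne ▸ X.le_fix hnG)
    (g := u) (by rw [hww, hw0L]; exact hu) (X.le_fix huG)
  rw [← hne] at hue
  have hyB : y ∈ (hF.tsys F).B := X.inv_B hy
  have hyG : y ∈ X.G1 := (X.inv_le_card hq1).1 ⟨hy, hyf⟩
  have hxG : x ∈ X.G1 := X.orb_le ω.1 ω.2 ⟨hx, hxf⟩
  have hxU : x ∈ (hF.tsys F).U := CommSys.US_mono _ (fun r hr => Facts.mem_posL.2 (T.mem_orbL hr)) hx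
  set m' := h * m with hm'
  have hm'N : m' ∈ (hF.tsys F).N := mul_mem ((hF.tsys F).H_le_N hh) hm
  have hm'G : m' ∈ X.G1 := mul_mem hhG hmG
  have hgoal : n * (u * h) * m = y * (n * x * m') := by rw [hue, hm']; group
  have hnh : n * h * n⁻¹ ∈ (hF.tsys F).B ∧ n * h * n⁻¹ ∈ X.G1 :=
    ⟨(hF.tsys F).H_le_B ((hF.tsys F).H_normal_in_N (X.nO_mem_N ω) hh), mul_mem (mul_mem hnG hhG) (inv_mem hnG)⟩
  obtain ⟨w, hw, c, hc, hmw⟩ := X.mem_N1 hm'N hm'G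
  rcases X.orbit_sign ω.2 (T.piFix_inv hw) with hneg | hpos
  · by_cases hx1 : x = 1
    · refine ⟨y * (n * h * n⁻¹), mul_mem hyB hnh.1, mul_mem hyG hnh.2, 1, one_mem _, one_mem _, Or.inl ?_⟩
      rw [hgoal, hx1, hm']; group
    · have hv1 : n * x * n⁻¹ ∈ (hF.tsys F).US (Twist.negL D ω.1) := by
        rw [hne]; exact (X.neg_orbit_subgroup ω.2 ha).1 x hx
      have hvG : n * x * n⁻¹ ∈ X.G1 := mul_mem (mul_mem hnG hxG) (inv_mem hnG)
      have hvne : n * x * n⁻¹ ≠ 1 := fun h1 => hx1 (by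
        have := congrArg (fun g => n⁻¹ * g * n) h1
        simpa [mul_assoc] using this)
      obtain ⟨u1, hu1, hu1f, d, hd, -, u2, hu2, hu2f, hve⟩ :=
        T.rank_one X.hOs X.hl ω.2 hv1 (X.le_fix hvG) hvne
      have hu1G := X.orb_le ω.1 ω.2 ⟨hu1, hu1f⟩
      have hu2G := X.orb_le ω.1 ω.2 ⟨hu2, hu2f⟩
      have hn'G : d * (hF.tsys F).nW (T.wO ω.1) ∈ X.G1 := by
        rw [show d * (hF.tsys F).nW (T.wO ω.1) = u1⁻¹ * (n * x * n⁻¹) * u2⁻¹ by rw [hve]; group]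
        exact mul_mem (mul_mem (inv_mem hu1G) hvG) (inv_mem hu2G)
      obtain ⟨e, he, hee⟩ := hF.nW_mul (F := F) (T.wO ω.1) w
      have hnm : n * m' = a * ((hF.tsys F).nW (T.wO ω.1) * c * ((hF.tsys F).nW (T.wO ω.1))⁻¹) * e *
          (hF.tsys F).nW (T.wO ω.1 * w) := by
        rw [mul_assoc _ e, ← hee, hne, hmw]; group
      have hu3 : (n * m')⁻¹ * u2 * (n * m') ∈ (hF.tsys F).U := by
        rw [hnm]
        refine hF.conj_nW_US (mul_mem (mul_mem ha ((hF.tsys F).nW_H hc)) he) _ (fun s hs => ?_) hu2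
        refine ⟨(T.mem_orbL hs).2, ?_⟩
        obtain ⟨h1, h2⟩ := T.wO_L X.hOs ω.2 (r := ⟨s, (T.mem_orbL hs).2⟩) hs
        have h3 := hneg _ (hF.neg_lt (Fin.isLt _)) h2
        change w⁻¹ • hF.refSys.neg _ ∉ hF.refSys.P at h3
        rw [RefSystem.smul_neg, hF.refSys.neg_mem, not_not] at h3
        rw [_root_.mul_inv_rev, mul_smul, inv_eq_of_mul_eq_one_left (T.wO_sq X.hOs ω.2)]
        exact Facts.mem_posL.2 ⟨by simpa [Facts.refSys] using h3, Fin.isLt _⟩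
      have hee' : d * (hF.tsys F).nW (T.wO ω.1) * n * h ∈ (hF.tsys F).H := mul_mem (X.nO_sq ω hd) hh
      refine ⟨y * u1 * (d * (hF.tsys F).nW (T.wO ω.1) * n * h),
        mul_mem (mul_mem hyB ((hF.tsys F).U_le_B (CommSys.US_mono _
          (fun r hr => Facts.mem_posL.2 (T.mem_orbL hr)) hu1))) ((hF.tsys F).H_le_B hee'),
        mul_mem (mul_mem hyG hu1G) (mul_mem (mul_mem hn'G hnG) hhG),
        (n * m')⁻¹ * u2 * (n * m'), (hF.tsys F).U_le_B hu3,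
        mul_mem (mul_mem (inv_mem (mul_mem hnG hm'G)) hu2G) (mul_mem hnG hm'G), Or.inr ?_⟩
      have h1 : n * x = u1 * (d * (hF.tsys F).nW (T.wO ω.1)) * u2 * n := by rw [← hve]; group
      rw [hgoal, h1, hm']; group
  · have hxm : m'⁻¹ * x * m' ∈ (hF.tsys F).U := by
      rw [hmw]
      exact hF.conj_nW_US hc w (fun s hs => ⟨(T.mem_orbL hs).2, Facts.mem_posL.2
        ⟨by simpa [Facts.refSys] using hpos s (T.mem_orbL hs).2 hs, Fin.isLt _⟩⟩) hx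
    refine ⟨y * (n * h * n⁻¹), mul_mem hyB hnh.1, mul_mem hyG hnh.2, m'⁻¹ * x * m',
      (hF.tsys F).U_le_B hxm, mul_mem (mul_mem (inv_mem hm'G) hxG) hm'G, Or.inl ?_⟩
    rw [hgoal, hm']; group

/-- The (B, N)-pair of a twisted group. -/
noncomputable def bnPair : BNPair ↥X.G1 where
  B := (D.borelSubgroup F ⊓ X.G1).subgroupOf X.G1
  N := (D.monomialSubgroup F ⊓ X.G1).subgroupOf X.G1
  S := Set.range fun ω : {ω : List (Fin D.rank) // ω ∈ Os} => (⟨X.nO ω, (X.nO_spec ω).1⟩ : X.G1)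
  sup_eq_top := by
    rw [eq_top_iff]
    rintro ⟨g, hg⟩ -
    obtain ⟨w, hw, u, hu, huG, a, ha, hn, v, hv, hvG, rfl⟩ := X.decomp hg
    have e : (⟨u * (a * (hF.tsys F).nW w) * v, hg⟩ : X.G1) = ⟨u, huG⟩ * ⟨_, hn⟩ * ⟨v, hvG⟩ := rfl
    rw [e]
    refine mul_mem (mul_mem (Subgroup.mem_sup_left ⟨?_, huG⟩) (Subgroup.mem_sup_right ⟨?_, hn⟩))
      (Subgroup.mem_sup_left ⟨?_, hvG⟩)
    · show u ∈ D.borelSubgroup F
      rw [← hF.tsys_B]; exact (hF.tsys F).U_le_B hu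
    · show a * (hF.tsys F).nW w ∈ D.monomialSubgroup F
      rw [← hF.tsys_N]; exact mul_mem ((hF.tsys F).H_le_N ha) ((hF.tsys F).nW_mem_N w)
    · show v ∈ D.borelSubgroup F
      rw [← hF.tsys_B]; exact X.inv_B hv
  conj_mem := by
    rintro n ⟨hn, hnG⟩ t ⟨⟨htB, htG⟩, htN, -⟩
    refine ⟨?_, (n * t * n⁻¹).2⟩
    show (n : GL D.Idx F) * t * (n : GL D.Idx F)⁻¹ ∈ D.borelSubgroup F
    rw [← hF.tsys_B]
    refine (hF.tsys F).H_le_B ((hF.tsys F).H_normal_in_N ?_ (hF.B_inter_N ?_ ?_))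
    · rw [hF.tsys_N]; exact hn
    · rw [hF.tsys_B]; exact htB
    · rw [hF.tsys_N]; exact htN
  subset := by
    rintro _ ⟨ω, rfl⟩
    refine ⟨?_, (X.nO_spec ω).1⟩
    show X.nO ω ∈ D.monomialSubgroup F
    rw [← hF.tsys_N]; exact X.nO_mem_N ω
  sq_mem := by
    rintro _ ⟨ω, rfl⟩
    obtain ⟨hnG, a, ha, he⟩ := X.nO_spec ω
    refine ⟨?_, mul_mem hnG hnG⟩
    show X.nO ω * X.nO ω ∈ D.borelSubgroup F
    rw [← hF.tsys_B]
    have h := X.nO_sq ω ha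
    rw [← he] at h
    exact (hF.tsys F).H_le_B h
  inj := by
    rintro _ ⟨ω, rfl⟩ _ ⟨ω', rfl⟩ ⟨h, -⟩
    obtain ⟨-, a, ha, he⟩ := X.nO_spec ω
    obtain ⟨-, a', ha', he'⟩ := X.nO_spec ω'
    suffices heq : ω = ω' by rw [heq]
    have h' : (X.nO ω)⁻¹ * X.nO ω' ∈ (hF.tsys F).B := by rw [hF.tsys_B]; exact h
    have hH := hF.B_inter_N h' (mul_mem (inv_mem (X.nO_mem_N ω)) (X.nO_mem_N ω'))
    have hc := (hF.tsys F).H_normal_in_N (X.nO_mem_N ω) hH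
    rw [← mul_assoc, mul_inv_cancel, one_mul] at hc
    have hw : T.wO ω.1 = T.wO ω'.1 := hF.nW_eq_of_mul (F := F) (mul_mem hc ha) ha' (by
      rw [mul_assoc, ← he, inv_mul_cancel_right, he'])
    obtain ⟨r, hr⟩ := List.exists_mem_of_ne_nil _ (T.orbL_ne_nil X.hOs ω.2)
    obtain ⟨j, hj, hjJ, -⟩ := hF.exists_refl_lt_J (nodeSet ω.1)
      ((T.orbL_iff X.hOs ω.2 (T.mem_orbL hr).2 (T.mem_orbL hr).1).1 hr) (T.mem_orbL hr).1
    obtain ⟨i, hi, -⟩ := List.mem_map.1 hjJ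
    have hiL := (T.orbL_iff X.hOs ω.2 (hF.simple_lt i i.isLt) (hF.simple_ge i i.isLt)).2
      ((hF.inRootSub_simple (nodeSet ω.1) i.isLt).2 (List.mem_map.2 ⟨i, hi, rfl⟩))
    rw [← T.invList_wO X.hOs ω.2, hw, T.invList_wO X.hOs ω'.2,
      T.orbL_iff X.hOs ω'.2 (hF.simple_lt i i.isLt) (hF.simple_ge i i.isLt),
      hF.inRootSub_simple (nodeSet ω'.1) i.isLt] at hiL
    obtain ⟨k, hk, hki⟩ := List.mem_map.1 hiL
    exact Subtype.ext (T.orbit_unique X.hOs ω.2 ω'.2 hi (Fin.ext hki ▸ hk))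
  closure_sup := by
    apply le_antisymm
    · refine sup_le ((Subgroup.closure_le _).2 ?_) inf_le_right
      rintro _ ⟨ω, rfl⟩
      refine ⟨?_, (X.nO_spec ω).1⟩
      show X.nO ω ∈ D.monomialSubgroup F
      rw [← hF.tsys_N]; exact X.nO_mem_N ω
    · rintro g ⟨hgN, hgG⟩
      obtain ⟨w, hw, a, ha, he⟩ := X.mem_N1 (g := g.1) (by rw [hF.tsys_N]; exact hgN) g.2
      obtain ⟨c, hc, z, hz, hze⟩ : ∃ c ∈ (hF.tsys F).H, ∃ z ∈ Subgroup.closure (Set.range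
          fun ω : {ω : List (Fin D.rank) // ω ∈ Os} => (⟨X.nO ω, (X.nO_spec ω).1⟩ : X.G1)),
          (z : GL D.Idx F) = c * (hF.tsys F).nW w := by
        refine T.piFix_induction X.hOs (P := fun w => ∃ c ∈ (hF.tsys F).H, ∃ z ∈ Subgroup.closure (Set.range
          fun ω : {ω : List (Fin D.rank) // ω ∈ Os} => (⟨X.nO ω, (X.nO_spec ω).1⟩ : X.G1)),
          (z : GL D.Idx F) = c * (hF.tsys F).nW w) ?_ ?_ w hw
        · exact ⟨((hF.tsys F).nW 1)⁻¹, inv_mem (hF.tsys F).nW_one, 1, one_mem _, by simp⟩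
        · rintro ω hω v - - - - ⟨c, hc, z, hz, hze⟩
          obtain ⟨-, b, hb, hbe⟩ := X.nO_spec ⟨ω, hω⟩
          obtain ⟨e, he, hee⟩ := hF.nW_mul (F := F) v (T.wO ω)
          refine ⟨c * ((hF.tsys F).nW v * b * ((hF.tsys F).nW v)⁻¹) * e,
            mul_mem (mul_mem hc ((hF.tsys F).nW_H hb)) he, z * ⟨X.nO ⟨ω, hω⟩, (X.nO_spec _).1⟩,
            mul_mem hz (Subgroup.subset_closure ⟨⟨ω, hω⟩, rfl⟩), ?_⟩
          rw [mul_assoc _ e, ← hee, Subgroup.coe_mul, hze]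
          show c * (hF.tsys F).nW v * X.nO ⟨ω, hω⟩ = _
          rw [hbe]; group
      have hh : a * c⁻¹ ∈ (hF.tsys F).H := mul_mem ha (inv_mem hc)
      have e : g = (g * z⁻¹) * z := by group
      rw [e]
      refine mul_mem (Subgroup.mem_sup_right ?_) (Subgroup.mem_sup_left hz)
      have hv : ((g * z⁻¹ : X.G1) : GL D.Idx F) = a * c⁻¹ := by
        rw [Subgroup.coe_mul, Subgroup.coe_inv, hze, he]; group
      refine ⟨⟨?_, (g * z⁻¹).2⟩, ⟨?_, (g * z⁻¹).2⟩⟩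
      · show ((g * z⁻¹ : X.G1) : GL D.Idx F) ∈ D.borelSubgroup F
        rw [hv, ← hF.tsys_B]; exact (hF.tsys F).H_le_B hh
      · show ((g * z⁻¹ : X.G1) : GL D.Idx F) ∈ D.monomialSubgroup F
        rw [hv, ← hF.tsys_N]; exact (hF.tsys F).H_le_N hh
  mul_mem_union := by
    rintro _ ⟨ω, rfl⟩ n ⟨hn, hnG⟩ b ⟨hb, hbG⟩
    obtain ⟨b₁, h1, h1G, b₂, h2, h2G, h⟩ := X.rule ω (b := b.1) (m := n.1)
      (by rw [hF.tsys_B]; exact hb) b.2 (by rw [hF.tsys_N]; exact hn) n.2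
    rw [hF.tsys_B] at h1 h2
    rcases h with h | h
    · exact Or.inl (DoubleCoset.mem_doubleCoset.2
        ⟨⟨b₁, h1G⟩, ⟨h1, h1G⟩, ⟨b₂, h2G⟩, ⟨h2, h2G⟩, Subtype.ext h⟩)
    · exact Or.inr (DoubleCoset.mem_doubleCoset.2
        ⟨⟨b₁, h1G⟩, ⟨h1, h1G⟩, ⟨b₂, h2G⟩, ⟨h2, h2G⟩, Subtype.ext h⟩)
  conj_ne := by
    rintro _ ⟨ω, rfl⟩ he
    obtain ⟨hnG, a, ha, hne⟩ := X.nO_spec ω
    obtain ⟨v, hv, hv1, hvL⟩ := X.neg_exists ω.1 ω.2
    have hxU : (X.nO ω)⁻¹ * v * X.nO ω ∈ (hF.tsys F).B := by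
      refine (hF.tsys F).U_le_B (CommSys.US_mono _ (L := orbL D (ω.1.map Fin.val))
        (fun r hr => Facts.mem_posL.2 (T.mem_orbL hr)) ?_)
      rw [hne]; exact (X.neg_orbit_subgroup ω.2 ha).2 v hvL
    have hxB : (⟨(X.nO ω)⁻¹ * v * X.nO ω, Subgroup.mul_mem _ (Subgroup.mul_mem _ (Subgroup.inv_mem _ hnG) hv) hnG⟩ : X.G1) ∈
        ((D.borelSubgroup F ⊓ X.G1).subgroupOf X.G1 : Set X.G1) := by
      refine ⟨?_, Subgroup.mul_mem _ (Subgroup.mul_mem _ (Subgroup.inv_mem _ hnG) hv) hnG⟩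
      show (X.nO ω)⁻¹ * v * X.nO ω ∈ D.borelSubgroup F
      rw [← hF.tsys_B]; exact hxU
    have h1 : X.nO ω * ((X.nO ω)⁻¹ * v * X.nO ω) * X.nO ω ∈ D.borelSubgroup F :=
      (he ▸ Set.mem_image_of_mem _ hxB).1
    have h2 := X.nO_sq ω ha
    rw [← hne] at h2
    rw [← hF.tsys_B] at h1
    have h3 := mul_mem h1 (inv_mem ((hF.tsys F).H_le_B h2))
    rw [show X.nO ω * ((X.nO ω)⁻¹ * v * X.nO ω) * X.nO ω * (X.nO ω * X.nO ω)⁻¹ = v by group] at h3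
    exact hv1 (hF.B_inter_V h3 (Twist.negL_le_negUnipotent hvL))

/-- The core of the Borel subgroup is trivial. -/
theorem core_trivial
    (hcoord : ∀ ω ∈ Os, ∀ i ∈ ω, ∃ x ∈ (hF.tsys F).US (orbL D (ω.map Fin.val)), x ∈ T.fix ∧
      ∃ t : ℕ → F, x = (hF.sys F).prodOver (orbL D (ω.map Fin.val)) t ∧ t (D.simple i.val) ≠ 0) :
    ((D.borelSubgroup F ⊓ X.G1).subgroupOf X.G1).normalCore = ⊥ := by
  refine (Subgroup.eq_bot_iff_forall _).2 fun k hk => Subtype.ext ?_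
  set K := ((D.borelSubgroup F ⊓ X.G1).subgroupOf X.G1).normalCore with hK
  have hKB : ∀ g ∈ K, (g : GL D.Idx F) ∈ (hF.tsys F).B := fun g hg => by
    rw [hF.tsys_B]; exact (Subgroup.normalCore_le _ hg).1
  obtain ⟨w0, hw0, hw0L⟩ := T.exists_longest
  have hH : ∀ g ∈ K, (g : GL D.Idx F) ∈ (hF.tsys F).H := by
    intro g hg
    obtain ⟨u, hu, huG, a, ha, haG, he⟩ := X.mem_B1 (hKB g hg) g.2
    obtain ⟨c, hc, hn⟩ := X.exists_rep hw0
    have h1 := hKB _ ((Subgroup.normalCore_normal _).conj_mem g hg ⟨_, hn⟩)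
    set n := c * (hF.tsys F).nW w0 with hn'
    have h2 : n * a * n⁻¹ ∈ (hF.tsys F).H := (hF.tsys F).H_normal_in_N
      (mul_mem ((hF.tsys F).H_le_N hc) ((hF.tsys F).nW_mem_N w0)) ha
    have h3 : n * u * n⁻¹ ∈ (hF.tsys F).B := by
      have h4 := mul_mem h1 (inv_mem ((hF.tsys F).H_le_B h2))
      simp only [Subgroup.coe_mul, Subgroup.coe_inv, he] at h4
      rwa [show n * (u * a) * n⁻¹ * (n * a * n⁻¹)⁻¹ = n * u * n⁻¹ by group] at h4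
    have h5 : (hF.tsys F).nW w0 * u * ((hF.tsys F).nW w0)⁻¹ ∈ (hF.tsys F).B := by
      have := mul_mem (mul_mem (inv_mem ((hF.tsys F).H_le_B hc)) h3) ((hF.tsys F).H_le_B hc)
      rwa [show c⁻¹ * (n * u * n⁻¹) * c = (hF.tsys F).nW w0 * u * ((hF.tsys F).nW w0)⁻¹ by
        rw [hn']; group] at this
    have h6 := hF.B_inter_V h5 (hF.US_invList_conj w0 (by rw [hw0L]; exact hu))
    rw [mul_inv_eq_one, mul_eq_left] at h6
    rw [he, h6, one_mul]; exact ha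
  have hkH := hH k hk
  have hcomm : ∀ x ∈ (hF.tsys F).U, x ∈ T.fix → (k : GL D.Idx F) * x * (k : GL D.Idx F)⁻¹ = x := by
    intro x hx hxf
    have hxG : x ∈ X.G1 := X.U_fix_le ⟨hx, hxf⟩
    have h1 := hH _ (mul_mem hk ((Subgroup.normalCore_normal _).conj_mem k⁻¹ (inv_mem hk) ⟨x, hxG⟩))
    simp only [Subgroup.coe_mul, Subgroup.coe_inv] at h1
    have h2 : (k : GL D.Idx F) * (x * (k : GL D.Idx F)⁻¹ * x⁻¹) ∈ (hF.tsys F).U := by
      rw [← mul_assoc, ← mul_assoc]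
      exact mul_mem ((hF.tsys F).H_conj_US hkH TorusSys.posL_lt hx) (inv_mem hx)
    have h3 := hF.U_inter_H h2 h1
    rw [← mul_assoc, ← mul_assoc, mul_inv_eq_one] at h3
    exact h3
  rw [hF.tsys_H, hF.diagonalSubgroup_eq] at hkH
  obtain ⟨c, hc⟩ := hkH
  rw [Subgroup.coe_one, ← hc, coe_torus_eq_one, hF.torChar_eq_one_iff]
  intro i
  obtain ⟨ω, hω, hi⟩ := T.exists_orbit X.hOs i
  obtain ⟨x, hx, hxf, t, hxt, htne⟩ := hcoord ω hω i hi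
  have h := hcomm x (CommSys.US_mono _ (fun r hr => Facts.mem_posL.2 (T.mem_orbL hr)) hx) hxf
  have hconj : ∀ L : List ℕ, (∀ r ∈ L, r < D.nroots) → ∀ t : ℕ → F,
      torus D F c * (hF.sys F).prodOver L t * (torus D F c)⁻¹ =
        (hF.sys F).prodOver L fun r => (torChar D c r : F) * t r := by
    intro L hL t
    induction L with
    | nil => simp [CommSys.prodOver]
    | cons r L ih =>
      have ih' := ih fun s hs => hL s (List.mem_cons_of_mem _ hs)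
      simp only [CommSys.prodOver, List.map_cons, List.prod_cons] at ih' ⊢
      rw [← ih']
      simp only [Facts.sys_x, ← hF.torus_conj c (hL r List.mem_cons_self)]
      group
  rw [← hc, hxt, hconj _ (fun r hr => (T.mem_orbL hr).2)] at h
  have hcl : ClosedList D (orbL D (ω.map Fin.val)) := by
    rw [← T.invList_wO X.hOs hω]; exact TorusSys.closed_invList _
  have h4 := hF.prodOver_inj hcl h (D.simple i.val)
    ((T.orbL_iff X.hOs hω (hF.simple_lt i i.isLt) (hF.simple_ge i i.isLt)).2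
      ((hF.inRootSub_simple (nodeSet ω) i.isLt).2 (List.mem_map.2 ⟨i, hi, rfl⟩)))
  exact Units.ext (by
    have h5 := mul_right_cancel₀ htne (h4.trans (one_mul _).symm)
    rw [h5, Units.val_one])

end TwData

end Cfsg.Agent.Lie
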