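import Cfsg.Agent.Lib.Lie.TwistU

/-!
The (B, N)-pair of a twisted group, its order and the map to the twisted Weyl group.
-/

set_option autoImplicit false

namespace Cfsg.Agent.Lie

open Cfsg.Lie Matrix
open scoped MatrixGroups

variable {D : ChevalleyDatum} {F : Type*} [Field F] [Finite F] {hF : Facts D}

/-- A subgroup of the fixed group containing the rank one generators. -/
structure TwData (T : Twist hF F) (Os : List (List (Fin D.rank))) where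
  hOs : okOrbits D T.R T.σ Os = true
  hl : ∃ l, okCoeff D l = true
  /-- the twisted group -/
  G1 : Subgroup (GL D.Idx F)
  le_fix : G1 ≤ T.fix
  /-- the size parameter -/
  q : ℕ
  /-- the degree parameter -/
  d : ℕ
  hd : d ≠ 0
  orb_le : ∀ ω ∈ Os, (hF.tsys F).US (orbL D (ω.map Fin.val)) ⊓ T.fix ≤ G1
  orb_card : ∀ ω ∈ Os, Nat.card ↥((hF.tsys F).US (orbL D (ω.map Fin.val)) ⊓ T.fix) ^ d =
    q ^ (orbL D (ω.map Fin.val)).length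
  neg_exists : ∀ ω ∈ Os, ∃ v ∈ G1, v ≠ 1 ∧ v ∈ (hF.tsys F).US (Twist.negL D ω)

namespace TwData

variable {T : Twist hF F} {Os : List (List (Fin D.rank))} (X : TwData T Os)

include X

theorem G1_le : X.G1 ≤ D.group F := fun _ h => (X.le_fix h).1

theorem exists_nO {ω : List (Fin D.rank)} (hω : ω ∈ Os) :
    ∃ a ∈ (hF.tsys F).H, a * (hF.tsys F).nW (T.wO ω) ∈ X.G1 := by
  obtain ⟨v, hv, hne, hvL⟩ := X.neg_exists ω hω
  obtain ⟨u, hu, huf, a, ha, -, u', hu', huf', he⟩ := T.rank_one X.hOs X.hl hω hvL (X.le_fix hv) hne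
  refine ⟨a, ha, ?_⟩
  rw [show a * (hF.tsys F).nW (T.wO ω) = u⁻¹ * v * u'⁻¹ by rw [he]; group]
  exact mul_mem (mul_mem (inv_mem (X.orb_le ω hω ⟨hu, huf⟩)) hv) (inv_mem (X.orb_le ω hω ⟨hu', huf'⟩))

theorem exists_rep {w : hF.weyl} (hw : T.PiFix w) :
    ∃ a ∈ (hF.tsys F).H, a * (hF.tsys F).nW w ∈ X.G1 := by
  refine T.piFix_induction X.hOs (P := fun w => ∃ a ∈ (hF.tsys F).H, a * (hF.tsys F).nW w ∈ X.G1) ?_ ?_ w hw
  · exact ⟨((hF.tsys F).nW 1)⁻¹, inv_mem (hF.tsys F).nW_one, by rw [inv_mul_cancel]; exact one_mem _⟩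
  · rintro ω hω v - - - - ⟨a, ha, hn⟩
    obtain ⟨b, hb, hm⟩ := X.exists_nO hω
    obtain ⟨c, hc, hce⟩ := hF.nW_mul (F := F) v (T.wO ω)
    refine ⟨a * ((hF.tsys F).nW v * b * ((hF.tsys F).nW v)⁻¹) * c,
      mul_mem (mul_mem ha ((hF.tsys F).nW_H hb)) hc, ?_⟩
    rw [mul_assoc _ c, ← hce]
    convert mul_mem hn hm using 1
    group

/-- Fixed elements of the unipotent subgroup of a twisted Weyl element. -/
theorem inv_le_card {w : hF.weyl} (hw : T.PiFix w) :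
    (hF.tsys F).US (TorusSys.invList w) ⊓ T.fix ≤ X.G1 ∧
      Nat.card ↥((hF.tsys F).US (TorusSys.invList w) ⊓ T.fix) ^ X.d = X.q ^ hF.refSys.len w := by
  refine T.piFix_induction X.hOs (P := fun w => (hF.tsys F).US (TorusSys.invList w) ⊓ T.fix ≤ X.G1 ∧
      Nat.card ↥((hF.tsys F).US (TorusSys.invList w) ⊓ T.fix) ^ X.d = X.q ^ hF.refSys.len w) ?_ ?_ w hw
  · have h1 : (hF.tsys F).US (TorusSys.invList (1 : hF.weyl)) ⊓ T.fix = ⊥ := by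
      rw [eq_bot_iff]
      refine inf_le_left.trans (CommSys.US_le _ fun r hr t => ?_)
      obtain ⟨h, hi⟩ := TorusSys.mem_invList.1 hr
      rw [RefSystem.inv_one] at hi
      exact absurd hi (Finset.notMem_empty _)
    rw [h1, RefSystem.len_one]
    exact ⟨bot_le, by simp⟩
  · intro ω hω v hv hv' hlen hpos ⟨ihle, ihcard⟩
    have hS : T.SplitHyp ω v := ⟨hv, hv', hlen, hpos⟩
    obtain ⟨a, ha, hn⟩ := X.exists_nO hω
    set n := a * (hF.tsys F).nW (T.wO ω) with hn'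
    have hnf := X.le_fix hn
    refine ⟨fun g hg => ?_, ?_⟩
    · obtain ⟨y, hy, hyf, x, hx, hxf, rfl⟩ := hS.fixed T hω X.hOs ha hnf hg.1 hg.2
      exact mul_mem (mul_mem (mul_mem (inv_mem hn) (ihle ⟨hy, hyf⟩)) hn) (X.orb_le ω hω ⟨hx, hxf⟩)
    · have hmem : ∀ p : ↥((hF.tsys F).US (TorusSys.invList v) ⊓ T.fix) ×
          ↥((hF.tsys F).US (orbL D (ω.map Fin.val)) ⊓ T.fix),
          n⁻¹ * p.1.1 * n * p.2.1 ∈ (hF.tsys F).US (TorusSys.invList (v * T.wO ω)) ⊓ T.fix := fun p =>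
        ⟨mul_mem (T.conj_US X.hOs hω ha (fun s hs => (hS.wO_inv T hω X.hOs s hs).imp fun _ h => h.1)
            p.1.2.1).1 (CommSys.US_mono _ (hS.L_sub T hω X.hOs) p.2.2.1),
          Subgroup.mul_mem _ (Subgroup.mul_mem _ (Subgroup.mul_mem _ (Subgroup.inv_mem _ hnf) p.1.2.2) hnf) p.2.2.2⟩
      rw [← Nat.card_eq_of_bijective (fun p => (⟨_, hmem p⟩ :
          ↥((hF.tsys F).US (TorusSys.invList (v * T.wO ω)) ⊓ T.fix))) ⟨?_, ?_⟩,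
        Nat.card_prod, mul_pow, ihcard, X.orb_card ω hω, hlen, pow_add]
      · rintro ⟨y, x⟩ ⟨y', x'⟩ h
        have h' : n⁻¹ * y.1 * n * x.1 = n⁻¹ * y'.1 * n * x'.1 := congrArg Subtype.val h
        obtain ⟨p, -, hu⟩ := hS.bij T hω X.hOs ha _ (hmem ⟨y', x'⟩).1
        have e1 := hu (⟨y.1, y.2.1⟩, ⟨x.1, x.2.1⟩) h'
        have e2 := hu (⟨y'.1, y'.2.1⟩, ⟨x'.1, x'.2.1⟩) rfl
        have e := e1.trans e2.symm
        exact Prod.ext (Subtype.ext (congrArg (fun p => p.1.1) e)) (Subtype.ext (congrArg (fun p => p.2.1) e))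
      · rintro ⟨g, hg⟩
        obtain ⟨y, hy, hyf, x, hx, hxf, he⟩ := hS.fixed T hω X.hOs ha hnf hg.1 hg.2
        exact ⟨(⟨y, hy, hyf⟩, ⟨x, hx, hxf⟩), Subtype.ext he.symm⟩

theorem U_fix_le : (hF.tsys F).U ⊓ T.fix ≤ X.G1 := by
  obtain ⟨w, hw, hL⟩ := T.exists_longest
  have := (X.inv_le_card hw).1
  rwa [hL] at this

theorem U_eq : D.posUnipotent F ⊓ X.G1 = (hF.tsys F).U ⊓ T.fix := by
  rw [← hF.tsys_U]
  exact le_antisymm (inf_le_inf_left _ X.le_fix) (le_inf inf_le_left X.U_fix_le)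

theorem card_U : Nat.card ↥(D.posUnipotent F ⊓ X.G1) ^ X.d = X.q ^ (D.nroots / 2) := by
  obtain ⟨w, hw, hL⟩ := T.exists_longest
  have := (X.inv_le_card hw).2
  rw [hL, ← TorusSys.length_invList, hL, hF.length_posL] at this
  rw [X.U_eq]
  exact this

theorem decomp {g : GL D.Idx F} (hg : g ∈ X.G1) :
    ∃ w, T.PiFix w ∧ ∃ u ∈ (hF.tsys F).U, u ∈ X.G1 ∧ ∃ a ∈ (hF.tsys F).H,
      a * (hF.tsys F).nW w ∈ X.G1 ∧ ∃ v ∈ (hF.tsys F).US (TorusSys.invList w), v ∈ X.G1 ∧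
        g = u * (a * (hF.tsys F).nW w) * v := by
  obtain ⟨w, hw, u, hu, huf, a, ha, -, v, hv, hvf, he⟩ := T.fixed_decomp (X.le_fix hg)
  have huG := X.U_fix_le ⟨hu, huf⟩
  have hvG := (X.inv_le_card hw).1 ⟨hv, hvf⟩
  refine ⟨w, hw, u, hu, huG, a, ha, ?_, v, hv, hvG, he⟩
  rw [show a * (hF.tsys F).nW w = u⁻¹ * g * v⁻¹ by rw [he]; group]
  exact mul_mem (mul_mem (inv_mem huG) hg) (inv_mem hvG)

theorem mem_B1 {g : GL D.Idx F} (hg : g ∈ (hF.tsys F).B) (hG : g ∈ X.G1) :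
    ∃ u ∈ (hF.tsys F).U, u ∈ X.G1 ∧ ∃ a ∈ (hF.tsys F).H, a ∈ X.G1 ∧ g = u * a := by
  obtain ⟨u, hu, a, ha, rfl⟩ := (hF.tsys F).mem_B.1 hg
  obtain ⟨hgG, hs⟩ := X.le_fix hG
  have huG := T.US_le_group _ hu
  have haG := T.H_le_group ha
  rw [T.sig_mul _ huG _ haG] at hs
  have h1 : (T.sig u)⁻¹ * u = T.sig a * a⁻¹ := by
    rw [inv_mul_eq_iff_eq_mul, ← mul_assoc, hs, mul_inv_cancel_right]
  have hsu : T.sig u = u := inv_mul_eq_one.1 (hF.U_inter_H (mul_mem (inv_mem (T.sig_U hu)) hu)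
    (h1 ▸ mul_mem (T.sig_H ha) (inv_mem ha)))
  have hu1 := X.U_fix_le ⟨hu, huG, hsu⟩
  exact ⟨u, hu, hu1, a, ha, by simpa using mul_mem (inv_mem hu1) hG, rfl⟩

theorem card_B1 : Nat.card ↥(D.borelSubgroup F ⊓ X.G1) =
    Nat.card ↥(D.posUnipotent F ⊓ X.G1) * Nat.card ↥(D.diagonalSubgroup F ⊓ X.G1) := by
  rw [← hF.tsys_B, ← hF.tsys_U, ← hF.tsys_H, ← Nat.card_prod]
  refine (Nat.card_eq_of_bijective (fun p : ↥((hF.tsys F).U ⊓ X.G1) × ↥((hF.tsys F).H ⊓ X.G1) =>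
    (⟨p.1.1 * p.2.1, mul_mem ((hF.tsys F).U_le_B p.1.2.1) ((hF.tsys F).H_le_B p.2.2.1),
      mul_mem p.1.2.2 p.2.2.2⟩ : ↥((hF.tsys F).B ⊓ X.G1))) ⟨?_, ?_⟩).symm
  · rintro ⟨u, a⟩ ⟨u', a'⟩ h
    have h' : u.1 * a.1 = u'.1 * a'.1 := congrArg Subtype.val h
    have e : u'.1⁻¹ * u.1 = a'.1 * a.1⁻¹ := by
      rw [inv_mul_eq_iff_eq_mul, ← mul_assoc, ← h', mul_inv_cancel_right]
    have hu : u'.1 = u.1 := inv_mul_eq_one.1 (hF.U_inter_H (mul_mem (inv_mem u'.2.1) u.2.1)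
      (e ▸ mul_mem a'.2.1 (inv_mem a.2.1)))
    rw [hu] at h'
    exact Prod.ext (Subtype.ext hu.symm) (Subtype.ext (mul_left_cancel h'))
  · rintro ⟨g, hgB, hgG⟩
    obtain ⟨u, hu, huG, a, ha, haG, rfl⟩ := X.mem_B1 hgB hgG
    exact ⟨(⟨u, hu, huG⟩, ⟨a, ha, haG⟩), rfl⟩

theorem inv_B {w : hF.weyl} {v : GL D.Idx F} (hv : v ∈ (hF.tsys F).US (TorusSys.invList w)) :
    v ∈ (hF.tsys F).B :=
  (hF.tsys F).U_le_B (CommSys.US_mono _
    (fun r hr => Facts.mem_posL.2 ((TorusSys.closed_invList w).mem_pos r hr)) hv)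

/-- The order of the twisted group. -/
theorem card_G1 : Nat.card ↥X.G1 = Nat.card ↥(D.posUnipotent F ⊓ X.G1) *
    Nat.card ↥(D.diagonalSubgroup F ⊓ X.G1) *
      ∑ᶠ w : {w : hF.weyl // T.PiFix w}, Nat.card ↥((hF.tsys F).US (TorusSys.invList w.1) ⊓ T.fix) := by
  classical
  rw [finsum_eq_sum_of_fintype, ← Nat.card_sigma, ← X.card_B1, ← Nat.card_prod]
  choose a ha hn using fun w : {w : hF.weyl // T.PiFix w} => X.exists_rep w.2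
  have hmem : ∀ p : ↥(D.borelSubgroup F ⊓ X.G1) ×
      (Σ w : {w : hF.weyl // T.PiFix w}, ↥((hF.tsys F).US (TorusSys.invList w.1) ⊓ T.fix)),
      p.1.1 * (a p.2.1 * (hF.tsys F).nW p.2.1.1) * p.2.2.1 ∈ X.G1 := fun p =>
    mul_mem (mul_mem p.1.2.2 (hn _)) ((X.inv_le_card p.2.1.2).1 p.2.2.2)
  refine (Nat.card_eq_of_bijective (fun p => (⟨_, hmem p⟩ : X.G1)) ⟨?_, ?_⟩).symm
  · rintro ⟨b, w, v⟩ ⟨b', w', v'⟩ h
    have h' : b.1 * (a w * (hF.tsys F).nW w.1) * v.1 = b'.1 * (a w' * (hF.tsys F).nW w'.1) * v'.1 :=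
      congrArg Subtype.val h
    have hb : ∀ (b : ↥(D.borelSubgroup F ⊓ X.G1)) w, b.1 * a w ∈ (hF.tsys F).B := fun b w =>
      mul_mem (by rw [hF.tsys_B]; exact b.2.1) ((hF.tsys F).H_le_B (ha w))
    obtain ⟨hw, hbe, hv⟩ := hF.bruhat_unique (hb b w) (hb b' w') v.2.1 v'.2.1
      (by simpa [mul_assoc] using h')
    obtain rfl : w = w' := Subtype.ext hw
    obtain rfl : b = b' := Subtype.ext (mul_right_cancel hbe)
    obtain rfl : v = v' := Subtype.ext hv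
    rfl
  · rintro ⟨g, hg⟩
    obtain ⟨w, hw, u, hu, huG, c, hc, hcn, v, hv, hvG, rfl⟩ := X.decomp hg
    refine ⟨(⟨u * (c * (a ⟨w, hw⟩)⁻¹), ?_, ?_⟩, ⟨⟨w, hw⟩, ⟨v, hv, X.le_fix hvG⟩⟩), Subtype.ext ?_⟩
    · rw [← hF.tsys_B]
      exact mul_mem ((hF.tsys F).U_le_B hu) ((hF.tsys F).H_le_B (mul_mem hc (inv_mem (ha _))))
    · refine mul_mem huG ?_
      have := mul_mem hcn (inv_mem (hn ⟨w, hw⟩))
      rwa [_root_.mul_inv_rev, mul_assoc, mul_inv_cancel_left] at this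
    · show u * (c * (a ⟨w, hw⟩)⁻¹) * (a ⟨w, hw⟩ * (hF.tsys F).nW w) * v = _
      group

/-- The twisted Weyl group. -/
def piW (_ : TwData T Os) : Subgroup hF.weyl where
  carrier := {w | T.PiFix w}
  one_mem' := T.piFix_one
  mul_mem' := T.piFix_mul
  inv_mem' := T.piFix_inv

theorem mem_N1 {g : GL D.Idx F} (hN : g ∈ (hF.tsys F).N) (hG : g ∈ X.G1) :
    ∃ w, T.PiFix w ∧ ∃ a ∈ (hF.tsys F).H, g = a * (hF.tsys F).nW w := by
  obtain ⟨b, hb, w, rfl⟩ := (hF.tsys F).mem_N.1 hN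
  obtain ⟨w', hw', u, hu, -, a, ha, -, v, hv, -, he⟩ := X.decomp hG
  obtain ⟨hww, -, -⟩ := hF.bruhat_unique (v := w') ((hF.tsys F).H_le_B hb)
    (mul_mem ((hF.tsys F).U_le_B hu) ((hF.tsys F).H_le_B ha)) (one_mem _) hv
    (by rw [mul_one, he]; group)
  exact ⟨w, hww ▸ hw', b, hb, rfl⟩

/-- N¹ → W¹. -/
theorem exists_N1_hom : ∃ φ : ↥(D.monomialSubgroup F ⊓ X.G1) →* ↥X.piW, Function.Surjective φ ∧
    φ.ker = (D.diagonalSubgroup F ⊓ X.G1).subgroupOf (D.monomialSubgroup F ⊓ X.G1) := by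
  let ι : ↥(D.monomialSubgroup F ⊓ X.G1) →* ↥(D.monomialSubgroup F) := Subgroup.inclusion inf_le_left
  refine ⟨((hF.wHom F).comp ι).codRestrict X.piW fun g => ?_, ?_, ?_⟩
  · obtain ⟨w, hw, a, ha, he⟩ := X.mem_N1 (g := g.1) (by rw [hF.tsys_N]; exact g.2.1) g.2.2
    show T.PiFix (hF.wOf (ι g))
    rw [hF.wOf_eq ha (g := ι g) he]
    exact hw
  · rintro ⟨w, hw⟩
    obtain ⟨a, ha, hn⟩ := X.exists_rep (show T.PiFix w from hw)
    refine ⟨⟨a * (hF.tsys F).nW w, (hF.mem_monomial (F := F)).2 ⟨a, ha, w, rfl⟩, hn⟩, Subtype.ext ?_⟩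
    exact hF.wOf_eq ha rfl
  · rw [MonoidHom.ker_codRestrict, ← MonoidHom.comap_ker, hF.wHom_ker]
    ext g
    simp only [Subgroup.mem_comap, Subgroup.mem_subgroupOf, Subgroup.mem_inf, ι, Subgroup.coe_inclusion]
    exact ⟨fun h => ⟨h, g.2.2⟩, fun h => h.1⟩

theorem H1_normal {n a : GL D.Idx F} (hn : n ∈ (hF.tsys F).N) (hnG : n ∈ X.G1)
    (ha : a ∈ (hF.tsys F).H) (haG : a ∈ X.G1) :
    n * a * n⁻¹ ∈ (hF.tsys F).H ∧ n * a * n⁻¹ ∈ X.G1 :=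
  ⟨(hF.tsys F).H_normal_in_N hn ha, mul_mem (mul_mem hnG haG) (inv_mem hnG)⟩

end TwData

end Cfsg.Agent.Lie
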