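import Cfsg.Agent.Lib.Lie.TwistW
import Cfsg.Agent.Lib.Lie.GroupCard

/-!
Fixed elements of the unipotent subgroups of a twisted group, and rank one elements.
-/

set_option autoImplicit false

namespace Cfsg.Agent.Lie

open Cfsg.Lie Matrix
open scoped MatrixGroups

variable {D : ChevalleyDatum} {F : Type*} [Field F] {hF : Facts D}

namespace Twist

variable (T : Twist hF F) {Os : List (List (Fin D.rank))} (hOs : okOrbits D T.R T.σ Os = true)

/-- The negatives of the roots of an orbit. -/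
def negL (D : ChevalleyDatum) (ω : List (Fin D.rank)) : List ℕ := (orbL D (ω.map Fin.val)).map D.neg

include hOs in
theorem wO_L {ω : List (Fin D.rank)} (hω : ω ∈ Os) {r : Fin D.nroots}
    (hr : r.val ∈ orbL D (ω.map Fin.val)) :
    T.wO ω • r ∉ hF.refSys.P ∧ D.neg (T.wO ω • r : Fin D.nroots).val ∈ orbL D (ω.map Fin.val) := by
  have hrP : r ∈ hF.refSys.P := by simp [Facts.refSys, (T.mem_orbL hr).1]
  have h1 := (T.wO_neg hOs hω hrP).2 hr
  refine ⟨h1, (T.wO_neg hOs hω ((hF.refSys.neg_mem _).2 h1)).1 ?_⟩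
  rw [RefSystem.smul_neg, ← mul_smul, T.wO_sq hOs hω, one_smul, hF.refSys.neg_mem]
  exact fun h => h hrP

include hOs in
theorem conj_X {ω : List (Fin D.rank)} (hω : ω ∈ Os) {a : GL D.Idx F} (ha : a ∈ (hF.tsys F).H)
    (s : Fin D.nroots) (t : F) :
    (∃ u, (a * (hF.tsys F).nW (T.wO ω))⁻¹ * hF.xg s.val t * (a * (hF.tsys F).nW (T.wO ω)) =
      hF.xg (T.wO ω • s : Fin D.nroots).val u) ∧
    ∃ u, (a * (hF.tsys F).nW (T.wO ω)) * hF.xg s.val t * (a * (hF.tsys F).nW (T.wO ω))⁻¹ =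
      hF.xg (T.wO ω • s : Fin D.nroots).val u := by
  constructor
  · obtain ⟨v, hv⟩ := ((hF.tsys F).H_conj_X ha s.isLt t).2
    obtain ⟨u, hu⟩ := hF.nW_conj' (F := F) (T.wO ω) (T.wO ω • s) v
    rw [← mul_smul, T.wO_sq hOs hω, one_smul] at hu
    refine ⟨u, ?_⟩
    calc (a * (hF.tsys F).nW (T.wO ω))⁻¹ * hF.xg s.val t * (a * (hF.tsys F).nW (T.wO ω))
        = ((hF.tsys F).nW (T.wO ω))⁻¹ * (a⁻¹ * hF.xg s.val t * a) * (hF.tsys F).nW (T.wO ω) := by group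
      _ = hF.xg (T.wO ω • s : Fin D.nroots).val u := by
          rw [hF.tsys_x] at hv
          rw [hv, hF.tsys_x, hu]; group
  · obtain ⟨e, -, he⟩ := hF.nW_conj (F := F) (T.wO ω) s
    obtain ⟨u, hu⟩ := ((hF.tsys F).H_conj_X ha (T.wO ω • s : Fin D.nroots).isLt (e * t)).1
    refine ⟨u, ?_⟩
    rw [hF.tsys_x, ← he t, hF.tsys_x] at hu
    rw [← hu]
    group

include hOs in
theorem conj_US {ω : List (Fin D.rank)} (hω : ω ∈ Os) {a : GL D.Idx F} (ha : a ∈ (hF.tsys F).H)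
    {L : List ℕ} {L' : List ℕ} (h : ∀ s, s ∈ L → ∃ h : s < D.nroots, (T.wO ω • (⟨s, h⟩ : Fin D.nroots) : Fin D.nroots).val ∈ L')
    {y : GL D.Idx F} (hy : y ∈ (hF.tsys F).US L) :
    (a * (hF.tsys F).nW (T.wO ω))⁻¹ * y * (a * (hF.tsys F).nW (T.wO ω)) ∈ (hF.tsys F).US L' ∧
    (a * (hF.tsys F).nW (T.wO ω)) * y * (a * (hF.tsys F).nW (T.wO ω))⁻¹ ∈ (hF.tsys F).US L' := by
  set n := a * (hF.tsys F).nW (T.wO ω) with hn
  have key : (hF.tsys F).US L ≤
      ((hF.tsys F).US L').comap (MulAut.conj n⁻¹).toMonoidHom ⊓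
        ((hF.tsys F).US L').comap (MulAut.conj n).toMonoidHom := by
    refine CommSys.US_le _ fun s hs t => ?_
    obtain ⟨h1, h2⟩ := h s hs
    obtain ⟨⟨u, hu⟩, v, hv⟩ := T.conj_X hOs hω ha ⟨s, h1⟩ t
    refine ⟨?_, ?_⟩
    · show n⁻¹ * hF.xg s t * n⁻¹⁻¹ ∈ (hF.tsys F).US L'
      rw [inv_inv, hn, hu, ← hF.tsys_x]
      exact CommSys.x_mem_US _ h2 u
    · show n * hF.xg s t * n⁻¹ ∈ (hF.tsys F).US L'
      rw [hn, hv, ← hF.tsys_x]
      exact CommSys.x_mem_US _ h2 v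
  obtain ⟨h1, h2⟩ := key hy
  exact ⟨by simpa using h1, h2⟩

theorem negL_le_negUnipotent {ω : List (Fin D.rank)} :
    (hF.tsys F).US (negL D ω) ≤ D.negUnipotent F := by
  refine CommSys.US_le _ fun r hr t => ?_
  obtain ⟨s, hs, rfl⟩ := List.mem_map.1 hr
  obtain ⟨h1, h2⟩ := Facts.mem_posL.1 (List.mem_filter.1 hs).1
  exact hF.x_mem_negUnipotent (hF.neg_half_lt h2 h1) t

/-- The hypotheses of the splitting of the unipotent subgroup of v wO. -/
structure SplitHyp (ω : List (Fin D.rank)) (v : hF.weyl) : Prop where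
  pf : T.PiFix v
  pf' : T.PiFix (v * T.wO ω)
  len : hF.refSys.len (v * T.wO ω) = hF.refSys.len v + (orbL D (ω.map Fin.val)).length
  pos : ∀ r, (h : r < D.nroots) → r ∈ orbL D (ω.map Fin.val) → v • (⟨r, h⟩ : Fin D.nroots) ∈ hF.refSys.P

theorem SplitHyp.wO_inv {ω : List (Fin D.rank)} {v : hF.weyl} (hS : T.SplitHyp ω v) (hω : ω ∈ Os)
    (hOs : okOrbits D T.R T.σ Os = true) :
    ∀ s, s ∈ TorusSys.invList v → ∃ h : s < D.nroots,
      (T.wO ω • (⟨s, h⟩ : Fin D.nroots) : Fin D.nroots).val ∈ TorusSys.invList (v * T.wO ω) ∧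
      (T.wO ω • (⟨s, h⟩ : Fin D.nroots) : Fin D.nroots).val ∉ orbL D (ω.map Fin.val) := by
  intro s hs
  obtain ⟨h, hi⟩ := TorusSys.mem_invList.1 hs
  obtain ⟨h1, h2⟩ := (RefSystem.mem_inv _).1 hi
  have hL : s ∉ orbL D (ω.map Fin.val) := fun hm => h2 (hS.pos s h hm)
  obtain ⟨h3, h4⟩ := T.wO_pos hOs hω h1 hL
  refine ⟨h, TorusSys.mem_invList.2 ⟨Fin.isLt _, (RefSystem.mem_inv _).2 ⟨h3, ?_⟩⟩, h4⟩
  rwa [Fin.eta, ← mul_smul, mul_assoc, T.wO_sq hOs hω, mul_one]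

theorem SplitHyp.L_sub {ω : List (Fin D.rank)} {v : hF.weyl} (hS : T.SplitHyp ω v) (hω : ω ∈ Os)
    (hOs : okOrbits D T.R T.σ Os = true) :
    ∀ r ∈ orbL D (ω.map Fin.val), r ∈ TorusSys.invList (v * T.wO ω) := by
  intro r hr
  have h := (T.mem_orbL hr).2
  refine TorusSys.mem_invList.2 ⟨h, (RefSystem.mem_inv _).2
    ⟨by simp [Facts.refSys, (T.mem_orbL hr).1], ?_⟩⟩
  obtain ⟨h1, h2⟩ := T.wO_L hOs hω (r := ⟨r, h⟩) hr
  have h3 := hS.pos _ (hF.neg_lt (Fin.isLt _)) h2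
  change v • hF.refSys.neg _ ∈ hF.refSys.P at h3
  rw [RefSystem.smul_neg, hF.refSys.neg_mem] at h3
  rwa [mul_smul]

variable [Finite F]

/-- Unique splitting of the unipotent subgroup of v wO. -/
theorem SplitHyp.bij {ω : List (Fin D.rank)} {v : hF.weyl} (hS : T.SplitHyp ω v) (hω : ω ∈ Os)
    (hOs : okOrbits D T.R T.σ Os = true) {a : GL D.Idx F} (ha : a ∈ (hF.tsys F).H) :
    ∀ g ∈ (hF.tsys F).US (TorusSys.invList (v * T.wO ω)),
      ∃! p : (hF.tsys F).US (TorusSys.invList v) × (hF.tsys F).US (orbL D (ω.map Fin.val)),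
        (a * (hF.tsys F).nW (T.wO ω))⁻¹ * p.1.1 * (a * (hF.tsys F).nW (T.wO ω)) * p.2.1 = g := by
  classical
  set n := a * (hF.tsys F).nW (T.wO ω) with hn
  have hmem : ∀ p : (hF.tsys F).US (TorusSys.invList v) × (hF.tsys F).US (orbL D (ω.map Fin.val)),
      n⁻¹ * p.1.1 * n * p.2.1 ∈ (hF.tsys F).US (TorusSys.invList (v * T.wO ω)) := fun p =>
    mul_mem (T.conj_US hOs hω ha (fun s hs => (hS.wO_inv T hω hOs s hs).imp fun _ h => h.1) p.1.2).1
      (CommSys.US_mono _ (hS.L_sub T hω hOs) p.2.2)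
  let f := fun p => (⟨_, hmem p⟩ : (hF.tsys F).US (TorusSys.invList (v * T.wO ω)))
  have hinj : Function.Injective f := by
    rintro ⟨y, x⟩ ⟨y', x'⟩ h
    have h' : n⁻¹ * y.1 * n * x.1 = n⁻¹ * y'.1 * n * x'.1 := congrArg Subtype.val h
    have e : y'.1⁻¹ * y.1 = n * (x'.1 * x.1⁻¹) * n⁻¹ := by
      have : y.1 = y'.1 * n * x'.1 * x.1⁻¹ * n⁻¹ := by
        calc y.1 = n * (n⁻¹ * y.1 * n * x.1) * x.1⁻¹ * n⁻¹ := by group
          _ = _ := by rw [h']; group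
      rw [this]; group
    have hV : n * (x'.1 * x.1⁻¹) * n⁻¹ ∈ D.negUnipotent F :=
      negL_le_negUnipotent (T.conj_US hOs hω ha (L' := negL D ω) (fun s hs => ⟨(T.mem_orbL hs).2, by
        obtain ⟨-, h2⟩ := T.wO_L hOs hω (r := ⟨s, (T.mem_orbL hs).2⟩) hs
        exact List.mem_map.2 ⟨_, h2, hF.neg_neg (Fin.isLt _)⟩⟩)
        (mul_mem x'.2 (inv_mem x.2))).2
    have hB : y'.1⁻¹ * y.1 ∈ (hF.tsys F).B := (hF.tsys F).U_le_B
      (CommSys.US_mono _ (fun r hr => Facts.mem_posL.2 ((TorusSys.closed_invList v).mem_pos r hr))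
        (mul_mem (inv_mem y'.2) y.2))
    have hy : y'.1 = y.1 := inv_mul_eq_one.1 (hF.B_inter_V hB (e ▸ hV))
    rw [hy] at h'
    exact Prod.ext (Subtype.ext hy.symm) (Subtype.ext (mul_left_cancel h'))
  have hcard : Nat.card ((hF.tsys F).US (TorusSys.invList v) × (hF.tsys F).US (orbL D (ω.map Fin.val))) =
      Nat.card ((hF.tsys F).US (TorusSys.invList (v * T.wO ω))) := by
    rw [Nat.card_prod, hF.card_US (TorusSys.closed_invList v), ← T.invList_wO hOs hω,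
      hF.card_US (TorusSys.closed_invList _), hF.card_US (TorusSys.closed_invList _), ← pow_add,
      TorusSys.length_invList, TorusSys.length_invList, TorusSys.length_invList, hS.len,
      ← TorusSys.length_invList (T.wO ω), T.invList_wO hOs hω]
  have hbij : Function.Bijective f := (Nat.bijective_iff_injective_and_card f).2 ⟨hinj, hcard⟩
  intro g hg
  obtain ⟨p, hp⟩ := hbij.2 ⟨g, hg⟩
  exact ⟨p, congrArg Subtype.val hp, fun p' hp' => hinj (Subtype.ext (hp'.trans (congrArg Subtype.val hp).symm))⟩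

theorem sig_invList {w : hF.weyl} (hw : T.PiFix w) {y : GL D.Idx F}
    (hy : y ∈ (hF.tsys F).US (TorusSys.invList w)) : T.sig y ∈ (hF.tsys F).US (TorusSys.invList w) := by
  have := T.sig_US (fun r hr => T.img_invList w hr) hy
  rwa [(T.piFix_iff w).1 hw] at this

/-- A fixed element splits into fixed parts. -/
theorem SplitHyp.fixed {ω : List (Fin D.rank)} {v : hF.weyl} (hS : T.SplitHyp ω v) (hω : ω ∈ Os)
    (hOs : okOrbits D T.R T.σ Os = true) {a : GL D.Idx F} (ha : a ∈ (hF.tsys F).H)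
    (hn : a * (hF.tsys F).nW (T.wO ω) ∈ T.fix)
    {g : GL D.Idx F} (hg : g ∈ (hF.tsys F).US (TorusSys.invList (v * T.wO ω))) (hgf : g ∈ T.fix) :
    ∃ y ∈ (hF.tsys F).US (TorusSys.invList v), y ∈ T.fix ∧
      ∃ x ∈ (hF.tsys F).US (orbL D (ω.map Fin.val)), x ∈ T.fix ∧
        g = (a * (hF.tsys F).nW (T.wO ω))⁻¹ * y * (a * (hF.tsys F).nW (T.wO ω)) * x := by
  obtain ⟨⟨y, x⟩, hp, huniq⟩ := hS.bij T hω hOs ha g hg
  set n := a * (hF.tsys F).nW (T.wO ω) with hn'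
  have hyG := T.US_le_group _ y.2
  have hxG := T.US_le_group _ x.2
  have hx' : T.sig x.1 ∈ (hF.tsys F).US (orbL D (ω.map Fin.val)) := by
    have key : ∀ z, z ∈ (hF.tsys F).US (TorusSys.invList (T.wO ω)) →
        T.sig z ∈ (hF.tsys F).US (TorusSys.invList (T.wO ω)) := fun z hz =>
      T.sig_invList (T.piFix_wO hOs hω) hz
    rw [T.invList_wO hOs hω] at key
    exact key _ x.2
  have hs : n⁻¹ * T.sig y.1 * n * T.sig x.1 = g := by
    conv_rhs => rw [← hgf.2, ← hp]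
    rw [T.sig_mul _ (mul_mem (mul_mem (inv_mem hn.1) hyG) hn.1) _ hxG,
      T.sig_mul _ (mul_mem (inv_mem hn.1) hyG) _ hn.1, T.sig_mul _ (inv_mem hn.1) _ hyG,
      T.sig_inv hn.1, hn.2]
  have hpe := huniq (⟨T.sig y.1, T.sig_invList hS.pf y.2⟩, ⟨T.sig x.1, hx'⟩) hs
  exact ⟨y, y.2, ⟨hyG, congrArg (fun p => p.1.1) hpe⟩, x, x.2, ⟨hxG, congrArg (fun p => p.2.1) hpe⟩, hp.symm⟩

include hOs in
/-- A fixed element of a negative orbit subgroup lies in the cell of the orbit element. -/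
theorem rank_one (hl : ∃ l, okCoeff D l = true) {ω : List (Fin D.rank)} (hω : ω ∈ Os)
    {v : GL D.Idx F} (hv : v ∈ (hF.tsys F).US (negL D ω)) (hvf : v ∈ T.fix) (hne : v ≠ 1) :
    ∃ u ∈ (hF.tsys F).US (orbL D (ω.map Fin.val)), u ∈ T.fix ∧ ∃ a ∈ (hF.tsys F).H,
      a * (hF.tsys F).nW (T.wO ω) ∈ T.fix ∧
      ∃ u' ∈ (hF.tsys F).US (orbL D (ω.map Fin.val)), u' ∈ T.fix ∧
        v = u * (a * (hF.tsys F).nW (T.wO ω)) * u' := by
  classical
  obtain ⟨l, hl⟩ := hl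
  obtain ⟨w, hw, u, hu, huf, a, ha, hnf, x, hx, hxf, he⟩ := T.fixed_decomp hvf
  set J := nodeSet ω with hJ
  have hxL : ∀ r ∈ orbL D (ω.map Fin.val), D.InRootSub J r := fun r hr =>
    (T.orbL_iff hOs hω (T.mem_orbL hr).2 (T.mem_orbL hr).1).1 hr
  have hLlevi : (hF.tsys F).US (orbL D (ω.map Fin.val)) ≤ D.leviSubgroup F J :=
    CommSys.US_le _ fun r hr t => Subgroup.mem_sup_right (Subgroup.subset_closure ⟨r, t, hxL r hr, rfl⟩)
  have hvlevi : v ∈ D.leviSubgroup F J := by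
    refine CommSys.US_le _ (fun r hr t => ?_) hv
    obtain ⟨s, hs, rfl⟩ := List.mem_map.1 hr
    exact Subgroup.mem_sup_right (Subgroup.subset_closure ⟨_, t, hF.inRootSub_neg J (hxL s hs), rfl⟩)
  have hHlevi : (hF.tsys F).H ≤ D.leviSubgroup F J := by rw [hF.tsys_H]; exact le_sup_left
  have hleviP : D.leviSubgroup F J ≤ D.parabolicSubgroup F J := by
    rw [← hF.rad_sup_levi hl]; exact le_sup_right
  have hBP : (hF.tsys F).B ≤ D.parabolicSubgroup F J := by rw [hF.tsys_B]; exact le_sup_left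
  have hxB : x ∈ (hF.tsys F).B := (hF.tsys F).U_le_B
    (CommSys.US_mono _ (fun r hr => Facts.mem_posL.2 ((TorusSys.closed_invList w).mem_pos r hr)) hx)
  have hnW : (hF.tsys F).nW w ∈ D.parabolicSubgroup F J := by
    have : (hF.tsys F).nW w = a⁻¹ * (u⁻¹ * v * x⁻¹) := by rw [he]; group
    rw [this]
    exact mul_mem (hBP ((hF.tsys F).H_le_B (inv_mem ha))) (mul_mem (mul_mem
      (hBP ((hF.tsys F).U_le_B (inv_mem hu))) (hleviP hvlevi)) (hBP (inv_mem hxB)))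
  have hinv : ∀ r ∈ TorusSys.invList w, r ∈ orbL D (ω.map Fin.val) := by
    intro r hr
    obtain ⟨h, hi⟩ := TorusSys.mem_invList.1 hr
    obtain ⟨h1, h2⟩ := (RefSystem.mem_inv _).1 hi
    have h1' : D.nroots / 2 ≤ r := by simpa [Facts.refSys] using h1
    refine (T.orbL_iff hOs hω h h1').2 ?_
    by_contra hc
    have hx1 : hF.xg r (1 : F) ∈ D.unipotentRadical F J := by
      rw [hF.unipotentRadical_eq]
      exact CommSys.x_mem_US _ ((Facts.mem_radL J).2 ⟨h1', h, hc⟩) 1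
    have h3 := (Subgroup.mem_normalizer_iff.1 (hF.parabolic_normalizes hl J hnW) _).1 hx1
    obtain ⟨e, he', heq⟩ := hF.nW_conj (F := F) w ⟨r, h⟩
    rw [heq] at h3
    have hB : hF.xg (w • (⟨r, h⟩ : Fin D.nroots) : Fin D.nroots).val (e * 1) ∈ (hF.tsys F).B := by
      rw [hF.unipotentRadical_eq] at h3
      exact (hF.tsys F).U_le_B (CommSys.US_mono _
        (fun r hr => Facts.mem_posL.2 ⟨((Facts.mem_radL J).1 hr).1, ((Facts.mem_radL J).1 hr).2.1⟩) h3)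
    have h4 := congrArg Units.val (hF.B_inter_V hB
      (hF.x_mem_negUnipotent (by simpa [Facts.refSys] using h2) _))
    rw [Facts.coe_xg, Units.val_one, hF.x_eq_one _ (Fin.isLt _), mul_one] at h4
    rw [h4, mul_zero] at he'
    exact zero_ne_one he'
  have hw1 : w ≠ 1 := by
    rintro rfl
    refine hne (hF.B_inter_V ?_ (negL_le_negUnipotent hv))
    rw [he]
    exact mul_mem (mul_mem ((hF.tsys F).U_le_B hu)
      ((hF.tsys F).H_le_B (mul_mem ha (hF.tsys F).nW_one))) hxB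
  obtain ⟨i, hi⟩ := exists_descent hw1
  have hiL : D.simple i.val ∈ orbL D (ω.map Fin.val) :=
    hinv _ (TorusSys.mem_invList.2 ⟨hF.simple_lt i.val i.isLt,
      (RefSystem.mem_inv _).2 ⟨hF.refSys.α_mem i, hi⟩⟩)
  have hiω : i ∈ ω := by
    have := (hF.inRootSub_simple J i.isLt).1 (hxL _ hiL)
    obtain ⟨j, hj, hji⟩ := List.mem_map.1 this
    exact Fin.ext hji ▸ hj
  obtain ⟨hp1, hp2, hp3⟩ := T.split hOs hω hw hiω hi
  have hweq : w = T.wO ω := by
    have hlen : hF.refSys.len w ≤ (orbL D (ω.map Fin.val)).length := by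
      rw [← TorusSys.length_invList]
      exact (List.subperm_of_subset (hF.closedList_posL.sorted.nodup.filter _) hinv).length_le
    have h0 : w * T.wO ω = 1 := hF.refSys.eq_one_of_len_eq_zero (by omega)
    rw [← mul_one w, ← T.wO_sq hOs hω, ← mul_assoc, h0, one_mul]
  subst hweq
  rw [T.invList_wO hOs hω] at hx
  have hnlevi : a * (hF.tsys F).nW (T.wO ω) ∈ D.leviSubgroup F J := by
    refine mul_mem (hHlevi ha) ?_
    obtain ⟨c, hc, hce⟩ := (hF.tsys F).nw_eq (ω := ω) (w := T.wO ω) rfl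
    rw [show (hF.tsys F).nW (T.wO ω) = c⁻¹ * (hF.tsys F).nw ω by rw [hce, inv_mul_cancel_left]]
    refine mul_mem (hHlevi (inv_mem hc)) (Subgroup.list_prod_mem _ fun g hg => ?_)
    obtain ⟨j, hj, rfl⟩ := List.mem_map.1 hg
    have hjJ : D.InRootSub J (D.simple j.val) :=
      (hF.inRootSub_simple J j.isLt).2 (List.mem_map.2 ⟨j, hj, rfl⟩)
    rw [hF.tsys_nS, hF.ng_eq]
    refine mul_mem (mul_mem ?_ ?_) ?_ <;>
      exact Subgroup.mem_sup_right (Subgroup.subset_closure ⟨_, _, by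
        first | exact hjJ | exact hF.inRootSub_neg J hjJ, rfl⟩)
  have hulevi : u ∈ D.leviSubgroup F J := by
    rw [show u = v * x⁻¹ * (a * (hF.tsys F).nW (T.wO ω))⁻¹ by rw [he]; group]
    exact mul_mem (mul_mem hvlevi (inv_mem (hLlevi hx))) (inv_mem hnlevi)
  obtain ⟨w0, hw0, hw0L⟩ := T.exists_longest
  have hneg0 : w0 • hF.refSys.α i ∉ hF.refSys.P := by
    have : D.simple i.val ∈ TorusSys.invList w0 := by
      rw [hw0L]; exact Facts.mem_posL.2 ⟨hF.simple_ge i i.isLt, hF.simple_lt i i.isLt⟩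
    obtain ⟨h, hh⟩ := TorusSys.mem_invList.1 this
    exact ((RefSystem.mem_inv _).1 hh).2
  obtain ⟨hq1, hq2, hq3⟩ := T.split hOs hω hw0 hiω hneg0
  have hww : w0 * T.wO ω * T.wO ω = w0 := by rw [mul_assoc, T.wO_sq hOs hω, mul_one]
  have hS : T.SplitHyp ω (w0 * T.wO ω) := ⟨hq1, by rw [hww]; exact hw0, by rw [hww]; exact hq2, hq3⟩
  have hu' : u ∈ (hF.tsys F).US (TorusSys.invList (w0 * T.wO ω * T.wO ω)) := by
    rw [hww, hw0L]; exact hu
  obtain ⟨⟨y, x'⟩, hp, -⟩ := hS.bij T hω hOs ha u hu'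
  have hrad : (a * (hF.tsys F).nW (T.wO ω))⁻¹ * y.1 * (a * (hF.tsys F).nW (T.wO ω)) ∈
      D.unipotentRadical F J := by
    rw [hF.unipotentRadical_eq]
    refine (T.conj_US hOs hω ha (fun s hs => ?_) y.2).1
    obtain ⟨h, h1, h2⟩ := hS.wO_inv T hω hOs s hs
    obtain ⟨h3, h4⟩ := (TorusSys.closed_invList _).mem_pos _ h1
    exact ⟨h, (Facts.mem_radL J).2 ⟨h3, h4, fun hc => h2 ((T.orbL_iff hOs hω h4 h3).2 hc)⟩⟩
  have h1 : (a * (hF.tsys F).nW (T.wO ω))⁻¹ * y.1 * (a * (hF.tsys F).nW (T.wO ω)) = 1 := by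
    have := hF.rad_inf_levi (F := F) hl J
    rw [Subgroup.eq_bot_iff_forall] at this
    refine this _ ⟨hrad, ?_⟩
    rw [show (a * (hF.tsys F).nW (T.wO ω))⁻¹ * y.1 * (a * (hF.tsys F).nW (T.wO ω)) = u * x'.1⁻¹ by
      rw [← hp]; group]
    exact Subgroup.mul_mem _ hulevi (Subgroup.inv_mem _ (hLlevi x'.2))
  have huL : u ∈ (hF.tsys F).US (orbL D (ω.map Fin.val)) := by
    rw [← hp, h1, one_mul]; exact x'.2
  exact ⟨u, huL, huf, a, ha, hnf, x, hx, hxf, he⟩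

end Twist

end Cfsg.Agent.Lie
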