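import Cfsg.Agent.Lib.Lie.BruhatAux
import Cfsg.Prelude.Def_LieExceptional

/-!
The (B, N)-pair of a Chevalley group.
-/

set_option autoImplicit false

namespace Cfsg.Agent.Lie

open Cfsg.Lie Matrix
open scoped MatrixGroups

variable {D : ChevalleyDatum} {F : Type*} [Field F]

namespace Facts

variable (hF : Facts D)

include hF in
theorem wS_inj {i j : Fin D.rank} (h : hF.wS i = hF.wS j) : i = j := by
  by_contra hne
  have h1 : hF.refSys.α i ≠ hF.refSys.α j := by
    intro h'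
    have h'' : D.simple i.val = D.simple j.val := congrArg Fin.val h'
    have e1 := hF.co_simple i.val i.isLt i.val i.isLt
    have e2 := hF.co_simple j.val j.isLt i.val i.isLt
    rw [h''] at e1
    rw [e1, if_pos rfl, if_neg (fun h => hne (Fin.ext h))] at e2
    exact one_ne_zero e2
  have h2 := hF.refSys.perm j _ (hF.refSys.α_mem i) h1
  rw [show hF.refSys.s j = hF.refSys.s i from h.symm, hF.refSys.s_α, hF.refSys.neg_mem] at h2
  exact h2 (hF.refSys.α_mem i)

theorem nS_eq_nW (i : Fin D.rank) :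
    ∃ a ∈ (hF.tsys F).H, (hF.tsys F).nS i = a * (hF.tsys F).nW (hF.wS i) := by
  obtain ⟨a, ha, h⟩ := (hF.tsys F).nw_eq (ω := [i]) (w := hF.wS i) (RefSystem.pr_singleton _ i)
  exact ⟨a, ha, by rw [← h, TorusSys.nw_singleton]⟩

theorem nS_not_mem_B (i : Fin D.rank) : (hF.tsys F).nS i ∉ (hF.tsys F).B := by
  intro h
  obtain ⟨a, ha, he⟩ := hF.nS_eq_nW (F := F) i
  have hw : (hF.tsys F).nW (hF.wS i) ∈ (hF.tsys F).B := by
    rw [show (hF.tsys F).nW (hF.wS i) = a⁻¹ * (hF.tsys F).nS i by rw [he]; group]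
    exact mul_mem (inv_mem ((hF.tsys F).H_le_B ha)) h
  have h1 := hF.hsep _ hw
  have h2 : hF.refSys.s i • hF.refSys.α i = hF.refSys.α i := by
    rw [show hF.refSys.s i = (1 : hF.weyl) from h1, one_smul]
  rw [hF.refSys.s_α] at h2
  exact (hF.refSys.neg_mem (hF.refSys.α i)).1 (by rw [h2]; exact hF.refSys.α_mem i) (hF.refSys.α_mem i)

/-- The double-coset condition for elements of N. -/
theorem nS_mul_N (i : Fin D.rank) {b n : GL D.Idx F} (hb : b ∈ (hF.tsys F).B)
    (hn : n ∈ (hF.tsys F).N) :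
    ∃ b₁ ∈ (hF.tsys F).B, ∃ b₂ ∈ (hF.tsys F).B,
      ((hF.tsys F).nS i * b * n = b₁ * ((hF.tsys F).nS i * n) * b₂ ∨
        (hF.tsys F).nS i * b * n = b₁ * n * b₂) := by
  obtain ⟨a, ha, w, rfl⟩ := (hF.tsys F).mem_N.1 hn
  have hba : b * a ∈ (hF.tsys F).B := mul_mem hb ((hF.tsys F).H_le_B ha)
  rcases (hF.tsys F).nS_mul_mem i hba w with ⟨b₁, h1, b₂, h2, h⟩ | ⟨b₁, h1, b₂, h2, h, -⟩
  · obtain ⟨c, hc, hce⟩ := (hF.tsys F).nS_nW i w
    refine ⟨b₁ * c⁻¹ * ((hF.tsys F).nS i * a * ((hF.tsys F).nS i)⁻¹)⁻¹,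
      mul_mem (mul_mem h1 (inv_mem ((hF.tsys F).H_le_B hc)))
        (inv_mem ((hF.tsys F).H_le_B ((hF.tsys F).nS_H i ha))), b₂, h2, Or.inl ?_⟩
    calc (hF.tsys F).nS i * b * (a * (hF.tsys F).nW w)
        = b₁ * (hF.tsys F).nW (hF.wS i * w) * b₂ := by rw [← h]; group
      _ = b₁ * c⁻¹ * ((hF.tsys F).nS i * (hF.tsys F).nW w) * b₂ := by rw [hce]; group
      _ = _ := by group
  · refine ⟨b₁ * a⁻¹, mul_mem h1 (inv_mem ((hF.tsys F).H_le_B ha)), b₂, h2, Or.inr ?_⟩
    calc (hF.tsys F).nS i * b * (a * (hF.tsys F).nW w)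
        = b₁ * (hF.tsys F).nW w * b₂ := by rw [← h]; group
      _ = _ := by group

theorem nS_mem_group (i : Fin D.rank) : (hF.tsys F).nS i ∈ D.group F :=
  hF.monomial_le_group (by rw [← hF.tsys_N]; exact (hF.tsys F).nS_mem_N i)

/-- The (B, N)-pair. -/
noncomputable def bnPair (F : Type*) [Field F] : BNPair ↥(D.group F) where
  B := (D.borelSubgroup F).subgroupOf (D.group F)
  N := (D.monomialSubgroup F).subgroupOf (D.group F)
  S := Set.range fun i : Fin D.rank => (⟨(hF.tsys F).nS i, hF.nS_mem_group i⟩ : D.group F)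
  sup_eq_top := by
    rw [← Subgroup.subgroupOf_sup hF.borel_le_group hF.monomial_le_group, hF.borel_sup_monomial,
      Subgroup.subgroupOf_self]
  conj_mem n hn t ht := by
    obtain ⟨htB, htN⟩ := ht
    simp only [Subgroup.mem_subgroupOf, Subgroup.coe_mul, Subgroup.coe_inv] at hn ⊢
    rw [← hF.tsys_B]
    rw [← hF.tsys_N] at hn
    refine (hF.tsys F).H_le_B ((hF.tsys F).H_normal_in_N hn (hF.B_inter_N ?_ ?_))
    · rw [hF.tsys_B]; exact htB
    · rw [hF.tsys_N]; exact htN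
  subset := by
    rintro _ ⟨i, rfl⟩
    show (hF.tsys F).nS i ∈ D.monomialSubgroup F
    rw [← hF.tsys_N]; exact (hF.tsys F).nS_mem_N i
  sq_mem := by
    rintro _ ⟨i, rfl⟩
    show (hF.tsys F).nS i * (hF.tsys F).nS i ∈ D.borelSubgroup F
    rw [← hF.tsys_B]; exact (hF.tsys F).H_le_B ((hF.tsys F).nS_sq_mem i)
  inj := by
    rintro _ ⟨i, rfl⟩ _ ⟨j, rfl⟩ h
    suffices hij : i = j by rw [hij]
    have h' : ((hF.tsys F).nS i)⁻¹ * (hF.tsys F).nS j ∈ (hF.tsys F).B := by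
      rw [hF.tsys_B]; exact h
    obtain ⟨a, ha, hae⟩ := hF.nS_eq_nW (F := F) i
    obtain ⟨b, hb, hbe⟩ := hF.nS_eq_nW (F := F) j
    have hH := hF.B_inter_N h' (mul_mem (inv_mem ((hF.tsys F).nS_mem_N i)) ((hF.tsys F).nS_mem_N j))
    have hc : (hF.tsys F).nS j * ((hF.tsys F).nS i)⁻¹ ∈ (hF.tsys F).H := by
      have := (hF.tsys F).nS_H i hH
      rwa [← mul_assoc, mul_inv_cancel, one_mul] at this
    refine hF.wS_inj (hF.nW_eq_of_mul (F := F)
      (mul_mem hc ha) hb ?_)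
    rw [← hbe, mul_assoc, ← hae, inv_mul_cancel_right]
  closure_sup := by
    apply le_antisymm
    · refine sup_le ((Subgroup.closure_le _).2 ?_) inf_le_right
      rintro _ ⟨i, rfl⟩
      show (hF.tsys F).nS i ∈ D.monomialSubgroup F
      rw [← hF.tsys_N]; exact (hF.tsys F).nS_mem_N i
    · intro g hg
      have hg' : (g : GL D.Idx F) ∈ (hF.tsys F).N := by rw [hF.tsys_N]; exact hg
      obtain ⟨a, ha, w, hgw⟩ := (hF.tsys F).mem_N.1 hg'
      have haG : a ∈ D.group F := hF.monomial_le_group (by rw [← hF.tsys_N]; exact (hF.tsys F).H_le_N ha)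
      have key : ∀ ω : List (Fin D.rank), ∀ h : (hF.tsys F).nw ω ∈ D.group F,
          (⟨(hF.tsys F).nw ω, h⟩ : D.group F) ∈ Subgroup.closure (Set.range fun i : Fin D.rank =>
            (⟨(hF.tsys F).nS i, hF.nS_mem_group i⟩ : D.group F)) := by
        intro ω
        induction ω with
        | nil =>
          intro h
          have : (⟨(hF.tsys F).nw [], h⟩ : D.group F) = 1 := Subtype.ext (hF.tsys F).nw_nil
          rw [this]; exact one_mem _
        | cons i ω ih =>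
          intro h
          have hω : (hF.tsys F).nw ω ∈ D.group F :=
            hF.monomial_le_group (by rw [← hF.tsys_N]; exact (hF.tsys F).nw_mem_N ω)
          have : (⟨(hF.tsys F).nw (i :: ω), h⟩ : D.group F) =
              ⟨(hF.tsys F).nS i, hF.nS_mem_group i⟩ * ⟨(hF.tsys F).nw ω, hω⟩ :=
            Subtype.ext ((hF.tsys F).nw_cons i ω)
          rw [this]
          exact mul_mem (Subgroup.subset_closure ⟨i, rfl⟩) (ih hω)
      have hwG : (hF.tsys F).nW w ∈ D.group F :=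
        hF.monomial_le_group (by rw [← hF.tsys_N]; exact (hF.tsys F).nW_mem_N w)
      rw [show g = ⟨a, haG⟩ * ⟨(hF.tsys F).nW w, hwG⟩ from Subtype.ext hgw]
      refine mul_mem (Subgroup.mem_sup_right ⟨?_, ?_⟩) (Subgroup.mem_sup_left (key _ hwG))
      · show a ∈ D.borelSubgroup F
        rw [← hF.tsys_B]; exact (hF.tsys F).H_le_B ha
      · show a ∈ D.monomialSubgroup F
        rw [← hF.tsys_N]; exact (hF.tsys F).H_le_N ha
  mul_mem_union := by
    rintro _ ⟨i, rfl⟩ n hn b hb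
    have hn' : (n : GL D.Idx F) ∈ (hF.tsys F).N := by rw [hF.tsys_N]; exact hn
    have hb' : (b : GL D.Idx F) ∈ (hF.tsys F).B := by rw [hF.tsys_B]; exact hb
    obtain ⟨b₁, h1, b₂, h2, h⟩ := hF.nS_mul_N i hb' hn'
    rw [hF.tsys_B] at h1 h2
    have g1 : b₁ ∈ D.group F := hF.borel_le_group h1
    have g2 : b₂ ∈ D.group F := hF.borel_le_group h2
    rcases h with h | h
    · exact Or.inl (DoubleCoset.mem_doubleCoset.2
        ⟨⟨b₁, g1⟩, h1, ⟨b₂, g2⟩, h2, Subtype.ext h⟩)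
    · exact Or.inr (DoubleCoset.mem_doubleCoset.2
        ⟨⟨b₁, g1⟩, h1, ⟨b₂, g2⟩, h2, Subtype.ext h⟩)
  conj_ne := by
    rintro _ ⟨i, rfl⟩ he
    have hα := hF.simple_lt i.val i.isLt
    have hx : hF.xg (D.simple i.val) (1 : F) ∈ (hF.tsys F).B :=
      (hF.tsys F).U_le_B ((hF.tsys F).x_mem_U (hF.simple_ge i.val i.isLt) hα 1)
    have hxB : (⟨hF.xg (D.simple i.val) (1 : F), hF.xg_mem_group _ _⟩ : D.group F) ∈
        (((D.borelSubgroup F).subgroupOf (D.group F) : Subgroup (D.group F)) : Set (D.group F)) := by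
      show hF.xg (D.simple i.val) (1 : F) ∈ D.borelSubgroup F
      rw [← hF.tsys_B]; exact hx
    have h1 : (hF.tsys F).nS i * hF.xg (D.simple i.val) (1 : F) * (hF.tsys F).nS i ∈ (hF.tsys F).B := by
      rw [hF.tsys_B]
      have := he ▸ Set.mem_image_of_mem _ hxB
      exact this
    have h2 := mul_mem h1 (inv_mem ((hF.tsys F).H_le_B ((hF.tsys F).nS_sq_mem i)))
    rw [show (hF.tsys F).nS i * hF.xg (D.simple i.val) (1 : F) * (hF.tsys F).nS i *
      ((hF.tsys F).nS i * (hF.tsys F).nS i)⁻¹ =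
        (hF.tsys F).nS i * (hF.tsys F).x (D.simple i.val) (1 : F) * ((hF.tsys F).nS i)⁻¹ by
          rw [hF.tsys_x]; group, (hF.tsys F).nS_conj i hα, Facts.refl_simple, hF.tsys_x] at h2
    have hneg : D.neg (D.simple i.val) < D.nroots / 2 := by
      have := hF.neg_eq _ hα
      have := hF.simple_ge i.val i.isLt
      have := hF.even
      omega
    have h3 := congrArg Units.val (hF.B_inter_V h2 (hF.x_mem_negUnipotent hneg _))
    rw [coe_xg, Units.val_one, hF.x_eq_one _ (hF.neg_lt hα), mul_one] at h3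
    exact left_ne_zero_of_mul_eq_one (hF.sgn_mul_self i.isLt hα) h3

end Facts

end Cfsg.Agent.Lie
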