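import Cfsg.Agent.Lib.Lie.Steinberg
import Cfsg.Agent.Lib.Lie.AllFacts
import Cfsg.Agent.Lib.Lie.FieldFix

/-!
Endomorphisms of Chevalley groups induced by maps of roots with signs and exponents
(graph automorphisms).
-/

set_option autoImplicit false

namespace Cfsg.Agent.Lie

open Cfsg.Lie Matrix
open scoped MatrixGroups

/-- A map of roots with a sign and an exponent at each root. -/
structure RMap where
  /-- images -/
  pi : List ℕ
  /-- signs -/
  sg : List ℤ
  /-- exponents -/
  ex : List ℕ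

namespace RMap

variable (R : RMap)

/-- The image root. -/
def img (r : ℕ) : ℕ := R.pi.getD r r
/-- The sign. -/
def sign (r : ℕ) : ℤ := R.sg.getD r 1
/-- The exponent. -/
def expo (r : ℕ) : ℕ := R.ex.getD r 1

/-- Terms of the commutator word which are nonzero mod p. -/
def liveTerms (D : ChevalleyDatum) (p r s : ℕ) : List (ℕ × ℤ × ℕ × ℕ) :=
  (D.commTerms r s).filter fun c => c.2.1 % (p : ℤ) != 0

/-- Images of the terms. -/
def srcTerms (D : ChevalleyDatum) (p r s : ℕ) : List (ℕ × ℤ × ℕ × ℕ) :=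
  (liveTerms D p r s).map fun c =>
    (R.img c.1, R.sign c.1 * c.2.1 ^ R.expo c.1 * (-1) ^ (c.2.2.1 * R.expo c.1) % (p : ℤ),
      c.2.2.1 * R.expo c.1, c.2.2.2 * R.expo c.1)

/-- Terms of the image pair. -/
def tgtTerms (D : ChevalleyDatum) (p r s : ℕ) : List (ℕ × ℤ × ℕ × ℕ) :=
  (liveTerms D p (R.img r) (R.img s)).map fun c =>
    (c.1, c.2.1 * R.sign r ^ c.2.2.1 * R.sign s ^ c.2.2.2 * (-1) ^ c.2.2.1 % (p : ℤ),
      c.2.2.1 * R.expo r, c.2.2.2 * R.expo s)

/-- Pairwise commuting terms. -/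
def commuting (D : ChevalleyDatum) (p : ℕ) : List (ℕ × ℤ × ℕ × ℕ) → Bool
  | [] => true
  | a :: l => (l.all fun b => b.1 == a.1 ||
      (decide (a.1 < D.nroots) && decide (b.1 < D.nroots) && b.1 != D.neg a.1 &&
        (liveTerms D p a.1 b.1).isEmpty)) && commuting D p l

/-- The local conditions. -/
def okMap (D : ChevalleyDatum) (p : ℕ) : Bool :=
  (List.range D.nroots).all fun r =>
    decide (R.img r < D.nroots) && R.img (D.neg r) == D.neg (R.img r) && R.sign (D.neg r) == R.sign r &&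
    R.expo (D.neg r) == R.expo r && (R.sign r).natAbs == 1 && (R.expo r == 1 || (R.expo r == p && p != 0)) &&
    (List.range D.nroots).all fun s => s == r || s == D.neg r ||
      (R.img s != R.img r && R.img s != D.neg (R.img r) &&
        (R.srcTerms D p r s == R.tgtTerms D p r s ||
          ((R.srcTerms D p r s).isPerm (R.tgtTerms D p r s) && commuting D p (R.srcTerms D p r s))))

/-- Iterates: image, sign, exponent. -/
def iter : ℕ → ℕ → ℕ × ℤ × ℕ
  | 0, r => (r, 1, 1)
  | n + 1, r =>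
    let a := iter n r
    (R.img a.1, R.sign a.1 * a.2.1 ^ R.expo a.1, a.2.2 * R.expo a.1)

/-- Some iterate is a power of the Frobenius map. -/
def okOrder (D : ChevalleyDatum) (p N q : ℕ) : Bool :=
  decide (1 ≤ N) &&
  (List.range D.nroots).all fun r =>
    (R.iter N r).1 == r && ((R.iter N r).2.1 - 1) % (p : ℤ) == 0 && (R.iter N r).2.2 == q

/-- The fundamental roots and their negatives go to the given nodes without signs. -/
def okNodes (D : ChevalleyDatum) (σ : List ℕ) : Bool :=
  (List.range D.rank).all fun i =>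
    R.img (D.simple i) == D.simple (σ.getD i 0) && R.img (D.neg (D.simple i)) == D.neg (D.simple (σ.getD i 0)) &&
    R.sign (D.simple i) == 1 && R.sign (D.neg (D.simple i)) == 1

theorem okNodes_spec {D : ChevalleyDatum} {σ : List ℕ} (h : R.okNodes D σ = true) {i : ℕ} (hi : i < D.rank) :
    R.img (D.simple i) = D.simple (σ.getD i 0) ∧ R.img (D.neg (D.simple i)) = D.neg (D.simple (σ.getD i 0)) ∧
      R.sign (D.simple i) = 1 ∧ R.sign (D.neg (D.simple i)) = 1 := by
  simp only [okNodes, List.all_eq_true, List.mem_range, Bool.and_eq_true, beq_iff_eq] at h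
  obtain ⟨⟨⟨a, b⟩, c⟩, d⟩ := h i hi
  exact ⟨a, b, c, d⟩

end RMap

theorem list_prod_filter {α M : Type*} [Monoid M] (g : α → M) (p : α → Bool) :
    ∀ L : List α, (∀ a ∈ L, p a = false → g a = 1) → (L.map g).prod = ((L.filter p).map g).prod := by
  intro L
  induction L with
  | nil => simp
  | cons a L ih =>
    intro h
    have ih' := ih fun b hb => h b (List.mem_cons_of_mem _ hb)
    by_cases ha : p a = true
    · rw [List.filter_cons_of_pos ha, List.map_cons, List.map_cons, List.prod_cons, List.prod_cons, ih']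
    · rw [Bool.not_eq_true] at ha
      rw [List.filter_cons_of_neg (by simp [ha]), List.map_cons, List.prod_cons, h a List.mem_cons_self ha,
        one_mul, ih']

/-- The field is compatible with the modulus p. -/
structure ModField (F : Type*) [Field F] (p : ℕ) : Prop where
  cast : ∀ n : ℤ, (p : ℤ) ∣ n → (n : F) = 0
  frob : p ≠ 0 → ∀ a b : F, (a + b) ^ p = a ^ p + b ^ p
  perfect : p ≠ 0 → ∀ a : F, ∃ b, b ^ p = a

theorem modField_zero (F : Type*) [Field F] : ModField F 0 :=
  ⟨fun n h => by rw [Nat.cast_zero, zero_dvd_iff] at h; simp [h], fun h => absurd rfl h,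
    fun h => absurd rfl h⟩

theorem modField_prime (F : Type*) [Field F] (p : ℕ) [CharP F p] [Fact p.Prime]
    (h : ∀ a : F, ∃ b, b ^ p = a) : ModField F p :=
  ⟨fun n hn => (CharP.intCast_eq_zero_iff F p n).2 hn, fun _ a b => add_pow_char a b p, fun _ => h⟩

variable {D : ChevalleyDatum} {F : Type*} [Field F]

theorem ModField.castMod {p : ℕ} (hm : ModField F p) (x : ℤ) : ((x % (p : ℤ) : ℤ) : F) = (x : F) := by
  rw [← sub_eq_zero, ← Int.cast_sub]
  exact hm.cast _ (dvd_sub_comm.1 (Int.dvd_self_sub_emod))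

theorem sign_cast_sq {x : ℤ} (h : x.natAbs = 1) : (x : F) * (x : F) = 1 := by
  rcases Int.natAbs_eq x with he | he <;> rw [he, h] <;> simp

namespace Facts

variable (hF : Facts D) (R : RMap)

/-- The image of a generator. -/
noncomputable def imgX (r : ℕ) (t : F) : GL D.Idx F :=
  if r < D.nroots then hF.xg (R.img r) ((R.sign r : F) * t ^ R.expo r) else 1

theorem imgX_lt {r : ℕ} (hr : r < D.nroots) (t : F) :
    hF.imgX R r t = hF.xg (R.img r) ((R.sign r : F) * t ^ R.expo r) := if_pos hr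

variable {R} {p : ℕ}

theorem okMap_root (h : R.okMap D p = true) {r : ℕ} (hr : r < D.nroots) :
    R.img r < D.nroots ∧ R.img (D.neg r) = D.neg (R.img r) ∧ R.sign (D.neg r) = R.sign r ∧
      R.expo (D.neg r) = R.expo r ∧ (R.sign r).natAbs = 1 ∧ (R.expo r = 1 ∨ (R.expo r = p ∧ p ≠ 0)) := by
  simp only [RMap.okMap, List.all_eq_true, List.mem_range, Bool.and_eq_true, decide_eq_true_eq,
    beq_iff_eq, Bool.or_eq_true, bne_iff_ne] at h
  obtain ⟨⟨⟨⟨⟨⟨h1, h2⟩, h3⟩, h4⟩, h5⟩, h6⟩, -⟩ := h r hr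
  exact ⟨h1, h2, h3, h4, h5, h6⟩

theorem okMap_pair (h : R.okMap D p = true) {r s : ℕ} (hr : r < D.nroots) (hs : s < D.nroots)
    (h1 : s ≠ r) (h2 : s ≠ D.neg r) :
    R.img s ≠ R.img r ∧ R.img s ≠ D.neg (R.img r) ∧
      (R.srcTerms D p r s = R.tgtTerms D p r s ∨
        ((R.srcTerms D p r s).Perm (R.tgtTerms D p r s) ∧ RMap.commuting D p (R.srcTerms D p r s) = true)) := by
  simp only [RMap.okMap, List.all_eq_true, List.mem_range, Bool.and_eq_true, decide_eq_true_eq,
    beq_iff_eq, Bool.or_eq_true, bne_iff_ne, List.isPerm_iff] at h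
  obtain ⟨-, h'⟩ := h r hr
  rcases h' s hs with (h' | h') | ⟨⟨a, b⟩, c⟩
  · exact absurd h' h1
  · exact absurd h' h2
  · exact ⟨a, b, c⟩

variable (hm : ModField F p) (hok : R.okMap D p = true)

include hm hok in
theorem expo_add {r : ℕ} (hr : r < D.nroots) (a b : F) :
    (a + b) ^ R.expo r = a ^ R.expo r + b ^ R.expo r := by
  obtain ⟨-, -, -, -, -, he⟩ := okMap_root hok hr
  rcases he with he | ⟨he, hp⟩
  · rw [he, pow_one, pow_one, pow_one]
  · rw [he]; exact hm.frob hp a b

include hok in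
theorem expo_pos {r : ℕ} (hr : r < D.nroots) : R.expo r ≠ 0 := by
  obtain ⟨-, -, -, -, -, he⟩ := okMap_root hok hr
  rcases he with he | ⟨he, hp⟩ <;> omega

include hm hok in
theorem expo_neg {r : ℕ} (hr : r < D.nroots) (a : F) : (-a) ^ R.expo r = -a ^ R.expo r := by
  have h := expo_add hm hok hr a (-a)
  rw [add_neg_cancel, zero_pow (expo_pos hok hr)] at h
  exact (neg_eq_of_add_eq_zero_right h.symm).symm

/-- A word of terms. -/
noncomputable def tProd (t u : F) (L : List (ℕ × ℤ × ℕ × ℕ)) : GL D.Idx F :=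
  (L.map fun c => hF.xg c.1 ((c.2.1 : F) * t ^ c.2.2.1 * u ^ c.2.2.2)).prod

theorem tProd_perm {t u : F} {L L' : List (ℕ × ℤ × ℕ × ℕ)} (hm : ModField F p) (hperm : L.Perm L')
    (hc : RMap.commuting D p L = true) : hF.tProd t u L = hF.tProd t u L' := by
  refine List.Perm.prod_eq' (hperm.map _) ?_
  have key : ∀ L : List (ℕ × ℤ × ℕ × ℕ), RMap.commuting D p L = true →
      (L.map fun c => hF.xg c.1 ((c.2.1 : F) * t ^ c.2.2.1 * u ^ c.2.2.2)).Pairwise Commute := by
    intro L
    induction L with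
    | nil => simp
    | cons a L ih =>
      intro h
      simp only [RMap.commuting, Bool.and_eq_true, List.all_eq_true, Bool.or_eq_true, beq_iff_eq,
        decide_eq_true_eq, bne_iff_ne, List.isEmpty_iff] at h
      rw [List.map_cons, List.pairwise_cons]
      refine ⟨fun g hg => ?_, ih h.2⟩
      obtain ⟨b, hb, rfl⟩ := List.mem_map.1 hg
      rcases h.1 b hb with heq | ⟨⟨⟨ha, hb'⟩, hne⟩, hempty⟩
      · show _ * _ = _ * _
        rw [heq, ← xg_add, ← xg_add, add_comm]
      · show _ * _ = _ * _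
        by_cases hab : b.1 = a.1
        · rw [hab, ← xg_add, ← xg_add, add_comm]
        have hcm := (hF.sys F).x_comm a.1 b.1 ha hb' hab hne ((a.2.1 : F) * t ^ a.2.2.1 * u ^ a.2.2.2)
          ((b.2.1 : F) * t ^ b.2.2.1 * u ^ b.2.2.2)
        simp only [sys_x] at hcm
        rw [ChevalleyDatum.commWord, List.map_map,
          list_prod_filter _ (fun c => c.2.1 % (p : ℤ) != 0), show (D.commTerms a.1 b.1).filter _ = _ from hempty,
          List.map_nil, List.prod_nil, mul_one] at hcm
        · exact hcm.symm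
        · intro c _ hc
          simp only [bne_eq_false_iff_eq] at hc
          simp [hm.cast c.2.1 (Int.dvd_of_emod_eq_zero hc), hF.xg_zero]
  exact key L hc

include hm hok in
theorem imgX_add (r : ℕ) (t u : F) : hF.imgX R r (t + u) = hF.imgX R r t * hF.imgX R r u := by
  unfold imgX
  split_ifs with hr
  · rw [expo_add hm hok hr, mul_add, xg_add]
  · rw [one_mul]

include hm hok in
theorem imgX_comm {r s : ℕ} (hr : r < D.nroots) (hs : s < D.nroots) (h1 : s ≠ r) (h2 : s ≠ D.neg r)
    (t u : F) : hF.imgX R s u * hF.imgX R r t =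
      hF.imgX R r t * hF.imgX R s u * ((D.commWord F r s t u).map fun q => hF.imgX R q.1 q.2).prod := by
  obtain ⟨p1, p2, p3⟩ := okMap_pair hok hr hs h1 h2
  have hr' := (okMap_root hok hr).1
  have hs' := (okMap_root hok hs).1
  have hcm := (hF.sys F).x_comm _ _ hr' hs' p1 p2 ((R.sign r : F) * t ^ R.expo r)
    ((R.sign s : F) * u ^ R.expo s)
  simp only [sys_x] at hcm
  rw [hF.imgX_lt R hr, hF.imgX_lt R hs, hcm]
  congr 1
  have hA : ((D.commWord F r s t u).map fun q => hF.imgX R q.1 q.2).prod =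
      hF.tProd t u (R.srcTerms D p r s) := by
    rw [ChevalleyDatum.commWord, List.map_map, list_prod_filter _ (fun c => c.2.1 % (p : ℤ) != 0)]
    · unfold tProd RMap.srcTerms RMap.liveTerms
      rw [List.map_map]
      congr 1
      refine List.map_congr_left fun c hc => ?_
      have hk := hF.commTerms_lt hr hs c (List.mem_of_mem_filter hc)
      simp only [Function.comp_apply]
      rw [hF.imgX_lt R hk, hm.castMod]
      congr 1
      push_cast
      rw [mul_pow, mul_pow, neg_pow t, mul_pow, pow_mul, pow_mul, pow_mul]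
      ring
    · intro c hc hz
      simp only [bne_eq_false_iff_eq] at hz
      have hk := hF.commTerms_lt hr hs c hc
      simp only [Function.comp_apply]
      rw [hF.imgX_lt R hk, hm.cast c.2.1 (Int.dvd_of_emod_eq_zero hz), zero_mul, zero_mul,
        zero_pow (expo_pos hok hk), mul_zero, hF.xg_zero]
  have hB : ((D.commWord F (R.img r) (R.img s) ((R.sign r : F) * t ^ R.expo r)
      ((R.sign s : F) * u ^ R.expo s)).map fun q => hF.xg q.1 q.2).prod =
      hF.tProd t u (R.tgtTerms D p r s) := by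
    rw [ChevalleyDatum.commWord, List.map_map, list_prod_filter _ (fun c => c.2.1 % (p : ℤ) != 0)]
    · unfold tProd RMap.tgtTerms RMap.liveTerms
      rw [List.map_map]
      congr 1
      refine List.map_congr_left fun c _ => ?_
      simp only [Function.comp_apply]
      rw [hm.castMod]
      congr 1
      push_cast
      rw [neg_pow, mul_pow, mul_pow, ← pow_mul, ← pow_mul, mul_comm (R.expo r), mul_comm (R.expo s)]
      ring
    · intro c hc hz
      simp only [bne_eq_false_iff_eq] at hz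
      simp only [Function.comp_apply]
      rw [hm.cast c.2.1 (Int.dvd_of_emod_eq_zero hz), zero_mul, zero_mul, hF.xg_zero]
  rw [hA, hB]
  rcases p3 with heq | ⟨hperm, hc⟩
  · rw [heq]
  · exact (hF.tProd_perm hm hperm hc).symm

include hok in
theorem img_neg_ne {r : ℕ} (hr : r < D.nroots) :
    R.img (D.neg r) = D.neg (R.img r) := (okMap_root hok hr).2.1

include hm hok in
theorem imgX_n {r : ℕ} (hr : r < D.nroots) {t : F} (ht : t ≠ 0) :
    nElt D (hF.imgX R) r t = hF.ng (R.img r) ((R.sign r : F) * t ^ R.expo r) := by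
  have _ := ht
  obtain ⟨-, h2, h3, h4, h5, -⟩ := okMap_root hok hr
  unfold nElt
  rw [hF.imgX_lt R hr, hF.imgX_lt R (hF.neg_lt hr), h2, h3, h4, hF.ng_eq]
  congr 3
  have hsi : ((R.sign r : F))⁻¹ = (R.sign r : F) := inv_eq_of_mul_eq_one_right (sign_cast_sq h5)
  rw [expo_neg hm hok hr, inv_pow, mul_neg, _root_.mul_inv, hsi]

include hm hok in
theorem imgX_h {r : ℕ} (hr : r < D.nroots) {t : F} (ht : t ≠ 0) :
    nElt D (hF.imgX R) r t * nElt D (hF.imgX R) r (-1) =
      torus D F (Facts.hCoord D (R.img r) (Units.mk0 (t ^ R.expo r) (pow_ne_zero _ ht))) := by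
  obtain ⟨h1, -, -, -, h5, -⟩ := okMap_root hok hr
  have hsne : (R.sign r : F) ≠ 0 := left_ne_zero_of_mul_eq_one (sign_cast_sq h5)
  have hte : t ^ R.expo r ≠ 0 := pow_ne_zero _ ht
  rw [hF.imgX_n hm hok hr ht, hF.imgX_n hm hok hr (neg_ne_zero.2 one_ne_zero), expo_neg hm hok hr,
    one_pow, mul_neg, mul_one]
  have hA := hF.hg_eq_torus h1 (Units.mk0 _ (mul_ne_zero hsne hte))
  have hB := hF.hg_eq_torus h1 (Units.mk0 _ hsne)
  rw [Units.val_mk0] at hA hB
  rw [show hF.ng (R.img r) ((R.sign r : F) * t ^ R.expo r) * hF.ng (R.img r) (-(R.sign r : F)) =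
      hF.hg (R.img r) ((R.sign r : F) * t ^ R.expo r) * (hF.hg (R.img r) (R.sign r : F))⁻¹ by
    rw [hF.hg_eq, hF.hg_eq, _root_.mul_inv_rev, hF.ng_neg _ (1 : F), inv_inv, hF.ng_neg _ (R.sign r : F)]
    group, hA, hB, ← map_inv, ← map_mul]
  congr 1
  funext j
  simp only [Facts.hCoord, Pi.mul_apply, Pi.inv_apply]
  rw [← _root_.inv_zpow, ← _root_.mul_zpow]
  congr 1
  ext
  simp only [Units.val_mul, Units.val_inv_eq_inv_val, Units.val_mk0]
  field_simp

include hm hok in
theorem mapsTo_rootMap : ∀ g ∈ D.steinbergRels F,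
    FreeGroup.lift (fun q : Fin D.nroots × F => hF.imgX R q.1.val q.2) g = 1 := by
  have hX : ∀ r t, FreeGroup.lift (fun q : Fin D.nroots × F => hF.imgX R q.1.val q.2) (D.stX r t) =
      hF.imgX R r t := by
    intro r t
    unfold ChevalleyDatum.stX
    split_ifs with h
    · simp
    · simp [imgX, h]
  have hW : ∀ w : List (ℕ × F), FreeGroup.lift (fun q : Fin D.nroots × F => hF.imgX R q.1.val q.2)
      (D.stWord w) = (w.map fun q => hF.imgX R q.1 q.2).prod := by
    intro w
    rw [ChevalleyDatum.stWord, map_list_prod, List.map_map]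
    congr 1
    exact List.map_congr_left fun q _ => hX _ _
  have hH : ∀ r t, FreeGroup.lift (fun q : Fin D.nroots × F => hF.imgX R q.1.val q.2) (D.stH r t) =
      nElt D (hF.imgX R) r t * nElt D (hF.imgX R) r (-1) := by
    intro r t
    rw [ChevalleyDatum.stH, hW]
    simp [ChevalleyDatum.hWord, ChevalleyDatum.nWord, nElt, mul_assoc]
  rintro g ((⟨r, t, u, hr, rfl⟩ | ⟨r, s, t, u, hr, hs, h1, h2, rfl⟩) | ⟨r, t, u, hr, ht, hu, rfl⟩)
  · simp only [map_mul, map_inv, hX]
    rw [hF.imgX_add hm hok, mul_inv_cancel]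
  · simp only [map_mul, map_inv, hX, hW]
    rw [mul_inv_eq_one, mul_assoc (_ * _), hF.imgX_comm hm hok hr hs h1 h2 t u]
    group
  · simp only [map_mul, map_inv, hH]
    rw [mul_inv_eq_one, hF.imgX_h hm hok hr ht, hF.imgX_h hm hok hr hu,
      hF.imgX_h hm hok hr (mul_ne_zero ht hu), ← map_mul]
    congr 1
    funext j
    simp only [Facts.hCoord, Pi.mul_apply, ← _root_.mul_zpow]
    congr 1
    ext
    simp [mul_pow]

/-- The homomorphism from the presented group. -/
noncomputable def rootMapHom : D.SteinbergGroup F →* GL D.Idx F :=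
  PresentedGroup.toGroup (hF.mapsTo_rootMap hm hok)

theorem rootMapHom_x {r : ℕ} (hr : r < D.nroots) (t : F) :
    hF.rootMapHom hm hok (D.stGen F r t) = hF.xg (R.img r) ((R.sign r : F) * t ^ R.expo r) := by
  rw [ChevalleyDatum.stGen, ChevalleyDatum.stX, dif_pos hr, ← hF.imgX_lt R hr]
  exact PresentedGroup.toGroup.of (hF.mapsTo_rootMap hm hok)

theorem proj_range : (hF.proj F).range = D.group F := by
  apply le_antisymm
  · rw [MonoidHom.range_eq_map, ← PresentedGroup.closure_range_of, MonoidHom.map_closure, Subgroup.closure_le]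
    rintro g ⟨_, ⟨⟨r, t⟩, rfl⟩, rfl⟩
    show hF.proj F _ ∈ D.group F
    rw [show PresentedGroup.of (rels := D.steinbergRels F) (r, t) = D.stGen F r t by
      rw [ChevalleyDatum.stGen, ChevalleyDatum.stX, dif_pos r.isLt]; rfl, hF.proj_x]
    exact hF.xg_mem_group _ _
  · rw [hF.group_eq, Subgroup.closure_le]
    rintro g ⟨⟨r, t⟩, rfl⟩
    exact ⟨D.stGen F r t, hF.proj_x r t⟩

include hF in
theorem center_trivial (hl : ∃ l, okCoeff D l = true) {y : GL D.Idx F} (hy : y ∈ D.group F)
    (hc : ∀ g ∈ D.group F, g * y = y * g) : y = 1 := by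
  obtain ⟨l, hl⟩ := hl
  have hU : D.unipotentRadical F ∅ ≤ D.group F := by
    rw [hF.unipotentRadical_eq]
    exact CommSys.US_le _ fun r _ t => hF.xg_mem_group r t
  have hB : y ∈ (hF.tsys F).B := by
    have hN : y ∈ Subgroup.normalizer (D.unipotentRadical F ∅ : Set (GL D.Idx F)) ⊓ D.group F := by
      refine ⟨Subgroup.mem_normalizer_iff.2 fun z => ⟨fun hz => ?_, fun hz => ?_⟩, hy⟩
      · rwa [← hc z (hU hz), mul_inv_cancel_right]
      · have := hc _ (hU hz)
        rw [inv_mul_cancel_right] at this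
        rw [← mul_left_cancel this] at hz
        exact hz
    rw [hF.normalizer_rad hl ∅] at hN
    rw [hF.tsys_B]
    have : D.parabolicSubgroup F ∅ = D.borelSubgroup F := by
      simp [ChevalleyDatum.parabolicSubgroup]
    rwa [this] at hN
  have hK := hF.not_le_borel (N := Subgroup.zpowers y) (fun g hg x hx => by
    obtain ⟨k, rfl⟩ := hx
    have : Commute g y := hc g hg
    rw [(this.zpow_right k).eq, mul_inv_cancel_right]
    exact ⟨k, rfl⟩) (Subgroup.zpowers_le.2 hB)
  exact Subgroup.zpowers_eq_bot.1 hK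

include hF hok in
theorem img_surj {k : ℕ} (hk : k < D.nroots) : ∃ r, r < D.nroots ∧ R.img r = k := by
  let f : Fin D.nroots → Fin D.nroots := fun r => ⟨R.img r, (okMap_root hok r.isLt).1⟩
  have hinj : Function.Injective f := by
    intro r s h
    by_contra hne
    have h' : R.img s = R.img r := (congrArg Fin.val h).symm
    by_cases hn : (s : ℕ) = D.neg r
    · rw [hn, (okMap_root hok r.isLt).2.1] at h'
      exact hF.neg_ne_self (okMap_root hok r.isLt).1 h'
    · exact (okMap_pair hok r.isLt s.isLt (fun e => hne (Fin.ext e.symm)) hn).1 h'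
  obtain ⟨r, hr⟩ := (Finite.injective_iff_surjective.1 hinj) ⟨k, hk⟩
  exact ⟨r, r.isLt, congrArg Fin.val hr⟩

theorem rootMapHom_range : (hF.rootMapHom hm hok (F := F)).range = D.group F := by
  apply le_antisymm
  · rw [MonoidHom.range_eq_map, ← PresentedGroup.closure_range_of, MonoidHom.map_closure, Subgroup.closure_le]
    rintro g ⟨_, ⟨⟨r, t⟩, rfl⟩, rfl⟩
    show hF.rootMapHom hm hok _ ∈ D.group F
    rw [show PresentedGroup.of (rels := D.steinbergRels F) (r, t) = D.stGen F r t by
      rw [ChevalleyDatum.stGen, ChevalleyDatum.stX, dif_pos r.isLt]; rfl, hF.rootMapHom_x hm hok r.isLt]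
    exact hF.xg_mem_group _ _
  · rw [hF.group_eq, Subgroup.closure_le]
    rintro g ⟨⟨k, a⟩, rfl⟩
    by_cases hk : k < D.nroots
    · obtain ⟨r, hr, rfl⟩ := hF.img_surj hok hk
      obtain ⟨-, -, -, -, h5, he⟩ := okMap_root hok hr
      obtain ⟨b, hb⟩ : ∃ b, b ^ R.expo r = (R.sign r : F) * a := by
        rcases he with he | ⟨he, hp⟩
        · exact ⟨(R.sign r : F) * a, by rw [he, pow_one]⟩
        · rw [he]; exact hm.perfect hp _
      refine ⟨D.stGen F r b, ?_⟩
      rw [hF.rootMapHom_x hm hok hr, hb, ← mul_assoc, sign_cast_sq h5, one_mul]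
    · exact ⟨1, by rw [map_one]; exact (hF.xg_out (not_lt.1 hk) a).symm⟩

include hF hm hok in
/-- The automorphism of the group attached to a root map. -/
theorem rootMap_aut (hH : StHyp D) {N q : ℕ} (hord : R.okOrder D p N q = true)
    (fq : F →+* F) (hq : ∀ t, fq t = t ^ q) :
    ∃ α : ↥(D.group F) ≃* ↥(D.group F), ∀ (g : ↥(D.group F)) (r : ℕ) (t : F), r < D.nroots →
      ((g : GL D.Idx F) : Matrix D.Idx D.Idx F) = D.x F r t →
      ((α g : GL D.Idx F) : Matrix D.Idx D.Idx F) = D.x F (R.img r) ((R.sign r : F) * t ^ R.expo r) := by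
  classical
  let P : D.SteinbergGroup F →* ↥(D.group F) :=
    (hF.proj F).codRestrict _ fun z => hF.proj_range.le ⟨z, rfl⟩
  let Φ : D.SteinbergGroup F →* ↥(D.group F) :=
    (hF.rootMapHom hm hok).codRestrict _ fun z => (hF.rootMapHom_range hm hok).le ⟨z, rfl⟩
  have hP : Function.Surjective P := by
    rintro ⟨g, hg⟩
    obtain ⟨z, hz⟩ := (hF.proj_range (F := F)).ge hg
    exact ⟨z, Subtype.ext hz⟩
  have hΦ : Function.Surjective Φ := by
    rintro ⟨g, hg⟩
    obtain ⟨z, hz⟩ := (hF.rootMapHom_range hm hok).ge hg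
    exact ⟨z, Subtype.ext hz⟩
  have hker : P.ker ≤ Φ.ker := by
    intro z hz
    have hz' : z ∈ (hF.proj F).ker := congrArg Subtype.val hz
    rw [hF.ker_eq_center hH hH.2.2, Subgroup.mem_center_iff] at hz'
    refine Subtype.ext (hF.center_trivial hH.2.2 (Φ z).2 fun g hg => ?_)
    obtain ⟨w, hw⟩ := hΦ ⟨g, hg⟩
    have h1 := congrArg Φ (hz' w)
    rw [map_mul, map_mul, hw] at h1
    exact congrArg Subtype.val h1
  let α : ↥(D.group F) →* ↥(D.group F) := P.liftOfSurjective hP ⟨Φ, hker⟩
  have hα : ∀ z, α (P z) = Φ z := MonoidHom.liftOfRightInverse_comp_apply P _ _ ⟨Φ, hker⟩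
  have hgen : ∀ (r : ℕ) (t : F) (h : hF.xg r t ∈ D.group F), r < D.nroots →
      (α ⟨hF.xg r t, h⟩ : GL D.Idx F) = hF.xg (R.img r) ((R.sign r : F) * t ^ R.expo r) := by
    intro r t h hr
    have e : (⟨hF.xg r t, h⟩ : ↥(D.group F)) = P (D.stGen F r t) := Subtype.ext (hF.proj_x r t).symm
    rw [e, hα]
    exact hF.rootMapHom_x hm hok hr t
  simp only [RMap.okOrder, Bool.and_eq_true, decide_eq_true_eq, List.all_eq_true, List.mem_range,
    beq_iff_eq] at hord
  obtain ⟨hN, hord⟩ := hord
  have hiter : ∀ (n r : ℕ) (t : F) (h : hF.xg r t ∈ D.group F), r < D.nroots →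
      (R.iter n r).1 < D.nroots ∧ (α^[n] ⟨hF.xg r t, h⟩ : GL D.Idx F) =
        hF.xg (R.iter n r).1 (((R.iter n r).2.1 : F) * t ^ (R.iter n r).2.2) := by
    intro n
    induction n with
    | zero =>
      intro r t h hr
      refine ⟨hr, ?_⟩
      simp [RMap.iter]
    | succ n ih =>
      intro r t h hr
      obtain ⟨hlt, he⟩ := ih r t h hr
      refine ⟨(okMap_root hok hlt).1, ?_⟩
      rw [Function.iterate_succ_apply']
      have e : α^[n] ⟨hF.xg r t, h⟩ = ⟨_, hF.xg_mem_group (R.iter n r).1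
          (((R.iter n r).2.1 : F) * t ^ (R.iter n r).2.2)⟩ := Subtype.ext he
      rw [e, hgen _ _ _ hlt]
      congr 1
      simp only [RMap.iter]
      push_cast
      rw [mul_pow, pow_mul, mul_assoc]
  have hfrob : ∀ g : ↥(D.group F), (α^[N] g : GL D.Idx F) = gmap fq (g : GL D.Idx F) := by
    let αN : ↥(D.group F) →* GL D.Idx F :=
      MonoidHom.mk' (fun g => (α^[N] g : GL D.Idx F)) fun a b => by simp [iterate_map_mul α N a b]
    intro g
    obtain ⟨z, rfl⟩ := hP g
    have : αN.comp P = ((gmap fq).comp (D.group F).subtype).comp P := by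
      refine PresentedGroup.ext fun x => ?_
      obtain ⟨⟨r, hr⟩, t⟩ := x
      have h1 : PresentedGroup.of (rels := D.steinbergRels F) (⟨r, hr⟩, t) = D.stGen F r t := by
        rw [ChevalleyDatum.stGen, ChevalleyDatum.stX, dif_pos hr]
        rfl
      have h2 : P (D.stGen F r t) = ⟨hF.xg r t, hF.xg_mem_group r t⟩ := Subtype.ext (hF.proj_x r t)
      rw [h1, MonoidHom.comp_apply, MonoidHom.comp_apply, h2]
      show (α^[N] _ : GL D.Idx F) = gmap fq (hF.xg r t)
      rw [(hiter N r t _ hr).2, hF.gmap_xg, hq]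
      obtain ⟨⟨e1, e2⟩, e3⟩ := hord r hr
      have hs : ((R.iter N r).2.1 : F) = 1 := by
        rw [← sub_eq_zero, ← Int.cast_one, ← Int.cast_sub]
        exact hm.cast _ (Int.dvd_of_emod_eq_zero e2)
      rw [e1, e3, hs, one_mul]
    exact DFunLike.congr_fun this z
  have hinj : Function.Injective α := by
    intro a b hab
    have : α^[N] a = α^[N] b := by
      obtain ⟨k, rfl⟩ : ∃ k, N = k + 1 := ⟨N - 1, by omega⟩
      rw [Function.iterate_succ_apply, Function.iterate_succ_apply, hab]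
    exact Subtype.ext (gmap_injective fq (by rw [← hfrob, ← hfrob, this]))
  have hsurj : Function.Surjective α := fun g => by
    obtain ⟨z, rfl⟩ := hΦ g
    exact ⟨P z, hα z⟩
  refine ⟨MulEquiv.ofBijective α ⟨hinj, hsurj⟩, fun g r t hr hg => ?_⟩
  have e : g = ⟨hF.xg r t, hF.xg_mem_group r t⟩ := Subtype.ext (hF.eq_xg.1 hg)
  show ((α g : GL D.Idx F) : Matrix D.Idx D.Idx F) = _
  rw [e, hgen r t _ hr]
  rfl

end Facts

end Cfsg.Agent.Lie
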