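import Cfsg.Agent.Lib.Lie.JankoPack

/-!
Certificate data for the Janko group of order 175560 (generated, orbit).
-/

set_option autoImplicit false
set_option maxRecDepth 100000
set_option maxHeartbeats 0

namespace Cfsg.Agent.Lie.Janko

def lineOrder0 : Tree (ℕ) :=
  (.node (.node (.node (.node (.node (.node (.node (.node (.node (.node (.leaf 12927) (.leaf 11555)) (.node (.leaf 4885) (.leaf 10497))) (.node (.node (.leaf 15164) (.leaf 4741)) (.node (.leaf 14279) (.leaf 3189)))) (.node (.node (.node (.leaf 15911) (.leaf 8283)) (.node (.leaf 10855) (.leaf 12883))) (.node (.node (.leaf 7855) (.leaf 6757)) (.node (.leaf 11568) (.leaf 4848))))) (.node (.node (.node (.node (.leaf 6687) (.leaf 10546)) (.node (.leaf 14049) (.leaf 7877))) (.node (.node (.leaf 9404) (.leaf 7979)) (.node (.leaf 2242) (.leaf 6992)))) (.node (.node (.node (.leaf 12231) (.leaf 5409)) (.node (.leaf 14160) (.leaf 12062))) (.node (.node (.leaf 7446) (.leaf 13018)) (.node (.leaf 218) (.leaf 8971)))))) (.node (.node (.node (.node (.node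 (.leaf 5331) (.leaf 722)) (.node (.leaf 10917) (.leaf 11058))) (.node (.node (.leaf 4478) (.leaf 946)) (.node (.leaf 586) (.leaf 8200)))) (.node (.node (.node (.leaf 13259) (.leaf 4527)) (.node (.leaf 10333) (.leaf 13812))) (.node (.node (.leaf 4063) (.leaf 13952)) (.node (.leaf 7141) (.leaf 15097))))) (.node (.node (.node (.node (.leaf 7533) (.leaf 6762)) (.node (.leaf 14054) (.leaf 13273))) (.node (.node (.leaf 11995) (.leaf 11232)) (.node (.leaf 9904) (.leaf 12738)))) (.node (.node (.node (.leaf 15294) (.leaf 2954)) (.node (.leaf 9273) (.leaf 6916))) (.node (.node (.leaf 1570) (.leaf 13177)) (.leaf 2032)))))) (.node (.node (.node (.node (.node (.node (.leaf 149) (.leaf 13348)) (.node (.leaf 3011) (.leaf 3237))) (.node (.node (.leaf 4125) (.leaf 2043)) (.node (.leaf 15826) (.leaf 11195)))) (.node (.node (.node (.leaf 4668) (.leaf 1185)) (.node (.leaf 6748) (.leaf 5433))) (.node (.node (.leaf 13687) (.leaf 10436)) (.node (.leaf 15500) (.leaf 6892))))) (.node (.node (.node (.node (.leaf 12971) (.leaf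 14261)) (.node (.leaf 1213) (.leaf 5138))) (.node (.node (.leaf 5410) (.leaf 9529)) (.node (.leaf 15853) (.leaf 11475)))) (.node (.node (.node (.leaf 11334) (.leaf 3886)) (.node (.leaf 4609) (.leaf 13606))) (.node (.node (.leaf 15599) (.leaf 12275)) (.leaf 2548))))) (.node (.node (.node (.node (.node (.leaf 6327) (.leaf 9798)) (.node (.leaf 13270) (.leaf 11446))) (.node (.node (.leaf 9065) (.leaf 12423)) (.node (.leaf 12193) (.leaf 15151)))) (.node (.node (.node (.leaf 10095) (.leaf 11229)) (.node (.leaf 15331) (.leaf 15094))) (.node (.node (.leaf 8682) (.leaf 2870)) (.node (.leaf 6516) (.leaf 513))))) (.node (.node (.node (.node (.leaf 11496) (.leaf 8245)) (.node (.leaf 13553) (.leaf 6129))) (.node (.node (.leaf 14610) (.leaf 15519)) (.node (.leaf 3770) (.leaf 4015)))) (.node (.node (.node (.leaf 8917) (.leaf 5322)) (.node (.leaf 13605) (.leaf 12736))) (.node (.node (.leaf 525) (.leaf 3984)) (.leaf 6601))))))) (.node (.node (.node (.node (.node (.node (.node (.leaf 4469) (.leaf 11071)) (.node (.leaf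 11620) (.leaf 402))) (.node (.node (.leaf 12873) (.leaf 2861)) (.node (.leaf 7856) (.leaf 8539)))) (.node (.node (.node (.leaf 5231) (.leaf 9352)) (.node (.leaf 6214) (.leaf 9872))) (.node (.node (.leaf 2761) (.leaf 3095)) (.node (.leaf 11828) (.leaf 1384))))) (.node (.node (.node (.node (.leaf 3381) (.leaf 4405)) (.node (.leaf 1879) (.leaf 3409))) (.node (.node (.leaf 8211) (.leaf 2349)) (.node (.leaf 595) (.leaf 12066)))) (.node (.node (.node (.leaf 10170) (.leaf 7639)) (.node (.leaf 14949) (.leaf 6034))) (.node (.node (.leaf 3930) (.leaf 7445)) (.node (.leaf 1121) (.leaf 1574)))))) (.node (.node (.node (.node (.node (.leaf 15796) (.leaf 11822)) (.node (.leaf 9888) (.leaf 15180))) (.node (.node (.leaf 15107) (.leaf 8684)) (.node (.leaf 3924) (.leaf 3703)))) (.node (.node (.node (.leaf 10174) (.leaf 184)) (.node (.leaf 12853) (.leaf 7714))) (.node (.node (.leaf 12095) (.leaf 3544)) (.node (.leaf 13525) (.leaf 14843))))) (.node (.node (.node (.node (.leaf 13159) (.leaf 5107)) (.node (.leaf 15494) (.leaf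 15341))) (.node (.node (.leaf 10547) (.leaf 14457)) (.node (.leaf 10516) (.leaf 9854)))) (.node (.node (.node (.leaf 5985) (.leaf 13095)) (.node (.leaf 10013) (.leaf 11055))) (.node (.node (.leaf 13171) (.leaf 14187)) (.leaf 8176)))))) (.node (.node (.node (.node (.node (.node (.leaf 9261) (.leaf 14989)) (.node (.leaf 6868) (.leaf 5757))) (.node (.node (.leaf 3635) (.leaf 4783)) (.node (.leaf 15628) (.leaf 14725)))) (.node (.node (.node (.leaf 15781) (.leaf 15631)) (.node (.leaf 5372) (.leaf 14887))) (.node (.node (.leaf 4838) (.leaf 11520)) (.node (.leaf 7087) (.leaf 7848))))) (.node (.node (.node (.node (.leaf 1034) (.leaf 3561)) (.node (.leaf 263) (.leaf 11746))) (.node (.node (.leaf 3553) (.leaf 5250)) (.node (.leaf 8160) (.leaf 10120)))) (.node (.node (.node (.leaf 14332) (.leaf 3015)) (.node (.leaf 902) (.leaf 8150))) (.node (.node (.leaf 7076) (.leaf 3794)) (.leaf 15576))))) (.node (.node (.node (.node (.node (.leaf 1946) (.leaf 10590)) (.node (.leaf 7426) (.leaf 8311))) (.node (.node (.leaf 15806)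 (.leaf 12598)) (.node (.leaf 7171) (.leaf 7016)))) (.node (.node (.node (.leaf 2941) (.leaf 2458)) (.node (.leaf 2219) (.leaf 7466))) (.node (.node (.leaf 11354) (.leaf 6039)) (.node (.leaf 1406) (.leaf 11943))))) (.node (.node (.node (.node (.leaf 7036) (.leaf 9205)) (.node (.leaf 5276) (.leaf 7776))) (.node (.node (.leaf 9103) (.leaf 5000)) (.node (.leaf 15586) (.leaf 5918)))) (.node (.node (.node (.leaf 12972) (.leaf 628)) (.node (.leaf 11772) (.leaf 10451))) (.node (.node (.leaf 13988) (.leaf 5217)) (.leaf 1146)))))))) (.node (.node (.node (.node (.node (.node (.node (.node (.leaf 11154) (.leaf 13017)) (.node (.leaf 14639) (.leaf 9382))) (.node (.node (.leaf 10157) (.leaf 3606)) (.node (.leaf 13996) (.leaf 2012)))) (.node (.node (.node (.leaf 2256) (.leaf 11391)) (.node (.leaf 817) (.leaf 3707))) (.node (.node (.leaf 2333) (.leaf 11612)) (.node (.leaf 10766) (.leaf 6299))))) (.node (.node (.node (.node (.leaf 756) (.leaf 5006)) (.node (.leaf 9599) (.leaf 13721))) (.node (.node (.leaf 3305) (.leaf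 13983)) (.node (.leaf 15579) (.leaf 1512)))) (.node (.node (.node (.leaf 15760) (.leaf 7262)) (.node (.leaf 4689) (.leaf 3077))) (.node (.node (.leaf 12166) (.leaf 14122)) (.node (.leaf 10664) (.leaf 8649)))))) (.node (.node (.node (.node (.node (.leaf 15046) (.leaf 2703)) (.node (.leaf 4486) (.leaf 7907))) (.node (.node (.leaf 13395) (.leaf 14255)) (.node (.leaf 2676) (.leaf 5743)))) (.node (.node (.node (.leaf 12999) (.leaf 1845)) (.node (.leaf 12933) (.leaf 13262))) (.node (.node (.leaf 4440) (.leaf 13680)) (.node (.leaf 12531) (.leaf 5043))))) (.node (.node (.node (.node (.leaf 4310) (.leaf 5842)) (.node (.leaf 14761) (.leaf 9445))) (.node (.node (.leaf 1900) (.leaf 5591)) (.node (.leaf 164) (.leaf 9164)))) (.node (.node (.node (.leaf 11688) (.leaf 9952)) (.node (.leaf 9817) (.leaf 4173))) (.node (.node (.leaf 3793) (.leaf 3601)) (.leaf 88)))))) (.node (.node (.node (.node (.node (.node (.leaf 3170) (.leaf 12170)) (.node (.leaf 2198) (.leaf 10548))) (.node (.node (.leaf 5073) (.leaf 9071)) (.node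 (.leaf 12874) (.leaf 773)))) (.node (.node (.node (.leaf 8785) (.leaf 15198)) (.node (.leaf 14479) (.leaf 1413))) (.node (.node (.leaf 13473) (.leaf 4095)) (.node (.leaf 6092) (.leaf 15110))))) (.node (.node (.node (.node (.leaf 11497) (.leaf 3055)) (.node (.leaf 10034) (.leaf 7315))) (.node (.node (.leaf 7378) (.leaf 5485)) (.node (.leaf 12267) (.leaf 3223)))) (.node (.node (.node (.leaf 5300) (.leaf 4737)) (.node (.leaf 1318) (.leaf 12788))) (.node (.node (.leaf 3831) (.leaf 12743)) (.leaf 7004))))) (.node (.node (.node (.node (.node (.leaf 15762) (.leaf 3541)) (.node (.leaf 8929) (.leaf 13291))) (.node (.node (.leaf 2342) (.leaf 13428)) (.node (.leaf 8527) (.leaf 9295)))) (.node (.node (.node (.leaf 2024) (.leaf 8570)) (.node (.leaf 15559) (.leaf 4714))) (.node (.node (.leaf 12524) (.leaf 10318)) (.node (.leaf 6878) (.leaf 129))))) (.node (.node (.node (.node (.leaf 12628) (.leaf 11871)) (.node (.leaf 15007) (.leaf 3217))) (.node (.node (.leaf 5545) (.leaf 10190)) (.node (.leaf 6824) (.leaf 10947))))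 (.node (.node (.node (.leaf 10428) (.leaf 556)) (.node (.leaf 14488) (.leaf 13191))) (.node (.node (.leaf 7406) (.leaf 13451)) (.leaf 13293))))))) (.node (.node (.node (.node (.node (.node (.node (.leaf 8846) (.leaf 14437)) (.node (.leaf 9095) (.leaf 6369))) (.node (.node (.leaf 2963) (.leaf 12650)) (.node (.leaf 13558) (.leaf 14246)))) (.node (.node (.node (.leaf 6321) (.leaf 4545)) (.node (.leaf 3034) (.leaf 7974))) (.node (.node (.leaf 8154) (.leaf 14677)) (.node (.leaf 13332) (.leaf 3280))))) (.node (.node (.node (.node (.leaf 4669) (.leaf 12837)) (.node (.leaf 13420) (.leaf 14081))) (.node (.node (.leaf 9448) (.leaf 8419)) (.node (.leaf 11344) (.leaf 8888)))) (.node (.node (.node (.leaf 1939) (.leaf 6267)) (.node (.leaf 15692) (.leaf 3349))) (.node (.node (.leaf 501) (.leaf 10164)) (.leaf 10255))))) (.node (.node (.node (.node (.node (.leaf 12624) (.leaf 4628)) (.node (.leaf 9284) (.leaf 3877))) (.node (.node (.leaf 14751) (.leaf 1082)) (.node (.leaf 2636) (.leaf 14090)))) (.node (.node (.node (.leaf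 10832) (.leaf 10312)) (.node (.leaf 1657) (.leaf 3112))) (.node (.node (.leaf 6851) (.leaf 4521)) (.node (.leaf 9833) (.leaf 15283))))) (.node (.node (.node (.node (.leaf 12294) (.leaf 15010)) (.node (.leaf 8663) (.leaf 14143))) (.node (.node (.leaf 9199) (.leaf 1334)) (.node (.leaf 13759) (.leaf 8441)))) (.node (.node (.node (.leaf 7883) (.leaf 5900)) (.node (.leaf 4853) (.leaf 13909))) (.node (.node (.leaf 1970) (.leaf 12348)) (.leaf 8652)))))) (.node (.node (.node (.node (.node (.node (.leaf 15372) (.leaf 10278)) (.node (.leaf 5529) (.leaf 15612))) (.node (.node (.leaf 8390) (.leaf 13576)) (.node (.leaf 11650) (.leaf 5916)))) (.node (.node (.node (.leaf 4223) (.leaf 2205)) (.node (.leaf 13718) (.leaf 2787))) (.node (.node (.leaf 1458) (.leaf 14690)) (.node (.leaf 6386) (.leaf 5518))))) (.node (.node (.node (.node (.leaf 11429) (.leaf 1548)) (.node (.leaf 15163) (.leaf 2999))) (.node (.node (.leaf 13292) (.leaf 3801)) (.node (.leaf 15634) (.leaf 12356)))) (.node (.node (.node (.leaf 15391) (.leaf 674))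 (.node (.leaf 10827) (.leaf 1305))) (.node (.node (.leaf 2601) (.leaf 1440)) (.leaf 14035))))) (.node (.node (.node (.node (.node (.leaf 2727) (.leaf 15719)) (.node (.leaf 7366) (.leaf 3272))) (.node (.node (.leaf 8827) (.leaf 15137)) (.node (.leaf 2544) (.leaf 2974)))) (.node (.node (.node (.leaf 5931) (.leaf 9384)) (.node (.leaf 4834) (.leaf 2358))) (.node (.node (.leaf 7984) (.leaf 14079)) (.node (.leaf 2368) (.leaf 7415))))) (.node (.node (.node (.node (.leaf 11885) (.leaf 3066)) (.node (.leaf 13861) (.leaf 4129))) (.node (.node (.leaf 14063) (.leaf 15430)) (.node (.leaf 4744) (.leaf 5292)))) (.node (.node (.node (.leaf 14288) (.leaf 3586)) (.node (.leaf 14855) (.leaf 3995))) (.node (.node (.leaf 493) (.leaf 10886)) (.leaf 12329))))))))) (.node (.node (.node (.node (.node (.node (.node (.node (.node (.leaf 4467) (.leaf 14073)) (.node (.leaf 10357) (.leaf 1244))) (.node (.node (.leaf 15402) (.leaf 99)) (.node (.leaf 11468) (.leaf 8398)))) (.node (.node (.node (.leaf 10902) (.leaf 10865)) (.node (.leaf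 3324) (.leaf 7916))) (.node (.node (.leaf 14851) (.leaf 5442)) (.node (.leaf 12844) (.leaf 530))))) (.node (.node (.node (.node (.leaf 2232) (.leaf 15849)) (.node (.leaf 2970) (.leaf 7245))) (.node (.node (.leaf 6944) (.leaf 13)) (.node (.leaf 5953) (.leaf 15522)))) (.node (.node (.node (.leaf 1550) (.leaf 6578)) (.node (.leaf 14533) (.leaf 4515))) (.node (.node (.leaf 1922) (.leaf 9499)) (.node (.leaf 10554) (.leaf 2777)))))) (.node (.node (.node (.node (.node (.leaf 6683) (.leaf 4821)) (.node (.leaf 2547) (.leaf 914))) (.node (.node (.leaf 14544) (.leaf 11818)) (.node (.leaf 11586) (.leaf 5039)))) (.node (.node (.node (.leaf 12291) (.leaf 4137)) (.node (.leaf 1586) (.leaf 1259))) (.node (.node (.leaf 2188) (.leaf 7519)) (.node (.leaf 5778) (.leaf 4119))))) (.node (.node (.node (.node (.leaf 7560) (.leaf 8946)) (.node (.leaf 7915) (.leaf 15091))) (.node (.node (.leaf 10707) (.leaf 3767)) (.node (.leaf 13972) (.leaf 10610)))) (.node (.node (.node (.leaf 11714) (.leaf 1050)) (.node (.leaf 2110) (.leaf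 3567))) (.node (.node (.leaf 9845) (.leaf 8145)) (.leaf 7857)))))) (.node (.node (.node (.node (.node (.node (.leaf 9234) (.leaf 14249)) (.node (.leaf 2678) (.leaf 3933))) (.node (.node (.leaf 2747) (.leaf 7191)) (.node (.leaf 8562) (.leaf 4355)))) (.node (.node (.node (.leaf 15768) (.leaf 6070)) (.node (.leaf 5063) (.leaf 14381))) (.node (.node (.leaf 2216) (.leaf 2179)) (.node (.leaf 11927) (.leaf 4289))))) (.node (.node (.node (.node (.leaf 10691) (.leaf 7271)) (.node (.leaf 6734) (.leaf 858))) (.node (.node (.leaf 10334) (.leaf 8350)) (.node (.leaf 7259) (.leaf 4101)))) (.node (.node (.node (.leaf 4985) (.leaf 14567)) (.node (.leaf 11191) (.leaf 4300))) (.node (.node (.leaf 4563) (.leaf 12006)) (.leaf 6352))))) (.node (.node (.node (.node (.node (.leaf 10462) (.leaf 5654)) (.node (.leaf 4999) (.leaf 9639))) (.node (.node (.leaf 1680) (.leaf 10801)) (.node (.leaf 155) (.leaf 3860)))) (.node (.node (.node (.leaf 10506) (.leaf 9255)) (.node (.leaf 5523) (.leaf 14149))) (.node (.node (.leaf 4432) (.leaf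 8091)) (.node (.leaf 11222) (.leaf 12812))))) (.node (.node (.node (.node (.leaf 12979) (.leaf 15946)) (.node (.leaf 6904) (.leaf 472))) (.node (.node (.leaf 6795) (.leaf 12980)) (.node (.leaf 13991) (.leaf 2145)))) (.node (.node (.node (.leaf 4317) (.leaf 11262)) (.node (.leaf 6882) (.leaf 3480))) (.node (.node (.leaf 8026) (.leaf 4411)) (.leaf 5772))))))) (.node (.node (.node (.node (.node (.node (.node (.leaf 4466) (.leaf 12908)) (.node (.leaf 12606) (.leaf 13762))) (.node (.node (.leaf 1926) (.leaf 5149)) (.node (.leaf 7759) (.leaf 11282)))) (.node (.node (.node (.leaf 15221) (.leaf 4004)) (.node (.leaf 14345) (.leaf 11999))) (.node (.node (.leaf 15881) (.leaf 7721)) (.node (.leaf 1434) (.leaf 7999))))) (.node (.node (.node (.node (.leaf 5335) (.leaf 5120)) (.node (.leaf 5406) (.leaf 11528))) (.node (.node (.leaf 6223) (.leaf 4492)) (.node (.leaf 2411) (.leaf 9564)))) (.node (.node (.node (.leaf 11882) (.leaf 14861)) (.node (.leaf 6086) (.leaf 780))) (.node (.node (.leaf 15272) (.leaf 9703)) (.node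 (.leaf 15448) (.leaf 4755)))))) (.node (.node (.node (.node (.node (.leaf 13594) (.leaf 4302)) (.node (.leaf 13512) (.leaf 7325))) (.node (.node (.leaf 9487) (.leaf 13432)) (.node (.leaf 7101) (.leaf 3027)))) (.node (.node (.node (.leaf 1739) (.leaf 55)) (.node (.leaf 6331) (.leaf 4373))) (.node (.node (.leaf 1255) (.leaf 506)) (.node (.leaf 7805) (.leaf 9786))))) (.node (.node (.node (.node (.leaf 8777) (.leaf 8222)) (.node (.leaf 10060) (.leaf 15438))) (.node (.node (.leaf 11131) (.leaf 15706)) (.node (.leaf 11189) (.leaf 15318)))) (.node (.node (.node (.leaf 5937) (.leaf 7379)) (.node (.leaf 723) (.leaf 1786))) (.node (.node (.leaf 9124) (.leaf 2383)) (.leaf 4817)))))) (.node (.node (.node (.node (.node (.node (.leaf 13362) (.leaf 7528)) (.node (.leaf 12119) (.leaf 10712))) (.node (.node (.leaf 2600) (.leaf 12649)) (.node (.leaf 10897) (.leaf 11725)))) (.node (.node (.node (.leaf 12729) (.leaf 11983)) (.node (.leaf 10119) (.leaf 973))) (.node (.node (.leaf 8633) (.leaf 1538)) (.node (.leaf 11394)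 (.leaf 10394))))) (.node (.node (.node (.node (.leaf 12416) (.leaf 6374)) (.node (.leaf 9831) (.leaf 6215))) (.node (.node (.leaf 9830) (.leaf 7042)) (.node (.leaf 9408) (.leaf 12557)))) (.node (.node (.node (.leaf 11336) (.leaf 13456)) (.node (.leaf 5582) (.leaf 6068))) (.node (.node (.leaf 335) (.leaf 10979)) (.leaf 14959))))) (.node (.node (.node (.node (.node (.leaf 10731) (.leaf 4504)) (.node (.leaf 8213) (.leaf 5435))) (.node (.node (.leaf 10775) (.leaf 8403)) (.node (.leaf 15057) (.leaf 13326)))) (.node (.node (.node (.leaf 9433) (.leaf 11807)) (.node (.leaf 15571) (.leaf 15056))) (.node (.node (.leaf 14356) (.leaf 673)) (.node (.leaf 10817) (.leaf 498))))) (.node (.node (.node (.node (.leaf 4030) (.leaf 7983)) (.node (.leaf 4374) (.leaf 10004))) (.node (.node (.leaf 10470) (.leaf 3721)) (.node (.leaf 13404) (.leaf 4135)))) (.node (.node (.node (.leaf 11338) (.leaf 4721)) (.node (.leaf 3483) (.leaf 6822))) (.node (.node (.leaf 5852) (.leaf 10328)) (.leaf 8679)))))))) (.node (.node (.node (.node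 (.node (.node (.node (.node (.leaf 4461) (.leaf 7827)) (.node (.leaf 12662) (.leaf 4016))) (.node (.node (.leaf 11216) (.leaf 10911)) (.node (.leaf 528) (.leaf 15531)))) (.node (.node (.node (.leaf 10089) (.leaf 11053)) (.node (.leaf 2461) (.leaf 8799))) (.node (.node (.leaf 15034) (.leaf 7274)) (.node (.leaf 3743) (.leaf 13126))))) (.node (.node (.node (.node (.leaf 12573) (.leaf 2903)) (.node (.leaf 12089) (.leaf 8936))) (.node (.node (.leaf 7934) (.leaf 4177)) (.node (.leaf 15422) (.leaf 2359)))) (.node (.node (.node (.leaf 1731) (.leaf 3147)) (.node (.leaf 9023) (.leaf 11436))) (.node (.node (.leaf 2321) (.leaf 14731)) (.node (.leaf 13964) (.leaf 10245)))))) (.node (.node (.node (.node (.node (.leaf 5713) (.leaf 3332)) (.node (.leaf 15574) (.leaf 15307))) (.node (.node (.leaf 8345) (.leaf 5110)) (.node (.leaf 2936) (.leaf 6480)))) (.node (.node (.node (.leaf 8580) (.leaf 4937)) (.node (.leaf 13674) (.leaf 6903))) (.node (.node (.leaf 14886) (.leaf 6611)) (.node (.leaf 10366) (.leaf 7056))))) (.node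 (.node (.node (.node (.leaf 15219) (.leaf 5633)) (.node (.leaf 11120) (.leaf 11406))) (.node (.node (.leaf 11543) (.leaf 4818)) (.node (.leaf 12187) (.leaf 3992)))) (.node (.node (.node (.leaf 7564) (.leaf 1470)) (.node (.leaf 14223) (.leaf 15698))) (.node (.node (.leaf 7645) (.leaf 2260)) (.leaf 11088)))))) (.node (.node (.node (.node (.node (.node (.leaf 9236) (.leaf 5062)) (.node (.leaf 4188) (.leaf 6448))) (.node (.node (.leaf 8373) (.leaf 5732)) (.node (.leaf 8034) (.leaf 1848)))) (.node (.node (.node (.leaf 9801) (.leaf 5676)) (.node (.leaf 9559) (.leaf 12370))) (.node (.node (.leaf 6116) (.leaf 5059)) (.node (.leaf 5966) (.leaf 7952))))) (.node (.node (.node (.node (.leaf 7568) (.leaf 4072)) (.node (.leaf 12201) (.leaf 6876))) (.node (.node (.leaf 951) (.leaf 9472)) (.node (.leaf 1022) (.leaf 13730)))) (.node (.node (.node (.leaf 7745) (.leaf 2176)) (.node (.leaf 3676) (.leaf 2766))) (.node (.node (.leaf 8641) (.leaf 5734)) (.leaf 13686))))) (.node (.node (.node (.node (.node (.leaf 7022) (.leaf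 12254)) (.node (.leaf 8831) (.leaf 6307))) (.node (.node (.leaf 62) (.leaf 12946)) (.node (.leaf 15275) (.leaf 8958)))) (.node (.node (.node (.leaf 15764) (.leaf 10675)) (.node (.leaf 12954) (.leaf 2270))) (.node (.node (.leaf 7155) (.leaf 5912)) (.node (.leaf 9253) (.leaf 918))))) (.node (.node (.node (.node (.leaf 13363) (.leaf 8749)) (.node (.leaf 369) (.leaf 9998))) (.node (.node (.leaf 15029) (.leaf 8329)) (.node (.leaf 3259) (.leaf 708)))) (.node (.node (.node (.leaf 3370) (.leaf 5426)) (.node (.leaf 9342) (.leaf 634))) (.node (.node (.leaf 12914) (.leaf 7365)) (.leaf 10036))))))) (.node (.node (.node (.node (.node (.node (.node (.leaf 3177) (.leaf 8891)) (.node (.leaf 6879) (.leaf 12705))) (.node (.node (.leaf 14899) (.leaf 15232)) (.node (.leaf 11706) (.leaf 7109)))) (.node (.node (.node (.leaf 12434) (.leaf 7656)) (.node (.leaf 4620) (.leaf 7149))) (.node (.node (.leaf 7900) (.leaf 13208)) (.node (.leaf 9816) (.leaf 15419))))) (.node (.node (.node (.node (.leaf 1944) (.leaf 5383)) (.node (.leaf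 8315) (.leaf 15831))) (.node (.node (.leaf 6317) (.leaf 11050)) (.node (.leaf 4342) (.leaf 7517)))) (.node (.node (.node (.leaf 7815) (.leaf 5133)) (.node (.leaf 4133) (.leaf 768))) (.node (.node (.leaf 8114) (.leaf 3616)) (.leaf 11411))))) (.node (.node (.node (.node (.node (.leaf 1744) (.leaf 6515)) (.node (.leaf 6949) (.leaf 12469))) (.node (.node (.leaf 3391) (.leaf 12786)) (.node (.leaf 10027) (.leaf 14351)))) (.node (.node (.node (.leaf 289) (.leaf 435)) (.node (.leaf 13120) (.leaf 14231))) (.node (.node (.leaf 10131) (.leaf 3521)) (.node (.leaf 12665) (.leaf 11396))))) (.node (.node (.node (.node (.leaf 1032) (.leaf 2399)) (.node (.leaf 10574) (.leaf 1187))) (.node (.node (.leaf 5617) (.leaf 4428)) (.node (.leaf 11261) (.leaf 797)))) (.node (.node (.node (.leaf 8582) (.leaf 13121)) (.node (.leaf 4699) (.leaf 15450))) (.node (.node (.leaf 14853) (.leaf 14481)) (.leaf 1779)))))) (.node (.node (.node (.node (.node (.node (.leaf 10849) (.leaf 14042)) (.node (.leaf 9560) (.leaf 510))) (.node (.node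 (.leaf 195) (.leaf 6483)) (.node (.leaf 474) (.leaf 9496)))) (.node (.node (.node (.leaf 7743) (.leaf 15463)) (.node (.leaf 8899) (.leaf 7012))) (.node (.node (.leaf 11292) (.leaf 11630)) (.node (.leaf 1057) (.leaf 1189))))) (.node (.node (.node (.node (.leaf 9431) (.leaf 5312)) (.node (.leaf 10797) (.leaf 4547))) (.node (.node (.leaf 9947) (.leaf 6461)) (.node (.leaf 13215) (.leaf 5595)))) (.node (.node (.node (.leaf 7813) (.leaf 12152)) (.node (.leaf 6255) (.leaf 5758))) (.node (.node (.leaf 1376) (.leaf 10340)) (.leaf 11774))))) (.node (.node (.node (.node (.node (.leaf 12674) (.leaf 230)) (.node (.leaf 11004) (.leaf 4059))) (.node (.node (.leaf 4806) (.leaf 2166)) (.node (.leaf 4102) (.leaf 118)))) (.node (.node (.node (.leaf 12299) (.leaf 14508)) (.node (.leaf 15289) (.leaf 1453))) (.node (.node (.leaf 2656) (.leaf 13602)) (.node (.leaf 4214) (.leaf 14913))))) (.node (.node (.node (.node (.leaf 3375) (.leaf 4179)) (.node (.leaf 4073) (.leaf 10251))) (.node (.node (.leaf 5461) (.leaf 7427)) (.node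 (.leaf 1568) (.leaf 4509)))) (.node (.node (.node (.leaf 12121) (.leaf 3577)) (.node (.leaf 2834) (.leaf 6744))) (.node (.node (.leaf 9484) (.leaf 9515)) (.leaf 7801))))))))))

def lineOrder1 : Tree (ℕ) :=
  (.node (.node (.node (.node (.node (.node (.node (.node (.node (.node (.leaf 14771) (.leaf 296)) (.node (.leaf 4008) (.leaf 34))) (.node (.node (.leaf 11950) (.leaf 15310)) (.node (.leaf 14906) (.leaf 3506)))) (.node (.node (.node (.leaf 9459) (.leaf 13053)) (.node (.leaf 48) (.leaf 14390))) (.node (.node (.leaf 98) (.leaf 813)) (.node (.leaf 10826) (.leaf 9758))))) (.node (.node (.node (.node (.leaf 5345) (.leaf 4132)) (.node (.leaf 12090) (.leaf 7340))) (.node (.node (.leaf 1482) (.leaf 12768)) (.node (.leaf 9634) (.leaf 1875)))) (.node (.node (.node (.leaf 891) (.leaf 640)) (.node (.leaf 7162) (.leaf 12953))) (.node (.node (.leaf 4203) (.leaf 9785)) (.node (.leaf 14766) (.leaf 7071)))))) (.node (.node (.node (.node (.node (.leaf 12313) (.leaf 12568)) (.node (.leaf 3130) (.leaf 1617))) (.node (.node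 (.leaf 8720) (.leaf 14514)) (.node (.leaf 299) (.leaf 8249)))) (.node (.node (.node (.leaf 5249) (.leaf 15602)) (.node (.leaf 1055) (.leaf 11800))) (.node (.node (.leaf 8428) (.leaf 3942)) (.node (.leaf 5907) (.leaf 3304))))) (.node (.node (.node (.node (.leaf 10465) (.leaf 11737)) (.node (.leaf 8767) (.leaf 4402))) (.node (.node (.leaf 5640) (.leaf 7015)) (.node (.leaf 5413) (.leaf 2336)))) (.node (.node (.node (.leaf 9744) (.leaf 8823)) (.node (.leaf 7967) (.leaf 5961))) (.node (.node (.leaf 3245) (.leaf 5464)) (.leaf 14907)))))) (.node (.node (.node (.node (.node (.node (.leaf 2530) (.leaf 3509)) (.node (.leaf 4859) (.leaf 2563))) (.node (.node (.leaf 6589) (.leaf 2897)) (.node (.leaf 11124) (.leaf 9030)))) (.node (.node (.node (.leaf 13377) (.leaf 12307)) (.node (.leaf 13534) (.leaf 2793))) (.node (.node (.leaf 1812) (.leaf 12612)) (.node (.leaf 1309) (.leaf 7717))))) (.node (.node (.node (.node (.leaf 5728) (.leaf 3518)) (.node (.leaf 15411) (.leaf 3643))) (.node (.node (.leaf 9903) (.leaf 10266))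 (.node (.leaf 5139) (.leaf 12490)))) (.node (.node (.node (.leaf 10099) (.leaf 9846)) (.node (.leaf 4502) (.leaf 6634))) (.node (.node (.leaf 10520) (.leaf 5118)) (.leaf 3874))))) (.node (.node (.node (.node (.node (.leaf 12995) (.leaf 6210)) (.node (.leaf 818) (.leaf 8716))) (.node (.node (.leaf 7081) (.leaf 14582)) (.node (.leaf 11729) (.leaf 15389)))) (.node (.node (.node (.leaf 11332) (.leaf 5655)) (.node (.leaf 7669) (.leaf 8920))) (.node (.node (.leaf 7542) (.leaf 154)) (.node (.leaf 10536) (.leaf 4887))))) (.node (.node (.node (.node (.leaf 1730) (.leaf 13575)) (.node (.leaf 15677) (.leaf 12540))) (.node (.node (.leaf 320) (.leaf 6825)) (.node (.leaf 10199) (.leaf 3543)))) (.node (.node (.node (.leaf 8757) (.leaf 12205)) (.node (.leaf 385) (.leaf 7403))) (.node (.node (.leaf 14017) (.leaf 13870)) (.leaf 8054))))))) (.node (.node (.node (.node (.node (.node (.node (.leaf 10639) (.leaf 9311)) (.node (.leaf 10128) (.leaf 1995))) (.node (.node (.leaf 9990) (.leaf 12400)) (.node (.leaf 1976) (.leaf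 13209)))) (.node (.node (.node (.leaf 2855) (.leaf 12813)) (.node (.leaf 9252) (.leaf 2001))) (.node (.node (.leaf 6519) (.leaf 12838)) (.node (.leaf 9773) (.leaf 14407))))) (.node (.node (.node (.node (.leaf 5983) (.leaf 6962)) (.node (.leaf 11829) (.leaf 7861))) (.node (.node (.leaf 14323) (.leaf 7765)) (.node (.leaf 7632) (.leaf 7069)))) (.node (.node (.node (.leaf 8808) (.leaf 598)) (.node (.leaf 1327) (.leaf 12345))) (.node (.node (.leaf 4501) (.leaf 5079)) (.node (.leaf 13161) (.leaf 3247)))))) (.node (.node (.node (.node (.node (.leaf 7562) (.leaf 9774)) (.node (.leaf 6837) (.leaf 8705))) (.node (.node (.leaf 7733) (.leaf 7544)) (.node (.leaf 788) (.leaf 12633)))) (.node (.node (.node (.leaf 12572) (.leaf 5664)) (.node (.leaf 3287) (.leaf 6895))) (.node (.node (.leaf 2509) (.leaf 8592)) (.node (.leaf 9645) (.leaf 14971))))) (.node (.node (.node (.node (.leaf 15225) (.leaf 12483)) (.node (.leaf 10151) (.leaf 1696))) (.node (.node (.leaf 4134) (.leaf 7393)) (.node (.leaf 14203) (.leaf 10874))))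 (.node (.node (.node (.leaf 3382) (.leaf 6305)) (.node (.leaf 6646) (.leaf 7732))) (.node (.node (.leaf 2574) (.leaf 13180)) (.leaf 3583)))))) (.node (.node (.node (.node (.node (.node (.leaf 391) (.leaf 9936)) (.node (.leaf 4802) (.leaf 10867))) (.node (.node (.leaf 13538) (.leaf 13742)) (.node (.leaf 10489) (.leaf 4520)))) (.node (.node (.node (.leaf 14602) (.leaf 3091)) (.node (.leaf 13897) (.leaf 5767))) (.node (.node (.leaf 6354) (.leaf 8646)) (.node (.leaf 9351) (.leaf 12801))))) (.node (.node (.node (.node (.leaf 1743) (.leaf 12478)) (.node (.leaf 13091) (.leaf 11675))) (.node (.node (.leaf 7145) (.leaf 4294)) (.node (.leaf 6902) (.leaf 11485)))) (.node (.node (.node (.leaf 656) (.leaf 66)) (.node (.leaf 322) (.leaf 13731))) (.node (.node (.leaf 8976) (.leaf 3765)) (.leaf 2801))))) (.node (.node (.node (.node (.node (.leaf 9699) (.leaf 3234)) (.node (.leaf 3117) (.leaf 1474))) (.node (.node (.leaf 12155) (.leaf 11302)) (.node (.leaf 53) (.leaf 319)))) (.node (.node (.node (.leaf 10082) (.leaf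 11370)) (.node (.leaf 4511) (.leaf 13624))) (.node (.node (.leaf 347) (.leaf 12340)) (.node (.leaf 7756) (.leaf 5845))))) (.node (.node (.node (.node (.leaf 6432) (.leaf 9216)) (.node (.leaf 14146) (.leaf 14252))) (.node (.node (.leaf 3295) (.leaf 2995)) (.node (.leaf 11200) (.leaf 14460)))) (.node (.node (.node (.leaf 751) (.leaf 5860)) (.node (.leaf 13751) (.leaf 4456))) (.node (.node (.leaf 15282) (.leaf 15470)) (.leaf 5805)))))))) (.node (.node (.node (.node (.node (.node (.node (.node (.leaf 8844) (.leaf 9788)) (.node (.leaf 11397) (.leaf 3810))) (.node (.node (.leaf 15498) (.leaf 14902)) (.node (.leaf 8653) (.leaf 199)))) (.node (.node (.node (.leaf 2728) (.leaf 10985)) (.node (.leaf 6311) (.leaf 12637))) (.node (.node (.leaf 12731) (.leaf 5416)) (.node (.leaf 313) (.leaf 12209))))) (.node (.node (.node (.node (.leaf 12974) (.leaf 13511)) (.node (.leaf 8609) (.leaf 2413))) (.node (.node (.leaf 3328) (.leaf 15284)) (.node (.leaf 8236) (.leaf 2921)))) (.node (.node (.node (.leaf 15487) (.leaf 5215))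 (.node (.leaf 11925) (.leaf 13956))) (.node (.node (.leaf 3542) (.leaf 14892)) (.node (.leaf 1005) (.leaf 5470)))))) (.node (.node (.node (.node (.node (.leaf 9) (.leaf 4879)) (.node (.leaf 2246) (.leaf 15054))) (.node (.node (.leaf 12178) (.leaf 7772)) (.node (.leaf 4410) (.leaf 8516)))) (.node (.node (.node (.leaf 6325) (.leaf 6774)) (.node (.leaf 1215) (.leaf 8423))) (.node (.node (.leaf 9389) (.leaf 13948)) (.node (.leaf 8876) (.leaf 10622))))) (.node (.node (.node (.node (.leaf 4631) (.leaf 9042)) (.node (.leaf 8744) (.leaf 6074))) (.node (.node (.leaf 2758) (.leaf 3430)) (.node (.leaf 2694) (.leaf 1333)))) (.node (.node (.node (.leaf 15917) (.leaf 2799)) (.node (.leaf 10270) (.leaf 9020))) (.node (.node (.leaf 3766) (.leaf 14903)) (.leaf 2830)))))) (.node (.node (.node (.node (.node (.node (.leaf 1763) (.leaf 13397)) (.node (.leaf 678) (.leaf 4136))) (.node (.node (.leaf 4201) (.leaf 5630)) (.node (.leaf 9993) (.leaf 5615)))) (.node (.node (.node (.leaf 14310) (.leaf 3511)) (.node (.leaf 3424)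 (.leaf 2481))) (.node (.node (.leaf 2665) (.leaf 7792)) (.node (.leaf 3357) (.leaf 9906))))) (.node (.node (.node (.node (.leaf 1738) (.leaf 7932)) (.node (.leaf 12825) (.leaf 15561))) (.node (.node (.leaf 4053) (.leaf 6252)) (.node (.leaf 330) (.leaf 9154)))) (.node (.node (.node (.leaf 10177) (.leaf 1751)) (.node (.leaf 8111) (.leaf 3033))) (.node (.node (.leaf 3455) (.leaf 1912)) (.leaf 5522))))) (.node (.node (.node (.node (.node (.leaf 15481) (.leaf 5899)) (.node (.leaf 3326) (.leaf 13129))) (.node (.node (.leaf 6764) (.leaf 10331)) (.node (.leaf 4567) (.leaf 15724)))) (.node (.node (.node (.leaf 9691) (.leaf 10181)) (.node (.leaf 1665) (.leaf 14114))) (.node (.node (.leaf 6488) (.leaf 8110)) (.node (.leaf 11842) (.leaf 3975))))) (.node (.node (.node (.node (.leaf 9804) (.leaf 574)) (.node (.leaf 8087) (.leaf 8248))) (.node (.node (.leaf 7708) (.leaf 3779)) (.node (.leaf 15510) (.leaf 14443)))) (.node (.node (.node (.leaf 8789) (.leaf 8055)) (.node (.leaf 4187) (.leaf 524))) (.node (.node (.leaf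 12733) (.leaf 4690)) (.leaf 13128))))))) (.node (.node (.node (.node (.node (.node (.node (.leaf 11156) (.leaf 2424)) (.node (.leaf 10187) (.leaf 11549))) (.node (.node (.leaf 11115) (.leaf 8234)) (.node (.leaf 15676) (.leaf 15834)))) (.node (.node (.node (.leaf 12996) (.leaf 7716)) (.node (.leaf 9620) (.leaf 5770))) (.node (.node (.leaf 2293) (.leaf 5572)) (.node (.leaf 647) (.leaf 2791))))) (.node (.node (.node (.node (.leaf 10100) (.leaf 3098)) (.node (.leaf 12035) (.leaf 13349))) (.node (.node (.leaf 7276) (.leaf 6912)) (.node (.leaf 12018) (.leaf 11363)))) (.node (.node (.node (.leaf 13484) (.leaf 15855)) (.node (.leaf 4495) (.leaf 10232))) (.node (.node (.leaf 703) (.leaf 12641)) (.leaf 9658))))) (.node (.node (.node (.node (.node (.leaf 9803) (.leaf 10674)) (.node (.leaf 10853) (.leaf 13045))) (.node (.node (.leaf 8412) (.leaf 6217)) (.node (.leaf 14466) (.leaf 8613)))) (.node (.node (.node (.leaf 1741) (.leaf 8113)) (.node (.leaf 11996) (.leaf 7423))) (.node (.node (.leaf 4911) (.leaf 15608))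 (.node (.leaf 11519) (.leaf 13980))))) (.node (.node (.node (.node (.leaf 280) (.leaf 8618)) (.node (.leaf 10994) (.leaf 5273))) (.node (.node (.leaf 13791) (.leaf 173)) (.node (.leaf 11773) (.leaf 2154)))) (.node (.node (.node (.leaf 6240) (.leaf 7142)) (.node (.leaf 5358) (.leaf 10681))) (.node (.node (.leaf 15588) (.leaf 6031)) (.leaf 13997)))))) (.node (.node (.node (.node (.node (.node (.leaf 1948) (.leaf 6459)) (.node (.leaf 7623) (.leaf 987))) (.node (.node (.leaf 15930) (.leaf 1062)) (.node (.leaf 10064) (.leaf 15357)))) (.node (.node (.node (.leaf 13827) (.leaf 6313)) (.node (.leaf 7074) (.leaf 6995))) (.node (.node (.leaf 8239) (.leaf 3821)) (.node (.leaf 983) (.leaf 4371))))) (.node (.node (.node (.node (.leaf 11534) (.leaf 711)) (.node (.leaf 11952) (.leaf 5008))) (.node (.node (.leaf 13123) (.leaf 3331)) (.node (.leaf 12831) (.leaf 10721)))) (.node (.node (.node (.leaf 12675) (.leaf 7051)) (.node (.leaf 11563) (.leaf 15504))) (.node (.node (.leaf 8277) (.leaf 15864)) (.leaf 3137))))) (.node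 (.node (.node (.node (.node (.leaf 2254) (.leaf 13933)) (.node (.leaf 14871) (.leaf 9721))) (.node (.node (.leaf 14072) (.leaf 10363)) (.node (.leaf 3873) (.leaf 2133)))) (.node (.node (.node (.leaf 12432) (.leaf 3818)) (.node (.leaf 6353) (.leaf 7502))) (.node (.node (.leaf 8067) (.leaf 2933)) (.node (.leaf 6927) (.leaf 106))))) (.node (.node (.node (.node (.leaf 750) (.leaf 14424)) (.node (.leaf 13025) (.leaf 6581))) (.node (.node (.leaf 11899) (.leaf 4793)) (.node (.leaf 15458) (.leaf 425)))) (.node (.node (.node (.leaf 10840) (.leaf 8173)) (.node (.leaf 13189) (.leaf 12985))) (.node (.node (.leaf 5604) (.leaf 13335)) (.leaf 8543))))))))) (.node (.node (.node (.node (.node (.node (.node (.node (.node (.leaf 10637) (.leaf 2955)) (.node (.leaf 5968) (.leaf 975))) (.node (.node (.leaf 10550) (.leaf 9162)) (.node (.leaf 8338) (.leaf 6260)))) (.node (.node (.node (.leaf 2231) (.leaf 15644)) (.node (.leaf 5684) (.leaf 837))) (.node (.node (.leaf 10619) (.leaf 14926)) (.node (.leaf 6029) (.leaf 9669)))))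 (.node (.node (.node (.node (.leaf 1157) (.leaf 14726)) (.node (.leaf 2312) (.leaf 7726))) (.node (.node (.leaf 4110) (.leaf 12322)) (.node (.leaf 9561) (.leaf 6573)))) (.node (.node (.node (.leaf 6242) (.leaf 15523)) (.node (.leaf 3355) (.leaf 14031))) (.node (.node (.leaf 14001) (.leaf 12212)) (.node (.leaf 8560) (.leaf 8893)))))) (.node (.node (.node (.node (.node (.leaf 5342) (.leaf 13268)) (.node (.leaf 3871) (.leaf 8288))) (.node (.node (.leaf 11283) (.leaf 12686)) (.node (.leaf 14480) (.leaf 3615)))) (.node (.node (.node (.leaf 2066) (.leaf 10543)) (.node (.leaf 3447) (.leaf 6008))) (.node (.node (.leaf 978) (.leaf 13475)) (.node (.leaf 9720) (.leaf 6945))))) (.node (.node (.node (.node (.leaf 15795) (.leaf 13056)) (.node (.leaf 3867) (.leaf 5685))) (.node (.node (.leaf 6472) (.leaf 3792)) (.node (.leaf 4535) (.leaf 14189)))) (.node (.node (.node (.leaf 4033) (.leaf 10049)) (.node (.leaf 8307) (.leaf 10268))) (.node (.node (.leaf 13226) (.leaf 15060)) (.leaf 6975)))))) (.node (.node (.node (.node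 (.node (.node (.leaf 13614) (.leaf 7481)) (.node (.leaf 4415) (.leaf 4946))) (.node (.node (.leaf 6812) (.leaf 4642)) (.node (.leaf 11248) (.leaf 14618)))) (.node (.node (.node (.leaf 15485) (.leaf 9449)) (.node (.leaf 10243) (.leaf 4597))) (.node (.node (.leaf 4517) (.leaf 14541)) (.node (.leaf 5882) (.leaf 13561))))) (.node (.node (.node (.node (.leaf 3124) (.leaf 12800)) (.node (.leaf 3288) (.leaf 9153))) (.node (.node (.leaf 1051) (.leaf 7525)) (.node (.leaf 12717) (.leaf 15234)))) (.node (.node (.node (.leaf 5090) (.leaf 8290)) (.node (.leaf 10594) (.leaf 855))) (.node (.node (.leaf 13935) (.leaf 13744)) (.leaf 2892))))) (.node (.node (.node (.node (.node (.leaf 7531) (.leaf 12553)) (.node (.leaf 14140) (.leaf 12866))) (.node (.node (.leaf 12473) (.leaf 11628)) (.node (.leaf 2879) (.leaf 833)))) (.node (.node (.node (.leaf 13371) (.leaf 8157)) (.node (.leaf 14837) (.leaf 12026))) (.node (.node (.leaf 10551) (.leaf 15902)) (.node (.leaf 12426) (.leaf 7088))))) (.node (.node (.node (.node (.leaf 7749)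 (.leaf 1605)) (.node (.leaf 8168) (.leaf 12142))) (.node (.node (.leaf 7642) (.leaf 2570)) (.node (.leaf 5867) (.leaf 909)))) (.node (.node (.node (.leaf 2552) (.leaf 13902)) (.node (.leaf 5875) (.leaf 2389))) (.node (.node (.leaf 3290) (.leaf 5945)) (.leaf 9723))))))) (.node (.node (.node (.node (.node (.node (.node (.leaf 10636) (.leaf 6048)) (.node (.leaf 5221) (.leaf 4358))) (.node (.node (.leaf 14000) (.leaf 2102)) (.node (.leaf 1409) (.leaf 2174)))) (.node (.node (.node (.leaf 10108) (.leaf 10265)) (.node (.leaf 684) (.leaf 1651))) (.node (.node (.leaf 823) (.leaf 7247)) (.node (.leaf 2135) (.leaf 9378))))) (.node (.node (.node (.node (.leaf 12310) (.leaf 4795)) (.node (.leaf 10019) (.leaf 14869))) (.node (.node (.leaf 9547) (.leaf 5600)) (.node (.leaf 13720) (.leaf 3948)))) (.node (.node (.node (.leaf 1350) (.leaf 10296)) (.node (.leaf 1396) (.leaf 10779))) (.node (.node (.leaf 4529) (.leaf 1120)) (.node (.leaf 5700) (.leaf 1221)))))) (.node (.node (.node (.node (.node (.leaf 11538) (.leaf 3221))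 (.node (.leaf 8735) (.leaf 14698))) (.node (.node (.leaf 980) (.leaf 4250)) (.node (.leaf 4018) (.leaf 5505)))) (.node (.node (.node (.leaf 11493) (.leaf 10586)) (.node (.leaf 5627) (.leaf 14208))) (.node (.node (.leaf 6000) (.leaf 237)) (.node (.leaf 1855) (.leaf 4180))))) (.node (.node (.node (.node (.leaf 12052) (.leaf 9712)) (.node (.leaf 11658) (.leaf 11988))) (.node (.node (.leaf 13910) (.leaf 799)) (.node (.leaf 3728) (.leaf 2831)))) (.node (.node (.node (.leaf 12430) (.leaf 2484)) (.node (.leaf 14418) (.leaf 3953))) (.node (.node (.leaf 6827) (.leaf 8445)) (.leaf 1562)))))) (.node (.node (.node (.node (.node (.node (.leaf 14998) (.leaf 8356)) (.node (.leaf 1530) (.leaf 1675))) (.node (.node (.leaf 699) (.leaf 10162)) (.node (.leaf 7150) (.leaf 4940)))) (.node (.node (.node (.leaf 5361) (.leaf 15433)) (.node (.leaf 3654) (.leaf 2183))) (.node (.node (.leaf 7193) (.leaf 12111)) (.node (.leaf 11313) (.leaf 14828))))) (.node (.node (.node (.node (.leaf 1279) (.leaf 12505)) (.node (.leaf 11514) (.leaf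 2299))) (.node (.node (.leaf 2090) (.leaf 721)) (.node (.leaf 13588) (.leaf 11221)))) (.node (.node (.node (.leaf 8776) (.leaf 11078)) (.node (.leaf 3592) (.leaf 12352))) (.node (.node (.leaf 7687) (.leaf 5183)) (.leaf 13478))))) (.node (.node (.node (.node (.node (.leaf 11536) (.leaf 4601)) (.node (.leaf 10518) (.leaf 15140))) (.node (.node (.leaf 2404) (.leaf 262)) (.node (.leaf 7903) (.leaf 15473)))) (.node (.node (.node (.leaf 4674) (.leaf 3751)) (.node (.leaf 5202) (.leaf 7908))) (.node (.node (.leaf 9137) (.leaf 4580)) (.node (.leaf 5977) (.leaf 13929))))) (.node (.node (.node (.node (.leaf 8483) (.leaf 8061)) (.node (.leaf 5515) (.leaf 5822))) (.node (.node (.leaf 4743) (.leaf 11180)) (.node (.leaf 790) (.leaf 10542)))) (.node (.node (.node (.leaf 12051) (.leaf 1567)) (.node (.leaf 5428) (.leaf 9125))) (.node (.node (.leaf 15104) (.leaf 4577)) (.leaf 11146)))))))) (.node (.node (.node (.node (.node (.node (.node (.node (.leaf 10631) (.leaf 1898)) (.node (.leaf 2464) (.leaf 3540))) (.node (.node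 (.leaf 11041) (.leaf 12494)) (.node (.leaf 10349) (.leaf 2989)))) (.node (.node (.node (.leaf 13030) (.leaf 14962)) (.node (.leaf 12669) (.leaf 1056))) (.node (.node (.leaf 14645) (.leaf 9280)) (.node (.leaf 7595) (.leaf 13297))))) (.node (.node (.node (.node (.leaf 8804) (.leaf 6393)) (.node (.leaf 10768) (.leaf 8011))) (.node (.node (.leaf 13978) (.leaf 9021)) (.node (.leaf 3131) (.leaf 11065)))) (.node (.node (.node (.leaf 11492) (.leaf 3858)) (.node (.leaf 12961) (.leaf 13685))) (.node (.node (.leaf 8122) (.leaf 10211)) (.node (.leaf 3787) (.leaf 10221)))))) (.node (.node (.node (.node (.node (.leaf 10081) (.leaf 3802)) (.node (.leaf 11069) (.leaf 15923))) (.node (.node (.leaf 7893) (.leaf 12277)) (.node (.leaf 885) (.leaf 12522)))) (.node (.node (.node (.leaf 7817) (.leaf 668)) (.node (.leaf 6292) (.leaf 8164))) (.node (.node (.leaf 4360) (.leaf 7066)) (.node (.leaf 15132) (.leaf 670))))) (.node (.node (.node (.node (.leaf 12122) (.leaf 9077)) (.node (.leaf 15827) (.leaf 14570))) (.node (.node (.leaf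 14727) (.leaf 4725)) (.node (.leaf 7422) (.leaf 9827)))) (.node (.node (.node (.leaf 15797) (.leaf 6333)) (.node (.leaf 14509) (.leaf 4496))) (.node (.node (.leaf 6790) (.leaf 10308)) (.leaf 12440)))))) (.node (.node (.node (.node (.node (.node (.leaf 13616) (.leaf 15934)) (.node (.leaf 15802) (.leaf 14364))) (.node (.node (.leaf 2499) (.leaf 13772)) (.node (.leaf 8250) (.leaf 6771)))) (.node (.node (.node (.leaf 12627) (.leaf 5386)) (.node (.leaf 5058) (.leaf 12581))) (.node (.node (.leaf 11366) (.leaf 7484)) (.node (.leaf 14757) (.leaf 14117))))) (.node (.node (.node (.node (.leaf 15799) (.leaf 14571)) (.node (.leaf 5779) (.leaf 7218))) (.node (.node (.leaf 13845) (.leaf 11978)) (.node (.leaf 2603) (.leaf 9796)))) (.node (.node (.node (.leaf 5724) (.leaf 14547)) (.node (.leaf 12076) (.leaf 7929))) (.node (.node (.leaf 3477) (.leaf 13774)) (.leaf 7508))))) (.node (.node (.node (.node (.node (.leaf 5367) (.leaf 11575)) (.node (.leaf 7118) (.leaf 13097))) (.node (.node (.leaf 5352) (.leaf 2096)) (.node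 (.leaf 12366) (.leaf 6187)))) (.node (.node (.node (.leaf 15486) (.leaf 9867)) (.node (.leaf 7062) (.leaf 6940))) (.node (.node (.leaf 10893) (.leaf 15354)) (.node (.leaf 8158) (.leaf 8282))))) (.node (.node (.node (.node (.leaf 14990) (.leaf 6541)) (.node (.leaf 2085) (.leaf 12872))) (.node (.node (.leaf 15700) (.leaf 4546)) (.node (.leaf 2381) (.leaf 509)))) (.node (.node (.node (.leaf 3912) (.leaf 15545)) (.node (.leaf 11266) (.leaf 14188))) (.node (.node (.leaf 5538) (.leaf 6181)) (.leaf 12823))))))) (.node (.node (.node (.node (.node (.node (.node (.leaf 1769) (.leaf 6671)) (.node (.leaf 11846) (.leaf 5618))) (.node (.node (.leaf 6499) (.leaf 10380)) (.node (.leaf 10992) (.leaf 8903)))) (.node (.node (.node (.leaf 5936) (.leaf 14578)) (.node (.leaf 7314) (.leaf 3552))) (.node (.node (.leaf 15051) (.leaf 693)) (.node (.leaf 14885) (.leaf 14650))))) (.node (.node (.node (.node (.leaf 8623) (.leaf 5673)) (.node (.leaf 5491) (.leaf 8279))) (.node (.node (.leaf 8184) (.leaf 13926)) (.node (.leaf 6666)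 (.leaf 2664)))) (.node (.node (.node (.leaf 8588) (.leaf 13542)) (.node (.leaf 10541) (.leaf 1892))) (.node (.node (.leaf 11578) (.leaf 5037)) (.leaf 11860))))) (.node (.node (.node (.node (.node (.leaf 10831) (.leaf 2769)) (.node (.leaf 2279) (.leaf 4147))) (.node (.node (.leaf 3974) (.leaf 3037)) (.node (.leaf 8559) (.leaf 9136)))) (.node (.node (.node (.leaf 4084) (.leaf 4253)) (.node (.leaf 13298) (.leaf 5446))) (.node (.node (.leaf 6724) (.leaf 10567)) (.node (.leaf 2469) (.leaf 920))))) (.node (.node (.node (.node (.leaf 1555) (.leaf 9702)) (.node (.leaf 132) (.leaf 14232))) (.node (.node (.leaf 11579) (.leaf 6506)) (.node (.leaf 9343) (.leaf 15709)))) (.node (.node (.node (.leaf 7811) (.leaf 13296)) (.node (.leaf 569) (.leaf 2267))) (.node (.node (.leaf 635) (.leaf 13013)) (.leaf 8440)))))) (.node (.node (.node (.node (.node (.node (.leaf 14281) (.leaf 7049)) (.node (.leaf 3943) (.leaf 4881))) (.node (.node (.leaf 7791) (.leaf 12520)) (.node (.leaf 12144) (.leaf 12210)))) (.node (.node (.node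 (.leaf 1358) (.leaf 6396)) (.node (.leaf 6679) (.leaf 6649))) (.node (.node (.leaf 6282) (.leaf 8707)) (.node (.leaf 242) (.leaf 3050))))) (.node (.node (.node (.node (.leaf 4677) (.leaf 13924)) (.node (.leaf 14097) (.leaf 8321))) (.node (.node (.leaf 4230) (.leaf 2784)) (.node (.leaf 4952) (.leaf 12897)))) (.node (.node (.node (.leaf 8585) (.leaf 14486)) (.node (.leaf 5480) (.leaf 9463))) (.node (.node (.leaf 14430) (.leaf 521)) (.leaf 7643))))) (.node (.node (.node (.node (.node (.leaf 15398) (.leaf 504)) (.node (.leaf 7556) (.leaf 14652))) (.node (.node (.leaf 5192) (.leaf 1417)) (.node (.leaf 14304) (.leaf 13005)))) (.node (.node (.node (.leaf 2061) (.leaf 7559)) (.node (.leaf 13987) (.leaf 2243))) (.node (.node (.leaf 15872) (.leaf 6639)) (.node (.leaf 6495) (.leaf 13221))))) (.node (.node (.node (.node (.leaf 3916) (.leaf 9027)) (.node (.leaf 14579) (.leaf 9652))) (.node (.node (.leaf 13170) (.leaf 12182)) (.node (.leaf 4724) (.leaf 3533)))) (.node (.node (.node (.leaf 15212) (.leaf 12449)) (.node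 (.leaf 80) (.leaf 3045))) (.node (.node (.leaf 15618) (.leaf 5927)) (.leaf 1851))))))))))

def lineOrder2 : Tree (ℕ) :=
  (.node (.node (.node (.node (.node (.node (.node (.node (.node (.node (.leaf 10413) (.leaf 13316)) (.node (.leaf 10261) (.leaf 5760))) (.node (.node (.leaf 12219) (.leaf 2839)) (.node (.leaf 3608) (.leaf 1951)))) (.node (.node (.node (.leaf 5173) (.leaf 910)) (.node (.leaf 6075) (.leaf 9118))) (.node (.node (.leaf 15861) (.leaf 13278)) (.node (.leaf 9298) (.leaf 1058))))) (.node (.node (.node (.node (.leaf 8773) (.leaf 227)) (.node (.leaf 2508) (.leaf 6627))) (.node (.node (.leaf 11900) (.leaf 5771)) (.node (.leaf 13474) (.leaf 9380)))) (.node (.node (.node (.leaf 10906) (.leaf 13339)) (.node (.leaf 8281) (.leaf 7068))) (.node (.node (.leaf 5077) (.leaf 4183)) (.node (.leaf 4198) (.leaf 12718)))))) (.node (.node (.node (.node (.node (.leaf 12058) (.leaf 9815)) (.node (.leaf 10401) (.leaf 6095))) (.node (.node (.leaf 10116) (.leaf 15874)) (.node (.leaf 2430) (.leaf 13969)))) (.node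 (.node (.node (.leaf 8486) (.leaf 3672)) (.node (.leaf 8478) (.leaf 14220))) (.node (.node (.leaf 9471) (.leaf 5956)) (.node (.leaf 14291) (.leaf 7944))))) (.node (.node (.node (.node (.leaf 14023) (.leaf 10715)) (.node (.leaf 8564) (.leaf 2840))) (.node (.node (.leaf 9660) (.leaf 7557)) (.node (.leaf 11617) (.leaf 7289)))) (.node (.node (.node (.leaf 11533) (.leaf 7584)) (.node (.leaf 4442) (.leaf 14756))) (.node (.node (.leaf 5134) (.leaf 8656)) (.leaf 3603)))))) (.node (.node (.node (.node (.node (.node (.leaf 11150) (.leaf 13243)) (.node (.leaf 2435) (.leaf 10581))) (.node (.node (.leaf 14058) (.leaf 4839)) (.node (.leaf 6532) (.leaf 13934)))) (.node (.node (.node (.leaf 10101) (.leaf 368)) (.node (.leaf 3832) (.leaf 9959))) (.node (.node (.leaf 11692) (.leaf 9330)) (.node (.leaf 14426) (.leaf 15327))))) (.node (.node (.node (.node (.leaf 1359) (.leaf 15191)) (.node (.leaf 13127) (.leaf 12751))) (.node (.node (.leaf 15119) (.leaf 9970)) (.node (.leaf 14475) (.leaf 15421)))) (.node (.node (.node (.leaf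 12319) (.leaf 8342)) (.node (.leaf 4943) (.leaf 4414))) (.node (.node (.leaf 14611) (.leaf 6923)) (.leaf 13040))))) (.node (.node (.node (.node (.node (.leaf 5099) (.leaf 2298)) (.node (.leaf 4408) (.leaf 11434))) (.node (.node (.leaf 9355) (.leaf 6985)) (.node (.leaf 15907) (.leaf 10250)))) (.node (.node (.node (.leaf 12057) (.leaf 13065)) (.node (.leaf 12863) (.leaf 5999))) (.node (.node (.leaf 10996) (.leaf 9193)) (.node (.leaf 15887) (.leaf 4000))))) (.node (.node (.node (.node (.leaf 10749) (.leaf 1060)) (.node (.leaf 12521) (.leaf 6725))) (.node (.node (.leaf 900) (.leaf 9120)) (.node (.leaf 11460) (.leaf 2815)))) (.node (.node (.node (.leaf 11531) (.leaf 5777)) (.node (.leaf 5944) (.leaf 2332))) (.node (.node (.leaf 13198) (.leaf 253)) (.leaf 8797))))))) (.node (.node (.node (.node (.node (.node (.node (.leaf 12929) (.leaf 3681)) (.node (.leaf 12357) (.leaf 75))) (.node (.node (.leaf 15120) (.leaf 13471)) (.node (.leaf 9986) (.leaf 691)))) (.node (.node (.node (.leaf 15484) (.leaf 12504)) (.node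 (.leaf 8153) (.leaf 12948))) (.node (.node (.leaf 11228) (.leaf 3327)) (.node (.leaf 6999) (.leaf 5552))))) (.node (.node (.node (.node (.leaf 4675) (.leaf 168)) (.node (.leaf 9771) (.leaf 3881))) (.node (.node (.leaf 4378) (.leaf 6088)) (.node (.leaf 3631) (.leaf 7196)))) (.node (.node (.node (.leaf 3125) (.leaf 13726)) (.node (.leaf 1674) (.leaf 295))) (.node (.node (.leaf 4949) (.leaf 4204)) (.node (.leaf 7541) (.leaf 8298)))))) (.node (.node (.node (.node (.node (.leaf 2557) (.leaf 6996)) (.node (.leaf 8088) (.leaf 12654))) (.node (.node (.leaf 14534) (.leaf 14816)) (.node (.leaf 4589) (.leaf 1123)))) (.node (.node (.node (.leaf 7740) (.leaf 4608)) (.node (.leaf 11305) (.leaf 15324))) (.node (.node (.leaf 10327) (.leaf 2811)) (.node (.leaf 8406) (.leaf 3926))))) (.node (.node (.node (.node (.leaf 13378) (.leaf 11218)) (.node (.leaf 15154) (.leaf 13024))) (.node (.node (.leaf 1828) (.leaf 15451)) (.node (.leaf 4796) (.leaf 11890)))) (.node (.node (.node (.leaf 14991) (.leaf 11143)) (.node (.leaf 12840)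 (.leaf 3356))) (.node (.node (.leaf 12984) (.leaf 14854)) (.leaf 2338)))))) (.node (.node (.node (.node (.node (.node (.leaf 8842) (.leaf 1983)) (.node (.leaf 14842) (.leaf 15642))) (.node (.node (.leaf 7724) (.leaf 3195)) (.node (.leaf 6847) (.leaf 3679)))) (.node (.node (.node (.leaf 12412) (.leaf 12832)) (.node (.leaf 14436) (.leaf 12562))) (.node (.node (.leaf 3941) (.leaf 8726)) (.node (.leaf 5609) (.leaf 7273))))) (.node (.node (.node (.node (.leaf 10835) (.leaf 10264)) (.node (.leaf 1658) (.leaf 8695))) (.node (.node (.leaf 1343) (.leaf 2503)) (.node (.leaf 9886) (.leaf 11624)))) (.node (.node (.node (.leaf 1152) (.leaf 12343)) (.node (.leaf 13767) (.leaf 5228))) (.node (.node (.leaf 1757) (.leaf 3955)) (.leaf 2107))))) (.node (.node (.node (.node (.node (.leaf 4036) (.leaf 2567)) (.node (.leaf 9738) (.leaf 5497))) (.node (.node (.leaf 14482) (.leaf 7804)) (.node (.leaf 6776) (.leaf 12085)))) (.node (.node (.node (.leaf 15794) (.leaf 9297)) (.node (.leaf 14037) (.leaf 10856))) (.node (.node (.leaf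 12645) (.leaf 13310)) (.node (.leaf 9072) (.leaf 9045))))) (.node (.node (.node (.node (.leaf 4336) (.leaf 8256)) (.node (.leaf 11181) (.leaf 14492))) (.node (.node (.leaf 8028) (.leaf 6599)) (.node (.leaf 9981) (.leaf 2630)))) (.node (.node (.node (.leaf 1647) (.leaf 13992)) (.node (.leaf 6796) (.leaf 171))) (.node (.node (.leaf 6444) (.leaf 7263)) (.leaf 2485)))))))) (.node (.node (.node (.node (.node (.node (.node (.node (.leaf 14746) (.leaf 4185)) (.node (.leaf 10718) (.leaf 7962))) (.node (.node (.leaf 7152) (.leaf 7905)) (.node (.leaf 5465) (.leaf 5135)))) (.node (.node (.node (.leaf 12622) (.leaf 5858)) (.node (.leaf 8183) (.leaf 11119))) (.node (.node (.leaf 3582) (.leaf 9905)) (.node (.leaf 8306) (.leaf 5324))))) (.node (.node (.node (.node (.leaf 5725) (.leaf 4284)) (.node (.leaf 4873) (.leaf 8975))) (.node (.node (.leaf 15092) (.leaf 13072)) (.node (.leaf 11068) (.leaf 11413)))) (.node (.node (.node (.leaf 15790) (.leaf 15478)) (.node (.leaf 5884) (.leaf 3946))) (.node (.node (.leaf 4043)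 (.leaf 4217)) (.node (.leaf 7440) (.leaf 3184)))))) (.node (.node (.node (.node (.node (.leaf 3917) (.leaf 8602)) (.node (.leaf 9637) (.leaf 11865))) (.node (.node (.leaf 12014) (.leaf 3611)) (.node (.leaf 6630) (.leaf 5826)))) (.node (.node (.node (.leaf 4672) (.leaf 700)) (.node (.leaf 14657) (.leaf 1515))) (.node (.node (.leaf 3816) (.leaf 15554)) (.node (.leaf 2163) (.leaf 5197))))) (.node (.node (.node (.node (.leaf 15483) (.leaf 6553)) (.node (.leaf 210) (.leaf 41))) (.node (.node (.leaf 3536) (.leaf 3105)) (.node (.leaf 2203) (.leaf 11207)))) (.node (.node (.node (.leaf 9456) (.leaf 7808)) (.node (.leaf 6455) (.leaf 12965))) (.node (.node (.leaf 3107) (.leaf 14270)) (.leaf 15319)))))) (.node (.node (.node (.node (.node (.node (.leaf 9263) (.leaf 10602)) (.node (.leaf 7057) (.leaf 223))) (.node (.node (.leaf 2527) (.leaf 1400)) (.node (.leaf 15444) (.leaf 12703)))) (.node (.node (.node (.leaf 13039) (.leaf 11183)) (.node (.leaf 12758) (.leaf 14299))) (.node (.node (.leaf 14951) (.leaf 14474)) (.node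 (.leaf 5318) (.leaf 5419))))) (.node (.node (.node (.node (.leaf 10741) (.leaf 13970)) (.node (.leaf 8047) (.leaf 11759))) (.node (.node (.leaf 14659) (.leaf 8601)) (.node (.leaf 3880) (.leaf 12663)))) (.node (.node (.node (.leaf 8805) (.leaf 10435)) (.node (.leaf 1178) (.leaf 11843))) (.node (.node (.leaf 4864) (.leaf 572)) (.leaf 14835))))) (.node (.node (.node (.node (.node (.leaf 15792) (.leaf 4049)) (.node (.leaf 15095) (.leaf 2511))) (.node (.node (.leaf 11735) (.leaf 8798)) (.node (.leaf 10562) (.leaf 12375)))) (.node (.node (.node (.leaf 6700) (.leaf 7922)) (.node (.leaf 12460) (.leaf 2847))) (.node (.node (.leaf 14128) (.leaf 1179)) (.node (.leaf 3032) (.leaf 2229))))) (.node (.node (.node (.node (.leaf 7812) (.leaf 14359)) (.node (.leaf 15750) (.leaf 8201))) (.node (.node (.leaf 15512) (.leaf 14669)) (.node (.leaf 6411) (.leaf 771)))) (.node (.node (.node (.leaf 10088) (.leaf 6608)) (.node (.leaf 9780) (.leaf 10347))) (.node (.node (.leaf 10755) (.leaf 8100)) (.leaf 2513))))))) (.node (.node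 (.node (.node (.node (.node (.node (.leaf 10418) (.leaf 1370)) (.node (.leaf 6518) (.leaf 12362))) (.node (.node (.leaf 10998) (.leaf 15188)) (.node (.leaf 9134) (.leaf 7487)))) (.node (.node (.node (.leaf 14999) (.leaf 10787)) (.node (.leaf 7211) (.leaf 11504))) (.node (.node (.leaf 9793) (.leaf 1953)) (.node (.leaf 10888) (.leaf 9954))))) (.node (.node (.node (.node (.leaf 8581) (.leaf 7476)) (.node (.leaf 1053) (.leaf 3504))) (.node (.node (.leaf 12808) (.leaf 5963)) (.node (.leaf 5373) (.leaf 8269)))) (.node (.node (.node (.leaf 8626) (.leaf 9933)) (.node (.leaf 3549) (.leaf 15807))) (.node (.node (.leaf 236) (.leaf 5106)) (.leaf 11019))))) (.node (.node (.node (.node (.node (.leaf 7818) (.leaf 5159)) (.node (.leaf 13625) (.leaf 8639))) (.node (.node (.leaf 8287) (.leaf 2295)) (.node (.leaf 3005) (.leaf 10790)))) (.node (.node (.node (.leaf 7884) (.leaf 1176)) (.node (.leaf 13092) (.leaf 4323))) (.node (.node (.leaf 13338) (.leaf 3678)) (.node (.leaf 5559) (.leaf 15507))))) (.node (.node (.node (.node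 (.leaf 410) (.leaf 2961)) (.node (.leaf 10929) (.leaf 3726))) (.node (.node (.leaf 6779) (.leaf 7858)) (.node (.leaf 12799) (.leaf 3485)))) (.node (.node (.node (.leaf 6691) (.leaf 8041)) (.node (.leaf 3012) (.leaf 6169))) (.node (.node (.leaf 7850) (.leaf 15085)) (.leaf 5869)))))) (.node (.node (.node (.node (.node (.node (.leaf 9694) (.leaf 13837)) (.node (.leaf 4106) (.leaf 6382))) (.node (.node (.leaf 12241) (.leaf 9361)) (.node (.leaf 5108) (.leaf 14461)))) (.node (.node (.node (.leaf 3913) (.leaf 8187)) (.node (.leaf 8974) (.leaf 9778))) (.node (.node (.leaf 5200) (.leaf 3138)) (.node (.leaf 11945) (.leaf 14326))))) (.node (.node (.node (.node (.leaf 4331) (.leaf 15106)) (.node (.leaf 12217) (.leaf 13510))) (.node (.node (.leaf 8986) (.leaf 6990)) (.node (.leaf 3094) (.leaf 14644)))) (.node (.node (.node (.leaf 12696) (.leaf 2194)) (.node (.leaf 7520) (.leaf 13634))) (.node (.node (.leaf 13390) (.leaf 95)) (.leaf 10404))))) (.node (.node (.node (.node (.node (.leaf 8584) (.leaf 661)) (.node (.leaf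 2452) (.leaf 11501))) (.node (.node (.leaf 1893) (.leaf 3205)) (.node (.leaf 13042) (.leaf 10322)))) (.node (.node (.node (.leaf 7227) (.leaf 6993)) (.node (.leaf 15926) (.leaf 11171))) (.node (.node (.leaf 6920) (.leaf 5562)) (.node (.leaf 10003) (.leaf 12906))))) (.node (.node (.node (.node (.leaf 1351) (.leaf 6443)) (.node (.leaf 2908) (.leaf 9009))) (.node (.node (.leaf 10875) (.leaf 14206)) (.node (.leaf 7396) (.leaf 14371)))) (.node (.node (.node (.leaf 11490) (.leaf 6412)) (.node (.leaf 6416) (.leaf 2575))) (.node (.node (.leaf 4493) (.leaf 5405)) (.leaf 8313))))))))) (.node (.node (.node (.node (.node (.node (.node (.node (.node (.leaf 548) (.leaf 7585)) (.node (.leaf 14753) (.leaf 2185))) (.node (.node (.leaf 11873) (.leaf 1338)) (.node (.leaf 15069) (.leaf 5060)))) (.node (.node (.node (.leaf 1271) (.leaf 5755)) (.node (.leaf 15098) (.leaf 3861))) (.node (.node (.leaf 12384) (.leaf 13111)) (.node (.leaf 1192) (.leaf 5649))))) (.node (.node (.node (.node (.leaf 653) (.leaf 4522)) (.node (.leaf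 729) (.leaf 7635))) (.node (.node (.leaf 2825) (.leaf 12829)) (.node (.leaf 3947) (.leaf 11974)))) (.node (.node (.node (.leaf 6695) (.leaf 4398)) (.node (.leaf 5313) (.leaf 3139))) (.node (.node (.leaf 5509) (.leaf 11957)) (.node (.leaf 11242) (.leaf 6673)))))) (.node (.node (.node (.node (.node (.leaf 758) (.leaf 1516)) (.node (.leaf 13046) (.leaf 7167))) (.node (.node (.leaf 8896) (.leaf 8999)) (.node (.leaf 4186) (.leaf 7778)))) (.node (.node (.node (.leaf 5085) (.leaf 1829)) (.node (.leaf 1629) (.leaf 720))) (.node (.node (.leaf 3334) (.leaf 2247)) (.node (.leaf 11500) (.leaf 5387))))) (.node (.node (.node (.node (.leaf 10087) (.leaf 919)) (.node (.leaf 839) (.leaf 4325))) (.node (.node (.leaf 3546) (.leaf 1782)) (.node (.leaf 1183) (.leaf 14858)))) (.node (.node (.node (.leaf 15374) (.leaf 15812)) (.node (.leaf 4829) (.leaf 9975))) (.node (.node (.leaf 8340) (.leaf 551)) (.leaf 1441)))))) (.node (.node (.node (.node (.node (.node (.leaf 13490) (.leaf 5053)) (.node (.leaf 6635) (.leaf 4507))) (.node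 (.node (.leaf 7987) (.leaf 12458)) (.node (.leaf 1105) (.leaf 10058)))) (.node (.node (.node (.leaf 2854) (.leaf 12809)) (.node (.leaf 8392) (.leaf 15418))) (.node (.node (.leaf 14039) (.leaf 7685)) (.node (.leaf 10263) (.leaf 12188))))) (.node (.node (.node (.node (.leaf 8801) (.leaf 9440)) (.node (.leaf 12859) (.leaf 4306))) (.node (.node (.leaf 8472) (.leaf 8952)) (.node (.leaf 7684) (.leaf 10388)))) (.node (.node (.node (.leaf 12994) (.leaf 2982)) (.node (.leaf 9033) (.leaf 865))) (.node (.node (.leaf 7439) (.leaf 3199)) (.leaf 4830))))) (.node (.node (.node (.node (.node (.leaf 6239) (.leaf 13064)) (.node (.leaf 5270) (.leaf 1054))) (.node (.node (.leaf 9522) (.leaf 10533)) (.node (.leaf 8078) (.leaf 4260)))) (.node (.node (.node (.leaf 15224) (.leaf 2291)) (.node (.leaf 7002) (.leaf 4990))) (.node (.node (.leaf 15405) (.leaf 12196)) (.node (.leaf 6984) (.leaf 9354))))) (.node (.node (.node (.node (.leaf 12577) (.leaf 7910)) (.node (.leaf 6830) (.leaf 13746))) (.node (.node (.leaf 6953) (.leaf 5862))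 (.node (.leaf 2579) (.leaf 329)))) (.node (.node (.node (.leaf 7567) (.leaf 5542)) (.node (.leaf 3365) (.leaf 5424))) (.node (.node (.leaf 5786) (.leaf 384)) (.leaf 11503))))))) (.node (.node (.node (.node (.node (.node (.node (.leaf 2536) (.leaf 8378)) (.node (.leaf 13738) (.leaf 327))) (.node (.node (.leaf 8748) (.leaf 2355)) (.node (.leaf 5639) (.leaf 14540)))) (.node (.node (.node (.leaf 13372) (.leaf 9973)) (.node (.leaf 3846) (.leaf 13098))) (.node (.node (.leaf 10804) (.leaf 8375)) (.node (.leaf 10329) (.leaf 12827))))) (.node (.node (.node (.node (.leaf 10090) (.leaf 15436)) (.node (.leaf 643) (.leaf 10291))) (.node (.node (.leaf 14821) (.leaf 7082)) (.node (.leaf 2981) (.leaf 6355)))) (.node (.node (.node (.leaf 5721) (.leaf 8364)) (.node (.leaf 14633) (.leaf 4807))) (.node (.node (.leaf 12070) (.leaf 2395)) (.node (.leaf 14511) (.leaf 5057)))))) (.node (.node (.node (.node (.node (.leaf 8752) (.leaf 2466)) (.node (.leaf 6595) (.leaf 3826))) (.node (.node (.leaf 5844) (.leaf 860)) (.node (.leaf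 12162) (.leaf 13748)))) (.node (.node (.node (.leaf 10843) (.leaf 11193)) (.node (.leaf 8548) (.leaf 10511))) (.node (.node (.leaf 4871) (.leaf 7431)) (.node (.leaf 5432) (.leaf 12154))))) (.node (.node (.node (.node (.leaf 11337) (.leaf 11353)) (.node (.leaf 9716) (.leaf 5514))) (.node (.node (.leaf 5454) (.leaf 13405)) (.node (.leaf 371) (.leaf 4746)))) (.node (.node (.node (.leaf 7229) (.leaf 5804)) (.node (.leaf 11911) (.leaf 5189))) (.node (.node (.leaf 6410) (.leaf 2153)) (.leaf 4728)))))) (.node (.node (.node (.node (.node (.node (.leaf 3387) (.leaf 6259)) (.node (.leaf 14153) (.leaf 14940))) (.node (.node (.leaf 8535) (.leaf 6805)) (.node (.leaf 15492) (.leaf 4508)))) (.node (.node (.node (.leaf 7028) (.leaf 4794)) (.node (.leaf 3470) (.leaf 1883))) (.node (.node (.leaf 4645) (.leaf 11867)) (.node (.leaf 10716) (.leaf 9542))))) (.node (.node (.node (.node (.leaf 898) (.leaf 12816)) (.node (.leaf 2091) (.leaf 8156))) (.node (.node (.leaf 12940) (.leaf 10320)) (.node (.leaf 11903) (.leaf 10186))))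 (.node (.node (.node (.leaf 1644) (.leaf 3688)) (.node (.leaf 6197) (.leaf 15886))) (.node (.node (.leaf 14549) (.leaf 6102)) (.leaf 12409))))) (.node (.node (.node (.node (.node (.leaf 9745) (.leaf 5665)) (.node (.leaf 14201) (.leaf 1850))) (.node (.node (.leaf 784) (.leaf 9644)) (.node (.leaf 6938) (.leaf 14045)))) (.node (.node (.node (.leaf 5986) (.leaf 13811)) (.node (.leaf 11631) (.leaf 15335))) (.node (.node (.leaf 15205) (.leaf 14844)) (.node (.leaf 5741) (.leaf 1619))))) (.node (.node (.node (.node (.leaf 5240) (.leaf 10079)) (.node (.leaf 11981) (.leaf 15821))) (.node (.node (.leaf 2838) (.leaf 15349)) (.node (.leaf 15703) (.leaf 224)))) (.node (.node (.node (.leaf 12316) (.leaf 2643)) (.node (.leaf 5784) (.leaf 13352))) (.node (.node (.leaf 10981) (.leaf 11918)) (.leaf 6304)))))))) (.node (.node (.node (.node (.node (.node (.node (.node (.leaf 10410) (.leaf 2195)) (.node (.leaf 4254) (.leaf 2816))) (.node (.node (.leaf 343) (.leaf 3132)) (.node (.leaf 3778) (.leaf 8296)))) (.node (.node (.node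 (.leaf 14319) (.leaf 718)) (.node (.leaf 14780) (.leaf 15819))) (.node (.node (.leaf 10728) (.leaf 4957)) (.node (.leaf 1882) (.leaf 2517))))) (.node (.node (.node (.node (.leaf 10172) (.leaf 15466)) (.node (.leaf 311) (.leaf 2771))) (.node (.node (.leaf 14920) (.leaf 12960)) (.node (.leaf 10403) (.leaf 15183)))) (.node (.node (.node (.leaf 10842) (.leaf 876)) (.node (.leaf 11949) (.leaf 15557))) (.node (.node (.leaf 2638) (.leaf 13577)) (.node (.leaf 4127) (.leaf 14473)))))) (.node (.node (.node (.node (.node (.leaf 8780) (.leaf 6273)) (.node (.leaf 8706) (.leaf 6356))) (.node (.node (.leaf 3062) (.leaf 10818)) (.node (.leaf 5567) (.leaf 9119)))) (.node (.node (.node (.leaf 9805) (.leaf 13936)) (.node (.leaf 12766) (.leaf 11908))) (.node (.node (.leaf 11007) (.leaf 8635)) (.node (.leaf 7993) (.leaf 14077))))) (.node (.node (.node (.node (.leaf 15370) (.leaf 7753)) (.node (.leaf 10816) (.leaf 4076))) (.node (.node (.leaf 15841) (.leaf 1561)) (.node (.leaf 3114) (.leaf 13179)))) (.node (.node (.node (.leaf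 15488) (.leaf 5624)) (.node (.leaf 7554) (.leaf 5605))) (.node (.node (.leaf 6957) (.leaf 89)) (.leaf 10196)))))) (.node (.node (.node (.node (.node (.node (.leaf 13497) (.leaf 12249)) (.node (.leaf 10237) (.leaf 4494))) (.node (.node (.leaf 3830) (.leaf 6583)) (.node (.leaf 14398) (.leaf 938)))) (.node (.node (.node (.leaf 2721) (.leaf 4115)) (.node (.leaf 14245) (.leaf 9687))) (.node (.node (.leaf 8260) (.leaf 9554)) (.node (.leaf 6917) (.leaf 4717))))) (.node (.node (.node (.node (.leaf 15482) (.leaf 15281)) (.node (.leaf 9725) (.leaf 9629))) (.node (.node (.leaf 6737) (.leaf 9517)) (.node (.leaf 3507) (.leaf 6211)))) (.node (.node (.node (.leaf 12975) (.leaf 7681)) (.node (.leaf 15606) (.leaf 6511))) (.node (.node (.leaf 13540) (.leaf 9997)) (.leaf 11175))))) (.node (.node (.node (.node (.node (.leaf 15777) (.leaf 10317)) (.node (.leaf 4532) (.leaf 11993))) (.node (.node (.leaf 6032) (.leaf 9607)) (.node (.leaf 4528) (.leaf 11565)))) (.node (.node (.node (.leaf 4638) (.leaf 5150)) (.node (.leaf 6613)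 (.leaf 8380))) (.node (.node (.leaf 14796) (.leaf 5451)) (.node (.leaf 2294) (.leaf 8417))))) (.node (.node (.node (.node (.leaf 12993) (.leaf 12141)) (.node (.leaf 3057) (.leaf 10791))) (.node (.node (.leaf 792) (.leaf 10781)) (.node (.leaf 3488) (.leaf 305)))) (.node (.node (.node (.leaf 0) (.leaf 4422)) (.node (.leaf 13906) (.leaf 14856))) (.node (.node (.leaf 2262) (.leaf 12376)) (.leaf 3558))))))) (.node (.node (.node (.node (.node (.node (.node (.leaf 9269) (.leaf 7688)) (.node (.leaf 3036) (.leaf 8558))) (.node (.node (.leaf 14129) (.leaf 15558)) (.node (.leaf 10925) (.leaf 3547)))) (.node (.node (.node (.leaf 7837) (.leaf 4077)) (.node (.leaf 11750) (.leaf 5906))) (.node (.node (.leaf 1535) (.leaf 7869)) (.node (.leaf 13008) (.leaf 4056))))) (.node (.node (.node (.node (.leaf 13485) (.leaf 4320)) (.node (.leaf 2488) (.leaf 14675))) (.node (.node (.leaf 13275) (.leaf 7735)) (.node (.leaf 10222) (.leaf 14958)))) (.node (.node (.node (.leaf 10109) (.leaf 11523)) (.node (.leaf 440) (.leaf 7052)))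 (.node (.node (.leaf 12251) (.leaf 2748)) (.leaf 15336))))) (.node (.node (.node (.node (.node (.leaf 1038) (.leaf 7927)) (.node (.leaf 4111) (.leaf 1664))) (.node (.node (.leaf 2220) (.leaf 11847)) (.node (.leaf 10311) (.leaf 14737)))) (.node (.node (.node (.leaf 419) (.leaf 10956)) (.node (.leaf 459) (.leaf 1188))) (.node (.node (.leaf 12549) (.leaf 8522)) (.node (.leaf 10950) (.leaf 5168))))) (.node (.node (.node (.node (.leaf 6246) (.leaf 806)) (.node (.leaf 3786) (.leaf 13116))) (.node (.node (.leaf 12250) (.leaf 1772)) (.node (.leaf 6161) (.leaf 15020)))) (.node (.node (.node (.leaf 9806) (.leaf 8988)) (.node (.leaf 8109) (.leaf 5531))) (.node (.node (.leaf 1292) (.leaf 9789)) (.leaf 2157)))))) (.node (.node (.node (.node (.node (.node (.leaf 10747) (.leaf 3851)) (.node (.leaf 13953) (.leaf 4002))) (.node (.node (.leaf 14476) (.leaf 9206)) (.node (.leaf 5023) (.leaf 11959)))) (.node (.node (.node (.leaf 759) (.leaf 12169)) (.node (.leaf 8018) (.leaf 15525))) (.node (.node (.leaf 2456) (.leaf 12652))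 (.node (.leaf 8470) (.leaf 2088))))) (.node (.node (.node (.node (.leaf 6324) (.leaf 14532)) (.node (.leaf 15015) (.leaf 6898))) (.node (.node (.leaf 1711) (.leaf 4824)) (.node (.leaf 9289) (.leaf 3106)))) (.node (.node (.node (.leaf 2255) (.leaf 4184)) (.node (.leaf 2184) (.leaf 2344))) (.node (.node (.leaf 14085) (.leaf 10198)) (.leaf 12796))))) (.node (.node (.node (.node (.node (.leaf 7034) (.leaf 934)) (.node (.leaf 1196) (.leaf 12936))) (.node (.node (.leaf 10627) (.leaf 8873)) (.node (.leaf 11448) (.leaf 10499)))) (.node (.node (.node (.leaf 11535) (.leaf 9502)) (.node (.leaf 14427) (.leaf 9632))) (.node (.node (.leaf 15121) (.leaf 4419)) (.node (.leaf 3023) (.leaf 11346))))) (.node (.node (.node (.node (.leaf 13822) (.leaf 12963)) (.node (.leaf 11403) (.leaf 9719))) (.node (.node (.leaf 9822) (.leaf 4327)) (.node (.leaf 14183) (.leaf 2751)))) (.node (.node (.node (.leaf 2023) (.leaf 11081)) (.node (.leaf 10301) (.leaf 12902))) (.node (.node (.leaf 981) (.leaf 11806)) (.leaf 5430))))))))))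

def lineOrder3 : Tree (ℕ) :=
  (.node (.node (.node (.node (.node (.node (.node (.node (.node (.node (.leaf 9960) (.leaf 15080)) (.node (.leaf 9974) (.leaf 4820))) (.node (.node (.leaf 9493) (.leaf 81)) (.node (.leaf 10149) (.leaf 5691)))) (.node (.node (.node (.leaf 12720) (.leaf 8943)) (.node (.leaf 9444) (.leaf 7094))) (.node (.node (.leaf 11202) (.leaf 2206)) (.node (.leaf 15721) (.leaf 15814))))) (.node (.node (.node (.node (.leaf 11333) (.leaf 10054)) (.node (.leaf 15472) (.leaf 1620))) (.node (.node (.leaf 8089) (.leaf 3273)) (.node (.leaf 7510) (.leaf 3813)))) (.node (.node (.node (.leaf 15789) (.leaf 10017)) (.node (.leaf 13051) (.leaf 2542))) (.node (.node (.leaf 15629) (.leaf 15658)) (.node (.leaf 15203) (.leaf 4735)))))) (.node (.node (.node (.node (.node (.leaf 11331) (.leaf 119)) (.node (.leaf 11479) (.leaf 4772))) (.node (.node (.leaf 7078) (.leaf 2657)) (.node (.leaf 11556) (.leaf 3784)))) (.node (.node (.node (.leaf 4039) (.leaf 12072)) (.node (.leaf 244) (.leaf 5928))) (.node (.node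 (.leaf 11975) (.leaf 9568)) (.node (.leaf 6170) (.leaf 7657))))) (.node (.node (.node (.node (.leaf 6238) (.leaf 7768)) (.node (.leaf 1109) (.leaf 6318))) (.node (.node (.leaf 539) (.leaf 11000)) (.node (.leaf 6948) (.leaf 10757)))) (.node (.node (.node (.leaf 10738) (.leaf 14076)) (.node (.leaf 9387) (.leaf 10352))) (.node (.node (.leaf 190) (.leaf 13993)) (.leaf 7497)))))) (.node (.node (.node (.node (.node (.node (.leaf 8840) (.leaf 5475)) (.node (.leaf 11558) (.leaf 9036))) (.node (.node (.leaf 8769) (.leaf 6357)) (.node (.leaf 2686) (.leaf 8526)))) (.node (.node (.node (.leaf 15228) (.leaf 7937)) (.node (.leaf 4861) (.leaf 12850))) (.node (.node (.leaf 2478) (.leaf 339)) (.node (.leaf 3060) (.leaf 15756))))) (.node (.node (.node (.node (.leaf 11887) (.leaf 14147)) (.node (.leaf 13295) (.leaf 3425))) (.node (.node (.leaf 609) (.leaf 1686)) (.node (.leaf 7797) (.leaf 2213)))) (.node (.node (.node (.leaf 5334) (.leaf 7891)) (.node (.leaf 3936) (.leaf 2671))) (.node (.node (.leaf 13768) (.leaf 2369))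 (.leaf 7198))))) (.node (.node (.node (.node (.node (.leaf 4984) (.leaf 8152)) (.node (.leaf 2842) (.leaf 2475))) (.node (.node (.leaf 12817) (.leaf 11227)) (.node (.leaf 8098) (.leaf 9656)))) (.node (.node (.node (.leaf 8772) (.leaf 12556)) (.node (.leaf 2244) (.leaf 7949))) (.node (.node (.leaf 8669) (.leaf 13792)) (.node (.leaf 824) (.leaf 9527))))) (.node (.node (.node (.node (.leaf 13303) (.leaf 9367)) (.node (.leaf 6487) (.leaf 10138))) (.node (.node (.leaf 2144) (.leaf 2031)) (.node (.leaf 8330) (.leaf 5898)))) (.node (.node (.node (.leaf 13595) (.leaf 3274)) (.node (.leaf 4418) (.leaf 7690))) (.node (.node (.leaf 11271) (.leaf 3364)) (.leaf 1059))))))) (.node (.node (.node (.node (.node (.node (.node (.leaf 14777) (.leaf 13453)) (.node (.leaf 6061) (.leaf 6192))) (.node (.node (.leaf 9413) (.leaf 2662)) (.node (.leaf 94) (.leaf 8973)))) (.node (.node (.node (.leaf 15761) (.leaf 6375)) (.node (.leaf 2290) (.leaf 2098))) (.node (.node (.leaf 5650) (.leaf 5687)) (.node (.leaf 4295) (.leaf 12949)))))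 (.node (.node (.node (.node (.leaf 9436) (.leaf 6316)) (.node (.leaf 6994) (.leaf 14910))) (.node (.node (.leaf 5511) (.leaf 1867)) (.node (.leaf 3049) (.leaf 4644)))) (.node (.node (.node (.leaf 10698) (.leaf 2412)) (.node (.leaf 15647) (.leaf 581))) (.node (.node (.leaf 12191) (.leaf 15626)) (.node (.leaf 8681) (.leaf 14565)))))) (.node (.node (.node (.node (.node (.leaf 4312) (.leaf 9385)) (.node (.leaf 15008) (.leaf 8863))) (.node (.node (.leaf 1610) (.leaf 9052)) (.node (.leaf 1894) (.leaf 13163)))) (.node (.node (.node (.leaf 12970) (.leaf 4505)) (.node (.leaf 7809) (.leaf 13563))) (.node (.node (.leaf 2136) (.leaf 4042)) (.node (.leaf 267) (.leaf 785))))) (.node (.node (.node (.node (.leaf 10503) (.leaf 11040)) (.node (.leaf 15382) (.leaf 13868))) (.node (.node (.leaf 443) (.leaf 4745)) (.node (.leaf 15439) (.leaf 14066)))) (.node (.node (.node (.leaf 13367) (.leaf 8670)) (.node (.leaf 6021) (.leaf 5310))) (.node (.node (.leaf 3994) (.leaf 2648)) (.leaf 10753)))))) (.node (.node (.node (.node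 (.node (.node (.leaf 11152) (.leaf 15854)) (.node (.leaf 14976) (.leaf 1865))) (.node (.node (.leaf 7248) (.leaf 12001)) (.node (.leaf 7442) (.leaf 15609)))) (.node (.node (.node (.leaf 9226) (.leaf 8927)) (.node (.leaf 10298) (.leaf 116))) (.node (.node (.leaf 5950) (.leaf 3657)) (.node (.leaf 4497) (.leaf 9441))))) (.node (.node (.node (.node (.leaf 7889) (.leaf 9976)) (.node (.leaf 11990) (.leaf 3843))) (.node (.node (.leaf 2913) (.leaf 12098)) (.node (.leaf 6834) (.leaf 10805)))) (.node (.node (.node (.leaf 15782) (.leaf 6036)) (.node (.leaf 4351) (.leaf 12603))) (.node (.node (.leaf 7254) (.leaf 1784)) (.leaf 5140))))) (.node (.node (.node (.node (.node (.leaf 11715) (.leaf 11196)) (.node (.leaf 5675) (.leaf 8541))) (.node (.node (.leaf 4189) (.leaf 15144)) (.node (.leaf 1843) (.leaf 11238)))) (.node (.node (.node (.leaf 7569) (.leaf 15722)) (.node (.leaf 7324) (.leaf 9285))) (.node (.node (.leaf 10067) (.leaf 15087)) (.node (.leaf 5636) (.leaf 6557))))) (.node (.node (.node (.node (.leaf 2063)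 (.leaf 8031)) (.node (.leaf 12025) (.leaf 6533))) (.node (.node (.leaf 3484) (.leaf 13514)) (.node (.leaf 7851) (.leaf 5455)))) (.node (.node (.node (.leaf 5347) (.leaf 8657)) (.node (.leaf 12791) (.leaf 7859))) (.node (.node (.leaf 14363) (.leaf 2502)) (.leaf 7370)))))))) (.node (.node (.node (.node (.node (.node (.node (.node (.leaf 546) (.leaf 12157)) (.node (.leaf 6080) (.leaf 4447))) (.node (.node (.leaf 10891) (.leaf 15050)) (.node (.leaf 13172) (.leaf 3244)))) (.node (.node (.node (.leaf 9808) (.leaf 15103)) (.node (.leaf 2849) (.leaf 2962))) (.node (.node (.leaf 11599) (.leaf 9305)) (.node (.leaf 4825) (.leaf 6014))))) (.node (.node (.node (.node (.leaf 7744) (.leaf 6593)) (.node (.leaf 2705) (.leaf 7075))) (.node (.node (.leaf 5688) (.leaf 13639)) (.node (.leaf 2805) (.leaf 11861)))) (.node (.node (.node (.leaf 7561) (.leaf 13321)) (.node (.leaf 519) (.leaf 5958))) (.node (.node (.leaf 8593) (.leaf 6492)) (.node (.leaf 5078) (.leaf 1950)))))) (.node (.node (.node (.node (.node (.leaf 3379) (.leaf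 9592)) (.node (.leaf 11178) (.leaf 11410))) (.node (.node (.leaf 11343) (.leaf 5036)) (.node (.leaf 13607) (.leaf 10007)))) (.node (.node (.node (.leaf 9438) (.leaf 935)) (.node (.leaf 4050) (.leaf 4062))) (.node (.node (.leaf 1874) (.leaf 2477)) (.node (.leaf 1412) (.leaf 4803))))) (.node (.node (.node (.node (.leaf 15765) (.leaf 4170)) (.node (.leaf 6540) (.leaf 10854))) (.node (.node (.leaf 4500) (.leaf 12899)) (.node (.leaf 13271) (.leaf 15868)))) (.node (.node (.node (.leaf 5174) (.leaf 15148)) (.node (.leaf 12083) (.leaf 988))) (.node (.node (.leaf 5599) (.leaf 4150)) (.leaf 4748)))))) (.node (.node (.node (.node (.node (.node (.leaf 393) (.leaf 8724)) (.node (.leaf 11092) (.leaf 10057))) (.node (.node (.leaf 1590) (.leaf 7750)) (.node (.leaf 5702) (.leaf 12258)))) (.node (.node (.node (.leaf 10080) (.leaf 6156)) (.node (.leaf 3646) (.leaf 6174))) (.node (.node (.leaf 7512) (.leaf 5130)) (.node (.leaf 14961) (.leaf 3725))))) (.node (.node (.node (.node (.leaf 13302) (.leaf 12302)) (.node (.leaf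 5903) (.leaf 4629))) (.node (.node (.leaf 15410) (.leaf 9591)) (.node (.leaf 7860) (.leaf 2462)))) (.node (.node (.node (.leaf 12576) (.leaf 12610)) (.node (.leaf 8551) (.leaf 6870))) (.node (.node (.leaf 9175) (.leaf 11879)) (.leaf 14308))))) (.node (.node (.node (.node (.node (.leaf 7565) (.leaf 2812)) (.node (.leaf 5686) (.leaf 6058))) (.node (.node (.leaf 1868) (.leaf 1052)) (.node (.leaf 3528) (.leaf 12580)))) (.node (.node (.node (.leaf 1947) (.leaf 2760)) (.node (.leaf 4142) (.leaf 4401))) (.node (.node (.leaf 4211) (.leaf 1319)) (.node (.leaf 12783) (.leaf 3398))))) (.node (.node (.node (.node (.leaf 8589) (.leaf 9131)) (.node (.leaf 4891) (.leaf 13578))) (.node (.node (.leaf 8177) (.leaf 3571)) (.node (.leaf 7359) (.leaf 12259)))) (.node (.node (.node (.leaf 5716) (.leaf 13107)) (.node (.leaf 13016) (.leaf 3774))) (.node (.node (.leaf 3585) (.leaf 560)) (.leaf 6056))))))) (.node (.node (.node (.node (.node (.node (.node (.leaf 9964) (.leaf 13895)) (.node (.leaf 7920) (.leaf 4526))) (.node (.node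 (.leaf 11709) (.leaf 14834)) (.node (.leaf 14352) (.leaf 9557)))) (.node (.node (.node (.leaf 13366) (.leaf 15326)) (.node (.leaf 6873) (.leaf 3271))) (.node (.node (.leaf 13739) (.leaf 5693)) (.node (.leaf 5402) (.leaf 1074))))) (.node (.node (.node (.node (.leaf 7814) (.leaf 2286)) (.node (.leaf 8475) (.leaf 5472))) (.node (.node (.leaf 4712) (.leaf 14752)) (.node (.leaf 1372) (.leaf 2303)))) (.node (.node (.node (.leaf 15218) (.leaf 1986)) (.node (.leaf 4045) (.leaf 14484))) (.node (.node (.leaf 931) (.leaf 12488)) (.leaf 14790))))) (.node (.node (.node (.node (.node (.leaf 8587) (.leaf 9862)) (.node (.leaf 7463) (.leaf 6616))) (.node (.node (.leaf 13057) (.leaf 8151)) (.node (.leaf 5458) (.leaf 15018)))) (.node (.node (.node (.leaf 6697) (.leaf 1316)) (.node (.leaf 6302) (.leaf 9249))) (.node (.node (.leaf 10014) (.leaf 12078)) (.node (.leaf 9602) (.leaf 1302))))) (.node (.node (.node (.node (.leaf 4085) (.leaf 11112)) (.node (.leaf 11707) (.leaf 373))) (.node (.node (.leaf 1840) (.leaf 9988)) (.node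 (.leaf 6791) (.leaf 10343)))) (.node (.node (.node (.leaf 1553) (.leaf 3551)) (.node (.leaf 68) (.leaf 3316))) (.node (.node (.leaf 178) (.leaf 13318)) (.leaf 621)))))) (.node (.node (.node (.node (.node (.node (.leaf 6707) (.leaf 314)) (.node (.leaf 11449) (.leaf 11940))) (.node (.node (.leaf 3242) (.leaf 3214)) (.node (.leaf 12489) (.leaf 2631)))) (.node (.node (.node (.leaf 3374) (.leaf 6967)) (.node (.leaf 12715) (.leaf 11820))) (.node (.node (.leaf 11637) (.leaf 10406)) (.node (.leaf 4172) (.leaf 8218))))) (.node (.node (.node (.node (.leaf 2068) (.leaf 5851)) (.node (.leaf 9490) (.leaf 6591))) (.node (.node (.leaf 456) (.leaf 9776)) (.node (.leaf 3301) (.leaf 15035)))) (.node (.node (.node (.leaf 5088) (.leaf 7822)) (.node (.leaf 8351) (.leaf 13076))) (.node (.node (.leaf 12176) (.leaf 9983)) (.leaf 11472))))) (.node (.node (.node (.node (.node (.leaf 7816) (.leaf 4932)) (.node (.leaf 11373) (.leaf 12763))) (.node (.node (.leaf 679) (.leaf 1701)) (.node (.leaf 8634) (.leaf 9504)))) (.node (.node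 (.node (.leaf 7836) (.leaf 9775)) (.node (.leaf 15302) (.leaf 8703))) (.node (.node (.leaf 2367) (.leaf 884)) (.node (.leaf 5828) (.leaf 6046))))) (.node (.node (.node (.node (.leaf 7746) (.leaf 14360)) (.node (.leaf 607) (.leaf 804))) (.node (.node (.leaf 11462) (.leaf 10513)) (.node (.leaf 14452) (.leaf 15848)))) (.node (.node (.node (.leaf 1737) (.leaf 13351)) (.node (.leaf 13350) (.leaf 13178))) (.node (.node (.leaf 2731) (.leaf 12774)) (.leaf 5625))))))))) (.node (.node (.node (.node (.node (.node (.node (.node (.node (.leaf 14748) (.leaf 8826)) (.node (.leaf 6913) (.leaf 3806))) (.node (.node (.leaf 579) (.leaf 6974)) (.node (.leaf 8144) (.leaf 10240)))) (.node (.node (.node (.leaf 9223) (.leaf 7761)) (.node (.leaf 7471) (.leaf 11819))) (.node (.node (.leaf 2034) (.leaf 1186)) (.node (.leaf 9391) (.leaf 11994))))) (.node (.node (.node (.node (.leaf 14337) (.leaf 12077)) (.node (.leaf 6001) (.leaf 590))) (.node (.node (.leaf 8384) (.leaf 10030)) (.node (.leaf 13957) (.leaf 9478)))) (.node (.node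 (.node (.leaf 7880) (.leaf 13007)) (.node (.leaf 4777) (.leaf 10408))) (.node (.node (.leaf 3025) (.leaf 15166)) (.node (.leaf 1101) (.leaf 11286)))))) (.node (.node (.node (.node (.node (.leaf 12977) (.leaf 2920)) (.node (.leaf 7061) (.leaf 14169))) (.node (.node (.leaf 6676) (.leaf 7912)) (.node (.leaf 9784) (.leaf 14256)))) (.node (.node (.node (.leaf 12690) (.leaf 441)) (.node (.leaf 6622) (.leaf 2317))) (.node (.node (.leaf 3804) (.leaf 9635)) (.node (.leaf 3276) (.leaf 14218))))) (.node (.node (.node (.node (.leaf 2948) (.leaf 8286)) (.node (.leaf 11816) (.leaf 9732))) (.node (.node (.leaf 4041) (.leaf 3957)) (.node (.leaf 13118) (.leaf 13183)))) (.node (.node (.node (.leaf 12123) (.leaf 8476)) (.node (.leaf 4060) (.leaf 1688))) (.node (.node (.leaf 14912) (.leaf 2373)) (.leaf 9167)))))) (.node (.node (.node (.node (.node (.node (.leaf 9615) (.leaf 15833)) (.node (.leaf 13603) (.leaf 4600))) (.node (.node (.leaf 8063) (.leaf 2541)) (.node (.leaf 4435) (.leaf 229)))) (.node (.node (.node (.leaf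 5238) (.leaf 7278)) (.node (.leaf 6263) (.leaf 12930))) (.node (.node (.leaf 15428) (.leaf 6663)) (.node (.leaf 9979) (.leaf 5677))))) (.node (.node (.node (.node (.leaf 10179) (.leaf 6079)) (.node (.leaf 9950) (.leaf 3220))) (.node (.node (.leaf 10048) (.leaf 14876)) (.node (.leaf 14548) (.leaf 2471)))) (.node (.node (.node (.leaf 6322) (.leaf 15534)) (.node (.leaf 10588) (.leaf 438))) (.node (.node (.leaf 12394) (.leaf 4782)) (.leaf 2046))))) (.node (.node (.node (.node (.node (.leaf 14021) (.leaf 11220)) (.node (.leaf 3729) (.leaf 15813))) (.node (.node (.leaf 516) (.leaf 10185)) (.node (.leaf 308) (.leaf 4169)))) (.node (.node (.node (.leaf 13150) (.leaf 9791)) (.node (.leaf 2474) (.leaf 746))) (.node (.node (.leaf 8566) (.leaf 11720)) (.node (.leaf 14587) (.leaf 9064))))) (.node (.node (.node (.node (.leaf 10175) (.leaf 3864)) (.node (.leaf 9887) (.leaf 12000))) (.node (.node (.leaf 6109) (.leaf 13998)) (.node (.leaf 12989) (.leaf 14619)))) (.node (.node (.node (.leaf 15793) (.leaf 6162)) (.node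 (.leaf 256) (.leaf 5783))) (.node (.node (.leaf 5425) (.leaf 13604)) (.leaf 3275))))))) (.node (.node (.node (.node (.node (.node (.node (.leaf 143) (.leaf 2495)) (.node (.leaf 6216) (.leaf 907))) (.node (.node (.leaf 6543) (.leaf 11174)) (.node (.leaf 9078) (.leaf 7682)))) (.node (.node (.node (.leaf 4661) (.leaf 1685)) (.node (.leaf 8694) (.leaf 8401))) (.node (.node (.leaf 11625) (.leaf 2493)) (.node (.leaf 728) (.leaf 10032))))) (.node (.node (.node (.node (.leaf 11335) (.leaf 11986)) (.node (.leaf 10889) (.leaf 8533))) (.node (.node (.leaf 10395) (.leaf 9358)) (.node (.leaf 15536) (.leaf 2895)))) (.node (.node (.node (.leaf 12978) (.leaf 694)) (.node (.leaf 1864) (.leaf 6861))) (.node (.node (.leaf 15600) (.leaf 13160)) (.node (.leaf 944) (.leaf 15837)))))) (.node (.node (.node (.node (.node (.leaf 8912) (.leaf 12661)) (.node (.leaf 15170) (.leaf 2210))) (.node (.node (.leaf 9044) (.leaf 436)) (.node (.leaf 3545) (.leaf 4780)))) (.node (.node (.node (.leaf 14282) (.leaf 2562)) (.node (.leaf 5492)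 (.leaf 8216))) (.node (.node (.leaf 2702) (.leaf 12390)) (.node (.leaf 15145) (.leaf 15803))))) (.node (.node (.node (.node (.leaf 10094) (.leaf 341)) (.node (.leaf 8226) (.leaf 4375))) (.node (.node (.leaf 2639) (.leaf 12732)) (.node (.leaf 14265) (.leaf 8021)))) (.node (.node (.node (.leaf 7835) (.leaf 1143)) (.node (.leaf 4572) (.leaf 10972))) (.node (.node (.leaf 15682) (.leaf 5785)) (.leaf 633)))))) (.node (.node (.node (.node (.node (.node (.leaf 5984) (.leaf 5488)) (.node (.leaf 6939) (.leaf 1322))) (.node (.node (.leaf 1028) (.leaf 6206)) (.node (.leaf 10159) (.leaf 3939)))) (.node (.node (.node (.leaf 15771) (.leaf 5129)) (.node (.leaf 3888) (.leaf 3800))) (.node (.node (.leaf 12456) (.leaf 11414)) (.node (.leaf 1862) (.leaf 15347))))) (.node (.node (.node (.node (.leaf 12238) (.leaf 7089)) (.node (.leaf 12941) (.leaf 9257))) (.node (.node (.leaf 5557) (.leaf 2134)) (.node (.leaf 1480) (.leaf 6510)))) (.node (.node (.node (.leaf 5344) (.leaf 9318)) (.node (.leaf 74) (.leaf 822))) (.node (.node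 (.leaf 2175) (.leaf 9428)) (.leaf 2868))))) (.node (.node (.node (.node (.node (.leaf 15295) (.leaf 185)) (.node (.leaf 4376) (.leaf 11304))) (.node (.node (.leaf 3923) (.leaf 13524)) (.node (.leaf 14157) (.leaf 6009)))) (.node (.node (.node (.leaf 3388) (.leaf 5925)) (.node (.leaf 8866) (.leaf 7667))) (.node (.node (.leaf 4197) (.leaf 14977)) (.node (.leaf 8518) (.leaf 6091))))) (.node (.node (.node (.node (.leaf 13250) (.leaf 14491)) (.node (.leaf 15431) (.leaf 12273))) (.node (.node (.leaf 15311) (.leaf 1691)) (.node (.leaf 13108) (.leaf 10059)))) (.node (.node (.node (.leaf 5338) (.leaf 1115)) (.node (.leaf 8444) (.leaf 8175))) (.node (.node (.leaf 3353) (.leaf 14411)) (.leaf 13094)))))))) (.node (.node (.node (.node (.node (.node (.node (.node (.leaf 9962) (.leaf 7058)) (.node (.leaf 13433) (.leaf 8594))) (.node (.node (.leaf 11357) (.leaf 10405)) (.node (.leaf 14668) (.leaf 14560)))) (.node (.node (.node (.leaf 8784) (.leaf 1541)) (.node (.leaf 10958) (.leaf 243))) (.node (.node (.leaf 12353) (.leaf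 13214)) (.node (.leaf 2785) (.leaf 6052))))) (.node (.node (.node (.node (.leaf 5309) (.leaf 9308)) (.node (.leaf 2186) (.leaf 8890))) (.node (.node (.leaf 2081) (.leaf 11944)) (.node (.leaf 11478) (.leaf 5209)))) (.node (.node (.node (.leaf 14284) (.leaf 7040)) (.node (.leaf 6387) (.leaf 11440))) (.node (.node (.leaf 14468) (.leaf 9366)) (.node (.leaf 6585) (.leaf 7798)))))) (.node (.node (.node (.node (.node (.leaf 10421) (.leaf 3082)) (.node (.leaf 12653) (.leaf 2896))) (.node (.node (.leaf 14429) (.leaf 5978)) (.node (.leaf 14070) (.leaf 7097)))) (.node (.node (.node (.leaf 12621) (.leaf 15710)) (.node (.leaf 5773) (.leaf 9400))) (.node (.node (.leaf 1198) (.leaf 2545)) (.node (.leaf 9377) (.leaf 2950))))) (.node (.node (.node (.node (.leaf 1942) (.leaf 1403)) (.node (.leaf 5976) (.leaf 13699))) (.node (.node (.leaf 10966) (.leaf 10613)) (.node (.leaf 7650) (.leaf 5468)))) (.node (.node (.node (.leaf 15767) (.leaf 8316)) (.node (.leaf 4362) (.leaf 10988))) (.node (.node (.leaf 7706) (.leaf 2835))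 (.leaf 5394)))))) (.node (.node (.node (.node (.node (.node (.leaf 9613) (.leaf 10220)) (.node (.leaf 3340) (.leaf 2737))) (.node (.node (.leaf 3452) (.leaf 4128)) (.node (.leaf 12882) (.leaf 233)))) (.node (.node (.node (.leaf 2253) (.leaf 8387)) (.node (.leaf 14130) (.leaf 8961))) (.node (.node (.leaf 8881) (.leaf 14242)) (.node (.leaf 8410) (.leaf 13274))))) (.node (.node (.node (.node (.leaf 15769) (.leaf 13985)) (.node (.leaf 3278) (.leaf 3035))) (.node (.node (.leaf 9955) (.leaf 13815)) (.node (.leaf 3181) (.leaf 2296)))) (.node (.node (.node (.leaf 753) (.leaf 8898)) (.node (.leaf 12367) (.leaf 15663))) (.node (.node (.leaf 4476) (.leaf 12879)) (.leaf 2354))))) (.node (.node (.node (.node (.node (.leaf 5175) (.leaf 1313)) (.node (.leaf 1181) (.leaf 1652))) (.node (.node (.leaf 12347) (.leaf 5550)) (.node (.leaf 12071) (.leaf 10820)))) (.node (.node (.node (.leaf 4319) (.leaf 4621)) (.node (.leaf 8630) (.leaf 5384))) (.node (.node (.leaf 6807) (.leaf 3004)) (.node (.leaf 9536) (.leaf 5960)))))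 (.node (.node (.node (.node (.leaf 6328) (.leaf 471)) (.node (.leaf 13113) (.leaf 15016))) (.node (.node (.leaf 3772) (.leaf 6890)) (.node (.leaf 1777) (.leaf 8075)))) (.node (.node (.node (.leaf 15043) (.leaf 8449)) (.node (.leaf 6166) (.leaf 13187))) (.node (.node (.leaf 15459) (.leaf 9680)) (.leaf 8048))))))) (.node (.node (.node (.node (.node (.node (.node (.leaf 399) (.leaf 14542)) (.node (.leaf 12781) (.leaf 10313))) (.node (.node (.leaf 4210) (.leaf 14301)) (.node (.leaf 8668) (.leaf 2810)))) (.node (.node (.node (.leaf 7225) (.leaf 733)) (.node (.leaf 15568) (.leaf 8042))) (.node (.node (.leaf 12114) (.leaf 3889)) (.node (.leaf 37) (.leaf 7371))))) (.node (.node (.node (.node (.leaf 1930) (.leaf 9735)) (.node (.leaf 2161) (.leaf 5574))) (.node (.node (.leaf 5275) (.leaf 14968)) (.node (.leaf 6268) (.leaf 13476)))) (.node (.node (.node (.leaf 4660) (.leaf 4479)) (.node (.leaf 1824) (.leaf 671))) (.node (.node (.leaf 12706) (.leaf 6811)) (.leaf 7661))))) (.node (.node (.node (.node (.node (.leaf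 1556) (.leaf 8579)) (.node (.leaf 8450) (.leaf 7007))) (.node (.node (.leaf 13660) (.leaf 6871)) (.node (.leaf 1310) (.leaf 10217)))) (.node (.node (.node (.leaf 4330) (.leaf 14781)) (.node (.leaf 8989) (.leaf 4537))) (.node (.node (.leaf 6120) (.leaf 4562)) (.node (.leaf 14784) (.leaf 1861))))) (.node (.node (.node (.node (.leaf 6692) (.leaf 9002)) (.node (.leaf 13962) (.leaf 3052))) (.node (.node (.leaf 1635) (.leaf 3481)) (.node (.leaf 13901) (.leaf 2374)))) (.node (.node (.node (.leaf 12625) (.leaf 458)) (.node (.leaf 13458) (.leaf 12915))) (.node (.node (.leaf 12389) (.leaf 4182)) (.leaf 15544)))))) (.node (.node (.node (.node (.node (.node (.leaf 13300) (.leaf 873)) (.node (.leaf 3072) (.leaf 4680))) (.node (.node (.leaf 13242) (.leaf 9219)) (.node (.leaf 1522) (.leaf 15165)))) (.node (.node (.node (.leaf 11884) (.leaf 3548)) (.node (.leaf 2778) (.leaf 6577))) (.node (.node (.leaf 11371) (.leaf 2804)) (.node (.leaf 15811) (.leaf 14929))))) (.node (.node (.node (.node (.leaf 12990) (.leaf 5754))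 (.node (.leaf 8619) (.leaf 10786))) (.node (.node (.leaf 5325) (.leaf 8303)) (.node (.leaf 7275) (.leaf 5184)))) (.node (.node (.node (.leaf 2722) (.leaf 9781)) (.node (.leaf 974) (.leaf 6089))) (.node (.node (.leaf 13898) (.leaf 14019)) (.leaf 6958))))) (.node (.node (.node (.node (.node (.leaf 6439) (.leaf 709)) (.node (.leaf 9390) (.leaf 1214))) (.node (.node (.leaf 5046) (.leaf 12538)) (.node (.leaf 2472) (.leaf 971)))) (.node (.node (.node (.leaf 11420) (.leaf 4365)) (.node (.leaf 3068) (.leaf 4483))) (.node (.node (.leaf 9417) (.leaf 2673)) (.node (.leaf 5502) (.leaf 12015))))) (.node (.node (.node (.node (.leaf 4226) (.leaf 5847)) (.node (.leaf 3417) (.leaf 8229))) (.node (.node (.leaf 3997) (.leaf 3715)) (.node (.leaf 13185) (.leaf 1909)))) (.node (.node (.node (.leaf 6702) (.leaf 526)) (.node (.leaf 2269) (.leaf 6042))) (.node (.node (.leaf 4176) (.leaf 6454)) (.leaf 15141))))))))))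

def lineOrder4 : Tree (ℕ) :=
  (.node (.node (.node (.node (.node (.node (.node (.node (.node (.node (.leaf 11157) (.leaf 6033)) (.node (.leaf 1681) (.leaf 8302))) (.node (.node (.leaf 10130) (.leaf 10303)) (.node (.leaf 7611) (.leaf 13342)))) (.node (.node (.node (.leaf 1938) (.leaf 10351)) (.node (.leaf 12804) (.leaf 8032))) (.node (.node (.leaf 9165) (.leaf 2695)) (.node (.leaf 7362) (.leaf 241))))) (.node (.node (.node (.node (.leaf 12317) (.leaf 10527)) (.node (.leaf 7260) (.leaf 3442))) (.node (.node (.leaf 4897) (.leaf 11509)) (.node (.leaf 2661) (.leaf 7960)))) (.node (.node (.node (.leaf 14603) (.leaf 10887)) (.node (.leaf 915) (.leaf 3878))) (.node (.node (.leaf 6843) (.leaf 11583)) (.node (.leaf 14733) (.leaf 7252)))))) (.node (.node (.node (.node (.node (.leaf 14710) (.leaf 10494)) (.node (.leaf 2212) (.leaf 3354))) (.node (.node (.leaf 8978) (.leaf 9415)) (.node (.leaf 15082) (.leaf 139)))) (.node (.node (.node (.leaf 11716) (.leaf 14723)) (.node (.leaf 10044) (.leaf 3752))) (.node (.node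 (.leaf 5920) (.leaf 6351)) (.node (.leaf 12327) (.leaf 7780))))) (.node (.node (.node (.node (.leaf 1496) (.leaf 999)) (.node (.leaf 11243) (.leaf 8186))) (.node (.node (.leaf 6300) (.leaf 9508)) (.node (.leaf 2278) (.leaf 7401)))) (.node (.node (.node (.leaf 4335) (.leaf 1046)) (.node (.leaf 3819) (.leaf 11851))) (.node (.node (.leaf 2017) (.leaf 5864)) (.leaf 12102)))))) (.node (.node (.node (.node (.node (.node (.leaf 14772) (.leaf 1955)) (.node (.leaf 588) (.leaf 10595))) (.node (.node (.leaf 14253) (.leaf 15922)) (.node (.leaf 14494) (.leaf 4566)))) (.node (.node (.node (.leaf 13153) (.leaf 13979)) (.node (.leaf 3458) (.leaf 3281))) (.node (.node (.leaf 15235) (.leaf 12262)) (.node (.leaf 9672) (.leaf 15000))))) (.node (.node (.node (.node (.leaf 3152) (.leaf 5277)) (.node (.leaf 8982) (.leaf 14470))) (.node (.node (.leaf 9303) (.leaf 12224)) (.node (.leaf 13088) (.leaf 4512)))) (.node (.node (.node (.leaf 7182) (.leaf 13229)) (.node (.leaf 4653) (.leaf 5943))) (.node (.node (.leaf 4354) (.leaf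 7988)) (.leaf 4647))))) (.node (.node (.node (.node (.node (.leaf 14996) (.leaf 9254)) (.node (.leaf 7655) (.leaf 7511))) (.node (.node (.leaf 5607) (.leaf 10727)) (.node (.leaf 4658) (.leaf 9714)))) (.node (.node (.node (.leaf 14716) (.leaf 15880)) (.node (.leaf 9630) (.leaf 3309))) (.node (.node (.leaf 11708) (.leaf 1827)) (.node (.leaf 11621) (.leaf 12476))))) (.node (.node (.node (.node (.leaf 15045) (.leaf 15627)) (.node (.leaf 9202) (.leaf 6409))) (.node (.node (.leaf 15711) (.leaf 14274)) (.node (.leaf 625) (.leaf 8598)))) (.node (.node (.node (.leaf 9747) (.leaf 11506)) (.node (.leaf 14974) (.leaf 3299))) (.node (.node (.leaf 10194) (.leaf 5874)) (.leaf 240))))))) (.node (.node (.node (.node (.node (.node (.node (.leaf 8849) (.leaf 276)) (.node (.leaf 15039) (.leaf 660))) (.node (.node (.leaf 2658) (.leaf 14950)) (.node (.leaf 15865) (.leaf 7073)))) (.node (.node (.node (.leaf 1643) (.leaf 5603)) (.node (.leaf 9790) (.leaf 11515))) (.node (.node (.leaf 12552) (.leaf 15099)) (.node (.leaf 5259)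 (.leaf 2099))))) (.node (.node (.node (.node (.leaf 7833) (.leaf 8182)) (.node (.leaf 2782) (.leaf 7899))) (.node (.node (.leaf 5128) (.leaf 10713)) (.node (.leaf 13532) (.leaf 12453)))) (.node (.node (.node (.leaf 2) (.leaf 7249)) (.node (.leaf 10862) (.leaf 11551))) (.node (.node (.leaf 11724) (.leaf 10488)) (.node (.leaf 9059) (.leaf 13717)))))) (.node (.node (.node (.node (.node (.leaf 7238) (.leaf 3811)) (.node (.leaf 4894) (.leaf 5207))) (.node (.node (.leaf 6098) (.leaf 13164)) (.node (.leaf 676) (.leaf 9704)))) (.node (.node (.node (.leaf 5729) (.leaf 4947)) (.node (.leaf 1859) (.leaf 15752))) (.node (.node (.leaf 2975) (.leaf 5892)) (.node (.leaf 3166) (.leaf 2405))))) (.node (.node (.node (.node (.leaf 10104) (.leaf 15385)) (.node (.leaf 11045) (.leaf 8192))) (.node (.node (.leaf 10525) (.leaf 15312)) (.node (.leaf 11989) (.leaf 5530)))) (.node (.node (.node (.leaf 6326) (.leaf 3164)) (.node (.leaf 6579) (.leaf 996))) (.node (.node (.leaf 9825) (.leaf 631)) (.leaf 7692)))))) (.node (.node (.node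 (.node (.node (.node (.leaf 9969) (.leaf 10293)) (.node (.leaf 10770) (.leaf 1393))) (.node (.node (.leaf 1228) (.leaf 10150)) (.node (.leaf 5074) (.leaf 12079)))) (.node (.node (.node (.leaf 1278) (.leaf 5992)) (.node (.leaf 14860) (.leaf 36))) (.node (.node (.leaf 9565) (.leaf 8292)) (.node (.leaf 2733) (.leaf 7468))))) (.node (.node (.node (.node (.leaf 6694) (.leaf 1684)) (.node (.leaf 8673) (.leaf 3264))) (.node (.node (.leaf 10369) (.leaf 7268)) (.node (.leaf 2994) (.leaf 681)))) (.node (.node (.node (.leaf 14609) (.leaf 15089)) (.node (.leaf 13938) (.leaf 7313))) (.node (.node (.leaf 10431) (.leaf 13758)) (.leaf 8889))))) (.node (.node (.node (.node (.node (.leaf 13256) (.leaf 10583)) (.node (.leaf 3717) (.leaf 5622))) (.node (.node (.leaf 9783) (.leaf 5437)) (.node (.leaf 232) (.leaf 8605)))) (.node (.node (.node (.leaf 5234) (.leaf 11567)) (.node (.leaf 11369) (.leaf 4953))) (.node (.node (.leaf 10163) (.leaf 11553)) (.node (.leaf 1791) (.leaf 989))))) (.node (.node (.node (.node (.leaf 12298)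 (.leaf 12889)) (.node (.leaf 4993) (.leaf 10073))) (.node (.node (.leaf 8448) (.leaf 8739)) (.node (.leaf 176) (.leaf 7435)))) (.node (.node (.node (.leaf 6686) (.leaf 6529)) (.node (.leaf 6950) (.leaf 15581))) (.node (.node (.leaf 11937) (.leaf 12093)) (.leaf 15246)))))))) (.node (.node (.node (.node (.node (.node (.node (.node (.leaf 396) (.leaf 13609)) (.node (.leaf 9466) (.leaf 9276))) (.node (.node (.leaf 14798) (.leaf 12117)) (.node (.leaf 7282) (.leaf 1579)))) (.node (.node (.node (.leaf 2610) (.leaf 14537)) (.node (.leaf 4407) (.leaf 9056))) (.node (.node (.leaf 2467) (.leaf 603)) (.node (.leaf 1519) (.leaf 1718))))) (.node (.node (.node (.node (.leaf 11888) (.leaf 8733)) (.node (.leaf 1243) (.leaf 12614))) (.node (.node (.leaf 7477) (.leaf 3392)) (.node (.leaf 8702) (.leaf 7663)))) (.node (.node (.node (.leaf 1837) (.leaf 727)) (.node (.leaf 4888) (.leaf 9569))) (.node (.node (.leaf 5893) (.leaf 7091)) (.node (.leaf 4209) (.leaf 13346)))))) (.node (.node (.node (.node (.node (.leaf 6717) (.leaf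 1249)) (.node (.leaf 7507) (.leaf 14154))) (.node (.node (.leaf 1378) (.leaf 2365)) (.node (.leaf 13450) (.leaf 15820)))) (.node (.node (.node (.leaf 6231) (.leaf 505)) (.node (.leaf 1386) (.leaf 2923))) (.node (.node (.leaf 6997) (.leaf 11441)) (.node (.leaf 12938) (.leaf 6860))))) (.node (.node (.node (.node (.leaf 1421) (.leaf 9022)) (.node (.leaf 5022) (.leaf 13621))) (.node (.node (.leaf 3935) (.leaf 11776)) (.node (.leaf 816) (.leaf 91)))) (.node (.node (.node (.leaf 1838) (.leaf 5439)) (.node (.leaf 11235) (.leaf 15611))) (.node (.node (.leaf 12895) (.leaf 10477)) (.leaf 11895)))))) (.node (.node (.node (.node (.node (.node (.leaf 543) (.leaf 3478)) (.node (.leaf 761) (.leaf 15596))) (.node (.node (.leaf 1009) (.leaf 12213)) (.node (.leaf 15017) (.leaf 11571)))) (.node (.node (.node (.leaf 10420) (.leaf 12020)) (.node (.leaf 5131) (.leaf 5498))) (.node (.node (.leaf 2863) (.leaf 15856)) (.node (.leaf 7734) (.leaf 374))))) (.node (.node (.node (.node (.leaf 8782) (.leaf 361)) (.node (.leaf 3557)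 (.leaf 10189))) (.node (.node (.leaf 2489) (.leaf 2115)) (.node (.leaf 14915) (.leaf 12789)))) (.node (.node (.node (.leaf 10695) (.leaf 9333)) (.node (.leaf 5611) (.leaf 5658))) (.node (.node (.leaf 13725) (.leaf 4430)) (.leaf 15551))))) (.node (.node (.node (.node (.node (.leaf 2554) (.leaf 8599)) (.node (.leaf 7474) (.leaf 4590))) (.node (.node (.leaf 929) (.leaf 10047)) (.node (.leaf 4767) (.leaf 9683)))) (.node (.node (.node (.leaf 12727) (.leaf 6514)) (.node (.leaf 9089) (.leaf 811))) (.node (.node (.leaf 14898) (.leaf 8550)) (.node (.leaf 9624) (.leaf 1546))))) (.node (.node (.node (.node (.leaf 2259) (.leaf 13557)) (.node (.leaf 5001) (.leaf 9360))) (.node (.node (.leaf 9127) (.leaf 12447)) (.node (.leaf 15685) (.leaf 11570)))) (.node (.node (.node (.leaf 7602) (.leaf 15024)) (.node (.leaf 14078) (.leaf 14664))) (.node (.node (.leaf 7281) (.leaf 11070)) (.leaf 14385))))))) (.node (.node (.node (.node (.node (.node (.node (.leaf 9965) (.leaf 5374)) (.node (.leaf 2763) (.leaf 15603))) (.node (.node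 (.leaf 8664) (.leaf 5527)) (.node (.leaf 12635) (.leaf 10117)))) (.node (.node (.node (.leaf 3383) (.leaf 6893)) (.node (.leaf 11844) (.leaf 9724))) (.node (.node (.leaf 9539) (.leaf 5473)) (.node (.leaf 11971) (.leaf 6732))))) (.node (.node (.node (.node (.leaf 12623) (.leaf 3320)) (.node (.leaf 10046) (.leaf 5692))) (.node (.node (.leaf 14112) (.leaf 10355)) (.node (.leaf 14080) (.leaf 6113)))) (.node (.node (.node (.leaf 15371) (.leaf 14980)) (.node (.leaf 5895) (.leaf 4181))) (.node (.node (.leaf 5581) (.leaf 11358)) (.leaf 6204))))) (.node (.node (.node (.node (.node (.leaf 2257) (.leaf 680)) (.node (.leaf 15899) (.leaf 7067))) (.node (.node (.leaf 911) (.leaf 9256)) (.node (.leaf 15355) (.leaf 949)))) (.node (.node (.node (.leaf 6243) (.leaf 11574)) (.node (.leaf 3167) (.leaf 7111))) (.node (.node (.leaf 10884) (.leaf 12363)) (.node (.leaf 2093) (.leaf 13637))))) (.node (.node (.node (.node (.leaf 8910) (.leaf 12638)) (.node (.leaf 7549) (.leaf 6151))) (.node (.node (.leaf 500) (.leaf 11209)) (.node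 (.leaf 7640) (.leaf 527)))) (.node (.node (.node (.leaf 14336) (.leaf 1382)) (.node (.leaf 13311) (.leaf 3435))) (.node (.node (.leaf 555) (.leaf 61)) (.leaf 13803)))))) (.node (.node (.node (.node (.node (.node (.leaf 2026) (.leaf 11239)) (.node (.leaf 15552) (.leaf 4175))) (.node (.node (.leaf 1575) (.leaf 8203)) (.node (.leaf 15383) (.leaf 8127)))) (.node (.node (.node (.leaf 15048) (.leaf 161)) (.node (.leaf 7251) (.leaf 1870))) (.node (.node (.leaf 15186) (.leaf 11471)) (.node (.leaf 9028) (.leaf 4790))))) (.node (.node (.node (.node (.leaf 12290) (.leaf 10984)) (.node (.leaf 5631) (.leaf 4287))) (.node (.node (.leaf 14389) (.leaf 11821)) (.node (.leaf 7941) (.leaf 3798)))) (.node (.node (.node (.leaf 6430) (.leaf 5196)) (.node (.leaf 8967) (.leaf 5814))) (.node (.node (.leaf 5573) (.leaf 1973)) (.leaf 12495))))) (.node (.node (.node (.node (.node (.leaf 2616) (.leaf 13765)) (.node (.leaf 5487) (.leaf 6297))) (.node (.node (.leaf 7053) (.leaf 1345)) (.node (.leaf 7063) (.leaf 9394)))) (.node (.node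 (.node (.leaf 11711) (.leaf 11827)) (.node (.leaf 14596) (.leaf 12656))) (.node (.node (.leaf 8517) (.leaf 2953)) (.node (.leaf 12526) (.leaf 9177))))) (.node (.node (.node (.node (.leaf 5723) (.leaf 13070)) (.node (.leaf 11615) (.leaf 13776))) (.node (.node (.leaf 8332) (.leaf 4387)) (.node (.leaf 13286) (.leaf 14722)))) (.node (.node (.node (.leaf 13309) (.leaf 15688)) (.node (.leaf 15518) (.leaf 5466))) (.node (.node (.leaf 15691) (.leaf 1195)) (.leaf 6336))))))))) (.node (.node (.node (.node (.node (.node (.node (.node (.node (.leaf 9616) (.leaf 14841)) (.node (.leaf 8415) (.leaf 3336))) (.node (.node (.leaf 1919) (.leaf 1448)) (.node (.leaf 6524) (.leaf 12246)))) (.node (.node (.node (.leaf 12417) (.leaf 10714)) (.node (.leaf 8923) (.leaf 8994))) (.node (.node (.leaf 7617) (.leaf 4534)) (.node (.leaf 4363) (.leaf 13099))))) (.node (.node (.node (.node (.leaf 13387) (.leaf 3677)) (.node (.leaf 1250) (.leaf 9171))) (.node (.node (.leaf 2274) (.leaf 5902)) (.node (.leaf 3075) (.leaf 13816)))) (.node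 (.node (.node (.leaf 13447) (.leaf 5768)) (.node (.leaf 1612) (.leaf 11470))) (.node (.node (.leaf 1526) (.leaf 1408)) (.node (.leaf 11817) (.leaf 14545)))))) (.node (.node (.node (.node (.node (.leaf 5722) (.leaf 8420)) (.node (.leaf 12956) (.leaf 4978))) (.node (.node (.leaf 8012) (.leaf 3863)) (.node (.leaf 13011) (.leaf 14496)))) (.node (.node (.node (.leaf 12673) (.leaf 15597)) (.node (.leaf 5807) (.leaf 2979))) (.node (.node (.leaf 3084) (.leaf 4487)) (.node (.leaf 12761) (.leaf 12342))))) (.node (.node (.node (.node (.leaf 10427) (.leaf 7164)) (.node (.leaf 12682) (.leaf 12184))) (.node (.node (.leaf 8591) (.leaf 9346)) (.node (.leaf 14923) (.leaf 2642)))) (.node (.node (.node (.leaf 15215) (.leaf 249)) (.node (.leaf 2924) (.leaf 517))) (.node (.node (.leaf 7897) (.leaf 13409)) (.leaf 1331)))))) (.node (.node (.node (.node (.node (.node (.leaf 9967) (.leaf 9551)) (.node (.leaf 2958) (.leaf 13643))) (.node (.node (.leaf 6925) (.leaf 3875)) (.node (.leaf 15400) (.leaf 442)))) (.node (.node (.node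 (.leaf 1464) (.leaf 9543)) (.node (.leaf 10224) (.leaf 1216))) (.node (.node (.leaf 12499) (.leaf 4347)) (.node (.leaf 1683) (.leaf 3116))))) (.node (.node (.node (.node (.leaf 4619) (.leaf 43)) (.node (.leaf 2796) (.leaf 10951))) (.node (.node (.leaf 248) (.leaf 6189)) (.node (.leaf 2170) (.leaf 1817)))) (.node (.node (.node (.leaf 14028) (.leaf 13716)) (.node (.leaf 2566) (.leaf 13436))) (.node (.node (.leaf 9039) (.leaf 12149)) (.leaf 3071))))) (.node (.node (.node (.node (.node (.leaf 2858) (.leaf 2714)) (.node (.leaf 370) (.leaf 10045))) (.node (.node (.leaf 4882) (.leaf 6513)) (.node (.leaf 8814) (.leaf 1609)))) (.node (.node (.node (.leaf 13482) (.leaf 6877)) (.node (.leaf 8713) (.leaf 11185))) (.node (.node (.leaf 1102) (.leaf 13648)) (.node (.leaf 5653) (.leaf 6379))))) (.node (.node (.node (.node (.leaf 8809) (.leaf 838)) (.node (.leaf 8328) (.leaf 4781))) (.node (.node (.leaf 10973) (.leaf 8651)) (.node (.leaf 1501) (.leaf 13937)))) (.node (.node (.node (.leaf 5233) (.leaf 10684)) (.node (.leaf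 4028) (.leaf 2030))) (.node (.node (.leaf 2380) (.leaf 6631)) (.leaf 12204))))))) (.node (.node (.node (.node (.node (.node (.node (.leaf 390) (.leaf 7722)) (.node (.leaf 8159) (.leaf 11134))) (.node (.node (.leaf 14767) (.leaf 7501)) (.node (.leaf 11953) (.leaf 334)))) (.node (.node (.node (.leaf 10504) (.leaf 12471)) (.node (.leaf 11674) (.leaf 266))) (.node (.node (.leaf 11484) (.leaf 6749)) (.node (.leaf 7047) (.leaf 7144))))) (.node (.node (.node (.node (.leaf 1648) (.leaf 8195)) (.node (.leaf 10491) (.leaf 1025))) (.node (.node (.leaf 13622) (.leaf 12810)) (.node (.leaf 3404) (.leaf 4831)))) (.node (.node (.node (.leaf 11793) (.leaf 1029)) (.node (.leaf 9066) (.leaf 5047))) (.node (.node (.leaf 3670) (.leaf 14817)) (.node (.leaf 2650) (.leaf 9553)))))) (.node (.node (.node (.node (.node (.leaf 11426) (.leaf 14788)) (.node (.leaf 13589) (.leaf 4518))) (.node (.node (.leaf 6552) (.leaf 14785)) (.node (.leaf 5897) (.leaf 12005)))) (.node (.node (.node (.leaf 13306) (.leaf 3235)) (.node (.leaf 1475)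 (.leaf 14322))) (.node (.node (.leaf 1241) (.leaf 56)) (.node (.leaf 11307) (.leaf 15654))))) (.node (.node (.node (.node (.leaf 12314) (.leaf 9995)) (.node (.leaf 10257) (.leaf 2823))) (.node (.node (.leaf 14469) (.leaf 7407)) (.node (.leaf 3514) (.leaf 3294)))) (.node (.node (.node (.leaf 1156) (.leaf 12937)) (.node (.leaf 10321) (.leaf 9425))) (.node (.node (.leaf 4453) (.leaf 5421)) (.leaf 1291)))))) (.node (.node (.node (.node (.node (.node (.leaf 7834) (.leaf 10825)) (.node (.leaf 7127) (.leaf 11454))) (.node (.node (.leaf 2985) (.leaf 14797)) (.node (.leaf 8221) (.leaf 181)))) (.node (.node (.node (.leaf 5176) (.leaf 1133)) (.node (.leaf 7868) (.leaf 3330))) (.node (.node (.leaf 7060) (.leaf 14681)) (.node (.leaf 6081) (.leaf 1695))))) (.node (.node (.node (.node (.leaf 1497) (.leaf 9357)) (.node (.leaf 2008) (.leaf 11225))) (.node (.node (.leaf 14295) (.leaf 14938)) (.node (.leaf 4543) (.leaf 2768)))) (.node (.node (.node (.leaf 6682) (.leaf 13878)) (.node (.leaf 1994) (.leaf 10121))) (.node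 (.node (.leaf 11287) (.leaf 11263)) (.leaf 4480))))) (.node (.node (.node (.node (.node (.leaf 8915) (.leaf 13647)) (.node (.leaf 5513) (.leaf 3282))) (.node (.node (.leaf 13876) (.leaf 8507)) (.node (.leaf 8887) (.leaf 1254)))) (.node (.node (.node (.leaf 6329) (.leaf 9519)) (.node (.leaf 8704) (.leaf 3467))) (.node (.node (.leaf 15678) (.leaf 781)) (.node (.leaf 6813) (.leaf 14535))))) (.node (.node (.node (.node (.leaf 9576) (.leaf 2684)) (.node (.leaf 4797) (.leaf 11122))) (.node (.node (.leaf 12917) (.leaf 5127)) (.node (.leaf 2371) (.leaf 15595)))) (.node (.node (.node (.leaf 8778) (.leaf 14185)) (.node (.leaf 2156) (.leaf 7355))) (.node (.node (.leaf 5319) (.leaf 726)) (.leaf 11997)))))))) (.node (.node (.node (.node (.node (.node (.node (.node (.leaf 9614) (.leaf 675)) (.node (.leaf 431) (.leaf 5894))) (.node (.node (.leaf 12642) (.leaf 11477)) (.node (.leaf 5392) (.leaf 13714)))) (.node (.node (.node (.leaf 5718) (.leaf 3390)) (.node (.leaf 3229) (.leaf 10043))) (.node (.node (.leaf 6060) (.leaf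 13786)) (.node (.leaf 6468) (.leaf 4593))))) (.node (.node (.node (.node (.leaf 3151) (.leaf 15115)) (.node (.leaf 976) (.leaf 6670))) (.node (.node (.leaf 3059) (.leaf 986)) (.node (.leaf 9180) (.leaf 11632)))) (.node (.node (.node (.leaf 13307) (.leaf 6450)) (.node (.leaf 982) (.leaf 7626))) (.node (.node (.leaf 15352) (.leaf 1064)) (.node (.leaf 5739) (.leaf 194)))))) (.node (.node (.node (.node (.node (.leaf 2944) (.leaf 3744)) (.node (.leaf 613) (.leaf 4835))) (.node (.node (.leaf 14361) (.leaf 6819)) (.node (.leaf 5190) (.leaf 12881)))) (.node (.node (.node (.leaf 14524) (.leaf 2147)) (.node (.leaf 11508) (.leaf 1484))) (.node (.node (.leaf 14506) (.leaf 3876)) (.node (.leaf 13290) (.leaf 8822))))) (.node (.node (.node (.node (.leaf 6709) (.leaf 6147)) (.node (.leaf 10008) (.leaf 7782))) (.node (.node (.leaf 14378) (.leaf 12381)) (.node (.leaf 11408) (.leaf 623)))) (.node (.node (.node (.leaf 14316) (.leaf 8546)) (.node (.leaf 9396) (.leaf 15105))) (.node (.node (.leaf 6108) (.leaf 15314)) (.leaf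 14018)))))) (.node (.node (.node (.node (.node (.node (.leaf 14741) (.leaf 5136)) (.node (.leaf 4692) (.leaf 15697))) (.node (.node (.leaf 4867) (.leaf 14006)) (.node (.leaf 7090) (.leaf 706)))) (.node (.node (.node (.leaf 10830) (.leaf 8452)) (.node (.leaf 1957) (.leaf 6256))) (.node (.node (.leaf 5148) (.leaf 12011)) (.node (.leaf 13059) (.leaf 6312))))) (.node (.node (.node (.node (.leaf 2857) (.leaf 1306)) (.node (.leaf 11505) (.leaf 829))) (.node (.node (.leaf 2798) (.leaf 14221)) (.node (.leaf 13240) (.leaf 8155)))) (.node (.node (.node (.leaf 1) (.leaf 6678)) (.node (.leaf 11540) (.leaf 9094))) (.node (.node (.leaf 3656) (.leaf 15449)) (.leaf 15181))))) (.node (.node (.node (.node (.node (.leaf 9453) (.leaf 1173)) (.node (.leaf 5443) (.leaf 8505))) (.node (.node (.leaf 2679) (.leaf 11510)) (.node (.leaf 3671) (.leaf 4918)))) (.node (.node (.node (.leaf 7237) (.leaf 3893)) (.node (.leaf 2540) (.leaf 2829))) (.node (.node (.leaf 11013) (.leaf 14463)) (.node (.leaf 1087) (.leaf 14758))))) (.node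 (.node (.node (.node (.leaf 7224) (.leaf 1529)) (.node (.leaf 14237) (.leaf 14091))) (.node (.node (.leaf 14662) (.leaf 7719)) (.node (.leaf 6503) (.leaf 3693)))) (.node (.node (.node (.leaf 14523) (.leaf 2152)) (.node (.leaf 5546) (.leaf 2645))) (.node (.node (.leaf 7398) (.leaf 12582)) (.leaf 7147))))))) (.node (.node (.node (.node (.node (.node (.node (.leaf 146) (.leaf 2173)) (.node (.leaf 9627) (.leaf 1171))) (.node (.node (.leaf 8033) (.leaf 610)) (.node (.leaf 5033) (.leaf 5896)))) (.node (.node (.node (.leaf 1736) (.leaf 15746)) (.node (.leaf 10672) (.leaf 7878))) (.node (.node (.leaf 14151) (.leaf 8348)) (.node (.leaf 4877) (.leaf 11168))))) (.node (.node (.node (.node (.leaf 12724) (.leaf 9247)) (.node (.leaf 1416) (.leaf 12175))) (.node (.node (.leaf 14145) (.leaf 3352)) (.node (.leaf 10248) (.leaf 4481)))) (.node (.node (.node (.leaf 7454) (.leaf 10118)) (.node (.leaf 10526) (.leaf 2191))) (.node (.node (.leaf 5614) (.leaf 8519)) (.leaf 6932))))) (.node (.node (.node (.node (.node (.leaf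 6698) (.leaf 10720)) (.node (.leaf 14115) (.leaf 14832))) (.node (.node (.leaf 120) (.leaf 4625)) (.node (.leaf 1170) (.leaf 10898)))) (.node (.node (.node (.leaf 12295) (.leaf 12668)) (.node (.leaf 14387) (.leaf 2904))) (.node (.node (.leaf 11666) (.leaf 13763)) (.node (.leaf 433) (.leaf 6765))))) (.node (.node (.node (.node (.leaf 7885) (.leaf 14059)) (.node (.leaf 3219) (.leaf 2084))) (.node (.node (.leaf 778) (.leaf 2388)) (.node (.leaf 10686) (.leaf 13105)))) (.node (.node (.node (.leaf 4332) (.leaf 4598)) (.node (.leaf 1890) (.leaf 13144))) (.node (.node (.leaf 10618) (.leaf 12153)) (.leaf 4427)))))) (.node (.node (.node (.node (.node (.node (.leaf 1499) (.leaf 3142)) (.node (.leaf 3738) (.leaf 3976))) (.node (.node (.leaf 5699) (.leaf 4216)) (.node (.leaf 6544) (.leaf 6124)))) (.node (.node (.node (.leaf 9012) (.leaf 8590)) (.node (.leaf 8933) (.leaf 6025))) (.node (.node (.leaf 8969) (.leaf 11061)) (.node (.leaf 10042) (.leaf 7935))))) (.node (.node (.node (.node (.leaf 4989) (.leaf 15645)) (.node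 (.leaf 9410) (.leaf 15321))) (.node (.node (.leaf 12200) (.leaf 4065)) (.node (.leaf 12802) (.leaf 9422)))) (.node (.node (.node (.leaf 9802) (.leaf 13012)) (.node (.leaf 1884) (.leaf 10711))) (.node (.node (.leaf 2421) (.leaf 13192)) (.leaf 6797))))) (.node (.node (.node (.node (.node (.leaf 13379) (.leaf 11139)) (.node (.leaf 14502) (.leaf 2482))) (.node (.node (.leaf 6908) (.leaf 1236)) (.node (.leaf 15555) (.leaf 2181)))) (.node (.node (.node (.leaf 9741) (.leaf 1199)) (.node (.leaf 13638) (.leaf 12860))) (.node (.node (.leaf 941) (.leaf 5947)) (.node (.leaf 14004) (.leaf 13890))))) (.node (.node (.node (.node (.leaf 14803) (.leaf 9047)) (.node (.leaf 7845) (.leaf 11046))) (.node (.node (.leaf 13995) (.leaf 9248)) (.node (.leaf 14857) (.leaf 4603)))) (.node (.node (.node (.leaf 9695) (.leaf 10348)) (.node (.leaf 5537) (.leaf 2419))) (.node (.node (.leaf 9029) (.leaf 10279)) (.leaf 2790))))))))))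

def lineOrder5 : Tree (ℕ) :=
  (.node (.node (.node (.node (.node (.node (.node (.node (.node (.node (.leaf 8847) (.leaf 12346)) (.node (.leaf 3562) (.leaf 1518))) (.node (.node (.leaf 6405) (.leaf 14459)) (.node (.leaf 12103) (.leaf 13244)))) (.node (.node (.node (.leaf 13489) (.leaf 11854)) (.node (.leaf 7279) (.leaf 8254))) (.node (.node (.leaf 1336) (.leaf 6961)) (.node (.leaf 6180) (.leaf 10041))))) (.node (.node (.node (.node (.leaf 5333) (.leaf 15592)) (.node (.leaf 13327) (.leaf 1583))) (.node (.node (.leaf 15009) (.leaf 9729)) (.node (.leaf 14957) (.leaf 4449)))) (.node (.node (.node (.leaf 1270) (.leaf 4828)) (.node (.leaf 8941) (.leaf 13043))) (.node (.node (.leaf 10484) (.leaf 5018)) (.node (.leaf 10213) (.leaf 10439)))))) (.node (.node (.node (.node (.node (.leaf 7189) (.leaf 14881)) (.node (.leaf 4514) (.leaf 5316))) (.node (.node (.leaf 9337) (.leaf 15126)) (.node (.leaf 13319) (.leaf 10571)))) (.node (.node (.node (.leaf 10200) (.leaf 15840)) (.node (.leaf 15816) (.leaf 5255))) (.node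 (.node (.leaf 11804) (.leaf 2040)) (.node (.leaf 16) (.leaf 13696))))) (.node (.node (.node (.node (.leaf 2590) (.leaf 350)) (.node (.leaf 4439) (.leaf 812))) (.node (.node (.leaf 8671) (.leaf 12772)) (.node (.leaf 14217) (.leaf 7695)))) (.node (.node (.node (.leaf 2064) (.leaf 2934)) (.node (.leaf 4708) (.leaf 7168))) (.node (.node (.leaf 14983) (.leaf 620)) (.leaf 14271)))))) (.node (.node (.node (.node (.node (.node (.leaf 12920) (.leaf 14138)) (.node (.leaf 294) (.leaf 11198))) (.node (.node (.leaf 7771) (.leaf 488)) (.node (.leaf 10072) (.leaf 15716)))) (.node (.node (.node (.leaf 5330) (.leaf 3054)) (.node (.leaf 9178) (.leaf 1079))) (.node (.node (.leaf 10381) (.leaf 9764)) (.node (.leaf 11934) (.leaf 4892))))) (.node (.node (.node (.node (.leaf 14529) (.leaf 7849)) (.node (.leaf 452) (.leaf 7794))) (.node (.node (.leaf 11611) (.leaf 357)) (.node (.leaf 4094) (.leaf 14030)))) (.node (.node (.node (.leaf 14717) (.leaf 14918)) (.node (.leaf 8093) (.leaf 386))) (.node (.node (.leaf 3529) (.leaf 8069))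 (.leaf 12451))))) (.node (.node (.node (.node (.node (.leaf 13365) (.leaf 9535)) (.node (.leaf 3418) (.leaf 2663))) (.node (.node (.leaf 2730) (.leaf 14648)) (.node (.leaf 4605) (.leaf 8224)))) (.node (.node (.node (.leaf 7183) (.leaf 821)) (.node (.leaf 4484) (.leaf 15632))) (.node (.node (.leaf 10922) (.leaf 445)) (.node (.leaf 10808) (.leaf 10269))))) (.node (.node (.node (.node (.leaf 6) (.leaf 6840)) (.node (.leaf 9218) (.leaf 1797))) (.node (.node (.leaf 3625) (.leaf 7610)) (.node (.leaf 13800) (.leaf 4048)))) (.node (.node (.node (.leaf 15297) (.leaf 9726)) (.node (.leaf 14849) (.leaf 8023))) (.node (.node (.leaf 2039) (.leaf 6887)) (.leaf 8473))))))) (.node (.node (.node (.node (.node (.node (.node (.leaf 11159) (.leaf 4691)) (.node (.leaf 3263) (.leaf 4936))) (.node (.node (.leaf 15876) (.leaf 7516)) (.node (.leaf 6977) (.leaf 12716)))) (.node (.node (.node (.leaf 5343) (.leaf 2735)) (.node (.leaf 13737) (.leaf 9838))) (.node (.node (.leaf 13060) (.leaf 8921)) (.node (.leaf 14048) (.leaf 9839)))))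 (.node (.node (.node (.node (.leaf 7222) (.leaf 2204)) (.node (.leaf 6469) (.leaf 9841))) (.node (.node (.leaf 1137) (.leaf 11316)) (.node (.leaf 6740) (.leaf 8636)))) (.node (.node (.node (.leaf 15040) (.leaf 7727)) (.node (.leaf 5752) (.leaf 2434))) (.node (.node (.leaf 4602) (.leaf 6844)) (.node (.leaf 14814) (.leaf 3406)))))) (.node (.node (.node (.node (.node (.leaf 13440) (.leaf 2620)) (.node (.leaf 15757) (.leaf 11638))) (.node (.node (.leaf 13920) (.leaf 1124)) (.node (.leaf 7054) (.leaf 2391)))) (.node (.node (.node (.leaf 1354) (.leaf 3932)) (.node (.leaf 15149) (.leaf 4895))) (.node (.node (.leaf 2316) (.leaf 12167)) (.node (.leaf 2443) (.leaf 10774))))) (.node (.node (.node (.node (.leaf 4665) (.leaf 15159)) (.node (.leaf 11219) (.leaf 15255))) (.node (.node (.leaf 15594) (.leaf 2837)) (.node (.leaf 4372) (.leaf 2263)))) (.node (.node (.node (.leaf 12997) (.leaf 2445)) (.node (.leaf 15521) (.leaf 353))) (.node (.node (.leaf 15062) (.leaf 1290)) (.leaf 11595)))))) (.node (.node (.node (.node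 (.node (.node (.leaf 10416) (.leaf 14868)) (.node (.leaf 789) (.leaf 14636))) (.node (.node (.leaf 4754) (.leaf 15497)) (.node (.leaf 4207) (.leaf 15277)))) (.node (.node (.node (.leaf 2238) (.leaf 15346)) (.node (.leaf 8367) (.leaf 13000))) (.node (.node (.leaf 13951) (.leaf 14561)) (.node (.leaf 15693) (.leaf 15895))))) (.node (.node (.node (.node (.leaf 6247) (.leaf 511)) (.node (.leaf 11144) (.leaf 6067))) (.node (.node (.leaf 15138) (.leaf 5216)) (.node (.leaf 5009) (.leaf 14348)))) (.node (.node (.node (.leaf 10900) (.leaf 13313)) (.node (.leaf 15715) (.leaf 15564))) (.node (.node (.leaf 4739) (.leaf 11777)) (.leaf 11361))))) (.node (.node (.node (.node (.node (.leaf 9574) (.leaf 54)) (.node (.leaf 12183) (.leaf 6338))) (.node (.node (.leaf 13015) (.leaf 1854)) (.node (.leaf 503) (.leaf 9595)))) (.node (.node (.node (.leaf 2853) (.leaf 10824)) (.node (.leaf 8262) (.leaf 14826))) (.node (.node (.leaf 11655) (.leaf 2439)) (.node (.leaf 967) (.leaf 15102))))) (.node (.node (.node (.node (.leaf 8913)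 (.leaf 9115)) (.node (.leaf 745) (.leaf 2681))) (.node (.node (.leaf 2155) (.leaf 4286)) (.node (.leaf 9161) (.leaf 12392)))) (.node (.node (.node (.leaf 4663) (.leaf 8496)) (.node (.leaf 7648) (.leaf 1979))) (.node (.node (.leaf 9676) (.leaf 7044)) (.leaf 11169)))))))) (.node (.node (.node (.node (.node (.node (.node (.node (.leaf 9266) (.leaf 6633)) (.node (.leaf 2345) (.leaf 1280))) (.node (.node (.leaf 6803) (.leaf 1532)) (.node (.leaf 12735) (.leaf 9935)))) (.node (.node (.node (.leaf 9324) (.leaf 13925)) (.node (.leaf 13276) (.leaf 14818))) (.node (.node (.leaf 12666) (.leaf 15460)) (.node (.leaf 14557) (.leaf 4239))))) (.node (.node (.node (.node (.leaf 9010) (.leaf 4544)) (.node (.leaf 4392) (.leaf 9338))) (.node (.node (.leaf 2287) (.leaf 6132)) (.node (.leaf 12657) (.leaf 15332)))) (.node (.node (.node (.leaf 1423) (.leaf 14932)) (.node (.leaf 4007) (.leaf 5520))) (.node (.node (.leaf 2819) (.leaf 14396)) (.node (.leaf 15622) (.leaf 14136)))))) (.node (.node (.node (.node (.node (.leaf 7308)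 (.leaf 9397)) (.node (.leaf 2351) (.leaf 6936))) (.node (.node (.leaf 14082) (.leaf 6928)) (.node (.leaf 4695) (.leaf 12271)))) (.node (.node (.node (.leaf 14026) (.leaf 239)) (.node (.leaf 14408) (.leaf 14556))) (.node (.node (.leaf 11824) (.leaf 14305)) (.node (.leaf 1217) (.leaf 4027))))) (.node (.node (.node (.node (.leaf 1833) (.leaf 12966)) (.node (.leaf 1524) (.leaf 7464))) (.node (.node (.leaf 4944) (.leaf 13750)) (.node (.leaf 6752) (.leaf 7854)))) (.node (.node (.node (.leaf 1429) (.leaf 1858)) (.node (.leaf 312) (.leaf 7086))) (.node (.node (.leaf 3434) (.leaf 9853)) (.leaf 10877)))))) (.node (.node (.node (.node (.node (.node (.leaf 14743) (.leaf 3650)) (.node (.leaf 7576) (.leaf 10523))) (.node (.node (.leaf 10660) (.leaf 9495)) (.node (.leaf 10796) (.leaf 10319)))) (.node (.node (.node (.leaf 2947) (.leaf 4997)) (.node (.leaf 10603) (.leaf 8314))) (.node (.node (.leaf 9929) (.leaf 3249)) (.node (.leaf 13923) (.leaf 12028))))) (.node (.node (.node (.node (.leaf 13034) (.leaf 1184)) (.node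 (.leaf 7140) (.leaf 6512))) (.node (.node (.leaf 1147) (.leaf 1242)) (.node (.leaf 9840) (.leaf 11841)))) (.node (.node (.node (.leaf 8469) (.leaf 12710)) (.node (.leaf 12704) (.leaf 12554))) (.node (.node (.leaf 2410) (.leaf 15401)) (.leaf 15237))))) (.node (.node (.node (.node (.node (.leaf 4315) (.leaf 12160)) (.node (.leaf 2905) (.leaf 14382))) (.node (.node (.leaf 5161) (.leaf 15818)) (.node (.leaf 13930) (.leaf 8960)))) (.node (.node (.node (.leaf 1935) (.leaf 15669)) (.node (.leaf 6568) (.leaf 13279))) (.node (.node (.leaf 6498) (.leaf 10022)) (.node (.leaf 7219) (.leaf 713))))) (.node (.node (.node (.node (.leaf 2724) (.leaf 15674)) (.node (.leaf 2990) (.leaf 1066))) (.node (.node (.leaf 6415) (.leaf 11085)) (.node (.leaf 8179) (.leaf 5612)))) (.node (.node (.node (.leaf 13031) (.leaf 13401)) (.node (.leaf 2937) (.leaf 3570))) (.node (.node (.leaf 11598) (.leaf 9310)) (.leaf 4591))))))) (.node (.node (.node (.node (.node (.node (.node (.leaf 10411) (.leaf 14083)) (.node (.leaf 10538) (.leaf 12073)))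 (.node (.node (.leaf 10926) (.leaf 7005)) (.node (.leaf 2964) (.leaf 11525)))) (.node (.node (.node (.leaf 5987) (.leaf 5003)) (.node (.leaf 12782) (.leaf 12208))) (.node (.node (.leaf 1081) (.leaf 13345)) (.node (.leaf 9477) (.leaf 13844))))) (.node (.node (.node (.node (.leaf 9800) (.leaf 15093)) (.node (.leaf 246) (.leaf 3183))) (.node (.node (.leaf 7957) (.leaf 11853)) (.node (.leaf 14431) (.leaf 1668)))) (.node (.node (.node (.leaf 12125) (.leaf 2011)) (.node (.leaf 8595) (.leaf 13019))) (.node (.node (.leaf 3591) (.leaf 349)) (.leaf 6808))))) (.node (.node (.node (.node (.node (.leaf 2723) (.leaf 14349)) (.node (.leaf 13781) (.leaf 12955))) (.node (.node (.leaf 8947) (.leaf 13733)) (.node (.leaf 5917) (.leaf 14513)))) (.node (.node (.node (.leaf 1554) (.leaf 12255)) (.node (.leaf 2442) (.leaf 8838))) (.node (.node (.leaf 5838) (.leaf 15274)) (.node (.leaf 12943) (.leaf 13078))))) (.node (.node (.node (.node (.leaf 8750) (.leaf 3708)) (.node (.leaf 8689) (.leaf 14260))) (.node (.node (.leaf 701)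 (.leaf 15583)) (.node (.leaf 6954) (.leaf 3575)))) (.node (.node (.node (.leaf 13386) (.leaf 14406)) (.node (.leaf 15084) (.leaf 12894))) (.node (.node (.leaf 2370) (.leaf 3017)) (.leaf 8140)))))) (.node (.node (.node (.node (.node (.node (.leaf 7026) (.leaf 10765)) (.node (.leaf 13684) (.leaf 9026))) (.node (.node (.leaf 12752) (.leaf 8246)) (.node (.leaf 15152) (.leaf 2328)))) (.node (.node (.node (.leaf 4) (.leaf 4404)) (.node (.leaf 1750) (.leaf 1287))) (.node (.node (.leaf 11064) (.leaf 15427)) (.node (.leaf 12969) (.leaf 11982))))) (.node (.node (.node (.node (.leaf 288) (.leaf 14967)) (.node (.leaf 9073) (.leaf 8731))) (.node (.node (.leaf 4596) (.leaf 7963)) (.node (.leaf 7479) (.leaf 3761)))) (.node (.node (.node (.leaf 7035) (.leaf 10623)) (.node (.leaf 12587) (.leaf 6136))) (.node (.node (.leaf 14676) (.leaf 7853)) (.leaf 10918))))) (.node (.node (.node (.node (.node (.leaf 9321) (.leaf 4356)) (.node (.leaf 6253) (.leaf 13675))) (.node (.node (.leaf 2199) (.leaf 2915)) (.node (.leaf 6618)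 (.leaf 7551)))) (.node (.node (.node (.leaf 8481) (.leaf 4706)) (.node (.leaf 3737) (.leaf 11060))) (.node (.node (.leaf 5742) (.leaf 8820)) (.node (.leaf 6485) (.leaf 4862))))) (.node (.node (.node (.node (.leaf 12976) (.leaf 13636)) (.node (.leaf 6398) (.leaf 5736))) (.node (.node (.leaf 8492) (.leaf 2584)) (.node (.leaf 11896) (.leaf 11546)))) (.node (.node (.node (.leaf 10742) (.leaf 15516)) (.node (.leaf 6820) (.leaf 8494))) (.node (.node (.leaf 14708) (.leaf 9503)) (.leaf 1479))))))))) (.node (.node (.node (.node (.node (.node (.node (.node (.node (.leaf 13492) (.leaf 14970)) (.node (.leaf 5751) (.leaf 6271))) (.node (.node (.leaf 12745) (.leaf 7852)) (.node (.leaf 8498) (.leaf 15938)))) (.node (.node (.node (.leaf 14338) (.leaf 6767)) (.node (.leaf 5996) (.leaf 12688))) (.node (.node (.leaf 10146) (.leaf 7931)) (.node (.leaf 14505) (.leaf 1650))))) (.node (.node (.node (.node (.leaf 1749) (.leaf 15607)) (.node (.leaf 3852) (.leaf 3451))) (.node (.node (.leaf 8455) (.leaf 7148)) (.node (.leaf 3736)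 (.leaf 14225)))) (.node (.node (.node (.leaf 6347) (.leaf 30)) (.node (.leaf 6094) (.leaf 10912))) (.node (.node (.leaf 5021) (.leaf 7758)) (.node (.leaf 8993) (.leaf 7686)))))) (.node (.node (.node (.node (.node (.leaf 11889) (.leaf 4068)) (.node (.leaf 13477) (.leaf 11852))) (.node (.node (.leaf 2772) (.leaf 834)) (.node (.leaf 15805) (.leaf 6531)))) (.node (.node (.node (.leaf 15394) (.leaf 10522)) (.node (.leaf 1141) (.leaf 3140))) (.node (.node (.leaf 6272) (.leaf 12861)) (.node (.leaf 7970) (.leaf 6037))))) (.node (.node (.node (.node (.leaf 13032) (.leaf 12048)) (.node (.leaf 8998) (.leaf 7425))) (.node (.node (.leaf 5891) (.leaf 11268)) (.node (.leaf 5447) (.leaf 1119)))) (.node (.node (.node (.leaf 9690) (.leaf 8792)) (.node (.leaf 13260) (.leaf 4884))) (.node (.node (.leaf 9589) (.leaf 8057)) (.leaf 90)))))) (.node (.node (.node (.node (.node (.node (.leaf 10419) (.leaf 3883)) (.node (.leaf 8824) (.leaf 13232))) (.node (.node (.leaf 2363) (.leaf 13049)) (.node (.leaf 10553) (.leaf 1823))))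 (.node (.node (.node (.leaf 15265) (.leaf 10392)) (.node (.leaf 15852) (.leaf 8871))) (.node (.node (.leaf 3135) (.leaf 12242)) (.node (.leaf 9520) (.leaf 4321))))) (.node (.node (.node (.node (.leaf 8466) (.leaf 13211)) (.node (.leaf 7802) (.leaf 14789))) (.node (.node (.leaf 15815) (.leaf 7367)) (.node (.leaf 8010) (.leaf 11697)))) (.node (.node (.node (.leaf 6230) (.leaf 5694)) (.node (.leaf 3232) (.leaf 4255))) (.node (.node (.leaf 11194) (.leaf 479)) (.leaf 3735))))) (.node (.node (.node (.node (.node (.leaf 5232) (.leaf 12425)) (.node (.leaf 14262) (.leaf 245))) (.node (.node (.leaf 4009) (.leaf 2762)) (.node (.leaf 3695) (.leaf 15947)))) (.node (.node (.node (.leaf 8621) (.leaf 11849)) (.node (.leaf 11435) (.leaf 7654))) (.node (.node (.leaf 11249) (.leaf 13233)) (.node (.leaf 12550) (.leaf 14700))))) (.node (.node (.node (.node (.leaf 3122) (.leaf 11812)) (.node (.leaf 4542) (.leaf 3192))) (.node (.node (.leaf 9427) (.leaf 13176)) (.node (.leaf 3903) (.leaf 4935)))) (.node (.node (.node (.leaf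 2850) (.leaf 11775)) (.node (.leaf 6867) (.leaf 4157))) (.node (.node (.leaf 3489) (.leaf 2672)) (.leaf 5327))))))) (.node (.node (.node (.node (.node (.node (.node (.leaf 9260) (.leaf 7240)) (.node (.leaf 2297) (.leaf 13917))) (.node (.node (.leaf 213) (.leaf 2808)) (.node (.leaf 15168) (.leaf 12266)))) (.node (.node (.node (.leaf 7459) (.leaf 3568)) (.node (.leaf 11743) (.leaf 6308))) (.node (.node (.leaf 10129) (.leaf 13537)) (.node (.leaf 6003) (.leaf 3556))))) (.node (.node (.node (.node (.leaf 5348) (.leaf 15250)) (.node (.leaf 9818) (.leaf 692))) (.node (.node (.leaf 10851) (.leaf 9068)) (.node (.leaf 13710) (.leaf 2042)))) (.node (.node (.node (.leaf 9013) (.leaf 13202)) (.node (.leaf 7085) (.leaf 4024))) (.node (.node (.leaf 14724) (.leaf 9054)) (.node (.leaf 15124) (.leaf 1804)))))) (.node (.node (.node (.node (.node (.leaf 4038) (.leaf 10953)) (.node (.leaf 1485) (.leaf 14032))) (.node (.node (.leaf 11946) (.leaf 10959)) (.node (.leaf 4047) (.leaf 3196)))) (.node (.node (.node (.leaf 10740)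 (.leaf 10599)) (.node (.leaf 8318) (.leaf 13026))) (.node (.node (.leaf 2113) (.leaf 7178)) (.node (.leaf 12591) (.leaf 11580))))) (.node (.node (.node (.node (.leaf 5337) (.leaf 12871)) (.node (.leaf 9650) (.leaf 6946))) (.node (.node (.leaf 5911) (.leaf 11593)) (.node (.leaf 15195) (.leaf 9106)))) (.node (.node (.node (.leaf 658) (.leaf 1210)) (.node (.leaf 2139) (.leaf 6101))) (.node (.node (.leaf 10458) (.leaf 3486)) (.leaf 11463)))))) (.node (.node (.node (.node (.node (.node (.leaf 7220) (.leaf 11562)) (.node (.leaf 1265) (.leaf 5263))) (.node (.node (.leaf 15539) (.leaf 11012)) (.node (.leaf 9711) (.leaf 5661)))) (.node (.node (.node (.leaf 9450) (.leaf 13863)) (.node (.leaf 8346) (.leaf 3748))) (.node (.node (.leaf 2350) (.leaf 3464)) (.node (.leaf 7764) (.leaf 8190))))) (.node (.node (.node (.node (.leaf 2598) (.leaf 9067)) (.node (.leaf 9877) (.leaf 12422))) (.node (.node (.leaf 6172) (.leaf 1435)) (.node (.leaf 8320) (.leaf 7924)))) (.node (.node (.node (.leaf 12284) (.leaf 3980)) (.node (.leaf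 407) (.leaf 11629))) (.node (.node (.leaf 2055) (.leaf 9347)) (.leaf 2240))))) (.node (.node (.node (.node (.node (.leaf 8755) (.leaf 13235)) (.node (.leaf 11023) (.leaf 12856))) (.node (.node (.leaf 3981) (.leaf 6306)) (.node (.leaf 1260) (.leaf 4579)))) (.node (.node (.node (.leaf 12991) (.leaf 14227)) (.node (.leaf 12655) (.leaf 14680))) (.node (.node (.leaf 13559) (.leaf 3925)) (.node (.leaf 2746) (.leaf 7736))))) (.node (.node (.node (.node (.leaf 283) (.leaf 6539)) (.node (.leaf 5124) (.leaf 5115))) (.node (.node (.leaf 13142) (.leaf 1130)) (.node (.leaf 6605) (.leaf 10524)))) (.node (.node (.node (.leaf 12287) (.leaf 14850)) (.node (.leaf 2386) (.leaf 15514))) (.node (.node (.leaf 7737) (.leaf 4390)) (.leaf 1655)))))))) (.node (.node (.node (.node (.node (.node (.node (.node (.leaf 13499) (.leaf 11091)) (.node (.leaf 864) (.leaf 4044))) (.node (.node (.leaf 10063) (.leaf 2218)) (.node (.leaf 3573) (.leaf 10600)))) (.node (.node (.node (.leaf 7606) (.leaf 3977)) (.node (.leaf 4303) (.leaf 8474)))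 (.node (.node (.leaf 3261) (.leaf 9540)) (.node (.leaf 8851) (.leaf 14380))))) (.node (.node (.node (.node (.leaf 14522) (.leaf 11619)) (.node (.leaf 3089) (.leaf 11644))) (.node (.node (.leaf 1180) (.leaf 6383)) (.node (.leaf 1207) (.leaf 8230)))) (.node (.node (.node (.leaf 10748) (.leaf 10271)) (.node (.leaf 15617) (.leaf 4103))) (.node (.node (.leaf 5913) (.leaf 3210)) (.node (.leaf 13779) (.leaf 14988)))))) (.node (.node (.node (.node (.node (.leaf 14311) (.leaf 7591)) (.node (.leaf 1203) (.leaf 2048))) (.node (.node (.leaf 6447) (.leaf 2740)) (.node (.leaf 10629) (.leaf 14395)))) (.node (.node (.node (.leaf 3156) (.leaf 3622)) (.node (.leaf 9728) (.leaf 13580))) (.node (.node (.leaf 12771) (.leaf 13047)) (.node (.leaf 13124) (.leaf 7580))))) (.node (.node (.node (.node (.leaf 9698) (.leaf 207)) (.node (.leaf 5820) (.leaf 15741))) (.node (.node (.leaf 424) (.leaf 2640)) (.node (.leaf 7786) (.leaf 13807)))) (.node (.node (.node (.leaf 2940) (.leaf 12320)) (.node (.leaf 11001) (.leaf 5857))) (.node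 (.node (.leaf 9424) (.leaf 4749)) (.leaf 13195)))))) (.node (.node (.node (.node (.node (.node (.leaf 541) (.leaf 13082)) (.node (.leaf 562) (.leaf 5608))) (.node (.node (.leaf 9172) (.leaf 3029)) (.node (.leaf 9113) (.leaf 508)))) (.node (.node (.node (.leaf 1747) (.leaf 14210)) (.node (.leaf 13248) (.leaf 5482))) (.node (.node (.leaf 2105) (.leaf 11345)) (.node (.leaf 917) (.leaf 8185))))) (.node (.node (.node (.node (.leaf 5239) (.leaf 15503)) (.node (.leaf 7975) (.leaf 15884))) (.node (.node (.leaf 3289) (.leaf 11801)) (.node (.leaf 14134) (.leaf 9259)))) (.node (.node (.node (.leaf 15047) (.leaf 7134)) (.node (.leaf 6360) (.leaf 3665))) (.node (.node (.leaf 8721) (.leaf 5705)) (.leaf 8235))))) (.node (.node (.node (.node (.node (.leaf 15912) (.leaf 8116)) (.node (.leaf 14238) (.leaf 13520))) (.node (.node (.leaf 6632) (.leaf 9836)) (.node (.leaf 15601) (.leaf 6858)))) (.node (.node (.node (.leaf 6346) (.leaf 7319)) (.node (.leaf 3872) (.leaf 14216))) (.node (.node (.leaf 6201) (.leaf 2633)) (.node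 (.leaf 844) (.leaf 6918))))) (.node (.node (.node (.node (.leaf 7832) (.leaf 5025)) (.node (.leaf 1182) (.leaf 8617))) (.node (.node (.leaf 14013) (.leaf 15329)) (.node (.leaf 15543) (.leaf 8816)))) (.node (.node (.node (.leaf 3159) (.leaf 1770)) (.node (.leaf 10687) (.leaf 554))) (.node (.node (.leaf 10870) (.leaf 8962)) (.leaf 5909))))))) (.node (.node (.node (.node (.node (.node (.node (.leaf 2533) (.leaf 11649)) (.node (.leaf 7214) (.leaf 8118))) (.node (.node (.leaf 8252) (.leaf 1200)) (.node (.leaf 3618) (.leaf 8596)))) (.node (.node (.node (.leaf 11494) (.leaf 11407)) (.node (.leaf 9863) (.leaf 7347))) (.node (.node (.leaf 6934) (.leaf 9581)) (.node (.leaf 2700) (.leaf 15242))))) (.node (.node (.node (.node (.leaf 15770) (.leaf 12189)) (.node (.leaf 15244) (.leaf 13393))) (.node (.node (.leaf 14266) (.leaf 5311)) (.node (.leaf 8393) (.leaf 2241)))) (.node (.node (.node (.leaf 10281) (.leaf 8645)) (.node (.leaf 15593) (.leaf 4585))) (.node (.node (.leaf 1630) (.leaf 5740)) (.leaf 14159))))) (.node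 (.node (.node (.node (.node (.leaf 6249) (.leaf 14647)) (.node (.leaf 4715) (.leaf 5526))) (.node (.node (.leaf 1678) (.leaf 7317)) (.node (.leaf 8119) (.leaf 7157)))) (.node (.node (.node (.leaf 2069) (.leaf 2463)) (.node (.leaf 4599) (.leaf 601))) (.node (.node (.leaf 6149) (.leaf 4350)) (.node (.leaf 869) (.leaf 11734))))) (.node (.node (.node (.node (.leaf 10908) (.leaf 8764)) (.node (.leaf 8207) (.leaf 12306))) (.node (.node (.leaf 14446) (.leaf 3250)) (.node (.leaf 5541) (.leaf 13406)))) (.node (.node (.node (.leaf 2067) (.leaf 14384)) (.node (.leaf 677) (.leaf 13281))) (.node (.node (.leaf 4810) (.leaf 15800)) (.leaf 5423)))))) (.node (.node (.node (.node (.node (.node (.leaf 2592) (.leaf 2977)) (.node (.leaf 15920) (.leaf 2227))) (.node (.node (.leaf 3501) (.leaf 14123)) (.node (.leaf 8742) (.leaf 11661)))) (.node (.node (.node (.leaf 11792) (.leaf 2817)) (.node (.leaf 2058) (.leaf 12842))) (.node (.node (.leaf 9686) (.leaf 8233)) (.node (.leaf 8791) (.leaf 13971))))) (.node (.node (.node (.node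 (.leaf 5098) (.leaf 10864)) (.node (.leaf 15879) (.leaf 7711))) (.node (.node (.leaf 6290) (.leaf 13265)) (.node (.leaf 9442) (.leaf 10976)))) (.node (.node (.node (.leaf 12620) (.leaf 15652)) (.node (.leaf 7599) (.leaf 11392))) (.node (.node (.leaf 4346) (.leaf 11277)) (.leaf 11267))))) (.node (.node (.node (.node (.node (.leaf 10107) (.leaf 13914)) (.node (.leaf 9500) (.leaf 7375))) (.node (.node (.leaf 8162) (.leaf 2483)) (.node (.leaf 13941) (.leaf 1881)))) (.node (.node (.node (.leaf 15291) (.leaf 12770)) (.node (.leaf 13075) (.leaf 9921))) (.node (.node (.leaf 14512) (.leaf 382)) (.node (.leaf 1921) (.leaf 14434))))) (.node (.node (.node (.node (.leaf 10933) (.leaf 6556)) (.node (.leaf 6220) (.leaf 11217))) (.node (.node (.leaf 5861) (.leaf 5679)) (.node (.leaf 630) (.leaf 180)))) (.node (.node (.node (.leaf 1941) (.leaf 10475)) (.node (.leaf 12911) (.leaf 13724))) (.node (.node (.leaf 12964) (.leaf 13833)) (.leaf 9957))))))))))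

def lineOrder6 : Tree (ℕ) :=
  (.node (.node (.node (.node (.node (.node (.node (.node (.node (.node (.leaf 398) (.leaf 63)) (.node (.leaf 12477) (.leaf 8425))) (.node (.node (.leaf 6727) (.leaf 13284)) (.node (.leaf 7496) (.leaf 3884)))) (.node (.node (.node (.leaf 8622) (.leaf 11450)) (.node (.leaf 4954) (.leaf 9214))) (.node (.node (.leaf 1975) (.leaf 165)) (.node (.leaf 14873) (.leaf 8477))))) (.node (.node (.node (.node (.leaf 7188) (.leaf 4901)) (.node (.leaf 5211) (.leaf 3209))) (.node (.node (.leaf 15753) (.leaf 12206)) (.node (.leaf 5796) (.leaf 2621)))) (.node (.node (.node (.leaf 12413) (.leaf 8304)) (.node (.leaf 10982) (.leaf 7192))) (.node (.node (.leaf 13571) (.leaf 9916)) (.node (.leaf 15675) (.leaf 1756)))))) (.node (.node (.node (.node (.node (.leaf 10093) (.leaf 39)) (.node (.leaf 14038) (.leaf 14536))) (.node (.node (.leaf 12611) (.leaf 14093)) (.node (.leaf 12349) (.leaf 10669)))) (.node (.node (.node (.leaf 15958) (.leaf 12364)) (.node (.leaf 2910) (.leaf 4297))) (.node (.node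 (.leaf 9518) (.leaf 2891)) (.node (.leaf 1477) (.leaf 15747))))) (.node (.node (.node (.node (.leaf 12230) (.leaf 1670)) (.node (.leaf 10552) (.leaf 15639))) (.node (.node (.leaf 11147) (.leaf 14504)) (.node (.leaf 4113) (.leaf 2035)))) (.node (.node (.node (.leaf 12292) (.leaf 5560)) (.node (.leaf 11324) (.leaf 12042))) (.node (.node (.leaf 3640) (.leaf 13801)) (.leaf 4151)))))) (.node (.node (.node (.node (.node (.node (.leaf 10630) (.leaf 5695)) (.node (.leaf 12344) (.leaf 57))) (.node (.node (.leaf 3614) (.leaf 3940)) (.node (.leaf 5824) (.leaf 3629)))) (.node (.node (.node (.leaf 12311) (.leaf 2080)) (.node (.leaf 599) (.leaf 6735))) (.node (.node (.leaf 7621) (.leaf 8894)) (.node (.leaf 1672) (.leaf 8080))))) (.node (.node (.node (.node (.leaf 1097) (.leaf 6228)) (.node (.leaf 2515) (.leaf 9938))) (.node (.node (.leaf 15467) (.leaf 992)) (.node (.leaf 191) (.leaf 10916)))) (.node (.node (.node (.leaf 8774) (.leaf 9587)) (.node (.leaf 15905) (.leaf 13877))) (.node (.node (.leaf 10566) (.leaf 5506))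 (.leaf 8638))))) (.node (.node (.node (.node (.node (.leaf 9430) (.leaf 10447)) (.node (.leaf 14572) (.leaf 14954))) (.node (.node (.leaf 15690) (.leaf 3262)) (.node (.leaf 2752) (.leaf 5105)))) (.node (.node (.node (.leaf 12289) (.leaf 11487)) (.node (.leaf 2860) (.leaf 3092))) (.node (.node (.leaf 2396) (.leaf 228)) (.node (.leaf 10126) (.leaf 9972))))) (.node (.node (.node (.node (.leaf 3919) (.leaf 10483)) (.node (.leaf 12884) (.leaf 969))) (.node (.node (.leaf 8521) (.leaf 10144)) (.node (.leaf 3999) (.leaf 11031)))) (.node (.node (.node (.leaf 10739) (.leaf 3790)) (.node (.leaf 783) (.leaf 13658))) (.node (.node (.leaf 7490) (.leaf 12131)) (.leaf 15817))))))) (.node (.node (.node (.node (.node (.node (.node (.leaf 2539) (.leaf 8101)) (.node (.leaf 14640) (.leaf 8524))) (.node (.node (.leaf 15443) (.leaf 9924)) (.node (.leaf 1449) (.leaf 12616)))) (.node (.node (.node (.leaf 6688) (.leaf 15695)) (.node (.leaf 9537) (.leaf 531))) (.node (.node (.leaf 12429) (.leaf 5998)) (.node (.leaf 13324) (.leaf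 9601))))) (.node (.node (.node (.node (.leaf 12437) (.leaf 2698)) (.node (.leaf 8850) (.leaf 9586))) (.node (.node (.leaf 4388) (.leaf 11395)) (.node (.leaf 2496) (.leaf 12951)))) (.node (.node (.node (.leaf 3372) (.leaf 2494)) (.node (.leaf 10717) (.leaf 4850))) (.node (.node (.leaf 309) (.leaf 12630)) (.node (.leaf 11705) (.leaf 15530)))))) (.node (.node (.node (.node (.node (.leaf 4635) (.leaf 11977)) (.node (.leaf 13566) (.leaf 15578))) (.node (.node (.leaf 1011) (.leaf 2397)) (.node (.leaf 2196) (.leaf 7543)))) (.node (.node (.node (.leaf 757) (.leaf 3595)) (.node (.leaf 5434) (.leaf 15001))) (.node (.node (.leaf 3144) (.leaf 4011)) (.node (.leaf 13093) (.leaf 272))))) (.node (.node (.node (.node (.leaf 7457) (.leaf 10061)) (.node (.leaf 14794) (.leaf 11024))) (.node (.node (.leaf 12397) (.leaf 2264)) (.node (.leaf 5517) (.leaf 13280)))) (.node (.node (.node (.leaf 8439) (.leaf 8404)) (.node (.leaf 4399) (.leaf 14947))) (.node (.node (.leaf 8146) (.leaf 12386)) (.leaf 12739)))))) (.node (.node (.node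 (.node (.node (.node (.leaf 14778) (.leaf 8537)) (.node (.leaf 2409) (.leaf 6083))) (.node (.node (.leaf 7486) (.leaf 7159)) (.node (.leaf 3215) (.leaf 8812)))) (.node (.node (.node (.leaf 15213) (.leaf 1697)) (.node (.leaf 13206) (.leaf 9811))) (.node (.node (.leaf 15925) (.leaf 13719)) (.node (.leaf 14706) (.leaf 9282))))) (.node (.node (.node (.node (.leaf 1559) (.leaf 4883)) (.node (.leaf 5641) (.leaf 12359))) (.node (.node (.leaf 1704) (.leaf 15474)) (.node (.leaf 4283) (.leaf 11671)))) (.node (.node (.node (.leaf 2237) (.leaf 293)) (.node (.leaf 2143) (.leaf 11752))) (.node (.node (.leaf 9334) (.leaf 7641)) (.leaf 8264))))) (.node (.node (.node (.node (.node (.leaf 15952) (.leaf 7177)) (.node (.leaf 1699) (.leaf 7333))) (.node (.node (.leaf 13452) (.leaf 2797)) (.node (.leaf 933) (.leaf 2116)))) (.node (.node (.node (.leaf 15266) (.leaf 5481)) (.node (.leaf 2106) (.leaf 9545))) (.node (.node (.leaf 5733) (.leaf 290)) (.node (.leaf 6726) (.leaf 5853))))) (.node (.node (.node (.node (.leaf 8753)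 (.leaf 14397)) (.node (.leaf 4112) (.leaf 10819))) (.node (.node (.leaf 3257) (.leaf 6159)) (.node (.leaf 1335) (.leaf 10587)))) (.node (.node (.node (.leaf 13152) (.leaf 11257)) (.node (.leaf 9100) (.leaf 6971))) (.node (.node (.leaf 11453) (.leaf 3146)) (.leaf 8500)))))))) (.node (.node (.node (.node (.node (.node (.node (.node (.leaf 1766) (.leaf 2675)) (.node (.leaf 712) (.leaf 11826))) (.node (.node (.leaf 11011) (.leaf 14687)) (.node (.leaf 7693) (.leaf 1984)))) (.node (.node (.node (.leaf 7810) (.leaf 3350)) (.node (.leaf 13417) (.leaf 1127))) (.node (.node (.leaf 9155) (.leaf 6399)) (.node (.leaf 2922) (.leaf 9942))))) (.node (.node (.node (.node (.leaf 11790) (.leaf 8323)) (.node (.leaf 12847) (.leaf 10437))) (.node (.node (.leaf 15633) (.leaf 5819)) (.node (.leaf 5203) (.leaf 3463)))) (.node (.node (.node (.leaf 27) (.leaf 1431)) (.node (.leaf 12470) (.leaf 14831))) (.node (.node (.leaf 11036) (.leaf 9117)) (.node (.leaf 10486) (.leaf 3508)))))) (.node (.node (.node (.node (.node (.leaf 3128)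 (.leaf 12779)) (.node (.leaf 4243) (.leaf 12116))) (.node (.node (.leaf 2420) (.leaf 8065)) (.node (.leaf 8105) (.leaf 11126)))) (.node (.node (.node (.leaf 10464) (.leaf 4760)) (.node (.leaf 2092) (.leaf 9509))) (.node (.node (.leaf 9770) (.leaf 7622)) (.node (.leaf 7372) (.leaf 3344))))) (.node (.node (.node (.node (.leaf 4551) (.leaf 15615)) (.node (.leaf 5032) (.leaf 15896))) (.node (.node (.leaf 12190) (.leaf 6955)) (.node (.leaf 13416) (.leaf 170)))) (.node (.node (.node (.leaf 28) (.leaf 1341)) (.node (.leaf 7010) (.leaf 9359))) (.node (.node (.leaf 3313) (.leaf 13282)) (.leaf 14068)))))) (.node (.node (.node (.node (.node (.node (.leaf 8845) (.leaf 8644)) (.node (.leaf 1168) (.leaf 15501))) (.node (.node (.leaf 10578) (.leaf 7292)) (.node (.leaf 8615) (.leaf 8115)))) (.node (.node (.node (.leaf 4552) (.leaf 740)) (.node (.leaf 13396) (.leaf 11))) (.node (.node (.leaf 8000) (.leaf 1578)) (.node (.leaf 11059) (.leaf 4995))))) (.node (.node (.node (.node (.leaf 10425) (.leaf 4531)) (.node (.leaf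 13462) (.leaf 2764))) (.node (.node (.leaf 5809) (.leaf 2709)) (.node (.leaf 13222) (.leaf 6875)))) (.node (.node (.node (.leaf 4617) (.leaf 11281)) (.node (.leaf 4909) (.leaf 13068))) (.node (.node (.leaf 6047) (.leaf 10557)) (.leaf 10389))))) (.node (.node (.node (.node (.node (.leaf 7236) (.leaf 4921)) (.node (.leaf 9307) (.leaf 12821))) (.node (.node (.leaf 11393) (.leaf 8479)) (.node (.leaf 323) (.leaf 11378)))) (.node (.node (.node (.leaf 5086) (.leaf 3663)) (.node (.leaf 1205) (.leaf 6960))) (.node (.node (.leaf 9201) (.leaf 1638)) (.node (.leaf 12602) (.leaf 5817))))) (.node (.node (.node (.node (.leaf 2612) (.leaf 10216)) (.node (.leaf 8738) (.leaf 15620))) (.node (.node (.leaf 7357) (.leaf 14015)) (.node (.leaf 13354) (.leaf 12701)))) (.node (.node (.node (.leaf 5305) (.leaf 2372)) (.node (.leaf 5565) (.leaf 12443))) (.node (.node (.leaf 9850) (.leaf 3680)) (.leaf 14403))))))) (.node (.node (.node (.node (.node (.node (.node (.leaf 11153) (.leaf 7070)) (.node (.leaf 15368) (.leaf 3673))) (.node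 (.node (.leaf 14810) (.leaf 13683)) (.node (.leaf 3705) (.leaf 8728)))) (.node (.node (.node (.leaf 4983) (.leaf 2991)) (.node (.leaf 15664) (.leaf 5329))) (.node (.node (.leaf 843) (.leaf 14135)) (.node (.leaf 3754) (.leaf 958))))) (.node (.node (.node (.node (.leaf 2614) (.leaf 5680)) (.node (.leaf 15810) (.leaf 13241))) (.node (.node (.leaf 1365) (.leaf 7166)) (.node (.leaf 13896) (.leaf 1208)))) (.node (.node (.node (.leaf 1945) (.leaf 192)) (.node (.leaf 2813) (.leaf 9782))) (.node (.node (.leaf 6198) (.leaf 6207)) (.leaf 10169))))) (.node (.node (.node (.node (.node (.leaf 2618) (.leaf 11742)) (.node (.leaf 13212) (.leaf 7199))) (.node (.node (.leaf 12043) (.leaf 687)) (.node (.leaf 2323) (.leaf 5701)))) (.node (.node (.node (.leaf 14335) (.leaf 8553)) (.node (.leaf 9662) (.leaf 10373))) (.node (.node (.leaf 5408) (.leaf 10964)) (.node (.leaf 7345) (.leaf 9671))))) (.node (.node (.node (.node (.leaf 10733) (.leaf 8667)) (.node (.leaf 15623) (.leaf 3519))) (.node (.node (.leaf 238) (.leaf 1978))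 (.node (.leaf 12890) (.leaf 12441)))) (.node (.node (.node (.leaf 15390) (.leaf 9835)) (.node (.leaf 6038) (.leaf 5590))) (.node (.node (.leaf 8051) (.leaf 5351)) (.leaf 15061)))))) (.node (.node (.node (.node (.node (.node (.leaf 5363) (.leaf 7018)) (.node (.leaf 8719) (.leaf 12968))) (.node (.node (.leaf 3428) (.leaf 7447)) (.node (.leaf 11215) (.leaf 5450)))) (.node (.node (.node (.leaf 4618) (.leaf 2848)) (.node (.leaf 4733) (.leaf 9270))) (.node (.node (.leaf 10829) (.leaf 10915)) (.node (.leaf 4685) (.leaf 15432))))) (.node (.node (.node (.node (.leaf 418) (.leaf 11056)) (.node (.leaf 6143) (.leaf 4898))) (.node (.node (.leaf 7346) (.leaf 4446)) (.node (.leaf 7847) (.leaf 3951)))) (.node (.node (.node (.leaf 12513) (.leaf 5048)) (.node (.leaf 9689) (.leaf 3970))) (.node (.node (.leaf 10609) (.leaf 172)) (.leaf 1789))))) (.node (.node (.node (.node (.node (.leaf 1498) (.leaf 8529)) (.node (.leaf 8968) (.leaf 14401))) (.node (.node (.leaf 7825) (.leaf 9372)) (.node (.leaf 12952) (.leaf 12778))))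 (.node (.node (.node (.leaf 13255) (.leaf 11329)) (.node (.leaf 3079) (.leaf 15575))) (.node (.node (.leaf 2744) (.leaf 7583)) (.node (.leaf 7093) (.leaf 3457))))) (.node (.node (.node (.node (.leaf 10171) (.leaf 11931)) (.node (.leaf 15461) (.leaf 10896))) (.node (.node (.leaf 6528) (.leaf 7659)) (.node (.leaf 10871) (.leaf 6366)))) (.node (.node (.node (.leaf 13488) (.leaf 9123)) (.node (.leaf 8171) (.leaf 11250))) (.node (.node (.leaf 14627) (.leaf 11008)) (.leaf 3208))))))))) (.node (.node (.node (.node (.node (.node (.node (.node (.node (.leaf 13613) (.leaf 2402)) (.node (.leaf 10861) (.leaf 3747))) (.node (.node (.leaf 15942) (.leaf 174)) (.node (.leaf 11253) (.leaf 10223)))) (.node (.node (.node (.leaf 13388) (.leaf 11732)) (.node (.leaf 7946) (.leaf 8563))) (.node (.node (.leaf 12104) (.leaf 13977)) (.node (.leaf 12777) (.leaf 8400))))) (.node (.node (.node (.node (.leaf 10833) (.leaf 6900)) (.node (.leaf 875) (.leaf 4868))) (.node (.node (.leaf 7652) (.leaf 8045)) (.node (.leaf 15921) (.leaf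 3756)))) (.node (.node (.node (.leaf 7235) (.leaf 14888)) (.node (.leaf 11051) (.leaf 12491))) (.node (.node (.leaf 8746) (.leaf 1790)) (.node (.leaf 12684) (.leaf 2177)))))) (.node (.node (.node (.node (.node (.leaf 7747) (.leaf 14559)) (.node (.leaf 7515) (.leaf 10359))) (.node (.node (.leaf 7139) (.leaf 4434)) (.node (.leaf 13875) (.leaf 10071)))) (.node (.node (.node (.leaf 6437) (.leaf 13915)) (.node (.leaf 2162) (.leaf 14414))) (.node (.node (.leaf 7596) (.leaf 9923)) (.node (.leaf 6011) (.leaf 5357))))) (.node (.node (.node (.node (.leaf 14317) (.leaf 8413)) (.node (.leaf 14002) (.leaf 5671))) (.node (.node (.leaf 2814) (.leaf 5548)) (.node (.leaf 14236) (.leaf 4814)))) (.node (.node (.node (.leaf 1943) (.leaf 7332)) (.node (.leaf 14555) (.leaf 4001))) (.node (.node (.leaf 13245) (.leaf 6600)) (.leaf 15869)))))) (.node (.node (.node (.node (.node (.node (.leaf 10638) (.leaf 7863)) (.node (.leaf 7588) (.leaf 2755))) (.node (.node (.leaf 10815) (.leaf 12959)) (.node (.leaf 7917) (.leaf 10545))))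 (.node (.node (.node (.leaf 4316) (.leaf 14820)) (.node (.leaf 14985) (.leaf 1238))) (.node (.node (.leaf 10400) (.leaf 15936)) (.node (.leaf 3565) (.leaf 3716))))) (.node (.node (.node (.node (.leaf 5303) (.leaf 13784)) (.node (.leaf 5436) (.leaf 12660))) (.node (.node (.leaf 2121) (.leaf 15728)) (.node (.leaf 2770) (.leaf 13682)))) (.node (.node (.node (.leaf 7538) (.leaf 14131)) (.node (.leaf 4929) (.leaf 2465))) (.node (.node (.leaf 7170) (.leaf 11813)) (.leaf 9081))))) (.node (.node (.node (.node (.node (.leaf 1468) (.leaf 6988)) (.node (.leaf 3517) (.leaf 8471))) (.node (.node (.leaf 3566) (.leaf 7928)) (.node (.leaf 13797) (.leaf 12744)))) (.node (.node (.node (.leaf 15775) (.leaf 12785)) (.node (.leaf 11443) (.leaf 735))) (.node (.node (.leaf 11810) (.leaf 4506)) (.node (.leaf 13063) (.leaf 14626))))) (.node (.node (.node (.node (.leaf 5308) (.leaf 12685)) (.node (.leaf 7718) (.leaf 212))) (.node (.node (.leaf 5185) (.leaf 5462)) (.node (.leaf 2038) (.leaf 663)))) (.node (.node (.node (.leaf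 15269) (.leaf 13753)) (.node (.leaf 4809) (.leaf 14909))) (.node (.node (.leaf 15541) (.leaf 11090)) (.leaf 12767))))))) (.node (.node (.node (.node (.node (.node (.node (.leaf 1760) (.leaf 2417)) (.node (.leaf 9251) (.leaf 14462))) (.node (.node (.leaf 12143) (.leaf 15573)) (.node (.leaf 11380) (.leaf 9767)))) (.node (.node (.node (.leaf 10283) (.leaf 9884)) (.node (.leaf 15367) (.leaf 10361))) (.node (.node (.leaf 3897) (.leaf 3040)) (.node (.leaf 1251) (.leaf 5908))))) (.node (.node (.node (.node (.leaf 6680) (.leaf 11029)) (.node (.leaf 13009) (.leaf 2607))) (.node (.node (.leaf 13780) (.leaf 11108)) (.node (.leaf 14568) (.leaf 483)))) (.node (.node (.node (.leaf 755) (.leaf 2605)) (.node (.leaf 9356) (.leaf 10625))) (.node (.node (.leaf 15843) (.leaf 10158)) (.node (.leaf 15871) (.leaf 14248)))))) (.node (.node (.node (.node (.node (.leaf 9577) (.leaf 4256)) (.node (.leaf 9409) (.leaf 12492))) (.node (.node (.leaf 15619) (.leaf 2460)) (.node (.leaf 2818) (.leaf 5029)))) (.node (.node (.node (.leaf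 1155) (.leaf 2873)) (.node (.leaf 12325) (.leaf 13865))) (.node (.node (.leaf 9594) (.leaf 10597)) (.node (.leaf 1071) (.leaf 5014))))) (.node (.node (.node (.node (.leaf 15955) (.leaf 9411)) (.node (.leaf 11116) (.leaf 8453))) (.node (.node (.leaf 3006) (.leaf 2335)) (.node (.leaf 12027) (.leaf 13659)))) (.node (.node (.node (.leaf 15786) (.leaf 2165)) (.node (.leaf 3859) (.leaf 7703))) (.node (.node (.leaf 2881) (.leaf 11606)) (.leaf 8333)))))) (.node (.node (.node (.node (.node (.node (.leaf 12439) (.leaf 15727)) (.node (.leaf 11362) (.leaf 355))) (.node (.node (.leaf 3403) (.leaf 345)) (.node (.leaf 9654) (.leaf 3537)))) (.node (.node (.node (.leaf 15918) (.leaf 13020)) (.node (.leaf 13224) (.leaf 6274))) (.node (.node (.leaf 11179) (.leaf 1662)) (.node (.leaf 9462) (.leaf 11028))))) (.node (.node (.node (.node (.leaf 12331) (.leaf 14705)) (.node (.leaf 5554) (.leaf 6989))) (.node (.node (.leaf 8542) (.leaf 2314)) (.node (.leaf 15320) (.leaf 8578)))) (.node (.node (.node (.leaf 13704) (.leaf 6885))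 (.node (.leaf 159) (.leaf 11480))) (.node (.node (.leaf 8939) (.leaf 10682)) (.leaf 9638))))) (.node (.node (.node (.node (.node (.leaf 13599) (.leaf 12194)) (.node (.leaf 8198) (.leaf 13460))) (.node (.node (.leaf 5871) (.leaf 9666)) (.node (.leaf 7124) (.leaf 14417)))) (.node (.node (.node (.leaf 8437) (.leaf 979)) (.node (.leaf 15189) (.leaf 9087))) (.node (.node (.leaf 14257) (.leaf 10778)) (.node (.leaf 12270) (.leaf 7241))))) (.node (.node (.node (.node (.leaf 413) (.leaf 11121)) (.node (.leaf 1131) (.leaf 13550))) (.node (.node (.leaf 15454) (.leaf 8212)) (.node (.leaf 8053) (.leaf 3599)))) (.node (.node (.node (.leaf 13707) (.leaf 13188)) (.node (.leaf 4816) (.leaf 8334))) (.node (.node (.leaf 11054) (.leaf 15528)) (.leaf 7341)))))))) (.node (.node (.node (.node (.node (.node (.node (.node (.leaf 13615) (.leaf 764)) (.node (.leaf 854) (.leaf 306))) (.node (.node (.leaf 10161) (.leaf 4513)) (.node (.leaf 12444) (.leaf 14673)))) (.node (.node (.node (.leaf 2077) (.leaf 2225)) (.node (.leaf 9156)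 (.leaf 2126))) (.node (.node (.leaf 12608) (.leaf 10398)) (.node (.leaf 9386) (.leaf 6177))))) (.node (.node (.node (.node (.leaf 1098) (.leaf 605)) (.node (.leaf 7592) (.leaf 3963))) (.node (.node (.leaf 4536) (.leaf 15613)) (.node (.leaf 617) (.leaf 4248)))) (.node (.node (.node (.leaf 5087) (.leaf 12087)) (.node (.leaf 5843) (.leaf 2109))) (.node (.node (.leaf 1901) (.leaf 8247)) (.node (.leaf 8765) (.leaf 2016)))))) (.node (.node (.node (.node (.node (.leaf 15766) (.leaf 1872)) (.node (.leaf 12467) (.leaf 11172))) (.node (.node (.leaf 11933) (.leaf 5744)) (.node (.leaf 4020) (.leaf 9209)))) (.node (.node (.node (.leaf 6655) (.leaf 4657)) (.node (.leaf 3277) (.leaf 15179))) (.node (.node (.leaf 7558) (.leaf 7327)) (.node (.leaf 6059) (.leaf 2930))))) (.node (.node (.node (.node (.leaf 2025) (.leaf 12547)) (.node (.leaf 2687) (.leaf 738))) (.node (.node (.leaf 5297) (.leaf 10476)) (.node (.leaf 13694) (.leaf 1504)))) (.node (.node (.node (.leaf 10426) (.leaf 14)) (.node (.leaf 9506) (.leaf 1016)))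 (.node (.node (.leaf 10977) (.leaf 7392)) (.leaf 11274)))))) (.node (.node (.node (.node (.node (.node (.leaf 10632) (.leaf 4098)) (.node (.leaf 8102) (.leaf 6377))) (.node (.node (.leaf 6043) (.leaf 1924)) (.node (.leaf 14896) (.leaf 4907)))) (.node (.node (.node (.leaf 1039) (.leaf 6947)) (.node (.leaf 3186) (.leaf 11376))) (.node (.node (.leaf 7123) (.leaf 2426)) (.node (.leaf 8289) (.leaf 6751))))) (.node (.node (.node (.node (.leaf 1467) (.leaf 9670)) (.node (.leaf 3207) (.leaf 11623))) (.node (.node (.leaf 12854) (.leaf 5926)) (.node (.leaf 13344) (.leaf 4626)))) (.node (.node (.node (.leaf 3371) (.leaf 12017)) (.node (.leaf 13912) (.leaf 466))) (.node (.node (.leaf 11524) (.leaf 2655)) (.leaf 8700))))) (.node (.node (.node (.node (.node (.leaf 11681) (.leaf 302)) (.node (.leaf 12309) (.leaf 9640))) (.node (.node (.leaf 13601) (.leaf 9875)) (.node (.leaf 14729) (.leaf 648)))) (.node (.node (.node (.leaf 2550) (.leaf 11751)) (.node (.leaf 13044) (.leaf 6222))) (.node (.node (.leaf 5109) (.leaf 3596))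 (.node (.leaf 10441) (.leaf 7169))))) (.node (.node (.node (.node (.leaf 5933) (.leaf 4784)) (.node (.leaf 4539) (.leaf 15442))) (.node (.node (.leaf 13199) (.leaf 1489)) (.node (.leaf 4421) (.leaf 153)))) (.node (.node (.node (.leaf 6656) (.leaf 6505)) (.node (.leaf 9421) (.leaf 13100))) (.node (.node (.leaf 14067) (.leaf 8358)) (.leaf 1234))))))) (.node (.node (.node (.node (.node (.node (.node (.leaf 10633) (.leaf 3967)) (.node (.leaf 686) (.leaf 1311))) (.node (.node (.leaf 9212) (.leaf 1660)) (.node (.leaf 7777) (.leaf 4046)))) (.node (.node (.node (.leaf 10844) (.leaf 3414)) (.node (.leaf 5155) (.leaf 6628))) (.node (.node (.leaf 14684) (.leaf 7895)) (.node (.leaf 1247) (.leaf 2169))))) (.node (.node (.node (.node (.leaf 7029) (.leaf 3118)) (.node (.leaf 7376) (.leaf 10606))) (.node (.node (.leaf 3513) (.leaf 1616)) (.node (.leaf 5068) (.leaf 9636)))) (.node (.node (.node (.leaf 13158) (.leaf 3659)) (.node (.leaf 6777) (.leaf 12134))) (.node (.node (.leaf 776) (.leaf 14499)) (.leaf 3461))))) (.node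 (.node (.node (.node (.node (.leaf 7886) (.leaf 15032)) (.node (.leaf 1360) (.leaf 15550))) (.node (.node (.leaf 358) (.leaf 11755)) (.node (.leaf 11576) (.leaf 15491)))) (.node (.node (.node (.leaf 9570) (.leaf 3228)) (.node (.leaf 1536) (.leaf 6394))) (.node (.node (.leaf 209) (.leaf 15712)) (.node (.leaf 4259) (.leaf 9461))))) (.node (.node (.node (.node (.leaf 14601) (.leaf 13770)) (.node (.leaf 8242) (.leaf 360))) (.node (.node (.leaf 10942) (.leaf 11601)) (.node (.leaf 5393) (.leaf 6603)))) (.node (.node (.node (.leaf 12296) (.leaf 13468)) (.node (.leaf 7050) (.leaf 14453))) (.node (.node (.leaf 1569) (.leaf 15653)) (.leaf 5780)))))) (.node (.node (.node (.node (.node (.node (.leaf 12232) (.leaf 2311)) (.node (.leaf 482) (.leaf 710))) (.node (.node (.leaf 14133) (.leaf 6493)) (.node (.leaf 214) (.leaf 12545)))) (.node (.node (.node (.leaf 3155) (.leaf 4040)) (.node (.leaf 2178) (.leaf 4397))) (.node (.node (.leaf 12589) (.leaf 15570)) (.node (.leaf 10338) (.leaf 14230))))) (.node (.node (.node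 (.node (.leaf 3389) (.leaf 11398)) (.node (.leaf 15122) (.leaf 7958))) (.node (.node (.leaf 13678) (.leaf 8427)) (.node (.leaf 10857) (.leaf 6100)))) (.node (.node (.node (.leaf 14286) (.leaf 9915)) (.node (.leaf 3083) (.leaf 1399))) (.node (.node (.leaf 6668) (.leaf 2339)) (.leaf 9344))))) (.node (.node (.node (.node (.node (.leaf 7453) (.leaf 5919)) (.node (.leaf 4822) (.leaf 15248))) (.node (.node (.leaf 6833) (.leaf 14653)) (.node (.leaf 13689) (.leaf 3749)))) (.node (.node (.node (.leaf 8911) (.leaf 9392)) (.node (.leaf 1301) (.leaf 8008))) (.node (.node (.leaf 5706) (.leaf 3348)) (.node (.leaf 12002) (.leaf 5379))))) (.node (.node (.node (.node (.leaf 1495) (.leaf 11948)) (.node (.leaf 13782) (.leaf 15153))) (.node (.node (.leaf 8654) (.leaf 9733)) (.node (.leaf 1295) (.leaf 5660)))) (.node (.node (.node (.leaf 12721) (.leaf 9852)) (.node (.leaf 13148) (.leaf 9174))) (.node (.node (.leaf 5849) (.leaf 10762)) (.leaf 11309))))))))))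

def lineOrder7 : Tree (ℕ) :=
  (.node (.node (.node (.node (.node (.node (.node (.node (.node (.node (.leaf 9268) (.leaf 3014)) (.node (.leaf 13054) (.leaf 14554))) (.node (.node (.leaf 11382) (.leaf 2268)) (.node (.leaf 558) (.leaf 7864)))) (.node (.node (.node (.leaf 12120) (.leaf 5262)) (.node (.leaf 9281) (.leaf 9208))) (.node (.node (.leaf 1296) (.leaf 14101)) (.node (.leaf 8957) (.leaf 10335))))) (.node (.node (.node (.node (.leaf 14711) (.leaf 4961)) (.node (.leaf 14930) (.leaf 1706))) (.node (.node (.leaf 4540) (.leaf 5328)) (.node (.leaf 10642) (.leaf 6465)))) (.node (.node (.node (.leaf 2230) (.leaf 14550)) (.node (.leaf 15101) (.leaf 4649))) (.node (.node (.leaf 1063) (.leaf 12158)) (.node (.leaf 13552) (.leaf 12618)))))) (.node (.node (.node (.node (.node (.leaf 13374) (.leaf 5761)) (.node (.leaf 11834) (.leaf 14963))) (.node (.node (.leaf 1753) (.leaf 8614)) (.node (.leaf 6030) (.leaf 1000)))) (.node (.node (.node (.leaf 15296) (.leaf 15278)) (.node (.leaf 1340) (.leaf 5218))) (.node (.node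 (.leaf 3753) (.leaf 4837)) (.node (.leaf 8540) (.leaf 3410))))) (.node (.node (.node (.node (.leaf 890) (.leaf 13664)) (.node (.leaf 15408) (.leaf 12833))) (.node (.node (.leaf 9646) (.leaf 4366)) (.node (.leaf 2821) (.leaf 14904)))) (.node (.node (.node (.leaf 284) (.leaf 888)) (.node (.leaf 8856) (.leaf 4975))) (.node (.node (.leaf 12755) (.leaf 2578)) (.leaf 10141)))))) (.node (.node (.node (.node (.node (.node (.leaf 4460) (.leaf 13713)) (.node (.leaf 6035) (.leaf 7173))) (.node (.node (.leaf 5030) (.leaf 5955)) (.node (.leaf 10000) (.leaf 2140)))) (.node (.node (.node (.leaf 12059) (.leaf 5440)) (.node (.leaf 7634) (.leaf 13849))) (.node (.node (.leaf 4108) (.leaf 6674)) (.node (.leaf 5261) (.leaf 11909))))) (.node (.node (.node (.node (.leaf 6650) (.leaf 7469)) (.node (.leaf 6054) (.leaf 1981))) (.node (.node (.leaf 6392) (.leaf 14944)) (.node (.leaf 2014) (.leaf 7009)))) (.node (.node (.node (.leaf 12055) (.leaf 1229)) (.node (.leaf 1902) (.leaf 3986))) (.node (.node (.leaf 4763) (.leaf 1920))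 (.leaf 6612))))) (.node (.node (.node (.node (.node (.leaf 4673) (.leaf 848)) (.node (.leaf 4079) (.leaf 13479))) (.node (.node (.leaf 4491) (.leaf 15031)) (.node (.leaf 3535) (.leaf 12482)))) (.node (.node (.node (.leaf 13504) (.leaf 10124)) (.node (.leaf 9927) (.leaf 12839))) (.node (.node (.leaf 13162) (.leaf 10056)) (.node (.leaf 11488) (.leaf 1689))))) (.node (.node (.node (.node (.leaf 3376) (.leaf 7449)) (.node (.leaf 9112) (.leaf 11384))) (.node (.node (.leaf 4561) (.leaf 7498)) (.node (.leaf 9820) (.leaf 6477)))) (.node (.node (.node (.leaf 287) (.leaf 3769)) (.node (.leaf 10776) (.leaf 9102))) (.node (.node (.leaf 7614) (.leaf 11783)) (.leaf 10040))))))) (.node (.node (.node (.node (.node (.node (.node (.leaf 140) (.leaf 561)) (.node (.leaf 10726) (.leaf 4564))) (.node (.node (.leaf 5708) (.leaf 8005)) (.node (.leaf 11208) (.leaf 9335)))) (.node (.node (.node (.leaf 7185) (.leaf 4490)) (.node (.leaf 1085) (.leaf 3161))) (.node (.node (.leaf 6983) (.leaf 2280)) (.node (.leaf 15475) (.leaf 9876)))))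 (.node (.node (.node (.node (.leaf 5938) (.leaf 815)) (.node (.leaf 2626) (.leaf 13225))) (.node (.node (.leaf 2586) (.leaf 6761)) (.node (.leaf 8374) (.leaf 2546)))) (.node (.node (.node (.leaf 3918) (.leaf 8371)) (.node (.leaf 927) (.leaf 3018))) (.node (.node (.leaf 8079) (.leaf 2969)) (.node (.leaf 10990) (.leaf 2984)))))) (.node (.node (.node (.node (.node (.leaf 6428) (.leaf 9479)) (.node (.leaf 8325) (.leaf 8884))) (.node (.node (.leaf 491) (.leaf 9708)) (.node (.leaf 11095) (.leaf 8683)))) (.node (.node (.node (.leaf 9018) (.leaf 5585)) (.node (.leaf 1076) (.leaf 8081))) (.node (.node (.leaf 724) (.leaf 11037)) (.node (.leaf 11991) (.leaf 4693))))) (.node (.node (.node (.node (.leaf 10280) (.leaf 11656)) (.node (.leaf 11015) (.leaf 2580))) (.node (.node (.leaf 7434) (.leaf 5533)) (.node (.leaf 13869) (.leaf 14451)))) (.node (.node (.node (.leaf 14199) (.leaf 260)) (.node (.leaf 4299) (.leaf 1321))) (.node (.node (.leaf 5863) (.leaf 10612)) (.leaf 7284)))))) (.node (.node (.node (.node (.node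 (.node (.leaf 12922) (.leaf 2604)) (.node (.leaf 3927) (.leaf 6766))) (.node (.node (.leaf 14241) (.leaf 10892)) (.node (.leaf 8243) (.leaf 3697)))) (.node (.node (.node (.leaf 15376) (.leaf 8210)) (.node (.leaf 2602) (.leaf 10498))) (.node (.node (.leaf 15300) (.leaf 3405)) (.node (.leaf 14624) (.leaf 4951))))) (.node (.node (.node (.node (.leaf 655) (.leaf 4005)) (.node (.leaf 9661) (.leaf 10725))) (.node (.node (.leaf 3203) (.leaf 13325)) (.node (.leaf 8730) (.leaf 3844)))) (.node (.node (.node (.leaf 1277) (.leaf 11554)) (.node (.leaf 3626) (.leaf 3895))) (.node (.node (.leaf 12613) (.leaf 6959)) (.leaf 13853))))) (.node (.node (.node (.node (.node (.leaf 10203) (.leaf 9032)) (.node (.leaf 15345) (.leaf 10658))) (.node (.node (.leaf 11076) (.leaf 9958)) (.node (.leaf 707) (.leaf 1248)))) (.node (.node (.node (.leaf 1463) (.leaf 6250)) (.node (.leaf 5144) (.leaf 10399))) (.node (.node (.leaf 13773) (.leaf 583)) (.node (.leaf 11383) (.leaf 10989))))) (.node (.node (.node (.node (.leaf 11530) (.leaf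 7096)) (.node (.leaf 8383) (.leaf 5979))) (.node (.node (.leaf 6500) (.leaf 5278)) (.node (.leaf 10750) (.leaf 59)))) (.node (.node (.node (.leaf 15223) (.leaf 3905)) (.node (.leaf 13652) (.leaf 1447))) (.node (.node (.leaf 5260) (.leaf 2973)) (.leaf 13521)))))))) (.node (.node (.node (.node (.node (.node (.node (.node (.leaf 3179) (.leaf 4413)) (.node (.leaf 1547) (.leaf 9777))) (.node (.node (.leaf 6200) (.leaf 3468)) (.node (.leaf 3588) (.leaf 11342)))) (.node (.node (.node (.leaf 8586) (.leaf 5317)) (.node (.leaf 2202) (.leaf 9709))) (.node (.node (.leaf 3226) (.leaf 15113)) (.node (.leaf 8422) (.leaf 12764))))) (.node (.node (.node (.node (.leaf 1352) (.leaf 6896)) (.node (.leaf 6024) (.leaf 4736))) (.node (.node (.leaf 12835) (.leaf 3971)) (.node (.leaf 11639) (.leaf 14685)))) (.node (.node (.node (.leaf 4553) (.leaf 14416)) (.node (.leaf 3569) (.leaf 7008))) (.node (.node (.leaf 8906) (.leaf 12885)) (.node (.leaf 6849) (.leaf 5690)))))) (.node (.node (.node (.node (.node (.leaf 4616) (.leaf 1190))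 (.node (.leaf 1456) (.leaf 1533))) (.node (.node (.leaf 5370) (.leaf 7980)) (.node (.leaf 565) (.leaf 5112)))) (.node (.node (.node (.leaf 7536) (.leaf 3527)) (.node (.leaf 12942) (.leaf 14507))) (.node (.node (.leaf 4702) (.leaf 4107)) (.node (.leaf 15249) (.leaf 10236))))) (.node (.node (.node (.node (.leaf 23) (.leaf 984)) (.node (.leaf 3613) (.leaf 15737))) (.node (.node (.leaf 11727) (.leaf 7649)) (.node (.leaf 4406) (.leaf 15580)))) (.node (.node (.node (.leaf 4559) (.leaf 2911)) (.node (.leaf 10767) (.leaf 12815))) (.node (.node (.leaf 9341) (.leaf 14455)) (.leaf 11963)))))) (.node (.node (.node (.node (.node (.node (.leaf 11155) (.leaf 10111)) (.node (.leaf 7820) (.leaf 1308))) (.node (.node (.leaf 130) (.leaf 6128)) (.node (.leaf 14096) (.leaf 1314)))) (.node (.node (.node (.leaf 25) (.leaf 372)) (.node (.leaf 12174) (.leaf 12326))) (.node (.node (.leaf 12463) (.leaf 9930)) (.node (.leaf 4776) (.leaf 748))))) (.node (.node (.node (.node (.leaf 2943) (.leaf 14924)) (.node (.leaf 14170) (.leaf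 7923))) (.node (.node (.leaf 12535) (.leaf 4872)) (.node (.leaf 7894) (.leaf 7212)))) (.node (.node (.node (.leaf 3123) (.leaf 8016)) (.node (.leaf 4969) (.leaf 11223))) (.node (.node (.leaf 12907) (.leaf 8565)) (.leaf 1813))))) (.node (.node (.node (.node (.node (.leaf 4630) (.leaf 4273)) (.node (.leaf 5411) (.leaf 10038))) (.node (.node (.leaf 6085) (.leaf 247)) (.node (.leaf 903) (.leaf 2453)))) (.node (.node (.node (.leaf 12692) (.leaf 9096)) (.node (.leaf 615) (.leaf 162))) (.node (.node (.leaf 9215) (.leaf 10949)) (.node (.leaf 5223) (.leaf 6138))))) (.node (.node (.node (.node (.leaf 9323) (.leaf 14736)) (.node (.leaf 4282) (.leaf 10485))) (.node (.node (.leaf 13353) (.leaf 11276)) (.node (.leaf 3291) (.leaf 10314)))) (.node (.node (.node (.leaf 10173) (.leaf 15705)) (.node (.leaf 889) (.leaf 11082))) (.node (.node (.leaf 10471) (.leaf 278)) (.leaf 1387))))))) (.node (.node (.node (.node (.node (.node (.node (.leaf 8843) (.leaf 8970)) (.node (.leaf 13134) (.leaf 10960))) (.node (.node (.leaf 9051)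 (.leaf 2479)) (.node (.leaf 11111) (.leaf 3653)))) (.node (.node (.node (.leaf 5097) (.leaf 8736)) (.node (.leaf 3661) (.leaf 13673))) (.node (.node (.leaf 10445) (.leaf 13249)) (.node (.leaf 5923) (.leaf 11308))))) (.node (.node (.node (.node (.leaf 9322) (.leaf 3307)) (.node (.leaf 8790) (.leaf 1952))) (.node (.node (.leaf 13419) (.leaf 10986)) (.node (.leaf 2423) (.leaf 618)))) (.node (.node (.node (.leaf 6708) (.leaf 7790)) (.node (.leaf 4013) (.leaf 15659))) (.node (.node (.leaf 1996) (.leaf 6809)) (.leaf 12643))))) (.node (.node (.node (.node (.node (.leaf 9320) (.leaf 8690)) (.node (.leaf 12806) (.leaf 4643))) (.node (.node (.leaf 10353) (.leaf 14342)) (.node (.leaf 8125) (.leaf 15446)))) (.node (.node (.node (.leaf 13385) (.leaf 10020)) (.node (.leaf 5642) (.leaf 14100))) (.node (.node (.leaf 641) (.leaf 421)) (.node (.leaf 7873) (.leaf 11936))))) (.node (.node (.node (.node (.leaf 13598) (.leaf 10928)) (.node (.leaf 6845) (.leaf 15190))) (.node (.node (.leaf 930) (.leaf 97)) (.node (.leaf 3104)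 (.leaf 11086)))) (.node (.node (.node (.leaf 12672) (.leaf 2095)) (.node (.leaf 12341) (.leaf 3102))) (.node (.node (.leaf 6602) (.leaf 4856)) (.leaf 2576)))))) (.node (.node (.node (.node (.node (.node (.leaf 15773) (.leaf 12082)) (.node (.leaf 11433) (.leaf 5885))) (.node (.node (.leaf 3645) (.leaf 4202)) (.node (.leaf 11047) (.leaf 3007)))) (.node (.node (.node (.leaf 8462) (.leaf 6759)) (.node (.leaf 10432) (.leaf 9381))) (.node (.node (.leaf 11564) (.leaf 11830)) (.node (.leaf 1544) (.leaf 8839))))) (.node (.node (.node (.node (.leaf 4089) (.leaf 1019)) (.node (.leaf 203) (.leaf 15759))) (.node (.node (.leaf 7870) (.leaf 4709)) (.node (.leaf 6224) (.leaf 1788)))) (.node (.node (.node (.leaf 12335) (.leaf 4026)) (.node (.leaf 12373) (.leaf 2228))) (.node (.node (.leaf 13715) (.leaf 9163)) (.leaf 3950))))) (.node (.node (.node (.node (.node (.leaf 2595) (.leaf 4569)) (.node (.leaf 9682) (.leaf 1383))) (.node (.node (.leaf 4587) (.leaf 7996)) (.node (.leaf 7194) (.leaf 14503)))) (.node (.node (.node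 (.leaf 9578) (.leaf 1288)) (.node (.leaf 489) (.leaf 15187))) (.node (.node (.leaf 6815) (.leaf 1049)) (.node (.leaf 14392) (.leaf 3839))))) (.node (.node (.node (.node (.leaf 8806) (.leaf 9679)) (.node (.leaf 9900) (.leaf 7154))) (.node (.node (.leaf 11254) (.leaf 15749)) (.node (.leaf 14064) (.leaf 4525)))) (.node (.node (.node (.leaf 8625) (.leaf 7353)) (.node (.leaf 15689) (.leaf 6523))) (.node (.node (.leaf 12508) (.leaf 9393)) (.leaf 1702))))))))) (.node (.node (.node (.node (.node (.node (.node (.node (.node (.leaf 9233) (.leaf 10777)) (.node (.leaf 15648) (.leaf 3086))) (.node (.node (.leaf 1600) (.leaf 11206)) (.node (.leaf 3902) (.leaf 13080)))) (.node (.node (.node (.leaf 1158) (.leaf 924)) (.node (.leaf 3306) (.leaf 11240))) (.node (.node (.leaf 4156) (.leaf 8381)) (.node (.leaf 9501) (.leaf 268))))) (.node (.node (.node (.node (.leaf 1036) (.leaf 8163)) (.node (.leaf 9473) (.leaf 3837))) (.node (.node (.leaf 14576) (.leaf 3555)) (.node (.leaf 7504) (.leaf 9511)))) (.node (.node (.node (.leaf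 4311) (.leaf 10495)) (.node (.leaf 3395) (.leaf 6350))) (.node (.node (.leaf 14764) (.leaf 963)) (.node (.leaf 7919) (.leaf 11648)))))) (.node (.node (.node (.node (.node (.leaf 9015) (.leaf 4919)) (.node (.leaf 2660) (.leaf 12049))) (.node (.node (.leaf 332) (.leaf 10556)) (.node (.leaf 3987) (.leaf 2680)))) (.node (.node (.node (.leaf 7033) (.leaf 11130)) (.node (.leaf 1414) (.leaf 11915))) (.node (.node (.leaf 3740) (.leaf 8006)) (.node (.leaf 9949) (.leaf 67))))) (.node (.node (.node (.node (.leaf 5714) (.leaf 5965)) (.node (.leaf 3028) (.leaf 9243))) (.node (.node (.leaf 4014) (.leaf 10683)) (.node (.leaf 3056) (.leaf 4726)))) (.node (.node (.node (.leaf 2027) (.leaf 10653)) (.node (.leaf 8424) (.leaf 11762))) (.node (.node (.leaf 13347) (.leaf 15707)) (.leaf 15585)))))) (.node (.node (.node (.node (.node (.node (.leaf 4468) (.leaf 9582)) (.node (.leaf 14075) (.leaf 3530))) (.node (.node (.leaf 5975) (.leaf 7065)) (.node (.leaf 835) (.leaf 4130)))) (.node (.node (.node (.leaf 7239) (.leaf 3496))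 (.node (.leaf 2010) (.leaf 12539))) (.node (.node (.leaf 11474) (.leaf 5061)) (.node (.leaf 11764) (.leaf 9730))))) (.node (.node (.node (.node (.leaf 12575) (.leaf 10859)) (.node (.leaf 1852) (.leaf 2468))) (.node (.node (.leaf 9751) (.leaf 9291)) (.node (.leaf 11647) (.leaf 11445)))) (.node (.node (.node (.leaf 10467) (.leaf 1954)) (.node (.leaf 4278) (.leaf 12667))) (.node (.node (.leaf 51) (.leaf 8991)) (.leaf 6563))))) (.node (.node (.node (.node (.node (.leaf 15261) (.leaf 14589)) (.node (.leaf 15192) (.leaf 10336))) (.node (.node (.leaf 10860) (.leaf 15667)) (.node (.leaf 9196) (.leaf 1910)))) (.node (.node (.node (.leaf 5365) (.leaf 3039)) (.node (.leaf 15236) (.leaf 7781))) (.node (.node (.leaf 12681) (.leaf 4941)) (.node (.leaf 2713) (.leaf 14943))))) (.node (.node (.node (.node (.leaf 8461) (.leaf 8996)) (.node (.leaf 15328) (.leaf 6542))) (.node (.node (.leaf 3103) (.leaf 8147)) (.node (.leaf 12108) (.leaf 10561)))) (.node (.node (.node (.leaf 1460) (.leaf 6792)) (.node (.leaf 5198) (.leaf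 3604))) (.node (.node (.leaf 4420) (.leaf 767)) (.leaf 7973))))))) (.node (.node (.node (.node (.node (.node (.node (.leaf 3172) (.leaf 13723)) (.node (.leaf 9538) (.leaf 2632))) (.node (.node (.leaf 473) (.leaf 4240)) (.node (.leaf 10133) (.leaf 7131)))) (.node (.node (.node (.leaf 12283) (.leaf 6831)) (.node (.leaf 13131) (.leaf 15133))) (.node (.node (.leaf 7318) (.leaf 3638)) (.node (.leaf 3855) (.leaf 8046))))) (.node (.node (.node (.node (.leaf 12288) (.leaf 2581)) (.node (.leaf 33) (.leaf 13203))) (.node (.node (.leaf 13216) (.leaf 7673)) (.node (.leaf 8297) (.leaf 3073)))) (.node (.node (.node (.leaf 7748) (.leaf 8532)) (.node (.leaf 12811) (.leaf 5194))) (.node (.node (.leaf 6367) (.leaf 15495)) (.node (.leaf 9418) (.leaf 7483)))))) (.node (.node (.node (.node (.node (.leaf 13258) (.leaf 434)) (.node (.leaf 11901) (.leaf 10919))) (.node (.node (.leaf 4178) (.leaf 12664)) (.node (.leaf 8597) (.leaf 1521)))) (.node (.node (.node (.leaf 652) (.leaf 158)) (.node (.leaf 17) (.leaf 15435))) (.node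 (.node (.leaf 8604) (.leaf 10589)) (.node (.leaf 13841) (.leaf 9919))))) (.node (.node (.node (.node (.leaf 10207) (.leaf 15878)) (.node (.leaf 3709) (.leaf 5381))) (.node (.node (.leaf 2320) (.leaf 7286)) (.node (.leaf 747) (.leaf 11605)))) (.node (.node (.node (.leaf 14604) (.leaf 1419)) (.node (.leaf 878) (.leaf 13755))) (.node (.node (.leaf 1968) (.leaf 1774)) (.leaf 3996)))))) (.node (.node (.node (.node (.node (.node (.leaf 5932) (.leaf 9292)) (.node (.leaf 8261) (.leaf 994))) (.node (.node (.leaf 13712) (.leaf 11350)) (.node (.leaf 10256) (.leaf 2753)))) (.node (.node (.node (.leaf 11685) (.leaf 14205)) (.node (.leaf 9583) (.leaf 7597))) (.node (.node (.leaf 7503) (.leaf 6569)) (.node (.leaf 2340) (.leaf 15251))))) (.node (.node (.node (.node (.leaf 12514) (.leaf 14628)) (.node (.leaf 9606) (.leaf 14584))) (.node (.node (.leaf 12321) (.leaf 2978)) (.node (.leaf 7710) (.leaf 10530)))) (.node (.node (.node (.leaf 13507) (.leaf 3360)) (.node (.leaf 2871) (.leaf 10800))) (.node (.node (.leaf 8892)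 (.leaf 5543)) (.leaf 12862))))) (.node (.node (.node (.node (.node (.leaf 11422) (.leaf 11726)) (.node (.leaf 15256) (.leaf 14173))) (.node (.node (.leaf 255) (.leaf 5646)) (.node (.leaf 11365) (.leaf 11912)))) (.node (.node (.node (.leaf 14197) (.leaf 2189)) (.node (.leaf 2809) (.leaf 6564))) (.node (.node (.leaf 7773) (.leaf 2401)) (.node (.leaf 5116) (.leaf 7725))))) (.node (.node (.node (.node (.leaf 4081) (.leaf 15824)) (.node (.leaf 14202) (.leaf 15671))) (.node (.node (.leaf 7399) (.leaf 14325)) (.node (.leaf 15026) (.leaf 5589)))) (.node (.node (.node (.leaf 13503) (.leaf 10614)) (.node (.leaf 4720) (.leaf 11464))) (.node (.node (.leaf 14539) (.leaf 6570)) (.leaf 7874)))))))) (.node (.node (.node (.node (.node (.node (.node (.node (.leaf 9235) (.leaf 1165)) (.node (.leaf 4309) (.leaf 8076))) (.node (.node (.leaf 11652) (.leaf 14034)) (.node (.leaf 11080) (.leaf 5576)))) (.node (.node (.node (.leaf 6420) (.leaf 15071)) (.node (.leaf 851) (.leaf 12034))) (.node (.node (.leaf 5220) (.leaf 14822))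 (.node (.leaf 3815) (.leaf 14294))))) (.node (.node (.node (.node (.leaf 6657) (.leaf 9908)) (.node (.leaf 6275) (.leaf 9760))) (.node (.node (.leaf 5441) (.leaf 5841)) (.node (.leaf 12464) (.leaf 1451)))) (.node (.node (.node (.leaf 12694) (.leaf 7011)) (.node (.leaf 9043) (.leaf 5143))) (.node (.node (.leaf 13640) (.leaf 8202)) (.node (.leaf 14050) (.leaf 5132)))))) (.node (.node (.node (.node (.node (.leaf 15480) (.leaf 7965)) (.node (.leaf 4141) (.leaf 7509))) (.node (.node (.leaf 9678) (.leaf 8515)) (.node (.leaf 5045) (.leaf 9217)))) (.node (.node (.node (.leaf 1093) (.leaf 8097)) (.node (.leaf 6016) (.leaf 2992))) (.node (.node (.leaf 9395) (.leaf 5147)) (.node (.leaf 2510) (.leaf 5568))))) (.node (.node (.node (.node (.leaf 7025) (.leaf 7290)) (.node (.leaf 6534) (.leaf 2901))) (.node (.node (.leaf 12369) (.leaf 9858)) (.node (.leaf 739) (.leaf 3909)))) (.node (.node (.node (.leaf 10086) (.leaf 5495)) (.node (.leaf 1194) (.leaf 496))) (.node (.node (.leaf 5180) (.leaf 15456)) (.leaf 14663))))))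 (.node (.node (.node (.node (.node (.node (.leaf 4462) (.leaf 3647)) (.node (.leaf 274) (.leaf 14702))) (.node (.node (.leaf 12903) (.leaf 5501)) (.node (.leaf 6496) (.leaf 4967)))) (.node (.node (.node (.leaf 6244) (.leaf 2822)) (.node (.leaf 5697) (.leaf 2457))) (.node (.node (.leaf 1262) (.leaf 13893)) (.node (.leaf 8949) (.leaf 2696))))) (.node (.node (.node (.node (.leaf 15262) (.leaf 11938)) (.node (.leaf 1709) (.leaf 10122))) (.node (.node (.leaf 7806) (.leaf 3755)) (.node (.leaf 5476) (.leaf 10679)))) (.node (.node (.node (.leaf 3915) (.leaf 11341)) (.node (.leaf 11135) (.leaf 8576))) (.node (.node (.leaf 10112) (.leaf 15127)) (.leaf 12659))))) (.node (.node (.node (.node (.node (.leaf 13483) (.leaf 8072)) (.node (.leaf 362) (.leaf 532))) (.node (.node (.leaf 381) (.leaf 2003)) (.node (.leaf 15847) (.leaf 5401)))) (.node (.node (.node (.leaf 6427) (.leaf 15566)) (.node (.leaf 3823) (.leaf 7846))) (.node (.node (.leaf 12484) (.leaf 5586)) (.node (.leaf 9794) (.leaf 14166))))) (.node (.node (.node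 (.node (.leaf 12435) (.leaf 13740)) (.node (.leaf 7933) (.leaf 5703))) (.node (.node (.leaf 11270) (.leaf 11906)) (.node (.leaf 1966) (.leaf 2872)))) (.node (.node (.node (.leaf 1090) (.leaf 2382)) (.node (.leaf 6107) (.leaf 794))) (.node (.node (.leaf 11898) (.leaf 7529)) (.leaf 12537))))))) (.node (.node (.node (.node (.node (.node (.node (.leaf 4463) (.leaf 2053)) (.node (.leaf 14343) (.leaf 1633))) (.node (.node (.leaf 9200) (.leaf 2308)) (.node (.leaf 14254) (.leaf 12163)))) (.node (.node (.node (.leaf 14280) (.leaf 13691)) (.node (.leaf 3891) (.leaf 3441))) (.node (.node (.leaf 3466) (.leaf 13227)) (.node (.leaf 2114) (.leaf 1411))))) (.node (.node (.node (.node (.leaf 5360) (.leaf 3718)) (.node (.leaf 11163) (.leaf 6662))) (.node (.node (.leaf 15196) (.leaf 6097)) (.node (.leaf 15933) (.leaf 12865)))) (.node (.node (.node (.leaf 15220) (.leaf 3471)) (.node (.leaf 1842) (.leaf 11789))) (.node (.node (.leaf 14442) (.leaf 10075)) (.leaf 14682))))) (.node (.node (.node (.node (.node (.leaf 10904)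 (.leaf 3269)) (.node (.leaf 7954) (.leaf 1811))) (.node (.node (.leaf 991) (.leaf 15569)) (.node (.leaf 12253) (.leaf 10152)))) (.node (.node (.node (.leaf 13257) (.leaf 4307)) (.node (.leaf 12113) (.leaf 15465))) (.node (.node (.leaf 7293) (.leaf 2141)) (.node (.leaf 13437) (.leaf 2347))))) (.node (.node (.node (.node (.leaf 15784) (.leaf 5730)) (.node (.leaf 13572) (.leaf 14927))) (.node (.node (.leaf 8557) (.leaf 5429)) (.node (.leaf 10345) (.leaf 8059)))) (.node (.node (.node (.leaf 8487) (.leaf 14172)) (.node (.leaf 2197) (.leaf 2833))) (.node (.node (.leaf 4727) (.leaf 11582)) (.leaf 3256)))))) (.node (.node (.node (.node (.node (.node (.leaf 892) (.leaf 2131)) (.node (.leaf 14590) (.leaf 1549))) (.node (.node (.leaf 13343) (.leaf 14893)) (.node (.leaf 14769) (.leaf 7298)))) (.node (.node (.node (.leaf 14528) (.leaf 5890)) (.node (.leaf 14543) (.leaf 1246))) (.node (.node (.leaf 12374) (.leaf 8868)) (.node (.leaf 2127) (.leaf 5994))))) (.node (.node (.node (.node (.leaf 5988) (.leaf 1860)) (.node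 (.leaf 2654) (.leaf 1363))) (.node (.node (.leaf 5774) (.leaf 2927)) (.node (.leaf 13620) (.leaf 11779)))) (.node (.node (.node (.leaf 10841) (.leaf 5012)) (.node (.leaf 3742) (.leaf 14630))) (.node (.node (.leaf 10226) (.leaf 10751)) (.leaf 10685))))) (.node (.node (.node (.node (.node (.leaf 10285) (.leaf 14465)) (.node (.leaf 8308) (.leaf 11164))) (.node (.node (.leaf 9889) (.leaf 4055)) (.node (.leaf 15231) (.leaf 7593)))) (.node (.node (.node (.leaf 8751) (.leaf 1240)) (.node (.leaf 15508) (.leaf 12406))) (.node (.node (.leaf 15447) (.leaf 10235)) (.node (.leaf 3198) (.leaf 2429))))) (.node (.node (.node (.node (.leaf 2593) (.leaf 6384)) (.node (.leaf 13219) (.leaf 15388))) (.node (.node (.leaf 10459) (.leaf 14119)) (.node (.leaf 1113) (.leaf 8095)))) (.node (.node (.node (.leaf 1936) (.leaf 12913)) (.node (.leaf 9899) (.leaf 4865))) (.node (.node (.leaf 9049) (.leaf 7019)) (.leaf 12597))))))))))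

def lineOrder8 : Tree (ℕ) :=
  (.node (.node (.node (.node (.node (.node (.node (.node (.node (.node (.leaf 1768) (.leaf 5353)) (.node (.leaf 913) (.leaf 13269))) (.node (.node (.leaf 1796) (.leaf 5534)) (.node (.leaf 13103) (.leaf 9580)))) (.node (.node (.node (.leaf 15373) (.leaf 12228)) (.node (.leaf 3710) (.leaf 6491))) (.node (.node (.leaf 632) (.leaf 10377)) (.node (.leaf 7524) (.leaf 3160))))) (.node (.node (.node (.node (.leaf 12056) (.leaf 10961)) (.node (.leaf 1437) (.leaf 10362))) (.node (.node (.leaf 8322) (.leaf 6179)) (.node (.leaf 2864) (.leaf 2783)))) (.node (.node (.node (.leaf 9221) (.leaf 4061)) (.node (.leaf 5859) (.leaf 12457))) (.node (.node (.leaf 9369) (.leaf 11665)) (.node (.leaf 9138) (.leaf 9332)))))) (.node (.node (.node (.node (.node (.leaf 10282) (.leaf 13002)) (.node (.leaf 15426) (.leaf 1014))) (.node (.node (.leaf 10430) (.leaf 10793)) (.node (.leaf 3013) (.leaf 1599)))) (.node (.node (.node (.leaf 9746) (.leaf 6361)) (.node (.leaf 15134) (.leaf 13322))) (.node (.node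 (.leaf 14224) (.leaf 15306)) (.node (.leaf 8310) (.leaf 732))))) (.node (.node (.node (.node (.leaf 14800) (.leaf 124)) (.node (.leaf 11870) (.leaf 3099))) (.node (.node (.leaf 8508) (.leaf 9398)) (.node (.leaf 8451) (.leaf 3607)))) (.node (.node (.node (.leaf 414) (.leaf 3342)) (.node (.leaf 6463) (.leaf 14162))) (.node (.node (.leaf 3426) (.leaf 12988)) (.leaf 7616)))))) (.node (.node (.node (.node (.node (.node (.leaf 9232) (.leaf 15535)) (.node (.leaf 3983) (.leaf 5662))) (.node (.node (.leaf 5117) (.leaf 9562)) (.node (.leaf 7989) (.leaf 4930)))) (.node (.node (.node (.leaf 10091) (.leaf 13117)) (.node (.leaf 7723) (.leaf 956))) (.node (.node (.leaf 15556) (.leaf 8931)) (.node (.leaf 11457) (.leaf 1487))))) (.node (.node (.node (.node (.leaf 7304) (.leaf 15892)) (.node (.leaf 4592) (.leaf 13086))) (.node (.node (.leaf 9245) (.leaf 1323)) (.node (.leaf 14987) (.leaf 5525)))) (.node (.node (.node (.leaf 14198) (.leaf 4757)) (.node (.leaf 12192) (.leaf 3366))) (.node (.node (.leaf 321) (.leaf 3021))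 (.leaf 14597))))) (.node (.node (.node (.node (.node (.leaf 5989) (.leaf 1089)) (.node (.leaf 15745) (.leaf 12404))) (.node (.node (.leaf 12509) (.leaf 6066)) (.node (.leaf 10549) (.leaf 6209)))) (.node (.node (.node (.leaf 13709) (.leaf 10807)) (.node (.leaf 8002) (.leaf 2285))) (.node (.node (.leaf 9700) (.leaf 4131)) (.node (.leaf 15366) (.leaf 11766))))) (.node (.node (.node (.node (.leaf 7302) (.leaf 4200)) (.node (.leaf 14393) (.leaf 7755))) (.node (.node (.leaf 1781) (.leaf 4154)) (.node (.leaf 11258) (.leaf 10702)))) (.node (.node (.node (.leaf 417) (.leaf 3959)) (.node (.leaf 3920) (.leaf 6508))) (.node (.node (.leaf 10142) (.leaf 3343)) (.leaf 2129))))))) (.node (.node (.node (.node (.node (.node (.node (.leaf 542) (.leaf 11787)) (.node (.leaf 10671) (.leaf 14617))) (.node (.node (.leaf 14516) (.leaf 7121)) (.node (.leaf 12548) (.leaf 4730)))) (.node (.node (.node (.leaf 14714) (.leaf 11102)) (.node (.leaf 840) (.leaf 2448))) (.node (.node (.leaf 14581) (.leaf 13729)) (.node (.leaf 5213) (.leaf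 2000))))) (.node (.node (.node (.node (.leaf 7532) (.leaf 13415)) (.node (.leaf 11326) (.leaf 8343))) (.node (.node (.leaf 13867) (.leaf 11738)) (.node (.leaf 7242) (.leaf 3879)))) (.node (.node (.node (.leaf 4228) (.leaf 6041)) (.node (.leaf 5165) (.leaf 5354))) (.node (.node (.leaf 2874) (.leaf 3700)) (.node (.leaf 10921) (.leaf 10297)))))) (.node (.node (.node (.node (.node (.leaf 2075) (.leaf 14222)) (.node (.leaf 4541) (.leaf 13851))) (.node (.node (.leaf 3351) (.leaf 14357)) (.node (.leaf 7572) (.leaf 9058)))) (.node (.node (.node (.leaf 11798) (.leaf 1999)) (.node (.leaf 13846) (.leaf 15344))) (.node (.node (.leaf 3856) (.leaf 7108)) (.node (.leaf 1656) (.leaf 563))))) (.node (.node (.node (.node (.leaf 1640) (.leaf 12646)) (.node (.leaf 6800) (.leaf 4385))) (.node (.node (.leaf 11197) (.leaf 9894)) (.node (.leaf 13027) (.leaf 11967)))) (.node (.node (.node (.leaf 9434) (.leaf 9665)) (.node (.leaf 5251) (.leaf 1673))) (.node (.node (.leaf 8659) (.leaf 1117)) (.leaf 7400)))))) (.node (.node (.node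 (.node (.node (.node (.leaf 4987) (.leaf 13207)) (.node (.leaf 14689) (.leaf 11733))) (.node (.node (.leaf 1805) (.leaf 11042)) (.node (.leaf 8206) (.leaf 157)))) (.node (.node (.node (.leaf 12129) (.leaf 14321)) (.node (.leaf 697) (.leaf 4916))) (.node (.node (.leaf 14595) (.leaf 15533)) (.node (.leaf 12506) (.leaf 6078))))) (.node (.node (.node (.node (.leaf 1150) (.leaf 9523)) (.node (.leaf 8506) (.leaf 14643))) (.node (.node (.leaf 9371) (.leaf 14041)) (.node (.leaf 13515) (.leaf 11745)))) (.node (.node (.node (.leaf 9224) (.leaf 584)) (.node (.leaf 4765) (.leaf 4622))) (.node (.node (.leaf 12713) (.leaf 12798)) (.leaf 8135))))) (.node (.node (.node (.node (.node (.leaf 5246) (.leaf 5584)) (.node (.leaf 4386) (.leaf 9953))) (.node (.node (.leaf 9316) (.leaf 11140)) (.node (.leaf 3465) (.leaf 2707)))) (.node (.node (.node (.leaf 12517) (.leaf 8353)) (.node (.leaf 1268) (.leaf 6076))) (.node (.node (.leaf 805) (.leaf 7828)) (.node (.leaf 10134) (.leaf 4770))))) (.node (.node (.node (.node (.leaf 10734)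 (.leaf 14251)) (.node (.leaf 14215) (.leaf 6814))) (.node (.node (.leaf 1771) (.leaf 14148)) (.node (.leaf 3580) (.leaf 7174)))) (.node (.node (.node (.leaf 10106) (.leaf 1502)) (.node (.leaf 8024) (.leaf 9169))) (.node (.node (.leaf 13661) (.leaf 2310)) (.leaf 9641)))))))) (.node (.node (.node (.node (.node (.node (.node (.node (.leaf 8841) (.leaf 5940)) (.node (.leaf 15077) (.leaf 6998))) (.node (.node (.leaf 12487) (.leaf 14150)) (.node (.leaf 7404) (.leaf 12010)))) (.node (.node (.node (.leaf 7563) (.leaf 6780)) (.node (.leaf 2690) (.leaf 13167))) (.node (.node (.leaf 857) (.leaf 6225)) (.node (.leaf 13264) (.leaf 7879))))) (.node (.node (.node (.node (.leaf 4224) (.leaf 15323)) (.node (.leaf 6572) (.leaf 1759))) (.node (.node (.leaf 3093) (.leaf 2226)) (.node (.leaf 3828) (.leaf 6935)))) (.node (.node (.node (.leaf 10084) (.leaf 11913)) (.node (.leaf 11760) (.leaf 15239))) (.node (.node (.leaf 7100) (.leaf 9211)) (.node (.leaf 13574) (.leaf 13247)))))) (.node (.node (.node (.node (.node (.leaf 8465)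 (.leaf 4364)) (.node (.leaf 8860) (.leaf 13954))) (.node (.node (.leaf 14435) (.leaf 10009)) (.node (.leaf 11075) (.leaf 8760)))) (.node (.node (.node (.leaf 5939) (.leaf 10569)) (.node (.leaf 11511) (.leaf 9399))) (.node (.node (.leaf 11328) (.leaf 1819)) (.node (.leaf 11167) (.leaf 11093))))) (.node (.node (.node (.node (.leaf 15396) (.leaf 9491)) (.node (.leaf 7775) (.leaf 3491))) (.node (.node (.leaf 4966) (.leaf 6798)) (.node (.leaf 2845) (.leaf 6970)))) (.node (.node (.node (.leaf 6348) (.leaf 15139)) (.node (.leaf 13836) (.leaf 9069))) (.node (.node (.leaf 11260) (.leaf 11892)) (.leaf 9891)))))) (.node (.node (.node (.node (.node (.node (.leaf 10635) (.leaf 4470)) (.node (.leaf 12150) (.leaf 13074))) (.node (.node (.leaf 3785) (.leaf 11667)) (.node (.leaf 15123) (.leaf 1174)))) (.node (.node (.node (.leaf 1422) (.leaf 3727)) (.node (.leaf 5575) (.leaf 5621))) (.node (.node (.leaf 4140) (.leaf 1989)) (.node (.leaf 14538) (.leaf 11182))))) (.node (.node (.node (.node (.leaf 7601) (.leaf 14235))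 (.node (.leaf 12760) (.leaf 8574))) (.node (.node (.leaf 8879) (.leaf 32)) (.node (.leaf 9588) (.leaf 9626)))) (.node (.node (.node (.leaf 7303) (.leaf 2776)) (.node (.leaf 15845) (.leaf 2718))) (.node (.node (.leaf 3044) (.leaf 11246)) (.leaf 11693))))) (.node (.node (.node (.node (.node (.leaf 13441) (.leaf 1637)) (.node (.leaf 9907) (.leaf 7143))) (.node (.node (.leaf 13317) (.leaf 7876)) (.node (.leaf 4905) (.leaf 6287)))) (.node (.node (.node (.leaf 12670) (.leaf 460)) (.node (.leaf 2309) (.leaf 6315))) (.node (.node (.leaf 8255) (.leaf 777)) (.node (.leaf 14347) (.leaf 4683))))) (.node (.node (.node (.node (.leaf 14194) (.leaf 15206)) (.node (.leaf 6598) (.leaf 6846))) (.node (.node (.leaf 6823) (.leaf 13193)) (.node (.leaf 8022) (.leaf 8112)))) (.node (.node (.node (.leaf 8802) (.leaf 796)) (.node (.leaf 2957) (.leaf 5398))) (.node (.node (.leaf 9892) (.leaf 5489)) (.leaf 9600))))))) (.node (.node (.node (.node (.node (.node (.node (.leaf 9230) (.leaf 12719)) (.node (.leaf 12428) (.leaf 426)))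 (.node (.node (.leaf 8686) (.leaf 7620)) (.node (.leaf 9701) (.leaf 4473)))) (.node (.node (.node (.leaf 9432) (.leaf 6596)) (.node (.leaf 9098) (.leaf 6298))) (.node (.node (.leaf 15369) (.leaf 3188)) (.node (.leaf 11808) (.leaf 12935))))) (.node (.node (.node (.node (.leaf 2720) (.leaf 7947)) (.node (.leaf 6175) (.leaf 14139))) (.node (.node (.leaf 6964) (.leaf 5854)) (.node (.leaf 4758) (.leaf 9083)))) (.node (.node (.node (.leaf 9696) (.leaf 14478)) (.node (.leaf 12164) (.leaf 9918))) (.node (.node (.leaf 76) (.leaf 11014)) (.leaf 11653))))) (.node (.node (.node (.node (.node (.leaf 5080) (.leaf 11670)) (.node (.leaf 9446) (.leaf 12450))) (.node (.node (.leaf 11859) (.leaf 3848)) (.node (.leaf 4925) (.leaf 15873)))) (.node (.node (.node (.leaf 15299) (.leaf 12709)) (.node (.leaf 10031) (.leaf 2086))) (.node (.node (.leaf 9497) (.leaf 5290)) (.node (.leaf 3446) (.leaf 6442))))) (.node (.node (.node (.node (.leaf 11532) (.leaf 10999)) (.node (.leaf 10481) (.leaf 7112))) (.node (.node (.leaf 4272) (.leaf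 15862)) (.node (.leaf 3439) (.leaf 5399)))) (.node (.node (.node (.leaf 12698) (.leaf 12945)) (.node (.leaf 291) (.leaf 10478))) (.node (.node (.leaf 15028) (.leaf 1041)) (.leaf 12986)))))) (.node (.node (.node (.node (.node (.node (.leaf 15916) (.leaf 4291)) (.node (.leaf 1815) (.leaf 11924))) (.node (.node (.leaf 15850) (.leaf 5075)) (.node (.leaf 5508) (.leaf 9075)))) (.node (.node (.node (.leaf 10693) (.leaf 13272)) (.node (.leaf 9331) (.leaf 3817))) (.node (.node (.leaf 6182) (.leaf 12493)) (.node (.leaf 715) (.leaf 7110))))) (.node (.node (.node (.node (.leaf 5244) (.leaf 499)) (.node (.leaf 7295) (.leaf 8082))) (.node (.node (.leaf 1585) (.leaf 11327)) (.node (.leaf 6077) (.leaf 7701)))) (.node (.node (.node (.leaf 12234) (.leaf 6864)) (.node (.leaf 6188) (.leaf 4687))) (.node (.node (.leaf 14569) (.leaf 1330)) (.leaf 3760))))) (.node (.node (.node (.node (.node (.leaf 10935) (.leaf 324)) (.node (.leaf 12588) (.leaf 9879))) (.node (.node (.leaf 11096) (.leaf 5803)) (.node (.leaf 4641) (.leaf 1191))))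 (.node (.node (.node (.leaf 15950) (.leaf 9277)) (.node (.leaf 3945) (.leaf 7381))) (.node (.node (.leaf 5970) (.leaf 270)) (.node (.leaf 9114) (.leaf 2490))))) (.node (.node (.node (.node (.leaf 12579) (.leaf 15506)) (.node (.leaf 5412) (.leaf 15493))) (.node (.node (.leaf 12987) (.leaf 14574)) (.node (.leaf 13140) (.leaf 3674)))) (.node (.node (.node (.leaf 15776) (.leaf 6821)) (.node (.leaf 9121) (.leaf 627))) (.node (.node (.leaf 6371) (.leaf 4367)) (.leaf 10365))))))))) (.node (.node (.node (.node (.node (.node (.node (.node (.node (.leaf 14773) (.leaf 3928)) (.node (.leaf 6769) (.leaf 7590))) (.node (.node (.leaf 4160) (.leaf 1972)) (.node (.leaf 1506) (.leaf 4092)))) (.node (.node (.node (.leaf 659) (.leaf 5160)) (.node (.leaf 2281) (.leaf 1107))) (.node (.node (.leaf 7495) (.leaf 5389)) (.node (.leaf 11009) (.leaf 14174))))) (.node (.node (.node (.node (.leaf 6248) (.leaf 6838)) (.node (.leaf 11970) (.leaf 13535))) (.node (.node (.leaf 4074) (.leaf 11935)) (.node (.leaf 11176) (.leaf 11805))))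 (.node (.node (.node (.leaf 2073) (.leaf 110)) (.node (.leaf 15070) (.leaf 2045))) (.node (.node (.leaf 6547) (.leaf 11381)) (.node (.leaf 831) (.leaf 3964)))))) (.node (.node (.node (.node (.node (.leaf 11795) (.leaf 6859)) (.node (.leaf 14953) (.leaf 8411))) (.node (.node (.leaf 9766) (.leaf 15409)) (.node (.leaf 251) (.leaf 5974)))) (.node (.node (.node (.leaf 13369) (.leaf 3008)) (.node (.leaf 15412) (.leaf 4578))) (.node (.node (.leaf 1888) (.leaf 12402)) (.node (.leaf 1717) (.leaf 4855))))) (.node (.node (.node (.node (.leaf 7609) (.leaf 14759)) (.node (.leaf 1929) (.leaf 3119))) (.node (.node (.leaf 13645) (.leaf 13908)) (.node (.leaf 2087) (.leaf 1565)))) (.node (.node (.node (.leaf 6705) (.leaf 1072)) (.node (.leaf 1511) (.leaf 9524))) (.node (.node (.leaf 5698) (.leaf 791)) (.leaf 9987)))))) (.node (.node (.node (.node (.node (.node (.leaf 3176) (.leaf 14911)) (.node (.leaf 1045) (.leaf 1847))) (.node (.node (.leaf 2689) (.leaf 6720)) (.node (.leaf 3866) (.leaf 10529)))) (.node (.node (.node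 (.leaf 4632) (.leaf 15735)) (.node (.leaf 196) (.leaf 14651))) (.node (.node (.leaf 11837) (.leaf 8396)) (.node (.leaf 12474) (.leaf 7421))))) (.node (.node (.node (.node (.leaf 15397) (.leaf 13623)) (.node (.leaf 15142) (.leaf 4258))) (.node (.node (.leaf 4841) (.leaf 10823)) (.node (.leaf 3961) (.leaf 10957)))) (.node (.node (.node (.leaf 12431) (.leaf 5474)) (.node (.leaf 12252) (.leaf 14346))) (.node (.node (.leaf 2560) (.leaf 12687)) (.leaf 9183))))) (.node (.node (.node (.node (.node (.leaf 13036) (.leaf 12600)) (.node (.leaf 6155) (.leaf 8793))) (.node (.node (.leaf 15649) (.leaf 462)) (.node (.leaf 665) (.leaf 570)))) (.node (.node (.node (.leaf 7024) (.leaf 9621)) (.node (.leaf 10385) (.leaf 13692))) (.node (.node (.leaf 8995) (.leaf 3938)) (.node (.leaf 3899) (.leaf 1320))))) (.node (.node (.node (.node (.leaf 4615) (.leaf 8569)) (.node (.leaf 10783) (.leaf 14765))) (.node (.node (.leaf 12892) (.leaf 15064)) (.node (.leaf 14901) (.leaf 4768)))) (.node (.node (.node (.leaf 29) (.leaf 6951))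 (.node (.leaf 10621) (.leaf 12100))) (.node (.node (.leaf 8446) (.leaf 1162)) (.leaf 13670))))))) (.node (.node (.node (.node (.node (.node (.node (.leaf 14779) (.leaf 591)) (.node (.leaf 847) (.leaf 15350))) (.node (.node (.leaf 1528) (.leaf 1459)) (.node (.leaf 6401) (.leaf 3969)))) (.node (.node (.node (.leaf 13703) (.leaf 8166)) (.node (.leaf 12604) (.leaf 2912))) (.node (.node (.leaf 15562) (.leaf 7637)) (.node (.leaf 870) (.leaf 10652))))) (.node (.node (.node (.node (.leaf 13708) (.leaf 4380)) (.node (.leaf 113) (.leaf 8362))) (.node (.node (.leaf 3492) (.leaf 6376)) (.node (.leaf 3652) (.leaf 3730)))) (.node (.node (.node (.leaf 5369) (.leaf 6664)) (.node (.leaf 12507) (.leaf 11077))) (.node (.node (.leaf 11547) (.leaf 7151)) (.leaf 10899))))) (.node (.node (.node (.node (.node (.leaf 5248) (.leaf 13439)) (.node (.leaf 7843) (.leaf 11838))) (.node (.node (.leaf 9024) (.leaf 4301)) (.node (.leaf 5583) (.leaf 476)))) (.node (.node (.node (.leaf 15785) (.leaf 3698)) (.node (.leaf 11141) (.leaf 4791)))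 (.node (.node (.leaf 6451) (.leaf 11190)) (.node (.leaf 957) (.leaf 12137))))) (.node (.node (.node (.node (.leaf 4032) (.leaf 15125)) (.node (.leaf 2960) (.leaf 2276))) (.node (.node (.leaf 8126) (.leaf 7691)) (.node (.leaf 4998) (.leaf 15549)))) (.node (.node (.node (.leaf 10905) (.leaf 14654)) (.node (.leaf 14936) (.leaf 11778))) (.node (.node (.leaf 15863) (.leaf 6507)) (.leaf 9823)))))) (.node (.node (.node (.node (.node (.node (.leaf 7530) (.leaf 11379)) (.node (.leaf 7326) (.leaf 13667))) (.node (.node (.leaf 14564) (.leaf 10253)) (.node (.leaf 11359) (.leaf 8090)))) (.node (.node (.node (.leaf 896) (.leaf 10514)) (.node (.leaf 9848) (.leaf 3080))) (.node (.node (.leaf 8865) (.leaf 9084)) (.node (.leaf 926) (.leaf 10510))))) (.node (.node (.node (.node (.leaf 10938) (.leaf 5813)) (.node (.leaf 6406) (.leaf 5657))) (.node (.node (.leaf 19) (.leaf 3141)) (.node (.leaf 6899) (.leaf 15661)))) (.node (.node (.node (.leaf 4667) (.leaf 5870)) (.node (.leaf 3699) (.leaf 9673))) (.node (.node (.leaf 6672)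 (.leaf 6163)) (.leaf 5795))))) (.node (.node (.node (.node (.node (.leaf 1735) (.leaf 2750)) (.node (.leaf 5126) (.leaf 5323))) (.node (.node (.leaf 6880) (.leaf 8984)) (.node (.leaf 8263) (.leaf 7048)))) (.node (.node (.node (.leaf 5096) (.leaf 7598)) (.node (.leaf 4245) (.leaf 2307))) (.node (.node (.leaf 3619) (.leaf 12139)) (.node (.leaf 15825) (.leaf 13531))))) (.node (.node (.node (.node (.leaf 7300) (.leaf 5113)) (.node (.leaf 10517) (.leaf 4192))) (.node (.node (.leaf 83) (.leaf 11022)) (.node (.leaf 9851) (.leaf 400)))) (.node (.node (.node (.leaf 12511) (.leaf 12387)) (.node (.leaf 1563) (.leaf 1509))) (.node (.node (.leaf 6783) (.leaf 6028)) (.leaf 3445)))))))) (.node (.node (.node (.node (.node (.node (.node (.node (.leaf 544) (.leaf 7570)) (.node (.leaf 9150) (.leaf 8819))) (.node (.node (.leaf 10212) (.leaf 15429)) (.node (.leaf 4455) (.leaf 12173)))) (.node (.node (.node (.leaf 13444) (.leaf 9146)) (.node (.leaf 2712) (.leaf 13429))) (.node (.node (.leaf 15668) (.leaf 15891)) (.node (.leaf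 9278) (.leaf 8317))))) (.node (.node (.node (.node (.leaf 13368) (.leaf 5414)) (.node (.leaf 3741) (.leaf 12264))) (.node (.node (.leaf 12304) (.leaf 9041)) (.node (.leaf 4143) (.leaf 8701)))) (.node (.node (.node (.leaf 12678) (.leaf 10764)) (.node (.leaf 6558) (.leaf 13854))) (.node (.node (.leaf 13238) (.leaf 13967)) (.node (.leaf 9007) (.leaf 9932)))))) (.node (.node (.node (.node (.node (.leaf 1425) (.leaf 4444)) (.node (.leaf 1663) (.leaf 2357))) (.node (.node (.leaf 13071) (.leaf 11118)) (.node (.leaf 6866) (.leaf 8257)))) (.node (.node (.node (.leaf 4220) (.leaf 15900)) (.node (.leaf 1715) (.leaf 5005))) (.node (.node (.leaf 9505) (.leaf 2108)) (.node (.leaf 455) (.leaf 883))))) (.node (.node (.node (.node (.leaf 5364) (.leaf 6122)) (.node (.leaf 10074) (.leaf 9309))) (.node (.node (.leaf 5580) (.leaf 85)) (.node (.leaf 3416) (.leaf 8141)))) (.node (.node (.node (.leaf 8788) (.leaf 7875)) (.node (.leaf 12775) (.leaf 4771))) (.node (.node (.leaf 11465) (.leaf 7358)) (.leaf 3773)))))) (.node (.node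 (.node (.node (.node (.node (.leaf 2532) (.leaf 12753)) (.node (.leaf 13455) (.leaf 14629))) (.node (.node (.leaf 103) (.leaf 14760)) (.node (.leaf 14126) (.leaf 12361)))) (.node (.node (.node (.leaf 7888) (.leaf 2277)) (.node (.leaf 5477) (.leaf 14878))) (.node (.node (.leaf 7328) (.leaf 14438)) (.node (.leaf 14164) (.leaf 2209))))) (.node (.node (.node (.node (.leaf 4636) (.leaf 13633)) (.node (.leaf 1347) (.leaf 10806))) (.node (.node (.leaf 5438) (.leaf 6852)) (.node (.leaf 5696) (.leaf 9865)))) (.node (.node (.node (.leaf 1033) (.leaf 14086)) (.node (.leaf 2322) (.leaf 9792))) (.node (.node (.leaf 1226) (.leaf 15870)) (.leaf 7385))))) (.node (.node (.node (.node (.node (.leaf 8629) (.leaf 8818)) (.node (.leaf 7939) (.leaf 8402))) (.node (.node (.leaf 5948) (.leaf 7338)) (.node (.leaf 12399) (.leaf 5831)))) (.node (.node (.node (.leaf 2078) (.leaf 13133)) (.node (.leaf 14691) (.leaf 15738))) (.node (.node (.leaf 15381) (.leaf 1997)) (.node (.leaf 15162) (.leaf 4972))))) (.node (.node (.node (.node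 (.leaf 10461) (.leaf 3191)) (.node (.leaf 13974) (.leaf 14517))) (.node (.node (.leaf 10197) (.leaf 13581)) (.node (.leaf 2883) (.leaf 13798)))) (.node (.node (.node (.leaf 13825) (.leaf 11607)) (.node (.leaf 5186) (.leaf 15708))) (.node (.node (.leaf 87) (.leaf 11566)) (.leaf 8875))))))) (.node (.node (.node (.node (.node (.node (.node (.leaf 3171) (.leaf 8932)) (.node (.leaf 8696) (.leaf 775))) (.node (.node (.leaf 14394) (.leaf 6118)) (.node (.leaf 8514) (.leaf 12395)))) (.node (.node (.node (.leaf 13305) (.leaf 7784)) (.node (.leaf 2416) (.leaf 1627))) (.node (.node (.leaf 15337) (.leaf 9849)) (.node (.leaf 9598) (.leaf 9880))))) (.node (.node (.node (.node (.leaf 9455) (.leaf 7420)) (.node (.leaf 1144) (.leaf 4345))) (.node (.node (.leaf 6152) (.leaf 5887)) (.node (.leaf 12247) (.leaf 12408)))) (.node (.node (.node (.leaf 13376) (.leaf 8725)) (.node (.leaf 502) (.leaf 2931))) (.node (.node (.leaf 10945) (.leaf 6535)) (.leaf 1537))))) (.node (.node (.node (.node (.node (.leaf 14605) (.leaf 6064))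 (.node (.leaf 2697) (.leaf 11691))) (.node (.node (.leaf 11451) (.leaf 10676)) (.node (.leaf 5666) (.leaf 11657)))) (.node (.node (.node (.leaf 8489) (.leaf 9152)) (.node (.leaf 6933) (.leaf 15111))) (.node (.node (.leaf 9079) (.leaf 3628)) (.node (.leaf 8577) (.leaf 10710))))) (.node (.node (.node (.node (.leaf 1275) (.leaf 6584)) (.node (.leaf 1065) (.leaf 15160))) (.node (.node (.leaf 13769) (.leaf 5787)) (.node (.leaf 520) (.leaf 15683)))) (.node (.node (.node (.leaf 15953) (.leaf 6012)) (.node (.leaf 7826) (.leaf 4742))) (.node (.node (.leaf 1111) (.leaf 5013)) (.leaf 3482)))))) (.node (.node (.node (.node (.node (.node (.leaf 14802) (.leaf 10326)) (.node (.leaf 15301) (.leaf 6134))) (.node (.node (.leaf 1959) (.leaf 9116)) (.node (.leaf 4121) (.leaf 6145)))) (.node (.node (.node (.leaf 1094) (.leaf 11039)) (.node (.leaf 7680) (.leaf 2704))) (.node (.node (.leaf 15725) (.leaf 15184)) (.node (.leaf 13421) (.leaf 8925))))) (.node (.node (.node (.node (.leaf 8433) (.leaf 9460)) (.node (.leaf 5704)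 (.leaf 4711))) (.node (.node (.leaf 9722) (.leaf 14552)) (.node (.leaf 15733) (.leaf 13752)))) (.node (.node (.node (.leaf 11491) (.leaf 11584)) (.node (.leaf 6278) (.leaf 921))) (.node (.node (.leaf 15931) (.leaf 11592)) (.leaf 6167))))) (.node (.node (.node (.node (.node (.leaf 13154) (.leaf 2635)) (.node (.leaf 14553) (.leaf 1237))) (.node (.node (.leaf 13568) (.leaf 13464)) (.node (.leaf 10387) (.leaf 6277)))) (.node (.node (.node (.leaf 10737) (.leaf 9597)) (.node (.leaf 6915) (.leaf 2862))) (.node (.node (.leaf 8612) (.leaf 3982)) (.node (.leaf 13749) (.leaf 14087))))) (.node (.node (.node (.node (.leaf 12336) (.leaf 4973)) (.node (.leaf 9541) (.leaf 12485))) (.node (.node (.leaf 4451) (.leaf 4719)) (.node (.leaf 6257) (.leaf 15908)))) (.node (.node (.node (.leaf 7757) (.leaf 13146)) (.node (.leaf 11968) (.leaf 3454))) (.node (.node (.leaf 6555) (.leaf 317)) (.leaf 12852))))))))))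

def lineOrder9 : Tree (ℕ) :=
  (.node (.node (.node (.node (.node (.node (.node (.node (.node (.node (.leaf 3174) (.leaf 4852)) (.node (.leaf 8284) (.leaf 2925))) (.node (.node (.leaf 965) (.leaf 4450)) (.node (.leaf 15027) (.leaf 7892)))) (.node (.node (.node (.leaf 15216) (.leaf 14948)) (.node (.leaf 3110) (.leaf 14891))) (.node (.node (.leaf 4815) (.leaf 8836)) (.node (.leaf 8359) (.leaf 2449))))) (.node (.node (.node (.node (.leaf 10097) (.leaf 14370)) (.node (.leaf 2132) (.leaf 15135))) (.node (.node (.leaf 15322) (.leaf 14298)) (.node (.leaf 485) (.leaf 8854)))) (.node (.node (.node (.leaf 14339) (.leaf 8429)) (.node (.leaf 13922) (.leaf 6610))) (.node (.node (.leaf 3212) (.leaf 6123)) (.node (.leaf 14350) (.leaf 2057)))))) (.node (.node (.node (.node (.node (.leaf 7451) (.leaf 4391)) (.node (.leaf 12067) (.leaf 494))) (.node (.node (.leaf 7257) (.leaf 15012)) (.node (.leaf 4858) (.leaf 2522)))) (.node (.node (.node (.leaf 13597) (.leaf 11541)) (.node (.leaf 10367) (.leaf 7269))) (.node (.node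 (.leaf 13813) (.leaf 14598)) (.node (.leaf 5493) (.leaf 11405))))) (.node (.node (.node (.node (.leaf 10930) (.leaf 14941)) (.node (.leaf 577) (.leaf 2288))) (.node (.node (.leaf 13526) (.leaf 1197)) (.node (.leaf 5380) (.leaf 14273)))) (.node (.node (.node (.leaf 4087) (.leaf 10231)) (.node (.leaf 2789) (.leaf 8945))) (.node (.node (.leaf 15851) (.leaf 3998)) (.leaf 1965)))))) (.node (.node (.node (.node (.node (.node (.leaf 13612) (.leaf 2987)) (.node (.leaf 13872) (.leaf 182))) (.node (.node (.leaf 11123) (.leaf 13950)) (.node (.leaf 8064) (.leaf 667)))) (.node (.node (.node (.leaf 8770) (.leaf 6221)) (.node (.leaf 7244) (.leaf 11306))) (.node (.node (.leaf 8714) (.leaf 2059)) (.node (.leaf 13663) (.leaf 9405))))) (.node (.node (.node (.node (.leaf 6711) (.leaf 9286)) (.node (.leaf 14388) (.leaf 4099))) (.node (.node (.leaf 7428) (.leaf 13666)) (.node (.leaf 7072) (.leaf 14830)))) (.node (.node (.node (.leaf 8438) (.leaf 9558)) (.node (.leaf 11721) (.leaf 259))) (.node (.node (.leaf 901) (.leaf 14007))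 (.leaf 15304))))) (.node (.node (.node (.node (.node (.leaf 3384) (.leaf 13735)) (.node (.leaf 11409) (.leaf 5792))) (.node (.node (.leaf 11105) (.leaf 12355)) (.node (.leaf 4138) (.leaf 11018)))) (.node (.node (.node (.leaf 1649) (.leaf 11622)) (.node (.leaf 10644) (.leaf 6154))) (.node (.node (.leaf 1122) (.leaf 10540)) (.node (.leaf 13139) (.leaf 7670))))) (.node (.node (.node (.node (.leaf 6719) (.leaf 5071)) (.node (.leaf 7098) (.leaf 1405))) (.node (.node (.leaf 3958) (.leaf 3609)) (.node (.leaf 8490) (.leaf 7104)))) (.node (.node (.node (.leaf 4083) (.leaf 1780)) (.node (.leaf 2403) (.leaf 1776))) (.node (.node (.leaf 14272) (.leaf 10239)) (.leaf 13427))))))) (.node (.node (.node (.node (.node (.node (.node (.leaf 14742) (.leaf 12133)) (.node (.leaf 9869) (.leaf 10565))) (.node (.node (.leaf 940) (.leaf 1266)) (.node (.leaf 208) (.leaf 10438)))) (.node (.node (.node (.leaf 11339) (.leaf 7674)) (.node (.leaf 10446) (.leaf 13527))) (.node (.node (.leaf 2710) (.leaf 2418)) (.node (.leaf 7261) (.leaf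 11512))))) (.node (.node (.node (.node (.leaf 10469) (.leaf 1692)) (.node (.leaf 4705) (.leaf 3479))) (.node (.node (.leaf 13021) (.leaf 1398)) (.node (.leaf 7728) (.leaf 13041)))) (.node (.node (.node (.leaf 13826) (.leaf 12901)) (.node (.leaf 11312) (.leaf 64))) (.node (.node (.leaf 152) (.leaf 11113)) (.node (.leaf 8662) (.leaf 14866)))))) (.node (.node (.node (.node (.node (.leaf 6340) (.leaf 9510)) (.node (.leaf 15325) (.leaf 8132))) (.node (.node (.leaf 5314) (.leaf 9135)) (.node (.leaf 1166) (.leaf 14819)))) (.node (.node (.node (.leaf 11883) (.leaf 404)) (.node (.leaf 6731) (.leaf 1690))) (.node (.node (.leaf 872) (.leaf 6479)) (.node (.leaf 536) (.leaf 8103))))) (.node (.node (.node (.node (.leaf 5340) (.leaf 10160)) (.node (.leaf 6202) (.leaf 14329))) (.node (.node (.leaf 2565) (.leaf 11969)) (.node (.leaf 8196) (.leaf 9893)))) (.node (.node (.node (.leaf 4678) (.leaf 5645)) (.node (.leaf 12096) (.leaf 12227))) (.node (.node (.leaf 13990) (.leaf 4813)) (.leaf 12382)))))) (.node (.node (.node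 (.node (.node (.node (.leaf 5094) (.leaf 1020)) (.node (.leaf 3462) (.leaf 7769))) (.node (.node (.leaf 9556) (.leaf 11214)) (.node (.leaf 13573) (.leaf 2875)))) (.node (.node (.node (.leaf 6703) (.leaf 4379)) (.node (.leaf 1024) (.leaf 6856))) (.node (.node (.leaf 12063) (.leaf 2988)) (.node (.leaf 5753) (.leaf 47))))) (.node (.node (.node (.node (.leaf 13380) (.leaf 11768)) (.node (.leaf 9642) (.leaf 15036))) (.node (.node (.leaf 7990) (.leaf 14419)) (.node (.leaf 6590) (.leaf 8691)))) (.node (.node (.node (.leaf 12419) (.leaf 2436)) (.node (.leaf 3523) (.leaf 10678))) (.node (.node (.leaf 8015) (.leaf 6793)) (.leaf 7320))))) (.node (.node (.node (.node (.node (.leaf 8485) (.leaf 3594)) (.node (.leaf 2582) (.leaf 2795))) (.node (.node (.leaf 3686) (.leaf 8672)) (.node (.leaf 14688) (.leaf 4878)))) (.node (.node (.node (.leaf 12330) (.leaf 7521)) (.node (.leaf 7120) (.leaf 44))) (.node (.node (.leaf 9000) (.leaf 11094)) (.node (.leaf 6407) (.leaf 14964))))) (.node (.node (.node (.node (.leaf 11421)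 (.leaf 7770)) (.node (.leaf 2273) (.leaf 2745))) (.node (.node (.leaf 5422) (.leaf 12022)) (.node (.leaf 7698) (.leaf 9035)))) (.node (.node (.node (.leaf 10509) (.leaf 5460)) (.node (.leaf 3296) (.leaf 1337))) (.node (.node (.leaf 121) (.leaf 6007)) (.leaf 535)))))))) (.node (.node (.node (.node (.node (.node (.node (.node (.leaf 11151) (.leaf 389)) (.node (.leaf 9145) (.leaf 2625))) (.node (.node (.leaf 5104) (.leaf 6937)) (.node (.leaf 11597) (.leaf 2428)))) (.node (.node (.node (.leaf 15791) (.leaf 7205)) (.node (.leaf 6963) (.leaf 2393))) (.node (.node (.leaf 4304) (.leaf 7842)) (.node (.leaf 4064) (.leaf 7343))))) (.node (.node (.node (.node (.leaf 13829) (.leaf 10782)) (.node (.leaf 15524) (.leaf 7258))) (.node (.node (.leaf 8924) (.leaf 15075)) (.node (.leaf 14699) (.leaf 14158)))) (.node (.node (.node (.leaf 14314) (.leaf 4575)) (.node (.leaf 9528) (.leaf 10386))) (.node (.node (.leaf 10704) (.leaf 9207)) (.node (.leaf 9362) (.leaf 6660)))))) (.node (.node (.node (.node (.node (.leaf 12571)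 (.leaf 9507)) (.node (.leaf 8238) (.leaf 5957))) (.node (.node (.leaf 13899) (.leaf 5825)) (.node (.leaf 9315) (.leaf 14051)))) (.node (.node (.node (.leaf 12433) (.leaf 14615)) (.node (.leaf 9604) (.leaf 1193))) (.node (.node (.leaf 10490) (.leaf 11699)) (.node (.leaf 15413) (.leaf 769))))) (.node (.node (.node (.node (.leaf 12679) (.leaf 12214)) (.node (.leaf 14250) (.leaf 14824))) (.node (.node (.leaf 4906) (.leaf 12790)) (.node (.leaf 6319) (.leaf 1443)))) (.node (.node (.node (.leaf 2079) (.leaf 10364)) (.node (.leaf 11976) (.leaf 11109))) (.node (.node (.leaf 6160) (.leaf 10873)) (.leaf 7395)))))) (.node (.node (.node (.node (.node (.node (.leaf 4465) (.leaf 11526)) (.node (.leaf 15650) (.leaf 13631))) (.node (.node (.leaf 13960) (.leaf 6141)) (.node (.leaf 9414) (.leaf 10026)))) (.node (.node (.node (.leaf 1835) (.leaf 7429)) (.node (.leaf 14674) (.leaf 6335))) (.node (.node (.leaf 9182) (.leaf 3427)) (.node (.leaf 1017) (.leaf 6157))))) (.node (.node (.node (.node (.leaf 5710) (.leaf 7653)) (.node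 (.leaf 6010) (.leaf 10532))) (.node (.node (.leaf 1230) (.leaf 13001)) (.node (.leaf 8341) (.leaf 3031)))) (.node (.node (.node (.leaf 6715) (.leaf 336)) (.node (.leaf 14721) (.leaf 12421))) (.node (.node (.leaf 6745) (.leaf 1100)) (.leaf 11442))))) (.node (.node (.node (.node (.node (.leaf 6426) (.leaf 14441)) (.node (.leaf 11613) (.leaf 5904))) (.node (.node (.leaf 15088) (.leaf 7344)) (.node (.leaf 4965) (.leaf 11297)))) (.node (.node (.node (.leaf 15393) (.leaf 10534)) (.node (.leaf 6119) (.leaf 8180))) (.node (.node (.leaf 8037) (.leaf 14444)) (.node (.leaf 682) (.leaf 15076))))) (.node (.node (.node (.node (.leaf 8434) (.leaf 4191)) (.node (.leaf 13519) (.leaf 7443))) (.node (.node (.leaf 15686) (.leaf 529)) (.node (.leaf 13653) (.leaf 1317)))) (.node (.node (.node (.leaf 10692) (.leaf 9101)) (.node (.leaf 8821) (.leaf 1118))) (.node (.node (.leaf 11965) (.leaf 6254)) (.leaf 9878))))))) (.node (.node (.node (.node (.node (.node (.node (.leaf 13610) (.leaf 9336)) (.node (.leaf 14583) (.leaf 14375)))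 (.node (.node (.leaf 7546) (.leaf 4109)) (.node (.leaf 2392) (.leaf 13549)))) (.node (.node (.node (.leaf 4670) (.leaf 4285)) (.node (.leaf 465) (.leaf 6019))) (.node (.node (.leaf 13137) (.leaf 3502)) (.node (.leaf 14228) (.leaf 1218))))) (.node (.node (.node (.node (.leaf 2251) (.leaf 2272)) (.node (.leaf 14290) (.leaf 1225))) (.node (.node (.leaf 163) (.leaf 15100)) (.node (.leaf 1222) (.leaf 6567)))) (.node (.node (.node (.leaf 2020) (.leaf 3246)) (.node (.leaf 11034) (.leaf 11581))) (.node (.node (.leaf 408) (.leaf 14795)) (.leaf 10068))))) (.node (.node (.node (.node (.node (.leaf 12691) (.leaf 3847)) (.node (.leaf 7272) (.leaf 9181))) (.node (.node (.leaf 15073) (.leaf 11677)) (.node (.leaf 4270) (.leaf 2651)))) (.node (.node (.node (.leaf 9749) (.leaf 5613)) (.node (.leaf 12828) (.leaf 3051))) (.node (.node (.leaf 12218) (.leaf 14377)) (.node (.leaf 1581) (.leaf 14368))))) (.node (.node (.node (.node (.leaf 11425) (.leaf 11704)) (.node (.leaf 7444) (.leaf 8837))) (.node (.node (.leaf 4926) (.leaf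 6973)) (.node (.leaf 5598) (.leaf 10192)))) (.node (.node (.node (.leaf 5089) (.leaf 5553)) (.node (.leaf 11557) (.leaf 9859))) (.node (.node (.leaf 13407) (.leaf 2952)) (.leaf 3297)))))) (.node (.node (.node (.node (.node (.node (.leaf 11680) (.leaf 5256)) (.node (.leaf 11695) (.leaf 10267))) (.node (.node (.leaf 13084) (.leaf 15621)) (.node (.leaf 1925) (.leaf 5632)))) (.node (.node (.node (.leaf 5307) (.leaf 2906)) (.node (.leaf 12615) (.leaf 10272))) (.node (.node (.leaf 8951) (.leaf 2214)) (.node (.leaf 15074) (.leaf 14105))))) (.node (.node (.node (.node (.leaf 4034) (.leaf 1614)) (.node (.leaf 12543) (.leaf 15002))) (.node (.node (.leaf 1626) (.leaf 1871)) (.node (.leaf 40) (.leaf 9349)))) (.node (.node (.node (.leaf 894) (.leaf 4808)) (.node (.leaf 7364) (.leaf 3396))) (.node (.node (.leaf 8293) (.leaf 15582)) (.leaf 3799))))) (.node (.node (.node (.node (.node (.leaf 14805) (.leaf 904)) (.node (.leaf 12379) (.leaf 2002))) (.node (.node (.leaf 7578) (.leaf 1140)) (.node (.leaf 12455) (.leaf 11002))))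 (.node (.node (.node (.leaf 10204) (.leaf 8852)) (.node (.leaf 5952) (.leaf 13888))) (.node (.node (.leaf 10810) (.leaf 11074)) (.node (.leaf 12880) (.leaf 8376))))) (.node (.node (.node (.node (.leaf 3120) (.leaf 1303)) (.node (.leaf 15117) (.leaf 10155))) (.node (.node (.leaf 2577) (.leaf 4071)) (.node (.leaf 12919) (.leaf 15604)))) (.node (.node (.node (.leaf 5366) (.leaf 3776)) (.node (.leaf 7351) (.leaf 13804))) (.node (.node (.leaf 7678) (.leaf 7555)) (.leaf 15130))))))))) (.node (.node (.node (.node (.node (.node (.node (.node (.node (.leaf 12924) (.leaf 782)) (.node (.leaf 11730) (.leaf 1885))) (.node (.node (.leaf 4269) (.leaf 2037)) (.node (.leaf 9828) (.leaf 7796)))) (.node (.node (.node (.leaf 1030) (.leaf 6082)) (.node (.leaf 15630) (.leaf 4437))) (.node (.node (.leaf 14276) (.leaf 8458)) (.node (.leaf 7552) (.leaf 13463))))) (.node (.node (.node (.node (.leaf 7882) (.leaf 9885)) (.node (.leaf 3757) (.leaf 6741))) (.node (.node (.leaf 11404) (.leaf 9677)) (.node (.leaf 2353) (.leaf 5929))))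 (.node (.node (.node (.leaf 6425) (.leaf 9814)) (.node (.leaf 9148) (.leaf 2890))) (.node (.node (.leaf 217) (.leaf 6728)) (.node (.leaf 3865) (.leaf 10113)))))) (.node (.node (.node (.node (.node (.leaf 1356) (.leaf 10882)) (.node (.leaf 5798) (.leaf 5962))) (.node (.node (.leaf 12261) (.leaf 8567)) (.node (.leaf 5877) (.leaf 10814)))) (.node (.node (.node (.leaf 14997) (.leaf 2325)) (.node (.leaf 8877) (.leaf 7046))) (.node (.node (.leaf 1286) (.leaf 14833)) (.node (.leaf 4233) (.leaf 3019))))) (.node (.node (.node (.node (.leaf 8783) (.leaf 6919)) (.node (.leaf 5503) (.leaf 3719))) (.node (.node (.leaf 13239) (.leaf 6168)) (.node (.leaf 12308) (.leaf 637)))) (.node (.node (.node (.leaf 1932) (.leaf 6733)) (.node (.leaf 5769) (.leaf 9485))) (.node (.node (.leaf 1958) (.leaf 15022)) (.leaf 9857)))))) (.node (.node (.node (.node (.node (.node (.leaf 1765) (.leaf 13220)) (.node (.leaf 2938) (.leaf 6772))) (.node (.node (.leaf 10078) (.leaf 968)) (.node (.leaf 11811) (.leaf 15590)))) (.node (.node (.node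 (.leaf 6345) (.leaf 4959)) (.node (.leaf 3248) (.leaf 4052))) (.node (.node (.leaf 10648) (.leaf 10241)) (.node (.leaf 515) (.leaf 9244))))) (.node (.node (.node (.node (.leaf 12671) (.leaf 7115)) (.node (.leaf 12590) (.leaf 437))) (.node (.node (.leaf 13425) (.leaf 11561)) (.node (.leaf 11284) (.leaf 14786)))) (.node (.node (.node (.leaf 5934) (.leaf 13246)) (.node (.leaf 11577) (.leaf 683))) (.node (.node (.leaf 3231) (.leaf 7914)) (.leaf 12468))))) (.node (.node (.node (.node (.node (.leaf 7604) (.leaf 5224)) (.node (.leaf 2284) (.leaf 2124))) (.node (.node (.leaf 5750) (.leaf 9099)) (.node (.leaf 4938) (.leaf 11876)))) (.node (.node (.node (.leaf 9452) (.leaf 7213)) (.node (.leaf 14300) (.leaf 11400))) (.node (.node (.leaf 7913) (.leaf 1906)) (.node (.leaf 10673) (.leaf 12223))))) (.node (.node (.node (.node (.leaf 10699) (.leaf 1108)) (.node (.leaf 6891) (.leaf 8743))) (.node (.node (.leaf 5594) (.leaf 6527)) (.node (.leaf 3600) (.leaf 3525)))) (.node (.node (.node (.leaf 4554) (.leaf 12793)) (.node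 (.leaf 5049) (.leaf 14277))) (.node (.node (.leaf 2150) (.leaf 7575)) (.leaf 6294))))))) (.node (.node (.node (.node (.node (.node (.node (.leaf 12926) (.leaf 7630)) (.node (.leaf 10440) (.leaf 3000))) (.node (.node (.leaf 5020) (.leaf 5205)) (.node (.leaf 1795) (.leaf 11646)))) (.node (.node (.node (.leaf 13501) (.leaf 6909)) (.node (.leaf 5222) (.leaf 1342))) (.node (.node (.leaf 11753) (.leaf 594)) (.node (.leaf 4573) (.leaf 7334))))) (.node (.node (.node (.node (.leaf 13509) (.leaf 5519)) (.node (.leaf 12567) (.leaf 12016))) (.node (.node (.leaf 15730) (.leaf 12045)) (.node (.leaf 8723) (.leaf 13857)))) (.node (.node (.node (.leaf 7020) (.leaf 4349)) (.node (.leaf 11106) (.leaf 9317))) (.node (.node (.leaf 10962) (.leaf 10894)) (.leaf 7153))))) (.node (.node (.node (.node (.node (.leaf 11712) (.leaf 866)) (.node (.leaf 6227) (.leaf 15425))) (.node (.node (.leaf 12967) (.leaf 850)) (.node (.leaf 3593) (.leaf 12146)))) (.node (.node (.node (.leaf 14608) (.leaf 8811)) (.node (.leaf 8675) (.leaf 11985)))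 (.node (.node (.leaf 10273) (.leaf 9031)) (.node (.leaf 6739) (.leaf 11784))))) (.node (.node (.node (.node (.leaf 5242) (.leaf 2659)) (.node (.leaf 12639) (.leaf 14214))) (.node (.node (.leaf 15356) (.leaf 3589)) (.node (.leaf 14141) (.leaf 4424)))) (.node (.node (.node (.leaf 9227) (.leaf 4051)) (.node (.leaf 1430) (.leaf 6952))) (.node (.node (.leaf 96) (.leaf 15547)) (.leaf 13174)))))) (.node (.node (.node (.node (.node (.node (.leaf 10466) (.leaf 2451)) (.node (.leaf 8883) (.leaf 127))) (.node (.node (.leaf 8291) (.leaf 9655)) (.node (.leaf 344) (.leaf 4650)))) (.node (.node (.node (.leaf 12236) (.leaf 14116)) (.node (.leaf 7890) (.leaf 7961))) (.node (.node (.leaf 2806) (.leaf 2304)) (.node (.leaf 5167) (.leaf 14209))))) (.node (.node (.node (.node (.leaf 14808) (.leaf 6139)) (.node (.leaf 10132) (.leaf 12551))) (.node (.node (.leaf 5490) (.leaf 977)) (.node (.leaf 10788) (.leaf 468)))) (.node (.node (.node (.leaf 10508) (.leaf 252)) (.node (.leaf 8810) (.leaf 11932))) (.node (.node (.leaf 14867)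 (.leaf 13903)) (.leaf 10640))))) (.node (.node (.node (.node (.node (.leaf 11498) (.leaf 3531)) (.node (.leaf 1134) (.leaf 12207))) (.node (.node (.leaf 3361) (.leaf 454)) (.node (.leaf 13850) (.leaf 14934)))) (.node (.node (.node (.leaf 4988) (.leaf 3745)) (.node (.leaf 1454) (.leaf 6117))) (.node (.node (.leaf 5031) (.leaf 11788)) (.node (.leaf 11128) (.leaf 3634))))) (.node (.node (.node (.node (.leaf 6716) (.leaf 12279)) (.node (.leaf 8215) (.leaf 15204))) (.node (.node (.leaf 10307) (.leaf 15257)) (.node (.leaf 10473) (.leaf 71)))) (.node (.node (.node (.leaf 12332) (.leaf 7409)) (.node (.leaf 1112) (.leaf 3908))) (.node (.node (.leaf 7201) (.leaf 12849)) (.leaf 1587)))))))) (.node (.node (.node (.node (.node (.node (.node (.node (.leaf 14744) (.leaf 4586)) (.node (.leaf 3222) (.leaf 3690))) (.node (.node (.leaf 14732) (.leaf 11833)) (.node (.leaf 10457) (.leaf 13399)))) (.node (.node (.node (.leaf 2556) (.leaf 4688)) (.node (.leaf 5652) (.leaf 4846))) (.node (.node (.leaf 3667) (.leaf 7462)) (.node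 (.leaf 1285) (.leaf 5620))))) (.node (.node (.node (.node (.leaf 14994) (.leaf 7956)) (.node (.leaf 3339) (.leaf 331))) (.node (.node (.leaf 366) (.leaf 6559)) (.node (.leaf 2305) (.leaf 12658)))) (.node (.node (.node (.leaf 15392) (.leaf 11230)) (.node (.leaf 12229) (.leaf 8131))) (.node (.node (.leaf 15903) (.leaf 3783)) (.node (.leaf 803) (.leaf 1987)))))) (.node (.node (.node (.node (.node (.leaf 1830) (.leaf 2781)) (.node (.leaf 9185) (.leaf 8232))) (.node (.node (.leaf 13632) (.leaf 3704)) (.node (.leaf 4805) (.leaf 8036)))) (.node (.node (.node (.leaf 13821) (.leaf 1905)) (.node (.leaf 9941) (.leaf 6594))) (.node (.node (.leaf 4296) (.leaf 13859)) (.node (.leaf 8985) (.leaf 1047))))) (.node (.node (.node (.node (.leaf 15774) (.leaf 11669)) (.node (.leaf 14490) (.leaf 15112))) (.node (.node (.leaf 3590) (.leaf 10300)) (.node (.leaf 4078) (.leaf 15063)))) (.node (.node (.node (.leaf 5712) (.leaf 7348)) (.node (.leaf 4915) (.leaf 13928))) (.node (.node (.leaf 8335) (.leaf 9128)) (.leaf 6828))))))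 (.node (.node (.node (.node (.node (.node (.leaf 147) (.leaf 3420)) (.node (.leaf 11072) (.leaf 7672))) (.node (.node (.leaf 7414) (.leaf 215)) (.node (.leaf 4213) (.leaf 10967)))) (.node (.node (.node (.leaf 1558) (.leaf 7942)) (.node (.leaf 3505) (.leaf 7363))) (.node (.node (.leaf 13852) (.leaf 14089)) (.node (.leaf 4979) (.leaf 4400))))) (.node (.node (.node (.node (.leaf 2551) (.leaf 13079)) (.node (.leaf 2917) (.leaf 11486))) (.node (.node (.leaf 1856) (.leaf 4912)) (.node (.leaf 1956) (.leaf 5158)))) (.node (.node (.node (.leaf 10836) (.leaf 5375)) (.node (.leaf 8129) (.leaf 9531))) (.node (.node (.leaf 4759) (.leaf 9419)) (.leaf 13884))))) (.node (.node (.node (.node (.node (.leaf 12726) (.leaf 3691)) (.node (.leaf 13976) (.leaf 264))) (.node (.node (.leaf 4412) (.leaf 10650)) (.node (.leaf 7438) (.leaf 10885)))) (.node (.node (.node (.leaf 13446) (.leaf 15364)) (.node (.leaf 3136) (.leaf 3494))) (.node (.node (.leaf 15156) (.leaf 403)) (.node (.leaf 11954) (.leaf 9482))))) (.node (.node (.node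 (.node (.leaf 7534) (.leaf 12007)) (.node (.leaf 5445) (.leaf 948))) (.node (.node (.leaf 5390) (.leaf 9401)) (.node (.leaf 10456) (.leaf 9190)))) (.node (.node (.node (.leaf 4222) (.leaf 8336)) (.node (.leaf 10970) (.leaf 13402))) (.node (.node (.leaf 10304) (.leaf 10822)) (.leaf 15414))))))) (.node (.node (.node (.node (.node (.node (.node (.leaf 1767) (.leaf 9761)) (.node (.leaf 3840) (.leaf 10941))) (.node (.node (.leaf 12888) (.leaf 12461)) (.node (.leaf 5745) (.leaf 7430)))) (.node (.node (.node (.leaf 10743) (.leaf 14107)) (.node (.leaf 13728) (.leaf 1589))) (.node (.node (.leaf 7666) (.leaf 14914)) (.node (.leaf 8608) (.leaf 6836))))) (.node (.node (.node (.node (.leaf 11682) (.leaf 3722)) (.node (.leaf 5808) (.leaf 10225))) (.node (.node (.leaf 11187) (.leaf 11922)) (.node (.leaf 3641) (.leaf 5790)))) (.node (.node (.node (.leaf 10507) (.leaf 10607)) (.node (.leaf 234) (.leaf 887))) (.node (.node (.leaf 8554) (.leaf 2682)) (.leaf 12112))))) (.node (.node (.node (.node (.node (.leaf 15783) (.leaf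 12358)) (.node (.leaf 2201) (.leaf 13943))) (.node (.node (.leaf 5265) (.leaf 9861)) (.node (.leaf 186) (.leaf 10168)))) (.node (.node (.node (.leaf 11719) (.leaf 853)) (.node (.leaf 14155) (.leaf 11616))) (.node (.node (.leaf 5634) (.leaf 14616)) (.node (.leaf 15662) (.leaf 1394))))) (.node (.node (.node (.node (.leaf 12411) (.leaf 4122)) (.node (.leaf 9363) (.leaf 11958))) (.node (.node (.leaf 4357) (.leaf 8447)) (.node (.leaf 14014) (.leaf 6826)))) (.node (.node (.node (.leaf 10208) (.leaf 4235)) (.node (.leaf 4581) (.leaf 15316))) (.node (.node (.leaf 5391) (.leaf 9917)) (.leaf 553)))))) (.node (.node (.node (.node (.node (.node (.leaf 10932) (.leaf 6004)) (.node (.leaf 2899) (.leaf 5811))) (.node (.node (.leaf 3185) (.leaf 7099)) (.node (.leaf 6586) (.leaf 205)))) (.node (.node (.node (.leaf 6651) (.leaf 7102)) (.node (.leaf 7137) (.leaf 4876))) (.node (.node (.leaf 9294) (.leaf 4242)) (.node (.leaf 9757) (.leaf 15636))))) (.node (.node (.node (.node (.leaf 14193) (.leaf 2343)) (.node (.leaf 15440)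 (.leaf 14111))) (.node (.node (.leaf 3279) (.leaf 1510)) (.node (.leaf 3490) (.leaf 6956)))) (.node (.node (.node (.leaf 1734) (.leaf 15808)) (.node (.leaf 3333) (.leaf 5166))) (.node (.node (.leaf 12243) (.leaf 7405)) (.leaf 5547))))) (.node (.node (.node (.node (.node (.leaf 15222) (.leaf 5452)) (.node (.leaf 2926) (.leaf 12533))) (.node (.node (.leaf 2993) (.leaf 14178)) (.node (.leaf 8718) (.leaf 3085)))) (.node (.node (.node (.leaf 13596) (.leaf 8607)) (.node (.leaf 5967) (.leaf 10643))) (.node (.node (.leaf 14098) (.leaf 13874)) (.node (.leaf 4785) (.leaf 1371))))) (.node (.node (.node (.node (.leaf 12510) (.leaf 14161)) (.node (.leaf 10396) (.leaf 5100))) (.node (.node (.leaf 1969) (.leaf 1368)) (.node (.leaf 5484) (.leaf 4655)))) (.node (.node (.node (.leaf 1407) (.leaf 15457)) (.node (.leaf 14060) (.leaf 3838))) (.node (.node (.leaf 6388) (.leaf 11234)) (.leaf 3285))))))))))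

def lineOrder10 : Tree (ℕ) :=
  (.node (.node (.node (.node (.node (.node (.node (.node (.node (.node (.leaf 9618) (.leaf 10238)) (.node (.leaf 8944) (.leaf 4069))) (.node (.node (.leaf 5637) (.leaf 10454)) (.node (.leaf 798) (.leaf 14917)))) (.node (.node (.node (.leaf 9692) (.leaf 1324)) (.node (.leaf 9246) (.leaf 4218))) (.node (.node (.leaf 1564) (.leaf 7113)) (.node (.leaf 11377) (.leaf 13523))))) (.node (.node (.node (.node (.leaf 10909) (.leaf 5296)) (.node (.leaf 10324) (.leaf 1349))) (.node (.node (.leaf 7712) (.leaf 5623)) (.node (.leaf 14591) (.leaf 9275)))) (.node (.node (.node (.leaf 13389) (.leaf 2929)) (.node (.leaf 6785) (.leaf 8632))) (.node (.node (.leaf 8208) (.leaf 12546)) (.node (.leaf 575) (.leaf 8935)))))) (.node (.node (.node (.node (.node (.leaf 10500) (.leaf 15526)) (.node (.leaf 1720) (.leaf 7739))) (.node (.node (.leaf 4734) (.leaf 5707)) (.node (.leaf 60) (.leaf 7441)))) (.node (.node (.node (.leaf 11428) (.leaf 10968)) (.node (.leaf 1703) (.leaf 15477))) (.node (.node (.leaf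 6576) (.leaf 484)) (.node (.leaf 6339) (.leaf 4075))))) (.node (.node (.node (.node (.leaf 12339) (.leaf 1325)) (.node (.leaf 1917) (.leaf 3303))) (.node (.node (.leaf 3169) (.leaf 6020)) (.node (.leaf 8388) (.leaf 7494)))) (.node (.node (.node (.leaf 8484) (.leaf 10337)) (.node (.leaf 1873) (.leaf 8285))) (.node (.node (.leaf 14472) (.leaf 9821)) (.leaf 2884)))))) (.node (.node (.node (.node (.node (.node (.leaf 13494) (.leaf 8299)) (.node (.leaf 5873) (.leaf 12197))) (.node (.node (.leaf 12278) (.leaf 15305)) (.node (.leaf 6921) (.leaf 908)))) (.node (.node (.node (.leaf 11330) (.leaf 7840)) (.node (.leaf 12900) (.leaf 6055))) (.node (.node (.leaf 11431) (.leaf 7133)) (.node (.leaf 123) (.leaf 13585))))) (.node (.node (.node (.node (.leaf 13823) (.leaf 4950)) (.node (.leaf 7330) (.leaf 1573))) (.node (.node (.leaf 9739) (.leaf 126)) (.node (.leaf 8972) (.leaf 13944)))) (.node (.node (.node (.leaf 3385) (.leaf 15836)) (.node (.leaf 187) (.leaf 6888))) (.node (.node (.leaf 662) (.leaf 1525)) (.leaf 13959)))))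 (.node (.node (.node (.node (.node (.leaf 8431) (.leaf 828)) (.node (.leaf 13697) (.leaf 10645))) (.node (.node (.leaf 7679) (.leaf 13130)) (.node (.leaf 10053) (.leaf 6806)))) (.node (.node (.node (.leaf 6685) (.leaf 13734)) (.node (.leaf 5797) (.leaf 14267))) (.node (.node (.leaf 14811) (.leaf 10528)) (.node (.leaf 12354) (.leaf 11104))))) (.node (.node (.node (.node (.leaf 11886) (.leaf 1004)) (.node (.leaf 6497) (.leaf 12211))) (.node (.node (.leaf 3768) (.leaf 14908)) (.node (.leaf 6522) (.leaf 8901)))) (.node (.node (.node (.leaf 6349) (.leaf 3310)) (.node (.leaf 10230) (.leaf 3255))) (.node (.node (.leaf 12109) (.leaf 14840)) (.leaf 9759))))))) (.node (.node (.node (.node (.node (.node (.node (.leaf 10414) (.leaf 3637)) (.node (.leaf 5153) (.leaf 3526))) (.node (.node (.leaf 15011) (.leaf 7329)) (.node (.leaf 6148) (.leaf 7255)))) (.node (.node (.node (.leaf 8779) (.leaf 5889)) (.node (.leaf 15033) (.leaf 9647))) (.node (.node (.leaf 14341) (.leaf 105)) (.node (.leaf 12091) (.leaf 3206))))) (.node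 (.node (.node (.node (.leaf 14022) (.leaf 15343)) (.node (.leaf 7968) (.leaf 3655))) (.node (.node (.leaf 14200) (.leaf 14631)) (.node (.leaf 4869) (.leaf 6615)))) (.node (.node (.node (.leaf 6718) (.leaf 101)) (.node (.leaf 9464) (.leaf 13315))) (.node (.node (.leaf 3692) (.leaf 8680)) (.node (.leaf 12878) (.leaf 1021)))))) (.node (.node (.node (.node (.node (.leaf 282) (.leaf 5924)) (.node (.leaf 6894) (.leaf 7129))) (.node (.node (.leaf 11057) (.leaf 15673)) (.node (.leaf 763) (.leaf 10923)))) (.node (.node (.node (.leaf 6710) (.leaf 6194)) (.node (.leaf 955) (.leaf 1135))) (.node (.node (.leaf 14935) (.leaf 8907)) (.node (.leaf 8677) (.leaf 11073))))) (.node (.node (.node (.node (.leaf 6684) (.leaf 6801)) (.node (.leaf 340) (.leaf 8214))) (.node (.node (.leaf 3230) (.leaf 559)) (.node (.leaf 15252) (.leaf 10302)))) (.node (.node (.node (.leaf 5095) (.leaf 534)) (.node (.leaf 2507) (.leaf 13668))) (.node (.node (.leaf 3901) (.leaf 1566)) (.leaf 10615)))))) (.node (.node (.node (.node (.node (.node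 (.leaf 4671) (.leaf 695)) (.node (.leaf 7662) (.leaf 11399))) (.node (.node (.leaf 15832) (.leaf 15157)) (.node (.leaf 9368) (.leaf 8070)))) (.node (.node (.node (.leaf 2028) (.leaf 5510)) (.node (.leaf 8536) (.leaf 10880))) (.node (.node (.leaf 1725) (.leaf 14152)) (.node (.leaf 15646) (.leaf 15739))))) (.node (.node (.node (.node (.leaf 14330) (.leaf 7675)) (.node (.leaf 13522) (.leaf 9532))) (.node (.node (.leaf 14402) (.leaf 11910)) (.node (.leaf 4899) (.leaf 2719)))) (.node (.node (.node (.leaf 10092) (.leaf 12136)) (.node (.leaf 10564) (.leaf 5156))) (.node (.node (.leaf 2775) (.leaf 12891)) (.leaf 1263))))) (.node (.node (.node (.node (.node (.leaf 285) (.leaf 70)) (.node (.leaf 11984) (.leaf 12593))) (.node (.node (.leaf 4696) (.leaf 533)) (.node (.leaf 11415) (.leaf 5252)))) (.node (.node (.node (.leaf 10939) (.leaf 9688)) (.node (.leaf 13858) (.leaf 6930))) (.node (.node (.leaf 6588) (.leaf 766)) (.node (.leaf 12215) (.leaf 6788))))) (.node (.node (.node (.node (.leaf 13592) (.leaf 3617)) (.node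 (.leaf 5388) (.leaf 5747))) (.node (.node (.leaf 5788) (.leaf 4991)) (.node (.leaf 7283) (.leaf 10591)))) (.node (.node (.node (.leaf 7458) (.leaf 13175)) (.node (.leaf 3251) (.leaf 9989))) (.node (.node (.leaf 12222) (.leaf 1253)) (.leaf 5644)))))))) (.node (.node (.node (.node (.node (.node (.node (.node (.leaf 12921) (.leaf 4801)) (.node (.leaf 3393) (.leaf 11035))) (.node (.node (.leaf 8225) (.leaf 7668)) (.node (.leaf 10758) (.leaf 13891)))) (.node (.node (.node (.leaf 1834) (.leaf 4774)) (.node (.leaf 160) (.leaf 10927))) (.node (.node (.leaf 430) (.leaf 3499)) (.node (.leaf 2182) (.leaf 6629))))) (.node (.node (.node (.node (.leaf 6714) (.leaf 7713)) (.node (.leaf 6640) (.leaf 12714))) (.node (.node (.leaf 5995) (.leaf 9149)) (.node (.leaf 2215) (.leaf 12115)))) (.node (.node (.node (.leaf 5719) (.leaf 1252)) (.node (.leaf 10262) (.leaf 13949))) (.node (.node (.leaf 6475) (.leaf 15672)) (.node (.leaf 1069) (.leaf 4341)))))) (.node (.node (.node (.node (.node (.leaf 10697) (.leaf 7550)) (.node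 (.leaf 2802) (.leaf 9563))) (.node (.node (.leaf 7862) (.leaf 10077)) (.node (.leaf 3685) (.leaf 6580)))) (.node (.node (.node (.leaf 7226) (.leaf 905)) (.node (.leaf 9832) (.leaf 7553))) (.node (.node (.leaf 13004) (.leaf 12065)) (.node (.leaf 1149) (.leaf 1160))))) (.node (.node (.node (.node (.leaf 12697) (.leaf 6402)) (.node (.leaf 8060) (.leaf 10393))) (.node (.node (.leaf 15276) (.leaf 1116)) (.node (.leaf 8188) (.leaf 9984)))) (.node (.node (.node (.leaf 6423) (.leaf 1707)) (.node (.leaf 9475) (.leaf 7671))) (.node (.node (.leaf 10688) (.leaf 14069)) (.leaf 15452)))))) (.node (.node (.node (.node (.node (.node (.leaf 9968) (.leaf 13547)) (.node (.leaf 5010) (.leaf 3061))) (.node (.node (.leaf 3216) (.leaf 201)) (.node (.leaf 2652) (.leaf 3598)))) (.node (.node (.node (.leaf 15798) (.leaf 3711)) (.node (.leaf 8270) (.leaf 8544))) (.node (.node (.leaf 6562) (.leaf 12759)) (.node (.leaf 497) (.leaf 14263))))) (.node (.node (.node (.node (.leaf 14315) (.leaf 7785)) (.node (.leaf 9944) (.leaf 15665)))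 (.node (.node (.leaf 12934) (.leaf 14884)) (.node (.leaf 10290) (.leaf 13132)))) (.node (.node (.node (.leaf 13820) (.leaf 12260)) (.node (.leaf 15279) (.leaf 6982))) (.node (.node (.leaf 3630) (.leaf 8762)) (.leaf 13947))))) (.node (.node (.node (.node (.node (.leaf 2070) (.leaf 770)) (.node (.leaf 15118) (.leaf 3559))) (.node (.node (.leaf 589) (.leaf 1624)) (.node (.leaf 6364) (.leaf 7526)))) (.node (.node (.node (.leaf 6431) (.leaf 14340)) (.node (.leaf 9188) (.leaf 13411))) (.node (.node (.leaf 7095) (.leaf 5610)) (.node (.leaf 11748) (.leaf 9147))))) (.node (.node (.node (.node (.leaf 4679) (.leaf 1928)) (.node (.leaf 14103) (.leaf 5072))) (.node (.node (.leaf 552) (.leaf 10344)) (.node (.leaf 9104) (.leaf 1177)))) (.node (.node (.node (.leaf 12578) (.leaf 13655)) (.node (.leaf 7587) (.leaf 4819))) (.node (.node (.leaf 15313) (.leaf 9296)) (.leaf 2005))))))) (.node (.node (.node (.node (.node (.node (.node (.leaf 13498) (.leaf 12619)) (.node (.leaf 6987) (.leaf 5298))) (.node (.node (.leaf 2398)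 (.leaf 8717)) (.node (.leaf 1125) (.leaf 3472)))) (.node (.node (.node (.leaf 8435) (.leaf 13518)) (.node (.leaf 10537) (.leaf 1716))) (.node (.node (.leaf 3038) (.leaf 14865)) (.node (.leaf 13814) (.leaf 1239))))) (.node (.node (.node (.node (.leaf 12124) (.leaf 2827)) (.node (.leaf 1473) (.leaf 4756))) (.node (.node (.leaf 819) (.leaf 6782)) (.node (.leaf 14247) (.leaf 9187)))) (.node (.node (.node (.leaf 2258) (.leaf 1572)) (.node (.leaf 8904) (.leaf 5019))) (.node (.node (.leaf 4275) (.leaf 11210)) (.leaf 15150))))) (.node (.node (.node (.node (.node (.leaf 12677) (.leaf 10535)) (.node (.leaf 3495) (.leaf 2300))) (.node (.node (.leaf 9142) (.leaf 8697)) (.node (.leaf 12702) (.leaf 9416)))) (.node (.node (.node (.leaf 11424) (.leaf 1632)) (.node (.leaf 8040) (.leaf 14928))) (.node (.node (.leaf 1404) (.leaf 11545)) (.node (.leaf 6623) (.leaf 14420))))) (.node (.node (.node (.node (.leaf 9740) (.leaf 14815)) (.node (.leaf 4205) (.leaf 10375))) (.node (.node (.leaf 10021) (.leaf 1444)) (.node (.leaf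 7702) (.leaf 14016)))) (.node (.node (.node (.leaf 6435) (.leaf 11513)) (.node (.leaf 587) (.leaf 10305))) (.node (.node (.leaf 15701) (.leaf 7582)) (.leaf 8020)))))) (.node (.node (.node (.node (.node (.node (.leaf 5172) (.leaf 13328)) (.node (.leaf 14307) (.leaf 9978))) (.node (.node (.leaf 4093) (.leaf 6842)) (.node (.leaf 3020) (.leaf 964)))) (.node (.node (.node (.leaf 3129) (.leaf 5415)) (.node (.leaf 11280) (.leaf 6456))) (.node (.node (.leaf 7368) (.leaf 4510)) (.node (.leaf 9140) (.leaf 10371))))) (.node (.node (.node (.node (.leaf 10205) (.leaf 6090)) (.node (.leaf 6126) (.leaf 13565))) (.node (.node (.leaf 3449) (.leaf 2627)) (.node (.leaf 7467) (.leaf 11264)))) (.node (.node (.node (.leaf 14804) (.leaf 380)) (.node (.leaf 8955) (.leaf 15072))) (.node (.node (.leaf 2980) (.leaf 3576)) (.leaf 7700))))) (.node (.node (.node (.node (.node (.leaf 895) (.leaf 14614)) (.node (.leaf 9299) (.leaf 5558))) (.node (.node (.leaf 1169) (.leaf 15416)) (.node (.leaf 7003) (.leaf 4369)))) (.node (.node (.node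 (.leaf 4035) (.leaf 6467)) (.node (.leaf 9566) (.leaf 5208))) (.node (.node (.leaf 2688) (.leaf 3684)) (.node (.leaf 8038) (.leaf 3887))))) (.node (.node (.node (.node (.leaf 5302) (.leaf 13984)) (.node (.leaf 9300) (.leaf 11654))) (.node (.node (.leaf 15066) (.leaf 3413)) (.node (.leaf 10309) (.leaf 12074)))) (.node (.node (.node (.leaf 7023) (.leaf 14666)) (.node (.leaf 9856) (.leaf 7410))) (.node (.node (.leaf 11100) (.leaf 14500)) (.leaf 2918))))))))) (.node (.node (.node (.node (.node (.node (.node (.node (.node (.leaf 145) (.leaf 15801)) (.node (.leaf 11311) (.leaf 1876))) (.node (.node (.leaf 7911) (.leaf 7613)) (.node (.leaf 3991) (.leaf 14477)))) (.node (.node (.node (.leaf 1742) (.leaf 11315)) (.node (.leaf 3090) (.leaf 15404))) (.node (.node (.leaf 3602) (.leaf 2828)) (.node (.leaf 10274) (.leaf 7977))))) (.node (.node (.node (.node (.leaf 1552) (.leaf 15177)) (.node (.leaf 5921) (.leaf 3633))) (.node (.node (.leaf 737) (.leaf 3069)) (.node (.leaf 7386) (.leaf 8300)))) (.node (.node (.node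 (.leaf 2558) (.leaf 12561)) (.node (.leaf 5818) (.leaf 4833))) (.node (.node (.leaf 3197) (.leaf 10137)) (.node (.leaf 1604) (.leaf 8729)))))) (.node (.node (.node (.node (.node (.leaf 4227) (.leaf 10012)) (.node (.leaf 10646) (.leaf 14754))) (.node (.node (.leaf 8934) (.leaf 1104)) (.node (.leaf 3367) (.leaf 2366)))) (.node (.node (.node (.leaf 14196) (.leaf 8128)) (.node (.leaf 12536) (.leaf 10325))) (.node (.node (.leaf 9274) (.leaf 5521)) (.node (.leaf 6293) (.leaf 11550))))) (.node (.node (.node (.node (.leaf 13443) (.leaf 14168)) (.node (.leaf 470) (.leaf 6229))) (.node (.node (.leaf 4654) (.leaf 9420)) (.node (.leaf 365) (.leaf 1293)))) (.node (.node (.node (.leaf 12723) (.leaf 950)) (.node (.leaf 35) (.leaf 5286))) (.node (.node (.leaf 3503) (.leaf 13106)) (.leaf 10474)))))) (.node (.node (.node (.node (.node (.node (.leaf 9265) (.leaf 7898)) (.node (.leaf 5563) (.leaf 937))) (.node (.node (.leaf 6538) (.leaf 1794)) (.node (.leaf 8990) (.leaf 4927)))) (.node (.node (.node (.leaf 2553) (.leaf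 9283)) (.node (.leaf 1576) (.leaf 5801))) (.node (.node (.leaf 5799) (.leaf 6261)) (.node (.leaf 4880) (.leaf 2907))))) (.node (.node (.node (.node (.leaf 12695) (.leaf 8834)) (.node (.leaf 7342) (.leaf 13434))) (.node (.node (.leaf 12032) (.leaf 9684)) (.node (.leaf 7136) (.leaf 13438)))) (.node (.node (.node (.leaf 7830) (.leaf 3500)) (.node (.leaf 10025) (.leaf 11673))) (.node (.node (.leaf 10585) (.leaf 830)) (.leaf 4144))))) (.node (.node (.node (.node (.node (.leaf 5717) (.leaf 4012)) (.node (.leaf 15637) (.leaf 12031))) (.node (.node (.leaf 11310) (.leaf 3660)) (.node (.leaf 14613) (.leaf 4433)))) (.node (.node (.node (.leaf 11686) (.leaf 12351)) (.node (.leaf 13681) (.leaf 15744))) (.node (.node (.leaf 3868) (.leaf 183)) (.node (.leaf 5157) (.leaf 5264))))) (.node (.node (.node (.node (.leaf 13828) (.leaf 11247)) (.node (.leaf 1488) (.leaf 5028))) (.node (.node (.leaf 3437) (.leaf 8499)) (.node (.leaf 4155) (.leaf 13760)))) (.node (.node (.node (.leaf 1839) (.leaf 7646)) (.node (.leaf 15656)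 (.leaf 10147))) (.node (.node (.leaf 11609) (.leaf 4588)) (.leaf 6017))))))) (.node (.node (.node (.node (.node (.node (.node (.leaf 14740) (.leaf 4866)) (.node (.leaf 1083) (.leaf 5914))) (.node (.node (.leaf 3193) (.leaf 11633)) (.node (.leaf 961) (.leaf 8014)))) (.node (.node (.node (.leaf 14289) (.leaf 13569)) (.node (.leaf 15885) (.leaf 1700))) (.node (.node (.leaf 10670) (.leaf 6045)) (.node (.leaf 11919) (.leaf 12594))))) (.node (.node (.node (.node (.leaf 10502) (.leaf 4370)) (.node (.leaf 5762) (.leaf 11349))) (.node (.node (.leaf 42) (.leaf 4970)) (.node (.leaf 8643) (.leaf 8130)))) (.node (.node (.node (.leaf 15779) (.leaf 10229)) (.node (.leaf 7677) (.leaf 3687))) (.node (.node (.leaf 14376) (.leaf 9659)) (.leaf 15490))))) (.node (.node (.node (.node (.node (.leaf 10201) (.leaf 15365)) (.node (.leaf 45) (.leaf 3133))) (.node (.node (.leaf 6389) (.leaf 3224)) (.node (.leaf 72) (.leaf 216)))) (.node (.node (.node (.leaf 10901) (.leaf 8077)) (.node (.leaf 8407) (.leaf 2587))) (.node (.node (.leaf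 11231) (.leaf 3236)) (.node (.leaf 3286) (.leaf 4417))))) (.node (.node (.node (.node (.leaf 11710) (.leaf 945)) (.node (.leaf 9055) (.leaf 8386))) (.node (.node (.leaf 2877) (.leaf 10759)) (.node (.leaf 5271) (.leaf 2384)))) (.node (.node (.node (.leaf 12414) (.leaf 15415)) (.node (.leaf 1256) (.leaf 6799))) (.node (.node (.leaf 11205) (.leaf 4423)) (.leaf 5469)))))) (.node (.node (.node (.node (.node (.node (.leaf 14020) (.leaf 6283)) (.node (.leaf 13855) (.leaf 12220))) (.node (.node (.leaf 4348) (.leaf 9718)) (.node (.leaf 11017) (.leaf 15906)))) (.node (.node (.node (.leaf 12519) (.leaf 4716)) (.node (.leaf 14919) (.leaf 4448))) (.node (.node (.leaf 7389) (.leaf 6114)) (.node (.leaf 9489) (.leaf 13028))))) (.node (.node (.node (.node (.leaf 13593) (.leaf 4681)) (.node (.leaf 6721) (.leaf 13067))) (.node (.node (.leaf 1471) (.leaf 2187)) (.node (.leaf 2289) (.leaf 9097)))) (.node (.node (.node (.leaf 15227) (.leaf 4583)) (.node (.leaf 8073) (.leaf 14366))) (.node (.node (.leaf 10295) (.leaf 1962))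 (.leaf 3822))))) (.node (.node (.node (.node (.node (.leaf 10848) (.leaf 1904)) (.node (.leaf 11295) (.leaf 7971))) (.node (.node (.leaf 1042) (.leaf 2519)) (.node (.leaf 8136) (.leaf 1436)))) (.node (.node (.node (.leaf 14995) (.leaf 3087)) (.node (.leaf 11063) (.leaf 9184))) (.node (.node (.leaf 5114) (.leaf 4804)) (.node (.leaf 6530) (.leaf 6747))))) (.node (.node (.node (.node (.leaf 6658) (.leaf 2743)) (.node (.leaf 14320) (.leaf 9132))) (.node (.node (.leaf 9896) (.leaf 8193)) (.node (.leaf 11960) (.leaf 1991)))) (.node (.node (.node (.leaf 10937) (.leaf 7285)) (.node (.leaf 10617) (.leaf 13999))) (.node (.node (.leaf 1611) (.leaf 6643)) (.leaf 6624)))))))) (.node (.node (.node (.node (.node (.node (.node (.node (.leaf 2531) (.leaf 3989)) (.node (.leaf 10955) (.leaf 2878))) (.node (.node (.leaf 9133) (.leaf 10649)) (.node (.leaf 2882) (.leaf 8272)))) (.node (.node (.node (.leaf 6344) (.leaf 6130)) (.node (.leaf 13062) (.leaf 9756))) (.node (.node (.leaf 9092) (.leaf 49)) (.node (.leaf 2622) (.leaf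 6332))))) (.node (.node (.node (.node (.leaf 4981) (.leaf 1367)) (.node (.leaf 3809) (.leaf 11289))) (.node (.node (.leaf 13114) (.leaf 10866)) (.node (.leaf 6115) (.leaf 15572)))) (.node (.node (.node (.leaf 6436) (.leaf 315)) (.node (.leaf 13662) (.leaf 8886))) (.node (.node (.leaf 4659) (.leaf 137)) (.node (.leaf 3701) (.leaf 13085)))))) (.node (.node (.node (.node (.node (.leaf 4555) (.leaf 6462)) (.node (.leaf 2302) (.leaf 7382))) (.node (.node (.leaf 1307) (.leaf 2965)) (.node (.leaf 11781) (.leaf 4219)))) (.node (.node (.node (.leaf 10690) (.leaf 3538)) (.node (.leaf 4232) (.leaf 8734))) (.node (.node (.leaf 5257) (.leaf 8133)) (.node (.leaf 4595) (.leaf 3988))))) (.node (.node (.node (.node (.leaf 15915) (.leaf 11955)) (.node (.leaf 5749) (.leaf 5417))) (.node (.node (.leaf 6199) (.leaf 12910)) (.node (.leaf 14575) (.leaf 2572)))) (.node (.node (.node (.leaf 7605) (.leaf 1628)) (.node (.leaf 6855) (.leaf 14969))) (.node (.node (.leaf 13805) (.leaf 15680)) (.leaf 7356)))))) (.node (.node (.node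 (.node (.node (.node (.leaf 9238) (.leaf 1577)) (.node (.leaf 3682) (.leaf 11103))) (.node (.node (.leaf 7638) (.leaf 8747)) (.node (.leaf 9210) (.leaf 5295)))) (.node (.node (.node (.leaf 6699) (.leaf 3302)) (.node (.leaf 13340) (.leaf 8956))) (.node (.node (.leaf 8139) (.leaf 1377)) (.node (.leaf 12044) (.leaf 2843))))) (.node (.node (.node (.node (.leaf 6424) (.leaf 14369)) (.node (.leaf 15136) (.leaf 5227))) (.node (.node (.leaf 15146) (.leaf 5407)) (.node (.leaf 5577) (.leaf 7311)))) (.node (.node (.node (.leaf 1740) (.leaf 13894)) (.node (.leaf 5453) (.leaf 1086))) (.node (.node (.leaf 9552) (.leaf 8610)) (.leaf 8867))))) (.node (.node (.node (.node (.node (.leaf 1937) (.leaf 151)) (.node (.leaf 13119) (.leaf 8674))) (.node (.node (.leaf 11785) (.leaf 12851)) (.node (.leaf 2561) (.leaf 10015)))) (.node (.node (.node (.leaf 8786) (.leaf 8950)) (.node (.leaf 10402) (.leaf 7277))) (.node (.node (.leaf 11212) (.leaf 6193)) (.node (.leaf 11660) (.leaf 5288))))) (.node (.node (.node (.node (.leaf 6232)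 (.leaf 6484)) (.node (.leaf 14269) (.leaf 9412))) (.node (.node (.leaf 3574) (.leaf 13567)) (.node (.leaf 4457) (.leaf 13919)))) (.node (.node (.node (.leaf 1353) (.leaf 11466)) (.node (.leaf 7704) (.leaf 15021))) (.node (.node (.leaf 13073) (.leaf 2450)) (.leaf 4058))))))) (.node (.node (.node (.node (.node (.node (.node (.leaf 9267) (.leaf 12269)) (.node (.leaf 11749) (.leaf 14440))) (.node (.node (.leaf 7092) (.leaf 4145)) (.node (.leaf 2749) (.leaf 10593)))) (.node (.node (.node (.leaf 12286) (.leaf 10379)) (.node (.leaf 8370) (.leaf 10655))) (.node (.node (.leaf 11868) (.leaf 8977)) (.node (.leaf 13630) (.leaf 8167))))) (.node (.node (.node (.node (.leaf 5178) (.leaf 377)) (.node (.leaf 4057) (.leaf 6266))) (.node (.node (.leaf 12021) (.leaf 514)) (.node (.leaf 12750) (.leaf 10641)))) (.node (.node (.node (.leaf 12281) (.leaf 13392)) (.node (.leaf 705) (.leaf 5566))) (.node (.node (.leaf 4139) (.leaf 5829)) (.leaf 15059))))) (.node (.node (.node (.node (.node (.leaf 1276) (.leaf 7216)) (.node (.leaf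 6756) (.leaf 7624))) (.node (.node (.leaf 12226) (.leaf 5152)) (.node (.leaf 1903) (.leaf 10066)))) (.node (.node (.node (.leaf 5247) (.leaf 5225)) (.node (.leaf 11419) (.leaf 9902))) (.node (.node (.leaf 11951) (.leaf 4931)) (.node (.leaf 3669) (.leaf 14635))))) (.node (.node (.node (.node (.leaf 2235) (.leaf 3782)) (.node (.leaf 10218) (.leaf 5635))) (.node (.node (.leaf 3524) (.leaf 2158)) (.node (.leaf 13196) (.leaf 13356)))) (.node (.node (.node (.leaf 11717) (.leaf 1710)) (.node (.leaf 11099) (.leaf 11964))) (.node (.node (.leaf 3579) (.leaf 5040)) (.leaf 793)))))) (.node (.node (.node (.node (.node (.node (.leaf 12337) (.leaf 1257)) (.node (.leaf 4836) (.leaf 15079))) (.node (.node (.leaf 5479) (.leaf 12887)) (.node (.leaf 13777) (.leaf 1402)))) (.node (.node (.node (.leaf 6713) (.leaf 6476)) (.node (.leaf 2125) (.leaf 8600))) (.node (.node (.leaf 4826) (.leaf 1457)) (.node (.leaf 12030) (.leaf 3096))))) (.node (.node (.node (.node (.leaf 14992) (.leaf 1397)) (.node (.leaf 13775) (.leaf 6755)))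 (.node (.node (.leaf 11502) (.leaf 6452)) (.node (.leaf 2900) (.leaf 7647)))) (.node (.node (.node (.leaf 13308) (.leaf 14979)) (.node (.leaf 3803) (.leaf 7762))) (.node (.node (.leaf 10249) (.leaf 3581)) (.leaf 13907))))) (.node (.node (.node (.node (.node (.leaf 10501) (.leaf 15351)) (.node (.leaf 4067) (.leaf 8872))) (.node (.node (.leaf 5007) (.leaf 13677)) (.node (.leaf 11437) (.leaf 3805)))) (.node (.node (.node (.leaf 14801) (.leaf 4870)) (.node (.leaf 14755) (.leaf 5791))) (.node (.node (.leaf 15013) (.leaf 6886)) (.node (.leaf 5024) (.leaf 12171))))) (.node (.node (.node (.node (.leaf 12233) (.leaf 6910)) (.node (.leaf 14825) (.leaf 6208))) (.node (.node (.leaf 2880) (.leaf 7950)) (.node (.leaf 6280) (.leaf 13644)))) (.node (.node (.node (.leaf 204) (.leaf 7394)) (.node (.leaf 10876) (.leaf 8372))) (.node (.node (.leaf 11942) (.leaf 12086)) (.leaf 1077))))))))))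

def lineOrder11 : Tree (ℕ) :=
  (.node (.node (.node (.node (.node (.node (.node (.node (.node (.node (.leaf 13496) (.leaf 3347)) (.node (.leaf 14167) (.leaf 2119))) (.node (.node (.leaf 9074) (.leaf 2885)) (.node (.leaf 15702) (.leaf 8349)))) (.node (.node (.node (.leaf 1940) (.leaf 13665)) (.node (.leaf 5678) (.leaf 14121))) (.node (.node (.leaf 4723) (.leaf 12301)) (.node (.leaf 2455) (.leaf 8501))))) (.node (.node (.node (.node (.leaf 14600) (.leaf 422)) (.node (.leaf 7043) (.leaf 2919))) (.node (.node (.leaf 6897) (.leaf 6330)) (.node (.leaf 15303) (.leaf 1283)))) (.node (.node (.node (.leaf 1159) (.leaf 1513)) (.node (.leaf 7202) (.leaf 3820))) (.node (.node (.leaf 8241) (.leaf 7294)) (.node (.leaf 11878) (.leaf 12268)))))) (.node (.node (.node (.node (.node (.leaf 10103) (.leaf 6571)) (.node (.leaf 8637) (.leaf 6784))) (.node (.node (.leaf 12711) (.leaf 15445)) (.node (.leaf 5350) (.leaf 4208)))) (.node (.node (.node (.leaf 10735) (.leaf 427)) (.node (.leaf 3200) (.leaf 2501))) (.node (.node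 (.leaf 15527) (.leaf 2865)) (.node (.leaf 5626) (.leaf 14573))))) (.node (.node (.node (.node (.leaf 12512) (.leaf 12221)) (.node (.leaf 12746) (.leaf 7943))) (.node (.node (.leaf 2440) (.leaf 12845)) (.node (.leaf 7116) (.leaf 4153)))) (.node (.node (.node (.leaf 5243) (.leaf 2120)) (.node (.leaf 1245) (.leaf 13055))) (.node (.node (.leaf 7793) (.leaf 1503)) (.leaf 10455)))))) (.node (.node (.node (.node (.node (.node (.leaf 9617) (.leaf 14562)) (.node (.leaf 6881) (.leaf 11728))) (.node (.node (.leaf 15829) (.leaf 14592)) (.node (.leaf 2364) (.leaf 328)))) (.node (.node (.node (.leaf 14715) (.leaf 13626)) (.node (.leaf 6040) (.leaf 2514))) (.node (.node (.leaf 14303) (.leaf 11285)) (.node (.leaf 14945) (.leaf 5002))))) (.node (.node (.node (.node (.leaf 4221) (.leaf 15734)) (.node (.leaf 10654) (.leaf 3241))) (.node (.node (.leaf 3713) (.leaf 11452)) (.node (.leaf 9339) (.leaf 14306)))) (.node (.node (.node (.leaf 5980) (.leaf 5056)) (.node (.leaf 5667) (.leaf 5876))) (.node (.node (.leaf 4939) (.leaf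 5027)) (.leaf 5954))))) (.node (.node (.node (.node (.node (.leaf 14191) (.leaf 15889)) (.node (.leaf 7788) (.leaf 8007))) (.node (.node (.leaf 5888) (.leaf 15363)) (.node (.leaf 221) (.leaf 14791)))) (.node (.node (.node (.leaf 5349) (.leaf 9534)) (.node (.leaf 12405) (.leaf 15197))) (.node (.node (.leaf 9053) (.leaf 15591)) (.node (.leaf 6063) (.leaf 12500))))) (.node (.node (.node (.node (.leaf 11791) (.leaf 10665)) (.node (.leaf 4212) (.leaf 9492))) (.node (.node (.leaf 3791) (.leaf 12101)) (.node (.leaf 15065) (.leaf 12161)))) (.node (.node (.node (.leaf 2074) (.leaf 5597)) (.node (.leaf 3346) (.leaf 11600))) (.node (.node (.leaf 3605) (.leaf 14975)) (.leaf 12033))))))) (.node (.node (.node (.node (.node (.node (.node (.leaf 9963) (.leaf 3046)) (.node (.leaf 4627) (.leaf 4764))) (.node (.node (.leaf 10799) (.leaf 13856)) (.node (.leaf 11662) (.leaf 1752)))) (.node (.node (.node (.leaf 10098) (.leaf 11920)) (.node (.leaf 14646) (.leaf 8503))) (.node (.node (.leaf 688) (.leaf 7411)) (.node (.leaf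 2506) (.leaf 1705))))) (.node (.node (.node (.node (.leaf 6233) (.leaf 10515)) (.node (.leaf 4441) (.leaf 10110))) (.node (.node (.leaf 10519) (.leaf 12503)) (.node (.leaf 3833) (.leaf 14594)))) (.node (.node (.node (.leaf 7305) (.leaf 7417)) (.node (.leaf 2348) (.leaf 15083))) (.node (.node (.leaf 8817) (.leaf 7540)) (.node (.leaf 9994) (.leaf 8534)))))) (.node (.node (.node (.node (.node (.leaf 4086) (.leaf 13818)) (.node (.leaf 7715) (.leaf 1261))) (.node (.node (.leaf 6781) (.leaf 13551)) (.node (.leaf 7821) (.leaf 8665)))) (.node (.node (.node (.leaf 7307) (.leaf 79)) (.node (.leaf 12596) (.leaf 5123))) (.node (.node (.leaf 1433) (.leaf 10700)) (.node (.leaf 11149) (.leaf 3683))))) (.node (.node (.node (.node (.leaf 12280) (.leaf 6205)) (.node (.leaf 11351) (.leaf 10512))) (.node (.node (.leaf 10598) (.leaf 15023)) (.node (.leaf 11027) (.leaf 86)))) (.node (.node (.node (.leaf 4982) (.leaf 9648)) (.node (.leaf 7266) (.leaf 128))) (.node (.node (.leaf 1500) (.leaf 4729)) (.leaf 14184)))))) (.node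 (.node (.node (.node (.node (.node (.leaf 9435) (.leaf 8365)) (.node (.leaf 15334) (.leaf 9465))) (.node (.node (.leaf 5052) (.leaf 15386)) (.node (.leaf 1067) (.leaf 300)))) (.node (.node (.node (.leaf 1949) (.leaf 4389)) (.node (.leaf 11521) (.leaf 646))) (.node (.node (.leaf 6614) (.leaf 6931)) (.node (.leaf 10863) (.leaf 3497))))) (.node (.node (.node (.node (.leaf 14606) (.leaf 11107)) (.node (.leaf 3168) (.leaf 10443))) (.node (.node (.leaf 1385) (.leaf 4576)) (.node (.leaf 8086) (.leaf 12420)))) (.node (.node (.node (.leaf 12053) (.leaf 11782)) (.node (.leaf 14612) (.leaf 9860))) (.node (.node (.leaf 11643) (.leaf 3438)) (.leaf 7128))))) (.node (.node (.node (.node (.node (.leaf 4082) (.leaf 6195)) (.node (.leaf 4798) (.leaf 1073))) (.node (.node (.leaf 8106) (.leaf 1653)) (.node (.leaf 11862) (.leaf 4293)))) (.node (.node (.node (.leaf 14809) (.leaf 12377)) (.node (.leaf 8137) (.leaf 14156))) (.node (.node (.leaf 4120) (.leaf 1163)) (.node (.leaf 9498) (.leaf 7209))))) (.node (.node (.node (.node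 (.leaf 9743) (.leaf 5035)) (.node (.leaf 8456) (.leaf 8512))) (.node (.node (.leaf 2385) (.leaf 742)) (.node (.leaf 2334) (.leaf 3239)))) (.node (.node (.node (.leaf 10287) (.leaf 9826)) (.node (.leaf 15542) (.leaf 11204))) (.node (.node (.leaf 1676) (.leaf 14933)) (.leaf 9664)))))))) (.node (.node (.node (.node (.node (.node (.node (.node (.leaf 14775) (.leaf 6865)) (.node (.leaf 4682) (.leaf 6471))) (.node (.node (.leaf 9715) (.leaf 15333)) (.node (.leaf 2330) (.leaf 14084)))) (.node (.node (.node (.leaf 1427) (.leaf 7731)) (.node (.leaf 6754) (.leaf 11701))) (.node (.node (.leaf 867) (.leaf 15736)) (.node (.leaf 972) (.leaf 3440))))) (.node (.node (.node (.node (.leaf 7306) (.leaf 4896)) (.node (.leaf 6453) (.leaf 7132))) (.node (.node (.leaf 10378) (.leaf 714)) (.node (.leaf 4519) (.leaf 1534)))) (.node (.node (.node (.leaf 7608) (.leaf 6005)) (.node (.leaf 9971) (.leaf 2473))) (.node (.node (.leaf 4019) (.leaf 13556)) (.node (.leaf 3211) (.leaf 12248)))))) (.node (.node (.node (.node (.node (.leaf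 8807) (.leaf 14501)) (.node (.leaf 5201) (.leaf 3944))) (.node (.node (.leaf 3882) (.leaf 14495)) (.node (.leaf 279) (.leaf 4124)))) (.node (.node (.node (.leaf 7831) (.leaf 325)) (.node (.leaf 5551) (.leaf 11005))) (.node (.node (.leaf 111) (.leaf 1728)) (.node (.leaf 5806) (.leaf 7571))))) (.node (.node (.node (.node (.leaf 5083) (.leaf 10135)) (.node (.leaf 7981) (.leaf 9548))) (.node (.node (.leaf 4524) (.leaf 1294)) (.node (.leaf 9736) (.leaf 8337)))) (.node (.node (.node (.leaf 13448) (.leaf 3201)) (.node (.leaf 11803) (.leaf 6378))) (.node (.node (.leaf 13900) (.leaf 11961)) (.leaf 13143)))))) (.node (.node (.node (.node (.node (.node (.leaf 10412) (.leaf 4340)) (.node (.leaf 11588) (.leaf 14422))) (.node (.node (.leaf 8240) (.leaf 12541)) (.node (.leaf 15875) (.leaf 5588)))) (.node (.node (.node (.leaf 7566) (.leaf 3111)) (.node (.leaf 4753) (.leaf 1476))) (.node (.node (.leaf 9086) (.leaf 3648)) (.node (.leaf 6787) (.leaf 15193))))) (.node (.node (.node (.node (.leaf 10085) (.leaf 13698)) (.node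 (.leaf 4231) (.leaf 464))) (.node (.node (.leaf 1211) (.leaf 9813)) (.node (.leaf 14864) (.leaf 15360)))) (.node (.node (.node (.leaf 4225) (.leaf 9768)) (.node (.leaf 10969) (.leaf 14586))) (.node (.node (.leaf 13536) (.leaf 14055)) (.leaf 8712))))) (.node (.node (.node (.node (.node (.leaf 6341) (.leaf 10943)) (.node (.leaf 15464) (.leaf 8049))) (.node (.node (.leaf 297) (.leaf 6626)) (.node (.leaf 11544) (.leaf 8352)))) (.node (.node (.node (.leaf 7030) (.leaf 689)) (.node (.leaf 1726) (.leaf 6753))) (.node (.node (.leaf 9111) (.leaf 12707)) (.node (.leaf 8692) (.leaf 11850))))) (.node (.node (.node (.node (.leaf 9437) (.leaf 14005)) (.node (.leaf 10374) (.leaf 4206))) (.node (.node (.leaf 8050) (.leaf 5396)) (.node (.leaf 8442) (.leaf 10028)))) (.node (.node (.node (.leaf 8464) (.leaf 8029)) (.node (.leaf 1048) (.leaf 4722))) (.node (.node (.leaf 4747) (.leaf 15723)) (.leaf 11516))))))) (.node (.node (.node (.node (.node (.node (.node (.leaf 9619) (.leaf 10434)) (.node (.leaf 2711) (.leaf 15270)))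 (.node (.node (.leaf 9705) (.leaf 11430)) (.node (.leaf 13165) (.leaf 8648)))) (.node (.node (.node (.leaf 14195) (.leaf 1486)) (.node (.leaf 8575) (.leaf 4238))) (.node (.node (.leaf 9623) (.leaf 10299)) (.node (.leaf 9512) (.leaf 8870))))) (.node (.node (.node (.node (.leaf 15378) (.leaf 6942)) (.node (.leaf 8545) (.leaf 14244))) (.node (.node (.leaf 2846) (.leaf 7206)) (.node (.leaf 9555) (.leaf 12466)))) (.node (.node (.node (.leaf 2729) (.leaf 3429)) (.node (.leaf 10701) (.leaf 12159))) (.node (.node (.leaf 4922) (.leaf 11044)) (.leaf 15384))))) (.node (.node (.node (.node (.node (.leaf 15399) (.leaf 15660)) (.node (.leaf 15731) (.leaf 6110))) (.node (.node (.leaf 4686) (.leaf 11741)) (.node (.leaf 5619) (.leaf 15129)))) (.node (.node (.node (.leaf 11537) (.leaf 10946)) (.node (.leaf 3550) (.leaf 13110))) (.node (.node (.leaf 7754) (.leaf 6365)) (.node (.leaf 1625) (.leaf 3067))))) (.node (.node (.node (.node (.leaf 15290) (.leaf 9050)) (.node (.leaf 5070) (.leaf 14106))) (.node (.node (.leaf 10315)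 (.leaf 9105)) (.node (.leaf 3317) (.leaf 11279)))) (.node (.node (.node (.leaf 7032) (.leaf 2004)) (.node (.leaf 2438) (.leaf 82))) (.node (.node (.leaf 795) (.leaf 8828)) (.leaf 13654)))))) (.node (.node (.node (.node (.node (.node (.leaf 9451) (.leaf 15471)) (.node (.leaf 2476) (.leaf 1687))) (.node (.node (.leaf 9937) (.leaf 10480)) (.node (.leaf 14003) (.leaf 1793)))) (.node (.node (.node (.leaf 12570) (.leaf 9901)) (.node (.leaf 338) (.leaf 318))) (.node (.node (.leaf 14870) (.leaf 14033)) (.node (.leaf 3978) (.leaf 13115))))) (.node (.node (.node (.node (.leaf 15959) (.leaf 7738)) (.node (.leaf 11664) (.leaf 15173))) (.node (.node (.leaf 6620) (.leaf 1284)) (.node (.leaf 15898) (.leaf 5544)))) (.node (.node (.node (.leaf 10934) (.leaf 5949)) (.node (.leaf 14872) (.leaf 9144))) (.node (.node (.leaf 15538) (.leaf 11089)) (.leaf 10978))))) (.node (.node (.node (.node (.node (.leaf 12235) (.leaf 10560)) (.node (.leaf 15720) (.leaf 9837))) (.node (.node (.leaf 760) (.leaf 11162)) (.node (.leaf 5528)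 (.leaf 14883)))) (.node (.node (.node (.leaf 5245) (.leaf 2788)) (.node (.leaf 13955) (.leaf 11635))) (.node (.node (.leaf 10076) (.leaf 9314)) (.node (.leaf 8253) (.leaf 7867))))) (.node (.node (.node (.node (.leaf 10696) (.leaf 15288)) (.node (.leaf 7658) (.leaf 10166))) (.node (.node (.leaf 8148) (.leaf 730)) (.node (.leaf 84) (.leaf 15273)))) (.node (.node (.node (.leaf 9458) (.leaf 14011)) (.node (.leaf 10472) (.leaf 102))) (.node (.node (.leaf 9060) (.leaf 9474)) (.leaf 1348))))))))) (.node (.node (.node (.node (.node (.node (.node (.node (.node (.leaf 2534) (.leaf 15657)) (.node (.leaf 1866) (.leaf 2780))) (.node (.node (.leaf 836) (.leaf 10148)) (.node (.leaf 12981) (.leaf 15858)))) (.node (.node (.node (.leaf 10839) (.leaf 1392)) (.node (.leaf 12836) (.leaf 10558))) (.node (.node (.leaf 14905) (.leaf 4116)) (.node (.leaf 6457) (.leaf 5775))))) (.node (.node (.node (.node (.leaf 6696) (.leaf 9402)) (.node (.leaf 14229) (.leaf 3048))) (.node (.node (.leaf 3419) (.leaf 14423)) (.node (.leaf 13883)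 (.leaf 4823)))) (.node (.node (.node (.leaf 4633) (.leaf 5253)) (.node (.leaf 6135) (.leaf 15308))) (.node (.node (.leaf 4788) (.leaf 6403)) (.node (.leaf 15943) (.leaf 4471)))))) (.node (.node (.node (.node (.node (.leaf 13824) (.leaf 13330)) (.node (.leaf 2867) (.leaf 6914))) (.node (.node (.leaf 2052) (.leaf 11241)) (.node (.leaf 6883) (.leaf 6924)))) (.node (.node (.node (.leaf 8436) (.leaf 15358)) (.node (.leaf 1232) (.leaf 2137))) (.node (.node (.leaf 8855) (.leaf 7006)) (.node (.leaf 13672) (.leaf 2437))))) (.node (.node (.node (.node (.leaf 2071) (.leaf 4976)) (.node (.leaf 12140) (.leaf 7844))) (.node (.node (.leaf 15901) (.leaf 5188)) (.node (.leaf 7959) (.leaf 2889)))) (.node (.node (.node (.leaf 8620) (.leaf 13842)) (.node (.leaf 10492) (.leaf 11947))) (.node (.node (.leaf 3180) (.leaf 2036)) (.leaf 5535)))))) (.node (.node (.node (.node (.node (.node (.leaf 395) (.leaf 8347)) (.node (.leaf 882) (.leaf 704))) (.node (.node (.leaf 14493) (.leaf 6408)) (.node (.leaf 12683) (.leaf 4274)))) (.node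 (.node (.node (.leaf 13445) (.leaf 15897)) (.node (.leaf 13083) (.leaf 1145))) (.node (.node (.leaf 12401) (.leaf 10227)) (.node (.leaf 4006) (.leaf 6397))))) (.node (.node (.node (.node (.leaf 5082) (.leaf 10370)) (.node (.leaf 7871) (.leaf 868))) (.node (.node (.leaf 8795) (.leaf 12371)) (.node (.leaf 2050) (.leaf 4252)))) (.node (.node (.node (.leaf 7228) (.leaf 13341)) (.node (.leaf 1636) (.leaf 11740))) (.node (.node (.leaf 10596) (.leaf 3862)) (.leaf 2301))))) (.node (.node (.node (.node (.node (.leaf 8781) (.leaf 11030)) (.node (.leaf 12830) (.leaf 4844))) (.node (.node (.leaf 7763) (.leaf 8572)) (.node (.leaf 3621) (.leaf 10559)))) (.node (.node (.node (.leaf 5179) (.leaf 6065)) (.node (.leaf 7625) (.leaf 4070))) (.node (.node (.leaf 832) (.leaf 5663)) (.node (.leaf 9868) (.leaf 11458))))) (.node (.node (.node (.node (.leaf 4229) (.leaf 4438)) (.node (.leaf 13583) (.leaf 1523))) (.node (.node (.leaf 11265) (.leaf 11251)) (.node (.leaf 7491) (.leaf 4352)))) (.node (.node (.node (.leaf 1424) (.leaf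 9423)) (.node (.leaf 9912) (.leaf 7615))) (.node (.node (.leaf 3254) (.leaf 7823)) (.leaf 9946))))))) (.node (.node (.node (.node (.node (.node (.node (.leaf 540) (.leaf 3834)) (.node (.leaf 9797) (.leaf 5456))) (.node (.node (.leaf 12004) (.leaf 11067)) (.node (.leaf 6729) (.leaf 2774)))) (.node (.node (.node (.leaf 10845) (.leaf 15004)) (.node (.leaf 820) (.leaf 3202))) (.node (.node (.leaf 5151) (.leaf 12905)) (.node (.leaf 14410) (.leaf 7803))))) (.node (.node (.node (.node (.leaf 13373) (.leaf 14328)) (.node (.leaf 14882) (.leaf 14433))) (.node (.node (.leaf 6071) (.leaf 14165)) (.node (.leaf 11529) (.leaf 7321)))) (.node (.node (.node (.leaf 15910) (.leaf 12240)) (.node (.leaf 14620) (.leaf 13454))) (.node (.node (.leaf 429) (.leaf 10252)) (.leaf 10156))))) (.node (.node (.node (.node (.node (.leaf 15956) (.leaf 13136)) (.node (.leaf 6073) (.leaf 10407))) (.node (.node (.leaf 4977) (.leaf 9158)) (.node (.leaf 6196) (.leaf 14762)))) (.node (.node (.node (.leaf 9229) (.leaf 307)) (.node (.leaf 265)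 (.leaf 4383))) (.node (.node (.leaf 12084) (.leaf 2568)) (.node (.leaf 12858) (.leaf 5941))))) (.node (.node (.node (.node (.leaf 8480) (.leaf 14518)) (.node (.leaf 14812) (.leaf 4117))) (.node (.node (.leaf 156) (.leaf 4452)) (.node (.leaf 6150) (.leaf 5781)))) (.node (.node (.node (.leaf 2233) (.leaf 8874)) (.node (.leaf 6002) (.leaf 7644))) (.node (.node (.leaf 9980) (.leaf 3258)) (.leaf 1507)))))) (.node (.node (.node (.node (.node (.node (.leaf 6234) (.leaf 11293)) (.node (.leaf 8138) (.leaf 5284))) (.node (.node (.leaf 6669) (.leaf 8228)) (.node (.leaf 14792) (.leaf 13649)))) (.node (.node (.node (.leaf 12333) (.leaf 1362)) (.node (.leaf 3400) (.leaf 4704))) (.node (.node (.leaf 13880) (.leaf 12465)) (.node (.leaf 5287) (.leaf 13862))))) (.node (.node (.node (.node (.leaf 10732) (.leaf 15078)) (.node (.leaf 11388) (.leaf 2717))) (.node (.node (.leaf 6337) (.leaf 1887)) (.node (.leaf 5991) (.leaf 3662)))) (.node (.node (.node (.leaf 13155) (.leaf 11098)) (.node (.leaf 303) (.leaf 6445))) (.node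 (.node (.leaf 698) (.leaf 2887)) (.leaf 14696))))) (.node (.node (.node (.node (.node (.leaf 14283) (.leaf 15909)) (.node (.leaf 6285) (.leaf 6013))) (.node (.node (.leaf 2939) (.leaf 6050)) (.node (.leaf 2101) (.leaf 3853)))) (.node (.node (.node (.leaf 13361) (.leaf 6276)) (.node (.leaf 7387) (.leaf 1666))) (.node (.node (.leaf 11127) (.leaf 6863)) (.node (.leaf 2685) (.leaf 3042))))) (.node (.node (.node (.node (.leaf 1095) (.leaf 6816)) (.node (.leaf 4384) (.leaf 14353))) (.node (.node (.leaf 11962) (.leaf 13022)) (.node (.leaf 9895) (.leaf 6190)))) (.node (.node (.node (.leaf 14807) (.leaf 12730)) (.node (.leaf 12383) (.leaf 8650))) (.node (.node (.leaf 6096) (.leaf 6854)) (.leaf 1621)))))))) (.node (.node (.node (.node (.node (.node (.node (.node (.leaf 148) (.leaf 13871)) (.node (.leaf 14787) (.leaf 150))) (.node (.node (.leaf 14358) (.leaf 5794)) (.node (.leaf 1967) (.leaf 10294)))) (.node (.node (.node (.leaf 4637) (.leaf 5816)) (.node (.leaf 12558) (.leaf 10330))) (.node (.node (.leaf 461)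 (.leaf 6072)) (.node (.leaf 1878) (.leaf 1478))))) (.node (.node (.node (.node (.leaf 5093) (.leaf 4713)) (.node (.leaf 1886) (.leaf 13711))) (.node (.node (.leaf 1694) (.leaf 15643)) (.node (.leaf 9085) (.leaf 7380)))) (.node (.node (.node (.leaf 7038) (.leaf 13832)) (.node (.leaf 122) (.leaf 7323))) (.node (.node (.leaf 8099) (.leaf 10575)) (.node (.leaf 12631) (.leaf 4096)))))) (.node (.node (.node (.node (.node (.leaf 20) (.leaf 8857)) (.node (.leaf 6112) (.leaf 13887))) (.node (.node (.leaf 15502) (.leaf 12634)) (.node (.leaf 12130) (.leaf 14120)))) (.node (.node (.node (.leaf 4614) (.leaf 2759)) (.node (.leaf 7978) (.leaf 13517))) (.node (.node (.leaf 14044) (.leaf 11364)) (.node (.leaf 14386) (.leaf 13873))))) (.node (.node (.node (.node (.leaf 5170) (.leaf 15167)) (.node (.leaf 8510) (.leaf 9909))) (.node (.node (.leaf 1998) (.leaf 13149)) (.node (.leaf 15740) (.leaf 12982)))) (.node (.node (.node (.leaf 13033) (.leaf 6625)) (.node (.leaf 5404) (.leaf 1618))) (.node (.node (.leaf 622) (.leaf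 8178)) (.leaf 9126)))))) (.node (.node (.node (.node (.node (.node (.leaf 13618) (.leaf 3243)) (.node (.leaf 9312) (.leaf 12502))) (.node (.node (.leaf 596) (.leaf 6545)) (.node (.leaf 9203) (.leaf 420)))) (.node (.node (.node (.leaf 650) (.leaf 3329)) (.node (.leaf 11340) (.leaf 6184))) (.node (.node (.leaf 3739) (.leaf 5376)) (.node (.leaf 6373) (.leaf 810))))) (.node (.node (.node (.node (.leaf 2076) (.leaf 6446)) (.node (.leaf 10368) (.leaf 12605))) (.node (.node (.leaf 12595) (.leaf 10881)) (.node (.leaf 14672) (.leaf 11756)))) (.node (.node (.node (.leaf 6693) (.leaf 1379)) (.node (.leaf 5915) (.leaf 10449))) (.node (.node (.leaf 7482) (.leaf 15014)) (.leaf 11062))))) (.node (.node (.node (.node (.node (.leaf 15214) (.leaf 2876)) (.node (.leaf 14921) (.leaf 11148))) (.node (.node (.leaf 12132) (.leaf 3283)) (.node (.leaf 3233) (.leaf 13331)))) (.node (.node (.node (.leaf 7600) (.leaf 14875)) (.node (.leaf 11473) (.leaf 9443))) (.node (.node (.leaf 11043) (.leaf 77)) (.node (.leaf 6127) (.leaf 6380)))))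 (.node (.node (.node (.node (.leaf 14024) (.leaf 12523)) (.node (.leaf 15199) (.leaf 15128))) (.node (.node (.leaf 11083) (.leaf 15178)) (.node (.leaf 6976) (.leaf 11138)))) (.node (.node (.node (.leaf 11794) (.leaf 12983)) (.node (.leaf 3315) (.leaf 6607))) (.node (.node (.leaf 13635) (.leaf 11374)) (.leaf 14655))))))) (.node (.node (.node (.node (.node (.node (.node (.leaf 397) (.leaf 333)) (.node (.leaf 11676) (.leaf 10024))) (.node (.node (.leaf 9110) (.leaf 9186)) (.node (.leaf 6810) (.leaf 10584)))) (.node (.node (.node (.leaf 13508) (.leaf 8835)) (.node (.leaf 2497) (.leaf 7339))) (.node (.node (.leaf 11416) (.leaf 7077)) (.node (.leaf 13077) (.leaf 6901))))) (.node (.node (.node (.node (.leaf 15919) (.leaf 12029)) (.node (.leaf 14658) (.leaf 8397))) (.node (.node (.leaf 741) (.leaf 4889)) (.node (.leaf 3422) (.leaf 3825)))) (.node (.node (.node (.leaf 13500) (.leaf 12179)) (.node (.leaf 932) (.leaf 1044))) (.node (.node (.leaf 10544) (.leaf 10001)) (.leaf 7904))))) (.node (.node (.node (.node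 (.node (.leaf 2236) (.leaf 9628)) (.node (.leaf 13418) (.leaf 4105))) (.node (.node (.leaf 14946) (.leaf 3890)) (.node (.leaf 3931) (.leaf 12647)))) (.node (.node (.node (.leaf 4037) (.leaf 12609)) (.node (.leaf 11864) (.leaf 5418))) (.node (.node (.leaf 15169) (.leaf 664)) (.node (.leaf 9090) (.leaf 7766))))) (.node (.node (.node (.node (.leaf 9220) (.leaf 13965)) (.node (.leaf 14738) (.leaf 9070))) (.node (.node (.leaf 4761) (.leaf 13355)) (.node (.leaf 11273) (.leaf 7352)))) (.node (.node (.node (.leaf 5241) (.leaf 9943)) (.node (.leaf 7574) (.leaf 9897))) (.node (.node (.leaf 11087) (.leaf 10628)) (.leaf 15704)))))) (.node (.node (.node (.node (.node (.node (.leaf 12518) (.leaf 4574)) (.node (.leaf 2044) (.leaf 9141))) (.node (.node (.leaf 8640) (.leaf 14391)) (.node (.leaf 5737) (.leaf 7752)))) (.node (.node (.node (.leaf 7309) (.leaf 8909)) (.node (.leaf 9755) (.leaf 9590))) (.node (.node (.leaf 8309) (.leaf 7383)) (.node (.leaf 4847) (.leaf 12834))))) (.node (.node (.node (.node (.leaf 13360)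 (.leaf 14632)) (.node (.leaf 5735) (.leaf 6966))) (.node (.node (.leaf 7972) (.leaf 10275)) (.node (.leaf 15116) (.leaf 6794)))) (.node (.node (.node (.leaf 10745) (.leaf 14848)) (.node (.leaf 2624) (.leaf 1863))) (.node (.node (.leaf 5069) (.leaf 7696)) (.leaf 12893))))) (.node (.node (.node (.node (.node (.leaf 4662) (.leaf 8121)) (.node (.leaf 1514) (.leaf 15417))) (.node (.node (.leaf 4280) (.leaf 6296)) (.node (.leaf 12407) (.leaf 3335)))) (.node (.node (.node (.leaf 10931) (.leaf 2706)) (.node (.leaf 8418) (.leaf 2669))) (.node (.node (.leaf 10798) (.leaf 3362)) (.node (.leaf 1520) (.leaf 13394))))) (.node (.node (.node (.node (.leaf 893) (.leaf 5964)) (.node (.leaf 3498) (.leaf 11016))) (.node (.node (.leaf 9985) (.leaf 6310)) (.node (.leaf 11290) (.leaf 13230)))) (.node (.node (.node (.leaf 6144) (.leaf 9898)) (.node (.leaf 11897) (.leaf 2491))) (.node (.node (.leaf 5886) (.leaf 9812)) (.leaf 13847))))))))))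

def lineOrder12 : Tree (ℕ) :=
  (.node (.node (.node (.node (.node (.node (.node (.node (.node (.node (.leaf 13611) (.leaf 2935)) (.node (.leaf 4974) (.leaf 2701))) (.node (.node (.leaf 8568) (.leaf 1964)) (.node (.leaf 6609) (.leaf 13223)))) (.node (.node (.node (.leaf 2021) (.leaf 125)) (.node (.leaf 7424) (.leaf 571))) (.node (.node (.leaf 1110) (.leaf 364)) (.node (.leaf 6575) (.leaf 9643))))) (.node (.node (.node (.node (.leaf 15787) (.leaf 11548)) (.node (.leaf 4571) (.leaf 7997))) (.node (.node (.leaf 10784) (.leaf 5496)) (.node (.leaf 2898) (.leaf 6022)))) (.node (.node (.node (.leaf 654) (.leaf 13261)) (.node (.leaf 7730) (.leaf 14695))) (.node (.node (.leaf 1008) (.leaf 206)) (.node (.leaf 12747) (.leaf 9763)))))) (.node (.node (.node (.node (.node (.leaf 15226) (.leaf 6026)) (.node (.leaf 6619) (.leaf 7207))) (.node (.node (.leaf 3965) (.leaf 573)) (.node (.leaf 12151) (.leaf 5076)))) (.node (.node (.node (.leaf 11539) (.leaf 5293)) (.node (.leaf 9375) (.leaf 12099))) (.node (.node (.leaf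 6645) (.leaf 10647)) (.node (.leaf 14171) (.leaf 8454))))) (.node (.node (.node (.node (.leaf 1466) (.leaf 5267)) (.node (.leaf 15948) (.leaf 5993))) (.node (.node (.leaf 12168) (.leaf 4394)) (.node (.leaf 8833) (.leaf 12105)))) (.node (.node (.node (.leaf 10206) (.leaf 4840)) (.node (.leaf 9593) (.leaf 916))) (.node (.node (.leaf 13089) (.leaf 3907)) (.leaf 4459)))))) (.node (.node (.node (.node (.node (.node (.leaf 141) (.leaf 3408)) (.node (.leaf 250) (.leaf 1907))) (.node (.node (.leaf 10002) (.leaf 12061)) (.node (.leaf 4163) (.leaf 4766)))) (.node (.node (.node (.leaf 7184) (.leaf 10850)) (.node (.leaf 4344) (.leaf 457))) (.node (.node (.leaf 13945) (.leaf 3968)) (.node (.leaf 1326) (.leaf 2996))))) (.node (.node (.node (.node (.leaf 3911) (.leaf 3493)) (.node (.leaf 11303) (.leaf 193))) (.node (.node (.leaf 4328) (.leaf 5268)) (.node (.leaf 12617) (.leaf 8715)))) (.node (.node (.node (.leaf 4676) (.leaf 7488)) (.node (.leaf 7433) (.leaf 14782))) (.node (.node (.leaf 2149) (.leaf 6549)) (.leaf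 9567))))) (.node (.node (.node (.node (.node (.leaf 7221) (.leaf 11627)) (.node (.leaf 734) (.leaf 9922))) (.node (.node (.leaf 11921) (.leaf 825)) (.node (.leaf 444) (.leaf 11814)))) (.node (.node (.node (.leaf 10289) (.leaf 1080)) (.node (.leaf 13470) (.leaf 3512))) (.node (.node (.leaf 4161) (.leaf 3534)) (.node (.leaf 15038) (.leaf 4498))))) (.node (.node (.node (.node (.leaf 9011) (.leaf 2523)) (.node (.leaf 14897) (.leaf 3024))) (.node (.node (.leaf 3311) (.leaf 8339)) (.node (.leaf 8142) (.leaf 8528)))) (.node (.node (.node (.leaf 6421) (.leaf 3433)) (.node (.leaf 11786) (.leaf 8443))) (.node (.node (.leaf 14900) (.leaf 2406)) (.leaf 4849))))))) (.node (.node (.node (.node (.node (.node (.node (.leaf 392) (.leaf 13530)) (.node (.leaf 3894) (.leaf 3623))) (.node (.node (.leaf 8616) (.leaf 8134)) (.node (.leaf 6121) (.leaf 8897)))) (.node (.node (.node (.leaf 12050) (.leaf 11761)) (.node (.leaf 10724) (.leaf 9668))) (.node (.node (.leaf 8698) (.leaf 3459)) (.node (.leaf 3148) (.leaf 15131))))) (.node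 (.node (.node (.node (.leaf 12054) (.leaf 14204)) (.node (.leaf 6853) (.leaf 13543))) (.node (.node (.leaf 15258) (.leaf 14625)) (.node (.leaf 9170) (.leaf 15309)))) (.node (.node (.node (.leaf 6659) (.leaf 6746)) (.node (.leaf 11390) (.leaf 14973))) (.node (.node (.leaf 13793) (.leaf 11702)) (.node (.leaf 8611) (.leaf 690)))))) (.node (.node (.node (.node (.node (.leaf 412) (.leaf 3758)) (.node (.leaf 10789) (.leaf 5145))) (.node (.node (.leaf 7200) (.leaf 14739)) (.node (.leaf 11032) (.leaf 11700)))) (.node (.node (.node (.leaf 3373) (.leaf 7437)) (.node (.leaf 2794) (.leaf 15253))) (.node (.node (.leaf 7041) (.leaf 1846)) (.node (.leaf 10659) (.leaf 9313))))) (.node (.node (.node (.node (.leaf 13700) (.leaf 14799)) (.node (.leaf 12481) (.leaf 14207))) (.node (.node (.leaf 9034) (.leaf 8056)) (.node (.leaf 14324) (.leaf 7390)))) (.node (.node (.node (.leaf 6235) (.leaf 13528)) (.node (.leaf 15479) (.leaf 5269))) (.node (.node (.leaf 15515) (.leaf 3293)) (.leaf 13181)))))) (.node (.node (.node (.node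 (.node (.node (.leaf 14190) (.leaf 12585)) (.node (.leaf 7901) (.leaf 2341))) (.node (.node (.leaf 14863) (.leaf 12480)) (.node (.leaf 1006) (.leaf 9191)))) (.node (.node (.node (.leaf 9697) (.leaf 2588)) (.node (.leaf 4474) (.leaf 10010))) (.node (.node (.leaf 2543) (.leaf 7906)) (.node (.leaf 1391) (.leaf 13213))))) (.node (.node (.node (.node (.leaf 15780) (.leaf 4499)) (.node (.leaf 2441) (.leaf 849))) (.node (.node (.leaf 11517) (.leaf 3854)) (.node (.leaf 15754) (.leaf 14588)))) (.node (.node (.node (.leaf 14718) (.leaf 4698)) (.node (.leaf 8525) (.leaf 10723))) (.node (.node (.leaf 3960) (.leaf 3109)) (.leaf 8004))))) (.node (.node (.node (.node (.node (.leaf 415) (.leaf 405)) (.node (.leaf 15434) (.leaf 954))) (.node (.node (.leaf 566) (.leaf 11998)) (.node (.leaf 12118) (.leaf 2500)))) (.node (.node (.node (.leaf 899) (.leaf 8964)) (.node (.leaf 8885) (.leaf 1539))) (.node (.node (.leaf 8768) (.leaf 7577)) (.node (.leaf 5034) (.leaf 11052))))) (.node (.node (.node (.node (.leaf 15293) (.leaf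 5821)) (.node (.leaf 6943) (.leaf 2362))) (.node (.node (.leaf 15540) (.leaf 14264)) (.node (.leaf 11596) (.leaf 2564)))) (.node (.node (.node (.leaf 13375) (.leaf 3993)) (.node (.leaf 4426) (.leaf 93))) (.node (.node (.leaf 14942) (.leaf 1439)) (.leaf 8405)))))))) (.node (.node (.node (.node (.node (.node (.node (.node (.leaf 394) (.leaf 4023)) (.node (.leaf 3979) (.leaf 7103))) (.node (.node (.leaf 9653) (.leaf 11869)) (.node (.leaf 14010) (.leaf 14439)))) (.node (.node (.node (.leaf 24) (.leaf 1615)) (.node (.leaf 861) (.leaf 8660))) (.node (.node (.leaf 4257) (.leaf 13629)) (.node (.leaf 3338) (.leaf 1623))))) (.node (.node (.node (.node (.leaf 3126) (.leaf 8085)) (.node (.leaf 10277) (.leaf 7689))) (.node (.node (.leaf 14104) (.leaf 1545)) (.node (.leaf 14036) (.leaf 15058)))) (.node (.node (.node (.leaf 2946) (.leaf 10323)) (.node (.leaf 1682) (.leaf 14302))) (.node (.node (.leaf 13911) (.leaf 9139)) (.node (.leaf 8244) (.leaf 15939)))))) (.node (.node (.node (.node (.node (.leaf 10176) (.leaf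 11006)) (.node (.leaf 11634) (.leaf 480))) (.node (.node (.leaf 13228) (.leaf 2683)) (.node (.leaf 1040) (.leaf 807)))) (.node (.node (.node (.leaf 9326) (.leaf 8520)) (.node (.leaf 2007) (.leaf 12776))) (.node (.node (.leaf 5766) (.leaf 7195)) (.node (.leaf 2914) (.leaf 4582))))) (.node (.node (.node (.node (.leaf 7039) (.leaf 11386)) (.node (.leaf 2360) (.leaf 13210))) (.node (.node (.leaf 12075) (.leaf 639)) (.node (.leaf 5670) (.leaf 11467)))) (.node (.node (.node (.leaf 4639) (.leaf 7995)) (.node (.leaf 5922) (.leaf 12501))) (.node (.node (.leaf 5540) (.leaf 9890)) (.leaf 12916)))))) (.node (.node (.node (.node (.node (.node (.leaf 2535) (.leaf 6665)) (.node (.leaf 9911) (.leaf 13982))) (.node (.node (.leaf 8209) (.leaf 809)) (.node (.leaf 14515) (.leaf 401)))) (.node (.node (.node (.leaf 8583) (.leaf 12180)) (.node (.leaf 1224) (.leaf 7522))) (.node (.node (.leaf 611) (.leaf 1227)) (.node (.leaf 7203) (.leaf 3516))))) (.node (.node (.node (.node (.leaf 4556) (.leaf 3415)) (.node (.leaf 1713) (.leaf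 9091))) (.node (.node (.leaf 7335) (.leaf 5764)) (.node (.leaf 696) (.leaf 9530)))) (.node (.node (.node (.leaf 1357) (.leaf 8937)) (.node (.leaf 5291) (.leaf 13135))) (.node (.node (.leaf 7246) (.leaf 9003)) (.leaf 11439))))) (.node (.node (.node (.node (.node (.leaf 4550) (.leaf 5616)) (.node (.leaf 6395) (.leaf 5647))) (.node (.node (.leaf 2432) (.leaf 1588)) (.node (.leaf 10965) (.leaf 6258)))) (.node (.node (.node (.leaf 26) (.leaf 3842)) (.node (.leaf 12060) (.leaf 2208))) (.node (.node (.leaf 14399) (.leaf 13916)) (.node (.leaf 11672) (.leaf 10356))))) (.node (.node (.node (.node (.leaf 5092) (.leaf 5507)) (.node (.leaf 8832) (.leaf 138))) (.node (.node (.leaf 6606) (.leaf 6835)) (.node (.leaf 2151) (.leaf 1849)))) (.node (.node (.node (.leaf 4613) (.leaf 3292)) (.node (.leaf 1785) (.leaf 1560))) (.node (.node (.leaf 2836) (.leaf 11291)) (.leaf 5556))))))) (.node (.node (.node (.node (.node (.node (.node (.leaf 549) (.leaf 1758)) (.node (.leaf 11226) (.leaf 14728))) (.node (.node (.leaf 13166)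 (.leaf 13942)) (.node (.leaf 9057) (.leaf 4010)))) (.node (.node (.node (.leaf 14025) (.leaf 11905)) (.node (.leaf 10180) (.leaf 9945))) (.node (.node (.leaf 7217) (.leaf 2606)) (.node (.leaf 117) (.leaf 12534))))) (.node (.node (.node (.node (.leaf 15211) (.leaf 14219)) (.node (.leaf 6334) (.leaf 5051))) (.node (.node (.leaf 4409) (.leaf 1012)) (.node (.leaf 7485) (.leaf 4149)))) (.node (.node (.node (.leaf 9327) (.leaf 12756)) (.node (.leaf 7106) (.leaf 7829))) (.node (.node (.leaf 10023) (.leaf 15387)) (.leaf 11049))))) (.node (.node (.node (.node (.node (.leaf 7037) (.leaf 469)) (.node (.leaf 14213) (.leaf 614))) (.node (.node (.leaf 6131) (.leaf 5226)) (.node (.leaf 1631) (.leaf 15670)))) (.node (.node (.node (.leaf 13591) (.leaf 779)) (.node (.leaf 5905) (.leaf 7930))) (.node (.node (.leaf 11385) (.leaf 906)) (.node (.leaf 9151) (.leaf 5759))))) (.node (.node (.node (.node (.leaf 13384) (.leaf 8688)) (.node (.leaf 2521) (.leaf 5444))) (.node (.node (.leaf 1172) (.leaf 13656)) (.node (.leaf 10974)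 (.leaf 13190)))) (.node (.node (.node (.leaf 9329) (.leaf 9871)) (.node (.leaf 271) (.leaf 11891))) (.node (.node (.leaf 13109) (.leaf 2932)) (.leaf 9108)))))) (.node (.node (.node (.node (.node (.node (.leaf 8624) (.leaf 5214)) (.node (.leaf 13940) (.leaf 9521))) (.node (.node (.leaf 1982) (.leaf 136)) (.node (.leaf 12008) (.leaf 11387)))) (.node (.node (.node (.leaf 8803) (.leaf 604)) (.node (.leaf 12265) (.leaf 10761))) (.node (.node (.leaf 5483) (.leaf 2356)) (.node (.leaf 2223) (.leaf 12305))))) (.node (.node (.node (.node (.leaf 9571) (.leaf 4775)) (.node (.leaf 12870) (.leaf 9406))) (.node (.node (.leaf 13466) (.leaf 9271)) (.node (.leaf 14827) (.leaf 10680)))) (.node (.node (.node (.leaf 2594) (.leaf 4416)) (.node (.leaf 6288) (.leaf 1542))) (.node (.node (.leaf 3407) (.leaf 12445)) (.leaf 6105))))) (.node (.node (.node (.node (.node (.leaf 12334) (.leaf 3522)) (.node (.leaf 8354) (.leaf 9605))) (.node (.node (.leaf 10233) (.leaf 15240)) (.node (.leaf 14836) (.leaf 12566)))) (.node (.node (.node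 (.leaf 281) (.leaf 7964)) (.node (.leaf 14365) (.leaf 2807))) (.node (.node (.leaf 6536) (.leaf 4694)) (.node (.leaf 9213) (.leaf 7896))))) (.node (.node (.node (.node (.leaf 8467) (.leaf 5280)) (.node (.leaf 731) (.leaf 10062))) (.node (.node (.leaf 3900) (.leaf 13695)) (.node (.leaf 2649) (.leaf 12199)))) (.node (.node (.node (.leaf 5177) (.leaf 11275)) (.node (.leaf 15453) (.leaf 7720))) (.node (.node (.leaf 12814) (.leaf 11973)) (.leaf 9379))))))))) (.node (.node (.node (.node (.node (.node (.node (.node (.node (.leaf 10417) (.leaf 11585)) (.node (.leaf 7767) (.leaf 6466))) (.node (.node (.leaf 3869) (.leaf 4158)) (.node (.leaf 2571) (.leaf 3423)))) (.node (.node (.node (.leaf 6690) (.leaf 14637)) (.node (.leaf 14118) (.leaf 1608))) (.node (.node (.leaf 7694) (.leaf 14212)) (.node (.leaf 7014) (.leaf 11507))))) (.node (.node (.node (.node (.leaf 3914) (.leaf 13582)) (.node (.leaf 11809) (.leaf 109))) (.node (.node (.leaf 15742) (.leaf 1300)) (.node (.leaf 4247) (.leaf 8421)))) (.node (.node (.node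 (.leaf 15267) (.leaf 4298)) (.node (.leaf 1540) (.leaf 14599))) (.node (.node (.leaf 12009) (.leaf 6482)) (.node (.leaf 4265) (.leaf 3476)))))) (.node (.node (.node (.node (.node (.leaf 1099) (.leaf 649)) (.node (.leaf 12403) (.leaf 7660))) (.node (.node (.leaf 5571) (.leaf 1606)) (.node (.leaf 10234) (.leaf 8066)))) (.node (.node (.node (.leaf 5981) (.leaf 5457)) (.node (.leaf 11165) (.leaf 14939))) (.node (.node (.leaf 2786) (.leaf 8711)) (.node (.leaf 4054) (.leaf 292))))) (.node (.node (.node (.node (.leaf 6422) (.leaf 9486)) (.node (.leaf 4787) (.leaf 9288))) (.node (.node (.leaf 8094) (.leaf 6103)) (.node (.leaf 1361) (.leaf 1960)))) (.node (.node (.node (.leaf 13486) (.leaf 3284)) (.node (.leaf 12560) (.leaf 6381))) (.node (.node (.leaf 14137) (.leaf 7493)) (.leaf 2261)))))) (.node (.node (.node (.node (.node (.node (.leaf 14774) (.leaf 9843)) (.node (.leaf 11780) (.leaf 235))) (.node (.node (.leaf 15624) (.leaf 10136)) (.node (.leaf 1916) (.leaf 8555)))) (.node (.node (.node (.leaf 6429) (.leaf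 7460)) (.node (.leaf 4090) (.leaf 11166))) (.node (.node (.leaf 12864) (.leaf 14982)) (.node (.leaf 15109) (.leaf 15462))))) (.node (.node (.node (.node (.leaf 7031) (.leaf 14102)) (.node (.leaf 1580) (.leaf 3898))) (.node (.node (.leaf 2160) (.leaf 8963)) (.node (.leaf 8938) (.leaf 862)))) (.node (.node (.node (.leaf 6652) (.leaf 3182)) (.node (.leaf 14449) (.leaf 3849))) (.node (.node (.leaf 7636) (.leaf 4262)) (.leaf 6111))))) (.node (.node (.node (.node (.node (.leaf 10083) (.leaf 10706)) (.node (.leaf 3097) (.leaf 13423))) (.node (.node (.leaf 1395) (.leaf 2122)) (.node (.leaf 2148) (.leaf 15407)))) (.node (.node (.node (.leaf 15914) (.leaf 3260)) (.node (.leaf 4104) (.leaf 14577))) (.node (.node (.leaf 1918) (.leaf 4279)) (.node (.leaf 7312) (.leaf 998))))) (.node (.node (.node (.node (.leaf 1096) (.leaf 10555)) (.node (.leaf 11902) (.leaf 1598))) (.node (.node (.leaf 9340) (.leaf 9829)) (.node (.leaf 10145) (.leaf 4923)))) (.node (.node (.node (.leaf 15489) (.leaf 5182)) (.node (.leaf 5016) (.leaf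 7499))) (.node (.node (.leaf 1773) (.leaf 1899)) (.leaf 1719))))))) (.node (.node (.node (.node (.node (.node (.node (.leaf 9610) (.leaf 9173)) (.node (.leaf 8573) (.leaf 8120))) (.node (.node (.leaf 4789) (.leaf 8862)) (.node (.leaf 4194) (.leaf 4750)))) (.node (.node (.node (.leaf 11495) (.leaf 15751)) (.node (.leaf 11483) (.leaf 9376))) (.node (.node (.leaf 9864) (.leaf 12177)) (.node (.leaf 4917) (.leaf 15143))))) (.node (.node (.node (.node (.leaf 15229) (.leaf 8219)) (.node (.leaf 10339) (.leaf 13892))) (.node (.node (.leaf 4958) (.leaf 8940)) (.node (.leaf 3474) (.leaf 1267)))) (.node (.node (.node (.leaf 5171) (.leaf 15935)) (.node (.leaf 14707) (.leaf 275))) (.node (.node (.leaf 5294) (.leaf 8223)) (.leaf 348))))) (.node (.node (.node (.node (.node (.leaf 8482) (.leaf 7310)) (.node (.leaf 10390) (.leaf 11476))) (.node (.node (.leaf 14163) (.leaf 9795)) (.node (.leaf 406) (.leaf 6546)))) (.node (.node (.node (.leaf 2234) (.leaf 13790)) (.node (.leaf 537) (.leaf 12186))) (.node (.node (.leaf 310)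 (.leaf 4964)) (.node (.leaf 14400) (.leaf 388))))) (.node (.node (.node (.node (.leaf 13252) (.leaf 5709)) (.node (.leaf 13169) (.leaf 12024))) (.node (.node (.leaf 8813) (.leaf 10453)) (.node (.leaf 3952) (.leaf 5427)))) (.node (.node (.node (.leaf 1273) (.leaf 12532)) (.node (.leaf 2319) (.leaf 12795))) (.node (.node (.leaf 9160) (.leaf 2431)) (.leaf 3904)))))) (.node (.node (.node (.node (.node (.node (.leaf 1933) (.leaf 7360)) (.node (.leaf 5146) (.leaf 9488))) (.node (.node (.leaf 10228) (.leaf 1596)) (.node (.leaf 6203) (.leaf 13231)))) (.node (.node (.node (.leaf 2596) (.leaf 7953)) (.node (.leaf 14563) (.leaf 11323))) (.node (.node (.leaf 15577) (.leaf 4146)) (.node (.leaf 5848) (.leaf 2583))))) (.node (.node (.node (.node (.leaf 8758) (.leaf 9143)) (.node (.leaf 966) (.leaf 9882))) (.node (.node (.leaf 5629) (.leaf 7594)) (.node (.leaf 8928) (.leaf 5229)))) (.node (.node (.node (.leaf 10284) (.leaf 7579)) (.node (.leaf 9197) (.leaf 15287))) (.node (.node (.leaf 13200) (.leaf 10452)) (.leaf 11836)))))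 (.node (.node (.node (.node (.node (.leaf 10744) (.leaf 8092)) (.node (.leaf 11569) (.leaf 4237))) (.node (.node (.leaf 886) (.leaf 13125)) (.node (.leaf 5142) (.leaf 877)))) (.node (.node (.node (.leaf 6236) (.leaf 3807)) (.node (.leaf 13882) (.leaf 12462))) (.node (.node (.leaf 12276) (.leaf 5044)) (.node (.leaf 14498) (.leaf 2414))))) (.node (.node (.node (.node (.leaf 14521) (.leaf 8511)) (.node (.leaf 2589) (.leaf 10214))) (.node (.node (.leaf 14458) (.leaf 13860)) (.node (.leaf 5536) (.leaf 4903)))) (.node (.node (.node (.leaf 897) (.leaf 11594)) (.node (.leaf 1299) (.leaf 5866))) (.node (.node (.leaf 14960) (.leaf 4914)) (.leaf 14297)))))))) (.node (.node (.node (.node (.node (.node (.node (.node (.leaf 9612) (.leaf 257)) (.node (.leaf 827) (.leaf 13794))) (.node (.node (.leaf 4193) (.leaf 12867)) (.node (.leaf 15587) (.leaf 14862)))) (.node (.node (.node (.leaf 7230) (.leaf 14621)) (.node (.leaf 12427) (.leaf 14404))) (.node (.node (.leaf 10539) (.leaf 7470)) (.node (.leaf 11322) (.leaf 5499)))))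 (.node (.node (.node (.node (.leaf 14192) (.leaf 14113)) (.node (.leaf 9388) (.leaf 15532))) (.node (.node (.leaf 15342) (.leaf 5756)) (.node (.leaf 6560) (.leaf 13889)))) (.node (.node (.node (.leaf 12574) (.leaf 3456)) (.node (.leaf 995) (.leaf 11367))) (.node (.node (.leaf 2756) (.leaf 10667)) (.node (.leaf 11117) (.leaf 15859)))))) (.node (.node (.node (.node (.node (.leaf 1469) (.leaf 9272)) (.node (.leaf 6565) (.leaf 11066))) (.node (.node (.leaf 13989) (.leaf 8661)) (.node (.leaf 14972) (.leaf 6490)))) (.node (.node (.node (.leaf 8468) (.leaf 12195)) (.node (.leaf 12202) (.leaf 4288))) (.node (.node (.leaf 15476) (.leaf 8266)) (.node (.leaf 5643) (.leaf 3368))))) (.node (.node (.node (.node (.leaf 11683) (.leaf 10153)) (.node (.leaf 6818) (.leaf 15468))) (.node (.node (.leaf 78) (.leaf 14065)) (.node (.leaf 1698) (.leaf 11255)))) (.node (.node (.node (.leaf 15268) (.leaf 1582)) (.node (.leaf 13334) (.leaf 6093))) (.node (.node (.leaf 6526) (.leaf 6829)) (.leaf 15513)))))) (.node (.node (.node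 (.node (.node (.node (.leaf 13493) (.leaf 14471)) (.node (.leaf 5195) (.leaf 12818))) (.node (.node (.leaf 13722) (.leaf 1527)) (.node (.leaf 3781) (.leaf 14373)))) (.node (.node (.node (.leaf 1151) (.leaf 5689)) (.node (.leaf 12013) (.leaf 10821))) (.node (.node (.leaf 3076) (.leaf 4477)) (.node (.leaf 7676) (.leaf 6965))))) (.node (.node (.node (.node (.leaf 4318) (.leaf 14425)) (.node (.leaf 7991) (.leaf 13138))) (.node (.node (.leaf 10037) (.leaf 642)) (.node (.leaf 10608) (.leaf 15567)))) (.node (.node (.node (.leaf 1557) (.leaf 2425)) (.node (.leaf 3009) (.leaf 842))) (.node (.node (.leaf 15835) (.leaf 14092)) (.leaf 5204))))) (.node (.node (.node (.node (.node (.leaf 12126) (.leaf 9195)) (.node (.leaf 3058) (.leaf 14293))) (.node (.node (.leaf 15655) (.leaf 1078)) (.node (.leaf 9038) (.leaf 10276)))) (.node (.node (.node (.leaf 5715) (.leaf 6186)) (.node (.leaf 15424) (.leaf 12803))) (.node (.node (.leaf 8220) (.leaf 5359)) (.node (.leaf 7299) (.leaf 4171))))) (.node (.node (.node (.node (.leaf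 15395) (.leaf 6494)) (.node (.leaf 3510) (.leaf 15877))) (.node (.node (.leaf 12448) (.leaf 15003)) (.node (.leaf 1445) (.leaf 15353)))) (.node (.node (.node (.leaf 9014) (.leaf 2573)) (.node (.leaf 5593) (.leaf 8058))) (.node (.node (.leaf 15505) (.leaf 5258)) (.leaf 2164))))))) (.node (.node (.node (.node (.node (.node (.node (.leaf 9966) (.leaf 8013)) (.node (.leaf 15086) (.leaf 11572))) (.node (.node (.leaf 13771) (.leaf 6566)) (.node (.leaf 5971) (.leaf 3238)))) (.node (.node (.node (.leaf 13706) (.leaf 7114)) (.node (.leaf 7413) (.leaf 12599))) (.node (.node (.leaf 14839) (.leaf 12712)) (.node (.leaf 15285) (.leaf 15174))))) (.node (.node (.node (.node (.leaf 7741) (.leaf 749)) (.node (.leaf 12530) (.leaf 10246))) (.node (.node (.leaf 4994) (.leaf 4003)) (.node (.leaf 9939) (.leaf 14692)))) (.node (.node (.node (.leaf 13701) (.leaf 5570)) (.node (.leaf 3539) (.leaf 14074))) (.node (.node (.leaf 1826) (.leaf 5973)) (.leaf 1727))))) (.node (.node (.node (.node (.node (.leaf 12415) (.leaf 3030)) (.node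 (.leaf 6314) (.leaf 13688))) (.node (.node (.leaf 1329) (.leaf 2716)) (.node (.leaf 4948) (.leaf 11352)))) (.node (.node (.node (.leaf 10202) (.leaf 12424)) (.node (.leaf 15055) (.leaf 9302))) (.node (.node (.leaf 2967) (.leaf 3694)) (.node (.leaf 467) (.leaf 11319))))) (.node (.node (.node (.node (.leaf 657) (.leaf 10579)) (.node (.leaf 15208) (.leaf 7296))) (.node (.node (.leaf 10568) (.leaf 8170)) (.node (.leaf 3578) (.leaf 6414)))) (.node (.node (.node (.leaf 13251) (.leaf 6295)) (.node (.leaf 1167) (.leaf 11591))) (.node (.node (.leaf 12446) (.leaf 5191)) (.leaf 2377)))))) (.node (.node (.node (.node (.node (.node (.leaf 12282) (.leaf 11916)) (.node (.leaf 6359) (.leaf 3394))) (.node (.node (.leaf 13545) (.leaf 8259)) (.node (.leaf 14052) (.leaf 13579)))) (.node (.node (.node (.leaf 286) (.leaf 10703)) (.node (.leaf 13426) (.leaf 2112))) (.node (.node (.leaf 2928) (.leaf 13886)) (.node (.leaf 10039) (.leaf 2282))))) (.node (.node (.node (.node (.leaf 7838) (.leaf 11314)) (.node (.leaf 6587) (.leaf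 169))) (.node (.node (.leaf 8409) (.leaf 316)) (.node (.leaf 6390) (.leaf 12792)))) (.node (.node (.node (.leaf 11427) (.leaf 787)) (.node (.leaf 6991) (.leaf 11318))) (.node (.node (.leaf 6269) (.leaf 12734)) (.leaf 3108))))) (.node (.node (.node (.node (.node (.leaf 12285) (.leaf 2324)) (.node (.leaf 8426) (.leaf 2167))) (.node (.node (.leaf 8732) (.leaf 6018)) (.node (.leaf 8003) (.leaf 11321)))) (.node (.node (.node (.leaf 12515) (.leaf 2111)) (.node (.leaf 12040) (.leaf 14956))) (.node (.node (.leaf 3780) (.leaf 5872)) (.node (.leaf 478) (.leaf 8276))))) (.node (.node (.node (.node (.leaf 15778) (.leaf 14750)) (.node (.leaf 15732) (.leaf 6802))) (.node (.node (.leaf 6979) (.leaf 8181)) (.node (.leaf 12586) (.leaf 8794)))) (.node (.node (.node (.leaf 7291) (.leaf 11966)) (.node (.leaf 14454) (.leaf 597))) (.node (.node (.leaf 11923) (.leaf 114)) (.leaf 959))))))))))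

def lineOrder13 : Tree (ℕ) :=
  (.node (.node (.node (.node (.node (.node (.node (.node (.node (.node (.leaf 9231) (.leaf 881)) (.node (.leaf 12047) (.leaf 4874))) (.node (.node (.leaf 11244) (.leaf 9982)) (.node (.leaf 8052) (.leaf 9844)))) (.node (.node (.node (.leaf 6706) (.leaf 1679)) (.node (.leaf 12185) (.leaf 12749))) (.node (.node (.leaf 2647) (.leaf 2082)) (.node (.leaf 15529) (.leaf 11142))))) (.node (.node (.node (.node (.leaf 12410) (.leaf 6368)) (.node (.leaf 11914) (.leaf 9374))) (.node (.node (.leaf 15175) (.leaf 8319)) (.node (.leaf 4832) (.leaf 12846)))) (.node (.node (.node (.leaf 10834) (.leaf 6642)) (.node (.leaf 1015) (.leaf 15423))) (.node (.node (.leaf 2524) (.leaf 6146)) (.node (.leaf 1915) (.leaf 337)))))) (.node (.node (.node (.node (.node (.leaf 13157) (.leaf 12848)) (.node (.leaf 7197) (.leaf 13927))) (.node (.node (.leaf 11641) (.leaf 12748)) (.node (.leaf 15651) (.leaf 15625)))) (.node (.node (.node (.leaf 8756) (.leaf 14379)) (.node (.leaf 7992) (.leaf 14040))) (.node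 (.node (.leaf 4396) (.leaf 5793)) (.node (.leaf 13465) (.leaf 2275))))) (.node (.node (.node (.node (.leaf 15263) (.leaf 11459)) (.node (.leaf 1602) (.leaf 8926))) (.node (.node (.leaf 11038) (.leaf 6648)) (.node (.leaf 10372) (.leaf 10143)))) (.node (.node (.node (.leaf 15957) (.leaf 12036)) (.node (.leaf 8603) (.leaf 11926))) (.node (.node (.leaf 4097) (.leaf 11256)) (.leaf 1977)))))) (.node (.node (.node (.node (.node (.node (.leaf 2538) (.leaf 4752)) (.node (.leaf 3363) (.leaf 15904))) (.node (.node (.leaf 5823) (.leaf 1722)) (.node (.leaf 15940) (.leaf 10563)))) (.node (.node (.node (.leaf 1646) (.leaf 13785)) (.node (.leaf 6667) (.leaf 8987))) (.node (.node (.leaf 14697) (.leaf 11642)) (.node (.leaf 997) (.leaf 6597))))) (.node (.node (.node (.node (.leaf 3377) (.leaf 14829)) (.node (.leaf 1070) (.leaf 2019))) (.node (.node (.leaf 3113) (.leaf 1677)) (.node (.leaf 10433) (.leaf 11438)))) (.node (.node (.node (.leaf 9439) (.leaf 14240)) (.node (.leaf 12391) (.leaf 10954))) (.node (.node (.leaf 3620)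 (.leaf 219)) (.leaf 3949))))) (.node (.node (.node (.node (.node (.leaf 7839) (.leaf 10802)) (.node (.leaf 11184) (.leaf 2869))) (.node (.node (.leaf 11763) (.leaf 15882)) (.node (.leaf 1822) (.leaf 12689)))) (.node (.node (.node (.leaf 7452) (.leaf 841)) (.node (.leaf 2666) (.leaf 379))) (.node (.node (.leaf 15945) (.leaf 2757)) (.node (.leaf 3267) (.leaf 2739))))) (.node (.node (.node (.node (.leaf 752) (.leaf 1595)) (.node (.leaf 14127) (.leaf 5500))) (.node (.node (.leaf 13757) (.leaf 11469)) (.node (.leaf 5467) (.leaf 4568)))) (.node (.node (.node (.leaf 4634) (.leaf 3101)) (.node (.leaf 12138) (.leaf 2159))) (.node (.node (.leaf 4152) (.leaf 3929)) (.leaf 10332))))))) (.node (.node (.node (.node (.node (.node (.node (.leaf 9262) (.leaf 6743)) (.node (.leaf 7316) (.leaf 2146))) (.node (.node (.leaf 14099) (.leaf 11368)) (.node (.leaf 7297) (.leaf 6677)))) (.node (.node (.node (.leaf 12318) (.leaf 9526)) (.node (.leaf 12350) (.leaf 5648))) (.node (.node (.leaf 11744) (.leaf 9179)) (.node (.leaf 2971)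 (.leaf 10360))))) (.node (.node (.node (.node (.leaf 8775) (.leaf 13029)) (.node (.leaf 4913) (.leaf 8727))) (.node (.node (.leaf 11021) (.leaf 14703)) (.node (.leaf 3450) (.leaf 15924)))) (.node (.node (.node (.leaf 1092) (.leaf 13539)) (.node (.leaf 7760) (.leaf 14847))) (.node (.node (.leaf 9198) (.leaf 10920)) (.node (.leaf 15019) (.leaf 2609)))))) (.node (.node (.node (.node (.node (.leaf 10730) (.leaf 11802)) (.node (.leaf 5004) (.leaf 2103))) (.node (.node (.leaf 14965) (.leaf 10219)) (.node (.leaf 10709) (.leaf 10991)))) (.node (.node (.node (.leaf 3910) (.leaf 12393)) (.node (.leaf 9956) (.leaf 8191))) (.node (.node (.leaf 11917) (.leaf 6773)) (.node (.leaf 7331) (.leaf 13457))))) (.node (.node (.node (.node (.leaf 13505) (.leaf 11010)) (.node (.leaf 5103) (.leaf 1138))) (.node (.node (.leaf 7175) (.leaf 6604)) (.node (.leaf 8217) (.leaf 15455)))) (.node (.node (.node (.leaf 14029) (.leaf 8509)) (.node (.leaf 5212) (.leaf 11456))) (.node (.node (.leaf 7354) (.leaf 8025)) (.leaf 14859)))))) (.node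 (.node (.node (.node (.node (.node (.leaf 8430) (.leaf 8965)) (.node (.leaf 15053) (.leaf 11317))) (.node (.node (.leaf 10292) (.leaf 5101)) (.node (.leaf 2529) (.leaf 13796)))) (.node (.node (.node (.leaf 8627) (.leaf 11020)) (.node (.leaf 8642) (.leaf 5403))) (.node (.node (.leaf 3870) (.leaf 15052)) (.node (.leaf 14638) (.leaf 13789))))) (.node (.node (.node (.node (.leaf 10903) (.leaf 2734)) (.node (.leaf 538) (.leaf 1084))) (.node (.node (.leaf 2009) (.leaf 879)) (.node (.leaf 15006) (.leaf 6986)))) (.node (.node (.node (.leaf 7181) (.leaf 568)) (.node (.leaf 4565) (.leaf 14649))) (.node (.node (.leaf 7138) (.leaf 5596)) (.leaf 9925))))) (.node (.node (.node (.node (.node (.leaf 4334) (.leaf 1990)) (.node (.leaf 13864) (.leaf 6738))) (.node (.node (.leaf 277) (.leaf 13096)) (.node (.leaf 1531) (.leaf 12094)))) (.node (.node (.node (.leaf 12239) (.leaf 12584)) (.node (.leaf 2352) (.leaf 12110))) (.node (.node (.leaf 14056) (.leaf 1895)) (.node (.leaf 3612) (.leaf 3358))))) (.node (.node (.node (.node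 (.leaf 15951) (.leaf 10006)) (.node (.leaf 2826) (.leaf 6929))) (.node (.node (.leaf 4425) (.leaf 15194)) (.node (.leaf 7402) (.leaf 11192)))) (.node (.node (.node (.leaf 10096) (.leaf 1298)) (.node (.leaf 6502) (.leaf 15866))) (.node (.node (.leaf 1328) (.leaf 3850)) (.leaf 269)))))))) (.node (.node (.node (.node (.node (.node (.node (.node (.leaf 9264) (.leaf 5041)) (.node (.leaf 2221) (.leaf 10708))) (.node (.node (.leaf 10259) (.leaf 11418)) (.node (.leaf 11272) (.leaf 1373)))) (.node (.node (.node (.leaf 4557) (.leaf 6099)) (.node (.leaf 13435) (.leaf 10993))) (.node (.node (.leaf 13431) (.leaf 10852)) (.node (.leaf 3808) (.leaf 1584))))) (.node (.node (.node (.node (.leaf 4612) (.leaf 15758)) (.node (.leaf 7017) (.leaf 14546))) (.node (.node (.leaf 7119) (.leaf 4684)) (.node (.leaf 12496) (.leaf 7909)))) (.node (.node (.node (.leaf 10424) (.leaf 2138)) (.node (.leaf 9481) (.leaf 1814))) (.node (.node (.leaf 11133) (.leaf 14355)) (.node (.leaf 8205) (.leaf 8399)))))) (.node (.node (.node (.node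 (.node (.leaf 5304) (.leaf 2180)) (.node (.leaf 7388) (.leaf 3070))) (.node (.node (.leaf 14916) (.leaf 6537)) (.node (.leaf 2956) (.leaf 9004)))) (.node (.node (.node (.leaf 2617) (.leaf 4560)) (.node (.leaf 9870) (.leaf 4368))) (.node (.node (.leaf 9819) (.leaf 4648)) (.node (.leaf 1344) (.leaf 7824))))) (.node (.node (.node (.node (.leaf 6438) (.leaf 6723)) (.node (.leaf 6926) (.leaf 13787))) (.node (.node (.leaf 15605) (.leaf 14186)) (.node (.leaf 9241) (.leaf 8655)))) (.node (.node (.node (.leaf 7233) (.leaf 9370)) (.node (.leaf 9514) (.leaf 14622))) (.node (.node (.leaf 11771) (.leaf 13141)) (.leaf 10341)))))) (.node (.node (.node (.node (.node (.node (.leaf 144) (.leaf 6262)) (.node (.leaf 14485) (.leaf 15280))) (.node (.node (.leaf 13570) (.leaf 9008)) (.node (.leaf 943) (.leaf 73)))) (.node (.node (.node (.leaf 7819) (.leaf 9242)) (.node (.leaf 15838) (.leaf 8355))) (.node (.node (.leaf 1201) (.leaf 4751)) (.node (.leaf 7163) (.leaf 14144))))) (.node (.node (.node (.node (.leaf 22) (.leaf 11402))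 (.node (.leaf 6291) (.leaf 3668))) (.node (.node (.leaf 10657) (.leaf 10496)) (.node (.leaf 13201) (.leaf 10444)))) (.node (.node (.node (.leaf 11799) (.leaf 2056)) (.node (.leaf 14374) (.leaf 15361))) (.node (.node (.leaf 7729) (.leaf 801)) (.leaf 7629))))) (.node (.node (.node (.node (.node (.leaf 21) (.leaf 12700)) (.node (.leaf 608) (.leaf 9667))) (.node (.node (.leaf 11559) (.leaf 3443)) (.node (.leaf 14372) (.leaf 5486)))) (.node (.node (.node (.leaf 4558) (.leaf 11679)) (.node (.leaf 7190) (.leaf 2692))) (.node (.node (.leaf 12886) (.leaf 11132)) (.node (.leaf 3841) (.leaf 12046))))) (.node (.node (.node (.node (.leaf 4986) (.leaf 3026)) (.node (.leaf 7117) (.leaf 13968))) (.node (.node (.leaf 13403) (.leaf 9883)) (.node (.leaf 5782) (.leaf 6770)))) (.node (.node (.node (.leaf 3121) (.leaf 3487)) (.node (.leaf 3954) (.leaf 10611))) (.node (.node (.leaf 14456) (.leaf 6281)) (.leaf 12944))))))) (.node (.node (.node (.node (.node (.node (.node (.leaf 14749) (.leaf 4732)) (.node (.leaf 5651) (.leaf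 15844))) (.node (.node (.leaf 1126) (.leaf 11447)) (.node (.leaf 14813) (.leaf 11033)))) (.node (.node (.node (.leaf 6237) (.leaf 13587)) (.node (.leaf 7926) (.leaf 12769))) (.node (.node (.leaf 6874) (.leaf 1027)) (.node (.leaf 12564) (.leaf 5800))))) (.node (.node (.node (.node (.leaf 2029) (.leaf 8457)) (.node (.leaf 5628) (.leaf 9550))) (.node (.node (.leaf 2200) (.leaf 492)) (.node (.leaf 5050) (.leaf 8009)))) (.node (.node (.node (.leaf 2615) (.leaf 3642)) (.node (.leaf 6478) (.leaf 11097))) (.node (.node (.leaf 10310) (.leaf 15155)) (.leaf 11211))))) (.node (.node (.node (.node (.node (.leaf 6434) (.leaf 9093)) (.node (.leaf 2820) (.leaf 1204))) (.node (.node (.leaf 5812) (.leaf 12607)) (.node (.leaf 14445) (.leaf 13555)))) (.node (.node (.node (.leaf 10736) (.leaf 14448)) (.node (.leaf 7146) (.leaf 13973))) (.node (.node (.leaf 960) (.leaf 326)) (.node (.leaf 3225) (.leaf 15640))))) (.node (.node (.node (.node (.leaf 14334) (.leaf 7548)) (.node (.leaf 1592) (.leaf 7936))) (.node (.node (.leaf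 1312) (.leaf 8027)) (.node (.leaf 6106) (.leaf 14667)))) (.node (.node (.node (.leaf 2611) (.leaf 9609)) (.node (.leaf 11079) (.leaf 14062))) (.node (.node (.leaf 2644) (.leaf 880)) (.leaf 11602)))))) (.node (.node (.node (.node (.node (.node (.leaf 13481) (.leaf 7267)) (.node (.leaf 15230) (.leaf 11769))) (.node (.node (.leaf 5137) (.leaf 13966)) (.node (.leaf 3194) (.leaf 6722)))) (.node (.node (.node (.leaf 10178) (.leaf 11610)) (.node (.leaf 9769) (.leaf 12080))) (.node (.node (.leaf 6251) (.leaf 11173)) (.node (.leaf 5810) (.leaf 363))))) (.node (.node (.node (.node (.leaf 13254) (.leaf 6789)) (.node (.leaf 9992) (.leaf 11907))) (.node (.node (.leaf 14175) (.leaf 9383)) (.node (.leaf 10391) (.leaf 13904)))) (.node (.node (.node (.leaf 1491) (.leaf 2674)) (.node (.leaf 11298) (.leaf 717))) (.node (.node (.leaf 12019) (.leaf 5397)) (.leaf 5187))))) (.node (.node (.node (.node (.node (.leaf 12516) (.leaf 4769)) (.node (.leaf 7527) (.leaf 11518))) (.node (.node (.leaf 3345) (.leaf 7377)) (.node (.leaf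 1810) (.leaf 38)))) (.node (.node (.node (.leaf 4080) (.leaf 4445)) (.node (.leaf 6441) (.leaf 8231))) (.node (.node (.leaf 14497) (.leaf 564)) (.node (.leaf 9204) (.leaf 8344))))) (.node (.node (.node (.node (.leaf 4611) (.leaf 9483)) (.node (.leaf 15748) (.leaf 12644))) (.node (.node (.leaf 1505) (.leaf 7783)) (.node (.leaf 12388) (.leaf 11722)))) (.node (.node (.node (.leaf 11689) (.leaf 13194)) (.node (.leaf 7397) (.leaf 7243))) (.node (.node (.leaf 7083) (.leaf 14226)) (.leaf 7994))))))))) (.node (.node (.node (.node (.node (.node (.node (.node (.node (.leaf 9961) (.leaf 5017)) (.node (.leaf 928) (.leaf 8853))) (.node (.node (.leaf 11815) (.leaf 14278)) (.node (.leaf 13808) (.leaf 12754)))) (.node (.node (.node (.leaf 1551) (.leaf 9469)) (.node (.leaf 4718) (.leaf 4261))) (.node (.node (.leaf 7408) (.leaf 2271)) (.node (.leaf 11237) (.leaf 3270))))) (.node (.node (.node (.node (.leaf 3378) (.leaf 11904)) (.node (.leaf 13817) (.leaf 7416))) (.node (.node (.leaf 13693) (.leaf 15509)) (.node (.leaf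 1452) (.leaf 4066)))) (.node (.node (.node (.leaf 1462) (.leaf 14047)) (.node (.leaf 719) (.leaf 487))) (.node (.node (.leaf 13743) (.leaf 12528)) (.node (.leaf 4164) (.leaf 11522)))))) (.node (.node (.node (.node (.node (.leaf 6653) (.leaf 5400)) (.node (.leaf 8001) (.leaf 15338))) (.node (.node (.leaf 14678) (.leaf 4263)) (.node (.leaf 3341) (.leaf 7982)))) (.node (.node (.node (.leaf 3380) (.leaf 2634)) (.node (.leaf 15241) (.leaf 1432))) (.node (.node (.leaf 6464) (.leaf 11432)) (.node (.leaf 14656) (.leaf 580))))) (.node (.node (.node (.node (.leaf 2559) (.leaf 5289)) (.node (.leaf 3190) (.leaf 4955))) (.node (.node (.leaf 5669) (.leaf 10975)) (.node (.leaf 4710) (.leaf 4458)))) (.node (.node (.node (.leaf 15772) (.leaf 12857)) (.node (.leaf 13003) (.leaf 5840))) (.node (.node (.leaf 5478) (.leaf 12106)) (.leaf 13285)))))) (.node (.node (.node (.node (.node (.node (.leaf 12928) (.leaf 8278)) (.node (.leaf 12135) (.leaf 507))) (.node (.node (.leaf 10487) (.leaf 11389)) (.node (.leaf 11874) (.leaf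 1639)))) (.node (.node (.node (.leaf 2072) (.leaf 5272)) (.node (.leaf 9931) (.leaf 7373))) (.node (.node (.leaf 2248) (.leaf 2015)) (.node (.leaf 5855) (.leaf 11618))))) (.node (.node (.node (.node (.leaf 6433) (.leaf 13112)) (.node (.leaf 1622) (.leaf 10677))) (.node (.node (.leaf 1418) (.leaf 12583)) (.node (.leaf 8895) (.leaf 439)))) (.node (.node (.node (.leaf 1091) (.leaf 8979)) (.node (.leaf 10948) (.leaf 8693))) (.node (.node (.leaf 592) (.leaf 4167)) (.leaf 1669))))) (.node (.node (.node (.node (.node (.leaf 10423) (.leaf 8900)) (.node (.leaf 3300) (.leaf 9754))) (.node (.node (.leaf 14634) (.leaf 4842)) (.node (.leaf 15717) (.leaf 8561)))) (.node (.node (.node (.leaf 15379) (.leaf 15037)) (.node (.leaf 13946) (.leaf 3411))) (.node (.node (.leaf 11877) (.leaf 4924)) (.node (.leaf 15560) (.leaf 351))))) (.node (.node (.node (.node (.leaf 6654) (.leaf 15406)) (.node (.leaf 9403) (.leaf 10668))) (.node (.node (.leaf 6165) (.leaf 3990)) (.node (.leaf 7619) (.leaf 4277)))) (.node (.node (.node (.leaf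 15763) (.leaf 6104)) (.node (.leaf 11587) (.leaf 10195))) (.node (.node (.leaf 6501) (.leaf 2192)) (.leaf 4234))))))) (.node (.node (.node (.node (.node (.node (.node (.leaf 13491) (.leaf 3453)) (.node (.leaf 15666) (.leaf 2327))) (.node (.node (.leaf 13741) (.leaf 7384)) (.node (.leaf 15200) (.leaf 1223)))) (.node (.node (.node (.leaf 1733) (.leaf 8084)) (.node (.leaf 10803) (.leaf 7998))) (.node (.node (.leaf 4623) (.leaf 13398)) (.node (.leaf 6857) (.leaf 1853))))) (.node (.node (.node (.node (.leaf 13151) (.leaf 5997)) (.node (.leaf 2123) (.leaf 5377))) (.node (.node (.leaf 9287) (.leaf 8280)) (.node (.leaf 10115) (.leaf 7126)))) (.node (.node (.node (.leaf 11687) (.leaf 5067)) (.node (.leaf 6372) (.leaf 4697))) (.node (.node (.leaf 12368) (.leaf 9713)) (.leaf 11356))))) (.node (.node (.node (.node (.node (.leaf 4337) (.leaf 15563)) (.node (.leaf 9544) (.leaf 12069))) (.node (.node (.leaf 7160) (.leaf 9533)) (.node (.leaf 1992) (.leaf 8741)))) (.node (.node (.node (.leaf 12418) (.leaf 9194)) (.node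 (.leaf 9649) (.leaf 3712))) (.node (.node (.leaf 7013) (.leaf 4904)) (.node (.leaf 1381) (.leaf 13608))))) (.node (.node (.node (.node (.leaf 9579) (.leaf 15441)) (.node (.leaf 2394) (.leaf 744))) (.node (.node (.leaf 3696) (.leaf 2886)) (.node (.leaf 1787) (.leaf 1778)))) (.node (.node (.node (.leaf 1031) (.leaf 1235)) (.node (.leaf 2976) (.leaf 11269))) (.node (.node (.leaf 1332) (.leaf 582)) (.leaf 11252)))))) (.node (.node (.node (.node (.node (.node (.leaf 12728) (.leaf 6183)) (.node (.leaf 2100) (.leaf 5846))) (.node (.node (.leaf 10244) (.leaf 10666)) (.node (.leaf 6804) (.leaf 1908)))) (.node (.node (.node (.leaf 1494) (.leaf 13414)) (.node (.leaf 8295) (.leaf 2623))) (.node (.node (.leaf 8708) (.leaf 612)) (.node (.leaf 9048) (.leaf 4381))))) (.node (.node (.node (.node (.leaf 8918) (.leaf 3972)) (.node (.leaf 1799) (.leaf 6839))) (.node (.node (.leaf 8312) (.leaf 3746)) (.node (.leaf 3322) (.leaf 12601)))) (.node (.node (.node (.leaf 7456) (.leaf 1164)) (.node (.leaf 13795) (.leaf 13981)))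 (.node (.node (.leaf 8530) (.leaf 4454)) (.leaf 15420))))) (.node (.node (.node (.node (.node (.leaf 13301) (.leaf 4652)) (.node (.leaf 10828) (.leaf 9948))) (.node (.node (.leaf 5561) (.leaf 13299)) (.node (.leaf 7322) (.leaf 725)))) (.node (.node (.node (.leaf 14027) (.leaf 3337)) (.node (.leaf 8237) (.leaf 4148))) (.node (.node (.leaf 15828) (.leaf 4029)) (.node (.leaf 10070) (.leaf 13727))))) (.node (.node (.node (.node (.leaf 3154) (.leaf 5748)) (.node (.leaf 11025) (.leaf 14734))) (.node (.node (.leaf 13289) (.leaf 5512)) (.node (.leaf 2265) (.leaf 4963)))) (.node (.node (.node (.leaf 12237) (.leaf 7697)) (.node (.leaf 638) (.leaf 8143))) (.node (.node (.leaf 13921) (.leaf 10016)) (.leaf 6173)))))))) (.node (.node (.node (.node (.node (.node (.node (.node (.leaf 13495) (.leaf 5879)) (.node (.leaf 15883) (.leaf 9192))) (.node (.node (.leaf 15202) (.leaf 2249)) (.node (.leaf 9166) (.leaf 2608)))) (.node (.node (.node (.leaf 4313) (.leaf 14704)) (.node (.leaf 14585) (.leaf 1389))) (.node (.node (.leaf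 8571) (.leaf 7948)) (.node (.leaf 4700) (.leaf 10))))) (.node (.node (.node (.node (.leaf 8432) (.leaf 13277)) (.node (.leaf 3812) (.leaf 2983))) (.node (.node (.leaf 15437) (.leaf 923)) (.node (.leaf 1667) (.leaf 2803)))) (.node (.node (.node (.leaf 5306) (.leaf 9176)) (.node (.leaf 354) (.leaf 8268))) (.node (.node (.leaf 3532) (.leaf 1002)) (.node (.leaf 2968) (.leaf 3644)))))) (.node (.node (.node (.node (.node (.leaf 15260) (.leaf 1281)) (.node (.leaf 9082) (.leaf 4244))) (.node (.node (.leaf 15286) (.leaf 10924)) (.node (.leaf 14845) (.leaf 14890)))) (.node (.node (.node (.leaf 5301) (.leaf 11723)) (.node (.leaf 5326) (.leaf 4548))) (.node (.node (.leaf 13323) (.leaf 7125)) (.node (.leaf 9663) (.leaf 6889))))) (.node (.node (.node (.node (.leaf 9457) (.leaf 15499)) (.node (.leaf 2741) (.leaf 6391))) (.node (.node (.leaf 409) (.leaf 10878)) (.node (.leaf 15340) (.leaf 6521)))) (.node (.node (.node (.leaf 1461) (.leaf 3444)) (.node (.leaf 10883) (.leaf 6786))) (.node (.node (.leaf 11259) (.leaf 15511))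 (.leaf 15681)))))) (.node (.node (.node (.node (.node (.node (.leaf 9611) (.leaf 7799)) (.node (.leaf 10624) (.leaf 7084))) (.node (.node (.leaf 2415) (.leaf 5026)) (.node (.leaf 10572) (.leaf 11542)))) (.node (.node (.node (.leaf 13381) (.leaf 15096)) (.node (.leaf 14088) (.leaf 11560))) (.node (.node (.leaf 486) (.leaf 13548)) (.node (.leaf 11101) (.leaf 166))))) (.node (.node (.node (.node (.leaf 7234) (.leaf 3063)) (.node (.leaf 9373) (.leaf 15362))) (.node (.node (.leaf 12822) (.leaf 13337)) (.node (.leaf 8274) (.leaf 3892)))) (.node (.node (.node (.leaf 7887) (.leaf 14432)) (.node (.leaf 15359) (.leaf 6213))) (.node (.node (.leaf 14243) (.leaf 10792)) (.leaf 11636))))) (.node (.node (.node (.node (.node (.leaf 15375) (.leaf 13799)) (.node (.leaf 2083) (.leaf 6171))) (.node (.node (.leaf 9910) (.leaf 6730)) (.node (.leaf 11199) (.leaf 6458)))) (.node (.node (.node (.leaf 14312) (.leaf 7369)) (.node (.leaf 11831) (.leaf 13217))) (.node (.node (.leaf 9710) (.leaf 69)) (.node (.leaf 12542) (.leaf 9025)))))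 (.node (.node (.node (.node (.leaf 12676) (.leaf 4215)) (.node (.leaf 6158) (.leaf 2653))) (.node (.node (.leaf 522) (.leaf 15755)) (.node (.leaf 15867) (.leaf 8123)))) (.node (.node (.node (.leaf 7742) (.leaf 15068)) (.node (.leaf 3100) (.leaf 2379))) (.node (.node (.leaf 1304) (.leaf 4290)) (.leaf 1410))))))) (.node (.node (.node (.node (.node (.node (.node (.leaf 10415) (.leaf 2773)) (.node (.leaf 13314) (.leaf 12257))) (.node (.node (.leaf 5731) (.leaf 9088)) (.node (.leaf 10811) (.leaf 2569)))) (.node (.node (.node (.leaf 10286) (.leaf 14234)) (.node (.leaf 100) (.leaf 7807))) (.node (.node (.leaf 5524) (.leaf 7250)) (.node (.leaf 13986) (.leaf 8327))))) (.node (.node (.node (.node (.leaf 754) (.leaf 4992)) (.node (.leaf 1231) (.leaf 5066))) (.node (.node (.leaf 375) (.leaf 12475)) (.node (.leaf 1980) (.leaf 11832)))) (.node (.node (.node (.leaf 1641) (.leaf 14679)) (.node (.leaf 2754) (.leaf 2951))) (.node (.node (.leaf 447) (.leaf 10813)) (.leaf 12068))))) (.node (.node (.node (.node (.node (.leaf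 9222) (.leaf 12784)) (.node (.leaf 8189) (.leaf 14309))) (.node (.node (.leaf 14623) (.leaf 5656)) (.node (.leaf 4503) (.leaf 346)))) (.node (.node (.node (.leaf 15954) (.leaf 14580)) (.node (.leaf 7902) (.leaf 7475))) (.node (.node (.leaf 11110) (.leaf 8815)) (.node (.leaf 10184) (.leaf 11928))))) (.node (.node (.node (.node (.leaf 1154) (.leaf 135)) (.node (.leaf 4190) (.leaf 200))) (.node (.node (.leaf 666) (.leaf 15684)) (.node (.leaf 11084) (.leaf 9122)))) (.node (.node (.node (.leaf 9572) (.leaf 13679)) (.node (.leaf 762) (.leaf 7288))) (.node (.node (.leaf 14665) (.leaf 4800)) (.leaf 13408)))))) (.node (.node (.node (.node (.node (.node (.leaf 13506) (.leaf 14413)) (.node (.leaf 14694) (.leaf 5850))) (.node (.node (.leaf 3658) (.leaf 8035)) (.node (.leaf 8766) (.leaf 1068)))) (.node (.node (.node (.leaf 4088) (.leaf 4017)) (.node (.leaf 4845) (.leaf 11979))) (.node (.node (.leaf 1517) (.leaf 15928)) (.node (.leaf 12820) (.leaf 7472))))) (.node (.node (.node (.node (.leaf 7223) (.leaf 6087)) (.node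 (.leaf 4126) (.leaf 2699))) (.node (.node (.leaf 261) (.leaf 10763)) (.node (.leaf 15469) (.leaf 3318)))) (.node (.node (.node (.leaf 13590) (.leaf 3921)) (.node (.leaf 9772) (.leaf 6760))) (.node (.node (.leaf 8391) (.leaf 7287)) (.leaf 3436))))) (.node (.node (.node (.node (.node (.leaf 13502) (.leaf 3001)) (.node (.leaf 13267) (.leaf 1415))) (.node (.node (.leaf 13516) (.leaf 4236)) (.node (.leaf 9926) (.leaf 4707)))) (.node (.node (.node (.leaf 12338) (.leaf 6850)) (.node (.leaf 10350) (.leaf 7514))) (.node (.node (.leaf 10576) (.leaf 258)) (.node (.leaf 12148) (.leaf 10605))))) (.node (.node (.node (.node (.leaf 7021) (.leaf 8416)) (.node (.leaf 15893) (.leaf 14793))) (.node (.node (.leaf 1446) (.leaf 2844)) (.node (.leaf 8966) (.leaf 2128)))) (.node (.node (.node (.leaf 12544) (.leaf 14061)) (.node (.leaf 13287) (.leaf 7633))) (.node (.node (.leaf 9525) (.leaf 14880)) (.leaf 6736))))))))))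

def lineOrder14 : Tree (ℕ) :=
  (.node (.node (.node (.node (.node (.node (.node (.node (.node (.node (.leaf 142) (.leaf 5569)) (.node (.leaf 7161) (.leaf 8606))) (.node (.node (.leaf 1106) (.leaf 15584)) (.node (.leaf 13400) (.leaf 6661)))) (.node (.node (.node (.leaf 14607) (.leaf 359)) (.node (.leaf 9737) (.leaf 11872))) (.node (.node (.leaf 14180) (.leaf 3053)) (.node (.leaf 6641) (.leaf 8678))))) (.node (.node (.node (.node (.leaf 9225) (.leaf 15271)) (.node (.leaf 14415) (.leaf 6049))) (.node (.node (.leaf 14211) (.leaf 8549)) (.node (.leaf 2049) (.leaf 4393)))) (.node (.node (.node (.leaf 1746) (.leaf 12841)) (.node (.leaf 495) (.leaf 11835))) (.node (.node (.leaf 10661) (.leaf 9076)) (.node (.leaf 4431) (.leaf 7130)))))) (.node (.node (.node (.node (.node (.leaf 4666) (.leaf 6647)) (.node (.leaf 4640) (.leaf 8948))) (.node (.node (.leaf 2172) (.leaf 11875)) (.node (.leaf 9913) (.leaf 6848)))) (.node (.node (.node (.leaf 8916) (.leaf 10055)) (.node (.leaf 7349) (.leaf 3857))) (.node (.node (.leaf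 12843) (.leaf 2668)) (.node (.leaf 5321) (.leaf 8385))))) (.node (.node (.node (.node (.leaf 2856) (.leaf 11855)) (.node (.leaf 4162) (.leaf 7478))) (.node (.node (.leaf 8908) (.leaf 15520)) (.node (.leaf 14108) (.leaf 7612)))) (.node (.node (.node (.leaf 9575) (.leaf 9750)) (.node (.leaf 4875) (.leaf 5883))) (.node (.node (.leaf 7865) (.leaf 8491)) (.leaf 11203)))))) (.node (.node (.node (.node (.node (.node (.leaf 14745) (.leaf 1220)) (.node (.leaf 383) (.leaf 8096))) (.node (.node (.leaf 8513) (.leaf 6617)) (.node (.leaf 4266) (.leaf 3520)))) (.node (.node (.node (.leaf 6681) (.leaf 13218)) (.node (.leaf 15932) (.leaf 13294))) (.node (.node (.leaf 3824) (.leaf 8019)) (.node (.leaf 352) (.leaf 13513))))) (.node (.node (.node (.node (.leaf 15049) (.leaf 10397)) (.node (.leaf 953) (.leaf 14984))) (.node (.node (.leaf 5672) (.leaf 2454)) (.node (.leaf 1754) (.leaf 15553)))) (.node (.node (.node (.leaf 13364) (.leaf 1802)) (.node (.leaf 7176) (.leaf 3227))) (.node (.node (.leaf 15713) (.leaf 8745)) (.leaf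 481))))) (.node (.node (.node (.node (.node (.leaf 5935) (.leaf 10125)) (.node (.leaf 12023) (.leaf 4485))) (.node (.node (.leaf 10260) (.leaf 11481)) (.node (.leaf 15598) (.leaf 8997)))) (.node (.node (.node (.leaf 4664) (.leaf 10442)) (.node (.leaf 14955) (.leaf 3720))) (.node (.node (.leaf 4268) (.leaf 4604)) (.node (.leaf 14641) (.leaf 15699))))) (.node (.node (.node (.node (.leaf 1355) (.leaf 4165)) (.node (.leaf 8258) (.leaf 14008))) (.node (.node (.leaf 11770) (.leaf 3906)) (.node (.leaf 13173) (.leaf 3624)))) (.node (.node (.node (.leaf 13449) (.leaf 12896)) (.node (.leaf 13879) (.leaf 15548))) (.node (.node (.leaf 9107) (.leaf 10773)) (.leaf 14177))))))) (.node (.node (.node (.node (.node (.node (.node (.leaf 1762) (.leaf 7412)) (.node (.leaf 11757) (.leaf 15714))) (.node (.node (.leaf 5504) (.leaf 8265)) (.node (.leaf 9494) (.leaf 8930)))) (.node (.node (.node (.leaf 5339) (.leaf 518)) (.node (.leaf 6062) (.leaf 11145))) (.node (.node (.leaf 3845) (.leaf 3836)) (.node (.leaf 2315) (.leaf 2916)))))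 (.node (.node (.node (.node (.leaf 14712) (.leaf 13866)) (.node (.leaf 5836) (.leaf 8647))) (.node (.node (.leaf 8199) (.leaf 2736)) (.node (.leaf 7418) (.leaf 13958)))) (.node (.node (.node (.leaf 14520) (.leaf 3043)) (.node (.leaf 6763) (.leaf 3922))) (.node (.node (.leaf 4962) (.leaf 10995)) (.node (.leaf 14095) (.leaf 8360)))))) (.node (.node (.node (.node (.node (.leaf 15292) (.leaf 856)) (.node (.leaf 2997) (.leaf 11360))) (.node (.node (.leaf 4779) (.leaf 15209)) (.node (.leaf 8902) (.leaf 14009)))) (.node (.node (.node (.leaf 3) (.leaf 9037)) (.node (.leaf 6178) (.leaf 11026))) (.node (.node (.leaf 14412) (.leaf 702)) (.node (.leaf 9951) (.leaf 14487))))) (.node (.node (.node (.node (.leaf 7186) (.leaf 9651)) (.node (.leaf 12648) (.leaf 5125))) (.node (.node (.leaf 50) (.leaf 2378)) (.node (.leaf 1139) (.leaf 13147)))) (.node (.node (.node (.leaf 10463) (.leaf 11160)) (.node (.leaf 13320) (.leaf 3763))) (.node (.node (.leaf 8174) (.leaf 13657)) (.leaf 1114)))))) (.node (.node (.node (.node (.node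 (.node (.leaf 12992) (.leaf 12372)) (.node (.leaf 11866) (.leaf 922))) (.node (.node (.leaf 13205) (.leaf 10065)) (.node (.leaf 10663) (.leaf 4607)))) (.node (.node (.node (.leaf 13480) (.leaf 15259)) (.node (.leaf 8722) (.leaf 13333))) (.node (.node (.leaf 13048) (.leaf 15330)) (.node (.leaf 6768) (.leaf 10858))))) (.node (.node (.node (.node (.leaf 9228) (.leaf 15694)) (.node (.leaf 1380) (.leaf 13732))) (.node (.node (.leaf 9873) (.leaf 1258)) (.node (.leaf 15171) (.leaf 5659)))) (.node (.node (.node (.leaf 5336) (.leaf 8108)) (.node (.leaf 4933) (.leaf 3266))) (.node (.node (.leaf 9762) (.leaf 3314)) (.leaf 7513))))) (.node (.node (.node (.node (.node (.leaf 12297) (.leaf 3937)) (.node (.leaf 13023) (.leaf 13843))) (.node (.node (.leaf 14978) (.leaf 3163)) (.node (.leaf 7665) (.leaf 5219)))) (.node (.node (.node (.leaf 2599) (.leaf 9470)) (.node (.leaf 7500) (.leaf 11417))) (.node (.node (.leaf 14735) (.leaf 2193)) (.node (.leaf 7779) (.leaf 5315))))) (.node (.node (.node (.node (.leaf 10209) (.leaf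 6922)) (.node (.leaf 1693) (.leaf 8062))) (.node (.node (.leaf 11604) (.leaf 3515)) (.node (.leaf 12737) (.leaf 446)))) (.node (.node (.node (.leaf 7180) (.leaf 636)) (.node (.leaf 1775) (.leaf 15687))) (.node (.node (.leaf 356) (.leaf 871)) (.leaf 3165)))))))) (.node (.node (.node (.node (.node (.node (.node (.node (.leaf 1764) (.leaf 10626)) (.node (.leaf 6133) (.leaf 8905))) (.node (.node (.leaf 15380) (.leaf 14693)) (.node (.leaf 13197) (.leaf 5378)))) (.node (.node (.node (.leaf 2942) (.leaf 1010)) (.node (.leaf 432) (.leaf 7547))) (.node (.node (.leaf 14783) (.leaf 9447)) (.node (.leaf 6270) (.leaf 453))))) (.node (.node (.node (.node (.leaf 8460) (.leaf 15005)) (.node (.leaf 11233) (.leaf 2171))) (.node (.node (.leaf 8830) (.leaf 5282)) (.node (.leaf 11839) (.leaf 7506)))) (.node (.node (.node (.leaf 13035) (.leaf 2318)) (.node (.leaf 5285) (.leaf 11694))) (.node (.node (.leaf 3002) (.leaf 4199)) (.node (.leaf 134) (.leaf 5065)))))) (.node (.node (.node (.node (.node (.leaf 13038) (.leaf 970))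 (.node (.leaf 13881) (.leaf 3732))) (.node (.node (.leaf 9584) (.leaf 11125)) (.node (.leaf 7586) (.leaf 5738)))) (.node (.node (.node (.leaf 2725) (.leaf 13764)) (.node (.leaf 14176) (.leaf 6832))) (.node (.node (.leaf 31) (.leaf 12454)) (.node (.leaf 1708) (.leaf 1896))))) (.node (.node (.node (.node (.leaf 1934) (.leaf 962)) (.node (.leaf 5111) (.leaf 7651))) (.node (.node (.leaf 3675) (.leaf 14852)) (.node (.leaf 3714) (.leaf 5868)))) (.node (.node (.node (.leaf 4314) (.leaf 6176)) (.node (.leaf 3750) (.leaf 14701))) (.node (.node (.leaf 13754) (.leaf 12918)) (.leaf 523)))))) (.node (.node (.node (.node (.node (.node (.leaf 12925) (.leaf 10242)) (.node (.leaf 9787) (.leaf 11939))) (.node (.node (.leaf 9364) (.leaf 8763)) (.node (.leaf 12529) (.leaf 1993)))) (.node (.node (.node (.leaf 9325) (.leaf 9734)) (.node (.leaf 7489) (.leaf 15729))) (.node (.node (.leaf 1661) (.leaf 15839)) (.node (.leaf 11856) (.leaf 5274))))) (.node (.node (.node (.node (.leaf 1426) (.leaf 15743)) (.node (.leaf 13676) (.leaf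 12787))) (.node (.node (.leaf 11301) (.leaf 12565)) (.node (.leaf 8366) (.leaf 846)))) (.node (.node (.node (.leaf 9019) (.leaf 3962)) (.node (.leaf 423) (.leaf 10531))) (.node (.node (.leaf 107) (.leaf 4123)) (.leaf 4100))))) (.node (.node (.node (.node (.node (.leaf 1420) (.leaf 10029)) (.node (.leaf 14109) (.leaf 3162))) (.node (.node (.leaf 3010) (.leaf 1388)) (.node (.leaf 5299) (.leaf 14879)))) (.node (.node (.node (.leaf 1836) (.leaf 8699)) (.node (.leaf 4646) (.leaf 8459))) (.node (.node (.leaf 10154) (.leaf 8124)) (.node (.leaf 13736) (.leaf 8942))))) (.node (.node (.node (.node (.leaf 5982) (.leaf 14763)) (.node (.leaf 14922) (.leaf 10573))) (.node (.node (.leaf 13104) (.leaf 6907)) (.node (.leaf 5420) (.leaf 939)))) (.node (.node (.node (.leaf 7301) (.leaf 3253)) (.node (.leaf 3764) (.leaf 12380))) (.node (.node (.leaf 13288) (.leaf 14877)) (.leaf 2094))))))) (.node (.node (.node (.node (.node (.node (.node (.leaf 12923) (.leaf 7256)) (.node (.leaf 13061) (.leaf 4271))) (.node (.node (.leaf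 12527) (.leaf 1816)) (.node (.leaf 7545) (.leaf 6474)))) (.node (.node (.node (.leaf 7535) (.leaf 9407)) (.node (.leaf 2765) (.leaf 12824))) (.node (.node (.leaf 11848) (.leaf 8538)) (.node (.leaf 10493) (.leaf 1142))))) (.node (.node (.node (.node (.leaf 9693) (.leaf 8382)) (.node (.leaf 12323) (.leaf 1803))) (.node (.node (.leaf 2693) (.leaf 14531)) (.node (.leaf 1801) (.leaf 9920)))) (.node (.node (.node (.leaf 9809) (.leaf 13087)) (.node (.leaf 10052) (.leaf 1161))) (.node (.node (.leaf 1175) (.leaf 14259)) (.leaf 12486))))) (.node (.node (.node (.node (.node (.leaf 13383) (.leaf 3666)) (.node (.leaf 5385) (.leaf 6561))) (.node (.node (.leaf 716) (.leaf 7210)) (.node (.leaf 772) (.leaf 15207)))) (.node (.node (.node (.leaf 8759) (.leaf 863)) (.node (.leaf 6051) (.leaf 12300))) (.node (.node (.leaf 1792) (.leaf 13939)) (.node (.leaf 859) (.leaf 10869))))) (.node (.node (.node (.node (.leaf 1748) (.leaf 13168)) (.node (.leaf 1007) (.leaf 13975))) (.node (.node (.leaf 8117) (.leaf 3298)) (.node (.leaf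 5181) (.leaf 3777)))) (.node (.node (.node (.leaf 2726) (.leaf 6053)) (.node (.leaf 3689) (.leaf 10879))) (.node (.node (.leaf 14181) (.leaf 5564)) (.leaf 2387)))))) (.node (.node (.node (.node (.node (.node (.leaf 1732) (.leaf 12097)) (.node (.leaf 10383) (.leaf 3560))) (.node (.node (.leaf 2013) (.leaf 10577)) (.node (.leaf 13747) (.leaf 6404)))) (.node (.node (.node (.leaf 12973) (.leaf 15114)) (.node (.leaf 3966) (.leaf 13839))) (.node (.node (.leaf 8357) (.leaf 7505)) (.node (.leaf 6137) (.leaf 5448))))) (.node (.node (.node (.node (.leaf 8488) (.leaf 7204)) (.node (.leaf 942) (.leaf 13586))) (.node (.node (.leaf 12765) (.leaf 3814)) (.node (.leaf 9549) (.leaf 6164)))) (.node (.node (.node (.leaf 9328) (.leaf 6636)) (.node (.leaf 15726) (.leaf 15641))) (.node (.node (.leaf 11347) (.leaf 14661)) (.leaf 9426))))) (.node (.node (.node (.node (.node (.leaf 5081) (.leaf 6775)) (.node (.leaf 4361) (.leaf 12947))) (.node (.node (.leaf 4022) (.leaf 12931)) (.node (.leaf 11690) (.leaf 9810)))) (.node (.node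 (.node (.leaf 411) (.leaf 1877)) (.node (.leaf 9674) (.leaf 8869))) (.node (.node (.leaf 12877) (.leaf 8104)) (.node (.leaf 14125) (.leaf 9847))))) (.node (.node (.node (.node (.leaf 5) (.leaf 985)) (.node (.leaf 7787) (.leaf 342))) (.node (.node (.leaf 13802) (.leaf 11401)) (.node (.leaf 10616) (.leaf 4945)))) (.node (.node (.node (.leaf 15913) (.leaf 5395)) (.node (.leaf 4740) (.leaf 13533))) (.node (.node (.leaf 9350) (.leaf 13819)) (.leaf 10656))))))))) (.node (.node (.node (.node (.node (.node (.node (.node (.node (.leaf 4464) (.leaf 9914)) (.node (.leaf 5163) (.leaf 11325))) (.node (.node (.leaf 8992) (.leaf 12107)) (.node (.leaf 629) (.leaf 3649)))) (.node (.node (.node (.leaf 7881) (.leaf 2346)) (.node (.leaf 1366) (.leaf 15944))) (.node (.node (.leaf 10752) (.leaf 6941)) (.node (.leaf 12088) (.leaf 9727))))) (.node (.node (.node (.node (.leaf 15042) (.leaf 1483)) (.node (.leaf 9516) (.leaf 2492))) (.node (.node (.leaf 7789) (.leaf 14362)) (.node (.leaf 15185) (.leaf 14558)))) (.node (.node (.node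 (.leaf 5230) (.leaf 2504)) (.node (.leaf 3973) (.leaf 15929))) (.node (.node (.leaf 12147) (.leaf 8039)) (.node (.leaf 1594) (.leaf 3651)))))) (.node (.node (.node (.node (.node (.leaf 3150) (.leaf 5830)) (.node (.leaf 9928) (.leaf 14686))) (.node (.node (.leaf 10604) (.leaf 15949)) (.node (.leaf 387) (.leaf 6817)))) (.node (.node (.node (.leaf 5091) (.leaf 14464)) (.node (.leaf 7374) (.leaf 8301))) (.node (.node (.leaf 2628) (.leaf 15238)) (.node (.leaf 2486) (.leaf 15081))))) (.node (.node (.node (.node (.leaf 6343) (.leaf 6385)) (.node (.leaf 13745) (.leaf 7270))) (.node (.node (.leaf 189) (.leaf 3312)) (.node (.leaf 14110) (.leaf 10450)))) (.node (.node (.node (.leaf 5362) (.leaf 12592)) (.node (.leaf 14889) (.leaf 9040))) (.node (.node (.leaf 3956) (.leaf 7618)) (.leaf 14450)))))) (.node (.node (.node (.node (.node (.node (.leaf 11158) (.leaf 14670)) (.node (.leaf 4584) (.leaf 1825))) (.node (.node (.leaf 6841) (.leaf 15161)) (.node (.leaf 12741) (.leaf 10944)))) (.node (.node (.node (.leaf 7603)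 (.leaf 14142)) (.node (.leaf 1988) (.leaf 15245))) (.node (.node (.leaf 9633) (.leaf 198)) (.node (.leaf 10983) (.leaf 9306))))) (.node (.node (.node (.node (.leaf 14285) (.leaf 5449)) (.node (.leaf 3448) (.leaf 5154))) (.node (.node (.leaf 15247) (.leaf 11299)) (.node (.leaf 6675) (.leaf 4305)))) (.node (.node (.node (.leaf 14527) (.leaf 7079)) (.node (.leaf 774) (.leaf 7215))) (.node (.node (.leaf 2498) (.leaf 1607)) (.leaf 1209))))) (.node (.node (.node (.node (.node (.leaf 2949) (.leaf 6473)) (.node (.leaf 7940) (.leaf 8980))) (.node (.node (.leaf 10719) (.leaf 12039)) (.node (.leaf 13766) (.leaf 1103)))) (.node (.node (.node (.leaf 12127) (.leaf 14642)) (.node (.leaf 1818) (.leaf 7955))) (.node (.node (.leaf 12740) (.leaf 12256)) (.node (.leaf 11754) (.leaf 1671))))) (.node (.node (.node (.node (.leaf 3153) (.leaf 1914)) (.node (.leaf 15176) (.leaf 2525))) (.node (.node (.leaf 13905) (.leaf 13809)) (.node (.leaf 14275) (.leaf 8552)))) (.node (.node (.node (.leaf 14318) (.leaf 10971)) (.node (.leaf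 15809) (.leaf 14012))) (.node (.node (.leaf 7699) (.leaf 7059)) (.leaf 451))))))) (.node (.node (.node (.node (.node (.node (.node (.leaf 13619) (.leaf 11348)) (.node (.leaf 463) (.leaf 4960))) (.node (.node (.leaf 12636) (.leaf 13885)) (.node (.leaf 10210) (.leaf 1809)))) (.node (.node (.node (.leaf 10746) (.leaf 4893)) (.node (.leaf 10127) (.leaf 14179))) (.node (.node (.leaf 6218) (.leaf 8275)) (.node (.leaf 10018) (.leaf 5431))))) (.node (.node (.node (.node (.leaf 10288) (.leaf 8922)) (.node (.leaf 9753) (.leaf 2427))) (.node (.node (.leaf 15894) (.leaf 13050)) (.node (.leaf 13541) (.leaf 2104)))) (.node (.node (.node (.leaf 9454) (.leaf 8395)) (.node (.leaf 5601) (.leaf 8107))) (.node (.node (.leaf 6778) (.leaf 11651)) (.leaf 9717))))) (.node (.node (.node (.node (.node (.leaf 12293) (.leaf 11758)) (.node (.leaf 14823) (.leaf 1723))) (.node (.node (.leaf 6911) (.leaf 10448)) (.node (.leaf 11137) (.leaf 9999)))) (.node (.node (.node (.leaf 1274) (.leaf 4276)) (.node (.leaf 13529) (.leaf 5674)))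 (.node (.node (.leaf 13835) (.leaf 15842)) (.node (.leaf 2006) (.leaf 6637))))) (.node (.node (.node (.node (.leaf 4339) (.leaf 10794)) (.node (.leaf 1129) (.leaf 4996))) (.node (.node (.leaf 8074) (.leaf 1963)) (.node (.leaf 3797) (.leaf 6509)))) (.node (.node (.node (.leaf 10838) (.leaf 12826)) (.node (.leaf 3143) (.leaf 9348))) (.node (.node (.leaf 6978) (.leaf 11552)) (.leaf 8493)))))) (.node (.node (.node (.node (.node (.node (.leaf 15217) (.leaf 14874)) (.node (.leaf 7001) (.leaf 9046))) (.node (.node (.leaf 6264) (.leaf 2520)) (.node (.leaf 10167) (.leaf 11136)))) (.node (.node (.node (.leaf 10936) (.leaf 814)) (.node (.leaf 2986) (.leaf 8859))) (.node (.node (.leaf 12651) (.leaf 1202)) (.node (.leaf 6550) (.leaf 1132))))) (.node (.node (.node (.node (.leaf 15298) (.leaf 2224)) (.node (.leaf 7751) (.leaf 8161))) (.node (.node (.leaf 6057) (.leaf 3081)) (.node (.leaf 15090) (.leaf 3268)))) (.node (.node (.node (.leaf 10102) (.leaf 765)) (.node (.leaf 11375) (.leaf 14421))) (.node (.node (.leaf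 8368) (.leaf 11201)) (.leaf 2211))))) (.node (.node (.node (.node (.node (.leaf 12629) (.leaf 3627)) (.node (.leaf 6185) (.leaf 1714))) (.node (.node (.leaf 2959) (.leaf 14383)) (.node (.leaf 1721) (.leaf 3145)))) (.node (.node (.node (.leaf 10460) (.leaf 1889)) (.node (.leaf 2041) (.leaf 1206))) (.node (.node (.leaf 5827) (.leaf 10620)) (.node (.leaf 8068) (.leaf 593))))) (.node (.node (.node (.node (.leaf 11797) (.leaf 5972)) (.node (.leaf 15254) (.leaf 14053))) (.node (.node (.leaf 2266) (.leaf 4377)) (.node (.leaf 2832) (.leaf 12360)))) (.node (.node (.node (.leaf 2597) (.leaf 10756)) (.node (.leaf 2641) (.leaf 15067))) (.node (.node (.leaf 4778) (.leaf 644)) (.leaf 5494)))))))) (.node (.node (.node (.node (.node (.node (.node (.node (.leaf 13617) (.leaf 3369)) (.node (.leaf 10809) (.leaf 3597))) (.node (.node (.leaf 13554) (.leaf 9631)) (.node (.leaf 1339) (.leaf 1023)))) (.node (.node (.node (.leaf 15264) (.leaf 9062)) (.node (.leaf 6980) (.leaf 9603))) (.node (.node (.leaf 10183) (.leaf 3308))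 (.node (.leaf 7966) (.leaf 12328))))) (.node (.node (.node (.node (.leaf 12998) (.leaf 6750)) (.node (.leaf 9279) (.leaf 8294))) (.node (.node (.leaf 11987) (.leaf 5162)) (.node (.leaf 12904) (.leaf 8864)))) (.node (.node (.node (.leaf 8463) (.leaf 3835)) (.node (.leaf 5266) (.leaf 1264))) (.node (.node (.leaf 5668) (.leaf 1597)) (.node (.leaf 9707) (.leaf 3421)))))) (.node (.node (.node (.node (.node (.leaf 2859) (.leaf 11320)) (.node (.leaf 8165) (.leaf 1455))) (.node (.node (.leaf 10980) (.leaf 10997)) (.node (.leaf 2408) (.leaf 11114)))) (.node (.node (.node (.leaf 3127) (.leaf 13642)) (.node (.leaf 10651) (.leaf 8324))) (.node (.node (.leaf 7265) (.leaf 1269)) (.node (.leaf 6303) (.leaf 254))))) (.node (.node (.node (.node (.leaf 8628) (.leaf 7156)) (.node (.leaf 10895) (.leaf 11614))) (.node (.node (.leaf 10050) (.leaf 11893)) (.node (.leaf 2585) (.leaf 8497)))) (.node (.node (.node (.leaf 5237) (.leaf 1654)) (.node (.leaf 5834) (.leaf 7208))) (.node (.node (.leaf 8495) (.leaf 13359)) (.leaf 13358))))))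 (.node (.node (.node (.node (.node (.node (.leaf 3175) (.leaf 197)) (.node (.leaf 4025) (.leaf 9353))) (.node (.node (.leaf 3047) (.leaf 12145)) (.node (.leaf 13963) (.leaf 6362)))) (.node (.node (.node (.leaf 14331) (.leaf 2283)) (.node (.leaf 1374) (.leaf 6284))) (.node (.node (.leaf 2047) (.leaf 10114)) (.node (.leaf 9061) (.leaf 13410))))) (.node (.node (.node (.node (.leaf 6342) (.leaf 11929)) (.node (.leaf 6301) (.leaf 685))) (.node (.node (.leaf 8043) (.leaf 5837)) (.node (.leaf 13391) (.leaf 826)))) (.node (.node (.node (.leaf 6241) (.leaf 4857)) (.node (.leaf 2637) (.leaf 9258))) (.node (.node (.leaf 5055) (.leaf 14510)) (.leaf 4249))))) (.node (.node (.node (.node (.node (.leaf 6704) (.leaf 12396)) (.node (.leaf 9240) (.leaf 12))) (.node (.node (.leaf 5015) (.leaf 952)) (.node (.leaf 10580) (.leaf 10760)))) (.node (.node (.node (.leaf 13037) (.leaf 11296)) (.node (.leaf 10910) (.leaf 13788))) (.node (.node (.leaf 9657) (.leaf 4851)) (.node (.leaf 202) (.leaf 12962))))) (.node (.node (.node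 (.node (.leaf 12699) (.leaf 14894)) (.node (.leaf 376) (.leaf 5038))) (.node (.node (.leaf 10346) (.leaf 8083)) (.node (.leaf 92) (.leaf 2329)))) (.node (.node (.node (.leaf 11880) (.leaf 8149)) (.node (.leaf 3431) (.leaf 1961))) (.node (.node (.leaf 3065) (.leaf 14046)) (.leaf 12932))))))) (.node (.node (.node (.node (.node (.node (.node (.leaf 14747) (.leaf 11288)) (.node (.leaf 65) (.leaf 12398))) (.node (.node (.leaf 9005) (.leaf 3734)) (.node (.leaf 12272) (.leaf 58)))) (.node (.node (.node (.leaf 7450) (.leaf 14925)) (.node (.leaf 3041) (.leaf 15147))) (.node (.node (.leaf 7000) (.leaf 4731)) (.node (.leaf 6449) (.leaf 4549))))) (.node (.node (.node (.node (.leaf 9016) (.leaf 6153)) (.node (.leaf 8878) (.leaf 12244))) (.node (.node (.leaf 3724) (.leaf 11765)) (.node (.leaf 1571) (.leaf 3134)))) (.node (.node (.node (.leaf 6689) (.leaf 8271)) (.node (.leaf 13646) (.leaf 7581))) (.node (.node (.leaf 220) (.leaf 15822)) (.leaf 7064))))) (.node (.node (.node (.node (.node (.leaf 651) (.leaf 11840))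 (.node (.leaf 6969) (.leaf 15233))) (.node (.node (.leaf 14709) (.leaf 13066)) (.node (.leaf 13641) (.leaf 11048)))) (.node (.node (.node (.leaf 5332) (.leaf 6981)) (.node (.leaf 3469) (.leaf 3323))) (.node (.node (.leaf 12632) (.leaf 301)) (.node (.leaf 7921) (.leaf 5881))))) (.node (.node (.node (.node (.leaf 14287) (.leaf 3218)) (.node (.leaf 14354) (.leaf 6140))) (.node (.node (.leaf 4934) (.leaf 7350)) (.node (.leaf 12442) (.leaf 8172)))) (.node (.node (.node (.leaf 4031) (.leaf 7976)) (.node (.leaf 2677) (.leaf 3584))) (.node (.node (.leaf 3775) (.leaf 6862)) (.leaf 15025)))))) (.node (.node (.node (.node (.node (.node (.leaf 13702) (.leaf 14937)) (.node (.leaf 3829) (.leaf 15108))) (.node (.node (.leaf 11527) (.leaf 9996)) (.node (.leaf 9001) (.leaf 9365)))) (.node (.node (.node (.leaf 416) (.leaf 4968)) (.node (.leaf 12038) (.leaf 9476))) (.node (.node (.leaf 13263) (.leaf 3733)) (.node (.leaf 3554) (.leaf 3321))))) (.node (.node (.node (.node (.leaf 12436) (.leaf 925)) (.node (.leaf 808) (.leaf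 2207))) (.node (.node (.leaf 1659) (.leaf 13838)) (.node (.leaf 606) (.leaf 11590)))) (.node (.node (.node (.leaf 8754) (.leaf 10772)) (.node (.leaf 11823) (.leaf 11739))) (.node (.node (.leaf 9934) (.leaf 8331)) (.leaf 5592))))) (.node (.node (.node (.node (.node (.leaf 13705) (.leaf 448)) (.node (.leaf 4292) (.leaf 1148))) (.node (.node (.leaf 6592) (.leaf 1712)) (.node (.leaf 12868) (.leaf 9779)))) (.node (.node (.node (.leaf 2591) (.leaf 4910)) (.node (.leaf 11857) (.leaf 13472))) (.node (.node (.leaf 13961) (.leaf 15804)) (.node (.leaf 6548) (.leaf 14671))))) (.node (.node (.node (.node (.leaf 5368) (.leaf 12041)) (.node (.leaf 7465) (.leaf 6481))) (.node (.node (.leaf 15589) (.leaf 4403)) (.node (.leaf 12378) (.leaf 12037)))) (.node (.node (.node (.leaf 11668) (.leaf 10872)) (.node (.leaf 2033) (.leaf 5471))) (.node (.node (.leaf 11767) (.leaf 13006)) (.leaf 2433))))))))))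

def lineOrder15 : Tree (ℕ) :=
  (.node (.node (.node (.node (.node (.node (.node (.node (.node (.node (.leaf 2537) (.leaf 1043)) (.node (.leaf 11858) (.leaf 9596))) (.node (.node (.leaf 4436) (.leaf 15860)) (.node (.leaf 2376) (.leaf 4343)))) (.node (.node (.node (.leaf 15788) (.leaf 990)) (.node (.leaf 4324) (.leaf 1911))) (.node (.node (.leaf 13186) (.leaf 14233)) (.node (.leaf 4395) (.leaf 6309))))) (.node (.node (.node (.node (.leaf 1272) (.leaf 12365)) (.node (.leaf 3149) (.leaf 12909))) (.node (.node (.leaf 5382) (.leaf 1472)) (.node (.leaf 6358) (.leaf 6644)))) (.node (.node (.node (.leaf 1035) (.leaf 6023)) (.node (.leaf 14966) (.leaf 2217))) (.node (.node (.leaf 1591) (.leaf 5638)) (.node (.leaf 15403) (.leaf 8017)))))) (.node (.node (.node (.node (.node (.leaf 1642) (.leaf 8305)) (.node (.leaf 12452) (.leaf 13058))) (.node (.node (.leaf 7683) (.leaf 1913)) (.node (.leaf 5011) (.leaf 10482)))) (.node (.node (.node (.leaf 4333) (.leaf 222)) (.node (.leaf 7872) (.leaf 874))) (.node (.node (.leaf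 6027) (.leaf 14952)) (.node (.leaf 12203) (.leaf 2824))))) (.node (.node (.node (.node (.leaf 5235) (.leaf 10358)) (.node (.leaf 4267) (.leaf 3325))) (.node (.node (.leaf 7105) (.leaf 6574)) (.node (.leaf 7938) (.leaf 12385)))) (.node (.node (.node (.leaf 13253) (.leaf 13422)) (.node (.leaf 2708) (.leaf 12472))) (.node (.node (.leaf 3885) (.leaf 6525)) (.leaf 175)))))) (.node (.node (.node (.node (.node (.node (.leaf 545) (.leaf 1807)) (.node (.leaf 5946) (.leaf 4656))) (.node (.node (.leaf 5746) (.leaf 8631)) (.node (.leaf 1603) (.leaf 13761)))) (.node (.node (.node (.leaf 5346) (.leaf 46)) (.node (.leaf 12245) (.leaf 13122))) (.node (.node (.leaf 10913) (.leaf 2779)) (.node (.leaf 12225) (.leaf 8737))))) (.node (.node (.node (.node (.leaf 7) (.leaf 9546)) (.node (.leaf 13840) (.leaf 15857))) (.node (.node (.leaf 12181) (.leaf 11372)) (.node (.leaf 4738) (.leaf 7628)))) (.node (.node (.node (.leaf 14993) (.leaf 3401)) (.node (.leaf 52) (.leaf 9159))) (.node (.node (.leaf 8523) (.leaf 14768)) (.leaf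 15927))))) (.node (.node (.node (.node (.node (.leaf 12438) (.leaf 11482)) (.node (.leaf 743) (.leaf 2245))) (.node (.node (.leaf 9977) (.leaf 10123)) (.node (.leaf 10521) (.leaf 7918)))) (.node (.node (.node (.leaf 10105) (.leaf 6219)) (.node (.leaf 7518) (.leaf 5279))) (.node (.node (.leaf 1601) (.leaf 4651)) (.node (.leaf 10722) (.leaf 5602))))) (.node (.node (.node (.node (.leaf 5720) (.leaf 4264)) (.node (.leaf 8030) (.leaf 1927))) (.node (.node (.leaf 12797) (.leaf 1508)) (.node (.leaf 8658) (.leaf 15718)))) (.node (.node (.node (.leaf 7231) (.leaf 9345)) (.node (.leaf 3985) (.leaf 4429))) (.node (.node (.leaf 13651) (.leaf 786)) (.leaf 13461))))))) (.node (.node (.node (.node (.node (.node (.node (.leaf 3178) (.leaf 108)) (.node (.leaf 15565) (.leaf 13931))) (.node (.node (.leaf 3022) (.leaf 8880)) (.node (.leaf 12216) (.leaf 2054)))) (.node (.node (.node (.leaf 13156) (.leaf 4886)) (.node (.leaf 3265) (.leaf 8676))) (.node (.node (.leaf 11678) (.leaf 4860)) (.node (.leaf 14931) (.leaf 1346)))))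 (.node (.node (.node (.node (.leaf 7187) (.leaf 1136)) (.node (.leaf 13336) (.leaf 4475))) (.node (.node (.leaf 7841) (.leaf 15696)) (.node (.leaf 104) (.leaf 5959)))) (.node (.node (.node (.leaf 3157) (.leaf 3632)) (.node (.leaf 11736) (.leaf 2400))) (.node (.node (.leaf 4902) (.leaf 8666)) (.node (.leaf 10795) (.leaf 13204)))))) (.node (.node (.node (.node (.node (.leaf 9742) (.leaf 9157)) (.node (.leaf 4281) (.leaf 8267))) (.node (.node (.leaf 5281) (.leaf 4195)) (.node (.leaf 6470) (.leaf 1923)))) (.node (.node (.node (.leaf 15044) (.leaf 7172)) (.node (.leaf 14296) (.leaf 5516))) (.node (.node (.leaf 4570) (.leaf 936)) (.node (.leaf 2792) (.leaf 13014))))) (.node (.node (.node (.node (.leaf 14713) (.leaf 10254)) (.node (.leaf 10165) (.leaf 4792))) (.node (.node (.leaf 10582) (.leaf 13101)) (.node (.leaf 5122) (.leaf 12912)))) (.node (.node (.node (.leaf 7539) (.leaf 15243)) (.node (.leaf 14043) (.leaf 3796))) (.node (.node (.leaf 13357) (.leaf 9109)) (.leaf 2646)))))) (.node (.node (.node (.node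 (.node (.node (.leaf 6323) (.leaf 9681)) (.node (.leaf 11412) (.leaf 5164))) (.node (.node (.leaf 8369) (.leaf 11659)) (.node (.leaf 1593) (.leaf 12198)))) (.node (.node (.node (.leaf 1931) (.leaf 8194)) (.node (.leaf 13546) (.leaf 5833))) (.node (.node (.leaf 12958) (.leaf 7664)) (.node (.leaf 11731) (.leaf 13627))))) (.node (.node (.node (.node (.leaf 2239) (.leaf 5606)) (.node (.leaf 14405) (.leaf 9799))) (.node (.node (.leaf 9608) (.leaf 6006)) (.node (.leaf 13562) (.leaf 13069)))) (.node (.node (.node (.leaf 12312) (.leaf 273)) (.node (.leaf 669) (.leaf 15030))) (.node (.node (.leaf 12263) (.leaf 7705)) (.leaf 2667))))) (.node (.node (.node (.node (.node (.leaf 2065) (.leaf 4942)) (.node (.leaf 14327) (.leaf 7800))) (.node (.node (.leaf 14846) (.leaf 2446)) (.node (.leaf 15339) (.leaf 7264)))) (.node (.node (.node (.leaf 1493) (.leaf 11972)) (.node (.leaf 11177) (.leaf 11863))) (.node (.node (.leaf 10215) (.leaf 7055)) (.node (.leaf 14258) (.leaf 1018))))) (.node (.node (.node (.node (.leaf 11713)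 (.leaf 2361)) (.node (.leaf 15348) (.leaf 7985))) (.node (.node (.leaf 9855) (.leaf 378)) (.node (.leaf 550) (.leaf 1821)))) (.node (.node (.node (.leaf 14719) (.leaf 4812)) (.node (.leaf 11603) (.leaf 6419))) (.node (.node (.leaf 993) (.leaf 2130)) (.leaf 2444)))))))) (.node (.node (.node (.node (.node (.node (.node (.node (.leaf 3173) (.leaf 5193)) (.node (.leaf 5815) (.leaf 12165))) (.node (.node (.leaf 15158) (.leaf 3827)) (.node (.leaf 10191) (.leaf 3402)))) (.node (.node (.node (.leaf 10429) (.leaf 490)) (.node (.leaf 4251) (.leaf 8687))) (.node (.node (.leaf 10952) (.leaf 12807)) (.node (.leaf 3088) (.leaf 8983))))) (.node (.node (.node (.node (.leaf 10694) (.leaf 13560)) (.node (.leaf 13830) (.leaf 2051))) (.node (.node (.leaf 14239) (.leaf 9480)) (.node (.leaf 10914) (.leaf 11170)))) (.node (.node (.node (.leaf 8787) (.leaf 2972)) (.node (.leaf 4174) (.leaf 8710))) (.node (.node (.leaf 5459) (.leaf 15201)) (.node (.leaf 10570) (.leaf 6265)))))) (.node (.node (.node (.node (.node (.leaf 7607)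 (.leaf 1880)) (.node (.leaf 15182) (.leaf 14593))) (.node (.node (.leaf 9842) (.leaf 15823)) (.node (.leaf 8829) (.leaf 13778)))) (.node (.node (.node (.leaf 2250) (.leaf 4353)) (.node (.leaf 13469) (.leaf 9881))) (.node (.node (.leaf 12563) (.leaf 12957)) (.node (.leaf 3204) (.leaf 2190))))) (.node (.node (.node (.node (.leaf 12722) (.leaf 1798)) (.node (.leaf 12274) (.leaf 3412))) (.node (.node (.leaf 6363) (.leaf 13184)) (.node (.leaf 4322) (.leaf 13994)))) (.node (.node (.node (.leaf 2555) (.leaf 14292)) (.node (.leaf 13810) (.leaf 2738))) (.node (.node (.leaf 12794) (.leaf 5532)) (.leaf 3572)))))) (.node (.node (.node (.node (.node (.node (.leaf 14776) (.leaf 8394)) (.node (.leaf 13010) (.leaf 9675))) (.node (.node (.leaf 1061) (.leaf 14057)) (.node (.leaf 6486) (.leaf 6191)))) (.node (.node (.node (.leaf 2619) (.leaf 4329)) (.node (.leaf 1806) (.leaf 9290))) (.node (.node (.leaf 2306) (.leaf 1808)) (.node (.leaf 10354) (.leaf 1364))))) (.node (.node (.node (.node (.leaf 1832) (.leaf 736)) (.node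 (.leaf 5320) (.leaf 11845))) (.node (.node (.leaf 1075) (.leaf 112)) (.node (.leaf 8531) (.leaf 1088)))) (.node (.node (.node (.leaf 11881) (.leaf 11640)) (.node (.leaf 4523) (.leaf 10182))) (.node (.node (.leaf 7419) (.leaf 6582)) (.leaf 2470))))) (.node (.node (.node (.node (.node (.leaf 1831) (.leaf 8556)) (.node (.leaf 10376) (.leaf 2447))) (.node (.node (.leaf 4854) (.leaf 14409)) (.node (.leaf 428) (.leaf 7361)))) (.node (.node (.node (.leaf 1428) (.leaf 11747)) (.node (.leaf 12459) (.leaf 4118))) (.node (.node (.leaf 15496) (.leaf 2326)) (.node (.leaf 6212) (.leaf 13052))))) (.node (.node (.node (.node (.leaf 3386) (.leaf 211)) (.node (.leaf 12303) (.leaf 3789))) (.node (.node (.leaf 2375) (.leaf 8169)) (.node (.leaf 11608) (.leaf 231)))) (.node (.node (.node (.leaf 6712) (.leaf 5789)) (.node (.leaf 3795) (.leaf 1297))) (.node (.node (.leaf 13145) (.leaf 8954)) (.leaf 9834))))))) (.node (.node (.node (.node (.node (.node (.node (.leaf 14770) (.leaf 7135)) (.node (.leaf 12555) (.leaf 4920))) (.node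 (.node (.leaf 6489) (.leaf 11696)) (.node (.leaf 8685) (.leaf 10705)))) (.node (.node (.node (.leaf 10468) (.leaf 15172)) (.node (.leaf 6517) (.leaf 10035))) (.node (.node (.leaf 12780) (.leaf 8363)) (.node (.leaf 5765) (.leaf 2480))))) (.node (.node (.node (.node (.leaf 6701) (.leaf 4114)) (.node (.leaf 18) (.leaf 7480))) (.node (.node (.leaf 6758) (.leaf 4773)) (.node (.leaf 15830) (.leaf 2866)))) (.node (.node (.node (.leaf 12626) (.leaf 4091)) (.node (.leaf 226) (.leaf 7573))) (.node (.node (.leaf 1315) (.leaf 7774)) (.leaf 5102))))) (.node (.node (.node (.node (.node (.leaf 14333) (.leaf 10188)) (.node (.leaf 8389) (.leaf 9080))) (.node (.node (.leaf 1543) (.leaf 9625)) (.node (.leaf 10940) (.leaf 4196)))) (.node (.node (.node (.leaf 8919) (.leaf 13430)) (.node (.leaf 2518) (.leaf 367))) (.node (.node (.leaf 6400) (.leaf 4762)) (.node (.leaf 4308) (.leaf 6084))))) (.node (.node (.node (.node (.leaf 10837) (.leaf 1128)) (.node (.leaf 10662) (.leaf 4530))) (.node (.node (.leaf 12708) (.leaf 15546))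 (.node (.leaf 9429) (.leaf 557)))) (.node (.node (.node (.leaf 2252) (.leaf 2516)) (.node (.leaf 9319) (.leaf 7391))) (.node (.node (.leaf 13182) (.leaf 14071)) (.leaf 6504)))))) (.node (.node (.node (.node (.node (.node (.leaf 11499) (.leaf 2505)) (.node (.leaf 5951) (.leaf 12479))) (.node (.node (.leaf 14981) (.leaf 3788)) (.node (.leaf 4786) (.leaf 10139)))) (.node (.node (.node (.leaf 5726) (.leaf 9301)) (.node (.leaf 11645) (.leaf 11236))) (.node (.node (.leaf 7523) (.leaf 5206)) (.node (.leaf 3397) (.leaf 4533))))) (.node (.node (.node (.node (.leaf 11718) (.leaf 3359)) (.node (.leaf 14519) (.leaf 1481))) (.node (.node (.leaf 6015) (.leaf 8858)) (.node (.leaf 13783) (.leaf 3432)))) (.node (.node (.node (.leaf 2613) (.leaf 13600)) (.node (.leaf 9293) (.leaf 10868))) (.node (.node (.leaf 5371) (.leaf 3771)) (.leaf 13756))))) (.node (.node (.node (.node (.node (.leaf 12693) (.leaf 1844)) (.node (.leaf 12773) (.leaf 2097))) (.node (.node (.leaf 6869) (.leaf 1212)) (.node (.leaf 7627) (.leaf 5763))))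 (.node (.node (.node (.leaf 4338) (.leaf 11003)) (.node (.leaf 11930) (.leaf 4246))) (.node (.node (.leaf 9991) (.leaf 13459)) (.node (.leaf 14895) (.leaf 9585))))) (.node (.node (.node (.node (.leaf 15041) (.leaf 15614)) (.node (.leaf 13690) (.leaf 11355))) (.node (.node (.leaf 626) (.leaf 3115)) (.node (.leaf 4811) (.leaf 3934)))) (.node (.node (.node (.leaf 15377) (.leaf 10193)) (.node (.leaf 15315) (.leaf 3639))) (.node (.node (.leaf 5283) (.leaf 3759)) (.leaf 7337))))))))) (.node (.node (.node (.node (.node (.node (.node (.node (.node (.leaf 10634) (.leaf 14483)) (.node (.leaf 1390) (.leaf 4701))) (.node (.node (.leaf 12680) (.leaf 7492)) (.node (.leaf 5865) (.leaf 14986)))) (.node (.node (.node (.leaf 6245) (.leaf 1869)) (.node (.leaf 7951) (.leaf 4168))) (.node (.node (.leaf 7280) (.leaf 2909)) (.node (.leaf 13831) (.leaf 13671))))) (.node (.node (.node (.node (.leaf 8) (.leaf 2998)) (.node (.leaf 2117) (.leaf 8379))) (.node (.node (.leaf 7945) (.leaf 6440)) (.node (.leaf 8861) (.leaf 13266))))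 (.node (.node (.node (.leaf 2852) (.leaf 12092)) (.node (.leaf 2222) (.leaf 3731))) (.node (.node (.leaf 477) (.leaf 8251)) (.node (.leaf 2526) (.leaf 13544)))))) (.node (.node (.node (.node (.node (.leaf 14526) (.leaf 2118)) (.node (.leaf 12869) (.leaf 3460))) (.node (.node (.leaf 8273) (.leaf 4166)) (.node (.leaf 5942) (.leaf 2742)))) (.node (.node (.node (.leaf 4980) (.leaf 5910)) (.node (.leaf 2487) (.leaf 4827))) (.node (.node (.leaf 7969) (.leaf 10382)) (.node (.leaf 1233) (.leaf 13312))))) (.node (.node (.node (.node (.leaf 7232) (.leaf 11941)) (.node (.leaf 12003) (.leaf 12805))) (.node (.node (.leaf 4606) (.leaf 7707)) (.node (.leaf 6968) (.leaf 1974)))) (.node (.node (.node (.leaf 7027) (.leaf 11300)) (.node (.leaf 115) (.leaf 6554))) (.node (.node (.leaf 1783) (.leaf 10140)) (.leaf 10306)))))) (.node (.node (.node (.node (.node (.node (.leaf 8848) (.leaf 5579)) (.node (.leaf 1897) (.leaf 449))) (.node (.node (.leaf 7448) (.leaf 11956)) (.node (.leaf 576) (.leaf 14447)))) (.node (.node (.node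 (.leaf 5711) (.leaf 14268)) (.node (.leaf 7795) (.leaf 2168))) (.node (.node (.leaf 4488) (.leaf 13081)) (.node (.leaf 1613) (.leaf 600))))) (.node (.node (.node (.node (.leaf 10847) (.leaf 2089)) (.node (.leaf 6621) (.leaf 9866))) (.node (.node (.leaf 11161) (.leaf 6289)) (.node (.leaf 9765) (.leaf 852)))) (.node (.node (.node (.leaf 3158) (.leaf 7253)) (.node (.leaf 10316) (.leaf 9622))) (.node (.node (.leaf 8377) (.leaf 15941)) (.leaf 619))))) (.node (.node (.node (.node (.node (.leaf 14313) (.leaf 7107)) (.node (.leaf 5990) (.leaf 450))) (.node (.node (.leaf 9468) (.leaf 9752)) (.node (.leaf 4359) (.leaf 11245)))) (.node (.node (.node (.leaf 15210) (.leaf 10729)) (.node (.leaf 11698) (.leaf 1369))) (.node (.node (.leaf 578) (.leaf 11573)) (.node (.leaf 4624) (.leaf 13669))))) (.node (.node (.node (.node (.leaf 14525) (.leaf 12742)) (.node (.leaf 13564) (.leaf 1001))) (.node (.node (.leaf 10689) (.leaf 624)) (.node (.leaf 9129) (.leaf 1634)))) (.node (.node (.node (.leaf 2945) (.leaf 7709)) (.node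 (.leaf 12156) (.leaf 11278))) (.node (.node (.leaf 2337) (.leaf 672)) (.leaf 8981))))))) (.node (.node (.node (.node (.node (.node (.node (.leaf 9239) (.leaf 12012)) (.node (.leaf 3664) (.leaf 4900))) (.node (.node (.leaf 3706) (.leaf 8709)) (.node (.leaf 14730) (.leaf 5054)))) (.node (.node (.node (.leaf 13304) (.leaf 8326)) (.node (.leaf 11626) (.leaf 13467))) (.node (.node (.leaf 9250) (.leaf 10601)) (.node (.leaf 5832) (.leaf 12855))))) (.node (.node (.node (.node (.leaf 7455) (.leaf 15638)) (.node (.leaf 4843) (.leaf 1375))) (.node (.node (.leaf 7461) (.leaf 912)) (.node (.leaf 4472) (.leaf 5141)))) (.node (.node (.node (.leaf 12725) (.leaf 10247)) (.node (.leaf 2732) (.leaf 567))) (.node (.node (.leaf 1841) (.leaf 10069)) (.leaf 8227))))) (.node (.node (.node (.node (.node (.leaf 2062) (.leaf 3896)) (.node (.leaf 4956) (.leaf 2549))) (.node (.node (.leaf 5969) (.leaf 845)) (.node (.leaf 13913) (.leaf 12876)))) (.node (.node (.node (.leaf 1037) (.leaf 4928)) (.node (.leaf 8504) (.leaf 9731))) (.node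 (.node (.leaf 10769) (.leaf 14720)) (.node (.leaf 9874) (.leaf 2670))))) (.node (.node (.node (.node (.leaf 2060) (.leaf 14094)) (.node (.leaf 9706) (.leaf 11188))) (.node (.node (.leaf 304) (.leaf 9168)) (.node (.leaf 3762) (.leaf 3252)))) (.node (.node (.node (.leaf 1745) (.leaf 10033)) (.node (.leaf 7045) (.leaf 5549))) (.node (.node (.leaf 1442) (.leaf 298)) (.leaf 6520)))))) (.node (.node (.node (.node (.node (.node (.leaf 12128) (.leaf 8959)) (.node (.leaf 14838) (.leaf 6551))) (.node (.node (.leaf 5064) (.leaf 1003)) (.node (.leaf 12640) (.leaf 13918)))) (.node (.node (.node (.leaf 14806) (.leaf 2691)) (.node (.leaf 15537) (.leaf 6460))) (.node (.node (.leaf 4241) (.leaf 9189)) (.node (.leaf 15616) (.leaf 5121))))) (.node (.node (.node (.node (.leaf 9748) (.leaf 3399)) (.node (.leaf 1401) (.leaf 6905))) (.node (.node (.leaf 2512) (.leaf 6279)) (.node (.leaf 5682) (.leaf 6069)))) (.node (.node (.node (.leaf 13370) (.leaf 1891)) (.node (.leaf 2459) (.leaf 3064))) (.node (.node (.leaf 1026) (.leaf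 6972)) (.leaf 4516))))) (.node (.node (.node (.node (.node (.leaf 9807) (.leaf 2142)) (.node (.leaf 8953) (.leaf 5776))) (.node (.node (.leaf 7589) (.leaf 4594)) (.node (.leaf 12064) (.leaf 2313)))) (.node (.node (.node (.leaf 7537) (.leaf 2629)) (.node (.leaf 2893) (.leaf 616))) (.node (.node (.leaf 10005) (.leaf 5199)) (.node (.leaf 7986) (.leaf 7631))))) (.node (.node (.node (.node (.leaf 9017) (.leaf 10812)) (.node (.leaf 8197) (.leaf 8761))) (.node (.node (.leaf 5539) (.leaf 11980)) (.node (.leaf 15317) (.leaf 10963)))) (.node (.node (.node (.leaf 1490) (.leaf 2331)) (.node (.leaf 14182) (.leaf 9824))) (.node (.node (.leaf 1013) (.leaf 5835)) (.leaf 15)))))))) (.node (.node (.node (.node (.node (.node (.node (.node (.leaf 9237) (.leaf 6884)) (.node (.leaf 11489) (.leaf 5587))) (.node (.node (.leaf 15679) (.leaf 4489)) (.node (.leaf 177) (.leaf 8361)))) (.node (.node (.node (.leaf 1465) (.leaf 7080)) (.node (.leaf 11224) (.leaf 5555))) (.node (.node (.leaf 7925) (.leaf 15635)) (.node (.leaf 4443)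 (.leaf 8547))))) (.node (.node (.node (.node (.leaf 6320) (.leaf 2841)) (.node (.leaf 1282) (.leaf 14566))) (.node (.node (.leaf 4799) (.leaf 9467)) (.node (.leaf 6044) (.leaf 1724)))) (.node (.node (.node (.leaf 4610) (.leaf 4863)) (.node (.leaf 11455) (.leaf 7122))) (.node (.node (.leaf 188) (.leaf 2528)) (.node (.leaf 2390) (.leaf 12757)))))) (.node (.node (.node (.node (.node (.leaf 5236) (.leaf 4703)) (.node (.leaf 6906) (.leaf 2800))) (.node (.node (.leaf 5856) (.leaf 11703)) (.node (.leaf 10771) (.leaf 2966)))) (.node (.node (.node (.leaf 8800) (.leaf 13234)) (.node (.leaf 7336) (.leaf 10780))) (.node (.node (.leaf 5210) (.leaf 8882)) (.node (.leaf 8502) (.leaf 5878))))) (.node (.node (.node (.node (.leaf 13487) (.leaf 10890)) (.node (.leaf 7158) (.leaf 602))) (.node (.node (.leaf 225) (.leaf 13283)) (.node (.leaf 4382) (.leaf 10479)))) (.node (.node (.node (.leaf 2851) (.leaf 11992)) (.node (.leaf 645) (.leaf 14530))) (.node (.node (.leaf 5463) (.leaf 6413)) (.leaf 6417)))))) (.node (.node (.node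 (.node (.node (.node (.leaf 1761) (.leaf 2018)) (.node (.leaf 5042) (.leaf 9063))) (.node (.node (.leaf 6742) (.leaf 475)) (.node (.leaf 133) (.leaf 15846)))) (.node (.node (.node (.leaf 10907) (.leaf 7473)) (.node (.leaf 2422) (.leaf 11294))) (.node (.node (.leaf 2894) (.leaf 3475)) (.node (.leaf 12819) (.leaf 6226))))) (.node (.node (.node (.node (.leaf 13442) (.leaf 5880)) (.node (.leaf 8408) (.leaf 14344))) (.node (.node (.leaf 5901) (.leaf 10011)) (.node (.leaf 12172) (.leaf 15888)))) (.node (.node (.node (.leaf 13382) (.leaf 5356)) (.node (.leaf 14467) (.leaf 2292))) (.node (.node (.leaf 1800) (.leaf 947)) (.leaf 1450))))) (.node (.node (.node (.node (.node (.leaf 2022) (.leaf 7432)) (.node (.leaf 4326) (.leaf 12324))) (.node (.node (.leaf 11589) (.leaf 13848)) (.node (.leaf 10592) (.leaf 13834)))) (.node (.node (.node (.leaf 10422) (.leaf 6286)) (.node (.leaf 12497) (.leaf 15890))) (.node (.node (.leaf 10258) (.leaf 3016)) (.node (.leaf 6142) (.leaf 15610))))) (.node (.node (.node (.node (.leaf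 5084) (.leaf 14124)) (.node (.leaf 3723) (.leaf 3610))) (.node (.node (.leaf 13650) (.leaf 4890)) (.node (.leaf 1971) (.leaf 3003)))) (.node (.node (.node (.leaf 5727) (.leaf 13806)) (.node (.leaf 12898) (.leaf 2888))) (.node (.node (.leaf 14428) (.leaf 13329)) (.leaf 1219))))))) (.node (.node (.node (.node (.node (.node (.node (.leaf 547) (.leaf 3187)) (.node (.leaf 5355) (.leaf 7436))) (.node (.node (.leaf 802) (.leaf 3078)) (.node (.leaf 5119) (.leaf 7179)))) (.node (.node (.node (.leaf 10505) (.leaf 4538)) (.node (.leaf 3636) (.leaf 1857))) (.node (.node (.leaf 11444) (.leaf 1755)) (.node (.leaf 14367) (.leaf 10785))))) (.node (.node (.node (.node (.leaf 11796) (.leaf 11186)) (.node (.leaf 12939) (.leaf 15937))) (.node (.node (.leaf 2902) (.leaf 3564)) (.node (.leaf 3240) (.leaf 10409)))) (.node (.node (.node (.leaf 5341) (.leaf 7866)) (.node (.leaf 13237) (.leaf 8825))) (.node (.node (.leaf 10051) (.leaf 11129)) (.leaf 12950))))) (.node (.node (.node (.node (.node (.leaf 1153) (.leaf 6872)) (.node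 (.leaf 167) (.leaf 10384))) (.node (.node (.leaf 6370) (.leaf 12559)) (.node (.leaf 13236) (.leaf 11213)))) (.node (.node (.node (.leaf 12315) (.leaf 2715)) (.node (.leaf 14683) (.leaf 5683))) (.node (.node (.leaf 3702) (.leaf 8071)) (.node (.leaf 2767) (.leaf 3563))))) (.node (.node (.node (.node (.leaf 10846) (.leaf 8204)) (.node (.leaf 9130) (.leaf 11663))) (.node (.node (.leaf 13932) (.leaf 6418)) (.node (.leaf 14660) (.leaf 15517)))) (.node (.node (.node (.leaf 11423) (.leaf 12762)) (.node (.leaf 6638) (.leaf 10754))) (.node (.node (.leaf 10342) (.leaf 4021)) (.leaf 13102)))))) (.node (.node (.node (.node (.node (.node (.leaf 8771) (.leaf 1438)) (.node (.leaf 12498) (.leaf 10987))) (.node (.node (.leaf 3473) (.leaf 12875)) (.node (.leaf 800) (.leaf 3213)))) (.node (.node (.node (.leaf 9573) (.leaf 4908)) (.node (.leaf 8796) (.leaf 9513))) (.node (.node (.leaf 14551) (.leaf 3074)) (.node (.leaf 8044) (.leaf 5681))))) (.node (.node (.node (.node (.leaf 5930) (.leaf 5169)) (.node (.leaf 9006) (.leaf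 13412))) (.node (.node (.leaf 13090) (.leaf 12081)) (.node (.leaf 9304) (.leaf 3587)))) (.node (.node (.node (.leaf 8914) (.leaf 2407)) (.node (.leaf 1289) (.leaf 8414))) (.node (.node (.leaf 1985) (.leaf 11461)) (.leaf 3319))))) (.node (.node (.node (.node (.node (.leaf 1645) (.leaf 1820)) (.node (.leaf 5254) (.leaf 5802))) (.node (.node (.leaf 13584) (.leaf 9940)) (.node (.leaf 4482) (.leaf 11825)))) (.node (.node (.node (.leaf 1492) (.leaf 5839)) (.node (.leaf 4971) (.leaf 1729))) (.node (.node (.leaf 131) (.leaf 14489)) (.node (.leaf 8740) (.leaf 5578))))) (.node (.node (.node (.node (.leaf 11684) (.leaf 7165)) (.node (.leaf 13628) (.leaf 12525))) (.node (.node (.leaf 179) (.leaf 13413)) (.node (.leaf 9685) (.leaf 13424)))) (.node (.node (.node (.leaf 6125) (.leaf 11894)) (.node (.leaf 4159) (.leaf 14132))) (.node (.node (.leaf 512) (.leaf 12569)) (.leaf 585))))))))))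

def lineOrder : Tree (ℕ) :=
  (.node (.node (.node (.node lineOrder0 lineOrder8) (.node lineOrder4 lineOrder12)) (.node (.node lineOrder2 lineOrder10) (.node lineOrder6 lineOrder14))) (.node (.node (.node lineOrder1 lineOrder9) (.node lineOrder5 lineOrder13)) (.node (.node lineOrder3 lineOrder11) (.node lineOrder7 lineOrder15))))

def baseVec : ℕ := 11530904239660351489

def borelScalar0 : Tree (ℕ) :=
  (.node (.node (.node (.leaf 1) (.leaf 3)) (.node (.leaf 5) (.leaf 4))) (.node (.node (.leaf 4) (.leaf 1)) (.leaf 9)))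

def borelScalar1 : Tree (ℕ) :=
  (.node (.node (.node (.leaf 7) (.leaf 10)) (.node (.leaf 2) (.leaf 6))) (.node (.node (.leaf 6) (.leaf 7)) (.leaf 8)))

def borelScalar2 : Tree (ℕ) :=
  (.node (.node (.node (.leaf 5) (.leaf 4)) (.node (.leaf 3) (.leaf 9))) (.node (.node (.leaf 9) (.leaf 5)) (.leaf 1)))

def borelScalar3 : Tree (ℕ) :=
  (.node (.node (.node (.leaf 2) (.leaf 6)) (.node (.leaf 10) (.leaf 8))) (.node (.node (.leaf 8) (.leaf 2)) (.leaf 7)))

def borelScalar4 : Tree (ℕ) :=
  (.node (.node (.node (.leaf 3) (.leaf 9)) (.node (.leaf 4) (.leaf 1))) (.node (.node (.leaf 1) (.leaf 3)) (.leaf 5)))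

def borelScalar5 : Tree (ℕ) :=
  (.node (.node (.node (.leaf 10) (.leaf 8)) (.node (.leaf 6) (.leaf 7))) (.node (.node (.leaf 7) (.leaf 10)) (.leaf 2)))

def borelScalar6 : Tree (ℕ) :=
  (.node (.node (.node (.leaf 4) (.leaf 1)) (.node (.leaf 9) (.leaf 5))) (.node (.node (.leaf 5) (.leaf 4)) (.leaf 3)))

def borelScalar7 : Tree (ℕ) :=
  (.node (.node (.node (.leaf 6) (.leaf 7)) (.node (.leaf 8) (.leaf 2))) (.node (.node (.leaf 2) (.leaf 6)) (.leaf 10)))

def borelScalar8 : Tree (ℕ) :=
  (.node (.node (.node (.leaf 9) (.leaf 5)) (.node (.leaf 1) (.leaf 3))) (.node (.node (.leaf 3) (.leaf 9)) (.leaf 4)))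

def borelScalar9 : Tree (ℕ) :=
  (.node (.node (.node (.leaf 8) (.leaf 2)) (.node (.leaf 7) (.leaf 10))) (.node (.node (.leaf 10) (.leaf 8)) (.leaf 6)))

def borelScalar10 : Tree (ℕ) :=
  (.node (.node (.node (.leaf 1) (.leaf 3)) (.node (.leaf 5) (.leaf 4))) (.node (.node (.leaf 4) (.leaf 1)) (.leaf 9)))

def borelScalar11 : Tree (ℕ) :=
  (.node (.node (.node (.leaf 7) (.leaf 10)) (.node (.leaf 2) (.leaf 6))) (.node (.node (.leaf 6) (.leaf 7)) (.leaf 8)))

def borelScalar12 : Tree (ℕ) :=
  (.node (.node (.node (.leaf 5) (.leaf 4)) (.node (.leaf 3) (.leaf 9))) (.node (.node (.leaf 9) (.leaf 5)) (.leaf 1)))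

def borelScalar13 : Tree (ℕ) :=
  (.node (.node (.node (.leaf 2) (.leaf 6)) (.node (.leaf 10) (.leaf 8))) (.node (.node (.leaf 8) (.leaf 2)) (.leaf 7)))

def borelScalar14 : Tree (ℕ) :=
  (.node (.node (.node (.leaf 3) (.leaf 9)) (.leaf 4)) (.node (.node (.leaf 1) (.leaf 3)) (.leaf 5)))

def borelScalar15 : Tree (ℕ) :=
  (.node (.node (.node (.leaf 10) (.leaf 8)) (.leaf 6)) (.node (.node (.leaf 7) (.leaf 10)) (.leaf 2)))

def borelScalar : Tree (ℕ) :=
  (.node (.node (.node (.node borelScalar0 borelScalar8) (.node borelScalar4 borelScalar12)) (.node (.node borelScalar2 borelScalar10) (.node borelScalar6 borelScalar14))) (.node (.node (.node borelScalar1 borelScalar9) (.node borelScalar5 borelScalar13)) (.node (.node borelScalar3 borelScalar11) (.node borelScalar7 borelScalar15))))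

def borelSch0 : Tree (ℕ × Bool) :=
  (.node (.node (.node (.leaf (0, false)) (.leaf (255, true))) (.node (.leaf (457, false)) (.leaf (234, false)))) (.node (.node (.leaf (179, true)) (.leaf (145, false))) (.leaf (582, false))))

def borelSch1 : Tree (ℕ × Bool) :=
  (.node (.node (.node (.leaf (444, true)) (.leaf (45, true))) (.node (.leaf (753, true)) (.leaf (1287, false)))) (.node (.node (.leaf (639, true)) (.leaf (489, false))) (.leaf (529, true))))

def borelSch2 : Tree (ℕ × Bool) :=
  (.node (.node (.node (.leaf (150, true)) (.leaf (799, false))) (.node (.leaf (504, true)) (.leaf (119, false)))) (.node (.node (.leaf (643, false)) (.leaf (341, false))) (.leaf (768, true))))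

def borelSch3 : Tree (ℕ × Bool) :=
  (.node (.node (.node (.leaf (344, false)) (.leaf (330, false))) (.node (.leaf (918, false)) (.leaf (158, false)))) (.node (.node (.leaf (753, false)) (.leaf (251, true))) (.leaf (129, false))))

def borelSch4 : Tree (ℕ × Bool) :=
  (.node (.node (.node (.leaf (375, true)) (.leaf (292, true))) (.node (.leaf (443, true)) (.leaf (606, false)))) (.node (.node (.leaf (13, false)) (.leaf (405, true))) (.leaf (880, false))))

def borelSch5 : Tree (ℕ × Bool) :=
  (.node (.node (.node (.leaf (290, false)) (.leaf (234, true))) (.node (.leaf (364, true)) (.leaf (526, false)))) (.node (.node (.leaf (781, true)) (.leaf (719, true))) (.leaf (378, true))))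

def borelSch6 : Tree (ℕ × Bool) :=
  (.node (.node (.node (.leaf (600, true)) (.leaf (365, false))) (.node (.leaf (122, false)) (.leaf (73, false)))) (.node (.node (.leaf (232, false)) (.leaf (372, false))) (.leaf (589, false))))

def borelSch7 : Tree (ℕ × Bool) :=
  (.node (.node (.node (.leaf (473, false)) (.leaf (114, true))) (.node (.leaf (397, false)) (.leaf (350, false)))) (.node (.node (.leaf (535, true)) (.leaf (570, true))) (.leaf (511, false))))

def borelSch8 : Tree (ℕ × Bool) :=
  (.node (.node (.node (.leaf (76, true)) (.leaf (1082, true))) (.node (.leaf (938, false)) (.leaf (282, true)))) (.node (.node (.leaf (475, true)) (.leaf (322, true))) (.leaf (852, true))))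

def borelSch9 : Tree (ℕ × Bool) :=
  (.node (.node (.node (.leaf (706, false)) (.leaf (451, false))) (.node (.leaf (812, true)) (.leaf (615, false)))) (.node (.node (.leaf (57, true)) (.leaf (510, true))) (.leaf (287, true))))

def borelSch10 : Tree (ℕ × Bool) :=
  (.node (.node (.node (.leaf (133, true)) (.leaf (269, true))) (.node (.leaf (678, true)) (.leaf (571, false)))) (.node (.node (.leaf (320, true)) (.leaf (15, false))) (.leaf (345, false))))

def borelSch11 : Tree (ℕ × Bool) :=
  (.node (.node (.node (.leaf (616, false)) (.leaf (178, false))) (.node (.leaf (124, false)) (.leaf (231, false)))) (.node (.node (.leaf (162, true)) (.leaf (374, true))) (.leaf (525, true))))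

def borelSch12 : Tree (ℕ × Bool) :=
  (.node (.node (.node (.leaf (303, false)) (.leaf (530, true))) (.node (.leaf (247, true)) (.leaf (344, true)))) (.node (.node (.leaf (431, false)) (.leaf (444, false))) (.leaf (566, false))))

def borelSch13 : Tree (ℕ × Bool) :=
  (.node (.node (.node (.leaf (491, true)) (.leaf (165, false))) (.node (.leaf (31, false)) (.leaf (215, true)))) (.node (.node (.leaf (233, true)) (.leaf (284, false))) (.leaf (393, true))))

def borelSch14 : Tree (ℕ × Bool) :=
  (.node (.node (.node (.leaf (303, true)) (.leaf (659, false))) (.leaf (903, true))) (.node (.node (.leaf (99, false)) (.leaf (384, false))) (.leaf (909, false))))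

def borelSch15 : Tree (ℕ × Bool) :=
  (.node (.node (.node (.leaf (77, true)) (.leaf (237, true))) (.leaf (669, false))) (.node (.node (.leaf (367, true)) (.leaf (399, false))) (.leaf (195, true))))

def borelSch : Tree (ℕ × Bool) :=
  (.node (.node (.node (.node borelSch0 borelSch8) (.node borelSch4 borelSch12)) (.node (.node borelSch2 borelSch10) (.node borelSch6 borelSch14))) (.node (.node (.node borelSch1 borelSch9) (.node borelSch5 borelSch13)) (.node (.node borelSch3 borelSch11) (.node borelSch7 borelSch15))))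

end Cfsg.Agent.Lie.Janko
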