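import Cfsg.Agent.Lib.Lie.JankoDefs
import Cfsg.Agent.Lib.Lie.JankoLineData

/-!
Kernel checks of the line orbit of the Janko group of order 175560.
-/

set_option autoImplicit false
set_option maxRecDepth 100000
set_option maxHeartbeats 0

namespace Cfsg.Agent.Lie.Janko

/-- The `c`-multiple of the image of the base vector under the `i`-th transversal element, indexed by `10 i + c - 1`. -/
def lineKey (m : ℕ) : ℕ := red ((m % 10 + 1) * rowMul baseVec (reps.get (m / 10)))

/-- The certificate order sorts the keys. -/
def lineCheck (k : ℕ) : Bool :=
  Nat.blt (lineKey (lineOrder.get k)) (lineKey (lineOrder.get (k + 1))) &&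
    (Nat.blt (lineOrder.get k) 15960 && Nat.blt (lineOrder.get (k + 1)) 15960)

/-- The 110 elements fix the base line and come from the Schreier relations. -/
def borelLineCheck (k : ℕ) : Bool :=
  Nat.beq (rowMul baseVec (borel.get k)) (red ((borelScalar.get k) * baseVec)) &&
    (Nat.ble 1 (borelScalar.get k) && (Nat.blt (borelScalar.get k) 11 &&
      (Nat.beq (if (borelSch.get k).2 then (schY.get (borelSch.get k).1).2 else (schX.get (borelSch.get k).1).2) k &&
        Nat.blt (borelSch.get k).1 1596)))

theorem line_ok : (List.range 15959).all lineCheck = true := by decide +kernel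

theorem borel_line_ok : (List.range 110).all borelLineCheck = true := by decide +kernel

theorem base_ok : Nat.beq (red baseVec) baseVec = true := by decide +kernel

end Cfsg.Agent.Lie.Janko
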