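import Cfsg.Agent.Lib.Lie.JankoDefs

/-!
Kernel checks of the certificate data for the Janko group of order 175560.
-/

set_option autoImplicit false
set_option maxRecDepth 100000
set_option maxHeartbeats 0

namespace Cfsg.Agent.Lie.Janko

theorem sch_ok : (List.range 1596).all schCheck = true := by decide +kernel

theorem conj_ok : (List.range 1596).all conjCheck = true := by decide +kernel

theorem tree_ok : ((List.range 1595).map (· + 1)).all treeCheck = true := by decide +kernel

theorem good_ok : (List.range 1596).all goodCheck = true := by decide +kernel

theorem borel_good : (List.range 110).all (fun k => (borel.get k).goodB) = true := by decide +kernel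

theorem start_ok : ((reps.get 0).beq M7.one && (borel.get 0).beq M7.one && (xMat.goodB && yMat.goodB)) = true := by
  decide +kernel

end Cfsg.Agent.Lie.Janko
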