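import Cfsg.Agent.Lib.Lie.JankoDefs

/-!
Kernel checks of the certificate data for the Janko group of order 175560.
-/

set_option autoImplicit false
set_option maxRecDepth 100000
set_option maxHeartbeats 0

namespace Cfsg.Agent.Lie.Janko

theorem pow_ok : (List.range 2090).all powCheck = true := by decide +kernel

end Cfsg.Agent.Lie.Janko
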