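import Mathlib
import Cfsg.Prelude.Def_Spor_J1
import Cfsg.Agent.Lib.Lie.JankoChecks
import Cfsg.Agent.Lib.Lie.JankoChecksBorel
import Cfsg.Agent.Lib.Lie.JankoChecksPow

/-!
The element orders of the Janko group `J₁` are 1, 2, 3, 5, 6, 7, 10, 11, 15, 19.
-/

set_option autoImplicit false
set_option maxRecDepth 20000

namespace Cfsg.Agent.Lie.Janko

open Cfsg.Spor

theorem val_X : toMat xMat = jankoMatrixX := by decide +kernel

theorem val_Y : toMat yMat = jankoMatrixY := by decide +kernel

theorem all_range {n : ℕ} {f : ℕ → Bool} (h : (List.range n).all f = true) {i : ℕ} (hi : i < n) : f i = true :=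
  List.all_eq_true.1 h i (List.mem_range.2 hi)

theorem tree_fact {i : ℕ} (h0 : 0 < i) (hi : i < 1596) :
    (parents.get i).1 < i ∧ reps.get i = (reps.get (parents.get i).1).mul (if (parents.get i).2 then yMat else xMat) := by
  have h := List.all_eq_true.1 tree_ok i (List.mem_map.2 ⟨i - 1, List.mem_range.2 (by omega), by omega⟩)
  simp only [treeCheck, Bool.and_eq_true, Nat.blt_eq] at h
  exact ⟨h.1, M7.eq_of_beq h.2.1⟩

theorem start_facts : reps.get 0 = M7.one ∧ borel.get 0 = M7.one ∧ xMat.Good ∧ yMat.Good := by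
  have h := start_ok
  simp only [Bool.and_eq_true] at h
  exact ⟨M7.eq_of_beq h.1.1, M7.eq_of_beq h.1.2, good_of_goodB h.2.1, good_of_goodB h.2.2⟩

theorem good_rep {i : ℕ} (hi : i < 1596) : (reps.get i).Good := good_of_goodB (all_range good_ok hi)

theorem good_borel {k : ℕ} (hk : k < 110) : (borel.get k).Good :=
  good_of_goodB (all_range (f := fun k => (borel.get k).goodB) borel_good hk)

theorem sch_fact {i : ℕ} (hi : i < 1596) :
    (∃ j k, j < 1596 ∧ k < 110 ∧ (reps.get i).mul xMat = (borel.get k).mul (reps.get j)) ∧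
      ∃ j k, j < 1596 ∧ k < 110 ∧ (reps.get i).mul yMat = (borel.get k).mul (reps.get j) := by
  have h := all_range sch_ok hi
  simp only [schCheck, Bool.and_eq_true, Nat.blt_eq] at h
  obtain ⟨h1, h2, h3, h4, h5, h6⟩ := h
  exact ⟨⟨_, _, h2, h3, M7.eq_of_beq h1⟩, ⟨_, _, h5, h6, M7.eq_of_beq h4⟩⟩

theorem borel_mul {k l : ℕ} (hk : k < 110) (hl : l < 110) :
    ∃ m, m < 110 ∧ toMat (borel.get k) * toMat (borel.get l) = toMat (borel.get m) := by
  have h := all_range borel_ok (show k * 110 + l < 12100 by omega)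
  simp only [borelCheck, Bool.and_eq_true, Nat.blt_eq] at h
  rw [show (k * 110 + l) / 110 = k by omega, show (k * 110 + l) % 110 = l by omega] at h
  exact ⟨_, h.2, by rw [← toMat_mul (good_borel hk) (good_borel hl), M7.eq_of_beq h.1]⟩

/-- Products of the transversal with the 110 elements. -/
def InCosets (g : Matrix (Fin 7) (Fin 7) (ZMod 11)) : Prop :=
  ∃ i k, i < 1596 ∧ k < 110 ∧ g = toMat (borel.get k) * toMat (reps.get i)

theorem inCosets_one : InCosets 1 :=
  ⟨0, 0, by norm_num, by norm_num, by rw [start_facts.1, start_facts.2.1, toMat_one, one_mul]⟩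

theorem inCosets_step {g : Matrix (Fin 7) (Fin 7) (ZMod 11)} (h : InCosets g) :
    InCosets (g * jankoMatrixX) ∧ InCosets (g * jankoMatrixY) := by
  obtain ⟨i, k, hi, hk, rfl⟩ := h
  obtain ⟨-, -, gx, gy⟩ := start_facts
  have key : ∀ (s : M7), s.Good → (∃ j l, j < 1596 ∧ l < 110 ∧ (reps.get i).mul s = (borel.get l).mul (reps.get j)) →
      InCosets (toMat (borel.get k) * toMat (reps.get i) * toMat s) := by
    rintro s gs ⟨j, l, hj, hl, e⟩
    obtain ⟨m, hm, em⟩ := borel_mul hk hl
    refine ⟨j, m, hj, hm, ?_⟩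
    rw [mul_assoc, ← toMat_mul (good_rep hi) gs, e, toMat_mul (good_borel hl) (good_rep hj), ← mul_assoc, em]
  obtain ⟨hx, hy⟩ := sch_fact hi
  exact ⟨val_X ▸ key xMat gx hx, val_Y ▸ key yMat gy hy⟩

theorem orderOf_val_le (g : GL (Fin 7) (ZMod 11)) : orderOf (g : Matrix (Fin 7) (Fin 7) (ZMod 11)) = orderOf g :=
  orderOf_units

theorem inCosets_of_mem (g : GL (Fin 7) (ZMod 11)) (hg : g ∈ J1) : InCosets g := by
  have hg' : g ∈ Subgroup.closure ({jankoX, jankoY} : Set (GL (Fin 7) (ZMod 11))) := hg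
  rw [← Subgroup.mem_toSubmonoid, Subgroup.closure_toSubmonoid_of_finite] at hg'
  clear hg
  induction hg' using Submonoid.closure_induction_right with
  | one => rw [Units.val_one]; exact inCosets_one
  | mul_right x _ y hy ih =>
    rcases hy with rfl | rfl
    · rw [Units.val_mul]; exact (inCosets_step ih).1
    · rw [Units.val_mul]; exact (inCosets_step ih).2

theorem class_pow {t k : ℕ} (ht : t < 19) (hk : k < 110) :
    ∃ n ∈ allowed, ((borel.get k).mul (reps.get (classReps.getD t 0))).pow n = M7.one := by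
  have h := all_range pow_ok (show t * 110 + k < 2090 by omega)
  simp only [powCheck, Bool.and_eq_true, List.contains_iff_mem] at h
  rw [show (t * 110 + k) / 110 = t by omega, show (t * 110 + k) % 110 = k by omega] at h
  exact ⟨_, h.2, M7.eq_of_beq h.1⟩

theorem classRep_lt {t : ℕ} (ht : t < 19) : classReps.getD t 0 < 1596 := by
  revert t
  decide +kernel

/-- A product of two matrices has the order of the product in the other order, for invertible matrices. -/
theorem pow_swap {M : Type*} [Monoid M] (u a : M) (n : ℕ) (h : ∃ v, v * u = 1 ∧ u * v = 1)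
    (ha : (u * a) ^ n = 1) : (a * u) ^ n = 1 := by
  obtain ⟨v, hv1, hv2⟩ := h
  have e : ∀ m, u * (a * u) ^ m = (u * a) ^ m * u := fun m => by
    induction m with
    | zero => simp
    | succ m ih => rw [pow_succ, ← mul_assoc, ih, pow_succ]; simp only [mul_assoc]
  calc (a * u) ^ n = v * (u * (a * u) ^ n) := by rw [← mul_assoc, hv1, one_mul]
    _ = 1 := by rw [e, ha, one_mul, hv1]

theorem pow_allowed (g : GL (Fin 7) (ZMod 11)) (hg : g ∈ J1) : ∃ n ∈ allowed, g ^ n = 1 := by
  obtain ⟨i, k, hi, hk, e⟩ := inCosets_of_mem g hg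
  have h := all_range conj_ok hi
  simp only [conjCheck, Bool.and_eq_true, Nat.blt_eq] at h
  obtain ⟨e1, ht, hb1, hb2⟩ := h
  have e1' := M7.eq_of_beq e1
  set t := (conjTab.get i).1
  set b1 := (conjTab.get i).2.1
  set b2 := (conjTab.get i).2.2
  have hr := classRep_lt ht
  have e2 : (g : Matrix (Fin 7) (Fin 7) (ZMod 11)) =
      toMat (borel.get k) * toMat (borel.get b1) * toMat (reps.get (classReps.getD t 0)) * toMat (borel.get b2) := by
    rw [e, ← e1', toMat_mul (good_mul _ _) (good_borel hb2), toMat_mul (good_borel hb1) (good_rep hr)]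
    simp only [mul_assoc]
  obtain ⟨m, hm, em⟩ := borel_mul hk hb1
  obtain ⟨m', hm', em'⟩ := borel_mul hb2 hm
  obtain ⟨n, hn, hp⟩ := class_pow ht hm'
  refine ⟨n, hn, Units.ext ?_⟩
  rw [Units.val_pow_eq_pow_val, e2, em, Units.val_one]
  have hb : IsUnit (toMat (borel.get b2)) := by
    have hu : IsUnit (g : Matrix (Fin 7) (Fin 7) (ZMod 11)) := g.isUnit
    rw [e2, Matrix.isUnit_iff_isUnit_det, Matrix.det_mul, IsUnit.mul_iff] at hu
    rw [Matrix.isUnit_iff_isUnit_det]
    exact hu.2
  obtain ⟨u, hu⟩ := hb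
  refine pow_swap (toMat (borel.get b2)) (toMat (borel.get m) * toMat (reps.get (classReps.getD t 0))) n
    ⟨(u⁻¹ : GL (Fin 7) (ZMod 11)), by rw [← hu, Units.inv_mul], by rw [← hu, Units.mul_inv]⟩ ?_
  rw [← mul_assoc, em', ← toMat_mul (good_borel hm') (good_rep hr), ← toMat_pow (good_mul _ _), hp, toMat_one]

theorem rep_mem : ∀ i < 1596, ∃ g ∈ J1, (g : Matrix (Fin 7) (Fin 7) (ZMod 11)) = toMat (reps.get i) := by
  intro i
  induction i using Nat.strong_induction_on with
  | _ i ih =>
    intro hi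
    rcases Nat.eq_zero_or_pos i with rfl | h0
    · exact ⟨1, one_mem _, by rw [Units.val_one, start_facts.1, toMat_one]⟩
    obtain ⟨hp, e⟩ := tree_fact h0 hi
    obtain ⟨g, hg, eg⟩ := ih _ hp (by omega)
    obtain ⟨-, -, gx, gy⟩ := start_facts
    rw [e]
    cases (parents.get i).2
    · refine ⟨g * jankoX, mul_mem hg (Subgroup.subset_closure (Or.inl rfl)), ?_⟩
      rw [if_neg (by simp), toMat_mul (good_rep (by omega)) gx, val_X, Units.val_mul, eg]
      rfl
    · refine ⟨g * jankoY, mul_mem hg (Subgroup.subset_closure (Or.inr rfl)), ?_⟩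
      rw [if_pos rfl, toMat_mul (good_rep (by omega)) gy, val_Y, Units.val_mul, eg]
      rfl

theorem witness_ok : ([(6, 26), (7, 1), (10, 4), (11, 12), (15, 444), (19, 16)] : List (ℕ × ℕ)).all (fun p =>
    decide (toMat ((reps.get p.2).pow p.1) = 1) &&
      (p.1.primeFactorsList.all fun q => decide (toMat ((reps.get p.2).pow (p.1 / q)) ≠ 1))) = true := by
  decide +kernel

theorem exists_order {d : ℕ} (hd : d ∈ [6, 7, 10, 11, 15, 19]) : ∃ g : J1, orderOf g = d := by
  have h := List.all_eq_true.1 witness_ok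
  obtain ⟨i, hmem, hi⟩ : ∃ i, (d, i) ∈ ([(6, 26), (7, 1), (10, 4), (11, 12), (15, 444), (19, 16)] : List (ℕ × ℕ)) ∧
      i < 1596 := by
    simp only [List.mem_cons, List.not_mem_nil, or_false] at hd
    rcases hd with rfl | rfl | rfl | rfl | rfl | rfl
    · exact ⟨26, by simp, by norm_num⟩
    · exact ⟨1, by simp, by norm_num⟩
    · exact ⟨4, by simp, by norm_num⟩
    · exact ⟨12, by simp, by norm_num⟩
    · exact ⟨444, by simp, by norm_num⟩
    · exact ⟨16, by simp, by norm_num⟩
  have h' := h _ hmem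
  simp only [Bool.and_eq_true, decide_eq_true_eq, List.all_eq_true] at h'
  obtain ⟨g, hg, eg⟩ := rep_mem i hi
  have hd0 : 0 < d := by
    simp only [List.mem_cons, List.not_mem_nil, or_false] at hd
    omega
  refine ⟨⟨g, hg⟩, ?_⟩
  rw [Subgroup.orderOf_mk, ← orderOf_val_le, eg, orderOf_eq_iff hd0]
  refine ⟨by rw [← toMat_pow (good_rep hi)]; exact h'.1, fun m hm hm0 e => ?_⟩
  have hdvd := orderOf_dvd_of_pow_eq_one e
  have h1 : toMat (reps.get i) ^ d = 1 := by rw [← toMat_pow (good_rep hi)]; exact h'.1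
  have ho := orderOf_dvd_of_pow_eq_one h1
  have hne : orderOf (toMat (reps.get i)) ≠ d := fun he => by
    rw [he] at hdvd
    have := Nat.le_of_dvd hm0 hdvd
    omega
  obtain ⟨c, hc⟩ := ho
  have hc1 : c ≠ 1 := fun hc1 => hne (by rw [hc1, mul_one] at hc; exact hc.symm)
  obtain ⟨q, hq, hqc⟩ := Nat.exists_prime_and_dvd hc1
  refine h'.2 q ((Nat.mem_primeFactorsList hd0.ne').2 ⟨hq, hqc.trans (Dvd.intro_left _ hc.symm)⟩) ?_
  obtain ⟨c', rfl⟩ := hqc
  rw [toMat_pow (good_rep hi)]
  refine orderOf_dvd_iff_pow_eq_one.1 ⟨c', ?_⟩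
  conv_lhs => rw [hc]
  rw [Nat.mul_left_comm, Nat.mul_div_cancel_left _ hq.pos]

/-- The element orders of `J₁`. -/
theorem range_orderOf : Set.range (orderOf : J1 → ℕ) = ({1, 2, 3, 5, 6, 7, 10, 11, 15, 19} : Set ℕ) := by
  ext d
  constructor
  · rintro ⟨⟨g, hg⟩, rfl⟩
    rw [Subgroup.orderOf_mk]
    obtain ⟨n, hn, e⟩ := pow_allowed g hg
    have hd := orderOf_dvd_of_pow_eq_one e
    have key : ∀ n ∈ allowed, ∀ o ∈ n.divisors, o ∈ [1, 2, 3, 5, 6, 7, 10, 11, 15, 19] := by decide +kernel
    have hne : n ≠ 0 := by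
      rintro rfl
      revert hn
      decide +kernel
    have h := key n hn _ (Nat.mem_divisors.2 ⟨hd, hne⟩)
    simpa only [List.mem_cons, List.not_mem_nil, or_false, Set.mem_insert_iff, Set.mem_singleton_iff] using h
  · intro hd
    simp only [Set.mem_insert_iff, Set.mem_singleton_iff] at hd
    have key : ∀ e ∈ [6, 7, 10, 11, 15, 19], d ∣ e → ∃ g : J1, orderOf g = d := fun e he hde => by
      obtain ⟨g, hg⟩ := exists_order he
      exact ⟨g ^ (orderOf g / d), orderOf_pow_orderOf_div (orderOf_pos g).ne' (hg.symm ▸ hde)⟩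
    rcases hd with rfl | rfl | rfl | rfl | rfl | rfl | rfl | rfl | rfl | rfl
    · exact ⟨1, orderOf_one⟩
    · exact key 6 (by simp) (by norm_num)
    · exact key 6 (by simp) (by norm_num)
    · exact key 10 (by simp) (by norm_num)
    · exact key 6 (by simp) (by norm_num)
    · exact key 7 (by simp) (by norm_num)
    · exact key 10 (by simp) (by norm_num)
    · exact key 11 (by simp) (by norm_num)
    · exact key 15 (by simp) (by norm_num)
    · exact key 19 (by simp) (by norm_num)

end Cfsg.Agent.Lie.Janko
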