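import Mathlib
import Cfsg.Agent.Lib.Lie.JankoSpectrum
import Cfsg.Agent.Lib.Lie.JankoLineChecks

/-!
The order of `J₁` is 175560: the orbit of a line has length 1596, its stabiliser order 110.
-/

set_option autoImplicit false
set_option maxRecDepth 20000

namespace Cfsg.Agent.Lie.Janko

open Cfsg.Spor

/-- A packed row as a vector. -/
def toVec (N : ℕ) : Fin 7 → ZMod 11 := fun j => ((dig N j : ℕ) : ZMod 11)

theorem toVec_rowMul {r : ℕ} (hr : IsRed r) {B : M7} (hB : B.Good) :
    toVec (rowMul r B) = Matrix.vecMul (toVec r) (toMat B) := by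
  let A : M7 := ⟨r, r, r, r, r, r, r⟩
  have hA : A.Good := fun i => by fin_cases i <;> exact hr
  have h := congrFun (toMat_mul hA hB) 0
  funext j
  have h' := congrFun h j
  simp only [toMat, Matrix.mul_apply, Matrix.of_apply, row_mul] at h'
  simp only [toVec, Matrix.vecMul, dotProduct, toMat, Matrix.of_apply]
  exact h'

theorem toVec_red_mul {r : ℕ} (hr : IsRed r) {c : ℕ} (hc : c < 11) :
    toVec (red (c * r)) = (c : ZMod 11) • toVec r := by
  obtain ⟨d, hd, rfl⟩ := hr
  funext j
  simp only [toVec, Pi.smul_apply, smul_eq_mul]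
  rw [dig_red, ZMod.natCast_mod, show c * pack d = pack (fun k => c * d k) by simp only [pack]; ring,
    dig_pack _ (fun k => by have := Nat.mul_le_mul hc.le (hd k).le; omega),
    dig_pack _ (fun k => lt_of_lt_of_le (hd k) (by norm_num)), Nat.cast_mul]

theorem toVec_inj {r s : ℕ} (hr : IsRed r) (hs : IsRed s) (h : toVec r = toVec s) : r = s := by
  obtain ⟨c, hc, rfl⟩ := hr
  obtain ⟨d, hd, rfl⟩ := hs
  suffices c = d by rw [this]
  funext j
  have e := congrFun h j
  simp only [toVec] at e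
  rw [dig_pack _ (fun k => lt_of_lt_of_le (hc k) (by norm_num)),
    dig_pack _ (fun k => lt_of_lt_of_le (hd k) (by norm_num)), ZMod.natCast_eq_natCast_iff'] at e
  rwa [Nat.mod_eq_of_lt (hc j), Nat.mod_eq_of_lt (hd j)] at e

theorem base_red : IsRed baseVec := Nat.beq_eq.mp base_ok ▸ isRed_red baseVec

theorem lineKey_injOn : Set.InjOn lineKey (Set.Iio 15960) := by
  have hlt : ∀ k, k < 15959 → lineKey (lineOrder.get k) < lineKey (lineOrder.get (k + 1)) ∧
      lineOrder.get k < 15960 ∧ lineOrder.get (k + 1) < 15960 := fun k hk => by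
    have h := all_range line_ok hk
    simpa only [lineCheck, Bool.and_eq_true, Nat.blt_eq] using h
  have hb : ∀ k, k < 15960 → lineOrder.get k < 15960 := fun k hk => by
    rcases Nat.lt_or_ge k 15959 with h | h
    · exact (hlt k h).2.1
    · rw [show k = 15958 + 1 by omega]
      exact (hlt 15958 (by norm_num)).2.2
  let σ : Fin 15960 → Fin 15960 := fun k => ⟨lineOrder.get k, hb k k.2⟩
  have hmono : StrictMono (fun k : Fin 15960 => lineKey (σ k)) :=
    Fin.strictMono_iff_lt_succ.2 fun k => (hlt k k.2).1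
  have hσ : Function.Injective σ := fun a b e => hmono.injective (by simp only [e])
  have hsurj : Function.Surjective σ := Finite.surjective_of_injective hσ
  intro a ha b hb' e
  obtain ⟨a', hae⟩ := hsurj ⟨a, ha⟩
  obtain ⟨b', hbe⟩ := hsurj ⟨b, hb'⟩
  have h : a' = b' := hmono.injective (by simp only [hae, hbe]; exact e)
  subst h
  exact congrArg Fin.val (hae.symm.trans hbe)

theorem borel_line {k : ℕ} (hk : k < 110) :
    (∃ c : ℕ, 1 ≤ c ∧ c < 11 ∧ Matrix.vecMul (toVec baseVec) (toMat (borel.get k)) = (c : ZMod 11) • toVec baseVec) ∧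
      ∃ g ∈ J1, (g : Matrix (Fin 7) (Fin 7) (ZMod 11)) = toMat (borel.get k) := by
  have h := all_range borel_line_ok hk
  simp only [borelLineCheck, Bool.and_eq_true, Nat.beq_eq, Nat.blt_eq, Nat.ble_eq] at h
  obtain ⟨he, h1, h2, hsk, hi⟩ := h
  refine ⟨⟨_, h1, h2, by rw [← toVec_rowMul base_red (good_borel hk), he, toVec_red_mul base_red h2]⟩, ?_⟩
  have hs := all_range sch_ok hi
  simp only [schCheck, Bool.and_eq_true, Nat.blt_eq] at hs
  obtain ⟨e1, hj1, hk1, e2, hj2, hk2⟩ := hs
  obtain ⟨-, -, gx, gy⟩ := start_facts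
  obtain ⟨gi, hgi, egi⟩ := rep_mem _ hi
  have key : ∀ (S : M7) (s : GL (Fin 7) (ZMod 11)) (j l : ℕ), S.Good → s ∈ J1 →
      (s : Matrix (Fin 7) (Fin 7) (ZMod 11)) = toMat S → j < 1596 → l < 110 →
      (reps.get (borelSch.get k).1).mul S = (borel.get l).mul (reps.get j) →
      ∃ g ∈ J1, (g : Matrix (Fin 7) (Fin 7) (ZMod 11)) = toMat (borel.get l) := by
    intro S s j l hS hs es hj hl e
    obtain ⟨gj, hgj, egj⟩ := rep_mem j hj
    refine ⟨gi * s * gj⁻¹, mul_mem (mul_mem hgi hs) (inv_mem hgj), ?_⟩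
    rw [Units.val_mul, Units.val_mul, egi, es, ← toMat_mul (good_rep hi) hS, e,
      toMat_mul (good_borel hl) (good_rep hj), ← egj, Units.mul_inv_cancel_right]
  by_cases hb : (borelSch.get k).2 = true
  · rw [if_pos hb] at hsk
    rw [← hsk]
    exact key yMat jankoY _ _ gy (Subgroup.subset_closure (Or.inr rfl)) val_Y.symm hj2 hk2 (M7.eq_of_beq e2)
  · rw [if_neg hb] at hsk
    rw [← hsk]
    exact key xMat jankoX _ _ gx (Subgroup.subset_closure (Or.inl rfl)) val_X.symm hj1 hk1 (M7.eq_of_beq e1)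

theorem toMat_inj {A B : M7} (hA : A.Good) (hB : B.Good) (h : toMat A = toMat B) : A = B := by
  have hi : ∀ i, A.row i = B.row i := fun i => toVec_inj (hA i) (hB i) (congrFun h i)
  cases A; cases B
  congr 1
  exacts [hi 0, hi 1, hi 2, hi 3, hi 4, hi 5, hi 6]

theorem borel_inj : ((List.range 110).all fun k => (List.range 110).all fun l =>
    k == l || !((borel.get k).beq (borel.get l))) = true := by
  decide +kernel

/-- Every element of `J₁` is uniquely a product of one of the 110 elements and a transversal element. -/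
theorem decomp_unique {i j k l : ℕ} (hi : i < 1596) (hj : j < 1596) (hk : k < 110) (hl : l < 110)
    (h : toMat (borel.get k) * toMat (reps.get i) = toMat (borel.get l) * toMat (reps.get j)) : i = j ∧ k = l := by
  obtain ⟨⟨c, hc1, hc, ec⟩, -⟩ := borel_line hk
  obtain ⟨⟨d, hd1, hd, ed⟩, -⟩ := borel_line hl
  have e := congrArg (Matrix.vecMul (toVec baseVec)) h
  simp only [← Matrix.vecMul_vecMul, ec, ed, Matrix.smul_vecMul] at e
  have hkey : ∀ (m c : ℕ), m < 1596 → 1 ≤ c → c < 11 →
      toVec (lineKey (m * 10 + (c - 1))) = (c : ZMod 11) • Matrix.vecMul (toVec baseVec) (toMat (reps.get m)) ∧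
        m * 10 + (c - 1) < 15960 := fun m c hm h1 h2 => by
    refine ⟨?_, by omega⟩
    rw [lineKey, show (m * 10 + (c - 1)) % 10 + 1 = c by omega, show (m * 10 + (c - 1)) / 10 = m by omega,
      toVec_red_mul (show IsRed (rowMul baseVec (reps.get m)) from isRed_red _) h2,
      toVec_rowMul base_red (good_rep hm)]
  obtain ⟨e1, l1⟩ := hkey i c hi hc1 hc
  obtain ⟨e2, l2⟩ := hkey j d hj hd1 hd
  have hij := lineKey_injOn l1 l2 (toVec_inj (isRed_red _) (isRed_red _) (e1.trans (e.trans e2.symm)))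
  have hi' : i = j := by omega
  refine ⟨hi', ?_⟩
  subst hi'
  obtain ⟨g, -, eg⟩ := rep_mem i hi
  rw [← eg] at h
  have h' := toMat_inj (good_borel hk) (good_borel hl) ((Units.isUnit g).mul_right_cancel h)
  by_contra hne
  have hb := all_range (all_range borel_inj hk) hl
  simp only [Bool.or_eq_true, beq_iff_eq, hne, false_or, Bool.not_eq_true'] at hb
  rw [h', show (borel.get l).beq (borel.get l) = true by simp [M7.beq, Nat.beq_eq]] at hb
  exact Bool.noConfusion hb

theorem elem_exists (p : Fin 110 × Fin 1596) :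
    ∃ g : J1, ((g : GL (Fin 7) (ZMod 11)) : Matrix (Fin 7) (Fin 7) (ZMod 11)) =
      toMat (borel.get p.1) * toMat (reps.get p.2) := by
  obtain ⟨-, g, hg, eg⟩ := borel_line p.1.2
  obtain ⟨r, hr, er⟩ := rep_mem p.2 p.2.2
  exact ⟨⟨g * r, mul_mem hg hr⟩, by rw [Units.val_mul, eg, er]⟩

/-- The order of `J₁`. -/
theorem card_eq : Nat.card J1 = 175560 := by
  choose f hf using elem_exists
  have hbij : Function.Bijective f := by
    refine ⟨fun p q e => ?_, fun g => ?_⟩
    · have h := (hf p).symm.trans ((congrArg (fun g : J1 =>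
        ((g : GL (Fin 7) (ZMod 11)) : Matrix (Fin 7) (Fin 7) (ZMod 11))) e).trans (hf q))
      obtain ⟨h1, h2⟩ := decomp_unique p.2.2 q.2.2 p.1.2 q.1.2 h
      exact Prod.ext (Fin.ext h2) (Fin.ext h1)
    · obtain ⟨i, k, hi, hk, e⟩ := inCosets_of_mem g g.2
      exact ⟨(⟨k, hk⟩, ⟨i, hi⟩), Subtype.ext (Units.ext ((hf _).trans e.symm))⟩
  rw [← Nat.card_eq_of_bijective f hbij, Nat.card_prod, Nat.card_fin, Nat.card_fin]

end Cfsg.Agent.Lie.Janko
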