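import Cfsg.Agent.Lib.Lie.JankoPack

/-!
Certificate data for an involution centraliser in the Janko group of order 175560 (generated).
-/

set_option autoImplicit false
set_option maxRecDepth 100000
set_option maxHeartbeats 0

namespace Cfsg.Agent.Lie.Janko

def centInv : ℕ := 5

def centScalar : ℕ := 10

def centPairs0 : Tree (ℕ × ℕ) :=
  (.node (.node (.node (.leaf (0, 0)) (.leaf (61, 726))) (.node (.leaf (11, 1030)) (.leaf (52, 181)))) (.node (.node (.leaf (75, 241)) (.leaf (30, 806))) (.node (.leaf (39, 1030)) (.leaf (45, 674)))))

def centPairs1 : Tree (ℕ × ℕ) :=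
  (.node (.node (.node (.leaf (5, 0)) (.leaf (44, 726))) (.node (.leaf (102, 101)) (.leaf (95, 971)))) (.node (.node (.leaf (3, 0)) (.leaf (94, 181))) (.node (.leaf (65, 867)) (.leaf (23, 806)))))

def centPairs2 : Tree (ℕ × ℕ) :=
  (.node (.node (.node (.leaf (66, 101)) (.leaf (12, 726))) (.node (.leaf (94, 241)) (.leaf (98, 726)))) (.node (.node (.leaf (35, 101)) (.leaf (37, 971))) (.node (.leaf (77, 1382)) (.leaf (13, 674)))))

def centPairs3 : Tree (ℕ × ℕ) :=
  (.node (.node (.node (.leaf (28, 101)) (.leaf (34, 867))) (.node (.leaf (103, 181)) (.leaf (86, 674)))) (.node (.node (.leaf (67, 241)) (.leaf (92, 867))) (.node (.leaf (10, 1382)) (.leaf (70, 674)))))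

def centPairs4 : Tree (ℕ × ℕ) :=
  (.node (.node (.node (.leaf (51, 101)) (.leaf (81, 241))) (.node (.leaf (76, 971)) (.leaf (30, 1315)))) (.node (.node (.leaf (101, 867)) (.leaf (54, 1382))) (.node (.leaf (38, 1382)) (.leaf (98, 806)))))

def centPairs5 : Tree (ℕ × ℕ) :=
  (.node (.node (.node (.leaf (93, 101)) (.leaf (40, 181))) (.node (.leaf (36, 181)) (.leaf (98, 1315)))) (.node (.node (.leaf (74, 101)) (.leaf (44, 806))) (.node (.leaf (103, 241)) (.leaf (108, 674)))))

def centPairs6 : Tree (ℕ × ℕ) :=
  (.node (.node (.node (.leaf (43, 1030)) (.leaf (53, 971))) (.node (.leaf (19, 971)) (.leaf (56, 1315)))) (.node (.node (.leaf (4, 0)) (.leaf (99, 674))) (.node (.leaf (1, 0)) (.leaf (44, 1315)))))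

def centPairs7 : Tree (ℕ × ℕ) :=
  (.node (.node (.node (.leaf (2, 0)) (.leaf (56, 726))) (.node (.leaf (106, 1030)) (.leaf (85, 726)))) (.node (.node (.leaf (97, 1030)) (.leaf (57, 674))) (.node (.leaf (84, 1030)) (.leaf (79, 1315)))))

def centPairs8 : Tree (ℕ × ℕ) :=
  (.node (.node (.node (.leaf (55, 1030)) (.leaf (107, 806))) (.node (.leaf (17, 101)) (.leaf (61, 806)))) (.node (.node (.leaf (73, 867)) (.leaf (21, 1382))) (.leaf (50, 867))))

def centPairs9 : Tree (ℕ × ℕ) :=
  (.node (.node (.node (.leaf (78, 1030)) (.leaf (85, 806))) (.node (.leaf (29, 241)) (.leaf (12, 1315)))) (.node (.node (.leaf (16, 867)) (.leaf (67, 181))) (.leaf (42, 1382))))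

def centPairs10 : Tree (ℕ × ℕ) :=
  (.node (.node (.node (.leaf (7, 0)) (.leaf (29, 181))) (.node (.leaf (18, 181)) (.leaf (85, 1315)))) (.node (.node (.leaf (49, 101)) (.leaf (20, 971))) (.leaf (79, 726))))

def centPairs11 : Tree (ℕ × ℕ) :=
  (.node (.node (.node (.leaf (60, 1030)) (.leaf (82, 971))) (.node (.leaf (41, 971)) (.leaf (23, 1315)))) (.node (.node (.leaf (9, 0)) (.leaf (23, 726))) (.leaf (107, 726))))

def centPairs12 : Tree (ℕ × ℕ) :=
  (.node (.node (.node (.leaf (40, 241)) (.leaf (27, 867))) (.node (.leaf (105, 1382)) (.leaf (61, 1315)))) (.node (.node (.leaf (22, 1030)) (.leaf (31, 674))) (.leaf (89, 867))))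

def centPairs13 : Tree (ℕ × ℕ) :=
  (.node (.node (.node (.leaf (8, 0)) (.leaf (69, 1382))) (.node (.leaf (83, 1382)) (.leaf (30, 726)))) (.node (.node (.leaf (48, 867)) (.leaf (24, 674))) (.leaf (36, 241))))

def centPairs14 : Tree (ℕ × ℕ) :=
  (.node (.node (.node (.leaf (80, 101)) (.leaf (79, 806))) (.node (.leaf (18, 241)) (.leaf (56, 806)))) (.node (.node (.leaf (81, 181)) (.leaf (62, 674))) (.leaf (75, 181))))

def centPairs15 : Tree (ℕ × ℕ) :=
  (.node (.node (.node (.leaf (52, 241)) (.leaf (12, 806))) (.node (.leaf (6, 0)) (.leaf (107, 1315)))) (.node (.node (.leaf (104, 971)) (.leaf (96, 1382))) (.leaf (68, 971))))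

def centPairs : Tree (ℕ × ℕ) :=
  (.node (.node (.node (.node centPairs0 centPairs8) (.node centPairs4 centPairs12)) (.node (.node centPairs2 centPairs10) (.node centPairs6 centPairs14))) (.node (.node (.node centPairs1 centPairs9) (.node centPairs5 centPairs13)) (.node (.node centPairs3 centPairs11) (.node centPairs7 centPairs15))))

def centMat0 : Tree (M7) :=
  (.node (.node (.node (.leaf ⟨1, 4096, 16777216, 68719476736, 281474976710656, 1152921504606846976, 4722366482869645213696⟩) (.leaf ⟨18899843914076178640902, 9445885887862389379075, 42512828405366575349764, 10377982597631340552, 37789309845829687717894, 37788157768612471394305, 23611832696235653881858⟩)) (.node (.leaf ⟨9449344933438953644040, 28338811991229707874311, 37782391753439776370697, 28335353226715954425859, 4725827780658356838406, 11531466914752663561, 23622210959827074564096⟩) (.leaf ⟨14176323665689246171140, 14175172713959703728128, 37782390627677207797763, 8073265625662754825, 42505911439907312672771, 14172865182512963416072, 18892927229267326021635⟩))) (.node (.node (.leaf ⟨14170559057822698475520, 14178629226605074976773,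 37778932989063277326338, 11530060089591353345, 42507062953556066738186, 14171711979602132889607, 18899844477026064924675⟩) (.leaf ⟨42503606722179614388227, 23614140509569704566788, 18898690430102688264196, 47232889045707992862727, 14172864901175442407426, 23612985899490132111361, 37781239676909821898756⟩)) (.node (.leaf ⟨9444733810714026721283, 47235194607036071444484, 4728133342879838896135, 33064638082694590246917, 37789310408298504138760, 9224498074334801928, 23612985336540161908743⟩) (.leaf ⟨33064638082694590246917, 9444733810714026721283, 37789310408298504138760, 47235194607036071444484, 9224498074334801928, 4728133342879838896135, 23612985336540161908743⟩))))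

def centMat1 : Tree (M7) :=
  (.node (.node (.node (.leaf ⟨37781237706516181581828, 37782391190970691502088, 18890619134595687251971, 37778932707657003335688, 18890620260564246470656, 18895230820476608589826, 23616445226816383254536⟩) (.leaf ⟨14175170744253308481537, 42512830376035110359048, 9453956619388644761608, 18894077899246896427015, 37789310690323236671488, 33061177629605703487491, 37783544956694120402954⟩)) (.node (.leaf ⟨23616444945341356216325, 47229431970181622562826, 23612986743571347423234, 9447039653860780036099, 28336505303795614355465, 9450500388630600626179, 18895231102638863962114⟩) (.leaf ⟨14171712824027096547333, 14174018948305078222848, 28341118115507857276935, 14175171025041191096328, 28345729801388778614790, 28341119241476416495620, 37785851081040922161155⟩))) (.node (.node (.leaf ⟨47232889045707992862727, 42503606722179614388227, 14172864901175442407426, 23614140509569704566788, 23612985899490132111361, 18898690430102688264196, 37781239676909821898756⟩) (.leaf ⟨42512830094697589399553, 18890619416414244585475, 33058872067727885893641, 14170558213191593140227,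 9445887295168670867458, 37789309282398681202693, 37784697315592387973129⟩)) (.node (.leaf ⟨9445887576643580473350, 28339964349646939131911, 37783546364343881830407, 28339965475271917735939, 4732744465673334292486, 9225905930288238601, 23621058038185045532676⟩) (.leaf ⟨9447039653860780036099, 23616444945341356216325, 28336505303795614355465, 47229431970181622562826, 9450500388630600626179, 23612986743571347423234, 18895231102638863962114⟩))))

def centMat2 : Tree (M7) :=
  (.node (.node (.node (.leaf ⟨343597412361, 618475311111, 4731592388181424603136, 481036374021, 4731592106706464669696, 4732745028211054739456, 37780085065936762044416⟩) (.leaf ⟨8073265625662754825, 14176323665689246171140, 42505911439907312672771, 14175172713959703728128, 14172865182512963416072, 37782390627677207797763, 18892927229267326021635⟩)) (.node (.leaf ⟨9455109822574353199114, 23612986462371265400840, 28341116989264218853385, 47234042530162704162826, 9447040216329713889289, 23614138539107378274309, 18896384868224736436234⟩) (.leaf ⟨9455111511286875181066, 28344577161221709500421, 47230583765717519196169,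 4724674014935028604931, 37780087318148959727624, 42508216156466964369417, 47234043374106614718466⟩))) (.node (.node (.leaf ⟨14169406980742988173320, 4731592669862542983177, 11530622970791731205, 9450499825680680779776, 9450499825543241818116, 9450498699849560514568, 47223665391715158601730⟩) (.leaf ⟨28341118959589139697666, 4732743339498599886851, 42508217564322800373762, 9455111792899274088451, 47228278203977140572169, 37784696752436360019974, 47235196577429762088961⟩)) (.node (.leaf ⟨9445885887862389379075, 10377982597631340552, 37788157768612471394305, 18899843914076178640902, 42512828405366575349764, 37789309845829687717894, 23611832696235653881858⟩) (.leaf ⟨23615291460680687845385, 47234043656199982850056, 23617597584958669475844, 9448194263734093389829, 28336506429695454121985, 9456262743941554671619, 18891773463475177693189⟩))))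

def centMat3 : Tree (M7) :=
  (.node (.node (.node (.leaf ⟨28342270755468616949767, 23621056631359867473923, 18898689304065275359238, 23618752195381956734976, 23617598148183584673799, 18889467339059689967624, 47228277640958467661829⟩) (.leaf ⟨9455111792899274088451, 28341118959589139697666, 47228278203977140572169, 4732743339498599886851, 37784696752436360019974, 42508217564322800373762, 47235196577429762088961⟩)) (.node (.leaf ⟨10377982597631340552, 18899843914076178640902, 37789309845829687717894, 9445885887862389379075, 37788157768612471394305, 42512828405366575349764, 23611832696235653881858⟩) (.leaf ⟨14174018667036226371585, 4733897668859160178692, 5766015241682976770, 9453957463676135968776, 9453957463951013867526, 9449346904107371241478, 47225971234793058209795⟩))) (.node (.node (.leaf ⟨42511677454186922934278, 18891772900593876627460, 33060025271119752736776, 14167101419139981381642, 9450499825199594110978, 37783546082594127872008, 37782391753989448310789⟩) (.leaf ⟨23614140509569704566788, 47232889045707992862727, 23612985899490132111361, 42503606722179614388227, 18898690430102688264196,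 14172864901175442407426, 37781239676909821898756⟩)) (.node (.leaf ⟨3458764513988321283, 23611834385291538333696, 3458764513988325378, 2305843009381478403, 11529215046118842378, 42501299753682726813696, 33056567913705904275456⟩) (.leaf ⟨14178629226605074976773, 11530060089591353345, 14171711979602132889607, 14170559057822698475520, 37778932989063277326338, 42507062953556066738186, 18899844477026064924675⟩))))

def centMat4 : Tree (M7) :=
  (.node (.node (.node (.leaf ⟨14174018948305078222848, 14175171025041191096328, 28341119241476416495620, 14171712824027096547333, 28341118115507857276935, 28345729801388778614790, 37785851081040922161155⟩) (.leaf ⟨42507063516506104016897, 23621056350022363267078, 18899844477300959625226, 47223667080565035659272, 14171712542002296922121, 23622208989570856390666, 37788155798150245793801⟩)) (.node (.leaf ⟨23612986462371265400840, 47234042530162704162826, 23614138539107378274309, 9455109822574353199114, 28341116989264218853385, 9447040216329713889289, 18896384868224736436234⟩) (.leaf ⟨28339965475271917735939, 9445887576643580473350, 4732744465673334292486,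 28339964349646939131911, 9225905930288238601, 37783546364343881830407, 23621058038185045532676⟩))) (.node (.node (.leaf ⟨37787004002614181371913, 18896385431449601331208, 14167099449021319614471, 18895230820614114676741, 5764608004204810246, 18898690429552865333252, 4722367327844398284804⟩) (.leaf ⟨37778932707657003335688, 37781237706516181581828, 18890620260564246470656, 37782391190970691502088, 18895230820476608589826, 18890619134595687251971, 23616445226816383254536⟩)) (.node (.leaf ⟨23611832414348343509001, 11529778202180333568, 42501298345826890809351, 11530059608437567488, 11530059677157040128, 3461579950782455808, 33056565380087667490821⟩) (.leaf ⟨4730439185476752543747, 9449346059682491400201, 9453957745563412758538, 14174017540655350317060, 5767422410324201480, 9449346059545052463111, 47225970671911857823745⟩))))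

def centMat5 : Tree (M7) :=
  (.node (.node (.node (.leaf ⟨28344577161221709500421, 4724674014935028604931, 42508216156466964369417, 9455111511286875181066, 47230583765717519196169, 37780087318148959727624, 47234043374106614718466⟩) (.leaf ⟨4729286545378268688386, 9453958871738281373701, 37789309564423279501319, 28342271036943727861761, 42502452956799849996297, 47229430562737969205254, 47232891015620663971846⟩)) (.node (.leaf ⟨4731592669862542983177, 9450499825680680779776, 9450498699849560514568, 14169406980742988173320, 11530622970791731205, 9450499825543241818116, 47223665391715158601730⟩) (.leaf ⟨4096, 68719476736, 1152921504606846976, 1, 16777216, 281474976710656, 4722366482869645213696⟩))) (.node (.node (.leaf ⟨33065790722655500914692, 9448191730528039219208, 37783546082456672174080, 47223667643996008628229, 9225624042894032898, 4732744183786124636170, 23621056067997496537098⟩) (.leaf ⟨14170560464922620215305, 14169407262286751465473, 37783544393537958195203, 3460734907544801285, 42501299472413992431626, 14170559620978743214087, 18898690148146675200000⟩)) (.node (.leaf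 ⟨4732743339498599886851, 9455111792899274088451, 37784696752436360019974, 28341118959589139697666, 42508217564322800373762, 47228278203977140572169, 47235196577429762088961⟩) (.leaf ⟨9450499825680680779776, 14169406980742988173320, 9450499825543241818116, 4731592669862542983177, 9450498699849560514568, 11530622970791731205, 47223665391715158601730⟩))))

def centMat6 : Tree (M7) :=
  (.node (.node (.node (.leaf ⟨18896385431243526778887, 9444733247420442382345, 42504757955040603279364, 6920062852338298887, 37785852207147037782019, 37789309282467383889925, 23612987587790085578758⟩) (.leaf ⟨14169407262286751465473, 3460734907544801285, 14170559620978743214087, 14170560464922620215305, 37783544393537958195203, 42501299472413992431626, 18898690148146675200000⟩)) (.node (.leaf ⟨14174017540655350317060, 4730439185476752543747, 5767422410324201480, 9449346059682491400201, 9449346059545052463111, 9453957745563412758538, 47225970671911857823745⟩) (.leaf ⟨9444733247420442382345, 6920062852338298887, 37789309282467383889925, 18896385431243526778887, 42504757955040603279364, 37785852207147037782019,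 23612987587790085578758⟩))) (.node (.node (.leaf ⟨18895230820614114676741, 37787004002614181371913, 5764608004204810246, 18896385431449601331208, 18898690429552865333252, 14167099449021319614471, 4722367327844398284804⟩) (.leaf ⟨28339963786697036025862, 23615292867918199554053, 18889467339265915518983, 23621057756710018494471, 23616445789697633968129, 18895231665451277758469, 47228277922433427591174⟩)) (.node (.leaf ⟨11530059608437567488, 23611832414348343509001, 11530059677157040128, 11529778202180333568, 3461579950782455808, 42501298345826890809351, 33056565380087667490821⟩) (.leaf ⟨18896385431449601331208, 18895230820614114676741, 18898690429552865333252, 37787004002614181371913, 14167099449021319614471, 5764608004204810246, 4722367327844398284804⟩))))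

def centMat7 : Tree (M7) :=
  (.node (.node (.node (.leaf ⟨28342269629431338250249, 9451651621079172022275, 4729284856734684307456, 28337658788112718917641, 10379108909838274561, 37790461922909263794177, 23621058319934883364866⟩) (.leaf ⟨23621058038459806015498, 47227123593691443265537, 23614140790700966453251, 42511676046949344088067, 18894080151046810804231, 14170559339160185901056, 37787004565564134821891⟩)) (.node (.leaf ⟨14170558213191593140227, 42512830094697589399553, 9445887295168670867458, 18890619416414244585475, 37789309282398681202693, 33058872067727885893641, 37784697315592387973129⟩) (.leaf ⟨37785849955553348960258, 18897537508460592140293, 14167100574989878845441, 18890620260701752533001, 2252212214460421, 18894079025146903928837, 4725826373558250536964⟩))) (.node (.node (.leaf ⟨37781239676428752031748, 18894079306690583363593, 14171711134696082534406, 18895231946994990731266, 9224779755335737351, 18895232791145093283842, 4726978169163000856584⟩) (.leaf ⟨618475311111, 481036374021, 4732745028211054739456, 343597412361, 4731592388181424603136, 4731592106706464669696,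 37780085065936762044416⟩)) (.node (.leaf ⟨11530060089591353345, 14170559057822698475520, 42507062953556066738186, 14178629226605074976773, 14171711979602132889607, 37778932989063277326338, 18899844477026064924675⟩) (.leaf ⟨2814955975868418, 23619902864880474034176, 2814887256391683, 2814955959091203, 845112292671498, 42507062953349841186816, 33066941673628978139136⟩))))

def centMat8 : Tree (M7) :=
  (.node (.node (.node (.leaf ⟨23621057756710018494471, 28339963786697036025862, 23616445789697633968129, 23615292867918199554053, 18895231665451277758469, 18889467339265915518983, 47228277922433427591174⟩) (.leaf ⟨23621056631359867473923, 23618752195381956734976, 18889467339059689967624, 28342270755468616949767, 18898689304065275359238, 23617598148183584673799, 47228277640958467661829⟩)) (.node (.leaf ⟨9449346059682491400201, 14174017540655350317060, 9449346059545052463111, 4730439185476752543747, 9453957745563412758538, 5767422410324201480, 47225970671911857823745⟩) (.leaf ⟨28337658788112718917641, 28342269629431338250249, 10379108909838274561, 9451651621079172022275, 37790461922909263794177,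 4729284856734684307456, 23621058319934883364866⟩))) (.node (.node (.leaf ⟨9448192574884199563268, 47225970671980711530504, 4731592388662410649600, 33065791004267899797507, 37788156361443830136835, 4613938368131112963, 23611834666629092909058⟩) (.leaf ⟨28335353226715954425859, 9449344933438953644040, 4725827780658356838406, 28338811991229707874311, 11531466914752663561, 37782391753439776370697, 23622210959827074564096⟩)) (.leaf ⟨14167101419139981381642, 42511677454186922934278, 9450499825199594110978, 18891772900593876627460, 37783546082594127872008, 33060025271119752736776, 37782391753989448310789⟩)))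

def centMat9 : Tree (M7) :=
  (.node (.node (.node (.leaf ⟨23621056350022363267078, 47223667080565035659272, 23622208989570856390666, 42507063516506104016897, 18899844477300959625226, 14171712542002296922121, 37788155798150245793801⟩) (.leaf ⟨10378827297389051907, 18897538915766756204547, 37790463611484279693319, 9445886169337349287945, 37783545801119151165445, 42504759925365322825729, 23621055786797414490118⟩)) (.node (.leaf ⟨4733897668859160178692, 9453957463676135968776, 9449346904107371241478, 14174018667036226371585, 5766015241682976770, 9453957463951013867526, 47225971234793058209795⟩) (.leaf ⟨18895231946994990731266, 37781239676428752031748, 9224779755335737351, 18894079306690583363593, 18895232791145093283842, 14171711134696082534406, 4726978169163000856584⟩))) (.node (.node (.leaf ⟨2814955959091203, 2814955975868418, 845112292671498, 23619902864880474034176, 42507062953349841186816, 2814887256391683, 33066941673628978139136⟩) (.leaf ⟨47223667643996008628229, 33065790722655500914692, 9225624042894032898, 9448191730528039219208, 4732744183786124636170, 37783546082456672174080,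 23621056067997496537098⟩)) (.leaf ⟨47227123593691443265537, 42511676046949344088067, 14170559339160185901056, 23621058038459806015498, 23614140790700966453251, 18894080151046810804231, 37787004565564134821891⟩)))

def centMat10 : Tree (M7) :=
  (.node (.node (.node (.leaf ⟨18894077899246896427015, 14175170744253308481537, 37789310690323236671488, 42512830376035110359048, 33061177629605703487491, 9453956619388644761608, 37783544956694120402954⟩) (.leaf ⟨28338811991229707874311, 28335353226715954425859, 11531466914752663561, 9449344933438953644040, 37782391753439776370697, 4725827780658356838406, 23622210959827074564096⟩)) (.node (.leaf ⟨42511676046949344088067, 23621058038459806015498, 18894080151046810804231, 47227123593691443265537, 14170559339160185901056, 23614140790700966453251, 37787004565564134821891⟩) (.leaf ⟨18891772900593876627460, 14167101419139981381642, 37783546082594127872008, 42511677454186922934278, 33060025271119752736776, 9450499825199594110978, 37782391753989448310789⟩))) (.node (.node (.leaf ⟨14175172713959703728128, 8073265625662754825, 14172865182512963416072,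 14176323665689246171140, 37782390627677207797763, 42505911439907312672771, 18892927229267326021635⟩) (.leaf ⟨481036374021, 343597412361, 4731592106706464669696, 618475311111, 4732745028211054739456, 4731592388181424603136, 37780085065936762044416⟩)) (.leaf ⟨9451651621079172022275, 28337658788112718917641, 37790461922909263794177, 28342269629431338250249, 4729284856734684307456, 10379108909838274561, 23621058319934883364866⟩)))

def centMat11 : Tree (M7) :=
  (.node (.node (.node (.leaf ⟨9453958871738281373701, 28342271036943727861761, 47229430562737969205254, 4729286545378268688386, 37789309564423279501319, 42502452956799849996297, 47232891015620663971846⟩) (.leaf ⟨28335353789459715878917, 23618752195519328563208, 18895232791282465136648, 23619904554211504816131, 23618751350819537317894, 18894077617840689545219, 47229430562531777204229⟩)) (.node (.leaf ⟨9453957463676135968776, 14174018667036226371585, 9453957463951013867526, 4733897668859160178692, 9449346904107371241478, 5766015241682976770, 47225971234793058209795⟩) (.leaf ⟨37782391190970691502088, 37778932707657003335688, 18895230820476608589826,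 37781237706516181581828, 18890619134595687251971, 18890620260564246470656, 23616445226816383254536⟩))) (.node (.node (.leaf ⟨23619902864880474034176, 2814955959091203, 42507062953349841186816, 2814955975868418, 2814887256391683, 845112292671498, 33066941673628978139136⟩) (.leaf ⟨23618752195381956734976, 28342270755468616949767, 23617598148183584673799, 23621056631359867473923, 18889467339059689967624, 18898689304065275359238, 47228277640958467661829⟩)) (.leaf ⟨9448191730528039219208, 47223667643996008628229, 4732744183786124636170, 33065790722655500914692, 37783546082456672174080, 9225624042894032898, 23621056067997496537098⟩)))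

def centMat12 : Tree (M7) :=
  (.node (.node (.node (.leaf ⟨47235194607036071444484, 33064638082694590246917, 9224498074334801928, 9444733810714026721283, 4728133342879838896135, 37789310408298504138760, 23612985336540161908743⟩) (.leaf ⟨18897538915766756204547, 9445886169337349287945, 42504759925365322825729, 10378827297389051907, 37790463611484279693319, 37783545801119151165445, 23621055786797414490118⟩)) (.node (.leaf ⟨18894079306690583363593, 18895231946994990731266, 18895232791145093283842, 37781239676428752031748, 14171711134696082534406, 9224779755335737351, 4726978169163000856584⟩) (.leaf ⟨47223667080565035659272, 42507063516506104016897, 14171712542002296922121, 23621056350022363267078, 23622208989570856390666, 18899844477300959625226, 37788155798150245793801⟩))) (.node (.node (.leaf ⟨2305843009381478403, 3458764513988321283, 11529215046118842378, 23611834385291538333696, 42501299753682726813696, 3458764513988325378, 33056567913705904275456⟩) (.leaf ⟨47234042530162704162826, 9455109822574353199114, 9447040216329713889289, 23612986462371265400840, 23614138539107378274309,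 28341116989264218853385, 18896384868224736436234⟩)) (.leaf ⟨23619904554211504816131, 28335353789459715878917, 23618751350819537317894, 23618752195519328563208, 18894077617840689545219, 18895232791282465136648, 47229430562531777204229⟩)))

def centMat13 : Tree (M7) :=
  (.node (.node (.node (.leaf ⟨9445886169337349287945, 10378827297389051907, 37783545801119151165445, 18897538915766756204547, 42504759925365322825729, 37790463611484279693319, 23621055786797414490118⟩) (.leaf ⟨68719476736, 1, 281474976710656, 4096, 1152921504606846976, 16777216, 4722366482869645213696⟩)) (.node (.leaf ⟨18890620260701752533001, 37785849955553348960258, 2252212214460421, 18897537508460592140293, 18894079025146903928837, 14167100574989878845441, 4725826373558250536964⟩) (.leaf ⟨11529778202180333568, 11530059608437567488, 3461579950782455808, 23611832414348343509001, 42501298345826890809351, 11530059677157040128, 33056565380087667490821⟩))) (.node (.node (.leaf ⟨3460734907544801285, 14170560464922620215305, 42501299472413992431626, 14169407262286751465473, 14170559620978743214087, 37783544393537958195203,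 18898690148146675200000⟩) (.leaf ⟨28342271036943727861761, 4729286545378268688386, 42502452956799849996297, 9453958871738281373701, 47229430562737969205254, 37789309564423279501319, 47232891015620663971846⟩)) (.leaf ⟨6920062852338298887, 18896385431243526778887, 37785852207147037782019, 9444733247420442382345, 37789309282467383889925, 42504757955040603279364, 23612987587790085578758⟩)))

def centMat14 : Tree (M7) :=
  (.node (.node (.node (.leaf ⟨47234043656199982850056, 9448194263734093389829, 9456262743941554671619, 23615291460680687845385, 23617597584958669475844, 28336506429695454121985, 18891773463475177693189⟩) (.leaf ⟨47225970671980711530504, 33065791004267899797507, 4613938368131112963, 9448192574884199563268, 4731592388662410649600, 37788156361443830136835, 23611834666629092909058⟩)) (.node (.leaf ⟨23618752195519328563208, 23619904554211504816131, 18894077617840689545219, 28335353789459715878917, 18895232791282465136648, 23618751350819537317894, 47229430562531777204229⟩) (.leaf ⟨42512830376035110359048, 18894077899246896427015, 33061177629605703487491, 14175170744253308481537,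 9453956619388644761608, 37789310690323236671488, 37783544956694120402954⟩))) (.node (.node (.leaf ⟨9448194263734093389829, 23615291460680687845385, 28336506429695454121985, 47234043656199982850056, 9456262743941554671619, 23617597584958669475844, 18891773463475177693189⟩) (.leaf ⟨14175171025041191096328, 14171712824027096547333, 28345729801388778614790, 14174018948305078222848, 28341119241476416495620, 28341118115507857276935, 37785851081040922161155⟩)) (.leaf ⟨23615292867918199554053, 23621057756710018494471, 18895231665451277758469, 28339963786697036025862, 18889467339265915518983, 23616445789697633968129, 47228277922433427591174⟩)))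

def centMat15 : Tree (M7) :=
  (.node (.node (.node (.leaf ⟨28339964349646939131911, 28339965475271917735939, 9225905930288238601, 9445887576643580473350, 37783546364343881830407, 4732744465673334292486, 23621058038185045532676⟩) (.leaf ⟨4724674014935028604931, 9455111511286875181066, 37780087318148959727624, 28344577161221709500421, 42508216156466964369417, 47230583765717519196169, 47234043374106614718466⟩)) (.node (.leaf ⟨18897537508460592140293, 18890620260701752533001, 18894079025146903928837, 37785849955553348960258, 14167100574989878845441, 2252212214460421, 4725826373558250536964⟩) (.leaf ⟨23611834385291538333696, 2305843009381478403, 42501299753682726813696, 3458764513988321283, 3458764513988325378, 11529215046118842378, 33056567913705904275456⟩))) (.node (.node (.leaf ⟨47229431970181622562826, 9447039653860780036099, 9450500388630600626179, 23616444945341356216325, 23612986743571347423234, 28336505303795614355465, 18895231102638863962114⟩) (.leaf ⟨18890619416414244585475, 14170558213191593140227, 37789309282398681202693, 42512830094697589399553, 33058872067727885893641,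 9445887295168670867458, 37784697315592387973129⟩)) (.leaf ⟨33065791004267899797507, 9448192574884199563268, 37788156361443830136835, 47225970671980711530504, 4613938368131112963, 4731592388662410649600, 23611834666629092909058⟩)))

def centMat : Tree (M7) :=
  (.node (.node (.node (.node centMat0 centMat8) (.node centMat4 centMat12)) (.node (.node centMat2 centMat10) (.node centMat6 centMat14))) (.node (.node (.node centMat1 centMat9) (.node centMat5 centMat13)) (.node (.node centMat3 centMat11) (.node centMat7 centMat15))))

def centNext0 : Tree (ℕ) :=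
  (.node (.node (.node (.node (.node (.leaf 1) (.leaf 71)) (.leaf 57)) (.node (.node (.leaf 13) (.leaf 85)) (.leaf 71))) (.node (.node (.node (.leaf 18) (.leaf 89)) (.leaf 39)) (.node (.node (.leaf 39) (.leaf 119)) (.leaf 45)))) (.node (.node (.node (.node (.leaf 10) (.leaf 61)) (.leaf 55)) (.node (.node (.leaf 39) (.leaf 115)) (.leaf 56))) (.node (.node (.node (.leaf 12) (.leaf 87)) (.leaf 30)) (.node (.leaf 25) (.leaf 73)))))

def centNext1 : Tree (ℕ) :=
  (.node (.node (.node (.node (.node (.leaf 2) (.leaf 99)) (.leaf 36)) (.node (.node (.leaf 32) (.leaf 101)) (.leaf 78))) (.node (.node (.node (.leaf 8) (.leaf 83)) (.leaf 67)) (.node (.node (.leaf 46) (.leaf 111)) (.leaf 82)))) (.node (.node (.node (.node (.leaf 11) (.leaf 98)) (.leaf 61)) (.node (.node (.leaf 22) (.leaf 102)) (.leaf 84))) (.node (.node (.node (.leaf 9) (.leaf 72)) (.leaf 66)) (.node (.leaf 51) (.leaf 66)))))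

def centNext2 : Tree (ℕ) :=
  (.node (.node (.node (.node (.node (.leaf 3) (.leaf 93)) (.leaf 51)) (.node (.node (.leaf 27) (.leaf 94)) (.leaf 35))) (.node (.node (.node (.leaf 19) (.leaf 95)) (.leaf 47)) (.node (.node (.leaf 47) (.leaf 119)) (.leaf 88)))) (.node (.node (.node (.node (.leaf 9) (.leaf 104)) (.leaf 22)) (.node (.node (.leaf 18) (.leaf 118)) (.leaf 63))) (.node (.node (.node (.leaf 25) (.leaf 108)) (.leaf 73)) (.node (.leaf 31) (.leaf 94)))))

def centNext3 : Tree (ℕ) :=
  (.node (.node (.node (.node (.node (.leaf 0) (.leaf 100)) (.leaf 19)) (.node (.node (.leaf 14) (.leaf 79)) (.leaf 58))) (.node (.node (.node (.leaf 1) (.leaf 90)) (.leaf 40)) (.node (.node (.leaf 40) (.leaf 114)) (.leaf 46)))) (.node (.node (.node (.node (.leaf 12) (.leaf 62)) (.leaf 56)) (.node (.node (.leaf 40) (.leaf 116)) (.leaf 57))) (.node (.node (.node (.leaf 13) (.leaf 112)) (.leaf 74)) (.node (.leaf 52) (.leaf 74)))))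

def centNext4 : Tree (ℕ) :=
  (.node (.node (.node (.node (.node (.leaf 4) (.leaf 101)) (.leaf 51)) (.node (.node (.leaf 33) (.leaf 102)) (.leaf 79))) (.node (.node (.node (.leaf 16) (.leaf 84)) (.leaf 26)) (.node (.node (.leaf 47) (.leaf 113)) (.leaf 83)))) (.node (.node (.node (.node (.leaf 13) (.leaf 99)) (.leaf 62)) (.node (.node (.leaf 23) (.leaf 103)) (.leaf 41))) (.node (.node (.node (.leaf 26) (.leaf 73)) (.leaf 67)) (.node (.leaf 16) (.leaf 67)))))

def centNext5 : Tree (ℕ) :=
  (.node (.node (.node (.node (.node (.leaf 5) (.leaf 94)) (.leaf 36)) (.node (.node (.leaf 28) (.leaf 115)) (.leaf 37))) (.node (.node (.node (.leaf 6) (.leaf 68)) (.leaf 48)) (.node (.node (.leaf 48) (.leaf 118)) (.leaf 89)))) (.node (.node (.node (.node (.leaf 10) (.leaf 105)) (.leaf 63)) (.node (.node (.leaf 41) (.leaf 112)) (.leaf 64))) (.node (.node (.node (.leaf 4) (.leaf 109)) (.leaf 74)) (.node (.leaf 32) (.leaf 52)))))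

def centNext6 : Tree (ℕ) :=
  (.node (.node (.node (.node (.node (.leaf 4) (.leaf 101)) (.leaf 58)) (.node (.node (.leaf 34) (.leaf 80)) (.leaf 59))) (.node (.node (.node (.leaf 20) (.leaf 91)) (.leaf 68)) (.node (.node (.leaf 41) (.leaf 117)) (.leaf 90)))) (.node (.node (.node (.node (.leaf 3) (.leaf 100)) (.leaf 57)) (.node (.node (.leaf 10) (.leaf 117)) (.leaf 85))) (.node (.node (.node (.leaf 14) (.leaf 113)) (.leaf 75)) (.node (.leaf 53) (.leaf 75)))))

def centNext7 : Tree (ℕ) :=
  (.node (.node (.node (.node (.node (.leaf 0) (.leaf 102)) (.leaf 52)) (.node (.node (.leaf 7) (.leaf 103)) (.leaf 80))) (.node (.node (.node (.leaf 17) (.leaf 110)) (.leaf 27)) (.node (.node (.leaf 23) (.leaf 116)) (.leaf 84)))) (.node (.node (.node (.node (.leaf 14) (.leaf 86)) (.leaf 63)) (.node (.node (.leaf 24) (.leaf 118)) (.leaf 42))) (.node (.node (.node (.leaf 27) (.leaf 89)) (.leaf 68)) (.node (.leaf 54) (.leaf 95)))))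

def centNext8 : Tree (ℕ) :=
  (.node (.node (.node (.node (.node (.leaf 6) (.leaf 95)) (.leaf 31)) (.node (.node (.leaf 29) (.leaf 116)) (.leaf 81))) (.node (.node (.node (.leaf 21) (.leaf 69)) (.leaf 49)) (.node (.leaf 49) (.leaf 90)))) (.node (.node (.node (.node (.leaf 11) (.leaf 106)) (.leaf 64)) (.node (.node (.leaf 42) (.leaf 105)) (.leaf 79))) (.node (.node (.node (.leaf 28) (.leaf 110)) (.leaf 48)) (.node (.leaf 33) (.leaf 53)))))

def centNext9 : Tree (ℕ) :=
  (.node (.node (.node (.node (.node (.leaf 5) (.leaf 75)) (.leaf 59)) (.node (.node (.leaf 35) (.leaf 96)) (.leaf 60))) (.node (.node (.node (.leaf 2) (.leaf 92)) (.leaf 69)) (.node (.leaf 42) (.leaf 91)))) (.node (.node (.node (.node (.leaf 15) (.leaf 107)) (.leaf 44)) (.node (.node (.leaf 43) (.leaf 112)) (.leaf 58))) (.node (.node (.node (.leaf 15) (.leaf 91)) (.leaf 76)) (.node (.leaf 54) (.leaf 76)))))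

def centNext10 : Tree (ℕ) :=
  (.node (.node (.node (.node (.node (.leaf 7) (.leaf 103)) (.leaf 53)) (.node (.node (.leaf 36) (.leaf 104)) (.leaf 81))) (.node (.node (.node (.leaf 18) (.leaf 111)) (.leaf 70)) (.node (.leaf 24) (.leaf 85)))) (.node (.node (.node (.node (.leaf 0) (.leaf 87)) (.leaf 43)) (.node (.node (.leaf 37) (.leaf 108)) (.leaf 86))) (.node (.node (.node (.leaf 11) (.leaf 114)) (.leaf 69)) (.node (.leaf 55) (.leaf 96)))))

def centNext11 : Tree (ℕ) :=
  (.node (.node (.node (.node (.node (.leaf 8) (.leaf 96)) (.leaf 32)) (.node (.node (.leaf 20) (.leaf 98)) (.leaf 82))) (.node (.node (.node (.leaf 22) (.leaf 106)) (.leaf 50)) (.node (.leaf 50) (.leaf 64)))) (.node (.node (.node (.node (.leaf 6) (.leaf 107)) (.leaf 65)) (.node (.node (.leaf 20) (.leaf 119)) (.leaf 80))) (.node (.node (.node (.leaf 29) (.leaf 111)) (.leaf 49)) (.node (.leaf 34) (.leaf 97)))))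

def centNext12 : Tree (ℕ) :=
  (.node (.node (.node (.node (.node (.leaf 2) (.leaf 76)) (.leaf 60)) (.node (.node (.leaf 37) (.leaf 117)) (.leaf 61))) (.node (.node (.node (.leaf 23) (.leaf 106)) (.leaf 70)) (.node (.leaf 43) (.leaf 92)))) (.node (.node (.node (.node (.leaf 16) (.leaf 108)) (.leaf 45)) (.node (.node (.leaf 44) (.leaf 113)) (.leaf 59))) (.node (.node (.node (.leaf 25) (.leaf 92)) (.leaf 77)) (.node (.leaf 28) (.leaf 77)))))

def centNext13 : Tree (ℕ) :=
  (.node (.node (.node (.node (.node (.leaf 1) (.leaf 88)) (.leaf 54)) (.node (.node (.leaf 38) (.leaf 105)) (.leaf 55))) (.node (.node (.node (.leaf 19) (.leaf 86)) (.leaf 71)) (.node (.leaf 44) (.leaf 72)))) (.node (.node (.node (.node (.leaf 17) (.leaf 88)) (.leaf 38)) (.node (.node (.leaf 38) (.leaf 109)) (.leaf 87))) (.node (.node (.node (.leaf 30) (.leaf 104)) (.leaf 70)) (.node (.leaf 56) (.leaf 97)))))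

def centNext14 : Tree (ℕ) :=
  (.node (.node (.node (.node (.node (.leaf 9) (.leaf 97)) (.leaf 33)) (.node (.node (.leaf 21) (.leaf 99)) (.leaf 83))) (.node (.node (.node (.leaf 8) (.leaf 78)) (.leaf 65)) (.node (.leaf 15) (.leaf 65)))) (.node (.node (.node (.node (.leaf 7) (.leaf 82)) (.leaf 66)) (.node (.node (.leaf 45) (.leaf 115)) (.leaf 81))) (.node (.node (.node (.leaf 31) (.leaf 100)) (.leaf 50)) (.node (.leaf 35) (.leaf 98)))))

def centNext15 : Tree (ℕ) :=
  (.node (.node (.node (.node (.node (.leaf 3) (.leaf 77)) (.leaf 21)) (.node (.node (.leaf 17) (.leaf 110)) (.leaf 62))) (.node (.node (.node (.leaf 24) (.leaf 107)) (.leaf 72)) (.node (.leaf 30) (.leaf 93)))) (.node (.node (.node (.node (.leaf 5) (.leaf 109)) (.leaf 46)) (.node (.node (.leaf 12) (.leaf 114)) (.leaf 60))) (.node (.node (.node (.leaf 26) (.leaf 93)) (.leaf 34)) (.node (.leaf 29) (.leaf 78)))))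

def centNext : Tree (ℕ) :=
  (.node (.node (.node (.node centNext0 centNext8) (.node centNext4 centNext12)) (.node (.node centNext2 centNext10) (.node centNext6 centNext14))) (.node (.node (.node centNext1 centNext9) (.node centNext5 centNext13)) (.node (.node centNext3 centNext11) (.node centNext7 centNext15))))

def centPar0 : Tree (ℕ × ℕ) :=
  (.node (.node (.node (.leaf (0, 0)) (.leaf (50, 2))) (.node (.leaf (21, 2)) (.leaf (83, 1)))) (.node (.node (.leaf (9, 1)) (.leaf (66, 1))) (.node (.leaf (33, 2)) (.leaf (102, 1)))))

def centPar1 : Tree (ℕ × ℕ) :=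
  (.node (.node (.node (.leaf (0, 0)) (.leaf (51, 2))) (.node (.leaf (22, 2)) (.leaf (83, 2)))) (.node (.node (.leaf (9, 2)) (.leaf (66, 2))) (.node (.leaf (34, 2)) (.leaf (103, 1)))))

def centPar2 : Tree (ℕ × ℕ) :=
  (.node (.node (.node (.leaf (0, 1)) (.leaf (52, 2))) (.node (.leaf (23, 1)) (.leaf (84, 2)))) (.node (.node (.leaf (10, 2)) (.leaf (67, 2))) (.node (.leaf (35, 2)) (.leaf (104, 2)))))

def centPar3 : Tree (ℕ × ℕ) :=
  (.node (.node (.node (.leaf (0, 2)) (.leaf (53, 2))) (.node (.leaf (24, 1)) (.leaf (85, 2)))) (.node (.node (.leaf (11, 1)) (.leaf (68, 2))) (.node (.leaf (37, 2)) (.leaf (108, 1)))))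

def centPar4 : Tree (ℕ × ℕ) :=
  (.node (.node (.node (.leaf (1, 1)) (.leaf (55, 1))) (.node (.leaf (24, 2)) (.leaf (86, 1)))) (.node (.node (.leaf (12, 2)) (.leaf (69, 2))) (.node (.leaf (38, 1)) (.leaf (109, 1)))))

def centPar5 : Tree (ℕ × ℕ) :=
  (.node (.node (.node (.leaf (1, 2)) (.leaf (56, 1))) (.node (.leaf (25, 1)) (.leaf (86, 2)))) (.node (.node (.leaf (13, 1)) (.leaf (71, 1))) (.node (.leaf (39, 1)) (.leaf (110, 2)))))

def centPar6 : Tree (ℕ × ℕ) :=
  (.node (.node (.node (.leaf (2, 2)) (.leaf (56, 2))) (.node (.leaf (25, 2)) (.leaf (87, 2)))) (.node (.node (.leaf (14, 1)) (.leaf (72, 2))) (.node (.leaf (39, 2)) (.leaf (112, 2)))))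

def centPar7 : Tree (ℕ × ℕ) :=
  (.node (.node (.node (.leaf (3, 1)) (.leaf (57, 2))) (.node (.leaf (26, 2)) (.leaf (88, 2)))) (.node (.node (.leaf (14, 2)) (.leaf (73, 2))) (.node (.leaf (40, 2)) (.leaf (115, 2)))))

def centPar8 : Tree (ℕ × ℕ) :=
  (.node (.node (.node (.leaf (3, 2)) (.leaf (58, 1))) (.node (.leaf (27, 2)) (.leaf (91, 1)))) (.node (.node (.leaf (15, 2)) (.leaf (75, 1))) (.leaf (41, 2))))

def centPar9 : Tree (ℕ × ℕ) :=
  (.node (.node (.node (.leaf (4, 2)) (.leaf (59, 1))) (.node (.leaf (28, 1)) (.leaf (92, 1)))) (.node (.node (.leaf (16, 2)) (.leaf (76, 1))) (.leaf (42, 2))))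

def centPar10 : Tree (ℕ × ℕ) :=
  (.node (.node (.node (.leaf (5, 1)) (.leaf (59, 2))) (.node (.leaf (29, 1)) (.leaf (93, 1)))) (.node (.node (.leaf (17, 1)) (.leaf (76, 2))) (.leaf (44, 2))))

def centPar11 : Tree (ℕ × ℕ) :=
  (.node (.node (.node (.leaf (5, 2)) (.leaf (60, 2))) (.node (.leaf (29, 2)) (.leaf (93, 2)))) (.node (.node (.leaf (18, 1)) (.leaf (77, 2))) (.leaf (45, 2))))

def centPar12 : Tree (ℕ × ℕ) :=
  (.node (.node (.node (.leaf (6, 1)) (.leaf (61, 2))) (.node (.leaf (30, 2)) (.leaf (94, 2)))) (.node (.node (.leaf (18, 2)) (.leaf (78, 2))) (.leaf (46, 2))))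

def centPar13 : Tree (ℕ × ℕ) :=
  (.node (.node (.node (.leaf (6, 2)) (.leaf (62, 2))) (.node (.leaf (31, 1)) (.leaf (95, 2)))) (.node (.node (.leaf (19, 2)) (.leaf (79, 2))) (.leaf (48, 1))))

def centPar14 : Tree (ℕ × ℕ) :=
  (.node (.node (.node (.leaf (7, 2)) (.leaf (64, 1))) (.node (.leaf (32, 1)) (.leaf (98, 1)))) (.node (.node (.leaf (20, 1)) (.leaf (80, 2))) (.leaf (49, 1))))

def centPar15 : Tree (ℕ × ℕ) :=
  (.node (.node (.node (.leaf (8, 1)) (.leaf (65, 1))) (.node (.leaf (32, 2)) (.leaf (99, 1)))) (.node (.node (.leaf (20, 2)) (.leaf (82, 1))) (.leaf (49, 2))))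

def centPar : Tree (ℕ × ℕ) :=
  (.node (.node (.node (.node centPar0 centPar8) (.node centPar4 centPar12)) (.node (.node centPar2 centPar10) (.node centPar6 centPar14))) (.node (.node (.node centPar1 centPar9) (.node centPar5 centPar13)) (.node (.node centPar3 centPar11) (.node centPar7 centPar15))))

def centCodes : List ℕ := [43210, 143210, 42301, 3412, 142301, 103412, 12403, 4321, 23014, 112403, 104321, 123014, 14230, 32104, 14023, 20341, 114230, 132104, 114023, 120341, 4132, 31240, 10432, 34120, 10243, 104132, 131240, 110432, 134120, 110243, 1423, 24031, 1342, 20134, 31402, 12034, 30142, 101423, 124031, 101342, 120134, 131402, 112034, 130142, 31024, 20413, 3124, 21043, 40231, 21304, 42130, 131024, 120413, 103124, 121043, 140231, 121304, 142130, 41320, 30214, 43021, 42013, 23140, 41203, 2431, 141320, 130214, 143021, 142013, 123140, 141203, 102431, 43102, 32041, 40312, 13420, 32410, 3241, 4213, 143102, 132041, 140312, 113420, 132410, 103241, 104213, 23401, 12340, 14302, 34201, 2314, 13042, 34012, 123401, 112340, 114302, 134201, 102314, 113042, 134012, 24310, 13204, 2143, 24103,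 10324, 30421, 124310, 113204, 102143, 124103, 110324, 130421, 1234, 21430, 40123, 101234, 121430, 140123, 41032, 141032]

def centCand : List ℕ := [0, 101, 181, 241, 674, 726, 806, 867, 971, 1030, 1315, 1382]

def centLookup0 : Tree (ℕ) :=
  (.node (.node (.node (.node (.node (.node (.node (.leaf 0) (.leaf 120)) (.leaf 120)) (.node (.node (.leaf 37) (.leaf 120)) (.leaf 120))) (.node (.node (.node (.leaf 120) (.leaf 120)) (.leaf 120)) (.node (.leaf 120) (.leaf 120)))) (.node (.node (.node (.node (.leaf 120) (.leaf 120)) (.leaf 120)) (.node (.leaf 120) (.leaf 120))) (.node (.node (.node (.leaf 120) (.leaf 120)) (.leaf 85)) (.node (.leaf 120) (.leaf 120))))) (.node (.node (.node (.node (.node (.leaf 120) (.leaf 120)) (.leaf 120)) (.node (.node (.leaf 120) (.leaf 120)) (.leaf 120))) (.node (.node (.node (.leaf 120) (.leaf 120)) (.leaf 79)) (.node (.leaf 120) (.leaf 120)))) (.node (.node (.node (.node (.leaf 120) (.leaf 120)) (.leaf 120)) (.node (.leaf 120) (.leaf 120))) (.node (.node (.node (.leaf 120) (.leaf 52)) (.leaf 120)) (.node (.leaf 120) (.leaf 120)))))) (.node (.node (.node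 (.node (.node (.node (.leaf 120) (.leaf 120)) (.leaf 120)) (.node (.node (.leaf 96) (.leaf 120)) (.leaf 120))) (.node (.node (.node (.leaf 120) (.leaf 120)) (.leaf 120)) (.node (.leaf 120) (.leaf 120)))) (.node (.node (.node (.node (.leaf 120) (.leaf 120)) (.leaf 120)) (.node (.leaf 120) (.leaf 120))) (.node (.node (.node (.leaf 120) (.leaf 120)) (.leaf 120)) (.node (.leaf 93) (.leaf 120))))) (.node (.node (.node (.node (.node (.leaf 120) (.leaf 120)) (.leaf 120)) (.node (.leaf 120) (.leaf 120))) (.node (.node (.node (.leaf 2) (.leaf 120)) (.leaf 120)) (.node (.leaf 120) (.leaf 120)))) (.node (.node (.node (.node (.leaf 120) (.leaf 120)) (.leaf 120)) (.node (.leaf 120) (.leaf 120))) (.node (.node (.node (.leaf 120) (.leaf 84)) (.leaf 120)) (.node (.leaf 120) (.leaf 120)))))))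

def centLookup1 : Tree (ℕ) :=
  (.node (.node (.node (.node (.node (.node (.node (.leaf 54) (.leaf 120)) (.leaf 120)) (.node (.node (.leaf 120) (.leaf 120)) (.leaf 120))) (.node (.node (.node (.leaf 120) (.leaf 120)) (.leaf 120)) (.node (.leaf 120) (.leaf 120)))) (.node (.node (.node (.node (.leaf 120) (.leaf 120)) (.leaf 120)) (.node (.leaf 120) (.leaf 120))) (.node (.node (.node (.leaf 120) (.leaf 120)) (.leaf 120)) (.node (.leaf 120) (.leaf 120))))) (.node (.node (.node (.node (.node (.leaf 120) (.leaf 120)) (.leaf 120)) (.node (.node (.leaf 120) (.leaf 120)) (.leaf 120))) (.node (.node (.node (.leaf 4) (.leaf 106)) (.leaf 120)) (.node (.leaf 120) (.leaf 120)))) (.node (.node (.node (.node (.leaf 120) (.leaf 120)) (.leaf 120)) (.node (.leaf 120) (.leaf 120))) (.node (.node (.node (.leaf 120) (.leaf 120)) (.leaf 120)) (.node (.leaf 120) (.leaf 120)))))) (.node (.node (.node (.node (.node (.node (.leaf 120) (.leaf 120)) (.leaf 120)) (.node (.node (.leaf 120) (.leaf 120)) (.leaf 120))) (.node (.node (.node (.leaf 18) (.leaf 120)) (.leaf 59)) (.node (.leaf 120) (.leaf 120))))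 (.node (.node (.node (.node (.leaf 120) (.leaf 120)) (.leaf 120)) (.node (.leaf 120) (.leaf 120))) (.node (.node (.node (.leaf 120) (.leaf 120)) (.leaf 104)) (.node (.leaf 120) (.leaf 120))))) (.node (.node (.node (.node (.node (.leaf 120) (.leaf 120)) (.leaf 120)) (.node (.leaf 120) (.leaf 120))) (.node (.node (.node (.leaf 120) (.leaf 120)) (.leaf 120)) (.node (.leaf 53) (.leaf 120)))) (.node (.node (.node (.node (.leaf 120) (.leaf 120)) (.leaf 120)) (.node (.leaf 120) (.leaf 120))) (.node (.node (.node (.leaf 120) (.leaf 120)) (.leaf 120)) (.node (.leaf 87) (.leaf 120)))))))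

def centLookup2 : Tree (ℕ) :=
  (.node (.node (.node (.node (.node (.node (.node (.leaf 7) (.leaf 120)) (.leaf 120)) (.node (.node (.leaf 120) (.leaf 120)) (.leaf 120))) (.node (.node (.node (.leaf 120) (.leaf 120)) (.leaf 120)) (.node (.leaf 120) (.leaf 120)))) (.node (.node (.node (.node (.leaf 120) (.leaf 120)) (.leaf 120)) (.node (.leaf 120) (.leaf 120))) (.node (.node (.node (.leaf 120) (.leaf 120)) (.leaf 120)) (.node (.leaf 120) (.leaf 75))))) (.node (.node (.node (.node (.node (.leaf 120) (.leaf 120)) (.leaf 120)) (.node (.node (.leaf 120) (.leaf 120)) (.leaf 120))) (.node (.node (.node (.leaf 120) (.leaf 120)) (.leaf 120)) (.node (.leaf 120) (.leaf 120)))) (.node (.node (.node (.node (.leaf 120) (.leaf 120)) (.leaf 120)) (.node (.leaf 120) (.leaf 120))) (.node (.node (.node (.leaf 120) (.leaf 120)) (.leaf 120)) (.node (.leaf 120) (.leaf 120)))))) (.node (.node (.node (.node (.node (.node (.leaf 120) (.leaf 120)) (.leaf 120)) (.node (.node (.leaf 120) (.leaf 120)) (.leaf 25))) (.node (.node (.node (.leaf 120) (.leaf 120)) (.leaf 120)) (.node (.leaf 120) (.leaf 120))))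 (.node (.node (.node (.node (.leaf 120) (.leaf 120)) (.leaf 65)) (.node (.leaf 120) (.leaf 120))) (.node (.node (.node (.leaf 120) (.leaf 120)) (.leaf 120)) (.node (.leaf 120) (.leaf 120))))) (.node (.node (.node (.node (.node (.leaf 120) (.leaf 55)) (.leaf 66)) (.node (.leaf 120) (.leaf 29))) (.node (.node (.node (.leaf 120) (.leaf 120)) (.leaf 80)) (.node (.leaf 120) (.leaf 120)))) (.node (.node (.node (.node (.leaf 120) (.leaf 120)) (.leaf 120)) (.node (.leaf 12) (.leaf 120))) (.node (.node (.node (.leaf 120) (.leaf 120)) (.leaf 120)) (.node (.leaf 120) (.leaf 120)))))))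

def centLookup3 : Tree (ℕ) :=
  (.node (.node (.node (.node (.node (.node (.node (.leaf 17) (.leaf 120)) (.leaf 120)) (.node (.node (.leaf 120) (.leaf 120)) (.leaf 120))) (.node (.node (.node (.leaf 120) (.leaf 120)) (.leaf 120)) (.node (.leaf 120) (.leaf 38)))) (.node (.node (.node (.node (.leaf 120) (.leaf 120)) (.leaf 120)) (.node (.leaf 35) (.leaf 49))) (.node (.node (.node (.leaf 120) (.leaf 120)) (.leaf 120)) (.node (.leaf 120) (.leaf 120))))) (.node (.node (.node (.node (.node (.leaf 120) (.leaf 120)) (.leaf 120)) (.node (.node (.leaf 120) (.leaf 44)) (.leaf 120))) (.node (.node (.node (.leaf 120) (.leaf 120)) (.leaf 120)) (.node (.leaf 120) (.leaf 120)))) (.node (.node (.node (.node (.leaf 120) (.leaf 107)) (.leaf 64)) (.node (.leaf 120) (.leaf 120))) (.node (.node (.node (.leaf 120) (.leaf 120)) (.leaf 78)) (.node (.leaf 120) (.leaf 120)))))) (.node (.node (.node (.node (.node (.node (.leaf 120) (.leaf 120)) (.leaf 120)) (.node (.node (.leaf 120) (.leaf 120)) (.leaf 120))) (.node (.node (.node (.leaf 120) (.leaf 120)) (.leaf 120)) (.node (.leaf 120) (.leaf 120)))) (.node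 (.node (.node (.node (.leaf 120) (.leaf 120)) (.leaf 120)) (.node (.leaf 120) (.leaf 120))) (.node (.node (.node (.leaf 120) (.leaf 120)) (.leaf 120)) (.node (.leaf 120) (.leaf 120))))) (.node (.node (.node (.node (.node (.leaf 120) (.leaf 120)) (.leaf 120)) (.node (.leaf 120) (.leaf 120))) (.node (.node (.node (.leaf 120) (.leaf 120)) (.leaf 120)) (.node (.leaf 120) (.leaf 120)))) (.node (.node (.node (.node (.leaf 120) (.leaf 120)) (.leaf 120)) (.node (.leaf 120) (.leaf 120))) (.node (.node (.node (.leaf 120) (.leaf 120)) (.leaf 120)) (.node (.leaf 120) (.leaf 120)))))))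

def centLookup4 : Tree (ℕ) :=
  (.node (.node (.node (.node (.node (.node (.node (.leaf 22) (.leaf 120)) (.leaf 120)) (.node (.node (.leaf 69) (.leaf 120)) (.leaf 120))) (.node (.node (.node (.leaf 120) (.leaf 102)) (.leaf 120)) (.node (.leaf 120) (.leaf 90)))) (.node (.node (.node (.node (.leaf 120) (.leaf 120)) (.leaf 109)) (.node (.leaf 120) (.leaf 120))) (.node (.node (.node (.leaf 120) (.leaf 51)) (.leaf 120)) (.node (.leaf 120) (.leaf 120))))) (.node (.node (.node (.node (.node (.leaf 120) (.leaf 120)) (.leaf 117)) (.node (.node (.leaf 120) (.leaf 120)) (.leaf 67))) (.node (.node (.node (.leaf 120) (.leaf 120)) (.leaf 120)) (.node (.leaf 120) (.leaf 120)))) (.node (.node (.node (.node (.leaf 120) (.leaf 120)) (.leaf 120)) (.node (.leaf 120) (.leaf 120))) (.node (.node (.node (.leaf 120) (.leaf 57)) (.leaf 120)) (.node (.leaf 120) (.leaf 120)))))) (.node (.node (.node (.node (.node (.node (.leaf 120) (.leaf 120)) (.leaf 120)) (.node (.node (.leaf 120) (.leaf 120)) (.leaf 120))) (.node (.node (.node (.leaf 120) (.leaf 120)) (.leaf 120)) (.node (.leaf 120) (.leaf 120)))) (.node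 (.node (.node (.node (.leaf 120) (.leaf 120)) (.leaf 120)) (.node (.leaf 120) (.leaf 120))) (.node (.node (.node (.leaf 33) (.leaf 120)) (.leaf 120)) (.node (.leaf 120) (.leaf 120))))) (.node (.node (.node (.node (.node (.leaf 120) (.leaf 120)) (.leaf 120)) (.node (.leaf 120) (.leaf 56))) (.node (.node (.node (.leaf 120) (.leaf 120)) (.leaf 120)) (.node (.leaf 120) (.leaf 63)))) (.node (.node (.node (.node (.leaf 120) (.leaf 120)) (.leaf 120)) (.node (.leaf 120) (.leaf 120))) (.node (.node (.node (.leaf 120) (.leaf 120)) (.leaf 120)) (.node (.leaf 120) (.leaf 28)))))))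

def centLookup5 : Tree (ℕ) :=
  (.node (.node (.node (.node (.node (.node (.node (.leaf 1) (.leaf 48)) (.leaf 120)) (.node (.node (.leaf 120) (.leaf 120)) (.leaf 120))) (.node (.node (.node (.leaf 120) (.leaf 120)) (.leaf 120)) (.node (.leaf 120) (.leaf 120)))) (.node (.node (.node (.node (.leaf 120) (.leaf 120)) (.leaf 120)) (.node (.leaf 120) (.leaf 120))) (.node (.node (.node (.leaf 120) (.leaf 120)) (.leaf 120)) (.node (.leaf 114) (.leaf 120))))) (.node (.node (.node (.node (.node (.leaf 120) (.leaf 120)) (.leaf 120)) (.node (.node (.leaf 120) (.leaf 120)) (.leaf 120))) (.node (.node (.node (.leaf 120) (.leaf 120)) (.leaf 120)) (.node (.leaf 120) (.leaf 70)))) (.node (.node (.node (.node (.leaf 120) (.leaf 120)) (.leaf 120)) (.node (.leaf 120) (.leaf 120))) (.node (.node (.node (.leaf 120) (.leaf 120)) (.leaf 120)) (.node (.leaf 112) (.leaf 120)))))) (.node (.node (.node (.node (.node (.node (.leaf 120) (.leaf 8)) (.leaf 120)) (.node (.node (.leaf 120) (.leaf 120)) (.leaf 120))) (.node (.node (.node (.leaf 120) (.leaf 120)) (.leaf 120)) (.node (.leaf 16) (.leaf 82)))) (.node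 (.node (.node (.node (.leaf 120) (.leaf 120)) (.leaf 120)) (.node (.leaf 120) (.leaf 120))) (.node (.node (.node (.leaf 120) (.leaf 120)) (.leaf 120)) (.node (.leaf 120) (.leaf 120))))) (.node (.node (.node (.node (.node (.leaf 120) (.leaf 120)) (.leaf 120)) (.node (.leaf 120) (.leaf 120))) (.node (.node (.node (.leaf 120) (.leaf 120)) (.leaf 120)) (.node (.leaf 120) (.leaf 120)))) (.node (.node (.node (.node (.leaf 120) (.leaf 120)) (.leaf 58)) (.node (.leaf 120) (.leaf 120))) (.node (.node (.node (.leaf 120) (.leaf 120)) (.leaf 120)) (.node (.leaf 120) (.leaf 120)))))))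

def centLookup6 : Tree (ℕ) :=
  (.node (.node (.node (.node (.node (.node (.node (.leaf 47) (.leaf 120)) (.leaf 120)) (.node (.node (.leaf 120) (.leaf 120)) (.leaf 120))) (.node (.node (.node (.leaf 120) (.leaf 120)) (.leaf 120)) (.node (.leaf 120) (.leaf 120)))) (.node (.node (.node (.node (.leaf 120) (.leaf 120)) (.leaf 120)) (.node (.leaf 120) (.leaf 120))) (.node (.node (.node (.leaf 120) (.leaf 120)) (.leaf 120)) (.node (.leaf 120) (.leaf 120))))) (.node (.node (.node (.node (.node (.leaf 120) (.leaf 120)) (.leaf 120)) (.node (.node (.leaf 120) (.leaf 120)) (.leaf 120))) (.node (.node (.node (.leaf 120) (.leaf 120)) (.leaf 120)) (.node (.leaf 120) (.leaf 120)))) (.node (.node (.node (.node (.leaf 120) (.leaf 120)) (.leaf 120)) (.node (.leaf 120) (.leaf 120))) (.node (.node (.node (.leaf 120) (.leaf 120)) (.leaf 120)) (.node (.leaf 120) (.leaf 120)))))) (.node (.node (.node (.node (.node (.node (.leaf 120) (.leaf 120)) (.leaf 120)) (.node (.node (.leaf 120) (.leaf 120)) (.leaf 120))) (.node (.node (.node (.leaf 120) (.leaf 120)) (.leaf 120)) (.node (.leaf 120) (.leaf 120))))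 (.node (.node (.node (.node (.leaf 120) (.leaf 120)) (.leaf 120)) (.node (.leaf 120) (.leaf 120))) (.node (.node (.node (.leaf 120) (.leaf 120)) (.leaf 120)) (.node (.leaf 120) (.leaf 120))))) (.node (.node (.node (.node (.node (.leaf 120) (.leaf 120)) (.leaf 120)) (.node (.leaf 120) (.leaf 120))) (.node (.node (.node (.leaf 120) (.leaf 120)) (.leaf 120)) (.node (.leaf 120) (.leaf 120)))) (.node (.node (.node (.node (.leaf 120) (.leaf 120)) (.leaf 120)) (.node (.leaf 120) (.leaf 120))) (.node (.node (.node (.leaf 120) (.leaf 120)) (.leaf 116)) (.node (.leaf 94) (.leaf 120)))))))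

def centLookup7 : Tree (ℕ) :=
  (.node (.node (.node (.node (.node (.node (.node (.leaf 10) (.leaf 120)) (.leaf 120)) (.node (.node (.leaf 120) (.leaf 50)) (.leaf 120))) (.node (.node (.node (.leaf 120) (.leaf 120)) (.leaf 120)) (.node (.leaf 120) (.leaf 120)))) (.node (.node (.node (.node (.leaf 120) (.leaf 120)) (.leaf 120)) (.node (.leaf 120) (.leaf 120))) (.node (.node (.node (.leaf 120) (.leaf 120)) (.leaf 120)) (.node (.leaf 120) (.leaf 120))))) (.node (.node (.node (.node (.node (.leaf 120) (.leaf 120)) (.leaf 120)) (.node (.node (.leaf 62) (.leaf 120)) (.leaf 120))) (.node (.node (.node (.leaf 120) (.leaf 120)) (.leaf 120)) (.node (.leaf 120) (.leaf 120)))) (.node (.node (.node (.node (.leaf 120) (.leaf 120)) (.leaf 120)) (.node (.leaf 41) (.leaf 20))) (.node (.node (.node (.leaf 120) (.leaf 120)) (.leaf 120)) (.node (.leaf 120) (.leaf 120)))))) (.node (.node (.node (.node (.node (.node (.leaf 120) (.leaf 120)) (.leaf 120)) (.node (.node (.leaf 120) (.leaf 120)) (.leaf 120))) (.node (.node (.node (.leaf 120) (.leaf 120)) (.leaf 120)) (.node (.leaf 120) (.leaf 120))))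 (.node (.node (.node (.node (.leaf 120) (.leaf 120)) (.leaf 120)) (.node (.leaf 120) (.leaf 120))) (.node (.node (.node (.leaf 120) (.leaf 120)) (.leaf 120)) (.node (.leaf 92) (.leaf 120))))) (.node (.node (.node (.node (.node (.leaf 120) (.leaf 120)) (.leaf 120)) (.node (.leaf 120) (.leaf 120))) (.node (.node (.node (.leaf 120) (.leaf 111)) (.leaf 120)) (.node (.leaf 120) (.leaf 120)))) (.node (.node (.node (.node (.leaf 120) (.leaf 120)) (.leaf 120)) (.node (.leaf 120) (.leaf 120))) (.node (.node (.node (.leaf 120) (.leaf 120)) (.leaf 120)) (.node (.leaf 120) (.leaf 120)))))))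

def centLookup8 : Tree (ℕ) :=
  (.node (.node (.node (.node (.node (.node (.node (.leaf 13) (.leaf 120)) (.leaf 120)) (.node (.node (.leaf 120) (.leaf 120)) (.leaf 120))) (.node (.node (.node (.leaf 120) (.leaf 120)) (.leaf 98)) (.node (.leaf 120) (.leaf 120)))) (.node (.node (.node (.node (.leaf 120) (.leaf 39)) (.leaf 120)) (.node (.leaf 120) (.leaf 120))) (.node (.node (.node (.leaf 120) (.leaf 120)) (.leaf 120)) (.node (.leaf 120) (.leaf 120))))) (.node (.node (.node (.node (.node (.leaf 120) (.leaf 120)) (.leaf 120)) (.node (.leaf 120) (.leaf 120))) (.node (.node (.node (.leaf 120) (.leaf 120)) (.leaf 120)) (.node (.leaf 34) (.leaf 120)))) (.node (.node (.node (.node (.leaf 120) (.leaf 120)) (.leaf 120)) (.node (.leaf 120) (.leaf 120))) (.node (.node (.node (.leaf 120) (.leaf 120)) (.leaf 120)) (.node (.leaf 120) (.leaf 120)))))) (.node (.node (.node (.node (.node (.node (.leaf 120) (.leaf 120)) (.leaf 120)) (.node (.node (.leaf 120) (.leaf 120)) (.leaf 120))) (.node (.node (.node (.leaf 120) (.leaf 120)) (.leaf 120)) (.node (.leaf 120) (.leaf 120)))) (.node (.node (.node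 (.node (.leaf 120) (.leaf 105)) (.leaf 120)) (.node (.leaf 120) (.leaf 120))) (.node (.node (.node (.leaf 120) (.leaf 120)) (.leaf 120)) (.node (.leaf 120) (.leaf 31))))) (.node (.node (.node (.node (.node (.leaf 120) (.leaf 120)) (.leaf 120)) (.node (.leaf 120) (.leaf 120))) (.node (.node (.node (.leaf 21) (.leaf 120)) (.leaf 120)) (.node (.leaf 120) (.leaf 120)))) (.node (.node (.node (.node (.leaf 120) (.leaf 118)) (.leaf 120)) (.node (.leaf 120) (.leaf 120))) (.node (.node (.node (.leaf 120) (.leaf 120)) (.leaf 120)) (.node (.leaf 120) (.leaf 120)))))))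

def centLookup9 : Tree (ℕ) :=
  (.node (.node (.node (.node (.node (.node (.node (.leaf 27) (.leaf 6)) (.leaf 120)) (.node (.node (.leaf 120) (.leaf 120)) (.leaf 120))) (.node (.node (.node (.leaf 120) (.leaf 108)) (.leaf 120)) (.node (.leaf 120) (.leaf 120)))) (.node (.node (.node (.node (.leaf 120) (.leaf 120)) (.leaf 120)) (.node (.leaf 120) (.leaf 120))) (.node (.node (.node (.leaf 120) (.leaf 120)) (.leaf 120)) (.node (.leaf 120) (.leaf 120))))) (.node (.node (.node (.node (.node (.leaf 120) (.leaf 120)) (.leaf 120)) (.node (.leaf 120) (.leaf 120))) (.node (.node (.node (.leaf 120) (.leaf 120)) (.leaf 120)) (.node (.leaf 120) (.leaf 120)))) (.node (.node (.node (.node (.leaf 120) (.leaf 120)) (.leaf 120)) (.node (.leaf 120) (.leaf 120))) (.node (.node (.node (.leaf 120) (.leaf 120)) (.leaf 73)) (.node (.leaf 120) (.leaf 32)))))) (.node (.node (.node (.node (.node (.node (.leaf 120) (.leaf 120)) (.leaf 120)) (.node (.node (.leaf 120) (.leaf 120)) (.leaf 120))) (.node (.node (.node (.leaf 120) (.leaf 120)) (.leaf 120)) (.node (.leaf 120) (.leaf 43)))) (.node (.node (.node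 (.node (.leaf 120) (.leaf 120)) (.leaf 120)) (.node (.leaf 120) (.leaf 120))) (.node (.node (.node (.leaf 120) (.leaf 120)) (.leaf 120)) (.node (.leaf 120) (.leaf 120))))) (.node (.node (.node (.node (.node (.leaf 120) (.leaf 120)) (.leaf 120)) (.node (.leaf 120) (.leaf 120))) (.node (.node (.node (.leaf 120) (.leaf 120)) (.leaf 120)) (.node (.leaf 120) (.leaf 120)))) (.node (.node (.node (.node (.leaf 120) (.leaf 120)) (.leaf 120)) (.node (.leaf 120) (.leaf 120))) (.node (.node (.node (.leaf 74) (.leaf 120)) (.leaf 120)) (.node (.leaf 120) (.leaf 120)))))))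

def centLookup10 : Tree (ℕ) :=
  (.node (.node (.node (.node (.node (.node (.node (.leaf 120) (.leaf 120)) (.leaf 120)) (.node (.node (.leaf 120) (.leaf 120)) (.leaf 120))) (.node (.node (.node (.leaf 3) (.leaf 120)) (.leaf 120)) (.node (.leaf 120) (.leaf 120)))) (.node (.node (.node (.node (.leaf 120) (.leaf 120)) (.leaf 120)) (.node (.leaf 120) (.leaf 120))) (.node (.node (.node (.leaf 120) (.leaf 120)) (.leaf 120)) (.node (.leaf 120) (.leaf 120))))) (.node (.node (.node (.node (.node (.leaf 120) (.leaf 120)) (.leaf 120)) (.node (.leaf 120) (.leaf 120))) (.node (.node (.node (.leaf 120) (.leaf 120)) (.leaf 120)) (.node (.leaf 120) (.leaf 120)))) (.node (.node (.node (.node (.leaf 120) (.leaf 100)) (.leaf 120)) (.node (.leaf 120) (.leaf 120))) (.node (.node (.node (.leaf 120) (.leaf 120)) (.leaf 120)) (.node (.leaf 120) (.leaf 120)))))) (.node (.node (.node (.node (.node (.node (.leaf 120) (.leaf 11)) (.leaf 120)) (.node (.node (.leaf 120) (.leaf 95)) (.leaf 120))) (.node (.node (.node (.leaf 120) (.leaf 120)) (.leaf 120)) (.node (.leaf 120) (.leaf 120)))) (.node (.node (.node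 (.node (.leaf 120) (.leaf 120)) (.leaf 120)) (.node (.leaf 120) (.leaf 120))) (.node (.node (.node (.leaf 120) (.leaf 120)) (.leaf 120)) (.node (.leaf 120) (.leaf 120))))) (.node (.node (.node (.node (.node (.leaf 120) (.leaf 120)) (.leaf 120)) (.node (.leaf 81) (.leaf 120))) (.node (.node (.node (.leaf 120) (.leaf 120)) (.leaf 120)) (.node (.leaf 120) (.leaf 120)))) (.node (.node (.node (.node (.leaf 120) (.leaf 120)) (.leaf 120)) (.node (.leaf 120) (.leaf 120))) (.node (.node (.node (.leaf 120) (.leaf 120)) (.leaf 120)) (.node (.leaf 120) (.leaf 120)))))))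

def centLookup11 : Tree (ℕ) :=
  (.node (.node (.node (.node (.node (.node (.node (.leaf 120) (.leaf 120)) (.leaf 120)) (.node (.node (.leaf 120) (.leaf 120)) (.leaf 120))) (.node (.node (.node (.leaf 120) (.leaf 120)) (.leaf 120)) (.node (.leaf 120) (.leaf 120)))) (.node (.node (.node (.node (.leaf 120) (.leaf 120)) (.leaf 120)) (.node (.leaf 120) (.leaf 24))) (.node (.node (.node (.leaf 5) (.leaf 120)) (.leaf 120)) (.node (.leaf 120) (.leaf 120))))) (.node (.node (.node (.node (.node (.leaf 120) (.leaf 120)) (.leaf 120)) (.node (.leaf 120) (.leaf 120))) (.node (.node (.node (.leaf 120) (.leaf 120)) (.leaf 113)) (.node (.leaf 120) (.leaf 120)))) (.node (.node (.node (.node (.leaf 120) (.leaf 120)) (.leaf 120)) (.node (.leaf 120) (.leaf 120))) (.node (.node (.node (.leaf 120) (.leaf 120)) (.leaf 120)) (.node (.leaf 120) (.leaf 120)))))) (.node (.node (.node (.node (.node (.node (.leaf 120) (.leaf 120)) (.leaf 86)) (.node (.node (.leaf 120) (.leaf 120)) (.leaf 120))) (.node (.node (.node (.leaf 120) (.leaf 119)) (.leaf 120)) (.node (.leaf 68) (.leaf 120)))) (.node (.node (.node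 (.node (.leaf 120) (.leaf 120)) (.leaf 120)) (.node (.leaf 120) (.leaf 60))) (.node (.node (.node (.leaf 120) (.leaf 120)) (.leaf 120)) (.node (.leaf 120) (.leaf 120))))) (.node (.node (.node (.node (.node (.leaf 120) (.leaf 120)) (.leaf 120)) (.node (.leaf 120) (.leaf 120))) (.node (.node (.node (.leaf 120) (.leaf 120)) (.leaf 120)) (.node (.leaf 120) (.leaf 120)))) (.node (.node (.node (.node (.leaf 120) (.leaf 120)) (.leaf 103)) (.node (.leaf 120) (.leaf 120))) (.node (.node (.node (.leaf 120) (.leaf 120)) (.leaf 120)) (.node (.leaf 120) (.leaf 120)))))))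

def centLookup12 : Tree (ℕ) :=
  (.node (.node (.node (.node (.node (.node (.node (.leaf 120) (.leaf 120)) (.leaf 120)) (.node (.node (.leaf 120) (.leaf 120)) (.leaf 120))) (.node (.node (.node (.leaf 120) (.leaf 120)) (.leaf 120)) (.node (.leaf 120) (.leaf 120)))) (.node (.node (.node (.node (.leaf 120) (.leaf 120)) (.leaf 120)) (.node (.leaf 120) (.leaf 120))) (.node (.node (.node (.leaf 120) (.leaf 120)) (.leaf 110)) (.node (.leaf 120) (.leaf 120))))) (.node (.node (.node (.node (.node (.leaf 120) (.leaf 9)) (.leaf 120)) (.node (.leaf 120) (.leaf 120))) (.node (.node (.node (.leaf 120) (.leaf 120)) (.leaf 120)) (.node (.leaf 120) (.leaf 120)))) (.node (.node (.node (.node (.leaf 120) (.leaf 120)) (.leaf 120)) (.node (.leaf 120) (.leaf 120))) (.node (.node (.node (.leaf 120) (.leaf 120)) (.leaf 120)) (.node (.leaf 120) (.leaf 120)))))) (.node (.node (.node (.node (.node (.node (.leaf 120) (.leaf 120)) (.leaf 120)) (.node (.node (.leaf 120) (.leaf 120)) (.leaf 120))) (.node (.node (.node (.leaf 120) (.leaf 120)) (.leaf 120)) (.node (.leaf 120) (.leaf 120)))) (.node (.node (.node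 (.node (.leaf 120) (.leaf 120)) (.leaf 120)) (.node (.leaf 46) (.leaf 120))) (.node (.node (.node (.leaf 120) (.leaf 120)) (.leaf 120)) (.node (.leaf 120) (.leaf 120))))) (.node (.node (.node (.node (.node (.leaf 120) (.leaf 120)) (.leaf 120)) (.node (.leaf 120) (.leaf 120))) (.node (.node (.node (.leaf 120) (.leaf 120)) (.leaf 120)) (.node (.leaf 120) (.leaf 36)))) (.node (.node (.node (.node (.leaf 120) (.leaf 120)) (.leaf 120)) (.node (.leaf 120) (.leaf 120))) (.node (.node (.node (.leaf 120) (.leaf 120)) (.leaf 120)) (.node (.leaf 120) (.leaf 120)))))))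

def centLookup13 : Tree (ℕ) :=
  (.node (.node (.node (.node (.node (.node (.node (.leaf 120) (.leaf 120)) (.leaf 120)) (.node (.node (.leaf 120) (.leaf 45)) (.leaf 120))) (.node (.node (.node (.leaf 120) (.leaf 120)) (.leaf 120)) (.node (.leaf 19) (.leaf 120)))) (.node (.node (.node (.node (.leaf 120) (.leaf 120)) (.leaf 120)) (.node (.leaf 120) (.leaf 120))) (.node (.node (.node (.leaf 120) (.leaf 120)) (.leaf 120)) (.node (.leaf 120) (.leaf 120))))) (.node (.node (.node (.node (.node (.leaf 120) (.leaf 120)) (.leaf 120)) (.node (.leaf 30) (.leaf 120))) (.node (.node (.node (.leaf 120) (.leaf 120)) (.leaf 120)) (.node (.leaf 120) (.leaf 120)))) (.node (.node (.node (.node (.leaf 120) (.leaf 120)) (.leaf 120)) (.node (.leaf 120) (.leaf 120))) (.node (.node (.node (.leaf 120) (.leaf 120)) (.leaf 120)) (.node (.leaf 120) (.leaf 120)))))) (.node (.node (.node (.node (.node (.node (.leaf 120) (.leaf 120)) (.leaf 120)) (.node (.node (.leaf 120) (.leaf 120)) (.leaf 76))) (.node (.node (.node (.leaf 120) (.leaf 120)) (.leaf 120)) (.node (.leaf 120) (.leaf 120)))) (.node (.node (.node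 (.node (.leaf 120) (.leaf 120)) (.leaf 120)) (.node (.leaf 120) (.leaf 120))) (.node (.node (.node (.leaf 120) (.leaf 120)) (.leaf 120)) (.node (.leaf 120) (.leaf 120))))) (.node (.node (.node (.node (.node (.leaf 120) (.leaf 120)) (.leaf 91)) (.node (.leaf 120) (.leaf 120))) (.node (.node (.node (.leaf 120) (.leaf 120)) (.leaf 120)) (.node (.leaf 120) (.leaf 120)))) (.node (.node (.node (.node (.leaf 120) (.leaf 120)) (.leaf 120)) (.node (.leaf 120) (.leaf 120))) (.node (.node (.node (.leaf 120) (.leaf 120)) (.leaf 120)) (.node (.leaf 120) (.leaf 120)))))))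

def centLookup14 : Tree (ℕ) :=
  (.node (.node (.node (.node (.node (.node (.node (.leaf 120) (.leaf 120)) (.leaf 99)) (.node (.node (.leaf 120) (.leaf 120)) (.leaf 120))) (.node (.node (.node (.leaf 120) (.leaf 120)) (.leaf 120)) (.node (.leaf 120) (.leaf 120)))) (.node (.node (.node (.node (.leaf 120) (.leaf 120)) (.leaf 120)) (.node (.leaf 120) (.leaf 120))) (.node (.node (.node (.leaf 120) (.leaf 120)) (.leaf 120)) (.node (.leaf 120) (.leaf 120))))) (.node (.node (.node (.node (.node (.leaf 120) (.leaf 120)) (.leaf 120)) (.node (.leaf 120) (.leaf 120))) (.node (.node (.node (.leaf 120) (.leaf 101)) (.leaf 120)) (.node (.leaf 120) (.leaf 120)))) (.node (.node (.node (.node (.leaf 120) (.leaf 120)) (.leaf 120)) (.node (.leaf 61) (.leaf 120))) (.node (.node (.node (.leaf 42) (.leaf 120)) (.leaf 120)) (.node (.leaf 120) (.leaf 120)))))) (.node (.node (.node (.node (.node (.node (.leaf 120) (.leaf 120)) (.leaf 120)) (.node (.node (.leaf 120) (.leaf 120)) (.leaf 120))) (.node (.node (.node (.leaf 120) (.leaf 120)) (.leaf 120)) (.node (.leaf 120) (.leaf 120)))) (.node (.node (.node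 (.node (.leaf 120) (.leaf 120)) (.leaf 71)) (.node (.leaf 120) (.leaf 83))) (.node (.node (.node (.leaf 120) (.leaf 120)) (.leaf 120)) (.node (.leaf 120) (.leaf 120))))) (.node (.node (.node (.node (.node (.leaf 120) (.leaf 120)) (.leaf 120)) (.node (.leaf 120) (.leaf 120))) (.node (.node (.node (.leaf 14) (.leaf 120)) (.leaf 120)) (.node (.leaf 120) (.leaf 120)))) (.node (.node (.node (.node (.leaf 120) (.leaf 120)) (.leaf 120)) (.node (.leaf 15) (.leaf 120))) (.node (.node (.node (.leaf 120) (.leaf 120)) (.leaf 120)) (.node (.leaf 115) (.leaf 120)))))))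

def centLookup15 : Tree (ℕ) :=
  (.node (.node (.node (.node (.node (.node (.node (.leaf 120) (.leaf 120)) (.leaf 120)) (.node (.node (.leaf 120) (.leaf 120)) (.leaf 120))) (.node (.node (.node (.leaf 120) (.leaf 120)) (.leaf 120)) (.node (.leaf 120) (.leaf 120)))) (.node (.node (.node (.node (.leaf 120) (.leaf 120)) (.leaf 120)) (.node (.leaf 120) (.leaf 120))) (.node (.node (.node (.leaf 120) (.leaf 88)) (.leaf 120)) (.node (.leaf 120) (.leaf 97))))) (.node (.node (.node (.node (.node (.leaf 120) (.leaf 120)) (.leaf 120)) (.node (.leaf 120) (.leaf 120))) (.node (.node (.node (.leaf 120) (.leaf 120)) (.leaf 120)) (.node (.leaf 120) (.leaf 120)))) (.node (.node (.node (.node (.leaf 120) (.leaf 120)) (.leaf 120)) (.node (.leaf 120) (.leaf 120))) (.node (.node (.node (.leaf 120) (.leaf 120)) (.leaf 120)) (.node (.leaf 120) (.leaf 120)))))) (.node (.node (.node (.node (.node (.node (.leaf 120) (.leaf 120)) (.leaf 120)) (.node (.node (.leaf 89) (.leaf 120)) (.leaf 120))) (.node (.node (.node (.leaf 26) (.leaf 120)) (.leaf 120)) (.node (.leaf 120) (.leaf 120)))) (.node (.node (.node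 (.node (.leaf 120) (.leaf 120)) (.leaf 120)) (.node (.leaf 120) (.leaf 120))) (.node (.node (.node (.leaf 120) (.leaf 120)) (.leaf 120)) (.node (.leaf 120) (.leaf 120))))) (.node (.node (.node (.node (.node (.leaf 120) (.leaf 23)) (.leaf 120)) (.node (.leaf 120) (.leaf 120))) (.node (.node (.node (.leaf 120) (.leaf 120)) (.leaf 120)) (.node (.leaf 120) (.leaf 120)))) (.node (.node (.node (.node (.leaf 40) (.leaf 120)) (.leaf 120)) (.node (.leaf 120) (.leaf 120))) (.node (.node (.node (.leaf 120) (.leaf 77)) (.leaf 72)) (.node (.leaf 120) (.leaf 120)))))))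

def centLookup : Tree (ℕ) :=
  (.node (.node (.node (.node centLookup0 centLookup8) (.node centLookup4 centLookup12)) (.node (.node centLookup2 centLookup10) (.node centLookup6 centLookup14))) (.node (.node (.node centLookup1 centLookup9) (.node centLookup5 centLookup13)) (.node (.node centLookup3 centLookup11) (.node centLookup7 centLookup15))))

def centGenIdx : List ℕ := [1, 2, 3]

end Cfsg.Agent.Lie.Janko
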