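import Cfsg.Agent.Lib.Lie.JankoLineChecks
import Cfsg.Agent.Lib.Lie.JankoCentData

/-!
Kernel checks for an involution centraliser in the Janko group of order 175560.
-/

set_option autoImplicit false
set_option maxRecDepth 100000
set_option maxHeartbeats 0

namespace Cfsg.Agent.Lie.Janko

/-- The involution. -/
def centT : M7 := borel.get centInv

/-- Any transversal element whose line is an eigenline of the involution is a candidate. -/
def candCheck (i : ℕ) : Bool :=
  centCand.contains i ||
    !(Nat.beq (rowMul (rowMul baseVec (reps.get i)) centT) (red (centScalar * rowMul baseVec (reps.get i))))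

/-- Candidates commuting with the involution are in the list of 120 elements. -/
def lookupCheck (m : ℕ) : Bool :=
  if Nat.blt (centLookup.get m) 120 then
    Nat.beq (centPairs.get (centLookup.get m)).1 (m % 110) &&
      Nat.beq (centPairs.get (centLookup.get m)).2 (centCand.getD (m / 110) 0)
  else
    !((((borel.get (m % 110)).mul (reps.get (centCand.getD (m / 110) 0))).mul centT).beq
      (centT.mul ((borel.get (m % 110)).mul (reps.get (centCand.getD (m / 110) 0)))))

/-- The list of 120 elements: membership, commuting, multiplication by generators, tree. -/
def centCheck (j : ℕ) : Bool :=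
  ((centMat.get j).beq ((borel.get (centPairs.get j).1).mul (reps.get (centPairs.get j).2)) &&
    (Nat.blt (centPairs.get j).1 110 && Nat.blt (centPairs.get j).2 1596)) &&
  (((centMat.get j).mul centT).beq (centT.mul (centMat.get j)) &&
    ((List.range 3).all fun g =>
      ((centMat.get j).mul (centMat.get (centGenIdx.getD g 0))).beq (centMat.get (centNext.get (3 * j + g))) &&
        Nat.blt (centNext.get (3 * j + g)) 120)) &&
  (Nat.beq j 0 || (Nat.blt (centPar.get j).1 j && (Nat.blt (centPar.get j).2 3 &&
    Nat.beq (centNext.get (3 * (centPar.get j).1 + (centPar.get j).2)) j)))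

theorem cand_ok : (List.range 1596).all candCheck = true := by decide +kernel

theorem lookup_ok : (List.range 1320).all lookupCheck = true := by decide +kernel

theorem cent_ok : (List.range 120).all centCheck = true := by decide +kernel

theorem pairs_nodup :
    ((List.range 120).map fun j => (centPairs.get j).1 * 1596 + (centPairs.get j).2).Nodup := by
  decide +kernel

theorem cent_misc : (decide (centCand.length = 12) && ((List.range 3).all fun g =>
    Nat.blt (centGenIdx.getD g 0) 120) && (centMat.get 0).beq M7.one && Nat.blt centInv 110 &&
    Nat.ble 1 centScalar && Nat.blt centScalar 11 &&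
    Nat.beq (rowMul baseVec centT) (red (centScalar * baseVec)) &&
    (centT.mul centT).beq M7.one && !(centT.beq M7.one) && (centMat.get (centGenIdx.getD 0 0)).beq centT) = true := by
  decide +kernel

end Cfsg.Agent.Lie.Janko
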