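import Mathlib
import Cfsg.Agent.Lib.Lie.JankoCard
import Cfsg.Agent.Lib.Lie.JankoCentChecks

/-!
An involution of `J₁` with centraliser `C₂ × A₅`.
-/

set_option autoImplicit false
set_option maxRecDepth 20000

namespace Cfsg.Agent.Lie.Janko

open Cfsg.Spor

/-- The ambient group of the model. -/
abbrev Amb := Multiplicative (ZMod 2) × Equiv.Perm (Fin 5)

/-- The three model generators. -/
def ambGen : ℕ → Amb
  | 0 => (Multiplicative.ofAdd 1, 1)
  | 1 => (1, Equiv.swap 0 1 * Equiv.swap 2 3)
  | _ => (1, Equiv.swap 0 4 * Equiv.swap 0 2)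

/-- The model element at a node, by climbing the tree. -/
def thetaAux : ℕ → ℕ → Amb
  | 0, _ => 1
  | n + 1, j => if j = 0 then 1 else thetaAux n (centPar.get j).1 * ambGen (centPar.get j).2

/-- The model element at a node. -/
def theta (j : ℕ) : Amb := thetaAux 16 j

/-- A numerical code of a model element. -/
def ambCode (x : Amb) : ℕ :=
  (Multiplicative.toAdd x.1).val * 100000 + (x.2 0 : ℕ) + (x.2 1 : ℕ) * 10 + (x.2 2 : ℕ) * 100 +
    (x.2 3 : ℕ) * 1000 + (x.2 4 : ℕ) * 10000

theorem theta_ok : ((List.range 120).all fun j => Nat.beq (ambCode (theta j)) (centCodes.getD j 0) &&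
    (decide (Equiv.Perm.sign (theta j).2 = 1) &&
    ((List.range 3).all fun g => decide (theta j * ambGen g = theta (centNext.get (3 * j + g)))))) = true := by
  decide +kernel

theorem theta_zero : theta 0 = 1 := rfl

theorem codes_nodup : centCodes.Nodup ∧ centCodes.length = 120 := by decide +kernel

theorem cent_gen_theta : ((List.range 3).all fun g => decide (theta (centGenIdx.getD g 0) = ambGen g)) = true := by
  decide +kernel

/-- The 120 elements inside the general linear group. -/
theorem cent_elem {j : ℕ} (hj : j < 120) :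
    ∃ g : J1, ((g : GL (Fin 7) (ZMod 11)) : Matrix (Fin 7) (Fin 7) (ZMod 11)) = toMat (centMat.get j) := by
  have h := all_range cent_ok hj
  simp only [centCheck, Bool.and_eq_true, Nat.blt_eq] at h
  obtain ⟨g, hg⟩ := elem_exists (⟨_, h.1.1.2.1⟩, ⟨_, h.1.1.2.2⟩)
  exact ⟨g, hg.trans ((congrArg toMat (M7.eq_of_beq h.1.1.1)).trans
    (toMat_mul (good_borel h.1.1.2.1) (good_rep h.1.1.2.2))).symm⟩

theorem cent_good {j : ℕ} (hj : j < 120) : (centMat.get j).Good := by
  have h := all_range cent_ok hj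
  simp only [centCheck, Bool.and_eq_true] at h
  rw [M7.eq_of_beq h.1.1.1]
  exact good_mul _ _

/-- Both the matrices and the model have the same multiplication table. -/
theorem cent_table (i : ℕ) (hi : i < 120) : ∀ j < 120, ∃ m < 120,
    toMat (centMat.get i) * toMat (centMat.get j) = toMat (centMat.get m) ∧ theta i * theta j = theta m := by
  intro j
  induction j using Nat.strong_induction_on with
  | _ j ih =>
    intro hj
    have hmisc := cent_misc
    simp only [Bool.and_eq_true, decide_eq_true_eq, List.all_eq_true, List.mem_range, Nat.blt_eq] at hmisc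
    rcases Nat.eq_zero_or_pos j with rfl | hpos
    · exact ⟨i, hi, by rw [M7.eq_of_beq hmisc.1.1.1.1.1.1.1.2, toMat_one, mul_one], by rw [theta_zero, mul_one]⟩
    have h := all_range cent_ok hj
    simp only [centCheck, Bool.and_eq_true, Bool.or_eq_true, Nat.beq_eq, hpos.ne', false_or, Nat.blt_eq] at h
    obtain ⟨hp, hg, hnext⟩ := h.2
    set p := (centPar.get j).1
    set g := (centPar.get j).2
    obtain ⟨m, hm, e1, e2⟩ := ih p hp (hp.trans hj)
    have step : ∀ a, a < 120 → centNext.get (3 * a + g) < 120 ∧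
        toMat (centMat.get a) * toMat (centMat.get (centGenIdx.getD g 0)) = toMat (centMat.get (centNext.get (3 * a + g))) ∧
        theta a * ambGen g = theta (centNext.get (3 * a + g)) := by
      intro a ha
      have h' := all_range cent_ok ha
      simp only [centCheck, Bool.and_eq_true] at h'
      have h'' := all_range h'.1.2.2 hg
      simp only [Bool.and_eq_true, Nat.blt_eq] at h''
      have ht := all_range theta_ok ha
      simp only [Bool.and_eq_true] at ht
      have ht' := all_range ht.2.2 hg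
      refine ⟨h''.2, ?_, of_decide_eq_true ht'⟩
      rw [← toMat_mul (cent_good ha) (cent_good (hmisc.1.1.1.1.1.1.1.1.2 g hg)), M7.eq_of_beq h''.1]
    obtain ⟨-, p1, p2⟩ := step p (hp.trans hj)
    obtain ⟨l, m1, m2⟩ := step m hm
    rw [hnext] at p1 p2
    refine ⟨_, l, ?_, ?_⟩
    · rw [← p1, ← mul_assoc, e1, m1]
    · rw [← p2, ← mul_assoc, e2, m2]

theorem centMat_inj {i j : ℕ} (hi : i < 120) (hj : j < 120) (h : toMat (centMat.get i) = toMat (centMat.get j)) :
    i = j := by
  have a := all_range cent_ok hi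
  have b := all_range cent_ok hj
  simp only [centCheck, Bool.and_eq_true, Nat.blt_eq] at a b
  rw [M7.eq_of_beq a.1.1.1, M7.eq_of_beq b.1.1.1, toMat_mul (good_borel a.1.1.2.1) (good_rep a.1.1.2.2),
    toMat_mul (good_borel b.1.1.2.1) (good_rep b.1.1.2.2)] at h
  obtain ⟨h1, h2⟩ := decomp_unique a.1.1.2.2 b.1.1.2.2 a.1.1.2.1 b.1.1.2.1 h
  exact List.inj_on_of_nodup_map pairs_nodup (List.mem_range.2 hi) (List.mem_range.2 hj) (by simp only [h1, h2])

theorem cent_complete {g : GL (Fin 7) (ZMod 11)} (hg : g ∈ J1)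
    (hc : (g : Matrix (Fin 7) (Fin 7) (ZMod 11)) * toMat centT = toMat centT * (g : Matrix (Fin 7) (Fin 7) (ZMod 11))) :
    ∃ j < 120, (g : Matrix (Fin 7) (Fin 7) (ZMod 11)) = toMat (centMat.get j) := by
  obtain ⟨i, k, hi, hk, e⟩ := inCosets_of_mem g hg
  have hmisc := cent_misc
  simp only [Bool.and_eq_true, decide_eq_true_eq, Nat.blt_eq, Nat.ble_eq, Nat.beq_eq] at hmisc
  obtain ⟨⟨⟨⟨⟨⟨⟨⟨⟨hlen, -⟩, -⟩, hinv⟩, hd1⟩, hd⟩, hbase⟩, -⟩, -⟩, -⟩ := hmisc
  have gT : centT.Good := good_borel hinv
  obtain ⟨⟨c, hc1, hc2, ec⟩, -⟩ := borel_line hk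
  have hcand : i ∈ centCand := by
    have h := all_range cand_ok hi
    simp only [candCheck, Bool.or_eq_true, List.contains_iff_mem] at h
    refine h.resolve_right fun hne => ?_
    simp only [Bool.not_eq_true', ← Bool.not_eq_true, Nat.beq_eq] at hne
    have gr : IsRed (rowMul baseVec (reps.get i)) := isRed_red _
    refine hne (toVec_inj (isRed_red _) (isRed_red _) ?_)
    rw [toVec_rowMul gr gT, toVec_red_mul gr hd, toVec_rowMul base_red (good_rep hi)]
    have e' := congrArg (Matrix.vecMul (toVec baseVec)) hc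
    rw [e, ← Matrix.vecMul_vecMul _ _ (toMat centT), ← Matrix.vecMul_vecMul _ (toMat centT),
      ← toVec_rowMul base_red gT, hbase, toVec_red_mul base_red hd, ← Matrix.vecMul_vecMul, ec,
      Matrix.smul_vecMul, Matrix.smul_vecMul, Matrix.smul_vecMul, ← Matrix.vecMul_vecMul, ec, Matrix.smul_vecMul,
      smul_comm] at e'
    haveI : Fact (Nat.Prime 11) := ⟨by norm_num⟩
    have hc0 : (c : ZMod 11) ≠ 0 := fun h0 => by
      rw [ZMod.natCast_eq_zero_iff] at h0
      exact absurd (Nat.le_of_dvd hc1 h0) (by omega)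
    exact smul_right_injective _ hc0 e'
  obtain ⟨p, hp, hpi⟩ := List.getElem_of_mem hcand
  rw [hlen] at hp
  have h := all_range lookup_ok (show p * 110 + k < 1320 by omega)
  simp only [lookupCheck, show (p * 110 + k) % 110 = k by omega, show (p * 110 + k) / 110 = p by omega,
    List.getD_eq_getElem _ _ (show p < centCand.length by omega), hpi] at h
  have heq : toMat ((borel.get k).mul (reps.get i)) = (g : Matrix (Fin 7) (Fin 7) (ZMod 11)) := by
    rw [e, toMat_mul (good_borel hk) (good_rep hi)]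
  split at h
  · next hl =>
    simp only [Bool.and_eq_true, Nat.beq_eq, Nat.blt_eq] at h hl
    refine ⟨_, hl, ?_⟩
    have hce := all_range cent_ok hl
    simp only [centCheck, Bool.and_eq_true] at hce
    rw [M7.eq_of_beq hce.1.1.1, h.1, h.2, heq]
  · simp only [Bool.not_eq_true', ← Bool.not_eq_true] at h
    refine absurd ?_ h
    have e' : (((borel.get k).mul (reps.get i)).mul centT) = centT.mul ((borel.get k).mul (reps.get i)) :=
      toMat_inj (good_mul _ _) (good_mul _ _)
        (by rw [toMat_mul (good_mul _ _) gT, toMat_mul gT (good_mul _ _), heq, hc])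
    rw [e']
    simp [M7.beq]

/-- `J₁` has an involution whose centraliser is `C₂ × A₅`. -/
theorem exists_cent : ∃ t : J1, orderOf t = 2 ∧
    Nonempty (Subgroup.centralizer ({t} : Set J1) ≃* Multiplicative (ZMod 2) × alternatingGroup (Fin 5)) := by
  choose f hf using fun j : Fin 120 => cent_elem j.2
  let th : Fin 120 → Multiplicative (ZMod 2) × alternatingGroup (Fin 5) := fun j =>
    ((theta j).1, ⟨(theta j).2, Equiv.Perm.mem_alternatingGroup.2 (by
      have h := all_range theta_ok j.2
      simp only [Bool.and_eq_true, decide_eq_true_eq] at h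
      exact h.2.1)⟩)
  have hth : Function.Bijective th := by
    refine (Nat.bijective_iff_injective_and_card th).2 ⟨fun a b e => ?_, ?_⟩
    · have e' : theta a = theta b := Prod.ext (congrArg Prod.fst e :) (congrArg (fun x => (x.2 : Equiv.Perm (Fin 5))) e :)
      have ha := all_range theta_ok a.2
      have hb := all_range theta_ok b.2
      simp only [Bool.and_eq_true, Nat.beq_eq] at ha hb
      have hh := ha.1.symm.trans ((congrArg ambCode e').trans hb.1)
      rw [List.getD_eq_getElem _ _ (by rw [codes_nodup.2]; exact a.2),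
        List.getD_eq_getElem _ _ (by rw [codes_nodup.2]; exact b.2), codes_nodup.1.getElem_inj_iff] at hh
      exact Fin.ext hh
    · rw [Nat.card_fin, Nat.card_prod, nat_card_alternatingGroup, Nat.card_eq_fintype_card, Nat.card_fin]
      decide
  have hmisc := cent_misc
  simp only [Bool.and_eq_true, decide_eq_true_eq, Nat.blt_eq, List.all_eq_true, List.mem_range, Bool.not_eq_true'] at hmisc
  obtain ⟨⟨⟨⟨⟨⟨⟨⟨⟨-, hgi⟩, -⟩, hinv⟩, -⟩, -⟩, -⟩, hsq⟩, hne⟩, hgt⟩ := hmisc
  have gT : centT.Good := good_borel hinv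
  set t : J1 := f ⟨centGenIdx.getD 0 0, hgi 0 (by norm_num)⟩ with htdef
  have ht : ((t : GL (Fin 7) (ZMod 11)) : Matrix (Fin 7) (Fin 7) (ZMod 11)) = toMat centT := by
    rw [htdef, hf]
    exact congrArg toMat (M7.eq_of_beq hgt)
  have hext : ∀ a b : J1, ((a : GL (Fin 7) (ZMod 11)) : Matrix (Fin 7) (Fin 7) (ZMod 11)) =
      ((b : GL (Fin 7) (ZMod 11)) : Matrix (Fin 7) (Fin 7) (ZMod 11)) → a = b :=
    fun a b e => Subtype.ext (Units.ext e)
  haveI : Fact (Nat.Prime 2) := ⟨by norm_num⟩
  refine ⟨t, orderOf_eq_prime (hext _ _ ?_) (fun e => ?_), ⟨?_⟩⟩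
  · rw [pow_two, Subgroup.coe_mul, Units.val_mul, ht, ← toMat_mul gT gT, M7.eq_of_beq hsq, toMat_one]
    rfl
  · rw [e] at ht
    have h1 : toMat centT = toMat M7.one := by rw [← ht, toMat_one]; rfl
    rw [toMat_inj gT good_one h1] at hne
    simp [M7.beq] at hne
  have hmem : ∀ j, f j ∈ Subgroup.centralizer ({t} : Set J1) := fun j => by
    refine Subgroup.mem_centralizer_iff.2 fun y hy => ?_
    rw [Set.mem_singleton_iff.1 hy]
    have h := all_range cent_ok j.2
    simp only [centCheck, Bool.and_eq_true] at h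
    refine hext _ _ ?_
    rw [Subgroup.coe_mul, Subgroup.coe_mul, Units.val_mul, Units.val_mul, ht, hf, ← toMat_mul gT (cent_good j.2),
      ← toMat_mul (cent_good j.2) gT, M7.eq_of_beq h.1.2.1]
  let F : Fin 120 → Subgroup.centralizer ({t} : Set J1) := fun j => ⟨f j, hmem j⟩
  have hF : Function.Bijective F := by
    refine ⟨fun a b e => ?_, fun x => ?_⟩
    · refine Fin.ext (centMat_inj a.2 b.2 ?_)
      rw [← hf, ← hf]
      exact congrArg (fun x : Subgroup.centralizer ({t} : Set J1) =>
        (((x : J1) : GL (Fin 7) (ZMod 11)) : Matrix (Fin 7) (Fin 7) (ZMod 11))) e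
    · have hx := Subgroup.mem_centralizer_iff.1 x.2 t rfl
      have hx' := congrArg (fun x : J1 => ((x : GL (Fin 7) (ZMod 11)) : Matrix (Fin 7) (Fin 7) (ZMod 11))) hx
      simp only [Subgroup.coe_mul, Units.val_mul, ht] at hx'
      obtain ⟨j, hj, ej⟩ := cent_complete (x : J1).2 hx'.symm
      exact ⟨⟨j, hj⟩, Subtype.ext (hext _ _ ((hf _).trans ej.symm))⟩
  let e : Subgroup.centralizer ({t} : Set J1) ≃ Multiplicative (ZMod 2) × alternatingGroup (Fin 5) :=
    (Equiv.ofBijective F hF).symm.trans (Equiv.ofBijective th hth)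
  refine MulEquiv.symm (MulEquiv.mk e.symm fun x y => ?_)
  obtain ⟨a, rfl⟩ := hth.2 x
  obtain ⟨b, rfl⟩ := hth.2 y
  obtain ⟨m, hm, e1, e2⟩ := cent_table a a.2 b b.2
  have e2' : th a * th b = th ⟨m, hm⟩ := Prod.ext (congrArg Prod.fst e2 :) (Subtype.ext (congrArg Prod.snd e2 :))
  have he : ∀ j, e.symm (th j) = F j := fun j => by
    simp only [e, Equiv.symm_trans_apply, Equiv.symm_symm, Equiv.ofBijective_symm_apply_apply, Equiv.ofBijective_apply]
  rw [e2']
  show e.symm (th ⟨m, hm⟩) = e.symm (th a) * e.symm (th b)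
  rw [he, he, he]
  refine Subtype.ext (hext _ _ ?_)
  rw [Subgroup.coe_mul, Subgroup.coe_mul, Units.val_mul, hf, hf, hf, e1]

end Cfsg.Agent.Lie.Janko
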