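import Mathlib
import Cfsg.Agent.Lib.Lie.JankoCard
import Cfsg.Agent.S4274

/-!
`J₁` is simple: it has no normal subgroup of order 19.
-/

set_option autoImplicit false
set_option maxRecDepth 20000

namespace Cfsg.Agent.Lie.Janko

open Cfsg.Spor

theorem moved_ok : (decide (toMat ((reps.get 16).pow 19) = 1) &&
    ((List.range 19).all fun k => decide (toMat (xMat.mul (reps.get 16)) ≠ toMat (((reps.get 16).pow k).mul xMat)))) =
      true := by
  decide +kernel

/-- `J₁` is simple. -/
theorem isSimpleGroup_J1 : IsSimpleGroup J1 := by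
  refine (Cfsg.Agent.S4274.result card_eq).resolve_right fun hall => ?_
  haveI : Fact (Nat.Prime 19) := ⟨by norm_num⟩
  obtain ⟨-, -, gx, -⟩ := start_facts
  obtain ⟨r, hr, er⟩ := rep_mem 16 (by norm_num)
  have hok := moved_ok
  simp only [Bool.and_eq_true, decide_eq_true_eq, List.all_eq_true, List.mem_range] at hok
  have hg19 : (⟨r, hr⟩ : J1) ^ 19 = 1 := by
    refine Subtype.ext (Units.ext ?_)
    rw [SubgroupClass.coe_pow, Units.val_pow_eq_pow_val, er, ← toMat_pow (good_rep (by norm_num)), hok.1]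
    rfl
  have hne : (⟨r, hr⟩ : J1) ≠ 1 := fun e => by
    have e' : toMat (reps.get 16) = 1 := by rw [← er]; exact congrArg (fun g : J1 => ((g : GL (Fin 7) (ZMod 11)) : Matrix (Fin 7) (Fin 7) (ZMod 11))) e
    have := hok.2 1 (by norm_num)
    rw [toMat_mul gx (good_rep (by norm_num)), toMat_mul (good_pow _ 1) gx, toMat_pow (good_rep (by norm_num)), e',
      one_pow, one_mul, mul_one] at this
    exact this rfl
  set g : J1 := ⟨r, hr⟩ with hgdef
  have ho : orderOf g = 19 := orderOf_eq_prime hg19 hne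
  have hz : IsPGroup 19 (Subgroup.zpowers g) := IsPGroup.of_card (n := 1) (by rw [Nat.card_zpowers, ho, pow_one])
  obtain ⟨P, hP⟩ := hz.exists_le_sylow
  have hPc : Nat.card (P : Subgroup J1) = 19 := by
    rw [P.card_eq_multiplicity, card_eq,
      show (175560 : ℕ).factorization 19 = 1 from ?_, pow_one]
    rw [show (175560 : ℕ) = 19 ^ 1 * 9240 by norm_num, Nat.factorization_mul (by norm_num) (by norm_num),
      Finsupp.add_apply, Nat.factorization_pow_self (by norm_num),
      Nat.factorization_eq_zero_of_not_dvd (by norm_num)]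
  have hPeq : Subgroup.zpowers g = (P : Subgroup J1) :=
    Subgroup.eq_of_le_of_card_ge hP (by rw [hPc, Nat.card_zpowers, ho])
  have hx : jankoX ∈ J1 := Subgroup.subset_closure (Or.inl rfl)
  have hmem := (hall P).conj_mem g (hP (Subgroup.mem_zpowers g)) ⟨jankoX, hx⟩
  rw [← hPeq, ← mem_powers_iff_mem_zpowers, mem_powers_iff_mem_range_orderOf, ho, Finset.mem_image] at hmem
  obtain ⟨k, hk, e⟩ := hmem
  have e' : g ^ k * ⟨jankoX, hx⟩ = ⟨jankoX, hx⟩ * g := by rw [e, inv_mul_cancel_right]
  refine hok.2 k (Finset.mem_range.1 hk) ?_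
  rw [toMat_mul gx (good_rep (by norm_num)), toMat_mul (good_pow _ k) gx, toMat_pow (good_rep (by norm_num)),
    ← er, val_X]
  have e'' := congrArg (fun g : J1 => ((g : GL (Fin 7) (ZMod 11)) : Matrix (Fin 7) (Fin 7) (ZMod 11))) e'
  simp only [Subgroup.coe_mul, SubgroupClass.coe_pow, Units.val_mul, Units.val_pow_eq_pow_val] at e''
  exact e''.symm

end Cfsg.Agent.Lie.Janko
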