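import Cfsg.Agent.Lib.Lie.TwistTorus

/-!
Commutators inside twisted groups.
-/

set_option autoImplicit false

namespace Cfsg.Agent.Lie

open Cfsg.Lie Matrix
open scoped MatrixGroups commutatorElement

variable {D : ChevalleyDatum} {F : Type*} [Field F]

namespace Facts

variable (hF : Facts D)

theorem prodOver_add {L : List ℕ} (hL : okComm D L = true) (hnd : L.Nodup) (t t' : ℕ → F) :
    (hF.sys F).prodOver L (fun r => t r + t' r) = (hF.sys F).prodOver L t * (hF.sys F).prodOver L t' := by
  simp only [CommSys.prodOver, sys_x, xg_add]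
  exact list_prod_map_mul _ _ _ (List.Pairwise.imp_of_mem
    (fun hr hs _ => hF.xg_commute hL hr hs _ _) hnd)

theorem torus_conj_prodOver (c : Fin D.rank → Fˣ) {L : List ℕ} (hL : ∀ r ∈ L, r < D.nroots) (t : ℕ → F) :
    torus D F c * (hF.sys F).prodOver L t * (torus D F c)⁻¹ =
      (hF.sys F).prodOver L fun r => (torChar D c r : F) * t r := by
  induction L with
  | nil => simp [CommSys.prodOver]
  | cons r L ih =>
    have ih' := ih fun s hs => hL s (List.mem_cons_of_mem _ hs)
    simp only [CommSys.prodOver, List.map_cons, List.prod_cons] at ih' ⊢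
    rw [← ih']
    simp only [sys_x, ← hF.torus_conj c (hL r List.mem_cons_self)]
    group

/-- A root product inside a derived group, by a torus commutator. -/
theorem prodOver_mem_derived (G : Subgroup (GL D.Idx F)) {c : Fin D.rank → Fˣ} (hc : torus D F c ∈ G)
    {L : List ℕ} (hL : okComm D L = true) (hnd : L.Nodup) (hlt : ∀ r ∈ L, r < D.nroots) (a u : ℕ → F)
    (hu : (hF.sys F).prodOver L u ∈ G) (h : ∀ r ∈ L, a r + u r = (torChar D c r : F) * u r) :
    (hF.sys F).prodOver L a ∈ ⁅G, G⁆ := by
  have e : torus D F c * (hF.sys F).prodOver L u * (torus D F c)⁻¹ =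
      (hF.sys F).prodOver L a * (hF.sys F).prodOver L u := by
    rw [hF.torus_conj_prodOver c hlt, ← hF.prodOver_add hL hnd]
    simp only [CommSys.prodOver, sys_x]
    exact congrArg List.prod (List.map_congr_left fun r hr => by rw [h r hr])
  rw [show (hF.sys F).prodOver L a = ⁅torus D F c, (hF.sys F).prodOver L u⁆ by
    rw [commutatorElement_def, e, mul_inv_cancel_right]]
  exact Subgroup.commutator_mem_commutator hc hu

/-- A product of the terms of a commutator formula inside a derived group. -/
theorem commWord_mem_derived (G : Subgroup (GL D.Idx F)) {r s : ℕ} (hr : r < D.nroots) (hs : s < D.nroots)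
    (h1 : s ≠ r) (h2 : s ≠ D.neg r) {t u : F} (ht : hF.xg r t ∈ G) (hu : hF.xg s u ∈ G) :
    ((D.commWord F r s t u).map fun p => hF.xg p.1 p.2).prod ∈ ⁅G, G⁆ := by
  have h := (hF.sys F).x_comm r s hr hs h1 h2 t u
  simp only [sys_x] at h
  rw [show ((D.commWord F r s t u).map fun p => hF.xg p.1 p.2).prod = ⁅(hF.xg s u)⁻¹, (hF.xg r t)⁻¹⁆ by
    rw [← mul_right_inj (hF.xg r t * hF.xg s u), ← h, commutatorElement_def]
    group]
  exact Subgroup.commutator_mem_commutator (inv_mem hu) (inv_mem ht)

end Facts

end Cfsg.Agent.Lie
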