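import Cfsg.Agent.Lib.Lie.TwistCount
import Cfsg.Agent.Lib.Lie.TwistPair
import Cfsg.Agent.Lib.Lie.Simple
import Cfsg.Agent.Lib.Lie.Tits

/-!
Perfectness and simplicity of twisted groups.
-/

set_option autoImplicit false

namespace Cfsg.Agent.Lie

open Cfsg.Lie Matrix
open scoped MatrixGroups commutatorElement

/-- The orbit elements cannot be split into two commuting parts. -/
def okPiConn (D : ChevalleyDatum) (Os : List (List (Fin D.rank))) : Prop :=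
  ∀ J : Fin Os.length → Bool, (∃ a, J a = true) → (∃ b, J b = false) →
    ∃ a b : Fin Os.length, J a = true ∧ J b = false ∧
      wKey D ((Os.get a ++ Os.get b).map Fin.val) ≠ wKey D ((Os.get b ++ Os.get a).map Fin.val)

instance (D : ChevalleyDatum) (Os : List (List (Fin D.rank))) : Decidable (okPiConn D Os) := by
  unfold okPiConn; infer_instance

variable {D : ChevalleyDatum} {F : Type*} [Field F] [Finite F] {hF : Facts D}

namespace TwData

variable {T : Twist hF F} {Os : List (List (Fin D.rank))} (X : TwData T Os)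

include X

/-- Fixed elements with roots of one sign lie in the group. -/
theorem neg_fix_le {L : List ℕ} (hL : ∀ r ∈ L, r < D.nroots / 2) {x : GL D.Idx F}
    (hx : x ∈ (hF.tsys F).US L) (hf : x ∈ T.fix) : x ∈ X.G1 := by
  obtain ⟨w0, hw0, hw0L⟩ := T.exists_longest
  obtain ⟨a, ha, hn⟩ := X.exists_rep hw0
  have h1 : (a * (hF.tsys F).nW w0)⁻¹ * x * (a * (hF.tsys F).nW w0) ∈ (hF.tsys F).U := by
    refine hF.conj_nW_US ha w0 (fun s hs => ?_) hx
    have hs' : s < D.nroots := by have := hL s hs; omega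
    refine ⟨hs', Facts.mem_posL.2 ⟨?_, Fin.isLt _⟩⟩
    by_contra hc
    have h2 : (w0⁻¹ • (⟨s, hs'⟩ : Fin D.nroots)) ∉ hF.refSys.P := by simpa [Facts.refSys] using hc
    have hmem : (hF.refSys.neg (w0⁻¹ • (⟨s, hs'⟩ : Fin D.nroots))).val ∈ TorusSys.invList w0 := by
      rw [hw0L]
      exact Facts.mem_posL.2 ⟨by simpa [Facts.refSys] using (hF.refSys.neg_mem _).2 h2, Fin.isLt _⟩
    obtain ⟨hh, hi⟩ := TorusSys.mem_invList.1 hmem
    have h3 := ((RefSystem.mem_inv _).1 hi).2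
    change w0 • hF.refSys.neg (w0⁻¹ • (⟨s, hs'⟩ : Fin D.nroots)) ∉ hF.refSys.P at h3
    rw [RefSystem.smul_neg, smul_inv_smul, hF.refSys.neg_mem, not_not] at h3
    have := hL s hs
    simp [Facts.refSys] at h3
    omega
  have h2 := X.U_fix_le ⟨h1, Subgroup.mul_mem _ (Subgroup.mul_mem _ (Subgroup.inv_mem _ (X.le_fix hn)) hf) (X.le_fix hn)⟩
  rw [show x = a * (hF.tsys F).nW w0 *
    ((a * (hF.tsys F).nW w0)⁻¹ * x * (a * (hF.tsys F).nW w0)) * (a * (hF.tsys F).nW w0)⁻¹ by group]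
  exact mul_mem (mul_mem hn h2) (inv_mem hn)

theorem pos_fix_le {L : List ℕ} (hL : ∀ r ∈ L, D.nroots / 2 ≤ r ∧ r < D.nroots) {x : GL D.Idx F}
    (hx : x ∈ (hF.tsys F).US L) (hf : x ∈ T.fix) : x ∈ X.G1 :=
  X.U_fix_le ⟨CommSys.US_mono _ (fun r hr => Facts.mem_posL.2 (hL r hr)) hx, hf⟩

/-- Perfectness from the orbit subgroups. -/
theorem perfect {S : Set (GL D.Idx F)} (hS : X.G1 ≤ Subgroup.closure S)
    (hmem : ∀ g ∈ S, g ∈ X.G1 ∧ ∃ ω ∈ Os, g ∈ (hF.tsys F).US (orbL D (ω.map Fin.val)) ∨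
      g ∈ (hF.tsys F).US (Twist.negL D ω))
    (horb : ∀ ω ∈ Os, ∀ x ∈ (hF.tsys F).US (orbL D (ω.map Fin.val)), x ∈ T.fix →
      x ∈ ⁅X.G1, X.G1⁆) :
    commutator ↥X.G1 = ⊤ := by
  apply Subgroup.map_injective X.G1.subtype_injective
  rw [Subgroup.map_subtype_commutator, ← MonoidHom.range_eq_map, Subgroup.range_subtype]
  refine le_antisymm (Subgroup.commutator_le_self _) (hS.trans ((Subgroup.closure_le _).2 fun g hg => ?_))
  obtain ⟨hgG, ω, hω, h | h⟩ := hmem g hg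
  · exact horb ω hω g h (X.le_fix hgG)
  · obtain ⟨hnG, a, ha, he⟩ := X.nO_spec ⟨ω, hω⟩
    have h1 : (X.nO ⟨ω, hω⟩)⁻¹ * g * X.nO ⟨ω, hω⟩ ∈ ⁅X.G1, X.G1⁆ := by
      refine horb ω hω _ ?_ (X.le_fix (mul_mem (mul_mem (inv_mem hnG) hgG) hnG))
      rw [he]
      exact (X.neg_orbit_subgroup hω ha).2 g h
    have hnorm : ∀ k ∈ X.G1, ∀ x ∈ ⁅X.G1, X.G1⁆, k * x * k⁻¹ ∈ ⁅X.G1, X.G1⁆ := by
      intro k hk x hx
      rw [show k * x * k⁻¹ = ⁅k, x⁆ * x by rw [commutatorElement_def]; group]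
      exact mul_mem (Subgroup.commutator_mem_commutator hk (Subgroup.commutator_le_self _ hx)) hx
    have h2 := hnorm _ hnG _ h1
    rwa [show X.nO ⟨ω, hω⟩ * ((X.nO ⟨ω, hω⟩)⁻¹ * g * X.nO ⟨ω, hω⟩) * (X.nO ⟨ω, hω⟩)⁻¹ = g by group] at h2

theorem irreducible (hconn : okPiConn D Os) : X.bnPair.Irreducible := by
  classical
  intro J hJ ⟨s, hs⟩ ⟨t, ht, htJ⟩
  let J' : Fin Os.length → Bool := fun a =>
    decide ((⟨X.nO ⟨Os.get a, List.get_mem Os a⟩, (X.nO_spec _).1⟩ : X.G1) ∈ J)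
  have hsurj : ∀ z ∈ X.bnPair.S, ∃ a : Fin Os.length,
      (⟨X.nO ⟨Os.get a, List.get_mem Os a⟩, (X.nO_spec _).1⟩ : X.G1) = z := by
    rintro _ ⟨⟨ω, hω⟩, rfl⟩
    obtain ⟨a, rfl⟩ := List.mem_iff_get.1 hω
    exact ⟨a, rfl⟩
  obtain ⟨a0, ha0⟩ := hsurj s (hJ hs)
  obtain ⟨b0, hb0⟩ := hsurj t ht
  obtain ⟨a, b, ha, hb, hne⟩ := hconn J' ⟨a0, by simp only [J', ha0, hs, decide_true]⟩
    ⟨b0, by simp only [J', hb0, htJ, decide_false]⟩
  refine ⟨_, of_decide_eq_true ha, _, ⟨⟨⟨_, List.get_mem Os b⟩, rfl⟩, of_decide_eq_false hb⟩, fun hB => hne ?_⟩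
  obtain ⟨-, c, hc, hce⟩ := X.nO_spec ⟨Os.get a, List.get_mem Os a⟩
  obtain ⟨-, d, hd, hde⟩ := X.nO_spec ⟨Os.get b, List.get_mem Os b⟩
  set n := X.nO ⟨Os.get a, List.get_mem Os a⟩ with hn
  set m := X.nO ⟨Os.get b, List.get_mem Os b⟩ with hm
  have hnN : n ∈ (hF.tsys F).N := X.nO_mem_N _
  have hmN : m ∈ (hF.tsys F).N := X.nO_mem_N _
  have hB' : n * m * n⁻¹ * m⁻¹ ∈ (hF.tsys F).B := by rw [hF.tsys_B]; exact hB.1
  have hH := hF.B_inter_N hB' (mul_mem (mul_mem (mul_mem hnN hmN) (inv_mem hnN)) (inv_mem hmN))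
  obtain ⟨e, he, hee⟩ := hF.nW_mul (F := F) (T.wO (Os.get a)) (T.wO (Os.get b))
  obtain ⟨f, hf, hfe⟩ := hF.nW_mul (F := F) (T.wO (Os.get b)) (T.wO (Os.get a))
  have hnm : n * m = c * ((hF.tsys F).nW (T.wO (Os.get a)) * d * ((hF.tsys F).nW (T.wO (Os.get a)))⁻¹) * e *
      (hF.tsys F).nW (T.wO (Os.get a) * T.wO (Os.get b)) := by
    rw [mul_assoc _ e, ← hee, hce, hde]; group
  have hmn : m * n = d * ((hF.tsys F).nW (T.wO (Os.get b)) * c * ((hF.tsys F).nW (T.wO (Os.get b)))⁻¹) * f *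
      (hF.tsys F).nW (T.wO (Os.get b) * T.wO (Os.get a)) := by
    rw [mul_assoc _ f, ← hfe, hce, hde]; group
  have hw : T.wO (Os.get a) * T.wO (Os.get b) = T.wO (Os.get b) * T.wO (Os.get a) :=
    hF.nW_eq_of_mul (F := F) (mul_mem (mul_mem hc ((hF.tsys F).nW_H hd)) he)
      (mul_mem hH (mul_mem (mul_mem hd ((hF.tsys F).nW_H hc)) hf)) (by
        rw [← hnm, mul_assoc _ _ ((hF.tsys F).nW (T.wO (Os.get b) * T.wO (Os.get a))), ← hmn]; group)
  refine hF.key_eq ?_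
  rw [RefSystem.pr_append, RefSystem.pr_append]
  exact hw

theorem solvable_B1 : Group.IsSolvable ↥((D.borelSubgroup F ⊓ X.G1).subgroupOf X.G1) := by
  haveI := hF.borel_solvable F
  refine solvable_of_solvable_injective (f := (X.G1.subtype.comp (Subgroup.subtype _)).codRestrict
    (D.borelSubgroup F) fun g => g.2.1) fun g h e => ?_
  have e' := congrArg Subtype.val e
  exact Subtype.ext (Subtype.ext e')

/-- Simplicity of a perfect twisted group. -/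
theorem simple {ω : List (Fin D.rank)} (hω : ω ∈ Os) (hconn : okPiConn D Os)
    (hperf : commutator ↥X.G1 = ⊤)
    (hcore : ((D.borelSubgroup F ⊓ X.G1).subgroupOf X.G1).normalCore = ⊥) :
    IsSimpleGroup ↥X.G1 ∧ ¬ IsMulCommutative ↥X.G1 := by
  obtain ⟨v, hv, hv1, -⟩ := X.neg_exists ω hω
  haveI : Nontrivial ↥X.G1 := ⟨⟨⟨v, hv⟩, 1, fun h => hv1 (congrArg Subtype.val h)⟩⟩
  haveI hsol := X.solvable_B1
  refine ⟨Tits.simple (P := X.bnPair) (X.irreducible hconn) hsol hperf hcore, fun hc => hv1 ?_⟩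
  have h : commutator ↥X.G1 = ⊥ := by
    rw [commutator_def, Subgroup.commutator_eq_bot_iff_le_centralizer]
    intro g _
    rw [Subgroup.mem_centralizer_iff]
    exact fun z _ => mul_comm' z g
  rw [hperf] at h
  have h' : (⟨v, hv⟩ : ↥X.G1) ∈ (⊥ : Subgroup ↥X.G1) := by
    rw [← h]
    exact Subgroup.mem_top _
  exact congrArg Subtype.val ((Subgroup.mem_bot).1 h')

end TwData

end Cfsg.Agent.Lie
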