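import Cfsg.Agent.Lib.Lie.TwistD4H
import Cfsg.Agent.Lib.Lie.TwistSimple
import Cfsg.Agent.Lib.Lie.TwistComm

/-!
The triality twisted groups are perfect and simple.
-/

set_option autoImplicit false
set_option maxRecDepth 4000

namespace Cfsg.Agent.Lie.D4

open Cfsg.Lie Matrix Twist
open scoped MatrixGroups commutatorElement

theorem okPiConn_Os : okPiConn chevD4 Os := by decide +kernel

theorem comm23 : chevD4.commTerms 23 1 = [(14, 1, 1, 1)] := by decide +kernel

variable {K : Type*} [Field K] [Fintype K] {q : ℕ} (S : Setup K q)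

include S

theorem Setup.xg_fixed_mem {r : ℕ} (hr : r = 23 ∨ r = 1) {t : K} (ht : t ^ q = t) :
    factsD4.xg r t ∈ S.data.G1 := by
  have hx : factsD4.xg r t ∈ (factsD4.tsys K).US [r] := CommSys.x_mem_US _ (by simp) t
  have hf : factsD4.xg r t ∈ S.T.fix := by
    have h := S.T.prodOver_mem_fix (L := [r]) (by rcases hr with rfl | rfl <;> decide +kernel)
      (by rw [S.hR]; rcases hr with rfl | rfl <;> decide +kernel) (fun _ => t) (fun s hs => by
        obtain rfl := List.mem_singleton.1 hs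
        rw [S.expo_one (by omega), pow_one, S.hfr, ht])
    simpa [CommSys.prodOver, Facts.sys_x] using h
  rcases hr with rfl | rfl
  · exact S.data.pos_fix_le (fun s hs => by obtain rfl := List.mem_singleton.1 hs; decide +kernel) hx hf
  · exact S.data.neg_fix_le (fun s hs => by obtain rfl := List.mem_singleton.1 hs; decide +kernel) hx hf

theorem Setup.A_derived {a : K} (ha : a ^ q = a) :
    factsD4.xg 14 a ∈ ⁅S.data.G1, S.data.G1⁆ := by
  have ha' : (-a) ^ q = -a := by rw [← S.hfr, map_neg, S.hfr, ha]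
  have h := factsD4.commWord_mem_derived S.data.G1 (r := 23) (s := 1) (by decide +kernel) (by decide +kernel)
    (by decide) (by decide +kernel) (S.xg_fixed_mem (Or.inl rfl) (one_pow q)) (S.xg_fixed_mem (Or.inr rfl) ha')
  simpa [ChevalleyDatum.commWord, comm23] using h

theorem Setup.B_derived (a : K) :
    (factsD4.sys K).prodOver [18, 13, 12] (cB q a) ∈ ⁅S.data.G1, S.data.G1⁆ := by
  classical
  obtain ⟨t, ht⟩ : ∃ t : Kˣ, t ^ 2 ≠ 1 := by
    by_contra h
    simp only [not_exists, not_not] at h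
    obtain ⟨g, hg⟩ := IsCyclic.exists_generator (α := Kˣ)
    have h1 : orderOf g ∣ 2 := orderOf_dvd_of_pow_eq_one (h g)
    rw [orderOf_eq_card_of_forall_mem_zpowers hg, Nat.card_units, S.hK] at h1
    have h2 := Nat.le_of_dvd (by norm_num) h1
    have : 2 ^ 3 ≤ q ^ 3 := Nat.pow_le_pow_left S.hq 3
    omega
  have hd : (t : K) ^ 2 - 1 ≠ 0 := sub_ne_zero.2 fun e => ht (Units.ext (by simpa using e))
  have hchar : ∀ r, r ∈ ([18, 13, 12] : List ℕ) → (torChar chevD4 (S.crd t 1) r : K) =
      cB q ((t : K) ^ 2) r := by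
    have e : ∀ i : Fin chevD4.rank, torChar chevD4 (S.crd t 1) (chevD4.simple i.val) =
        ∏ m, S.crd t 1 m ^ cartanSys chevD4 i m := fun i => rfl
    intro r hr
    simp only [List.mem_cons, List.not_mem_nil, or_false] at hr
    have hv : (List.finRange 4).map (fun m => cartanSys chevD4 (0 : Fin 4) m) = [2, -1, 0, 0] ∧
      (List.finRange 4).map (fun m => cartanSys chevD4 (2 : Fin 4) m) = [0, -1, 2, 0] ∧
      (List.finRange 4).map (fun m => cartanSys chevD4 (3 : Fin 4) m) = [0, -1, 0, 2] := by decide +kernel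
    have e' : ∀ i : Fin 4, (∏ m : Fin 4, S.crd t 1 m ^ cartanSys chevD4 i m) =
        (List.zipWith (fun u e => u ^ e) [t, 1, t ^ q, (t ^ q) ^ q]
          ((List.finRange 4).map (fun m => cartanSys chevD4 i m))).prod := fun i => by
      rw [← List.prod_ofFn]; rfl
    have g : ∀ i : Fin 4, torChar chevD4 (S.crd t 1) (chevD4.simple i.val) =
        (List.zipWith (fun u e => u ^ e) [t, 1, t ^ q, (t ^ q) ^ q]
          ((List.finRange 4).map (fun m => cartanSys chevD4 i m))).prod := fun i => (e i).trans (e' i)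
    rcases hr with rfl | rfl | rfl
    · rw [show (18 : ℕ) = chevD4.simple (0 : Fin 4).val by decide +kernel, g, hv.1]
      simp [cB, show chevD4.simple 0 = 18 from rfl]
    · rw [show (13 : ℕ) = chevD4.simple (2 : Fin 4).val by decide +kernel, g, hv.2.1]
      simp [cB, show chevD4.simple 2 = 13 from rfl, ← pow_mul, mul_comm]
    · rw [show (12 : ℕ) = chevD4.simple (3 : Fin 4).val by decide +kernel, g, hv.2.2]
      simp [cB, show chevD4.simple 3 = 12 from rfl, ← pow_mul, mul_comm, mul_left_comm, mul_assoc]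
  have hmul : ∀ x y : K, ∀ r, cB q (x * y) r = cB q x r * cB q y r := fun x y r => by
    simp only [cB]; split_ifs <;> simp [mul_pow]
  have hadd : ∀ x y : K, ∀ r, cB q (x + y) r = cB q x r + cB q y r := fun x y r => by
    simp only [cB]; split_ifs
    · rfl
    · simp only [← S.hfr, map_add]
    · simp only [← S.hfr, map_add]
  refine factsD4.prodOver_mem_derived S.data.G1 (c := S.crd t 1) (S.torus_mem (one_pow q))
    (okComm' (by simp)) (by decide) (fun r hr => by
      simp only [List.mem_cons, List.not_mem_nil, or_false] at hr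
      rcases hr with rfl | rfl | rfl <;> decide +kernel) _ (cB q (a / ((t : K) ^ 2 - 1)))
    (S.B_mem (Or.inl rfl) _) fun r hr => ?_
  rw [hchar r hr, ← hadd, ← hmul]
  congr 1
  field_simp
  ring

theorem Setup.perfect : commutator ↥(twistedD4 K q) = ⊤ := by
  refine S.data.perfect (S := {g | ∃ w ∈ d4Words K q, (g : Matrix chevD4.Idx chevD4.Idx K) = chevD4.wordMat K w})
    le_rfl (fun g hg => ⟨Subgroup.subset_closure hg, ?_⟩) fun ω hω x hx hxf => ?_
  · obtain ⟨w, hw, hgw⟩ := hg
    rw [show g = factsD4.wg w from Units.ext (by rw [hgw, factsD4.coe_wg])]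
    have hL : Os.map (fun ω => orbL chevD4 (ω.map Fin.val)) = [[14], [12, 13, 18]] := orbLs
    have hN : Os.map (fun ω => Twist.negL chevD4 ω) = [[9], [11, 10, 5]] := negLs
    obtain ⟨o0, ho0, e0⟩ := List.mem_map.1 (hL ▸ (by simp) : [14] ∈ Os.map fun ω => orbL chevD4 (ω.map Fin.val))
    obtain ⟨o1, ho1, e1⟩ := List.mem_map.1 (hL ▸ (by simp) : [12, 13, 18] ∈ Os.map fun ω => orbL chevD4 (ω.map Fin.val))
    obtain ⟨n0, hn0, f0⟩ := List.mem_map.1 (hN ▸ (by simp) : [9] ∈ Os.map fun ω => Twist.negL chevD4 ω)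
    obtain ⟨n1, hn1, f1⟩ := List.mem_map.1 (hN ▸ (by simp) : [11, 10, 5] ∈ Os.map fun ω => Twist.negL chevD4 ω)
    have hprod : ∀ L L' : List ℕ, (∀ r ∈ L, r ∈ L') → ∀ c : ℕ → K,
        (factsD4.sys K).prodOver L c ∈ (factsD4.tsys K).US L' := fun L L' h c =>
      CommSys.US_mono _ h (CommSys.prodOver_mem _ _ _)
    rcases hw with ⟨t, -, r, hr, rfl⟩ | ⟨t, rs, hrs, rfl⟩
    · simp only [List.mem_cons, List.not_mem_nil, or_false, d4p2, d4m2] at hr
      have e : factsD4.wg [(r, t)] = factsD4.xg r t := by simp [Facts.wg]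
      rw [e]
      rcases hr with rfl | rfl
      · exact ⟨o0, ho0, Or.inl (e0 ▸ CommSys.x_mem_US _ (by simp) t)⟩
      · exact ⟨n0, hn0, Or.inr (f0 ▸ CommSys.x_mem_US _ (by simp) t)⟩
    · simp only [List.mem_cons, List.not_mem_nil, or_false] at hrs
      have hq2 : t ^ (q ^ 2) = (t ^ q) ^ q := by rw [← pow_mul, pow_two]
      rcases hrs with rfl | rfl
      · refine ⟨o1, ho1, Or.inl ?_⟩
        rw [e1]
        have h := hprod [18, 13, 12] [12, 13, 18] (by simp) (cB q t)
        simpa [Facts.wg, CommSys.prodOver, Facts.sys_x, cB, hq2, d4p1, d4p3, d4p4] using h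
      · refine ⟨n1, hn1, Or.inr ?_⟩
        rw [f1]
        have h := hprod [5, 10, 11] [11, 10, 5] (by simp) (cB q t)
        simpa [Facts.wg, CommSys.prodOver, Facts.sys_x, cB, hq2, d4m1, d4m3, d4m4] using h
  · have hm := List.mem_map_of_mem (f := fun ω => orbL chevD4 (ω.map Fin.val)) hω
    have hcl := S.closed hω
    rw [orbLs] at hm
    simp only [List.mem_cons, List.not_mem_nil, or_false] at hm
    rcases hm with h | h <;> rw [h] at hx hcl
    · obtain ⟨a, ha, rfl⟩ := S.fix_A hcl hx hxf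
      exact S.A_derived ha
    · obtain ⟨a, rfl⟩ := S.fix_B hcl hx hxf
      exact S.B_derived a

theorem Setup.simple : IsSimpleGroup ↥(twistedD4 K q) ∧ ¬ IsMulCommutative ↥(twistedD4 K q) := by
  obtain ⟨ω, hω⟩ := List.exists_mem_of_ne_nil Os (by decide +kernel)
  exact S.data.simple hω okPiConn_Os S.perfect (S.data.core_trivial S.coord)

end Cfsg.Agent.Lie.D4
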