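import Cfsg.Agent.Lib.Lie.TwistE6H
import Cfsg.Agent.Lib.Lie.TwistSimple
import Cfsg.Agent.Lib.Lie.TwistComm

/-!
The twisted groups of type ²E₆ are perfect and simple.
-/

set_option autoImplicit false
set_option maxRecDepth 4000

namespace Cfsg.Agent.Lie.E6

open Cfsg.Lie Matrix Twist
open scoped MatrixGroups commutatorElement

theorem okPiConn_Os : okPiConn chevE6 Os := by decide +kernel

theorem comm46 : chevE6.commTerms 71 1 = [(46, 1, 1, 1)] := by decide +kernel

theorem comm39 : chevE6.commTerms 70 2 = [(39, 1, 1, 1)] := by decide +kernel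

theorem okFixed : ([71, 1, 70, 2] : List ℕ).all (fun r => okComm chevE6 [r] && okStable chevE6 graphE6 [r]) = true := by
  decide +kernel

theorem pairs_facts : ([(56, 36), (42, 37)] : List (ℕ × ℕ)).all (fun p => decide (p.1 < 72) && decide (p.2 < 72) &&
    okComm chevE6 [p.1, p.2]) = true := by decide +kernel

variable {K : Type*} [Field K] [Fintype K] {q : ℕ} (S : Setup K q)

include S

theorem Setup.xg_fixed_mem {r : ℕ} (hr : r ∈ ([71, 1, 70, 2] : List ℕ)) {t : K} (ht : t ^ q = t) :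
    factsE6.xg r t ∈ S.data.G1 := by
  have hx : factsE6.xg r t ∈ (factsE6.tsys K).US [r] := CommSys.x_mem_US _ (by simp) t
  have hk := List.all_eq_true.1 okFixed r hr
  simp only [Bool.and_eq_true] at hk
  have hlt : r < 72 := by
    simp only [List.mem_cons, List.not_mem_nil, or_false] at hr
    omega
  have hf : factsE6.xg r t ∈ S.T.fix := by
    have h := S.T.prodOver_mem_fix (L := [r]) hk.1 (by rw [S.hR]; exact hk.2) (fun _ => t) (fun s hs => by
        obtain rfl := List.mem_singleton.1 hs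
        rw [S.expo_one hlt, pow_one, S.hfr, ht])
    simpa [CommSys.prodOver, Facts.sys_x] using h
  by_cases h36 : 36 ≤ r
  · exact S.data.pos_fix_le (fun s hs => by obtain rfl := List.mem_singleton.1 hs; exact ⟨h36, hlt⟩) hx hf
  · exact S.data.neg_fix_le (fun s hs => by obtain rfl := List.mem_singleton.1 hs; exact not_le.1 h36) hx hf

theorem Setup.A_derived {r : ℕ} (hr : r = 46 ∨ r = 39) {a : K} (ha : a ^ q = a) :
    factsE6.xg r a ∈ ⁅S.data.G1, S.data.G1⁆ := by
  have ha' : (-a) ^ q = -a := by rw [← S.hfr, map_neg, S.hfr, ha]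
  rcases hr with rfl | rfl
  · have h := factsE6.commWord_mem_derived S.data.G1 (r := 71) (s := 1) (by decide +kernel) (by decide +kernel)
      (by decide) (by decide +kernel) (S.xg_fixed_mem (r := 71) (by simp) (one_pow q))
      (S.xg_fixed_mem (r := 1) (by simp) ha')
    simpa [ChevalleyDatum.commWord, comm46] using h
  · have h := factsE6.commWord_mem_derived S.data.G1 (r := 70) (s := 2) (by decide +kernel) (by decide +kernel)
      (by decide) (by decide +kernel) (S.xg_fixed_mem (r := 70) (by simp) (one_pow q))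
      (S.xg_fixed_mem (r := 2) (by simp) ha')
    simpa [ChevalleyDatum.commWord, comm39] using h

theorem Setup.B_derived {a b : ℕ} (hab : (a = 56 ∧ b = 36) ∨ (a = 42 ∧ b = 37)) (s : K) :
    (factsE6.sys K).prodOver [a, b] (cB q s) ∈ ⁅S.data.G1, S.data.G1⁆ := by
  classical
  obtain ⟨u, hu⟩ : ∃ u : Kˣ, u ^ 2 ≠ 1 := by
    by_contra h
    simp only [not_exists, not_not] at h
    obtain ⟨g, hg⟩ := IsCyclic.exists_generator (α := Kˣ)
    have h1 : orderOf g ∣ 2 := orderOf_dvd_of_pow_eq_one (h g)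
    rw [orderOf_eq_card_of_forall_mem_zpowers hg, Nat.card_units, S.hK] at h1
    have h2 := Nat.le_of_dvd (by norm_num) h1
    have : 2 ^ 2 ≤ q ^ 2 := Nat.pow_le_pow_left S.hq 2
    omega
  have e : ∀ i : Fin 6, torChar chevE6 (S.crd 1 u 1 1) (chevE6.simple i.val) =
      (List.zipWith (fun u e => u ^ e) [1, 1, u, 1, u ^ q, 1 ^ q]
        ((List.finRange 6).map (fun m => cartanSys chevE6 i m))).prod := fun i => by
    have h1 : torChar chevE6 (S.crd 1 u 1 1) (chevE6.simple i.val) =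
        ((List.finRange 6).map (fun m => S.crd 1 u 1 1 m ^ cartanSys chevE6 i m)).prod :=
      ((congrArg List.prod (List.ofFn_eq_map (f := fun m : Fin 6 => S.crd 1 u 1 1 m ^ cartanSys chevE6 i m))).symm.trans
        List.prod_ofFn).symm
    rw [h1]; rfl
  have c0 : torChar chevE6 (S.crd 1 u 1 1) 56 = u⁻¹ := by
    rw [show (56 : ℕ) = chevE6.simple (0 : Fin 6).val by decide +kernel, e, cartan_rows]
    simp
  have c5 : torChar chevE6 (S.crd 1 u 1 1) 36 = (u ^ q)⁻¹ := by
    rw [show (36 : ℕ) = chevE6.simple (5 : Fin 6).val by decide +kernel, e, cartan_rows]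
    simp
  have c2 : torChar chevE6 (S.crd 1 u 1 1) 42 = u ^ 2 := by
    rw [show (42 : ℕ) = chevE6.simple (2 : Fin 6).val by decide +kernel, e, cartan_rows]
    simp
  have c4 : torChar chevE6 (S.crd 1 u 1 1) 37 = (u ^ q) ^ 2 := by
    rw [show (37 : ℕ) = chevE6.simple (4 : Fin 6).val by decide +kernel, e, cartan_rows]
    simp
  obtain ⟨x, hx1, hxa, hxb⟩ : ∃ x : Kˣ, x ≠ 1 ∧ torChar chevE6 (S.crd 1 u 1 1) a = x ∧
      torChar chevE6 (S.crd 1 u 1 1) b = x ^ q := by
    rcases hab with ⟨rfl, rfl⟩ | ⟨rfl, rfl⟩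
    · exact ⟨u⁻¹, fun h => hu (by rw [inv_eq_one.1 h, one_pow]), c0, by rw [c5, inv_pow]⟩
    · exact ⟨u ^ 2, hu, c2, by rw [c4, ← pow_mul, ← pow_mul, mul_comm]⟩
  have hd : (x : K) - 1 ≠ 0 := sub_ne_zero.2 fun h => hx1 (Units.ext (by rw [h, Units.val_one]))
  have hk := List.all_eq_true.1 pairs_facts (a, b) (by rcases hab with ⟨rfl, rfl⟩ | ⟨rfl, rfl⟩ <;> simp)
  simp only [Bool.and_eq_true, decide_eq_true_eq] at hk
  have hne : a ≠ b := by omega
  refine factsE6.prodOver_mem_derived S.data.G1 (c := S.crd 1 u 1 1) (S.torus_mem (one_pow q) (one_pow q))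
    hk.2 (by simp [hne]) (fun r hr => by
      simp only [List.mem_cons, List.not_mem_nil, or_false] at hr
      rcases hr with rfl | rfl
      · exact hk.1.1
      · exact hk.1.2) _ (cB q (s / ((x : K) - 1)))
    (B_mem (by rcases hab with ⟨rfl, rfl⟩ | ⟨rfl, rfl⟩ <;> simp) _) fun r hr => ?_
  have ha : ∀ z : K, cB q z a = z := fun z => by rcases hab with ⟨rfl, rfl⟩ | ⟨rfl, rfl⟩ <;> simp [cB]
  have hb : ∀ z : K, cB q z b = z ^ q := fun z => by rcases hab with ⟨rfl, rfl⟩ | ⟨rfl, rfl⟩ <;> simp [cB]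
  have hs : s + s / ((x : K) - 1) = (x : K) * (s / ((x : K) - 1)) := by field_simp; ring
  simp only [List.mem_cons, List.not_mem_nil, or_false] at hr
  rcases hr with rfl | rfl
  · rw [ha, ha, hxa, hs]
  · rw [hb, hb, hxb, Units.val_pow_eq_pow_val, ← mul_pow, ← hs, ← S.hfr, ← S.hfr, ← S.hfr, map_add]

theorem Setup.perfect : commutator ↥(twistedE6 K q) = ⊤ := by
  refine S.data.perfect (S := {g | ∃ w ∈ e6Words K q, (g : Matrix chevE6.Idx chevE6.Idx K) = chevE6.wordMat K w})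
    le_rfl (fun g hg => ⟨Subgroup.subset_closure hg, ?_⟩) fun ω hω x hx hxf => ?_
  · obtain ⟨w, hw, hgw⟩ := hg
    rw [show g = factsE6.wg w from Units.ext (by rw [hgw, factsE6.coe_wg])]
    have hex : ∀ L ∈ ([[46], [39], [36, 56], [37, 42]] : List (List ℕ)),
        ∃ ω ∈ Os, orbL chevE6 (ω.map Fin.val) = L := fun L hL => by
      rw [← orbLs] at hL; exact List.mem_map.1 hL
    have hnex : ∀ L ∈ ([[25], [32], [35, 15], [34, 29]] : List (List ℕ)),
        ∃ ω ∈ Os, Twist.negL chevE6 ω = L := fun L hL => by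
      rw [← negLs] at hL; exact List.mem_map.1 hL
    rcases hw with ⟨t, -, r, hr, rfl⟩ | ⟨t, ⟨a, b⟩, hrs, rfl⟩
    · have e : factsE6.wg [(r, t)] = factsE6.xg r t := by simp [Facts.wg]
      rw [e]
      simp only [List.mem_cons, List.not_mem_nil, or_false, e6p2, e6m2, e6p4, e6m4] at hr
      rcases hr with rfl | rfl | rfl | rfl
      · obtain ⟨o, ho, he⟩ := hex [46] (by simp)
        exact ⟨o, ho, Or.inl (he ▸ CommSys.x_mem_US _ (by simp) t)⟩
      · obtain ⟨o, ho, he⟩ := hnex [25] (by simp)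
        exact ⟨o, ho, Or.inr (he ▸ CommSys.x_mem_US _ (by simp) t)⟩
      · obtain ⟨o, ho, he⟩ := hex [39] (by simp)
        exact ⟨o, ho, Or.inl (he ▸ CommSys.x_mem_US _ (by simp) t)⟩
      · obtain ⟨o, ho, he⟩ := hnex [32] (by simp)
        exact ⟨o, ho, Or.inr (he ▸ CommSys.x_mem_US _ (by simp) t)⟩
    · have hmem : ∀ L : List ℕ, a ∈ L → b ∈ L → factsE6.wg [(a, t), (b, t ^ q)] ∈ (factsE6.tsys K).US L :=
        fun L ha hb => by
          have := mul_mem (CommSys.x_mem_US (factsE6.tsys K).toCommSys ha t)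
            (CommSys.x_mem_US (factsE6.tsys K).toCommSys hb (t ^ q))
          simpa [Facts.wg, factsE6.tsys_x] using this
      simp only [List.mem_cons, List.not_mem_nil, or_false, Prod.mk.injEq, e6p1, e6p6, e6m1, e6m6, e6p3, e6p5, e6m3, e6m5] at hrs
      rcases hrs with ⟨rfl, rfl⟩ | ⟨rfl, rfl⟩ | ⟨rfl, rfl⟩ | ⟨rfl, rfl⟩
      · obtain ⟨o, ho, he⟩ := hex [36, 56] (by simp)
        exact ⟨o, ho, Or.inl (he ▸ hmem _ (by simp) (by simp))⟩
      · obtain ⟨o, ho, he⟩ := hnex [35, 15] (by simp)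
        exact ⟨o, ho, Or.inr (he ▸ hmem _ (by simp) (by simp))⟩
      · obtain ⟨o, ho, he⟩ := hex [37, 42] (by simp)
        exact ⟨o, ho, Or.inl (he ▸ hmem _ (by simp) (by simp))⟩
      · obtain ⟨o, ho, he⟩ := hnex [34, 29] (by simp)
        exact ⟨o, ho, Or.inr (he ▸ hmem _ (by simp) (by simp))⟩
  · have hm := List.mem_map_of_mem (f := fun ω => orbL chevE6 (ω.map Fin.val)) hω
    have hcl := S.closed hω
    rw [orbLs] at hm
    simp only [List.mem_cons, List.not_mem_nil, or_false] at hm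
    rcases hm with h | h | h | h <;> rw [h] at hx hcl
    · obtain ⟨a, ha, rfl⟩ := S.fix_A (Or.inl rfl) hcl hx hxf
      exact S.A_derived (Or.inl rfl) ha
    · obtain ⟨a, ha, rfl⟩ := S.fix_A (Or.inr rfl) hcl hx hxf
      exact S.A_derived (Or.inr rfl) ha
    · obtain ⟨a, rfl⟩ := S.fix_B (Or.inl ⟨rfl, rfl⟩) hcl hx hxf
      exact S.B_derived (Or.inl ⟨rfl, rfl⟩) a
    · obtain ⟨a, rfl⟩ := S.fix_B (Or.inr ⟨rfl, rfl⟩) hcl hx hxf
      exact S.B_derived (Or.inr ⟨rfl, rfl⟩) a

theorem Setup.simple : IsSimpleGroup ↥(twistedE6 K q) ∧ ¬ IsMulCommutative ↥(twistedE6 K q) := by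
  obtain ⟨ω, hω⟩ := List.exists_mem_of_ne_nil Os (by decide +kernel)
  exact S.data.simple hω okPiConn_Os S.perfect (S.data.core_trivial S.coord)

end Cfsg.Agent.Lie.E6
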