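import Cfsg.Agent.Lib.Lie.TwistF4H
import Cfsg.Agent.Lib.Lie.TwistSimple
import Cfsg.Agent.Lib.Lie.TwistComm

/-!
The twisted groups of type ²F₄ over fields with more than two elements are perfect and simple.
-/

set_option autoImplicit false
set_option maxRecDepth 4000

namespace Cfsg.Agent.Lie.F4

open Cfsg.Lie Matrix Twist
open scoped MatrixGroups commutatorElement

theorem okPiConn_Os : okPiConn chevF4 Os := by decide +kernel

theorem weights_pos : ([33, 24, 27, 25, 28, 30] : List ℕ).map (wList chevF4) =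
    [[2, -1, 0, 0], [0, 0, -1, 2], [-1, 2, -1, 0], [0, -2, 2, -1], [-1, 0, 1, -1], [-2, 2, 0, -1]] := by
  decide +kernel

variable {K : Type*} [Field K] [Fintype K] {m : ℕ} (S : Setup K m)

include S

theorem Setup.exists_unit (hm : 1 ≤ m) : ∃ u : Kˣ, u ≠ 1 := by
  by_contra h
  simp only [ne_eq, not_exists, not_not] at h
  haveI : Subsingleton Kˣ := ⟨fun a b => (h a).trans (h b).symm⟩
  have h1 : Nat.card Kˣ = 1 := Nat.card_unique
  rw [Nat.card_units, S.hK] at h1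
  have : 2 ^ 3 ≤ 2 ^ (2 * m + 1) := Nat.pow_le_pow_right (by norm_num) (by omega)
  omega

theorem Setup.pair_derived (hm : 1 ≤ m) (s : K) :
    (factsF4.sys K).prodOver [33, 24] (cP m s) ∈ ⁅S.data.G1, S.data.G1⁆ := by
  obtain ⟨t, ht⟩ := S.exists_unit hm
  have hw := weights_pos
  simp only [List.map_cons, List.map_nil, List.cons.injEq, and_true] at hw
  obtain ⟨w33, w24, -, -, -, -⟩ := hw
  have c24 : (torChar chevF4 (S.crd t 1) 24 : K) = (t : K) ^ 2 := by
    rw [torChar_eval _ (by norm_num) w24]; simp [crd]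
  have c33 : (torChar chevF4 (S.crd t 1) 33 : K) = ((t : K) ^ 2) ^ 2 ^ m := by
    rw [torChar_eval _ (by norm_num) w33]; simp [crd, ← pow_mul, mul_comm]
  have hd : (t : K) ^ 2 - 1 ≠ 0 := sub_ne_zero.2 fun h => ht (Units.ext (by
    rw [sq_eq_one_iff] at h
    rcases h with h | h
    · rw [h, Units.val_one]
    · rw [h, Facts.neg_eq_self S.h2, Units.val_one]))
  refine factsF4.prodOver_mem_derived S.data.G1 (c := S.crd t 1) (S.torus_mem t 1)
    (S.pairOk (L := [33, 24]) (by simp)).1 (by decide) (fun r hr => by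
      simp only [List.mem_cons, List.not_mem_nil, or_false] at hr
      rcases hr with rfl | rfl <;> decide +kernel) _ (cP m (s / ((t : K) ^ 2 - 1)))
    (S.pair_mem (by simp) _) fun r hr => ?_
  have hs : s + s / ((t : K) ^ 2 - 1) = (t : K) ^ 2 * (s / ((t : K) ^ 2 - 1)) := by field_simp; ring
  simp only [List.mem_cons, List.not_mem_nil, or_false] at hr
  rcases hr with rfl | rfl
  · simp only [show ∀ z : K, cP m z 33 = z ^ 2 ^ m from fun z => by simp [cP]]
    rw [c33, ← mul_pow, ← hs, ← S.hfr, ← S.hfr, ← S.hfr, map_add]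
  · simp only [cP, if_neg (show ¬ (24 = 33 ∨ 24 = 14) by norm_num)]
    rw [c24, hs]

theorem Setup.fr_add (x y : K) : (x + y) ^ 2 ^ m = x ^ 2 ^ m + y ^ 2 ^ m := by
  rw [← S.hfr, map_add, S.hfr, S.hfr]

theorem Setup.w4F_mul (a b s v : K) :
    S.w4F 27 25 28 30 a b * S.w4F 27 25 28 30 s v = S.w4F 27 25 28 30 (a + s) (b + v + a ^ 2 ^ m * s) := by
  have h2 := S.h2
  rw [Setup.w4F, Setup.w4F, Setup.w4F, factsF4.b2_mul S.h2 okB2_pos]
  have hp : (a ^ 2 ^ m) ^ (2 * 2 ^ m) = a := (S.pow_twist a).1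
  have hsq : ∀ x y : K, (x + y) ^ (2 * 2 ^ m) = x ^ (2 * 2 ^ m) + y ^ (2 * 2 ^ m) := fun x y => by
    rw [pow_mul, pow_mul, pow_mul, ← S.fr_add, add_sq, S.h2, zero_mul, zero_mul, add_zero]
  congr 1
  · rw [S.fr_add]
  · rw [pow_succ, pow_succ, pow_succ, S.fr_add]
    linear_combination (-(a ^ 2 ^ m) * s) * h2
  · rw [hsq, hsq, mul_pow, hp, pow_mul s 2, ← pow_two, ← pow_mul s (2 ^ m) 2, mul_comm (2 ^ m) 2, ← pow_mul]
    ring

theorem Setup.B2_derived (hm : 1 ≤ m) (t u : K) :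
    S.w4F 27 25 28 30 t u ∈ ⁅S.data.G1, S.data.G1⁆ := by
  obtain ⟨z, hz⟩ := S.exists_unit hm
  have h2 := S.h2
  set c := S.crd 1 z with hc
  set L : Kˣ := z ^ 2 * (z ^ (2 * 2 ^ m))⁻¹ with hL
  have hp : ∀ x : Kˣ, (x ^ (2 * 2 ^ m)) ^ 2 ^ m = x := fun x => Units.ext (by
    simp only [Units.val_pow_eq_pow_val]; exact (S.pow_twist (x : K)).2)
  have hLe : L ^ 2 ^ m = z ^ (2 * 2 ^ m) * z⁻¹ := by
    rw [hL, mul_pow, inv_pow, hp, ← pow_mul]
  have hw := weights_pos
  simp only [List.map_cons, List.map_nil, List.cons.injEq, and_true] at hw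
  obtain ⟨-, -, w27, w25, w28, w30⟩ := hw
  have hp2 : (z ^ 2 ^ m) ^ 2 = z ^ (2 * 2 ^ m) := by rw [← pow_mul, mul_comm]
  have c27 : torChar chevF4 c 27 = L ^ 2 ^ m := by
    rw [hc, torChar_eval _ (by norm_num) w27, hLe]; simp [crd, hp2]
  have c25 : torChar chevF4 c 25 = L := by
    rw [hc, torChar_eval _ (by norm_num) w25, hL]; simp [crd, hp2, mul_comm]
  have c28 : torChar chevF4 c 28 = L ^ (2 ^ m + 1) := by
    rw [hc, torChar_eval _ (by norm_num) w28, pow_succ, hLe, hL]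
    simp [crd, pow_two, mul_comm, mul_left_comm]
  have c30 : torChar chevF4 c 30 = L ^ (2 * 2 ^ m + 1) := by
    rw [hc, torChar_eval _ (by norm_num) w30, pow_succ, mul_comm 2 (2 ^ m), pow_mul, hLe, hL]
    simp [crd, pow_two, mul_comm, mul_left_comm, hp2]
    simp [← mul_assoc, ← pow_add]
    ring_nf
    rw [eq_mul_inv_iff_mul_eq, ← pow_add]
    ring_nf
  have hL1 : L ≠ 1 := by
    intro h
    rw [hL, mul_inv_eq_one] at h
    have h' := congrArg (fun x => x ^ 2 ^ m) h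
    simp only [hp, ← pow_mul] at h'
    exact hz (mul_left_cancel (a := z) (by rw [mul_one, ← pow_two, h, h']))
  have hM1 : L ^ (2 ^ m + 1) ≠ 1 := by
    intro h
    refine hL1 ((powCoprime S.coprime_exp).injective (a₂ := 1) ?_)
    show L ^ (2 * 2 ^ m + 2) = 1 ^ (2 * 2 ^ m + 2)
    rw [show 2 * 2 ^ m + 2 = (2 ^ m + 1) * 2 by ring, pow_mul, h, one_pow, one_pow]
  have hconj : ∀ s v : K, torus chevF4 K c * S.w4F 27 25 28 30 s v * (torus chevF4 K c)⁻¹ =
      S.w4F 27 25 28 30 ((L : K) * s) ((L : K) ^ (2 ^ m + 1) * v) := by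
    intro s v
    have e : torus chevF4 K c * S.w4F 27 25 28 30 s v * (torus chevF4 K c)⁻¹ =
        (torus chevF4 K c * factsF4.xg 27 (s ^ 2 ^ m) * (torus chevF4 K c)⁻¹) *
        (torus chevF4 K c * factsF4.xg 25 s * (torus chevF4 K c)⁻¹) *
        (torus chevF4 K c * factsF4.xg 28 (s ^ (2 ^ m + 1) + v) * (torus chevF4 K c)⁻¹) *
        (torus chevF4 K c * factsF4.xg 30 (v ^ (2 * 2 ^ m)) * (torus chevF4 K c)⁻¹) := by
      rw [Setup.w4F, Facts.w4]; group
    rw [e, factsF4.torus_conj c (show 27 < chevF4.nroots by decide +kernel),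
      factsF4.torus_conj c (show 25 < chevF4.nroots by decide +kernel),
      factsF4.torus_conj c (show 28 < chevF4.nroots by decide +kernel),
      factsF4.torus_conj c (show 30 < chevF4.nroots by decide +kernel), c27, c25, c28, c30, Setup.w4F, Facts.w4]
    simp only [Units.val_pow_eq_pow_val, mul_pow, ← mul_add]
    congr 2
    have h1 := (S.pow_twist (L : K)).1
    rw [← pow_mul] at h1
    rw [← pow_mul (L : K), show (2 ^ m + 1) * (2 * 2 ^ m) = 2 * 2 ^ m + 2 ^ m * (2 * 2 ^ m) by ring,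
      pow_add (L : K) (2 * 2 ^ m) (2 ^ m * (2 * 2 ^ m)), h1, pow_succ]
  have hG : torus chevF4 K c ∈ S.data.G1 := S.torus_mem 1 z
  have hX : ∀ s v : K, S.w4F 27 25 28 30 s v ∈ S.data.G1 := fun s v =>
    S.b2_mem (Or.inl ⟨rfl, rfl, rfl, rfl⟩) s v
  have hcomm : ∀ s v : K, S.w4F 27 25 28 30 ((L : K) * s) ((L : K) ^ (2 ^ m + 1) * v) *
      (S.w4F 27 25 28 30 s v)⁻¹ ∈ ⁅S.data.G1, S.data.G1⁆ := fun s v => by
    rw [← hconj, ← commutatorElement_def]
    exact Subgroup.commutator_mem_commutator hG (hX s v)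
  have h00 : S.w4F 27 25 28 30 (0 : K) 0 = 1 := by
    simp [Setup.w4F, Facts.w4, factsF4.xg_zero, zero_pow]
  have hinv : ∀ s v : K, (S.w4F 27 25 28 30 s v)⁻¹ = S.w4F 27 25 28 30 s (v + s ^ (2 ^ m + 1)) := fun s v => by
    rw [inv_eq_iff_mul_eq_one, S.w4F_mul, show s + s = 0 by linear_combination s * h2,
      show v + (v + s ^ (2 ^ m + 1)) + s ^ 2 ^ m * s = 0 by linear_combination (v + s ^ 2 ^ m * s) * h2, h00]
  have hd : (L : K) + 1 ≠ 0 := fun h => hL1 (Units.ext (by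
    rw [Units.val_one]; linear_combination h - h2))
  have hd' : (L : K) ^ (2 ^ m + 1) + 1 ≠ 0 := fun h => hM1 (Units.ext (by
    rw [Units.val_one, Units.val_pow_eq_pow_val]; linear_combination h - h2))
  have hZ : ∀ v : K, S.w4F 27 25 28 30 (0 : K) v ∈ ⁅S.data.G1, S.data.G1⁆ := by
    intro v
    have h := hcomm 0 (v / ((L : K) ^ (2 ^ m + 1) + 1))
    rw [hinv, S.w4F_mul] at h
    simp only [mul_zero, add_zero, zero_pow (Nat.succ_ne_zero (2 ^ m)), add_zero] at h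
    rwa [show (L : K) ^ (2 ^ m + 1) * (v / ((L : K) ^ (2 ^ m + 1) + 1)) + v / ((L : K) ^ (2 ^ m + 1) + 1) = v by
      field_simp] at h
  have h := hcomm (t / ((L : K) + 1)) 0
  rw [hinv, S.w4F_mul, show (L : K) * (t / ((L : K) + 1)) + t / ((L : K) + 1) = t by field_simp] at h
  generalize (L : K) ^ (2 ^ m + 1) * 0 + (0 + (t / ((L : K) + 1)) ^ (2 ^ m + 1)) +
    ((L : K) * (t / ((L : K) + 1))) ^ 2 ^ m * (t / ((L : K) + 1)) = u' at h
  rw [show S.w4F 27 25 28 30 t u = S.w4F 27 25 28 30 t u' * S.w4F 27 25 28 30 0 (u + u') by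
    rw [S.w4F_mul, add_zero, mul_zero, add_zero, show u' + (u + u') = u by linear_combination u' * h2]]
  exact mul_mem h (hZ _)

theorem Setup.perfect (hm : 1 ≤ m) : commutator ↥(twistedF4 K (2 ^ m)) = ⊤ := by
  refine S.data.perfect (S := {g | ∃ w ∈ f4Words K (2 ^ m), (g : Matrix chevF4.Idx chevF4.Idx K) = chevF4.wordMat K w})
    le_rfl (fun g hg => ⟨Subgroup.subset_closure hg, ?_⟩) fun ω hω x hx hxf => ?_
  · obtain ⟨w, hw, hgw⟩ := hg
    rw [show g = factsF4.wg w from Units.ext (by rw [hgw, factsF4.coe_wg])]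
    have hex : ∀ L ∈ ([[24, 33], [25, 27, 28, 30]] : List (List ℕ)),
        ∃ ω ∈ Os, orbL chevF4 (ω.map Fin.val) = L := fun L hL => by
      rw [← orbLs] at hL; exact List.mem_map.1 hL
    have hnex : ∀ L ∈ ([[23, 14], [22, 20, 19, 17]] : List (List ℕ)),
        ∃ ω ∈ Os, Twist.negL chevF4 ω = L := fun L hL => by
      rw [← negLs] at hL; exact List.mem_map.1 hL
    have hX : ∀ L : List ℕ, ∀ r ∈ L, ∀ z : K, factsF4.xg r z ∈ (factsF4.tsys K).US L := fun L r hr z =>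
      CommSys.x_mem_US _ hr z
    rcases hw with ⟨t, rfl | rfl⟩ | ⟨t, v, rfl | rfl⟩
    · obtain ⟨o, ho, he⟩ := hex [24, 33] (by simp)
      refine ⟨o, ho, Or.inl (he ▸ ?_)⟩
      simpa [f4PairWord, f4p1, f4p4, Facts.wg] using mul_mem (hX [24, 33] 33 (by simp) _) (hX [24, 33] 24 (by simp) _)
    · obtain ⟨o, ho, he⟩ := hnex [23, 14] (by simp)
      refine ⟨o, ho, Or.inr (he ▸ ?_)⟩
      simpa [f4PairWord, f4m1, f4m4, Facts.wg] using mul_mem (hX [23, 14] 14 (by simp) _) (hX [23, 14] 23 (by simp) _)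
    · obtain ⟨o, ho, he⟩ := hex [25, 27, 28, 30] (by simp)
      refine ⟨o, ho, Or.inl (he ▸ ?_)⟩
      simpa [b2ClassWord, f4a, f4b, f4ab, f4aab, Facts.wg, mul_assoc] using mul_mem (mul_mem (mul_mem
        (hX [25, 27, 28, 30] 27 (by simp) _) (hX [25, 27, 28, 30] 25 (by simp) _))
        (hX [25, 27, 28, 30] 28 (by simp) _)) (hX [25, 27, 28, 30] 30 (by simp) _)
    · obtain ⟨o, ho, he⟩ := hnex [22, 20, 19, 17] (by simp)
      refine ⟨o, ho, Or.inr (he ▸ ?_)⟩
      simpa [b2ClassWord, f4ma, f4mb, f4mab, f4maab, Facts.wg, mul_assoc] using mul_mem (mul_mem (mul_mem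
        (hX [22, 20, 19, 17] 20 (by simp) _) (hX [22, 20, 19, 17] 22 (by simp) _))
        (hX [22, 20, 19, 17] 19 (by simp) _)) (hX [22, 20, 19, 17] 17 (by simp) _)
  · have hm' := List.mem_map_of_mem (f := fun ω => orbL chevF4 (ω.map Fin.val)) hω
    have hcl := S.closed hω
    rw [orbLs] at hm'
    simp only [List.mem_cons, List.not_mem_nil, or_false] at hm'
    rcases hm' with h | h <;> rw [h] at hx hcl
    · obtain ⟨s, rfl⟩ := S.fix_pair hcl hx hxf
      exact S.pair_derived hm s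
    · obtain ⟨t, u, rfl⟩ := S.fix_b2 hcl hx hxf
      exact S.B2_derived hm t u

theorem Setup.simple (hm : 1 ≤ m) :
    IsSimpleGroup ↥(twistedF4 K (2 ^ m)) ∧ ¬ IsMulCommutative ↥(twistedF4 K (2 ^ m)) := by
  obtain ⟨ω, hω⟩ := List.exists_mem_of_ne_nil Os (by decide +kernel)
  exact S.data.simple hω okPiConn_Os (S.perfect hm) (S.data.core_trivial S.coord)

end Cfsg.Agent.Lie.F4
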