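import Cfsg.Agent.Lib.Lie.WeylCount
import Cfsg.Agent.Lib.Lie.FactsF4

/-! The Weyl group of type F4: presentation and length generating function. -/

set_option autoImplicit false
set_option maxRecDepth 100000

namespace Cfsg.Agent.Lie

open Cfsg.Lie

/-- Orbit data, part. -/
def orbitF4_3p0 : List (List ℤ × ℕ × List ℕ) := [([0, 0, 0, 1], 0, [0, 0, 0, 1]),
    ([0, 0, 1, -1], 1, [1, 1, 2, 0]),
    ([0, 2, -1, 0], 2, [2, 3, 1, 2]),
    ([2, -2, 1, 0], 3, [4, 2, 5, 3]),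
    ([-2, 0, 1, 0], 4, [3, 4, 6, 4]),
    ([2, 0, -1, 1], 4, [6, 5, 3, 7]),
    ([-2, 2, -1, 1], 5, [5, 8, 4, 9]),
    ([2, 0, 0, -1], 5, [9, 7, 7, 5]),
    ([0, -2, 1, 1], 6, [8, 6, 10, 11]),
    ([-2, 2, 0, -1], 6, [7, 11, 9, 6]),
    ([0, 0, -1, 2], 7, [10, 10, 8, 12]),
    ([0, -2, 2, -1], 7, [11, 9, 13, 8]),
    ([0, 0, 1, -2], 8, [12, 12, 14, 10]),
    ([0, 2, -2, 1], 8, [13, 15, 11, 14]),
    ([0, 2, -1, -1], 9, [14, 16, 12, 13]),
    ([2, -2, 0, 1], 9, [17, 13, 15, 16]),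
    ([2, -2, 1, -1], 10, [18, 14, 19, 15]),
    ([-2, 0, 0, 1], 10, [15, 17, 17, 18]),
    ([-2, 0, 1, -1], 11, [16, 18, 20, 17]),
    ([2, 0, -1, 0], 11, [20, 19, 16, 19]),
    ([-2, 2, -1, 0], 12, [19, 21, 18, 20]),
    ([0, -2, 1, 0], 13, [21, 20, 22, 21]),
    ([0, 0, -1, 1], 14, [22, 22, 21, 23]),
    ([0, 0, 0, -1], 15, [23, 23, 23, 22])]

/-- Orbit data. -/
def orbitF4_3 : OrbitStep where
  node := 3
  orbit := orbitF4_3p0

/-- Orbit data, part. -/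
def orbitF4_2p0 : List (List ℤ × ℕ × List ℕ) := [([0, 0, 1, 0], 0, [0, 0, 1]),
    ([0, 2, -1, 1], 1, [1, 2, 0]),
    ([2, -2, 1, 1], 2, [3, 1, 4]),
    ([-2, 0, 1, 1], 3, [2, 3, 5]),
    ([2, 0, -1, 2], 3, [5, 4, 2]),
    ([-2, 2, -1, 2], 4, [4, 6, 3]),
    ([0, -2, 1, 2], 5, [6, 5, 7]),
    ([0, 0, -1, 3], 6, [7, 7, 6])]

/-- Orbit data. -/
def orbitF4_2 : OrbitStep where
  node := 2
  orbit := orbitF4_2p0

/-- Orbit data, part. -/
def orbitF4_1p0 : List (List ℤ × ℕ × List ℕ) := [([0, 1, 0, 0], 0, [0, 1]),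
    ([1, -1, 1, 0], 1, [2, 0]),
    ([-1, 0, 1, 0], 2, [1, 2])]

/-- Orbit data. -/
def orbitF4_1 : OrbitStep where
  node := 1
  orbit := orbitF4_1p0

/-- Orbit data, part. -/
def orbitF4_0p0 : List (List ℤ × ℕ × List ℕ) := [([1, 0, 0, 0], 0, [1]),
    ([-1, 1, 0, 0], 1, [0])]

/-- Orbit data. -/
def orbitF4_0 : OrbitStep where
  node := 0
  orbit := orbitF4_0p0

/-- The orbit chain of type F4. -/
def orbitChainF4 : List OrbitStep := [orbitF4_3, orbitF4_2, orbitF4_1, orbitF4_0]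

theorem okCorootF4 : Facts.okCoroot chevF4 = true := by decide +kernel

/-- Reflection columns. -/
def colsF4 : List (List ℤ) := [[2, -1, 0, 0], [-1, 2, -1, 0], [0, -2, 2, -1], [0, 0, -1, 2]]

theorem okColsF4 : okCols chevF4 colsF4 = true := by decide +kernel

theorem okOrbitsF4 : okChainW chevF4 colsF4 (List.range chevF4.rank) orbitChainF4 = true := by decide +kernel

theorem polyF4 : polyEqb (chainPoly orbitChainF4) (polyProd (([2, 6, 8, 12] : List ℕ).map polyGeom)) = true := by decide +kernel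

/-- The Coxeter matrix entries. -/
def coxFunF4 (i j : ℕ) : ℕ := if h : i < 4 ∧ j < 4 then (CoxeterMatrix.F₄ : CoxeterMatrix (Fin 4)).M ⟨i, h.1⟩ ⟨j, h.2⟩ else 1

theorem okOrdersF4 : okOrders chevF4 coxFunF4 = true := by decide +kernel

theorem coxeterF4 :
    (∀ i j, (factsF4.refSys.s i * factsF4.refSys.s j) ^ (CoxeterMatrix.F₄ : CoxeterMatrix (Fin chevF4.rank)) i j = 1) ∧
      ∀ i j (r : ℕ), (factsF4.refSys.s i * factsF4.refSys.s j) ^ r = 1 → (CoxeterMatrix.F₄ : CoxeterMatrix (Fin chevF4.rank)) i j ∣ r :=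
  factsF4.orders_of_check _ coxFunF4 (fun i j => by
    unfold coxFunF4
    rw [dif_pos (⟨i.isLt, j.isLt⟩ : i.val < 4 ∧ j.val < 4)]
    exact rfl) okOrdersF4

/-- The Weyl group of type F4 is the Coxeter group. -/
noncomputable def weylEquivF4 : (CoxeterMatrix.F₄ : CoxeterMatrix (Fin chevF4.rank)).Group ≃* factsF4.weyl :=
  factsF4.refSys.coxeterEquiv _ coxeterF4.1 coxeterF4.2

theorem lenSumF4 (q : ℕ) : factsF4.lenSum (List.range chevF4.rank) q =
    ((([2, 6, 8, 12] : List ℕ).map fun d => ∑ k ∈ Finset.range d, q ^ k)).prod := by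
  rw [factsF4.lenSum_chain okCorootF4 okColsF4 orbitChainF4 _ okOrbitsF4 (fun j hj => List.mem_range.1 hj) q, polyEqb_sound q _ _ polyF4, polyEval_prod, List.map_map]
  simp only [Function.comp_def, polyEval_geom]

end Cfsg.Agent.Lie
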