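import Cfsg.Agent.Lib.Lie.WeylCount
import Cfsg.Agent.Lib.Lie.FactsE6

/-! The Weyl group of type E6: presentation and length generating function. -/

set_option autoImplicit false
set_option maxRecDepth 100000

namespace Cfsg.Agent.Lie

open Cfsg.Lie

/-- Orbit data, part. -/
def orbitE6_5p0 : List (List ℤ × ℕ × List ℕ) := [([0, 0, 0, 0, 0, 1], 0, [0, 0, 0, 0, 0, 1]),
    ([0, 0, 0, 0, 1, -1], 1, [1, 1, 1, 1, 2, 0]),
    ([0, 0, 0, 1, -1, 0], 2, [2, 2, 2, 3, 1, 2]),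
    ([0, 1, 1, -1, 0, 0], 3, [3, 4, 5, 2, 3, 3]),
    ([0, -1, 1, 0, 0, 0], 4, [4, 3, 6, 4, 4, 4]),
    ([1, 1, -1, 0, 0, 0], 4, [7, 6, 3, 5, 5, 5]),
    ([1, -1, -1, 1, 0, 0], 5, [8, 5, 4, 9, 6, 6]),
    ([-1, 1, 0, 0, 0, 0], 5, [5, 8, 7, 7, 7, 7]),
    ([-1, -1, 0, 1, 0, 0], 6, [6, 7, 8, 10, 8, 8]),
    ([1, 0, 0, -1, 1, 0], 6, [10, 9, 9, 6, 11, 9]),
    ([-1, 0, 1, -1, 1, 0], 7, [9, 10, 12, 8, 13, 10]),
    ([1, 0, 0, 0, -1, 1], 7, [13, 11, 11, 11, 9, 14]),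
    ([0, 0, -1, 0, 1, 0], 8, [12, 12, 10, 12, 15, 12]),
    ([-1, 0, 1, 0, -1, 1], 8, [11, 13, 15, 13, 10, 16]),
    ([1, 0, 0, 0, 0, -1], 8, [16, 14, 14, 14, 14, 11]),
    ([0, 0, -1, 1, -1, 1], 9, [15, 15, 13, 17, 12, 18]),
    ([-1, 0, 1, 0, 0, -1], 9, [14, 16, 18, 16, 16, 13]),
    ([0, 1, 0, -1, 0, 1], 10, [17, 19, 17, 15, 17, 20]),
    ([0, 0, -1, 1, 0, -1], 10, [18, 18, 16, 20, 18, 15]),
    ([0, -1, 0, 0, 0, 1], 11, [19, 17, 19, 19, 19, 21]),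
    ([0, 1, 0, -1, 1, -1], 11, [20, 21, 20, 18, 22, 17]),
    ([0, -1, 0, 0, 1, -1], 12, [21, 20, 21, 21, 23, 19]),
    ([0, 1, 0, 0, -1, 0], 12, [22, 23, 22, 22, 20, 22]),
    ([0, -1, 0, 1, -1, 0], 13, [23, 22, 23, 24, 21, 23])]

/-- Orbit data, part. -/
def orbitE6_5p1 : List (List ℤ × ℕ × List ℕ) := [([0, 0, 1, -1, 0, 0], 14, [24, 24, 25, 23, 24, 24]),
    ([1, 0, -1, 0, 0, 0], 15, [26, 25, 24, 25, 25, 25]),
    ([-1, 0, 0, 0, 0, 0], 16, [25, 26, 26, 26, 26, 26])]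

/-- Orbit data. -/
def orbitE6_5 : OrbitStep where
  node := 5
  orbit := orbitE6_5p0 ++ orbitE6_5p1

/-- Orbit data, part. -/
def orbitE6_4p0 : List (List ℤ × ℕ × List ℕ) := [([0, 0, 0, 0, 1, 0], 0, [0, 0, 0, 0, 1]),
    ([0, 0, 0, 1, -1, 1], 1, [1, 1, 1, 2, 0]),
    ([0, 1, 1, -1, 0, 1], 2, [2, 3, 4, 1, 2]),
    ([0, -1, 1, 0, 0, 1], 3, [3, 2, 5, 3, 3]),
    ([1, 1, -1, 0, 0, 1], 3, [6, 5, 2, 4, 4]),
    ([1, -1, -1, 1, 0, 1], 4, [7, 4, 3, 8, 5]),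
    ([-1, 1, 0, 0, 0, 1], 4, [4, 7, 6, 6, 6]),
    ([-1, -1, 0, 1, 0, 1], 5, [5, 6, 7, 9, 7]),
    ([1, 0, 0, -1, 1, 1], 5, [9, 8, 8, 5, 10]),
    ([-1, 0, 1, -1, 1, 1], 6, [8, 9, 11, 7, 12]),
    ([1, 0, 0, 0, -1, 2], 6, [12, 10, 10, 10, 8]),
    ([0, 0, -1, 0, 1, 1], 7, [11, 11, 9, 11, 13]),
    ([-1, 0, 1, 0, -1, 2], 7, [10, 12, 13, 12, 9]),
    ([0, 0, -1, 1, -1, 2], 8, [13, 13, 12, 14, 11]),
    ([0, 1, 0, -1, 0, 2], 9, [14, 15, 14, 13, 14]),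
    ([0, -1, 0, 0, 0, 2], 10, [15, 14, 15, 15, 15])]

/-- Orbit data. -/
def orbitE6_4 : OrbitStep where
  node := 4
  orbit := orbitE6_4p0

/-- Orbit data, part. -/
def orbitE6_3p0 : List (List ℤ × ℕ × List ℕ) := [([0, 0, 0, 1, 0, 0], 0, [0, 0, 0, 1]),
    ([0, 1, 1, -1, 1, 0], 1, [1, 2, 3, 0]),
    ([0, -1, 1, 0, 1, 0], 2, [2, 1, 4, 2]),
    ([1, 1, -1, 0, 1, 0], 2, [5, 4, 1, 3]),
    ([1, -1, -1, 1, 1, 0], 3, [6, 3, 2, 7]),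
    ([-1, 1, 0, 0, 1, 0], 3, [3, 6, 5, 5]),
    ([-1, -1, 0, 1, 1, 0], 4, [4, 5, 6, 8]),
    ([1, 0, 0, -1, 2, 0], 4, [8, 7, 7, 4]),
    ([-1, 0, 1, -1, 2, 0], 5, [7, 8, 9, 6]),
    ([0, 0, -1, 0, 2, 0], 6, [9, 9, 8, 9])]

/-- Orbit data. -/
def orbitE6_3 : OrbitStep where
  node := 3
  orbit := orbitE6_3p0

/-- Orbit data, part. -/
def orbitE6_2p0 : List (List ℤ × ℕ × List ℕ) := [([0, 0, 1, 0, 0, 0], 0, [0, 0, 1]),
    ([1, 0, -1, 1, 0, 0], 1, [2, 1, 0]),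
    ([-1, 0, 0, 1, 0, 0], 2, [1, 2, 2])]

/-- Orbit data. -/
def orbitE6_2 : OrbitStep where
  node := 2
  orbit := orbitE6_2p0

/-- Orbit data, part. -/
def orbitE6_1p0 : List (List ℤ × ℕ × List ℕ) := [([0, 1, 0, 0, 0, 0], 0, [0, 1]),
    ([0, -1, 0, 1, 0, 0], 1, [1, 0])]

/-- Orbit data. -/
def orbitE6_1 : OrbitStep where
  node := 1
  orbit := orbitE6_1p0

/-- Orbit data, part. -/
def orbitE6_0p0 : List (List ℤ × ℕ × List ℕ) := [([1, 0, 0, 0, 0, 0], 0, [1]),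
    ([-1, 0, 1, 0, 0, 0], 1, [0])]

/-- Orbit data. -/
def orbitE6_0 : OrbitStep where
  node := 0
  orbit := orbitE6_0p0

/-- The orbit chain of type E6. -/
def orbitChainE6 : List OrbitStep := [orbitE6_5, orbitE6_4, orbitE6_3, orbitE6_2, orbitE6_1, orbitE6_0]

theorem okCorootE6 : Facts.okCoroot chevE6 = true := by decide +kernel

/-- Reflection columns. -/
def colsE6 : List (List ℤ) := [[2, 0, -1, 0, 0, 0], [0, 2, 0, -1, 0, 0], [-1, 0, 2, -1, 0, 0], [0, -1, -1, 2, -1, 0], [0, 0, 0, -1, 2, -1], [0, 0, 0, 0, -1, 2]]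

theorem okColsE6 : okCols chevE6 colsE6 = true := by decide +kernel

theorem okOrbitsE6 : okChainW chevE6 colsE6 (List.range chevE6.rank) orbitChainE6 = true := by decide +kernel

theorem polyE6 : polyEqb (chainPoly orbitChainE6) (polyProd (([2, 5, 6, 8, 9, 12] : List ℕ).map polyGeom)) = true := by decide +kernel

/-- The Coxeter matrix entries. -/
def coxFunE6 (i j : ℕ) : ℕ := if h : i < 6 ∧ j < 6 then (CoxeterMatrix.E₆ : CoxeterMatrix (Fin 6)).M ⟨i, h.1⟩ ⟨j, h.2⟩ else 1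

theorem okOrdersE6 : okOrders chevE6 coxFunE6 = true := by decide +kernel

theorem coxeterE6 :
    (∀ i j, (factsE6.refSys.s i * factsE6.refSys.s j) ^ (CoxeterMatrix.E₆ : CoxeterMatrix (Fin chevE6.rank)) i j = 1) ∧
      ∀ i j (r : ℕ), (factsE6.refSys.s i * factsE6.refSys.s j) ^ r = 1 → (CoxeterMatrix.E₆ : CoxeterMatrix (Fin chevE6.rank)) i j ∣ r :=
  factsE6.orders_of_check _ coxFunE6 (fun i j => by
    unfold coxFunE6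
    rw [dif_pos (⟨i.isLt, j.isLt⟩ : i.val < 6 ∧ j.val < 6)]
    exact rfl) okOrdersE6

/-- The Weyl group of type E6 is the Coxeter group. -/
noncomputable def weylEquivE6 : (CoxeterMatrix.E₆ : CoxeterMatrix (Fin chevE6.rank)).Group ≃* factsE6.weyl :=
  factsE6.refSys.coxeterEquiv _ coxeterE6.1 coxeterE6.2

theorem lenSumE6 (q : ℕ) : factsE6.lenSum (List.range chevE6.rank) q =
    ((([2, 5, 6, 8, 9, 12] : List ℕ).map fun d => ∑ k ∈ Finset.range d, q ^ k)).prod := by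
  rw [factsE6.lenSum_chain okCorootE6 okColsE6 orbitChainE6 _ okOrbitsE6 (fun j hj => List.mem_range.1 hj) q, polyEqb_sound q _ _ polyE6, polyEval_prod, List.map_map]
  simp only [Function.comp_def, polyEval_geom]

end Cfsg.Agent.Lie
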