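import Cfsg.Agent.Lib.Lie.WeylCount
import Cfsg.Agent.Lib.Lie.FactsE7

/-! The Weyl group of type E7: presentation and length generating function. -/

set_option autoImplicit false
set_option maxRecDepth 100000

namespace Cfsg.Agent.Lie

open Cfsg.Lie

/-- Orbit data, part. -/
def orbitE7_6p0 : List (List ℤ × ℕ × List ℕ) := [([0, 0, 0, 0, 0, 0, 1], 0, [0, 0, 0, 0, 0, 0, 1]),
    ([0, 0, 0, 0, 0, 1, -1], 1, [1, 1, 1, 1, 1, 2, 0]),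
    ([0, 0, 0, 0, 1, -1, 0], 2, [2, 2, 2, 2, 3, 1, 2]),
    ([0, 0, 0, 1, -1, 0, 0], 3, [3, 3, 3, 4, 2, 3, 3]),
    ([0, 1, 1, -1, 0, 0, 0], 4, [4, 5, 6, 3, 4, 4, 4]),
    ([0, -1, 1, 0, 0, 0, 0], 5, [5, 4, 7, 5, 5, 5, 5]),
    ([1, 1, -1, 0, 0, 0, 0], 5, [8, 7, 4, 6, 6, 6, 6]),
    ([1, -1, -1, 1, 0, 0, 0], 6, [9, 6, 5, 10, 7, 7, 7]),
    ([-1, 1, 0, 0, 0, 0, 0], 6, [6, 9, 8, 8, 8, 8, 8]),
    ([-1, -1, 0, 1, 0, 0, 0], 7, [7, 8, 9, 11, 9, 9, 9]),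
    ([1, 0, 0, -1, 1, 0, 0], 7, [11, 10, 10, 7, 12, 10, 10]),
    ([-1, 0, 1, -1, 1, 0, 0], 8, [10, 11, 13, 9, 14, 11, 11]),
    ([1, 0, 0, 0, -1, 1, 0], 8, [14, 12, 12, 12, 10, 15, 12]),
    ([0, 0, -1, 0, 1, 0, 0], 9, [13, 13, 11, 13, 16, 13, 13]),
    ([-1, 0, 1, 0, -1, 1, 0], 9, [12, 14, 16, 14, 11, 17, 14]),
    ([1, 0, 0, 0, 0, -1, 1], 9, [17, 15, 15, 15, 15, 12, 18]),
    ([0, 0, -1, 1, -1, 1, 0], 10, [16, 16, 14, 19, 13, 20, 16]),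
    ([-1, 0, 1, 0, 0, -1, 1], 10, [15, 17, 20, 17, 17, 14, 21]),
    ([1, 0, 0, 0, 0, 0, -1], 10, [21, 18, 18, 18, 18, 18, 15]),
    ([0, 1, 0, -1, 0, 1, 0], 11, [19, 22, 19, 16, 19, 23, 19]),
    ([0, 0, -1, 1, 0, -1, 1], 11, [20, 20, 17, 23, 20, 16, 24]),
    ([-1, 0, 1, 0, 0, 0, -1], 11, [18, 21, 24, 21, 21, 21, 17]),
    ([0, -1, 0, 0, 0, 1, 0], 12, [22, 19, 22, 22, 22, 25, 22]),
    ([0, 1, 0, -1, 1, -1, 1], 12, [23, 25, 23, 20, 26, 19, 27])]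

/-- Orbit data, part. -/
def orbitE7_6p1 : List (List ℤ × ℕ × List ℕ) := [([0, 0, -1, 1, 0, 0, -1], 12, [24, 24, 21, 27, 24, 24, 20]),
    ([0, -1, 0, 0, 1, -1, 1], 13, [25, 23, 25, 25, 28, 22, 29]),
    ([0, 1, 0, 0, -1, 0, 1], 13, [26, 28, 26, 26, 23, 26, 30]),
    ([0, 1, 0, -1, 1, 0, -1], 13, [27, 29, 27, 24, 30, 27, 23]),
    ([0, -1, 0, 1, -1, 0, 1], 14, [28, 26, 28, 31, 25, 28, 32]),
    ([0, -1, 0, 0, 1, 0, -1], 14, [29, 27, 29, 29, 32, 29, 25]),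
    ([0, 1, 0, 0, -1, 1, -1], 14, [30, 32, 30, 30, 27, 33, 26]),
    ([0, 0, 1, -1, 0, 0, 1], 15, [31, 31, 34, 28, 31, 31, 35]),
    ([0, -1, 0, 1, -1, 1, -1], 15, [32, 30, 32, 35, 29, 36, 28]),
    ([0, 1, 0, 0, 0, -1, 0], 15, [33, 36, 33, 33, 33, 30, 33]),
    ([1, 0, -1, 0, 0, 0, 1], 16, [37, 34, 31, 34, 34, 34, 38]),
    ([0, 0, 1, -1, 0, 1, -1], 16, [35, 35, 38, 32, 35, 39, 31]),
    ([0, -1, 0, 1, 0, -1, 0], 16, [36, 33, 36, 39, 36, 32, 36]),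
    ([-1, 0, 0, 0, 0, 0, 1], 17, [34, 37, 37, 37, 37, 37, 40]),
    ([1, 0, -1, 0, 0, 1, -1], 17, [40, 38, 35, 38, 38, 41, 34]),
    ([0, 0, 1, -1, 1, -1, 0], 17, [39, 39, 41, 36, 42, 35, 39]),
    ([-1, 0, 0, 0, 0, 1, -1], 18, [38, 40, 40, 40, 40, 43, 37]),
    ([1, 0, -1, 0, 1, -1, 0], 18, [43, 41, 39, 41, 44, 38, 41]),
    ([0, 0, 1, 0, -1, 0, 0], 18, [42, 42, 44, 42, 39, 42, 42]),
    ([-1, 0, 0, 0, 1, -1, 0], 19, [41, 43, 43, 43, 45, 40, 43]),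
    ([1, 0, -1, 1, -1, 0, 0], 19, [45, 44, 42, 46, 41, 44, 44]),
    ([-1, 0, 0, 1, -1, 0, 0], 20, [44, 45, 45, 47, 43, 45, 45]),
    ([1, 1, 0, -1, 0, 0, 0], 20, [47, 48, 46, 44, 46, 46, 46]),
    ([-1, 1, 1, -1, 0, 0, 0], 21, [46, 49, 50, 45, 47, 47, 47])]

/-- Orbit data, part. -/
def orbitE7_6p2 : List (List ℤ × ℕ × List ℕ) := [([1, -1, 0, 0, 0, 0, 0], 21, [49, 46, 48, 48, 48, 48, 48]),
    ([-1, -1, 1, 0, 0, 0, 0], 22, [48, 47, 51, 49, 49, 49, 49]),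
    ([0, 1, -1, 0, 0, 0, 0], 22, [50, 51, 47, 50, 50, 50, 50]),
    ([0, -1, -1, 1, 0, 0, 0], 23, [51, 50, 49, 52, 51, 51, 51]),
    ([0, 0, 0, -1, 1, 0, 0], 24, [52, 52, 52, 51, 53, 52, 52]),
    ([0, 0, 0, 0, -1, 1, 0], 25, [53, 53, 53, 53, 52, 54, 53]),
    ([0, 0, 0, 0, 0, -1, 1], 26, [54, 54, 54, 54, 54, 53, 55]),
    ([0, 0, 0, 0, 0, 0, -1], 27, [55, 55, 55, 55, 55, 55, 54])]

/-- Orbit data. -/
def orbitE7_6 : OrbitStep where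
  node := 6
  orbit := orbitE7_6p0 ++ orbitE7_6p1 ++ orbitE7_6p2

/-- Orbit data, part. -/
def orbitE7_5p0 : List (List ℤ × ℕ × List ℕ) := [([0, 0, 0, 0, 0, 1, 0], 0, [0, 0, 0, 0, 0, 1]),
    ([0, 0, 0, 0, 1, -1, 1], 1, [1, 1, 1, 1, 2, 0]),
    ([0, 0, 0, 1, -1, 0, 1], 2, [2, 2, 2, 3, 1, 2]),
    ([0, 1, 1, -1, 0, 0, 1], 3, [3, 4, 5, 2, 3, 3]),
    ([0, -1, 1, 0, 0, 0, 1], 4, [4, 3, 6, 4, 4, 4]),
    ([1, 1, -1, 0, 0, 0, 1], 4, [7, 6, 3, 5, 5, 5]),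
    ([1, -1, -1, 1, 0, 0, 1], 5, [8, 5, 4, 9, 6, 6]),
    ([-1, 1, 0, 0, 0, 0, 1], 5, [5, 8, 7, 7, 7, 7]),
    ([-1, -1, 0, 1, 0, 0, 1], 6, [6, 7, 8, 10, 8, 8]),
    ([1, 0, 0, -1, 1, 0, 1], 6, [10, 9, 9, 6, 11, 9]),
    ([-1, 0, 1, -1, 1, 0, 1], 7, [9, 10, 12, 8, 13, 10]),
    ([1, 0, 0, 0, -1, 1, 1], 7, [13, 11, 11, 11, 9, 14]),
    ([0, 0, -1, 0, 1, 0, 1], 8, [12, 12, 10, 12, 15, 12]),
    ([-1, 0, 1, 0, -1, 1, 1], 8, [11, 13, 15, 13, 10, 16]),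
    ([1, 0, 0, 0, 0, -1, 2], 8, [16, 14, 14, 14, 14, 11]),
    ([0, 0, -1, 1, -1, 1, 1], 9, [15, 15, 13, 17, 12, 18]),
    ([-1, 0, 1, 0, 0, -1, 2], 9, [14, 16, 18, 16, 16, 13]),
    ([0, 1, 0, -1, 0, 1, 1], 10, [17, 19, 17, 15, 17, 20]),
    ([0, 0, -1, 1, 0, -1, 2], 10, [18, 18, 16, 20, 18, 15]),
    ([0, -1, 0, 0, 0, 1, 1], 11, [19, 17, 19, 19, 19, 21]),
    ([0, 1, 0, -1, 1, -1, 2], 11, [20, 21, 20, 18, 22, 17]),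
    ([0, -1, 0, 0, 1, -1, 2], 12, [21, 20, 21, 21, 23, 19]),
    ([0, 1, 0, 0, -1, 0, 2], 12, [22, 23, 22, 22, 20, 22]),
    ([0, -1, 0, 1, -1, 0, 2], 13, [23, 22, 23, 24, 21, 23])]

/-- Orbit data, part. -/
def orbitE7_5p1 : List (List ℤ × ℕ × List ℕ) := [([0, 0, 1, -1, 0, 0, 2], 14, [24, 24, 25, 23, 24, 24]),
    ([1, 0, -1, 0, 0, 0, 2], 15, [26, 25, 24, 25, 25, 25]),
    ([-1, 0, 0, 0, 0, 0, 2], 16, [25, 26, 26, 26, 26, 26])]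

/-- Orbit data. -/
def orbitE7_5 : OrbitStep where
  node := 5
  orbit := orbitE7_5p0 ++ orbitE7_5p1

/-- Orbit data, part. -/
def orbitE7_4p0 : List (List ℤ × ℕ × List ℕ) := [([0, 0, 0, 0, 1, 0, 0], 0, [0, 0, 0, 0, 1]),
    ([0, 0, 0, 1, -1, 1, 0], 1, [1, 1, 1, 2, 0]),
    ([0, 1, 1, -1, 0, 1, 0], 2, [2, 3, 4, 1, 2]),
    ([0, -1, 1, 0, 0, 1, 0], 3, [3, 2, 5, 3, 3]),
    ([1, 1, -1, 0, 0, 1, 0], 3, [6, 5, 2, 4, 4]),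
    ([1, -1, -1, 1, 0, 1, 0], 4, [7, 4, 3, 8, 5]),
    ([-1, 1, 0, 0, 0, 1, 0], 4, [4, 7, 6, 6, 6]),
    ([-1, -1, 0, 1, 0, 1, 0], 5, [5, 6, 7, 9, 7]),
    ([1, 0, 0, -1, 1, 1, 0], 5, [9, 8, 8, 5, 10]),
    ([-1, 0, 1, -1, 1, 1, 0], 6, [8, 9, 11, 7, 12]),
    ([1, 0, 0, 0, -1, 2, 0], 6, [12, 10, 10, 10, 8]),
    ([0, 0, -1, 0, 1, 1, 0], 7, [11, 11, 9, 11, 13]),
    ([-1, 0, 1, 0, -1, 2, 0], 7, [10, 12, 13, 12, 9]),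
    ([0, 0, -1, 1, -1, 2, 0], 8, [13, 13, 12, 14, 11]),
    ([0, 1, 0, -1, 0, 2, 0], 9, [14, 15, 14, 13, 14]),
    ([0, -1, 0, 0, 0, 2, 0], 10, [15, 14, 15, 15, 15])]

/-- Orbit data. -/
def orbitE7_4 : OrbitStep where
  node := 4
  orbit := orbitE7_4p0

/-- Orbit data, part. -/
def orbitE7_3p0 : List (List ℤ × ℕ × List ℕ) := [([0, 0, 0, 1, 0, 0, 0], 0, [0, 0, 0, 1]),
    ([0, 1, 1, -1, 1, 0, 0], 1, [1, 2, 3, 0]),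
    ([0, -1, 1, 0, 1, 0, 0], 2, [2, 1, 4, 2]),
    ([1, 1, -1, 0, 1, 0, 0], 2, [5, 4, 1, 3]),
    ([1, -1, -1, 1, 1, 0, 0], 3, [6, 3, 2, 7]),
    ([-1, 1, 0, 0, 1, 0, 0], 3, [3, 6, 5, 5]),
    ([-1, -1, 0, 1, 1, 0, 0], 4, [4, 5, 6, 8]),
    ([1, 0, 0, -1, 2, 0, 0], 4, [8, 7, 7, 4]),
    ([-1, 0, 1, -1, 2, 0, 0], 5, [7, 8, 9, 6]),
    ([0, 0, -1, 0, 2, 0, 0], 6, [9, 9, 8, 9])]

/-- Orbit data. -/
def orbitE7_3 : OrbitStep where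
  node := 3
  orbit := orbitE7_3p0

/-- Orbit data, part. -/
def orbitE7_2p0 : List (List ℤ × ℕ × List ℕ) := [([0, 0, 1, 0, 0, 0, 0], 0, [0, 0, 1]),
    ([1, 0, -1, 1, 0, 0, 0], 1, [2, 1, 0]),
    ([-1, 0, 0, 1, 0, 0, 0], 2, [1, 2, 2])]

/-- Orbit data. -/
def orbitE7_2 : OrbitStep where
  node := 2
  orbit := orbitE7_2p0

/-- Orbit data, part. -/
def orbitE7_1p0 : List (List ℤ × ℕ × List ℕ) := [([0, 1, 0, 0, 0, 0, 0], 0, [0, 1]),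
    ([0, -1, 0, 1, 0, 0, 0], 1, [1, 0])]

/-- Orbit data. -/
def orbitE7_1 : OrbitStep where
  node := 1
  orbit := orbitE7_1p0

/-- Orbit data, part. -/
def orbitE7_0p0 : List (List ℤ × ℕ × List ℕ) := [([1, 0, 0, 0, 0, 0, 0], 0, [1]),
    ([-1, 0, 1, 0, 0, 0, 0], 1, [0])]

/-- Orbit data. -/
def orbitE7_0 : OrbitStep where
  node := 0
  orbit := orbitE7_0p0

/-- The orbit chain of type E7. -/
def orbitChainE7 : List OrbitStep := [orbitE7_6, orbitE7_5, orbitE7_4, orbitE7_3, orbitE7_2, orbitE7_1, orbitE7_0]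

theorem okCorootE7 : Facts.okCoroot chevE7 = true := by decide +kernel

/-- Reflection columns. -/
def colsE7 : List (List ℤ) := [[2, 0, -1, 0, 0, 0, 0], [0, 2, 0, -1, 0, 0, 0], [-1, 0, 2, -1, 0, 0, 0], [0, -1, -1, 2, -1, 0, 0], [0, 0, 0, -1, 2, -1, 0], [0, 0, 0, 0, -1, 2, -1], [0, 0, 0, 0, 0, -1, 2]]

theorem okColsE7 : okCols chevE7 colsE7 = true := by decide +kernel

theorem okOrbitsE7 : okChainW chevE7 colsE7 (List.range chevE7.rank) orbitChainE7 = true := by decide +kernel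

theorem polyE7 : polyEqb (chainPoly orbitChainE7) (polyProd (([2, 6, 8, 10, 12, 14, 18] : List ℕ).map polyGeom)) = true := by decide +kernel

/-- The Coxeter matrix entries. -/
def coxFunE7 (i j : ℕ) : ℕ := if h : i < 7 ∧ j < 7 then (CoxeterMatrix.E₇ : CoxeterMatrix (Fin 7)).M ⟨i, h.1⟩ ⟨j, h.2⟩ else 1

theorem okOrdersE7 : okOrders chevE7 coxFunE7 = true := by decide +kernel

theorem coxeterE7 :
    (∀ i j, (factsE7.refSys.s i * factsE7.refSys.s j) ^ (CoxeterMatrix.E₇ : CoxeterMatrix (Fin chevE7.rank)) i j = 1) ∧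
      ∀ i j (r : ℕ), (factsE7.refSys.s i * factsE7.refSys.s j) ^ r = 1 → (CoxeterMatrix.E₇ : CoxeterMatrix (Fin chevE7.rank)) i j ∣ r :=
  factsE7.orders_of_check _ coxFunE7 (fun i j => by
    unfold coxFunE7
    rw [dif_pos (⟨i.isLt, j.isLt⟩ : i.val < 7 ∧ j.val < 7)]
    exact rfl) okOrdersE7

/-- The Weyl group of type E7 is the Coxeter group. -/
noncomputable def weylEquivE7 : (CoxeterMatrix.E₇ : CoxeterMatrix (Fin chevE7.rank)).Group ≃* factsE7.weyl :=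
  factsE7.refSys.coxeterEquiv _ coxeterE7.1 coxeterE7.2

theorem lenSumE7 (q : ℕ) : factsE7.lenSum (List.range chevE7.rank) q =
    ((([2, 6, 8, 10, 12, 14, 18] : List ℕ).map fun d => ∑ k ∈ Finset.range d, q ^ k)).prod := by
  rw [factsE7.lenSum_chain okCorootE7 okColsE7 orbitChainE7 _ okOrbitsE7 (fun j hj => List.mem_range.1 hj) q, polyEqb_sound q _ _ polyE7, polyEval_prod, List.map_map]
  simp only [Function.comp_def, polyEval_geom]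

end Cfsg.Agent.Lie
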