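import Cfsg.Agent.Lib.Lie.WeylCount
import Cfsg.Agent.Lib.Lie.FactsE8

/-! The Weyl group of type E8: presentation and length generating function. -/

set_option autoImplicit false
set_option maxRecDepth 100000

namespace Cfsg.Agent.Lie

open Cfsg.Lie

/-- Orbit data, part. -/
def orbitE8_7p0 : List (List ℤ × ℕ × List ℕ) := [([0, 0, 0, 0, 0, 0, 0, 1], 0, [0, 0, 0, 0, 0, 0, 0, 1]),
    ([0, 0, 0, 0, 0, 0, 1, -1], 1, [1, 1, 1, 1, 1, 1, 2, 0]),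
    ([0, 0, 0, 0, 0, 1, -1, 0], 2, [2, 2, 2, 2, 2, 3, 1, 2]),
    ([0, 0, 0, 0, 1, -1, 0, 0], 3, [3, 3, 3, 3, 4, 2, 3, 3]),
    ([0, 0, 0, 1, -1, 0, 0, 0], 4, [4, 4, 4, 5, 3, 4, 4, 4]),
    ([0, 1, 1, -1, 0, 0, 0, 0], 5, [5, 6, 7, 4, 5, 5, 5, 5]),
    ([0, -1, 1, 0, 0, 0, 0, 0], 6, [6, 5, 8, 6, 6, 6, 6, 6]),
    ([1, 1, -1, 0, 0, 0, 0, 0], 6, [9, 8, 5, 7, 7, 7, 7, 7]),
    ([1, -1, -1, 1, 0, 0, 0, 0], 7, [10, 7, 6, 11, 8, 8, 8, 8]),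
    ([-1, 1, 0, 0, 0, 0, 0, 0], 7, [7, 10, 9, 9, 9, 9, 9, 9]),
    ([-1, -1, 0, 1, 0, 0, 0, 0], 8, [8, 9, 10, 12, 10, 10, 10, 10]),
    ([1, 0, 0, -1, 1, 0, 0, 0], 8, [12, 11, 11, 8, 13, 11, 11, 11]),
    ([-1, 0, 1, -1, 1, 0, 0, 0], 9, [11, 12, 14, 10, 15, 12, 12, 12]),
    ([1, 0, 0, 0, -1, 1, 0, 0], 9, [15, 13, 13, 13, 11, 16, 13, 13]),
    ([0, 0, -1, 0, 1, 0, 0, 0], 10, [14, 14, 12, 14, 17, 14, 14, 14]),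
    ([-1, 0, 1, 0, -1, 1, 0, 0], 10, [13, 15, 17, 15, 12, 18, 15, 15]),
    ([1, 0, 0, 0, 0, -1, 1, 0], 10, [18, 16, 16, 16, 16, 13, 19, 16]),
    ([0, 0, -1, 1, -1, 1, 0, 0], 11, [17, 17, 15, 20, 14, 21, 17, 17]),
    ([-1, 0, 1, 0, 0, -1, 1, 0], 11, [16, 18, 21, 18, 18, 15, 22, 18]),
    ([1, 0, 0, 0, 0, 0, -1, 1], 11, [22, 19, 19, 19, 19, 19, 16, 23]),
    ([0, 1, 0, -1, 0, 1, 0, 0], 12, [20, 24, 20, 17, 20, 25, 20, 20]),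
    ([0, 0, -1, 1, 0, -1, 1, 0], 12, [21, 21, 18, 25, 21, 17, 26, 21]),
    ([-1, 0, 1, 0, 0, 0, -1, 1], 12, [19, 22, 26, 22, 22, 22, 18, 27]),
    ([1, 0, 0, 0, 0, 0, 0, -1], 12, [27, 23, 23, 23, 23, 23, 23, 19])]

/-- Orbit data, part. -/
def orbitE8_7p1 : List (List ℤ × ℕ × List ℕ) := [([0, -1, 0, 0, 0, 1, 0, 0], 13, [24, 20, 24, 24, 24, 28, 24, 24]),
    ([0, 1, 0, -1, 1, -1, 1, 0], 13, [25, 28, 25, 21, 29, 20, 30, 25]),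
    ([0, 0, -1, 1, 0, 0, -1, 1], 13, [26, 26, 22, 30, 26, 26, 21, 31]),
    ([-1, 0, 1, 0, 0, 0, 0, -1], 13, [23, 27, 31, 27, 27, 27, 27, 22]),
    ([0, -1, 0, 0, 1, -1, 1, 0], 14, [28, 25, 28, 28, 32, 24, 33, 28]),
    ([0, 1, 0, 0, -1, 0, 1, 0], 14, [29, 32, 29, 29, 25, 29, 34, 29]),
    ([0, 1, 0, -1, 1, 0, -1, 1], 14, [30, 33, 30, 26, 34, 30, 25, 35]),
    ([0, 0, -1, 1, 0, 0, 0, -1], 14, [31, 31, 27, 35, 31, 31, 31, 26]),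
    ([0, -1, 0, 1, -1, 0, 1, 0], 15, [32, 29, 32, 36, 28, 32, 37, 32]),
    ([0, -1, 0, 0, 1, 0, -1, 1], 15, [33, 30, 33, 33, 37, 33, 28, 38]),
    ([0, 1, 0, 0, -1, 1, -1, 1], 15, [34, 37, 34, 34, 30, 39, 29, 40]),
    ([0, 1, 0, -1, 1, 0, 0, -1], 15, [35, 38, 35, 31, 40, 35, 35, 30]),
    ([0, 0, 1, -1, 0, 0, 1, 0], 16, [36, 36, 41, 32, 36, 36, 42, 36]),
    ([0, -1, 0, 1, -1, 1, -1, 1], 16, [37, 34, 37, 42, 33, 43, 32, 44]),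
    ([0, -1, 0, 0, 1, 0, 0, -1], 16, [38, 35, 38, 38, 44, 38, 38, 33]),
    ([0, 1, 0, 0, 0, -1, 0, 1], 16, [39, 43, 39, 39, 39, 34, 39, 45]),
    ([0, 1, 0, 0, -1, 1, 0, -1], 16, [40, 44, 40, 40, 35, 45, 40, 34]),
    ([1, 0, -1, 0, 0, 0, 1, 0], 17, [46, 41, 36, 41, 41, 41, 47, 41]),
    ([0, 0, 1, -1, 0, 1, -1, 1], 17, [42, 42, 47, 37, 42, 48, 36, 49]),
    ([0, -1, 0, 1, 0, -1, 0, 1], 17, [43, 39, 43, 48, 43, 37, 43, 50]),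
    ([0, -1, 0, 1, -1, 1, 0, -1], 17, [44, 40, 44, 49, 38, 50, 44, 37]),
    ([0, 1, 0, 0, 0, -1, 1, -1], 17, [45, 50, 45, 45, 45, 40, 51, 39]),
    ([-1, 0, 0, 0, 0, 0, 1, 0], 18, [41, 46, 46, 46, 46, 46, 52, 46]),
    ([1, 0, -1, 0, 0, 1, -1, 1], 18, [52, 47, 42, 47, 47, 53, 41, 54])]

/-- Orbit data, part. -/
def orbitE8_7p2 : List (List ℤ × ℕ × List ℕ) := [([0, 0, 1, -1, 1, -1, 0, 1], 18, [48, 48, 53, 43, 55, 42, 48, 56]),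
    ([0, 0, 1, -1, 0, 1, 0, -1], 18, [49, 49, 54, 44, 49, 56, 49, 42]),
    ([0, -1, 0, 1, 0, -1, 1, -1], 18, [50, 45, 50, 56, 50, 44, 57, 43]),
    ([0, 1, 0, 0, 0, 0, -1, 0], 18, [51, 57, 51, 51, 51, 51, 45, 51]),
    ([-1, 0, 0, 0, 0, 1, -1, 1], 19, [47, 52, 52, 52, 52, 58, 46, 59]),
    ([1, 0, -1, 0, 1, -1, 0, 1], 19, [58, 53, 48, 53, 60, 47, 53, 61]),
    ([1, 0, -1, 0, 0, 1, 0, -1], 19, [59, 54, 49, 54, 54, 61, 54, 47]),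
    ([0, 0, 1, 0, -1, 0, 0, 1], 19, [55, 55, 60, 55, 48, 55, 55, 62]),
    ([0, 0, 1, -1, 1, -1, 1, -1], 19, [56, 56, 61, 50, 62, 49, 63, 48]),
    ([0, -1, 0, 1, 0, 0, -1, 0], 19, [57, 51, 57, 63, 57, 57, 50, 57]),
    ([-1, 0, 0, 0, 1, -1, 0, 1], 20, [53, 58, 58, 58, 64, 52, 58, 65]),
    ([-1, 0, 0, 0, 0, 1, 0, -1], 20, [54, 59, 59, 59, 59, 65, 59, 52]),
    ([1, 0, -1, 1, -1, 0, 0, 1], 20, [64, 60, 55, 66, 53, 60, 60, 67]),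
    ([1, 0, -1, 0, 1, -1, 1, -1], 20, [65, 61, 56, 61, 67, 54, 68, 53]),
    ([0, 0, 1, 0, -1, 0, 1, -1], 20, [62, 62, 67, 62, 56, 62, 69, 55]),
    ([0, 0, 1, -1, 1, 0, -1, 0], 20, [63, 63, 68, 57, 69, 63, 56, 63]),
    ([-1, 0, 0, 1, -1, 0, 0, 1], 21, [60, 64, 64, 70, 58, 64, 64, 71]),
    ([-1, 0, 0, 0, 1, -1, 1, -1], 21, [61, 65, 65, 65, 71, 59, 72, 58]),
    ([1, 1, 0, -1, 0, 0, 0, 1], 21, [70, 73, 66, 60, 66, 66, 66, 74]),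
    ([1, 0, -1, 1, -1, 0, 1, -1], 21, [71, 67, 62, 74, 61, 67, 75, 60]),
    ([1, 0, -1, 0, 1, 0, -1, 0], 21, [72, 68, 63, 68, 75, 68, 61, 68]),
    ([0, 0, 1, 0, -1, 1, -1, 0], 21, [69, 69, 75, 69, 63, 76, 62, 69]),
    ([-1, 1, 1, -1, 0, 0, 0, 1], 22, [66, 77, 78, 64, 70, 70, 70, 79]),
    ([-1, 0, 0, 1, -1, 0, 1, -1], 22, [67, 71, 71, 79, 65, 71, 80, 64])]

/-- Orbit data, part. -/
def orbitE8_7p3 : List (List ℤ × ℕ × List ℕ) := [([-1, 0, 0, 0, 1, 0, -1, 0], 22, [68, 72, 72, 72, 80, 72, 65, 72]),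
    ([1, -1, 0, 0, 0, 0, 0, 1], 22, [77, 66, 73, 73, 73, 73, 73, 81]),
    ([1, 1, 0, -1, 0, 0, 1, -1], 22, [79, 81, 74, 67, 74, 74, 82, 66]),
    ([1, 0, -1, 1, -1, 1, -1, 0], 22, [80, 75, 69, 82, 68, 83, 67, 75]),
    ([0, 0, 1, 0, 0, -1, 0, 0], 22, [76, 76, 83, 76, 76, 69, 76, 76]),
    ([-1, -1, 1, 0, 0, 0, 0, 1], 23, [73, 70, 84, 77, 77, 77, 77, 85]),
    ([0, 1, -1, 0, 0, 0, 0, 1], 23, [78, 84, 70, 78, 78, 78, 78, 86]),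
    ([-1, 1, 1, -1, 0, 0, 1, -1], 23, [74, 85, 86, 71, 79, 79, 87, 70]),
    ([-1, 0, 0, 1, -1, 1, -1, 0], 23, [75, 80, 80, 87, 72, 88, 71, 80]),
    ([1, -1, 0, 0, 0, 0, 1, -1], 23, [85, 74, 81, 81, 81, 81, 89, 73]),
    ([1, 1, 0, -1, 0, 1, -1, 0], 23, [87, 89, 82, 75, 82, 90, 74, 82]),
    ([1, 0, -1, 1, 0, -1, 0, 0], 23, [88, 83, 76, 90, 83, 75, 83, 83]),
    ([0, -1, -1, 1, 0, 0, 0, 1], 24, [84, 78, 77, 91, 84, 84, 84, 92]),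
    ([-1, -1, 1, 0, 0, 0, 1, -1], 24, [81, 79, 92, 85, 85, 85, 93, 77]),
    ([0, 1, -1, 0, 0, 0, 1, -1], 24, [86, 92, 79, 86, 86, 86, 94, 78]),
    ([-1, 1, 1, -1, 0, 1, -1, 0], 24, [82, 93, 94, 80, 87, 95, 79, 87]),
    ([-1, 0, 0, 1, 0, -1, 0, 0], 24, [83, 88, 88, 95, 88, 80, 88, 88]),
    ([1, -1, 0, 0, 0, 1, -1, 0], 24, [93, 82, 89, 89, 89, 96, 81, 89]),
    ([1, 1, 0, -1, 1, -1, 0, 0], 24, [95, 96, 90, 83, 97, 82, 90, 90]),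
    ([0, 0, 0, -1, 1, 0, 0, 1], 25, [91, 91, 91, 84, 98, 91, 91, 99]),
    ([0, -1, -1, 1, 0, 0, 1, -1], 25, [92, 86, 85, 99, 92, 92, 100, 84]),
    ([-1, -1, 1, 0, 0, 1, -1, 0], 25, [89, 87, 100, 93, 93, 101, 85, 93]),
    ([0, 1, -1, 0, 0, 1, -1, 0], 25, [94, 100, 87, 94, 94, 102, 86, 94]),
    ([-1, 1, 1, -1, 1, -1, 0, 0], 25, [90, 101, 102, 88, 103, 87, 95, 95])]

/-- Orbit data, part. -/
def orbitE8_7p4 : List (List ℤ × ℕ × List ℕ) := [([1, -1, 0, 0, 1, -1, 0, 0], 25, [101, 90, 96, 96, 104, 89, 96, 96]),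
    ([1, 1, 0, 0, -1, 0, 0, 0], 25, [103, 104, 97, 97, 90, 97, 97, 97]),
    ([0, 0, 0, 0, -1, 1, 0, 1], 26, [98, 98, 98, 98, 91, 105, 98, 106]),
    ([0, 0, 0, -1, 1, 0, 1, -1], 26, [99, 99, 99, 92, 106, 99, 107, 91]),
    ([0, -1, -1, 1, 0, 1, -1, 0], 26, [100, 94, 93, 107, 100, 108, 92, 100]),
    ([-1, -1, 1, 0, 1, -1, 0, 0], 26, [96, 95, 108, 101, 109, 93, 101, 101]),
    ([0, 1, -1, 0, 1, -1, 0, 0], 26, [102, 108, 95, 102, 110, 94, 102, 102]),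
    ([-1, 1, 1, 0, -1, 0, 0, 0], 26, [97, 109, 110, 103, 95, 103, 103, 103]),
    ([1, -1, 0, 1, -1, 0, 0, 0], 26, [109, 97, 104, 111, 96, 104, 104, 104]),
    ([0, 0, 0, 0, 0, -1, 1, 1], 27, [105, 105, 105, 105, 105, 98, 112, 113]),
    ([0, 0, 0, 0, -1, 1, 1, -1], 27, [106, 106, 106, 106, 99, 113, 114, 98]),
    ([0, 0, 0, -1, 1, 1, -1, 0], 27, [107, 107, 107, 100, 114, 115, 99, 107]),
    ([0, -1, -1, 1, 1, -1, 0, 0], 27, [108, 102, 101, 115, 116, 100, 108, 108]),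
    ([-1, -1, 1, 1, -1, 0, 0, 0], 27, [104, 103, 116, 117, 101, 109, 109, 109]),
    ([0, 1, -1, 1, -1, 0, 0, 0], 27, [110, 116, 103, 118, 102, 110, 110, 110]),
    ([1, 0, 1, -1, 0, 0, 0, 0], 27, [117, 111, 119, 104, 111, 111, 111, 111]),
    ([0, 0, 0, 0, 0, 0, -1, 2], 28, [112, 112, 112, 112, 112, 112, 105, 120]),
    ([0, 0, 0, 0, 0, -1, 2, -1], 28, [113, 113, 113, 113, 113, 106, 121, 105]),
    ([0, 0, 0, 0, -1, 2, -1, 0], 28, [114, 114, 114, 114, 107, 122, 106, 114]),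
    ([0, 0, 0, -1, 2, -1, 0, 0], 28, [115, 115, 115, 108, 123, 107, 115, 115]),
    ([0, -1, -1, 2, -1, 0, 0, 0], 28, [116, 110, 109, 124, 108, 116, 116, 116]),
    ([-1, 0, 2, -1, 0, 0, 0, 0], 28, [111, 117, 125, 109, 117, 117, 117, 117]),
    ([0, 2, 0, -1, 0, 0, 0, 0], 28, [118, 126, 118, 110, 118, 118, 118, 118]),
    ([2, 0, -1, 0, 0, 0, 0, 0], 28, [127, 119, 111, 119, 119, 119, 119, 119])]

/-- Orbit data, part. -/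
def orbitE8_7p5 : List (List ℤ × ℕ × List ℕ) := [([0, 0, 0, 0, 0, 0, 1, -2], 29, [120, 120, 120, 120, 120, 120, 128, 112]),
    ([0, 0, 0, 0, 0, 1, -2, 1], 29, [121, 121, 121, 121, 121, 129, 113, 128]),
    ([0, 0, 0, 0, 1, -2, 1, 0], 29, [122, 122, 122, 122, 130, 114, 129, 122]),
    ([0, 0, 0, 1, -2, 1, 0, 0], 29, [123, 123, 123, 131, 115, 130, 123, 123]),
    ([0, 1, 1, -2, 1, 0, 0, 0], 29, [124, 132, 133, 116, 131, 124, 124, 124]),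
    ([1, 0, -2, 1, 0, 0, 0, 0], 29, [134, 125, 117, 133, 125, 125, 125, 125]),
    ([0, -2, 0, 1, 0, 0, 0, 0], 29, [126, 118, 126, 132, 126, 126, 126, 126]),
    ([-2, 0, 1, 0, 0, 0, 0, 0], 29, [119, 127, 134, 127, 127, 127, 127, 127]),
    ([0, 0, 0, 0, 0, 1, -1, -1], 30, [128, 128, 128, 128, 128, 135, 120, 121]),
    ([0, 0, 0, 0, 1, -1, -1, 1], 30, [129, 129, 129, 129, 136, 121, 122, 135]),
    ([0, 0, 0, 1, -1, -1, 1, 0], 30, [130, 130, 130, 137, 122, 123, 136, 130]),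
    ([0, 1, 1, -1, -1, 1, 0, 0], 30, [131, 138, 139, 123, 124, 137, 131, 131]),
    ([0, -1, 1, -1, 1, 0, 0, 0], 30, [132, 124, 140, 126, 138, 132, 132, 132]),
    ([1, 1, -1, -1, 1, 0, 0, 0], 30, [141, 140, 124, 125, 139, 133, 133, 133]),
    ([-1, 0, -1, 1, 0, 0, 0, 0], 30, [125, 134, 127, 141, 134, 134, 134, 134]),
    ([0, 0, 0, 0, 1, -1, 0, -1], 31, [135, 135, 135, 135, 142, 128, 135, 129]),
    ([0, 0, 0, 1, -1, 0, -1, 1], 31, [136, 136, 136, 143, 129, 136, 130, 142]),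
    ([0, 1, 1, -1, 0, -1, 1, 0], 31, [137, 144, 145, 130, 137, 131, 143, 137]),
    ([0, -1, 1, 0, -1, 1, 0, 0], 31, [138, 131, 146, 138, 132, 144, 138, 138]),
    ([1, 1, -1, 0, -1, 1, 0, 0], 31, [147, 146, 131, 139, 133, 145, 139, 139]),
    ([1, -1, -1, 0, 1, 0, 0, 0], 31, [148, 133, 132, 140, 146, 140, 140, 140]),
    ([-1, 1, 0, -1, 1, 0, 0, 0], 31, [133, 148, 141, 134, 147, 141, 141, 141]),
    ([0, 0, 0, 1, -1, 0, 0, -1], 32, [142, 142, 142, 149, 135, 142, 142, 136]),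
    ([0, 1, 1, -1, 0, 0, -1, 1], 32, [143, 150, 151, 136, 143, 143, 137, 149])]

/-- Orbit data, part. -/
def orbitE8_7p6 : List (List ℤ × ℕ × List ℕ) := [([0, -1, 1, 0, 0, -1, 1, 0], 32, [144, 137, 152, 144, 144, 138, 150, 144]),
    ([1, 1, -1, 0, 0, -1, 1, 0], 32, [153, 152, 137, 145, 145, 139, 151, 145]),
    ([1, -1, -1, 1, -1, 1, 0, 0], 32, [154, 139, 138, 155, 140, 152, 146, 146]),
    ([-1, 1, 0, 0, -1, 1, 0, 0], 32, [139, 154, 147, 147, 141, 153, 147, 147]),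
    ([-1, -1, 0, 0, 1, 0, 0, 0], 32, [140, 141, 148, 148, 154, 148, 148, 148]),
    ([0, 1, 1, -1, 0, 0, 0, -1], 33, [149, 156, 157, 142, 149, 149, 149, 143]),
    ([0, -1, 1, 0, 0, 0, -1, 1], 33, [150, 143, 158, 150, 150, 150, 144, 156]),
    ([1, 1, -1, 0, 0, 0, -1, 1], 33, [159, 158, 143, 151, 151, 151, 145, 157]),
    ([1, -1, -1, 1, 0, -1, 1, 0], 33, [160, 145, 144, 161, 152, 146, 158, 152]),
    ([-1, 1, 0, 0, 0, -1, 1, 0], 33, [145, 160, 153, 153, 153, 147, 159, 153]),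
    ([-1, -1, 0, 1, -1, 1, 0, 0], 33, [146, 147, 154, 162, 148, 160, 154, 154]),
    ([1, 0, 0, -1, 0, 1, 0, 0], 33, [162, 155, 155, 146, 155, 161, 155, 155]),
    ([0, -1, 1, 0, 0, 0, 0, -1], 34, [156, 149, 163, 156, 156, 156, 156, 150]),
    ([1, 1, -1, 0, 0, 0, 0, -1], 34, [164, 163, 149, 157, 157, 157, 157, 151]),
    ([1, -1, -1, 1, 0, 0, -1, 1], 34, [165, 151, 150, 166, 158, 158, 152, 163]),
    ([-1, 1, 0, 0, 0, 0, -1, 1], 34, [151, 165, 159, 159, 159, 159, 153, 164]),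
    ([-1, -1, 0, 1, 0, -1, 1, 0], 34, [152, 153, 160, 167, 160, 154, 165, 160]),
    ([1, 0, 0, -1, 1, -1, 1, 0], 34, [167, 161, 161, 152, 168, 155, 166, 161]),
    ([-1, 0, 1, -1, 0, 1, 0, 0], 34, [155, 162, 169, 154, 162, 167, 162, 162]),
    ([1, -1, -1, 1, 0, 0, 0, -1], 35, [170, 157, 156, 171, 163, 163, 163, 158]),
    ([-1, 1, 0, 0, 0, 0, 0, -1], 35, [157, 170, 164, 164, 164, 164, 164, 159]),
    ([-1, -1, 0, 1, 0, 0, -1, 1], 35, [158, 159, 165, 172, 165, 165, 160, 170]),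
    ([1, 0, 0, -1, 1, 0, -1, 1], 35, [172, 166, 166, 158, 173, 166, 161, 171]),
    ([-1, 0, 1, -1, 1, -1, 1, 0], 35, [161, 167, 174, 160, 175, 162, 172, 167])]

/-- Orbit data, part. -/
def orbitE8_7p7 : List (List ℤ × ℕ × List ℕ) := [([1, 0, 0, 0, -1, 0, 1, 0], 35, [175, 168, 168, 168, 161, 168, 173, 168]),
    ([0, 0, -1, 0, 0, 1, 0, 0], 35, [169, 169, 162, 169, 169, 174, 169, 169]),
    ([-1, -1, 0, 1, 0, 0, 0, -1], 36, [163, 164, 170, 176, 170, 170, 170, 165]),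
    ([1, 0, 0, -1, 1, 0, 0, -1], 36, [176, 171, 171, 163, 177, 171, 171, 166]),
    ([-1, 0, 1, -1, 1, 0, -1, 1], 36, [166, 172, 178, 165, 179, 172, 167, 176]),
    ([1, 0, 0, 0, -1, 1, -1, 1], 36, [179, 173, 173, 173, 166, 180, 168, 177]),
    ([0, 0, -1, 0, 1, -1, 1, 0], 36, [174, 174, 167, 174, 181, 169, 178, 174]),
    ([-1, 0, 1, 0, -1, 0, 1, 0], 36, [168, 175, 181, 175, 167, 175, 179, 175]),
    ([-1, 0, 1, -1, 1, 0, 0, -1], 37, [171, 176, 182, 170, 183, 176, 176, 172]),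
    ([1, 0, 0, 0, -1, 1, 0, -1], 37, [183, 177, 177, 177, 171, 184, 177, 173]),
    ([0, 0, -1, 0, 1, 0, -1, 1], 37, [178, 178, 172, 178, 185, 178, 174, 182]),
    ([-1, 0, 1, 0, -1, 1, -1, 1], 37, [173, 179, 185, 179, 172, 186, 175, 183]),
    ([1, 0, 0, 0, 0, -1, 0, 1], 37, [186, 180, 180, 180, 180, 173, 180, 184]),
    ([0, 0, -1, 1, -1, 0, 1, 0], 37, [181, 181, 175, 187, 174, 181, 185, 181]),
    ([0, 0, -1, 0, 1, 0, 0, -1], 38, [182, 182, 176, 182, 188, 182, 182, 178]),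
    ([-1, 0, 1, 0, -1, 1, 0, -1], 38, [177, 183, 188, 183, 176, 189, 183, 179]),
    ([1, 0, 0, 0, 0, -1, 1, -1], 38, [189, 184, 184, 184, 184, 177, 190, 180]),
    ([0, 0, -1, 1, -1, 1, -1, 1], 38, [185, 185, 179, 191, 178, 192, 181, 188]),
    ([-1, 0, 1, 0, 0, -1, 0, 1], 38, [180, 186, 192, 186, 186, 179, 186, 189]),
    ([0, 1, 0, -1, 0, 0, 1, 0], 38, [187, 193, 187, 181, 187, 187, 191, 187]),
    ([0, 0, -1, 1, -1, 1, 0, -1], 39, [188, 188, 183, 194, 182, 195, 188, 185]),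
    ([-1, 0, 1, 0, 0, -1, 1, -1], 39, [184, 189, 195, 189, 189, 183, 196, 186]),
    ([1, 0, 0, 0, 0, 0, -1, 0], 39, [196, 190, 190, 190, 190, 190, 184, 190]),
    ([0, 1, 0, -1, 0, 1, -1, 1], 39, [191, 197, 191, 185, 191, 198, 187, 194])]

/-- Orbit data, part. -/
def orbitE8_7p8 : List (List ℤ × ℕ × List ℕ) := [([0, 0, -1, 1, 0, -1, 0, 1], 39, [192, 192, 186, 198, 192, 185, 192, 195]),
    ([0, -1, 0, 0, 0, 0, 1, 0], 39, [193, 187, 193, 193, 193, 193, 197, 193]),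
    ([0, 1, 0, -1, 0, 1, 0, -1], 40, [194, 199, 194, 188, 194, 200, 194, 191]),
    ([0, 0, -1, 1, 0, -1, 1, -1], 40, [195, 195, 189, 200, 195, 188, 201, 192]),
    ([-1, 0, 1, 0, 0, 0, -1, 0], 40, [190, 196, 201, 196, 196, 196, 189, 196]),
    ([0, -1, 0, 0, 0, 1, -1, 1], 40, [197, 191, 197, 197, 197, 202, 193, 199]),
    ([0, 1, 0, -1, 1, -1, 0, 1], 40, [198, 202, 198, 192, 203, 191, 198, 200]),
    ([0, -1, 0, 0, 0, 1, 0, -1], 41, [199, 194, 199, 199, 199, 204, 199, 197]),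
    ([0, 1, 0, -1, 1, -1, 1, -1], 41, [200, 204, 200, 195, 205, 194, 206, 198]),
    ([0, 0, -1, 1, 0, 0, -1, 0], 41, [201, 201, 196, 206, 201, 201, 195, 201]),
    ([0, -1, 0, 0, 1, -1, 0, 1], 41, [202, 198, 202, 202, 207, 197, 202, 204]),
    ([0, 1, 0, 0, -1, 0, 0, 1], 41, [203, 207, 203, 203, 198, 203, 203, 205]),
    ([0, -1, 0, 0, 1, -1, 1, -1], 42, [204, 200, 204, 204, 208, 199, 209, 202]),
    ([0, 1, 0, 0, -1, 0, 1, -1], 42, [205, 208, 205, 205, 200, 205, 210, 203]),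
    ([0, 1, 0, -1, 1, 0, -1, 0], 42, [206, 209, 206, 201, 210, 206, 200, 206]),
    ([0, -1, 0, 1, -1, 0, 0, 1], 42, [207, 203, 207, 211, 202, 207, 207, 208]),
    ([0, -1, 0, 1, -1, 0, 1, -1], 43, [208, 205, 208, 212, 204, 208, 213, 207]),
    ([0, -1, 0, 0, 1, 0, -1, 0], 43, [209, 206, 209, 209, 213, 209, 204, 209]),
    ([0, 1, 0, 0, -1, 1, -1, 0], 43, [210, 213, 210, 210, 206, 214, 205, 210]),
    ([0, 0, 1, -1, 0, 0, 0, 1], 43, [211, 211, 215, 207, 211, 211, 211, 212]),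
    ([0, 0, 1, -1, 0, 0, 1, -1], 44, [212, 212, 216, 208, 212, 212, 217, 211]),
    ([0, -1, 0, 1, -1, 1, -1, 0], 44, [213, 210, 213, 217, 209, 218, 208, 213]),
    ([0, 1, 0, 0, 0, -1, 0, 0], 44, [214, 218, 214, 214, 214, 210, 214, 214]),
    ([1, 0, -1, 0, 0, 0, 0, 1], 44, [219, 215, 211, 215, 215, 215, 215, 216])]

/-- Orbit data, part. -/
def orbitE8_7p9 : List (List ℤ × ℕ × List ℕ) := [([1, 0, -1, 0, 0, 0, 1, -1], 45, [220, 216, 212, 216, 216, 216, 221, 215]),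
    ([0, 0, 1, -1, 0, 1, -1, 0], 45, [217, 217, 221, 213, 217, 222, 212, 217]),
    ([0, -1, 0, 1, 0, -1, 0, 0], 45, [218, 214, 218, 222, 218, 213, 218, 218]),
    ([-1, 0, 0, 0, 0, 0, 0, 1], 45, [215, 219, 219, 219, 219, 219, 219, 220]),
    ([-1, 0, 0, 0, 0, 0, 1, -1], 46, [216, 220, 220, 220, 220, 220, 223, 219]),
    ([1, 0, -1, 0, 0, 1, -1, 0], 46, [223, 221, 217, 221, 221, 224, 216, 221]),
    ([0, 0, 1, -1, 1, -1, 0, 0], 46, [222, 222, 224, 218, 225, 217, 222, 222]),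
    ([-1, 0, 0, 0, 0, 1, -1, 0], 47, [221, 223, 223, 223, 223, 226, 220, 223]),
    ([1, 0, -1, 0, 1, -1, 0, 0], 47, [226, 224, 222, 224, 227, 221, 224, 224]),
    ([0, 0, 1, 0, -1, 0, 0, 0], 47, [225, 225, 227, 225, 222, 225, 225, 225]),
    ([-1, 0, 0, 0, 1, -1, 0, 0], 48, [224, 226, 226, 226, 228, 223, 226, 226]),
    ([1, 0, -1, 1, -1, 0, 0, 0], 48, [228, 227, 225, 229, 224, 227, 227, 227]),
    ([-1, 0, 0, 1, -1, 0, 0, 0], 49, [227, 228, 228, 230, 226, 228, 228, 228]),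
    ([1, 1, 0, -1, 0, 0, 0, 0], 49, [230, 231, 229, 227, 229, 229, 229, 229]),
    ([-1, 1, 1, -1, 0, 0, 0, 0], 50, [229, 232, 233, 228, 230, 230, 230, 230]),
    ([1, -1, 0, 0, 0, 0, 0, 0], 50, [232, 229, 231, 231, 231, 231, 231, 231]),
    ([-1, -1, 1, 0, 0, 0, 0, 0], 51, [231, 230, 234, 232, 232, 232, 232, 232]),
    ([0, 1, -1, 0, 0, 0, 0, 0], 51, [233, 234, 230, 233, 233, 233, 233, 233]),
    ([0, -1, -1, 1, 0, 0, 0, 0], 52, [234, 233, 232, 235, 234, 234, 234, 234]),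
    ([0, 0, 0, -1, 1, 0, 0, 0], 53, [235, 235, 235, 234, 236, 235, 235, 235]),
    ([0, 0, 0, 0, -1, 1, 0, 0], 54, [236, 236, 236, 236, 235, 237, 236, 236]),
    ([0, 0, 0, 0, 0, -1, 1, 0], 55, [237, 237, 237, 237, 237, 236, 238, 237]),
    ([0, 0, 0, 0, 0, 0, -1, 1], 56, [238, 238, 238, 238, 238, 238, 237, 239]),
    ([0, 0, 0, 0, 0, 0, 0, -1], 57, [239, 239, 239, 239, 239, 239, 239, 238])]

/-- Orbit data. -/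
def orbitE8_7 : OrbitStep where
  node := 7
  orbit := orbitE8_7p0 ++ orbitE8_7p1 ++ orbitE8_7p2 ++ orbitE8_7p3 ++ orbitE8_7p4 ++ orbitE8_7p5 ++ orbitE8_7p6 ++ orbitE8_7p7 ++ orbitE8_7p8 ++ orbitE8_7p9

/-- Orbit data, part. -/
def orbitE8_6p0 : List (List ℤ × ℕ × List ℕ) := [([0, 0, 0, 0, 0, 0, 1, 0], 0, [0, 0, 0, 0, 0, 0, 1]),
    ([0, 0, 0, 0, 0, 1, -1, 1], 1, [1, 1, 1, 1, 1, 2, 0]),
    ([0, 0, 0, 0, 1, -1, 0, 1], 2, [2, 2, 2, 2, 3, 1, 2]),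
    ([0, 0, 0, 1, -1, 0, 0, 1], 3, [3, 3, 3, 4, 2, 3, 3]),
    ([0, 1, 1, -1, 0, 0, 0, 1], 4, [4, 5, 6, 3, 4, 4, 4]),
    ([0, -1, 1, 0, 0, 0, 0, 1], 5, [5, 4, 7, 5, 5, 5, 5]),
    ([1, 1, -1, 0, 0, 0, 0, 1], 5, [8, 7, 4, 6, 6, 6, 6]),
    ([1, -1, -1, 1, 0, 0, 0, 1], 6, [9, 6, 5, 10, 7, 7, 7]),
    ([-1, 1, 0, 0, 0, 0, 0, 1], 6, [6, 9, 8, 8, 8, 8, 8]),
    ([-1, -1, 0, 1, 0, 0, 0, 1], 7, [7, 8, 9, 11, 9, 9, 9]),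
    ([1, 0, 0, -1, 1, 0, 0, 1], 7, [11, 10, 10, 7, 12, 10, 10]),
    ([-1, 0, 1, -1, 1, 0, 0, 1], 8, [10, 11, 13, 9, 14, 11, 11]),
    ([1, 0, 0, 0, -1, 1, 0, 1], 8, [14, 12, 12, 12, 10, 15, 12]),
    ([0, 0, -1, 0, 1, 0, 0, 1], 9, [13, 13, 11, 13, 16, 13, 13]),
    ([-1, 0, 1, 0, -1, 1, 0, 1], 9, [12, 14, 16, 14, 11, 17, 14]),
    ([1, 0, 0, 0, 0, -1, 1, 1], 9, [17, 15, 15, 15, 15, 12, 18]),
    ([0, 0, -1, 1, -1, 1, 0, 1], 10, [16, 16, 14, 19, 13, 20, 16]),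
    ([-1, 0, 1, 0, 0, -1, 1, 1], 10, [15, 17, 20, 17, 17, 14, 21]),
    ([1, 0, 0, 0, 0, 0, -1, 2], 10, [21, 18, 18, 18, 18, 18, 15]),
    ([0, 1, 0, -1, 0, 1, 0, 1], 11, [19, 22, 19, 16, 19, 23, 19]),
    ([0, 0, -1, 1, 0, -1, 1, 1], 11, [20, 20, 17, 23, 20, 16, 24]),
    ([-1, 0, 1, 0, 0, 0, -1, 2], 11, [18, 21, 24, 21, 21, 21, 17]),
    ([0, -1, 0, 0, 0, 1, 0, 1], 12, [22, 19, 22, 22, 22, 25, 22]),
    ([0, 1, 0, -1, 1, -1, 1, 1], 12, [23, 25, 23, 20, 26, 19, 27])]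

/-- Orbit data, part. -/
def orbitE8_6p1 : List (List ℤ × ℕ × List ℕ) := [([0, 0, -1, 1, 0, 0, -1, 2], 12, [24, 24, 21, 27, 24, 24, 20]),
    ([0, -1, 0, 0, 1, -1, 1, 1], 13, [25, 23, 25, 25, 28, 22, 29]),
    ([0, 1, 0, 0, -1, 0, 1, 1], 13, [26, 28, 26, 26, 23, 26, 30]),
    ([0, 1, 0, -1, 1, 0, -1, 2], 13, [27, 29, 27, 24, 30, 27, 23]),
    ([0, -1, 0, 1, -1, 0, 1, 1], 14, [28, 26, 28, 31, 25, 28, 32]),
    ([0, -1, 0, 0, 1, 0, -1, 2], 14, [29, 27, 29, 29, 32, 29, 25]),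
    ([0, 1, 0, 0, -1, 1, -1, 2], 14, [30, 32, 30, 30, 27, 33, 26]),
    ([0, 0, 1, -1, 0, 0, 1, 1], 15, [31, 31, 34, 28, 31, 31, 35]),
    ([0, -1, 0, 1, -1, 1, -1, 2], 15, [32, 30, 32, 35, 29, 36, 28]),
    ([0, 1, 0, 0, 0, -1, 0, 2], 15, [33, 36, 33, 33, 33, 30, 33]),
    ([1, 0, -1, 0, 0, 0, 1, 1], 16, [37, 34, 31, 34, 34, 34, 38]),
    ([0, 0, 1, -1, 0, 1, -1, 2], 16, [35, 35, 38, 32, 35, 39, 31]),
    ([0, -1, 0, 1, 0, -1, 0, 2], 16, [36, 33, 36, 39, 36, 32, 36]),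
    ([-1, 0, 0, 0, 0, 0, 1, 1], 17, [34, 37, 37, 37, 37, 37, 40]),
    ([1, 0, -1, 0, 0, 1, -1, 2], 17, [40, 38, 35, 38, 38, 41, 34]),
    ([0, 0, 1, -1, 1, -1, 0, 2], 17, [39, 39, 41, 36, 42, 35, 39]),
    ([-1, 0, 0, 0, 0, 1, -1, 2], 18, [38, 40, 40, 40, 40, 43, 37]),
    ([1, 0, -1, 0, 1, -1, 0, 2], 18, [43, 41, 39, 41, 44, 38, 41]),
    ([0, 0, 1, 0, -1, 0, 0, 2], 18, [42, 42, 44, 42, 39, 42, 42]),
    ([-1, 0, 0, 0, 1, -1, 0, 2], 19, [41, 43, 43, 43, 45, 40, 43]),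
    ([1, 0, -1, 1, -1, 0, 0, 2], 19, [45, 44, 42, 46, 41, 44, 44]),
    ([-1, 0, 0, 1, -1, 0, 0, 2], 20, [44, 45, 45, 47, 43, 45, 45]),
    ([1, 1, 0, -1, 0, 0, 0, 2], 20, [47, 48, 46, 44, 46, 46, 46]),
    ([-1, 1, 1, -1, 0, 0, 0, 2], 21, [46, 49, 50, 45, 47, 47, 47])]

/-- Orbit data, part. -/
def orbitE8_6p2 : List (List ℤ × ℕ × List ℕ) := [([1, -1, 0, 0, 0, 0, 0, 2], 21, [49, 46, 48, 48, 48, 48, 48]),
    ([-1, -1, 1, 0, 0, 0, 0, 2], 22, [48, 47, 51, 49, 49, 49, 49]),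
    ([0, 1, -1, 0, 0, 0, 0, 2], 22, [50, 51, 47, 50, 50, 50, 50]),
    ([0, -1, -1, 1, 0, 0, 0, 2], 23, [51, 50, 49, 52, 51, 51, 51]),
    ([0, 0, 0, -1, 1, 0, 0, 2], 24, [52, 52, 52, 51, 53, 52, 52]),
    ([0, 0, 0, 0, -1, 1, 0, 2], 25, [53, 53, 53, 53, 52, 54, 53]),
    ([0, 0, 0, 0, 0, -1, 1, 2], 26, [54, 54, 54, 54, 54, 53, 55]),
    ([0, 0, 0, 0, 0, 0, -1, 3], 27, [55, 55, 55, 55, 55, 55, 54])]

/-- Orbit data. -/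
def orbitE8_6 : OrbitStep where
  node := 6
  orbit := orbitE8_6p0 ++ orbitE8_6p1 ++ orbitE8_6p2

/-- Orbit data, part. -/
def orbitE8_5p0 : List (List ℤ × ℕ × List ℕ) := [([0, 0, 0, 0, 0, 1, 0, 0], 0, [0, 0, 0, 0, 0, 1]),
    ([0, 0, 0, 0, 1, -1, 1, 0], 1, [1, 1, 1, 1, 2, 0]),
    ([0, 0, 0, 1, -1, 0, 1, 0], 2, [2, 2, 2, 3, 1, 2]),
    ([0, 1, 1, -1, 0, 0, 1, 0], 3, [3, 4, 5, 2, 3, 3]),
    ([0, -1, 1, 0, 0, 0, 1, 0], 4, [4, 3, 6, 4, 4, 4]),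
    ([1, 1, -1, 0, 0, 0, 1, 0], 4, [7, 6, 3, 5, 5, 5]),
    ([1, -1, -1, 1, 0, 0, 1, 0], 5, [8, 5, 4, 9, 6, 6]),
    ([-1, 1, 0, 0, 0, 0, 1, 0], 5, [5, 8, 7, 7, 7, 7]),
    ([-1, -1, 0, 1, 0, 0, 1, 0], 6, [6, 7, 8, 10, 8, 8]),
    ([1, 0, 0, -1, 1, 0, 1, 0], 6, [10, 9, 9, 6, 11, 9]),
    ([-1, 0, 1, -1, 1, 0, 1, 0], 7, [9, 10, 12, 8, 13, 10]),
    ([1, 0, 0, 0, -1, 1, 1, 0], 7, [13, 11, 11, 11, 9, 14]),
    ([0, 0, -1, 0, 1, 0, 1, 0], 8, [12, 12, 10, 12, 15, 12]),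
    ([-1, 0, 1, 0, -1, 1, 1, 0], 8, [11, 13, 15, 13, 10, 16]),
    ([1, 0, 0, 0, 0, -1, 2, 0], 8, [16, 14, 14, 14, 14, 11]),
    ([0, 0, -1, 1, -1, 1, 1, 0], 9, [15, 15, 13, 17, 12, 18]),
    ([-1, 0, 1, 0, 0, -1, 2, 0], 9, [14, 16, 18, 16, 16, 13]),
    ([0, 1, 0, -1, 0, 1, 1, 0], 10, [17, 19, 17, 15, 17, 20]),
    ([0, 0, -1, 1, 0, -1, 2, 0], 10, [18, 18, 16, 20, 18, 15]),
    ([0, -1, 0, 0, 0, 1, 1, 0], 11, [19, 17, 19, 19, 19, 21]),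
    ([0, 1, 0, -1, 1, -1, 2, 0], 11, [20, 21, 20, 18, 22, 17]),
    ([0, -1, 0, 0, 1, -1, 2, 0], 12, [21, 20, 21, 21, 23, 19]),
    ([0, 1, 0, 0, -1, 0, 2, 0], 12, [22, 23, 22, 22, 20, 22]),
    ([0, -1, 0, 1, -1, 0, 2, 0], 13, [23, 22, 23, 24, 21, 23])]

/-- Orbit data, part. -/
def orbitE8_5p1 : List (List ℤ × ℕ × List ℕ) := [([0, 0, 1, -1, 0, 0, 2, 0], 14, [24, 24, 25, 23, 24, 24]),
    ([1, 0, -1, 0, 0, 0, 2, 0], 15, [26, 25, 24, 25, 25, 25]),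
    ([-1, 0, 0, 0, 0, 0, 2, 0], 16, [25, 26, 26, 26, 26, 26])]

/-- Orbit data. -/
def orbitE8_5 : OrbitStep where
  node := 5
  orbit := orbitE8_5p0 ++ orbitE8_5p1

/-- Orbit data, part. -/
def orbitE8_4p0 : List (List ℤ × ℕ × List ℕ) := [([0, 0, 0, 0, 1, 0, 0, 0], 0, [0, 0, 0, 0, 1]),
    ([0, 0, 0, 1, -1, 1, 0, 0], 1, [1, 1, 1, 2, 0]),
    ([0, 1, 1, -1, 0, 1, 0, 0], 2, [2, 3, 4, 1, 2]),
    ([0, -1, 1, 0, 0, 1, 0, 0], 3, [3, 2, 5, 3, 3]),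
    ([1, 1, -1, 0, 0, 1, 0, 0], 3, [6, 5, 2, 4, 4]),
    ([1, -1, -1, 1, 0, 1, 0, 0], 4, [7, 4, 3, 8, 5]),
    ([-1, 1, 0, 0, 0, 1, 0, 0], 4, [4, 7, 6, 6, 6]),
    ([-1, -1, 0, 1, 0, 1, 0, 0], 5, [5, 6, 7, 9, 7]),
    ([1, 0, 0, -1, 1, 1, 0, 0], 5, [9, 8, 8, 5, 10]),
    ([-1, 0, 1, -1, 1, 1, 0, 0], 6, [8, 9, 11, 7, 12]),
    ([1, 0, 0, 0, -1, 2, 0, 0], 6, [12, 10, 10, 10, 8]),
    ([0, 0, -1, 0, 1, 1, 0, 0], 7, [11, 11, 9, 11, 13]),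
    ([-1, 0, 1, 0, -1, 2, 0, 0], 7, [10, 12, 13, 12, 9]),
    ([0, 0, -1, 1, -1, 2, 0, 0], 8, [13, 13, 12, 14, 11]),
    ([0, 1, 0, -1, 0, 2, 0, 0], 9, [14, 15, 14, 13, 14]),
    ([0, -1, 0, 0, 0, 2, 0, 0], 10, [15, 14, 15, 15, 15])]

/-- Orbit data. -/
def orbitE8_4 : OrbitStep where
  node := 4
  orbit := orbitE8_4p0

/-- Orbit data, part. -/
def orbitE8_3p0 : List (List ℤ × ℕ × List ℕ) := [([0, 0, 0, 1, 0, 0, 0, 0], 0, [0, 0, 0, 1]),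
    ([0, 1, 1, -1, 1, 0, 0, 0], 1, [1, 2, 3, 0]),
    ([0, -1, 1, 0, 1, 0, 0, 0], 2, [2, 1, 4, 2]),
    ([1, 1, -1, 0, 1, 0, 0, 0], 2, [5, 4, 1, 3]),
    ([1, -1, -1, 1, 1, 0, 0, 0], 3, [6, 3, 2, 7]),
    ([-1, 1, 0, 0, 1, 0, 0, 0], 3, [3, 6, 5, 5]),
    ([-1, -1, 0, 1, 1, 0, 0, 0], 4, [4, 5, 6, 8]),
    ([1, 0, 0, -1, 2, 0, 0, 0], 4, [8, 7, 7, 4]),
    ([-1, 0, 1, -1, 2, 0, 0, 0], 5, [7, 8, 9, 6]),
    ([0, 0, -1, 0, 2, 0, 0, 0], 6, [9, 9, 8, 9])]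

/-- Orbit data. -/
def orbitE8_3 : OrbitStep where
  node := 3
  orbit := orbitE8_3p0

/-- Orbit data, part. -/
def orbitE8_2p0 : List (List ℤ × ℕ × List ℕ) := [([0, 0, 1, 0, 0, 0, 0, 0], 0, [0, 0, 1]),
    ([1, 0, -1, 1, 0, 0, 0, 0], 1, [2, 1, 0]),
    ([-1, 0, 0, 1, 0, 0, 0, 0], 2, [1, 2, 2])]

/-- Orbit data. -/
def orbitE8_2 : OrbitStep where
  node := 2
  orbit := orbitE8_2p0

/-- Orbit data, part. -/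
def orbitE8_1p0 : List (List ℤ × ℕ × List ℕ) := [([0, 1, 0, 0, 0, 0, 0, 0], 0, [0, 1]),
    ([0, -1, 0, 1, 0, 0, 0, 0], 1, [1, 0])]

/-- Orbit data. -/
def orbitE8_1 : OrbitStep where
  node := 1
  orbit := orbitE8_1p0

/-- Orbit data, part. -/
def orbitE8_0p0 : List (List ℤ × ℕ × List ℕ) := [([1, 0, 0, 0, 0, 0, 0, 0], 0, [1]),
    ([-1, 0, 1, 0, 0, 0, 0, 0], 1, [0])]

/-- Orbit data. -/
def orbitE8_0 : OrbitStep where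
  node := 0
  orbit := orbitE8_0p0

/-- The orbit chain of type E8. -/
def orbitChainE8 : List OrbitStep := [orbitE8_7, orbitE8_6, orbitE8_5, orbitE8_4, orbitE8_3, orbitE8_2, orbitE8_1, orbitE8_0]

theorem okCorootE8 : Facts.okCoroot chevE8 = true := by decide +kernel

/-- Reflection columns. -/
def colsE8 : List (List ℤ) := [[2, 0, -1, 0, 0, 0, 0, 0], [0, 2, 0, -1, 0, 0, 0, 0], [-1, 0, 2, -1, 0, 0, 0, 0], [0, -1, -1, 2, -1, 0, 0, 0], [0, 0, 0, -1, 2, -1, 0, 0], [0, 0, 0, 0, -1, 2, -1, 0], [0, 0, 0, 0, 0, -1, 2, -1], [0, 0, 0, 0, 0, 0, -1, 2]]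

theorem okColsE8 : okCols chevE8 colsE8 = true := by decide +kernel

theorem okOrbitsE8 : okChainW chevE8 colsE8 (List.range chevE8.rank) orbitChainE8 = true := by decide +kernel

theorem polyE8 : polyEqb (chainPoly orbitChainE8) (polyProd (([2, 8, 12, 14, 18, 20, 24, 30] : List ℕ).map polyGeom)) = true := by decide +kernel

/-- The Coxeter matrix entries. -/
def coxFunE8 (i j : ℕ) : ℕ := if h : i < 8 ∧ j < 8 then (CoxeterMatrix.E₈ : CoxeterMatrix (Fin 8)).M ⟨i, h.1⟩ ⟨j, h.2⟩ else 1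

theorem okOrdersE8 : okOrders chevE8 coxFunE8 = true := by decide +kernel

theorem coxeterE8 :
    (∀ i j, (factsE8.refSys.s i * factsE8.refSys.s j) ^ (CoxeterMatrix.E₈ : CoxeterMatrix (Fin chevE8.rank)) i j = 1) ∧
      ∀ i j (r : ℕ), (factsE8.refSys.s i * factsE8.refSys.s j) ^ r = 1 → (CoxeterMatrix.E₈ : CoxeterMatrix (Fin chevE8.rank)) i j ∣ r :=
  factsE8.orders_of_check _ coxFunE8 (fun i j => by
    unfold coxFunE8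
    rw [dif_pos (⟨i.isLt, j.isLt⟩ : i.val < 8 ∧ j.val < 8)]
    exact rfl) okOrdersE8

/-- The Weyl group of type E8 is the Coxeter group. -/
noncomputable def weylEquivE8 : (CoxeterMatrix.E₈ : CoxeterMatrix (Fin chevE8.rank)).Group ≃* factsE8.weyl :=
  factsE8.refSys.coxeterEquiv _ coxeterE8.1 coxeterE8.2

theorem lenSumE8 (q : ℕ) : factsE8.lenSum (List.range chevE8.rank) q =
    ((([2, 8, 12, 14, 18, 20, 24, 30] : List ℕ).map fun d => ∑ k ∈ Finset.range d, q ^ k)).prod := by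
  rw [factsE8.lenSum_chain okCorootE8 okColsE8 orbitChainE8 _ okOrbitsE8 (fun j hj => List.mem_range.1 hj) q, polyEqb_sound q _ _ polyE8, polyEval_prod, List.map_map]
  simp only [Function.comp_def, polyEval_geom]

end Cfsg.Agent.Lie
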