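import Cfsg.Agent.Lib.Lie.TwistE6H
import Cfsg.Agent.Lib.Lie.WeylF4

/-!
The twisted Weyl group of type ²E₆, and the order of the groups.
-/

set_option autoImplicit false
set_option maxRecDepth 100000

namespace Cfsg.Agent.Lie.E6

open Cfsg.Lie Matrix

theorem polyVec_E6 : polyEqb (polyMul (polyOf (vecE6.map fun e => e.2.1 / 1)) [1, 2, 1])
    (polyProd [polyGeom 2, polyGeom 6, polyGeom 8, polyGeom 12, [1, 0, 0, 0, 0, 1],
      [1, 0, 0, 0, 0, 0, 0, 0, 0, 1]]) = true := by decide +kernel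

theorem len_vecE6 : vecE6.length = 1152 := by decide +kernel

/-- The nodes of F₄ in the order of the orbits. -/
def pF4 : Fin 4 ≃ Fin 4 := Equiv.swap 2 3

theorem okRel_F4 : okPiRel chevE6 Os
    (fun i j => (CoxeterMatrix.F₄.reindex pF4 : CoxeterMatrix (Fin 4)) i j) = true := by
  decide +kernel

theorem card_coxF4 : Nat.card (CoxeterMatrix.F₄ : CoxeterMatrix (Fin 4)).Group = 1152 := by
  classical
  refine (Nat.card_congr weylEquivF4.toEquiv).trans ?_
  have h := lenSumF4 1
  simp only [one_pow, Finset.sum_const, Finset.card_range, List.map_cons, List.map_nil, List.prod_cons,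
    List.prod_nil, smul_eq_mul, mul_one, Facts.lenSum] at h
  rw [Finset.filter_true_of_mem fun w _ => ?_] at h
  · rw [Nat.card_eq_fintype_card]
    exact h
  · obtain ⟨ω, hω⟩ := factsF4.refSys.exists_word w
    exact ⟨ω, fun i _ => List.mem_range.2 i.isLt, hω⟩

variable {K : Type*} [Field K] [Fintype K] {q : ℕ} (S : Setup K q)

include S

theorem Setup.card_group : Nat.gcd 3 (q + 1) * Nat.card ↥(twistedE6 K q) =
    q ^ 36 * (q ^ 2 - 1) * (q ^ 5 + 1) * (q ^ 6 - 1) * (q ^ 8 - 1) * (q ^ 9 + 1) * (q ^ 12 - 1) := by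
  have h := S.data.card_G1_vec okPiVec_E6 div_E6
  change Nat.card ↥(twistedE6 K q) = Nat.card ↥(chevE6.posUnipotent K ⊓ twistedE6 K q) *
    Nat.card ↥(chevE6.diagonalSubgroup K ⊓ twistedE6 K q) *
      polyEval q (polyOf (vecE6.map fun e => e.2.1 / 1)) at h
  have hu := S.data.card_U
  change Nat.card ↥(chevE6.posUnipotent K ⊓ twistedE6 K q) ^ 1 = q ^ (chevE6.nroots / 2) at hu
  rw [pow_one, show chevE6.nroots / 2 = 36 from rfl] at hu
  have hp := polyEqb_sound q _ _ polyVec_E6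
  rw [polyEval_mul, polyEval_prod] at hp
  simp only [List.map_cons, List.map_nil, List.prod_cons, List.prod_nil, mul_one, polyEval_geom] at hp
  generalize polyEval q (polyOf (vecE6.map fun e => e.2.1 / 1)) = P at h hp
  simp only [polyEval] at hp
  have hq := S.hq
  have hg : ∀ d, q ^ d - 1 = (q - 1) * ∑ k ∈ Finset.range d, q ^ k := fun d => by
    obtain ⟨n, rfl⟩ : ∃ n, q = n + 1 := ⟨q - 1, by omega⟩
    induction d with
    | zero => simp
    | succ d ih =>
      rw [Nat.add_sub_cancel] at ih ⊢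
      rw [Finset.sum_range_succ, mul_add, ← ih, pow_succ, mul_add, mul_one]
      have := Nat.one_le_pow d (n + 1) (Nat.succ_pos n)
      rw [Nat.mul_comm ((n + 1) ^ d) n]
      omega
  calc Nat.gcd 3 (q + 1) * Nat.card ↥(twistedE6 K q)
      = q ^ 36 * (Nat.gcd 3 (q + 1) * Nat.card ↥(chevE6.diagonalSubgroup K ⊓ twistedE6 K q)) * P := by
        rw [h, hu]; ring
    _ = q ^ 36 * (q - 1) ^ 4 * (P * (1 + q * (2 + q * (1 + q * 0)))) := by rw [S.card_H]; ring
    _ = _ := by rw [hp, hg 2, hg 6, hg 8, hg 12]; ring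

theorem Setup.exists_weyl_hom :
    ∃ φ : ↥(chevE6.monomialSubgroup K ⊓ twistedE6 K q) →* (CoxeterMatrix.F₄).Group, Function.Surjective φ ∧
      φ.ker = (chevE6.diagonalSubgroup K ⊓ twistedE6 K q).subgroupOf (chevE6.monomialSubgroup K ⊓ twistedE6 K q) := by
  have : Finite (CoxeterMatrix.F₄ : CoxeterMatrix (Fin 4)).Group :=
    Nat.finite_of_card_ne_zero (by rw [card_coxF4]; norm_num)
  obtain ⟨ψ, hψ⟩ := S.data.exists_coxHom _ okRel_F4
  let e := (CoxeterMatrix.F₄.reindexGroupEquiv pF4).symm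
  exact S.data.exists_N1_hom' (card_coxF4.trans (len_vecE6.symm.trans (S.data.card_piW_vec okPiVec_E6).symm))
    (ψ.comp e.toMonoidHom) (hψ.comp e.surjective)

end Cfsg.Agent.Lie.E6
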