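import Cfsg.Agent.Lib.Lie.TwistFrob
import Cfsg.Agent.Lib.Lie.TorusCard

/-!
Tori of twisted groups.
-/

set_option autoImplicit false

namespace Cfsg.Agent.Lie

open Cfsg.Lie Matrix
open scoped MatrixGroups

variable {D : ChevalleyDatum} {F : Type*} [Field F]

namespace Facts

variable (hF : Facts D)

include hF in
/-- Equality of torus elements. -/
theorem torus_eq_iff (c d : Fin D.rank → Fˣ) :
    torus D F c = torus D F d ↔ ∀ i : Fin D.rank, torChar D (c * d⁻¹) (D.simple i.val) = 1 := by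
  rw [← hF.torChar_eq_one_iff, ← coe_torus_eq_one, map_mul, map_inv, mul_inv_eq_one]

include hF in
/-- With a trivial certificate the torus map is injective. -/
theorem torus_injective (K : KerCert (cartanSys D) (k := 0) ![]) :
    Function.Injective (torus D F) := by
  intro c d h
  rw [hF.torus_eq_iff] at h
  have hsum : ∀ s : Fin D.rank, ∑ m, cartanSys D s m • Additive.ofMul ((c * d⁻¹) m) = 0 := by
    intro s
    have e : ∀ S : Finset (Fin D.rank),
        Additive.ofMul (∏ m ∈ S, (c * d⁻¹) m ^ D.cartan m.val (D.simple s.val)) =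
          ∑ m ∈ S, cartanSys D s m • Additive.ofMul ((c * d⁻¹) m) := by
      intro S
      induction S using Finset.induction_on with
      | empty => simp
      | insert a S ha ih =>
        rw [Finset.prod_insert ha, Finset.sum_insert ha, ofMul_mul, ih, ofMul_zpow]
        rfl
    rw [← e]
    exact congrArg Additive.ofMul (h s)
  have h1 := K.equiv.injective (a₁ := ⟨_, hsum⟩)
    (a₂ := ⟨fun _ => (0 : Additive Fˣ), fun s => by simp⟩) (funext fun a => a.elim0)
  funext m
  have h2 : Additive.ofMul ((c * d⁻¹) m) = 0 := congrFun (congrArg Subtype.val h1) m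
  have h3 : (c * d⁻¹) m = 1 := Additive.ofMul.injective h2
  exact mul_inv_eq_one.1 h3

include hF in
theorem xg_inj {r : ℕ} (hr : r < D.nroots) {a b : F} (h : hF.xg r a = hF.xg r b) : a = b := by
  have h1 : hF.xg r (a + -b) = 1 := by rw [xg_add, h, ← xg_add, add_neg_cancel]; exact hF.xg_zero r
  have h2 := congrArg Units.val h1
  rw [coe_xg, Units.val_one, hF.x_eq_one r hr] at h2
  exact add_neg_eq_zero.1 h2

/-- Conjugates of torus elements by monomial elements. -/
theorem torus_conj_nW {a : GL D.Idx F} (ha : a ∈ (hF.tsys F).H) (w : hF.weyl) (c c' : Fin D.rank → Fˣ)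
    (h : ∀ i : Fin D.rank, torChar D c' (D.simple i.val) =
      torChar D c (w⁻¹ • hF.refSys.α i : Fin D.nroots).val) :
    a * (hF.tsys F).nW w * torus D F c * (a * (hF.tsys F).nW w)⁻¹ = torus D F c' := by
  have hcH : torus D F c ∈ (hF.tsys F).H := by
    rw [hF.tsys_H, hF.diagonalSubgroup_eq]; exact ⟨c, rfl⟩
  have h0 := (hF.tsys F).nW_H (w := w) hcH
  obtain ⟨b, rfl⟩ : a ∈ (torus D F).range := by rwa [← hF.diagonalSubgroup_eq, ← hF.tsys_H]
  have h1 := h0
  rw [hF.tsys_H, hF.diagonalSubgroup_eq] at h1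
  obtain ⟨d, hd⟩ := h1
  have hdc : torus D F d = torus D F c' := by
    rw [hF.torus_eq_iff]
    intro i
    have hdiv : ∀ x y : Fin D.rank → Fˣ, ∀ r, torChar D (x * y⁻¹) r = torChar D x r * (torChar D y r)⁻¹ := by
      intro x y r
      simp [torChar, mul_zpow, Finset.prod_mul_distrib]
    rw [hdiv, mul_inv_eq_one, h i]
    obtain ⟨e, he, hee⟩ := hF.nW_conj (F := F) w (w⁻¹ • hF.refSys.α i)
    rw [smul_inv_smul] at hee
    have h2 := hF.torus_conj d (hF.simple_lt i i.isLt) (1 : F)
    rw [mul_one] at h2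
    have hx : hF.xg (D.simple i.val) (1 : F) = (hF.tsys F).nW w *
        hF.xg (w⁻¹ • hF.refSys.α i : Fin D.nroots).val e * ((hF.tsys F).nW w)⁻¹ := by
      rw [hee, he]; rfl
    refine Units.ext (hF.xg_inj (hF.simple_lt i i.isLt) ?_)
    rw [← h2, hd, hx]
    calc _ = (hF.tsys F).nW w * (torus D F c * hF.xg (w⁻¹ • hF.refSys.α i : Fin D.nroots).val e *
          (torus D F c)⁻¹) * ((hF.tsys F).nW w)⁻¹ := by group
      _ = _ := by
        rw [hF.torus_conj c (Fin.isLt _), mul_comm _ e, hee, ← mul_assoc, he, one_mul]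
        rfl
  calc torus D F b * (hF.tsys F).nW w * torus D F c * (torus D F b * (hF.tsys F).nW w)⁻¹
      = torus D F b * torus D F d * (torus D F b)⁻¹ := by rw [hd]; group
    _ = torus D F c' := by rw [← map_mul, mul_comm b d, map_mul, mul_inv_cancel_right, hdc]

/-- A product of commuting h's lies in a subgroup containing the two kinds of generators. -/
theorem prod_hg_mem {L : List ℕ} (hnd : L.Nodup) (hL : okComm2 D L = true)
    (G : Subgroup (GL D.Idx F)) (c : ℕ → F)
    (hp : (hF.sys F).prodOver L c ∈ G) (hn : (L.map fun r => hF.xg (D.neg r) (-(c r)⁻¹)).prod ∈ G)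
    (hp1 : (hF.sys F).prodOver L (fun _ => -1) ∈ G)
    (hn1 : (L.map fun r => hF.xg (D.neg r) (-(-1 : F)⁻¹)).prod ∈ G) :
    (L.map fun r => hF.hg r (c r)).prod ∈ G := by
  rw [hF.prod_hg hnd hL, hF.prod_ng hnd hL, hF.prod_ng hnd hL]
  exact mul_mem (mul_mem (mul_mem hp hn) hp) (mul_mem (mul_mem hp1 hn1) hp1)

end Facts

namespace Twist

variable {hF : Facts D} (T : Twist hF F)

/-- The coordinates of a fixed diagonal element are fixed up to the kernel. -/
theorem fix_torus {h : GL D.Idx F} (hd : h ∈ D.diagonalSubgroup F) (hf : h ∈ T.fix) :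
    ∃ c, h = torus D F c ∧ ∀ i : Fin D.rank, torChar D (T.twc c * c⁻¹) (D.simple i.val) = 1 := by
  rw [hF.diagonalSubgroup_eq] at hd
  obtain ⟨c, rfl⟩ := hd
  refine ⟨c, rfl, (hF.torus_eq_iff _ _).1 ?_⟩
  rw [← T.sig_torus]
  exact hf.2

theorem torus_mem_fix {c : Fin D.rank → Fˣ} (h : T.twc c = c) : torus D F c ∈ T.fix :=
  ⟨hF.torus_mem_group c, by rw [T.sig_torus, h]⟩

theorem twc_val (c : Fin D.rank → Fˣ) (j : Fin D.rank) :
    (T.twc c j : F) = T.fr (c (T.σ.symm j) : F) ^ T.R.expo (D.simple (T.σ.symm j).val) := by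
  simp [twc]

end Twist

end Cfsg.Agent.Lie
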