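import Cfsg.Agent.Lib.Lie.TwistD4
import Cfsg.Agent.Lib.Lie.TwistTorus

/-!
The torus of the triality twisted groups.
-/

set_option autoImplicit false
set_option maxRecDepth 4000

namespace Cfsg.Agent.Lie.D4

open Cfsg.Lie Matrix Twist
open scoped MatrixGroups

variable {K : Type*} [Field K] [Fintype K] {q : ℕ}

instance neZero_rank : NeZero chevD4.rank := ⟨by decide +kernel⟩

omit [Fintype K] in
theorem torChar_D4 (c : Fin chevD4.rank → Kˣ) :
    (∀ i : Fin chevD4.rank, torChar chevD4 c (chevD4.simple i.val) = 1) ↔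
      c 1 = c 0 ^ 2 ∧ c 1 = c 2 ^ 2 ∧ c 1 = c 3 ^ 2 ∧ c 1 ^ 2 = c 0 * c 2 * c 3 := by
  have hv : ∀ s : Fin 4, (List.finRange 4).map (fun m => cartanSys chevD4 s m) =
      ([[2, -1, 0, 0], [-1, 2, -1, -1], [0, -1, 2, 0], [0, -1, 0, 2]] : List (List ℤ)).getD s.val [] := by
    decide +kernel
  have e : ∀ i : Fin 4, torChar chevD4 c (chevD4.simple i.val) =
      ((List.finRange 4).map (fun m => c m ^ cartanSys chevD4 i m)).prod := fun i => by
    exact ((congrArg List.prod (List.ofFn_eq_map (f := fun m : Fin 4 => c m ^ cartanSys chevD4 i m))).symm.trans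
      List.prod_ofFn).symm
  have e' : ∀ i : Fin 4, ((List.finRange 4).map (fun m => c m ^ cartanSys chevD4 i m)) =
      List.zipWith (fun u e => u ^ e) [c 0, c 1, c 2, c 3]
        (([[2, -1, 0, 0], [-1, 2, -1, -1], [0, -1, 2, 0], [0, -1, 0, 2]] : List (List ℤ)).getD i.val []) :=
    fun i => by rw [← hv]; rfl
  have key : (∀ i : Fin 4, torChar chevD4 c (chevD4.simple i.val) = 1) ↔
      ∀ i : Fin 4, (List.zipWith (fun u e => u ^ e) [c 0, c 1, c 2, c 3]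
        (([[2, -1, 0, 0], [-1, 2, -1, -1], [0, -1, 2, 0], [0, -1, 0, 2]] : List (List ℤ)).getD i.val [])).prod = 1 :=
    forall_congr' fun i => by rw [e, e']
  refine key.trans ?_
  simp only [Fin.forall_fin_succ, Fin.forall_fin_zero_pi, Fin.val_zero, Fin.val_succ, IsEmpty.forall_iff, and_true]
  simp [List.zipWith, List.getD]
  constructor
  · rintro ⟨h0, h1, h2, h3⟩
    refine ⟨?_, ?_, ?_, ?_⟩
    · exact (mul_inv_eq_one.1 (by simpa using h0)).symm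
    · exact (inv_mul_eq_one.1 (by simpa using h2))
    · exact (inv_mul_eq_one.1 (by simpa using h3))
    · calc c 1 ^ 2 = c 0 * c 2 * c 3 * ((c 0)⁻¹ * (c 1 ^ 2 * ((c 2)⁻¹ * (c 3)⁻¹))) := by
            simp [mul_comm, mul_left_comm]
        _ = _ := by rw [h1, mul_one]
  · rintro ⟨h0, h1, h2, h3⟩
    refine ⟨?_, ?_, ?_, ?_⟩
    · rw [← h0]; simp
    · rw [h3]; simp [mul_comm, mul_left_comm]
    · rw [← h1]; simp
    · rw [← h2]; simp

namespace Setup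

variable (S : Setup K q)

include S

/-- The coordinates of a fixed torus element. -/
def crd (S : Setup K q) (t m : Kˣ) : Fin chevD4.rank → Kˣ := ![t, m, t ^ q, (t ^ q) ^ q]

omit S in
theorem cartan_node : ∀ j : Fin 4, (σ.symm (j : Fin chevD4.rank)).val = [3, 1, 0, 2].getD j.val 0 := by
  decide +kernel

theorem twc_apply (c : Fin chevD4.rank → Kˣ) :
    S.T.twc c = ![c 3 ^ q, c 1 ^ q, c 0 ^ q, c 2 ^ q] := by
  have he : ∀ i : Fin chevD4.rank, S.T.R.expo (chevD4.simple i.val) = 1 := fun i =>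
    S.expo_one (factsD4.simple_lt i i.isLt)
  funext j
  apply Units.ext
  rw [S.T.twc_val, he, pow_one, S.hfr, S.hs]
  have hj : σ.symm j = (⟨[3, 1, 0, 2].getD j.val 0 % chevD4.rank, Nat.mod_lt _ (by decide +kernel)⟩ :
      Fin chevD4.rank) := by
    apply Fin.ext
    rw [cartan_node j]
    match j with
    | ⟨0, _⟩ => rfl
    | ⟨1, _⟩ => rfl
    | ⟨2, _⟩ => rfl
    | ⟨3, _⟩ => rfl
  rw [hj]
  match j with
  | ⟨0, _⟩ => rfl
  | ⟨1, _⟩ => rfl
  | ⟨2, _⟩ => rfl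
  | ⟨3, _⟩ => rfl

theorem sq_one_pow {z : Kˣ} (hz : z ^ 2 = 1) : z ^ q = z := by
  apply Units.ext
  have h : (z : K) * z = 1 := by rw [← Units.val_mul, ← pow_two, hz, Units.val_one]
  rw [Units.val_pow_eq_pow_val, ← S.hfr]
  rcases mul_self_eq_one_iff.1 h with h1 | h1 <;> rw [h1] <;> simp

theorem exists_crd {h : GL chevD4.Idx K} (hd : h ∈ chevD4.diagonalSubgroup K) (hf : h ∈ S.T.fix) :
    ∃ t m : Kˣ, m ^ q = m ∧ h = torus chevD4 K (S.crd t m) := by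
  obtain ⟨c, rfl, hc⟩ := S.T.fix_torus hd hf
  rw [torChar_D4] at hc
  obtain ⟨h0, h2, h3, h1⟩ := hc
  obtain ⟨z, hz⟩ : ∃ z, z = S.T.twc c * c⁻¹ := ⟨_, rfl⟩
  rw [← hz] at h0 h1 h2 h3
  have hz1 : z 1 = 1 := by
    have e : z 1 ^ 3 = z 1 ^ 4 := by
      calc z 1 ^ 3 = z 0 ^ 2 * z 2 ^ 2 * z 3 ^ 2 := by rw [← h0, ← h2, ← h3]; simp [pow_succ]
        _ = (z 0 * z 2 * z 3) ^ 2 := by simp [mul_pow]
        _ = _ := by rw [← h1, ← pow_mul]
    rw [pow_succ' (z 1) 3] at e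
    exact right_eq_mul.1 e
  rw [hz1] at h0 h1 h2 h3
  rw [one_pow] at h1
  have hz' : ∀ i, z i * c i = S.T.twc c i := fun i => by rw [hz]; simp
  have ht : ∀ i, S.T.twc c i = (![c 3 ^ q, c 1 ^ q, c 0 ^ q, c 2 ^ q] : Fin chevD4.rank → Kˣ) i :=
    fun i => by rw [S.twc_apply]
  have e2 : z 2 * c 2 = c 0 ^ q := (hz' 2).trans (ht 2)
  have e3 : z 3 * c 3 = c 2 ^ q := (hz' 3).trans (ht 3)
  have e1 : c 1 = c 1 ^ q := by
    have := (hz' 1).trans (ht 1)
    rwa [hz1, one_mul] at this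
  have p2 := S.sq_one_pow h2.symm
  have p3 := S.sq_one_pow h3.symm
  have hz0 : z 0 = z 2 * z 3 := by
    calc z 0 = z 0 * (z 2 * z 3) * (z 2 * z 3) := by
          rw [show z 0 * (z 2 * z 3) * (z 2 * z 3) = z 0 * (z 2 ^ 2 * z 3 ^ 2) by
            simp only [pow_two]; ac_rfl, ← h2, ← h3]
          simp
      _ = _ := by rw [← mul_assoc (z 0), ← h1, one_mul]
  refine ⟨c 0 * z 3, c 1, e1.symm, (factsD4.torus_eq_iff _ _).2 ((torChar_D4 _).2 ?_)⟩
  have k2 : (S.crd (c 0 * z 3) (c 1)) 2 = c 2 * z 0 := by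
    show (c 0 * z 3) ^ q = _
    rw [mul_pow, p3, ← e2, hz0]; ac_rfl
  have k3 : (S.crd (c 0 * z 3) (c 1)) 3 = c 3 * z 2 := by
    show ((c 0 * z 3) ^ q) ^ q = _
    rw [mul_pow, p3, ← e2, mul_pow, mul_pow, p2, p3, ← e3]
    rw [show z 2 * (z 3 * c 3) * z 3 = c 3 * z 2 * z 3 ^ 2 by simp only [pow_two]; ac_rfl,
      ← h3, mul_one]
  have g : ∀ i, (c * (S.crd (c 0 * z 3) (c 1))⁻¹) i = c i * ((S.crd (c 0 * z 3) (c 1)) i)⁻¹ := fun _ => rfl
  have g0 : (c * (S.crd (c 0 * z 3) (c 1))⁻¹) 0 = (z 3)⁻¹ := by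
    rw [g]; show c 0 * (c 0 * z 3)⁻¹ = _; simp
  have g1 : (c * (S.crd (c 0 * z 3) (c 1))⁻¹) 1 = 1 := by
    rw [g]; show c 1 * (c 1)⁻¹ = _; simp
  have g2 : (c * (S.crd (c 0 * z 3) (c 1))⁻¹) 2 = (z 0)⁻¹ := by rw [g, k2]; simp
  have g3 : (c * (S.crd (c 0 * z 3) (c 1))⁻¹) 3 = (z 2)⁻¹ := by rw [g, k3]; simp
  rw [g0, g1, g2, g3]
  refine ⟨by rw [inv_pow, ← h3, inv_one], by rw [inv_pow, ← h0, inv_one],
    by rw [inv_pow, ← h2, inv_one], ?_⟩
  rw [one_pow, ← _root_.mul_inv, ← _root_.mul_inv]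
  symm
  rw [inv_eq_one, h1]
  ac_rfl

omit S in
theorem hg_A_mem (S : Setup K q) {m : Kˣ} (hm : m ^ q = m) :
    factsD4.hg 14 (m : K) ∈ twistedD4 K q := by
  have hm' : (m : K) ^ q = m := by rw [← Units.val_pow_eq_pow_val, hm]
  have h1 : (-1 : K) ^ q = -1 := by rw [← S.hfr, map_neg, map_one]
  have hi : (-(m : K)⁻¹) ^ q = -(m : K)⁻¹ := by rw [← S.hfr, map_neg, map_inv₀, S.hfr, hm']
  have h := factsD4.prod_hg_mem (L := [14]) (List.nodup_singleton 14) (by decide +kernel)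
    (twistedD4 K q) (fun _ => (m : K))
    (by simpa [CommSys.prodOver, Facts.sys_x] using S.A_mem (Or.inl rfl) hm')
    (by simpa [show chevD4.neg 14 = 9 from rfl] using S.A_mem (Or.inr rfl) hi)
    (by simpa [CommSys.prodOver, Facts.sys_x] using S.A_mem (Or.inl rfl) h1)
    (by simpa [show chevD4.neg 14 = 9 from rfl] using S.A_mem (Or.inr rfl) (t := (1 : K)) (one_pow q))
  simpa using h

omit S in
theorem hg_B_mem (S : Setup K q) (t : Kˣ) :
    factsD4.hg 18 (t : K) * (factsD4.hg 13 ((t : K) ^ q) * factsD4.hg 12 (((t : K) ^ q) ^ q)) ∈ twistedD4 K q := by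
  have hi : ∀ x : K, (-x⁻¹) ^ q = -(x ^ q)⁻¹ := fun x => by rw [← S.hfr, map_neg, map_inv₀, S.hfr]
  have hn : ∀ x : K, ([18, 13, 12].map fun r => factsD4.xg (chevD4.neg r) (-(cB q x r)⁻¹)).prod =
      (factsD4.sys K).prodOver [5, 10, 11] (cB q (-x⁻¹)) := fun x => by
    simp [CommSys.prodOver, Facts.sys_x, cB, hi, show chevD4.neg 18 = 5 from rfl,
      show chevD4.neg 13 = 10 from rfl, show chevD4.neg 12 = 11 from rfl]
  have hc1 : cB q (-1 : K) 18 = -1 ∧ cB q (-1 : K) 13 = -1 ∧ cB q (-1 : K) 12 = -1 := by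
    have h1 : (-1 : K) ^ q = -1 := by rw [← S.hfr, map_neg, map_one]
    simp [cB, h1]
  have h := factsD4.prod_hg_mem (L := [18, 13, 12]) (by decide) (by decide +kernel) (twistedD4 K q)
    (cB q (t : K)) (S.B_mem (Or.inl rfl) _) (by rw [hn]; exact S.B_mem (Or.inr rfl) _)
    (by simpa [CommSys.prodOver, hc1] using S.B_mem (Or.inl rfl) (-1 : K))
    (by simpa [CommSys.prodOver, Facts.sys_x, cB, show chevD4.neg 18 = 5 from rfl,
      show chevD4.neg 13 = 10 from rfl, show chevD4.neg 12 = 11 from rfl] using S.B_mem (Or.inr rfl) (1 : K))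
  simpa [cB] using h

theorem torus_mem {t m : Kˣ} (hm : m ^ q = m) : torus chevD4 K (S.crd t m) ∈ twistedD4 K q := by
  have e : S.crd t m = Pi.mulSingle 1 m * (Pi.mulSingle 0 t * (Pi.mulSingle 2 (t ^ q) * Pi.mulSingle 3 ((t ^ q) ^ q))) := by
    funext j
    match j with
    | ⟨0, _⟩ => show t = 1 * (t * (1 * 1)); simp
    | ⟨1, _⟩ => show m = m * (1 * (1 * 1)); simp
    | ⟨2, _⟩ => show t ^ q = 1 * (1 * (t ^ q * 1)); simp
    | ⟨3, _⟩ => show (t ^ q) ^ q = 1 * (1 * (1 * (t ^ q) ^ q)); simp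
  rw [e, map_mul, map_mul, map_mul, factsD4.torus_single, factsD4.torus_single, factsD4.torus_single,
    factsD4.torus_single]
  refine mul_mem (S.hg_A_mem hm) ?_
  have h := S.hg_B_mem t
  rw [← Units.val_pow_eq_pow_val, ← Units.val_pow_eq_pow_val] at h
  exact h

theorem crd_inj {t t' m m' : Kˣ} (h : torus chevD4 K (S.crd t m) = torus chevD4 K (S.crd t' m')) :
    t = t' ∧ m = m' := by
  rw [factsD4.torus_eq_iff, torChar_D4] at h
  obtain ⟨h0, h2, h3, h1⟩ := h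
  change m * m'⁻¹ = (t * t'⁻¹) ^ 2 at h0
  change (m * m'⁻¹) ^ 2 = t * t'⁻¹ * (t ^ q * (t' ^ q)⁻¹) * ((t ^ q) ^ q * ((t' ^ q) ^ q)⁻¹) at h1
  change m * m'⁻¹ = (t ^ q * (t' ^ q)⁻¹) ^ 2 at h2
  change m * m'⁻¹ = ((t ^ q) ^ q * ((t' ^ q) ^ q)⁻¹) ^ 2 at h3
  set a := t * t'⁻¹ with ha
  set u := m * m'⁻¹ with hu
  have e1 : t ^ q * (t' ^ q)⁻¹ = a ^ q := by rw [ha, mul_pow, inv_pow]
  have e2 : (t ^ q) ^ q * ((t' ^ q) ^ q)⁻¹ = (a ^ q) ^ q := by rw [ha, mul_pow, inv_pow, mul_pow, inv_pow]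
  rw [e1, e2] at h1
  rw [e1] at h2
  rw [e2] at h3
  have hu1 : u = 1 := by
    have e : u ^ 3 = u ^ 4 := by
      calc u ^ 3 = a ^ 2 * (a ^ q) ^ 2 * ((a ^ q) ^ q) ^ 2 := by rw [← h0, ← h2, ← h3]; simp [pow_succ]
        _ = (a * a ^ q * (a ^ q) ^ q) ^ 2 := by simp [mul_pow]
        _ = _ := by rw [← h1, ← pow_mul]
    rw [pow_succ' u 3] at e
    exact right_eq_mul.1 e
  rw [hu1] at h0 h1
  have p := S.sq_one_pow h0.symm
  rw [p, p, one_pow, ← pow_two, ← h0, one_mul] at h1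
  exact ⟨mul_inv_eq_one.1 h1.symm, mul_inv_eq_one.1 hu1⟩

theorem card_H : Nat.card ↥(chevD4.diagonalSubgroup K ⊓ twistedD4 K q) =
    (q - 1) ^ 2 * (q ^ 2 + q + 1) := by
  have hm : ∀ m : {m : Kˣ // m ^ q = m}, ∀ t : Kˣ,
      torus chevD4 K (S.crd t m.1) ∈ chevD4.diagonalSubgroup K ⊓ twistedD4 K q := fun m t =>
    ⟨by rw [factsD4.diagonalSubgroup_eq]; exact ⟨_, rfl⟩, S.torus_mem m.2⟩
  rw [← Nat.card_eq_of_bijective (fun p : Kˣ × {m : Kˣ // m ^ q = m} =>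
    (⟨_, hm p.2 p.1⟩ : ↥(chevD4.diagonalSubgroup K ⊓ twistedD4 K q))) ⟨?_, ?_⟩, Nat.card_prod,
    Nat.card_units, S.hK]
  · have hc : Nat.card {m : Kˣ // m ^ q = m} = q - 1 := by
      have h := card_pow_eq_self (q := q) (F := K) S.hq S.hK
      classical
      have e : Option {m : Kˣ // m ^ q = m} ≃ {t : K // t ^ q = t} :=
        { toFun := fun o => o.elim ⟨0, zero_pow (by have := S.hq; omega)⟩
            fun m => ⟨(m.1 : K), by rw [← Units.val_pow_eq_pow_val, m.2]⟩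
          invFun := fun t => if h0 : t.1 = 0 then none else
            some ⟨Units.mk0 t.1 h0, Units.ext (by rw [Units.val_pow_eq_pow_val, Units.val_mk0, t.2])⟩
          left_inv := fun o => by
            cases o with
            | none => simp
            | some m => exact (dif_neg (Units.ne_zero m.1)).trans (congrArg some (Subtype.ext (Units.ext rfl)))
          right_inv := fun t => by
            by_cases h0 : t.1 = 0
            · simp only [dif_pos h0, Option.elim_none]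
              exact Subtype.ext h0.symm
            · simp [dif_neg h0] }
      rw [← Nat.card_congr e, Finite.card_option] at h
      omega
    rw [hc]
    have := S.hq
    obtain ⟨n, rfl⟩ : ∃ n, q = n + 1 := ⟨q - 1, by omega⟩
    rw [Nat.add_sub_cancel, show (n + 1) ^ 3 = n * ((n + 1) ^ 2 + (n + 1) + 1) + 1 by ring, Nat.add_sub_cancel]
    ring
  · rintro ⟨t, m⟩ ⟨t', m'⟩ h
    obtain ⟨rfl, hmm⟩ := S.crd_inj (congrArg Subtype.val h)
    exact Prod.ext rfl (Subtype.ext hmm)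
  · rintro ⟨g, hgd, hgG⟩
    obtain ⟨t, m, hm', rfl⟩ := S.exists_crd hgd (S.le_fix hgG)
    exact ⟨(t, ⟨m, hm'⟩), rfl⟩

end Setup

end Cfsg.Agent.Lie.D4
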