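import Cfsg.Agent.Lib.Lie.TwistBN
import Cfsg.Agent.Lib.Lie.WeylCount

/-!
Listing the twisted Weyl group, and the order of a twisted group.
-/

set_option autoImplicit false

namespace Cfsg.Agent.Lie

open Cfsg.Lie Matrix
open scoped MatrixGroups

/-- The node word of a word in orbits. -/
def orbWord (D : ChevalleyDatum) (Os : List (List (Fin D.rank))) (w : List ℕ) : List (Fin D.rank) :=
  w.flatMap fun k => Os.getD k []

/-- The images of the fundamental roots. -/
def wKey (D : ChevalleyDatum) (l : List ℕ) : List ℕ :=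
  (List.range D.rank).map fun m => actR D l (D.simple m)

/-- The number of positive roots made negative. -/
def negCnt (D : ChevalleyDatum) (l : List ℕ) : ℕ :=
  ((List.range D.nroots).filter fun r =>
    decide (D.nroots / 2 ≤ r) && decide (actR D l r < D.nroots / 2)).length

/-- The words list the twisted Weyl group, each element once. -/
def okPi (D : ChevalleyDatum) (Os : List (List (Fin D.rank))) (ws : List (List ℕ)) : Bool :=
  let keys := ws.map fun w => wKey D ((orbWord D Os w).map Fin.val)
  keys.Nodup && keys.contains (wKey D []) &&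
  ws.all fun w => (w.all fun k => decide (k < Os.length)) && (List.range Os.length).all fun k =>
    keys.contains (wKey D ((orbWord D Os (w ++ [k])).map Fin.val))

/-- The exponents in the order formula. -/
def piExps (D : ChevalleyDatum) (Os : List (List (Fin D.rank))) (d : ℕ) (ws : List (List ℕ)) : List ℕ :=
  ws.map fun w => negCnt D ((orbWord D Os w).map Fin.val) / d

/-- The orbit elements satisfy the Coxeter relations of M. -/
def okPiRel (D : ChevalleyDatum) (Os : List (List (Fin D.rank))) {k : ℕ} (M : Fin k → Fin k → ℕ) : Bool :=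
  decide (Os.length = k) && (List.finRange k).all fun i => (List.finRange k).all fun j =>
    wKey D ((orbWord D Os (altPow i.val j.val (M i j))).map Fin.val) == wKey D []

variable {D : ChevalleyDatum} {F : Type*} [Field F] {hF : Facts D}

theorem Facts.len_pr (hF : Facts D) (ω : List (Fin D.rank)) :
    hF.refSys.len (hF.refSys.pr ω) = negCnt D (ω.map Fin.val) := by
  classical
  rw [RefSystem.len, negCnt]
  have hnd : ((List.range D.nroots).filter fun r =>
      decide (D.nroots / 2 ≤ r) && decide (actR D (ω.map Fin.val) r < D.nroots / 2)).Nodup :=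
    List.nodup_range.filter _
  rw [← List.toFinset_card_of_nodup hnd]
  refine Finset.card_bij (fun x _ => x.val) (fun x hx => ?_) (fun a _ b _ h => Fin.ext h) fun r hr => ?_
  · rw [RefSystem.mem_inv] at hx
    simp only [Facts.refSys, Finset.mem_filter, Finset.mem_univ, true_and, not_le] at hx
    have h := hF.pr_smul_val ω x
    rw [List.mem_toFinset]
    simp only [List.mem_filter, List.mem_range, Bool.and_eq_true, decide_eq_true_eq]
    refine ⟨x.isLt, hx.1, ?_⟩
    rw [← h]; exact hx.2
  · rw [List.mem_toFinset] at hr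
    simp only [List.mem_filter, List.mem_range, Bool.and_eq_true, decide_eq_true_eq] at hr
    refine ⟨⟨r, hr.1⟩, ?_, rfl⟩
    rw [RefSystem.mem_inv]
    simp only [Facts.refSys, Finset.mem_filter, Finset.mem_univ, true_and, not_le]
    exact ⟨hr.2.1, by
      have h := hF.pr_smul_val ω ⟨r, hr.1⟩
      exact (Eq.le h).trans_lt hr.2.2⟩

theorem Facts.pr_eq_of_key (hF : Facts D) {ω ω' : List (Fin D.rank)}
    (h : wKey D (ω.map Fin.val) = wKey D (ω'.map Fin.val)) :
    hF.refSys.pr ω = hF.refSys.pr ω' := by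
  refine (inv_mul_eq_one.1 (hF.eq_one_of_fix_simple _ fun m => ?_)).symm
  have h1 : hF.refSys.pr ω • hF.refSys.α m = hF.refSys.pr ω' • hF.refSys.α m := Fin.ext (by
    rw [hF.pr_smul_val, hF.pr_smul_val]
    exact List.map_inj_left.1 h m.val (List.mem_range.2 m.isLt))
  rw [mul_smul, h1, inv_smul_smul]

theorem Facts.key_eq (hF : Facts D) {ω ω' : List (Fin D.rank)}
    (h : hF.refSys.pr ω = hF.refSys.pr ω') : wKey D (ω.map Fin.val) = wKey D (ω'.map Fin.val) := by
  refine List.map_inj_left.2 fun m hm => ?_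
  have := congrArg (fun z : hF.weyl => (z • hF.refSys.α ⟨m, List.mem_range.1 hm⟩ : Fin D.nroots).val) h
  simp only [hF.pr_smul_val] at this
  exact this

namespace TwData

variable [Finite F] {T : Twist hF F} {Os : List (List (Fin D.rank))} (X : TwData T Os)

include X

omit [Finite F] in
theorem pr_piFix (w : List ℕ) (hw : ∀ k ∈ w, k < Os.length) :
    T.PiFix (hF.refSys.pr (orbWord D Os w)) := by
  induction w with
  | nil =>
    show T.PiFix (hF.refSys.pr [])
    rw [RefSystem.pr_nil]
    exact T.piFix_one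
  | cons k w ih =>
    have hk := hw k List.mem_cons_self
    rw [orbWord, List.flatMap_cons, RefSystem.pr_append]
    refine T.piFix_mul ?_ (ih fun j hj => hw j (List.mem_cons_of_mem _ hj))
    rw [List.getD_eq_getElem _ _ hk]
    exact T.piFix_wO X.hOs (List.getElem_mem hk)

omit [Finite F] in
theorem okPi_lt {ws : List (List ℕ)} (h : okPi D Os ws = true) (a : Fin ws.length) :
    ∀ k ∈ ws.get a, k < Os.length := by
  simp only [okPi, Bool.and_eq_true, decide_eq_true_eq, List.all_eq_true] at h
  exact (h.2 _ (List.get_mem ws a)).1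

/-- The listed elements. -/
def piMap {ws : List (List ℕ)} (h : okPi D Os ws = true) (a : Fin ws.length) : {w : hF.weyl // T.PiFix w} :=
  ⟨hF.refSys.pr (orbWord D Os (ws.get a)), X.pr_piFix _ (X.okPi_lt h a)⟩

theorem piMap_bij {ws : List (List ℕ)} (h' : okPi D Os ws = true) :
    Function.Bijective (X.piMap h') := by
  have h := h'
  simp only [okPi, Bool.and_eq_true, decide_eq_true_eq, List.all_eq_true, List.contains_iff_mem,
    List.mem_map, List.mem_range] at h
  obtain ⟨⟨hnd, hone⟩, hws⟩ := h
  refine ⟨fun a b hab => ?_, fun w => ?_⟩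
  · have e := hF.key_eq (congrArg Subtype.val hab)
    exact Fin.ext ((List.Nodup.getElem_inj_iff hnd (hi := by simp) (hj := by simp)).1 (by simpa using e))
  · suffices hsuff : ∀ v : hF.weyl, T.PiFix v → ∃ a : Fin ws.length,
        hF.refSys.pr (orbWord D Os (ws.get a)) = v by
      obtain ⟨a, ha⟩ := hsuff w.1 w.2
      exact ⟨a, Subtype.ext ha⟩
    refine T.piFix_induction X.hOs ?_ ?_
    · obtain ⟨w0, hw0, he⟩ := hone
      obtain ⟨a, ha⟩ := List.mem_iff_get.1 hw0
      refine ⟨a, (hF.pr_eq_of_key (ω' := []) ?_).trans (RefSystem.pr_nil _)⟩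
      rw [ha]
      exact he
    · rintro ω hω v - - - - ⟨a, rfl⟩
      obtain ⟨k, hk, rfl⟩ := List.mem_iff_getElem.1 hω
      obtain ⟨w1, hw1, he⟩ := (hws _ (List.get_mem ws a)).2 k hk
      obtain ⟨b, hb⟩ := List.mem_iff_get.1 hw1
      refine ⟨b, (hF.pr_eq_of_key (ω' := orbWord D Os (ws.get a ++ [k])) ?_).trans ?_⟩
      · rw [hb]; exact he
      · rw [orbWord, List.flatMap_append, RefSystem.pr_append]
        simp [List.getD_eq_getElem?_getD, List.getElem?_eq_getElem hk, Twist.wO, orbWord]

/-- The listed elements are the fixed elements. -/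
noncomputable def piEquiv {ws : List (List ℕ)} (h : okPi D Os ws = true) :
    Fin ws.length ≃ {w : hF.weyl // T.PiFix w} :=
  Equiv.ofBijective _ (X.piMap_bij h)

theorem card_piW {ws : List (List ℕ)} (h : okPi D Os ws = true) : Nat.card ↥X.piW = ws.length := by
  have e : ↥X.piW ≃ {w : hF.weyl // T.PiFix w} := Equiv.refl _
  rw [Nat.card_congr (e.trans (X.piEquiv h).symm), Nat.card_fin]

omit [Finite F] in
theorem pr_altPow_orb (i j : ℕ) (r : ℕ) : hF.refSys.pr (orbWord D Os (altPow i j r)) =
    (hF.refSys.pr (Os.getD i []) * hF.refSys.pr (Os.getD j [])) ^ r := by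
  induction r with
  | zero =>
    show hF.refSys.pr [] = _
    rw [RefSystem.pr_nil, pow_zero]
  | succ r ih =>
    rw [altPow, orbWord, List.flatMap_cons, List.flatMap_cons, RefSystem.pr_append, RefSystem.pr_append]
    unfold orbWord at ih
    rw [ih, pow_succ', mul_assoc]

/-- A surjection from a Coxeter group onto the twisted Weyl group. -/
theorem exists_coxHom {k : ℕ} (M : CoxeterMatrix (Fin k)) (h : okPiRel D Os (fun i j => M i j) = true) :
    ∃ φ : M.Group →* ↥X.piW, Function.Surjective φ := by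
  simp only [okPiRel, Bool.and_eq_true, decide_eq_true_eq, List.all_eq_true, List.mem_finRange,
    beq_iff_eq, true_implies] at h
  obtain ⟨hk, hrel⟩ := h
  subst hk
  let f : Fin Os.length → ↥X.piW := fun i =>
    ⟨hF.refSys.pr (Os.getD i.val []), by
      show T.PiFix _
      rw [List.getD_eq_getElem _ _ i.isLt]
      exact T.piFix_wO X.hOs (List.getElem_mem i.isLt)⟩
  have hlift : M.IsLiftable f := fun i j => Subtype.ext (by
    show (hF.refSys.pr (Os.getD i.val []) * hF.refSys.pr (Os.getD j.val [])) ^ M i j = 1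
    rw [← X.pr_altPow_orb, hF.pr_eq_of_key (ω' := []) (hrel i j), RefSystem.pr_nil])
  refine ⟨M.toCoxeterSystem.lift ⟨f, hlift⟩, fun w => ?_⟩
  suffices hsuff : ∀ v : hF.weyl, T.PiFix v → ∃ g, (M.toCoxeterSystem.lift ⟨f, hlift⟩ g).1 = v by
    obtain ⟨g, hg⟩ := hsuff w.1 w.2
    exact ⟨g, Subtype.ext hg⟩
  refine T.piFix_induction X.hOs ⟨1, by rw [map_one]; rfl⟩ ?_
  rintro ω hω v - - - - ⟨g, rfl⟩
  obtain ⟨n, hn, rfl⟩ := List.mem_iff_getElem.1 hω
  refine ⟨g * M.toCoxeterSystem.simple ⟨n, hn⟩, ?_⟩
  rw [map_mul, CoxeterSystem.lift_apply_simple]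
  show (M.toCoxeterSystem.lift ⟨f, hlift⟩ g).1 * hF.refSys.pr (Os.getD n []) = _
  rw [List.getD_eq_getElem _ _ hn]
  rfl

/-- N¹ → a group isomorphic to the twisted Weyl group. -/
theorem exists_N1_hom' {W : Type*} [Group W] [Finite W]
    (hW : Nat.card W = Nat.card ↥X.piW) (ψ : W →* ↥X.piW) (hψ : Function.Surjective ψ) :
    ∃ φ : ↥(D.monomialSubgroup F ⊓ X.G1) →* W, Function.Surjective φ ∧
      φ.ker = (D.diagonalSubgroup F ⊓ X.G1).subgroupOf (D.monomialSubgroup F ⊓ X.G1) := by
  obtain ⟨φ, hφ, hk⟩ := X.exists_N1_hom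
  have hb : Function.Bijective ψ := Nat.bijective_iff_surjective_and_card ψ |>.2
    ⟨hψ, hW⟩
  let e := MulEquiv.ofBijective ψ hb
  exact ⟨e.symm.toMonoidHom.comp φ, e.symm.surjective.comp hφ, (φ.ker_mulEquiv_comp e.symm).trans hk⟩

/-- The order of the twisted group from a list of the twisted Weyl group. -/
theorem card_G1_list {ws : List (List ℕ)} (h : okPi D Os ws = true)
    (hdiv : ws.all (fun w => negCnt D ((orbWord D Os w).map Fin.val) % X.d == 0) = true) :
    Nat.card ↥X.G1 = Nat.card ↥(D.posUnipotent F ⊓ X.G1) * Nat.card ↥(D.diagonalSubgroup F ⊓ X.G1) *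
      polyEval X.q (polyOf (piExps D Os X.d ws)) := by
  classical
  rw [X.card_G1, finsum_eq_sum_of_fintype, ← Equiv.sum_comp (X.piEquiv h), polyEval_of, piExps, List.map_map]
  congr 1
  rw [← List.sum_ofFn]
  congr 1
  refine List.ext_getElem (by simp) fun i h1 h2 => ?_
  rw [List.getElem_ofFn, List.getElem_map, Function.comp_apply]
  have hv : ((X.piEquiv h) ⟨i, by simpa using h1⟩).1 = hF.refSys.pr (orbWord D Os (ws[i]'(by simpa using h1))) := rfl
  have hc := (X.inv_le_card ((X.piEquiv h) ⟨i, by simpa using h1⟩).2).2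
  rw [hv, hF.len_pr] at hc
  simp only [List.all_eq_true, beq_iff_eq] at hdiv
  have hd0 := hdiv _ (List.getElem_mem (by simpa using h1 : i < ws.length))
  have e : X.q ^ negCnt D ((orbWord D Os (ws[i]'(by simpa using h1))).map Fin.val) =
      (X.q ^ (negCnt D ((orbWord D Os (ws[i]'(by simpa using h1))).map Fin.val) / X.d)) ^ X.d := by
    rw [← pow_mul, Nat.div_mul_cancel (Nat.dvd_of_mod_eq_zero hd0)]
  rw [e] at hc
  rw [hv]
  exact Nat.pow_left_injective X.hd hc

end TwData

end Cfsg.Agent.Lie
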