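import Cfsg.Agent.Lib.Lie.TwistD4H
import Cfsg.Agent.Lib.Lie.TwistCount
import Cfsg.Agent.Lib.Lie.WeylG2

/-!
The twisted Weyl group of the triality twisted groups, and their order.
-/

set_option autoImplicit false
set_option maxRecDepth 4000

namespace Cfsg.Agent.Lie.D4

open Cfsg.Lie Matrix

/-- The elements of the twisted Weyl group. -/
def ws : List (List ℕ) := [[], [0], [1], [0, 1], [1, 0], [0, 1, 0], [1, 0, 1], [0, 1, 0, 1], [1, 0, 1, 0],
  [0, 1, 0, 1, 0], [1, 0, 1, 0, 1], [0, 1, 0, 1, 0, 1]]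

theorem okPi_ws : okPi chevD4 Os ws = true := by decide +kernel

theorem piExps_ws : polyEqb (polyOf (piExps chevD4 Os 1 ws))
    [1, 1, 0, 1, 2, 1, 0, 1, 2, 1, 0, 1, 1] = true := by decide +kernel

theorem okRel_G2 : okPiRel chevD4 Os (fun i j => (CoxeterMatrix.G₂ : CoxeterMatrix (Fin 2)) i j) = true := by
  decide +kernel

theorem card_coxG2 : Nat.card (CoxeterMatrix.G₂ : CoxeterMatrix (Fin 2)).Group = 12 := by
  classical
  refine (Nat.card_congr weylEquivG2.toEquiv).trans ?_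
  have h := lenSumG2 1
  simp only [one_pow, Finset.sum_const, Finset.card_range, List.map_cons, List.map_nil, List.prod_cons,
    List.prod_nil, smul_eq_mul, mul_one, Facts.lenSum] at h
  rw [Finset.filter_true_of_mem fun w _ => ?_] at h
  · rw [Nat.card_eq_fintype_card]
    exact h
  · obtain ⟨ω, hω⟩ := factsG2.refSys.exists_word w
    exact ⟨ω, fun i _ => List.mem_range.2 i.isLt, hω⟩

variable {K : Type*} [Field K] [Fintype K] {q : ℕ} (S : Setup K q)

include S

theorem Setup.card_group : Nat.card ↥(twistedD4 K q) =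
    q ^ 12 * (q ^ 2 - 1) * (q ^ 6 - 1) * (q ^ 8 + q ^ 4 + 1) := by
  have h := S.data.card_G1_list okPi_ws (List.all_eq_true.2 fun w _ => by simp [Setup.data, Nat.mod_one])
  change Nat.card ↥(twistedD4 K q) = Nat.card ↥(chevD4.posUnipotent K ⊓ twistedD4 K q) *
    Nat.card ↥(chevD4.diagonalSubgroup K ⊓ twistedD4 K q) * polyEval q (polyOf (piExps chevD4 Os 1 ws)) at h
  have hu := S.data.card_U
  change Nat.card ↥(chevD4.posUnipotent K ⊓ twistedD4 K q) ^ 1 = q ^ (chevD4.nroots / 2) at hu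
  rw [pow_one, show chevD4.nroots / 2 = 12 from rfl] at hu
  rw [h, hu, S.card_H, polyEqb_sound q _ _ piExps_ws]
  have := S.hq
  obtain ⟨n, rfl⟩ : ∃ n, q = n + 1 := ⟨q - 1, by omega⟩
  rw [Nat.add_sub_cancel, show (n + 1) ^ 2 - 1 = n * (n + 2) by
      rw [show (n + 1) ^ 2 = n * (n + 2) + 1 by ring]; simp,
    show (n + 1) ^ 6 - 1 = n * ((n + 1) ^ 5 + (n + 1) ^ 4 + (n + 1) ^ 3 + (n + 1) ^ 2 + (n + 1) + 1) by
      rw [show (n + 1) ^ 6 = n * ((n + 1) ^ 5 + (n + 1) ^ 4 + (n + 1) ^ 3 + (n + 1) ^ 2 + (n + 1) + 1) + 1 by ring]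
      simp]
  simp only [polyEval]
  ring

theorem Setup.exists_weyl_hom :
    ∃ φ : ↥(chevD4.monomialSubgroup K ⊓ twistedD4 K q) →* (CoxeterMatrix.G₂).Group, Function.Surjective φ ∧
      φ.ker = (chevD4.diagonalSubgroup K ⊓ twistedD4 K q).subgroupOf (chevD4.monomialSubgroup K ⊓ twistedD4 K q) := by
  have : Finite (CoxeterMatrix.G₂ : CoxeterMatrix (Fin 2)).Group := Nat.finite_of_card_ne_zero (by rw [card_coxG2]; norm_num)
  obtain ⟨ψ, hψ⟩ := S.data.exists_coxHom _ okRel_G2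
  exact S.data.exists_N1_hom'
    ((card_coxG2.trans rfl).trans (S.data.card_piW okPi_ws).symm) ψ hψ

end Cfsg.Agent.Lie.D4
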