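import Cfsg.Agent.Lib.Lie.TwistF4H
import Cfsg.Agent.Lib.Lie.TwistCount

/-!
The twisted Weyl group of type ²F₄, and the order of the groups.
-/

set_option autoImplicit false
set_option maxRecDepth 4000

namespace Cfsg.Agent.Lie.F4

open Cfsg.Lie Matrix

/-- A map out of a dihedral group. -/
theorem exists_dihedralHom {W : Type*} [Group W] {n : ℕ} {a x : W} (hx : x ^ n = 1) (ha : a * a = 1)
    (hax : a * x * a = x⁻¹) :
    ∃ φ : DihedralGroup n →* W, φ (DihedralGroup.r 1) = x ∧ φ (DihedralGroup.sr 0) = a := by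
  let p : ZMod n →+ Additive W := ZMod.lift n ⟨zmultiplesHom (Additive W) (Additive.ofMul x), by
    rw [zmultiplesHom_apply, natCast_zsmul, ← ofMul_pow, hx, ofMul_one]⟩
  let f : ZMod n → W := fun i => Additive.toMul (p i)
  have fadd : ∀ i j, f (i + j) = f i * f j := fun i j => by simp [f, toMul_add]
  have fneg : ∀ i, f (-i) = (f i)⁻¹ := fun i => by simp [f, toMul_neg]
  have fz : ∀ z : ℤ, f z = x ^ z := fun z => by
    simp [f, p, ZMod.lift_coe, toMul_zsmul]
  have fc : ∀ i, a * f i * a = (f i)⁻¹ := by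
    intro i
    obtain ⟨z, rfl⟩ := ZMod.intCast_surjective i
    rw [fz]
    have hc := conj_zpow (i := z) (a := a) (b := x)
    rw [show a⁻¹ = a from inv_eq_of_mul_eq_one_left ha, hax] at hc
    rw [← hc, _root_.inv_zpow]
  have ff : ∀ i, f i * a = a * (f i)⁻¹ := fun i => by
    rw [← fc i, ← mul_assoc, ← mul_assoc, ha, one_mul]
  refine ⟨MonoidHom.mk' (fun g => match g with
    | DihedralGroup.r i => f i
    | DihedralGroup.sr i => a * f i) ?_, ?_, ?_⟩
  · rintro (i | i) (j | j)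
    · simp only [DihedralGroup.r_mul_r, fadd]
    · simp only [DihedralGroup.r_mul_sr]
      rw [← mul_assoc, ff, mul_assoc, sub_eq_neg_add, fadd, fneg]
    · simp only [DihedralGroup.sr_mul_r, fadd, mul_assoc]
    · simp only [DihedralGroup.sr_mul_sr]
      rw [← mul_assoc, mul_assoc a, ff, ← mul_assoc, ha, one_mul, sub_eq_neg_add, fadd, fneg]
  · show f 1 = x
    have := fz 1
    rw [Int.cast_one, zpow_one] at this
    exact this
  · show a * f 0 = a
    have := fz 0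
    rw [Int.cast_zero, zpow_zero] at this
    rw [this, mul_one]

/-- The elements of the twisted Weyl group. -/
def ws : List (List ℕ) := [[], [0], [1], [0, 1], [1, 0], [0, 1, 0], [1, 0, 1], [0, 1, 0, 1], [1, 0, 1, 0],
  [0, 1, 0, 1, 0], [1, 0, 1, 0, 1], [0, 1, 0, 1, 0, 1], [1, 0, 1, 0, 1, 0], [0, 1, 0, 1, 0, 1, 0],
  [1, 0, 1, 0, 1, 0, 1], [0, 1, 0, 1, 0, 1, 0, 1]]

theorem okPi_ws : okPi chevF4 Os ws = true := by decide +kernel

theorem div_ws : ws.all (fun w => negCnt chevF4 ((orbWord chevF4 Os w).map Fin.val) % 2 == 0) = true := by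
  decide +kernel

theorem piExps_ws : polyEqb (polyOf (piExps chevF4 Os 2 ws))
    (polyProd [[1, 0, 0, 1], polyGeom 4, [1, 0, 0, 0, 0, 0, 1]]) = true := by decide +kernel

theorem rel_ws : (wKey chevF4 ((orbWord chevF4 Os (altPow 0 1 8)).map Fin.val) == wKey chevF4 []) = true := by
  decide +kernel

variable {K : Type*} [Field K] [Fintype K] {m : ℕ} (S : Setup K m)

include S

theorem Setup.card_group : Nat.card ↥(twistedF4 K (2 ^ m)) =
    (2 ^ (2 * m + 1)) ^ 12 * (2 ^ (2 * m + 1) - 1) * ((2 ^ (2 * m + 1)) ^ 3 + 1) * ((2 ^ (2 * m + 1)) ^ 4 - 1) *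
      ((2 ^ (2 * m + 1)) ^ 6 + 1) := by
  have h := S.data.card_G1_list okPi_ws div_ws
  change Nat.card ↥(twistedF4 K (2 ^ m)) = Nat.card ↥(chevF4.posUnipotent K ⊓ twistedF4 K (2 ^ m)) *
    Nat.card ↥(chevF4.diagonalSubgroup K ⊓ twistedF4 K (2 ^ m)) *
      polyEval (2 ^ (2 * m + 1)) (polyOf (piExps chevF4 Os 2 ws)) at h
  have hu := S.data.card_U
  change Nat.card ↥(chevF4.posUnipotent K ⊓ twistedF4 K (2 ^ m)) ^ 2 =
    (2 ^ (2 * m + 1)) ^ (chevF4.nroots / 2) at hu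
  rw [show chevF4.nroots / 2 = 12 * 2 from rfl, pow_mul _ 12 2] at hu
  rw [h, Nat.pow_left_injective two_ne_zero hu, S.card_H, polyEqb_sound _ _ _ piExps_ws, polyEval_prod]
  simp only [List.map_cons, List.map_nil, List.prod_cons, List.prod_nil, polyEval_geom, polyEval,
    Finset.sum_range_succ, Finset.sum_range_zero]
  generalize hQ : 2 ^ (2 * m + 1) = Q
  have hQ1 : 1 ≤ Q := hQ ▸ Nat.one_le_two_pow
  obtain ⟨n, rfl⟩ : ∃ n, Q = n + 1 := ⟨Q - 1, by omega⟩
  rw [Nat.add_sub_cancel, show (n + 1) ^ 4 - 1 = n * ((n + 1) ^ 3 + (n + 1) ^ 2 + (n + 1) + 1) by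
      rw [show (n + 1) ^ 4 = n * ((n + 1) ^ 3 + (n + 1) ^ 2 + (n + 1) + 1) + 1 by ring]
      simp]
  ring

theorem Setup.exists_weyl_hom :
    ∃ φ : ↥(chevF4.monomialSubgroup K ⊓ twistedF4 K (2 ^ m)) →* DihedralGroup 8, Function.Surjective φ ∧
      φ.ker = (chevF4.diagonalSubgroup K ⊓ twistedF4 K (2 ^ m)).subgroupOf
        (chevF4.monomialSubgroup K ⊓ twistedF4 K (2 ^ m)) := by
  have hω : ∀ k, k < Os.length → Os.getD k [] ∈ Os := fun k hk => by
    rw [List.getD_eq_getElem _ _ hk]; exact List.getElem_mem hk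
  let g : ℕ → ↥S.data.piW := fun k => if hk : k < Os.length then
    ⟨factsF4.refSys.pr (Os.getD k []), S.T.piFix_wO S.hOs (hω k hk)⟩ else 1
  have hg : ∀ k < 2, (g k : factsF4.weyl) = factsF4.refSys.pr (Os.getD k []) := fun k hk => by
    simp only [g]
    rw [dif_pos (show k < Os.length by rw [show Os.length = 2 from rfl]; exact hk)]
  have hsq : ∀ k, k < 2 → g k * g k = 1 := fun k hk => Subtype.ext (by
    rw [Subgroup.coe_mul, hg k hk]
    exact S.T.wO_sq S.hOs (hω k (by rw [show Os.length = 2 from rfl]; exact hk)))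
  have hinv : ∀ k, k < 2 → (g k)⁻¹ = g k := fun k hk => inv_eq_of_mul_eq_one_left (hsq k hk)
  have hpow : (g 0 * g 1) ^ 8 = 1 := by
    refine Subtype.ext ?_
    rw [SubgroupClass.coe_pow, Subgroup.coe_mul, hg 0 (by norm_num), hg 1 (by norm_num),
      ← S.data.pr_altPow_orb, factsF4.pr_eq_of_key (ω' := []) (beq_iff_eq.1 rel_ws), RefSystem.pr_nil]
    rfl
  obtain ⟨ψ, hr, hs⟩ := exists_dihedralHom hpow (hsq 0 (by norm_num)) (by
    rw [_root_.mul_inv_rev, hinv 0 (by norm_num), hinv 1 (by norm_num), ← mul_assoc, hsq 0 (by norm_num), one_mul])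
  have hg0 : ∃ z, ψ z = g 0 := ⟨_, hs⟩
  have hg1 : ∃ z, ψ z = g 1 := ⟨DihedralGroup.sr 0 * DihedralGroup.r 1, by
    rw [map_mul, hs, hr, ← mul_assoc, hsq 0 (by norm_num), one_mul]⟩
  have hsurj : Function.Surjective ψ := by
    suffices hsuff : ∀ v : factsF4.weyl, S.T.PiFix v → ∃ z, (ψ z : factsF4.weyl) = v by
      intro w
      obtain ⟨z, hz⟩ := hsuff w.1 w.2
      exact ⟨z, Subtype.ext hz⟩
    refine S.T.piFix_induction S.hOs ⟨1, by rw [map_one]; rfl⟩ ?_
    rintro ω hω' v - - - - ⟨z, rfl⟩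
    obtain ⟨k, hk, rfl⟩ := List.mem_iff_getElem.1 hω'
    have hk2 : k < 2 := by rw [show Os.length = 2 from rfl] at hk; exact hk
    obtain ⟨y, hy⟩ : ∃ y, ψ y = g k := by
      rcases k with _ | _ | k
      · exact hg0
      · exact hg1
      · omega
    refine ⟨z * y, ?_⟩
    rw [map_mul, Subgroup.coe_mul, hy, hg k hk2, List.getD_eq_getElem _ _ hk]
    rfl
  exact S.data.exists_N1_hom' ((DihedralGroup.nat_card).trans (S.data.card_piW okPi_ws).symm) ψ hsurj

end Cfsg.Agent.Lie.F4
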