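import Cfsg.Agent.Lib.Lie.TwistG2H
import Cfsg.Agent.Lib.Lie.TwistCount

/-!
The twisted Weyl group of type ²G₂, the unipotent subgroup, and the order of the groups.
-/

set_option autoImplicit false
set_option maxRecDepth 4000

namespace Cfsg.Agent.Lie.G2

open Cfsg.Lie Matrix Twist
open scoped MatrixGroups

/-- The elements of the twisted Weyl group. -/
def ws : List (List ℕ) := [[], [0]]

theorem okPi_ws : okPi chevG2 Os ws = true := by decide +kernel

theorem div_ws : ws.all (fun w => negCnt chevG2 ((orbWord chevG2 Os w).map Fin.val) % 2 == 0) = true := by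
  decide +kernel

theorem piExps_ws : polyEqb (polyOf (piExps chevG2 Os 2 ws)) (polyProd [[1, 0, 0, 1]]) = true := by decide +kernel

variable {K : Type*} [Field K] [Fintype K] {m : ℕ} (S : Setup K m)

include S

theorem Setup.card_U : Nat.card ↥(chevG2.posUnipotent K ⊓ twistedG2 K (3 ^ m)) = (3 ^ (2 * m + 1)) ^ 3 := by
  have hu := S.data.card_U
  change Nat.card ↥(chevG2.posUnipotent K ⊓ twistedG2 K (3 ^ m)) ^ 2 =
    (3 ^ (2 * m + 1)) ^ (chevG2.nroots / 2) at hu
  rw [show chevG2.nroots / 2 = 3 * 2 from rfl, pow_mul _ 3 2] at hu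
  exact Nat.pow_left_injective two_ne_zero hu

theorem Setup.card_group : Nat.card ↥(twistedG2 K (3 ^ m)) =
    (3 ^ (2 * m + 1)) ^ 3 * (3 ^ (2 * m + 1) - 1) * ((3 ^ (2 * m + 1)) ^ 3 + 1) := by
  have h := S.data.card_G1_list okPi_ws div_ws
  change Nat.card ↥(twistedG2 K (3 ^ m)) = Nat.card ↥(chevG2.posUnipotent K ⊓ twistedG2 K (3 ^ m)) *
    Nat.card ↥(chevG2.diagonalSubgroup K ⊓ twistedG2 K (3 ^ m)) *
      polyEval (3 ^ (2 * m + 1)) (polyOf (piExps chevG2 Os 2 ws)) at h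
  rw [h, S.card_U, S.card_H, polyEqb_sound _ _ _ piExps_ws, polyEval_prod]
  simp only [List.map_cons, List.map_nil, List.prod_cons, List.prod_nil, polyEval]
  ring

theorem Setup.exists_weyl_hom :
    ∃ φ : ↥(chevG2.monomialSubgroup K ⊓ twistedG2 K (3 ^ m)) →* Multiplicative (ZMod 2), Function.Surjective φ ∧
      φ.ker = (chevG2.diagonalSubgroup K ⊓ twistedG2 K (3 ^ m)).subgroupOf
        (chevG2.monomialSubgroup K ⊓ twistedG2 K (3 ^ m)) := by
  have hp : Nat.card ↥S.data.piW = 2 := S.data.card_piW okPi_ws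
  have h2 : Nat.card (Multiplicative (ZMod 2)) = 2 := by
    rw [Nat.card_congr Multiplicative.toAdd, Nat.card_zmod]
  haveI : Fact (Nat.Prime 2) := ⟨Nat.prime_two⟩
  let e : Multiplicative (ZMod 2) ≃* ↥S.data.piW := mulEquivOfPrimeCardEq h2 hp
  exact S.data.exists_N1_hom' (h2.trans hp.symm) e.toMonoidHom e.surjective

theorem Setup.mem_U_iff (g : GL chevG2.Idx K) :
    g ∈ chevG2.posUnipotent K ⊓ twistedG2 K (3 ^ m) ↔ ∃ t u v : K,
      (g : Matrix chevG2.Idx chevG2.Idx K) = chevG2.wordMat K (reeWordU (3 ^ m) t u v) := by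
  have hU : (factsG2.tsys K).US [6, 7, 8, 9, 10, 11] = chevG2.posUnipotent K := by
    rw [← factsG2.tsys_U]; rfl
  constructor
  · rintro ⟨h1, h2⟩
    obtain ⟨t, u, v, rfl⟩ := S.fix_pos (hU ▸ h1) (S.le_fix h2)
    exact ⟨t, u, v, by rw [← S.wg_U, factsG2.coe_wg]⟩
  · rintro ⟨t, u, v, h⟩
    rw [show g = N3 (posRel S.h3) m t u v from Units.ext (by rw [h, ← S.wg_U, factsG2.coe_wg])]
    exact ⟨hU ▸ S.N3_mem_US t u v, S.pos_mem t u v⟩

end Cfsg.Agent.Lie.G2
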