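import Mathlib
import Cfsg.Prelude.Def_CaseTheorems
import Cfsg.Prelude.Def_Local
import Cfsg.Agent.Lib.Solv.Component
import Cfsg.Agent.Lib.Solv.Generation
import Cfsg.Agent.Lib.Fusion.Cores

/-!
A standard subgroup with small centralizer commutes with the core.
-/

set_option autoImplicit false
set_option linter.style.haveILetI false
set_option linter.unusedSectionVars false

namespace Cfsg.Agent.Lie.StandardCore

open scoped commutatorElement

universe u

/-- in a perfect group an element whose commutators are central is central -/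
theorem central_of_commutators {L : Type u} [Group L] (hp : commutator L = ⊤) {a : L}
    (h : ∀ x : L, a * x * a⁻¹ * x⁻¹ ∈ Subgroup.center L) : a ∈ Subgroup.center L := by
  letI : CommGroup (Subgroup.center L) :=
    { (inferInstance : Group (Subgroup.center L)) with
      mul_comm := fun u v => Subtype.ext (Subgroup.mem_center_iff.1 v.2 u.1) }
  let f : L →* Subgroup.center L :=
    { toFun := fun x => ⟨_, h x⟩
      map_one' := Subtype.ext (by simp)
      map_mul' := fun x y => Subtype.ext (by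
        show a * (x * y) * a⁻¹ * (x * y)⁻¹ = a * x * a⁻¹ * x⁻¹ * (a * y * a⁻¹ * y⁻¹)
        calc a * (x * y) * a⁻¹ * (x * y)⁻¹ = a * x * a⁻¹ * ((a * y * a⁻¹ * y⁻¹) * x⁻¹) := by group
          _ = a * x * a⁻¹ * (x⁻¹ * (a * y * a⁻¹ * y⁻¹)) := by rw [Subgroup.mem_center_iff.1 (h y) x⁻¹]
          _ = _ := by group) }
  have hf : ∀ x, f x = 1 := fun x =>
    MonoidHom.mem_ker.1 (Abelianization.commutator_subset_ker f (hp ▸ Subgroup.mem_top x))
  refine Subgroup.mem_center_iff.2 fun x => ?_
  have h1 : a * x * a⁻¹ * x⁻¹ = 1 := congrArg Subtype.val (hf x)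
  exact (mul_inv_eq_iff_eq_mul.1 (mul_inv_eq_one.1 h1)).symm

variable {X : Type u} [Group X] [Finite X] {P : Subgroup X}

/-- a subgroup of rank one has no two commuting involutions -/
theorem unique_of_commute {C : Subgroup X} (hr : Cfsg.PRankLE 2 1 ↥C) {u v : X} (hu : u ∈ C) (hv : v ∈ C)
    (huu : u * u = 1) (hvv : v * v = 1) (hc : Commute u v) (hu1 : u ≠ 1) (hv1 : v ≠ 1) : u = v := by
  classical
  by_contra hne
  let a : C := ⟨u, hu⟩
  let b : C := ⟨v, hv⟩
  have haa : a * a = 1 := Subtype.ext huu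
  have hbb : b * b = 1 := Subtype.ext hvv
  have hab : b * a = a * b := Subtype.ext hc.eq.symm
  have h1 : a * (a * b) = b := by rw [← mul_assoc, haa, one_mul]
  have h2 : b * (a * b) = a := by rw [← mul_assoc, hab, mul_assoc, hbb, mul_one]
  have h3 : a * b * a = b := by rw [mul_assoc, hab, h1]
  have h4 : a * b * b = a := by rw [mul_assoc, hbb, mul_one]
  have h5 : a * b * (a * b) = 1 := by rw [mul_assoc, h2, haa]
  let A : Subgroup C :=
    { carrier := {1, a, b, a * b}
      one_mem' := by simp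
      mul_mem' := by
        rintro x y (rfl | rfl | rfl | rfl) (rfl | rfl | rfl | rfl) <;>
          simp [haa, hbb, hab, h1, h2, h3, h4, h5]
      inv_mem' := by
        rintro x (rfl | rfl | rfl | rfl) <;>
          simp [inv_eq_of_mul_eq_one_right haa, inv_eq_of_mul_eq_one_right hbb, hab] }
  have hpow : ∀ x ∈ A, x ^ 2 = 1 := by
    rintro x (rfl | rfl | rfl | rfl) <;> simp [sq, haa, hbb, h5]
  have hcomm : IsMulCommutative A := ⟨⟨fun x y => by
    obtain ⟨x, hx⟩ := x
    obtain ⟨y, hy⟩ := y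
    refine Subtype.ext ?_
    show x * y = y * x
    rcases hx with rfl | rfl | rfl | rfl <;> rcases hy with rfl | rfl | rfl | rfl <;>
      simp [hab, h1, h2, h3, h4]⟩⟩
  have hle := hr A hcomm hpow
  have ha1 : a ≠ 1 := fun e => hu1 (congrArg Subtype.val e)
  have hb1 : b ≠ 1 := fun e => hv1 (congrArg Subtype.val e)
  have hne' : a ≠ b := fun e => hne (congrArg Subtype.val e)
  have h4card : Nat.card A = 4 := by
    rw [show Nat.card A = Nat.card ({1, a, b, a * b} : Set C) from rfl, Nat.card_coe_set_eq]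
    have hab1 : a * b ≠ 1 := fun e => hne' (by rw [← mul_one a, ← hbb, ← mul_assoc, e, one_mul])
    rw [Set.ncard_insert_of_notMem (by simp [Ne.symm ha1, Ne.symm hb1, Ne.symm hab1]),
      Set.ncard_insert_of_notMem (by simp [hne', hb1]),
      Set.ncard_pair (by simp [ha1])]
  omega

/-- an element centralizing a non-trivial element of the centralizer normalizes it -/
theorem tight_normalizes (hP : Cfsg.IsStandardSubgroup P) {t h : X} (ht : orderOf t = 2)
    (htC : t ∈ Subgroup.centralizer (P : Set X)) (hc : Commute h t) :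
    h ∈ Subgroup.normalizer (P : Set X) := by
  rw [hP.2.2.2]
  by_contra hn
  have hodd := hP.2.1.2 h hn
  set M := Subgroup.centralizer (P : Set X) ⊓ (Subgroup.centralizer (P : Set X)).map (MulAut.conj h).toMonoidHom
  have htM : t ∈ M := ⟨htC, t, htC, by simp [hc.eq]⟩
  have hd := Subgroup.orderOf_dvd_natCard M htM
  rw [ht] at hd
  exact (Nat.not_even_iff_odd.2 hodd) (even_iff_two_dvd.2 hd)

/-- centralizers of involutions generate a group of odd order acted on by a four group -/
theorem le_of_four {t t' : X} (htt : t * t = 1) (ht't' : t' * t' = 1) (hc : Commute t t') (ht1 : t ≠ 1)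
    (ht'1 : t' ≠ 1) (hne : t ≠ t') {O J : Subgroup X} [O.Normal] (hO : Odd (Nat.card O))
    (h1 : ∀ x ∈ O, Commute x t → x ∈ J) (h2 : ∀ x ∈ O, Commute x t' → x ∈ J)
    (h3 : ∀ x ∈ O, Commute x (t * t') → x ∈ J) : O ≤ J := by
  classical
  have e1 : t * (t * t') = t' := by rw [← mul_assoc, htt, one_mul]
  have e2 : t' * (t * t') = t := by rw [← mul_assoc, hc.symm.eq, mul_assoc, ht't', mul_one]
  have e3 : t * t' * t = t' := by rw [mul_assoc, hc.symm.eq, e1]
  have e4 : t * t' * t' = t := by rw [mul_assoc, ht't', mul_one]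
  have e5 : t * t' * (t * t') = 1 := by rw [mul_assoc, e2, htt]
  let A : Subgroup X :=
    { carrier := {1, t, t', t * t'}
      one_mem' := by simp
      mul_mem' := by
        rintro x y (rfl | rfl | rfl | rfl) (rfl | rfl | rfl | rfl) <;>
          simp [htt, ht't', hc.symm.eq, e1, e2, e3, e4, e5]
      inv_mem' := by
        rintro x (rfl | rfl | rfl | rfl) <;>
          simp [inv_eq_of_mul_eq_one_right htt, inv_eq_of_mul_eq_one_right ht't', hc.symm.eq] }
  have hA : IsMulCommutative A := ⟨⟨fun x y => by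
    obtain ⟨x, hx⟩ := x
    obtain ⟨y, hy⟩ := y
    refine Subtype.ext ?_
    show x * y = y * x
    rcases hx with rfl | rfl | rfl | rfl <;> rcases hy with rfl | rfl | rfl | rfl <;>
      simp [hc.symm.eq, e1, e2, e3, e4]⟩⟩
  have h4 : Nat.card A = 4 := by
    rw [show Nat.card A = Nat.card ({1, t, t', t * t'} : Set X) from rfl, Nat.card_coe_set_eq]
    have h11 : t * t' ≠ 1 := fun e => hne (by rw [← mul_one t, ← ht't', ← mul_assoc, e, one_mul])
    rw [Set.ncard_insert_of_notMem (by simp [Ne.symm ht1, Ne.symm ht'1, Ne.symm h11]),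
      Set.ncard_insert_of_notMem (by simp [hne, ht'1]),
      Set.ncard_pair (by simp [ht1])]
  have hgen := Solv.gen_eq A O hA (by rw [Subgroup.normalizer_eq_top]; exact le_top) (by
    rw [h4, show (4 : ℕ) = 2 ^ 2 by norm_num]
    exact (Nat.coprime_two_left.2 hO).pow_left 2)
  rw [← hgen]
  refine iSup₂_le fun B hB => ?_
  obtain ⟨hBA, a, ha, hBa⟩ := hB
  obtain ⟨b, hbB, hb1⟩ : ∃ b ∈ B, b ≠ 1 := by
    by_contra! hall
    rw [(Subgroup.eq_bot_iff_forall B).2 hall, bot_sup_eq] at hBa
    have h5 : Nat.card A = orderOf a := by rw [← hBa, Nat.card_zpowers]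
    have h6 : orderOf a ∣ 2 := orderOf_dvd_of_pow_eq_one (by
      rcases ha with rfl | rfl | rfl | rfl <;> simp [sq, htt, ht't', e5])
    have := Nat.le_of_dvd (by norm_num) h6
    omega
  rintro x ⟨hxO, hxB⟩
  have hxb : Commute x b := (Subgroup.mem_centralizer_iff.1 hxB b hbB).symm
  rcases hBA hbB with rfl | rfl | rfl | rfl
  · exact absurd rfl hb1
  · exact h1 x hxO hxb
  · exact h2 x hxO hxb
  · exact h3 x hxO hxb

theorem main (hP : Cfsg.IsStandardSubgroup P)
    (hr : Cfsg.PRankLE 2 1 ↥(Subgroup.centralizer (P : Set X))) (hZ : Odd (Nat.card ↥(Subgroup.center ↥P)))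
    {N : Subgroup X} (hN : N = Subgroup.normalizer (P : Set X)) (S : Sylow 2 ↥N) (t : X) (ht : orderOf t = 2)
    (htS : t ∈ (S : Subgroup ↥N).map N.subtype)
    (htP : t ∈ Subgroup.centralizer (P : Set X)) (g : X)
    (hgN : ∀ s ∈ (S : Subgroup ↥N).map N.subtype,
      g * s * g⁻¹ ∈ (S : Subgroup ↥N).map N.subtype)
    (hgS : g ∉ (S : Subgroup ↥N).map N.subtype)
    (hg2 : g ^ 2 ∈ (S : Subgroup ↥N).map N.subtype)
    (hgt : g * t * g⁻¹ ∈ P ⊔ Subgroup.centralizer (P : Set X)) :
    P ≤ Subgroup.centralizer (Cfsg.oddCore X : Set X) ∧ ¬ P ≤ Cfsg.oddCore X := by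
  classical
  haveI : Fact (Nat.Prime 2) := ⟨Nat.prime_two⟩
  set T : Subgroup X := (S : Subgroup N).map N.subtype with hT
  set C := Subgroup.centralizer (P : Set X) with hC
  have hTp : IsPGroup 2 T := S.isPGroup'.map _
  have hTN : T ≤ N := Subgroup.map_subtype_le _
  have htt : t * t = 1 := by rw [← sq, ← ht, pow_orderOf_eq_one]
  have ht1 : t ≠ 1 := fun e => by rw [e, orderOf_one] at ht; norm_num at ht
  have hPC : ∀ a ∈ P, ∀ c ∈ C, Commute a c := fun a ha c hc => Subgroup.mem_centralizer_iff.1 hc a ha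
  -- the only involution of `C ⊓ T`
  have huniq : ∀ v ∈ C, v ∈ T → v * v = 1 → v ≠ 1 → v = t := by
    obtain ⟨z, hzc, hz2⟩ : ∃ z : (C ⊓ T : Subgroup X), z ∈ Subgroup.center _ ∧ orderOf z = 2 := by
      have hp : IsPGroup 2 (C ⊓ T : Subgroup X) := hTp.to_le inf_le_right
      haveI : Nontrivial (C ⊓ T : Subgroup X) :=
        ⟨⟨⟨t, htP, htS⟩, 1, fun e => ht1 (congrArg Subtype.val e)⟩⟩
      haveI := hp.center_nontrivial
      obtain ⟨k, hk0, hk⟩ := (hp.to_subgroup (Subgroup.center _)).nontrivial_iff_card.1 inferInstance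
      obtain ⟨z, hz⟩ := exists_prime_orderOf_dvd_card' (G := Subgroup.center (C ⊓ T : Subgroup X)) 2
        (hk ▸ dvd_pow_self 2 hk0.ne')
      exact ⟨z, z.2, by rw [← hz, Subgroup.orderOf_coe]⟩
    have hz : ∀ v ∈ C, v ∈ T → v * v = 1 → v ≠ 1 → v = (z : X) := by
      intro v hvC hvT hvv hv1
      refine unique_of_commute hr hvC z.2.1 hvv ?_ ?_ hv1 ?_
      · have := pow_orderOf_eq_one z
        rw [hz2, sq] at this
        exact congrArg Subtype.val this
      · exact congrArg Subtype.val (Subgroup.mem_center_iff.1 hzc ⟨v, hvC, hvT⟩)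
      · intro e
        have : z = 1 := Subtype.ext e
        rw [this, orderOf_one] at hz2
        norm_num at hz2
    intro v hvC hvT hvv hv1
    rw [hz v hvC hvT hvv hv1, hz t htP htS htt ht1]
  have hcent : ∀ s ∈ T, Commute t s := by
    intro s hs
    have hsC : s ∈ Subgroup.normalizer (C : Set X) := by
      rw [hC, ← hP.2.2.2, ← hN]
      exact hTN hs
    have h := huniq (s * t * s⁻¹) ((Subgroup.mem_normalizer_iff.1 hsC t).1 htP)
      (T.mul_mem (T.mul_mem hs htS) (T.inv_mem hs)) (by rw [conj_mul, htt]; group)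
      (fun e => ht1 (conj_eq_one_iff.1 e))
    exact (mul_inv_eq_iff_eq_mul.1 h).symm
  set t' := g * t * g⁻¹ with ht'
  have ht'T : t' ∈ T := hgN t htS
  have ht't' : t' * t' = 1 := by rw [ht', conj_mul, htt]; group
  have ht'1 : t' ≠ 1 := fun e => ht1 (conj_eq_one_iff.1 e)
  have hne : t ≠ t' := by
    intro e
    have hgNP : g ∈ N := hN ▸ tight_normalizes hP ht htP (mul_inv_eq_iff_eq_mul.1 e.symm)
    set g' : N := ⟨g, hgNP⟩
    have hnorm : Subgroup.zpowers g' ≤ Subgroup.normalizer ((S : Subgroup N) : Set N) := by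
      refine (Subgroup.zpowers_le).2 ?_
      have hle : (S : Subgroup N).map (MulAut.conj g').toMonoidHom ≤ (S : Subgroup N) := by
        rintro _ ⟨s, hs, rfl⟩
        obtain ⟨s', hs', hs''⟩ := hgN s ⟨s, hs, rfl⟩
        show g' * s * g'⁻¹ ∈ (S : Subgroup N)
        rwa [show g' * s * g'⁻¹ = s' from Subtype.ext hs''.symm]
      have heq := Subgroup.eq_of_le_of_card_ge hle
        (Subgroup.card_map_of_injective (MulEquiv.injective _)).ge
      refine Subgroup.mem_normalizer_iff.2 fun x => ⟨fun hx => hle ⟨x, hx, rfl⟩, fun hx => ?_⟩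
      rw [← heq] at hx
      obtain ⟨y, hy, hyx⟩ := hx
      have hyx' : g' * y * g'⁻¹ = g' * x * g'⁻¹ := hyx
      rwa [← mul_left_cancel (mul_right_cancel hyx')]
    have hzp : IsPGroup 2 (Subgroup.zpowers g') := by
      obtain ⟨k, hk⟩ := IsPGroup.iff_orderOf.1 hTp ⟨g ^ 2, hg2⟩
      rw [Subgroup.orderOf_mk] at hk
      have hd : orderOf g' ∣ 2 ^ (k + 1) := orderOf_dvd_of_pow_eq_one (Subtype.ext (by
        rw [Subgroup.coe_pow, OneMemClass.coe_one, pow_succ', pow_mul]
        show (g ^ 2) ^ 2 ^ k = 1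
        rw [← hk, pow_orderOf_eq_one]))
      obtain ⟨j, -, hj⟩ := (Nat.dvd_prime_pow Nat.prime_two).1 hd
      exact IsPGroup.of_card (n := j) (by rw [Nat.card_zpowers, hj])
    have hmax := S.is_maximal' (S.isPGroup'.to_sup_of_normal_left' hzp hnorm) le_sup_left
    exact hgS ⟨g', hmax.le (Subgroup.mem_sup_right (Subgroup.mem_zpowers g')), rfl⟩
  have hcomm : Commute t t' := hcent t' ht'T
  -- decompose `t'`
  obtain ⟨a, ha, b, hb, hab⟩ : ∃ a ∈ P, ∃ b ∈ C, a * b = t' := by
    let M : Subgroup X :=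
      { carrier := {x | ∃ a ∈ P, ∃ b ∈ C, a * b = x}
        one_mem' := ⟨1, P.one_mem, 1, C.one_mem, one_mul 1⟩
        mul_mem' := by
          rintro _ _ ⟨a, ha, b, hb, rfl⟩ ⟨c, hc, d, hd, rfl⟩
          exact ⟨a * c, P.mul_mem ha hc, b * d, C.mul_mem hb hd, (hPC c hc b hb).mul_mul_mul_comm a d⟩
        inv_mem' := by
          rintro _ ⟨a, ha, b, hb, rfl⟩
          exact ⟨a⁻¹, P.inv_mem ha, b⁻¹, C.inv_mem hb, by
            rw [mul_inv_rev, ((hPC a ha b hb).inv_inv).eq]⟩ }
    have hle : P ⊔ C ≤ M := sup_le (fun x hx => ⟨x, hx, 1, C.one_mem, mul_one x⟩)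
      fun x hx => ⟨1, P.one_mem, x, hx, one_mul x⟩
    exact hle hgt
  obtain ⟨a, ha, b, hb, hab, haa, hbb⟩ : ∃ a ∈ P, ∃ b ∈ C, a * b = t' ∧ a * a = 1 ∧ b * b = 1 := by
    obtain ⟨m, hm⟩ := hZ
    have hsq : a * a * (b * b) = 1 := by
      rw [← (hPC a ha b hb).symm.mul_mul_mul_comm a b, hab, ht't']
    have haz : (⟨a * a, P.mul_mem ha ha⟩ : P) ∈ Subgroup.center P := by
      refine Subgroup.mem_center_iff.2 fun x => Subtype.ext ?_
      show (x : X) * (a * a) = a * a * x
      rw [mul_eq_one_iff_eq_inv.1 hsq]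
      exact (hPC x x.2 _ (C.inv_mem (C.mul_mem hb hb))).eq
    have hk : (a * a) ^ (2 * m + 1) = 1 := by
      have := pow_card_eq_one' (G := Subgroup.center P) (x := ⟨_, haz⟩)
      rw [hm] at this
      exact congrArg (fun v : Subgroup.center P => ((v : P) : X)) this
    have hk' : (b * b) ^ (2 * m + 1) = 1 := by
      have : b * b = (a * a)⁻¹ := (inv_eq_of_mul_eq_one_right hsq).symm
      rw [this, inv_pow, hk, inv_one]
    refine ⟨a ^ (2 * m + 1), P.pow_mem ha _, b ^ (2 * m + 1), C.pow_mem hb _, ?_, ?_, ?_⟩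
    · rw [← (hPC a ha b hb).mul_pow, hab, pow_succ, pow_mul, sq, ht't', one_pow, one_mul]
    · rw [← (Commute.refl a).mul_pow, hk]
    · rw [← (Commute.refl b).mul_pow, hk']
  have hb1 : b = 1 ∨ b = t := by
    by_cases hb' : b = 1
    · exact Or.inl hb'
    · refine Or.inr (unique_of_commute hr hb htP hbb htt ?_ hb' ht1)
      have hbe : b = a⁻¹ * t' := by rw [← hab, inv_mul_cancel_left]
      rw [hbe]
      exact ((hPC a ha t htP).inv_left).mul_left hcomm.symm
  have ha1 : a ≠ 1 := by
    rintro rfl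
    rw [one_mul] at hab
    rcases hb1 with e | e
    · exact ht'1 (hab.symm.trans e)
    · exact hne (e.symm.trans hab)
  have ha2 : orderOf a = 2 := orderOf_eq_prime (by rw [sq, haa]) ha1
  have hta : Commute t a := (hPC a ha t htP).symm
  -- the conjugate decomposition of `t`
  have ht'' : g * t' * g⁻¹ = t := by
    rw [ht', show g * (g * t * g⁻¹) * g⁻¹ = g ^ 2 * t * (g ^ 2)⁻¹ by rw [sq]; group,
      ← (hcent _ hg2).eq, mul_inv_cancel_right]
  set a' := g * a * g⁻¹ with ha'
  have ha'cases : a' = t ∨ a' = t * t' := by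
    have h : g * a * g⁻¹ * (g * b * g⁻¹) = t := by rw [conj_mul, hab, ht'']
    rcases hb1 with rfl | rfl
    · exact Or.inl (by simpa using h)
    · right
      rw [← ha'] at h
      rw [← mul_one a', ← ht't', ← mul_assoc]
      conv_lhs => arg 1; arg 2; rw [ht']
      rw [h]
  -- the core
  set O := Cfsg.oddCore X with hO
  have hOodd : Odd (Nat.card O) := Nat.coprime_two_right.1 (Fusion.card_pPrimeCore_coprime 2 X)
  have hPO : ¬ P ≤ O := fun hle => by
    have hd := Subgroup.orderOf_dvd_natCard O (hle ha)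
    rw [ha2] at hd
    exact (Nat.not_even_iff_odd.2 hOodd) (even_iff_two_dvd.2 hd)
  refine ⟨?_, hPO⟩
  have hperf : ⁅P, P⁆ = P := Solv.qs_self_commutator hP.1
  have hOt : ∀ x ∈ O, Commute x t → x ∈ C := by
    set Ot := O ⊓ Subgroup.centralizer ({t} : Set X) with hOtdef
    have hle : ⁅P, Ot⁆ ≤ P ⊓ O := by
      refine Subgroup.commutator_le.2 fun p hp x hx => ⟨?_, ?_⟩
      · have hxN : x ∈ Subgroup.normalizer (P : Set X) := tight_normalizes hP ht htP (Subgroup.mem_centralizer_singleton_iff.1 hx.2)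
        rw [commutatorElement_def, mul_assoc p x, mul_assoc p]
        exact P.mul_mem hp ((Subgroup.mem_normalizer_iff.1 hxN _).1 (P.inv_mem hp))
      · rw [commutatorElement_def]
        exact O.mul_mem ((inferInstance : O.Normal).conj_mem x hx.1 p) (O.inv_mem hx.1)
    have hcz : ∀ y ∈ P ⊓ O, ∀ p ∈ P, p * y = y * p := by
      haveI : (O.subgroupOf P).Normal := inferInstance
      rcases Solv.qs_normal_le_center_or_top hP.1 (O.subgroupOf P) with h | h
      · exact absurd (Subgroup.subgroupOf_eq_top.1 h) hPO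
      · intro y hy p hp
        exact congrArg Subtype.val (Subgroup.mem_center_iff.1 (h (show (⟨y, hy.1⟩ : P) ∈ O.subgroupOf P from hy.2)) ⟨p, hp⟩)
    have hbot : ⁅P, Ot⁆ = ⊥ := Solv.commutator_eq_bot_of_perfect hperf (by
      rw [Subgroup.commutator_eq_bot_iff_le_centralizer]
      exact fun y hy => Subgroup.mem_centralizer_iff.2 fun p hp => hcz y (hle hy) p hp)
    intro x hx hxt
    refine Subgroup.mem_centralizer_iff.2 fun p hp => ?_
    have h1 := Subgroup.commutator_eq_bot_iff_le_centralizer.1 hbot hp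
    exact (Subgroup.mem_centralizer_iff.1 h1 x ⟨hx, Subgroup.mem_centralizer_singleton_iff.2 hxt.eq⟩).symm
  have hu : ∀ x ∈ O, Commute x (t * t') := by
    have key : ∀ x ∈ O, Commute x t → Commute x (t * t') := by
      intro x hx hxt
      have hxC := hOt x hx hxt
      have hxa : Commute x a := (hPC a ha x hxC).symm
      have hxb : Commute x b := by rcases hb1 with rfl | rfl <;> [exact Commute.one_right x; exact hxt]
      exact hxt.mul_right (hab ▸ hxa.mul_right hxb)
    intro x hx
    refine Subgroup.mem_centralizer_singleton_iff.1 (le_of_four htt ht't' hcomm ht1 ht'1 hne hOodd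
      (J := Subgroup.centralizer ({t * t'} : Set X)) (fun x hx hxt => Subgroup.mem_centralizer_singleton_iff.2 (key x hx hxt).eq)
      (fun x hx hxt' => ?_) (fun x hx h => Subgroup.mem_centralizer_singleton_iff.2 h.eq) hx)
    have h1 : Commute (g⁻¹ * x * g) t := by
      have := (Commute.conj_iff g⁻¹).2 hxt'
      rw [ht'] at this
      simpa [mul_assoc] using this
    have h2 : Commute (g⁻¹ * x * g) a :=
      (hPC a ha _ (hOt _ (by simpa using (inferInstance : O.Normal).conj_mem x hx g⁻¹) h1)).symm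
    have h3 : Commute x a' := by
      have := (Commute.conj_iff g).2 h2
      rwa [show g * (g⁻¹ * x * g) * g⁻¹ = x by group] at this
    refine Subgroup.mem_centralizer_singleton_iff.2 ?_
    rcases ha'cases with e | e
    · exact ((e ▸ h3).mul_right hxt').eq
    · exact (e ▸ h3).eq
  set K := Subgroup.centralizer (O : Set X) with hK
  haveI hKn : K.Normal := Subgroup.normal_centralizer
  obtain ⟨c, hcK, hcx⟩ : ∃ c : X, a * c ∈ K ∧ (∀ x ∈ P, Commute c x) := by
    have hmem : t * t' ∈ K := Subgroup.mem_centralizer_iff.2 fun x hx => (hu x hx).eq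
    rcases hb1 with rfl | rfl
    · refine ⟨t, ?_, fun x hx => (hPC x hx t htP).symm⟩
      rw [← mul_one a, hab, hcomm.symm.eq]
      exact hmem
    · refine ⟨1, ?_, fun x hx => Commute.one_left x⟩
      rw [mul_one]
      rw [← hab, ← mul_assoc, hta.eq, mul_assoc, htt, mul_one] at hmem
      exact hmem
  haveI : (K.subgroupOf P).Normal := inferInstance
  rcases Solv.qs_normal_le_center_or_top hP.1 (K.subgroupOf P) with h | h
  · exact Subgroup.subgroupOf_eq_top.1 h
  · exfalso
    have hmem : (⟨a, ha⟩ : P) ∈ Subgroup.center P := by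
      refine central_of_commutators hP.1.1.commutator_eq_top fun x => h ?_
      show a * (x : X) * a⁻¹ * (x : X)⁻¹ ∈ K
      have : a * (x : X) * a⁻¹ * (x : X)⁻¹ = (a * c) * ((x : X) * (a * c)⁻¹ * (x : X)⁻¹) := by
        rw [mul_inv_rev, show a * c * ((x : X) * (c⁻¹ * a⁻¹) * (x : X)⁻¹) =
          a * (c * x * c⁻¹) * a⁻¹ * (x : X)⁻¹ by group, (hcx x x.2).eq, mul_inv_cancel_right]
      rw [this]
      exact K.mul_mem hcK (hKn.conj_mem _ (K.inv_mem hcK) _)
    have hd := Subgroup.orderOf_dvd_natCard (Subgroup.center P) hmem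
    rw [Subgroup.orderOf_mk, ha2] at hd
    exact (Nat.not_even_iff_odd.2 hZ) (even_iff_two_dvd.2 hd)

theorem quasisimple_component (hperf : ⁅P, P⁆ = P)
    (hPO : P ≤ Subgroup.centralizer (Cfsg.oddCore X : Set X)) (hnot : ¬ P ≤ Cfsg.oddCore X)
    {L : Subgroup X} (hL : Cfsg.IsPComponent 2 L) (hPL : P ≤ L) : Cfsg.IsQuasisimple ↥L := by
  obtain ⟨hsn, ⟨-, hq⟩, hmin⟩ := hL
  set π := QuotientGroup.mk' (Cfsg.pPrimeCore 2 X) with hπ
  set K := Subgroup.centralizer (Cfsg.oddCore X : Set X)
  haveI : K.Normal := Subgroup.normal_centralizer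
  set φ : L →* L.map π := π.subgroupMap L
  have hφ : Function.Surjective φ := π.subgroupMap_surjective L
  have hLK : L ≤ K := by
    set H := L ⊓ K
    have hHn : (H.subgroupOf L).Normal := by
      rw [show H.subgroupOf L = K.subgroupOf L from Subgroup.inf_subgroupOf_left K L]
      infer_instance
    have hHsn : H.IsSubnormal := Subgroup.IsSubnormal.step H L inf_le_left hsn hHn
    rcases Solv.qs_normal_le_center_or_top hq (hN := (hHn.map φ hφ)) ((H.subgroupOf L).map φ) with h | h
    · have heq : H.map π = L.map π := by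
        refine le_antisymm (Subgroup.map_mono inf_le_left) fun y hy => ?_
        obtain ⟨x, hx, hxy⟩ := (h.ge (Subgroup.mem_top (⟨y, hy⟩ : L.map π)) :)
        exact ⟨x, hx, congrArg Subtype.val hxy⟩
      rw [← hmin H hHsn inf_le_left heq]
      exact inf_le_right
    · refine absurd ?_ hnot
      have hbot : P.map π = ⊥ := by
        rw [← hperf, Subgroup.map_commutator, Subgroup.commutator_eq_bot_iff_le_centralizer]
        rintro _ ⟨p, hp, rfl⟩
        refine Subgroup.mem_centralizer_iff.2 ?_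
        rintro _ ⟨q, hq', rfl⟩
        have hc := Subgroup.mem_center_iff.1 (h ⟨⟨p, hPL hp⟩, ⟨hPL hp, hPO hp⟩, rfl⟩) (φ ⟨q, hPL hq'⟩)
        exact congrArg Subtype.val hc
      rw [Subgroup.map_eq_bot_iff, hπ, QuotientGroup.ker_mk'] at hbot
      exact hbot
  have hperfL : commutator L = ⊤ := by
    have hn : ((commutator L).map L.subtype).IsSubnormal := by
      refine Subgroup.IsSubnormal.step _ L (Subgroup.map_subtype_le _) hsn ?_
      rw [show ((commutator L).map L.subtype).subgroupOf L = commutator L from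
        Subgroup.comap_map_eq_self_of_injective L.subtype_injective _]
      infer_instance
    have heq : ((commutator L).map L.subtype).map π = L.map π := by
      rw [Subgroup.map_subtype_commutator, Subgroup.map_commutator]
      exact Solv.qs_self_commutator hq
    have := hmin _ hn (Subgroup.map_subtype_le _) heq
    exact Subgroup.map_injective L.subtype_injective (this.trans (by rw [← MonoidHom.range_eq_map, Subgroup.range_subtype]))
  refine ⟨⟨hperfL⟩, ?_⟩
  haveI := hq.2
  let Ψ : L →* (L.map π) ⧸ Subgroup.center (L.map π) := (QuotientGroup.mk' _).comp φ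
  have hΨ : Function.Surjective Ψ := (QuotientGroup.mk'_surjective _).comp hφ
  have hker : Ψ.ker = Subgroup.center L := by
    refine le_antisymm (fun z hz => ?_) (fun z hz => ?_)
    · have hz' : φ z ∈ Subgroup.center (L.map π) := (QuotientGroup.eq_one_iff _).1 hz
      refine central_of_commutators hperfL fun x => Subgroup.mem_center_iff.2 fun y => Subtype.ext ?_
      have h1 : φ (z * x * z⁻¹ * x⁻¹) = 1 := by
        rw [map_mul, map_mul, map_mul, map_inv, map_inv, ← Subgroup.mem_center_iff.1 hz' (φ x),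
          mul_inv_cancel_right, mul_inv_cancel]
      have h2 : ((z * x * z⁻¹ * x⁻¹ : L) : X) ∈ Cfsg.oddCore X :=
        (QuotientGroup.eq_one_iff _).1 (congrArg Subtype.val h1)
      exact (Subgroup.mem_centralizer_iff.1 (hLK y.2) _ h2).symm
    · refine (QuotientGroup.eq_one_iff _).2 (Subgroup.mem_center_iff.2 fun w => ?_)
      obtain ⟨y, rfl⟩ := hφ w
      rw [← map_mul, ← map_mul, Subgroup.mem_center_iff.1 hz y]
  let e : L ⧸ Subgroup.center L ≃* (L.map π) ⧸ Subgroup.center (L.map π) :=
    (QuotientGroup.quotientMulEquivOfEq hker.symm).trans (QuotientGroup.quotientKerEquivOfSurjective Ψ hΨ)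
  exact e.isSimpleGroup

end Cfsg.Agent.Lie.StandardCore
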