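import Cfsg.Agent.Lib.Lie.SuzukiToriCount
import Cfsg.Agent.Lib.Lie.SuzukiPartition

/-!
# An element of odd order of a Suzuki group is conjugate to its `q`-th power
-/

set_option autoImplicit false
set_option linter.unusedSectionVars false

namespace Cfsg.Agent.Lie.Suzuki.FrobConj

open MulAction Matrix Polynomial

section Poly

variable {F : Type*} [Field F] [Fintype F] {d : ℕ}

/-- With an irreducible minimal polynomial of full degree the centraliser consists of polynomials. -/
theorem exists_aeval (hd : 0 < d) {M A : Matrix (Fin d) (Fin d) F} (hirr : Irreducible (minpoly F M))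
    (hdeg : (minpoly F M).natDegree = d) (hA : A * M = M * A) : ∃ f : F[X], aeval M f = A := by
  let v : Fin d → F := Pi.single ⟨0, hd⟩ 1
  have hv : v ≠ 0 := fun e => by simpa [v] using congrFun e ⟨0, hd⟩
  -- a nonzero polynomial of small degree does not kill `v`
  let T : (Fin d → F) →ₗ[F] (Fin d → F) :=
    { toFun := fun c => aeval M ((degreeLTEquiv F d).symm c : F[X]) *ᵥ v
      map_add' := fun a b => by simp [Matrix.add_mulVec]
      map_smul' := fun r a => by simp [Matrix.smul_mulVec] }
  have hinj : Function.Injective T := (injective_iff_map_eq_zero T).2 fun c hc => by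
    by_contra hc0
    set f : F[X] := ((degreeLTEquiv F d).symm c : F[X]) with hf
    have hf0 : f ≠ 0 := fun e => hc0 (by
      have : (degreeLTEquiv F d).symm c = 0 := Subtype.ext (by rw [← hf, e]; rfl)
      simpa using this)
    have hlt : f.degree < (d : ℕ) := mem_degreeLT.1 ((degreeLTEquiv F d).symm c).2
    have hcop : IsCoprime (minpoly F M) f := by
      refine (hirr.coprime_iff_not_dvd).2 fun hdvd => ?_
      have h1 := natDegree_le_of_dvd hdvd hf0
      rw [hdeg] at h1
      have h2 := (natDegree_lt_iff_degree_lt hf0).2 hlt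
      omega
    obtain ⟨a, b, hab⟩ := hcop
    have h1 := congrArg (fun p : F[X] => aeval M p *ᵥ v) hab
    simp only [map_add, map_mul, map_one, minpoly.aeval, mul_zero, zero_add, Matrix.one_mulVec,
      ← Matrix.mulVec_mulVec] at h1
    rw [show aeval M f *ᵥ v = 0 from hc, Matrix.mulVec_zero] at h1
    exact hv h1.symm
  have hsurj := LinearMap.injective_iff_surjective.1 hinj
  obtain ⟨c, hc⟩ := hsurj (A *ᵥ v)
  refine ⟨((degreeLTEquiv F d).symm c : F[X]), Matrix.ext_iff_mulVec.2 fun w => ?_⟩
  obtain ⟨l, rfl⟩ := hsurj w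
  set f : F[X] := ((degreeLTEquiv F d).symm c : F[X]) with hf
  set g : F[X] := ((degreeLTEquiv F d).symm l : F[X]) with hg
  show aeval M f *ᵥ (aeval M g *ᵥ v) = A *ᵥ (aeval M g *ᵥ v)
  have hAg : A * aeval M g = aeval M g * A :=
    (Algebra.commute_of_mem_adjoin_singleton_of_commute (aeval_mem_adjoin_singleton F M) hA).eq
  have hc' : aeval M f *ᵥ v = A *ᵥ v := hc
  rw [Matrix.mulVec_mulVec, ← map_mul, mul_comm f g, map_mul, ← Matrix.mulVec_mulVec, hc', Matrix.mulVec_mulVec,
    ← hAg, Matrix.mulVec_mulVec]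

/-- If a conjugation maps `M` to its `q`-th power it does so to every element of `F[M]`. -/
theorem conj_aeval {M N N' : Matrix (Fin d) (Fin d) F} (hN : N * N' = 1) (hN' : N' * N = 1)
    (hM : N * M * N' = M ^ Fintype.card F) (f : F[X]) : N * aeval M f * N' = aeval M f ^ Fintype.card F := by
  rw [← map_pow, ← FiniteField.expand_card, Polynomial.expand_aeval, ← hM]
  have hpow : ∀ n : ℕ, (N * M * N') ^ n = N * M ^ n * N' := fun n => by
    induction n with
    | zero => rw [pow_zero, pow_zero, mul_one, hN]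
    | succ n ih =>
      rw [pow_succ, ih, pow_succ, mul_assoc (N * M ^ n), ← mul_assoc N' (N * M), ← mul_assoc N' N, hN', one_mul]
      simp only [mul_assoc]
  rw [aeval_eq_sum_range, aeval_eq_sum_range, Finset.mul_sum, Finset.sum_mul]
  refine Finset.sum_congr rfl fun i _ => ?_
  rw [hpow, Matrix.mul_smul, Matrix.smul_mul]

end Poly

variable {F : Type*} [Field F] {m : ℕ} [Fintype F] (hF : Fintype.card F = 2 ^ (2 * m + 1)) (hm : 1 ≤ m)
include hF hm

/-- An element of prime order dividing `q² + 1` is conjugate to its `q`-th power. -/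
theorem conj_prime {p : ℕ} (hp : p.Prime) (hd : p ∣ Fintype.card F ^ 2 + 1) {u : Cfsg.Sz F m} (hu : orderOf u = p) :
    ∃ g : Cfsg.Sz F m, g * u * g⁻¹ = u ^ Fintype.card F := by
  classical
  obtain ⟨-, -, -, hconj⟩ := torus hF hm hp hd hu
  set U := Subgroup.centralizer ({u} : Set (Cfsg.Sz F m)) with hU
  set N := Subgroup.normalizer (U : Set (Cfsg.Sz F m)) with hN
  have huU : u ∈ U := Subgroup.mem_centralizer_singleton_iff.2 rfl
  have hUN : U ≤ N := Subgroup.le_normalizer
  have key : ∀ g : N, ∃ j, j < 4 ∧ (g : Cfsg.Sz F m) * u * (g : Cfsg.Sz F m)⁻¹ = u ^ (Fintype.card F ^ j) :=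
    fun g => hconj g ((Subgroup.mem_normalizer_iff.1 g.2 u).1 huU)
  choose jf hj hjf using key
  let Φ : N ⧸ U.subgroupOf N → Fin 4 := fun w => ⟨jf w.out, hj _⟩
  have hinj : Function.Injective Φ := fun v w e => by
    have e' : jf v.out = jf w.out := congrArg Fin.val e
    have hmem : ((v.out : N) : Cfsg.Sz F m)⁻¹ * w.out ∈ U := by
      refine Subgroup.mem_centralizer_singleton_iff.2 ?_
      have h1 := hjf v.out
      rw [e', ← hjf w.out] at h1
      calc ((v.out : N) : Cfsg.Sz F m)⁻¹ * w.out * u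
          = ((v.out : N) : Cfsg.Sz F m)⁻¹ * ((w.out : Cfsg.Sz F m) * u * (w.out : Cfsg.Sz F m)⁻¹) * w.out := by group
        _ = u * (((v.out : N) : Cfsg.Sz F m)⁻¹ * w.out) := by rw [← h1]; group
    rw [← QuotientGroup.out_eq' v, ← QuotientGroup.out_eq' w]
    exact QuotientGroup.eq.2 (Subgroup.mem_subgroupOf.2 hmem)
  have hcard : Nat.card (N ⧸ U.subgroupOf N) = 4 := by
    have e := (U.subgroupOf N).index_mul_card
    rw [Nat.card_congr (Subgroup.subgroupOfEquivOfLe hUN).toEquiv, torus_index_eq_four hF hm hp hd hu] at e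
    rw [← Subgroup.index_eq_card]
    exact Nat.eq_of_mul_eq_mul_right Nat.card_pos e
  obtain ⟨w, hw⟩ := ((Nat.bijective_iff_injective_and_card Φ).2 ⟨hinj, by rw [hcard, Nat.card_fin]⟩).2 1
  refine ⟨w.out, ?_⟩
  rw [hjf, show jf w.out = 1 from congrArg Fin.val hw, pow_one]

/-- An element of odd order is conjugate to its `q`-th power. -/
theorem conj_pow_of_odd {x : Cfsg.Sz F m} (hx : Odd (orderOf x)) :
    ∃ g : Cfsg.Sz F m, g * x * g⁻¹ = x ^ Fintype.card F := by
  by_cases hfix : ∃ a : Cfsg.suzukiOvoid F m, x • a = a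
  · obtain ⟨a, ha⟩ := hfix
    refine ⟨1, ?_⟩
    have h1 : orderOf x ∣ Fintype.card F ^ 2 * (Fintype.card F - 1) := by
      rw [← Partition.card_stab hF hm a, ← Subgroup.orderOf_mk x (mem_stabilizer_iff.2 ha)]
      exact orderOf_dvd_natCard _
    have hcop : (orderOf x).Coprime (Fintype.card F ^ 2) := by
      rw [hF, ← pow_mul]
      exact Nat.Coprime.pow_right _ (Nat.coprime_two_right.2 hx)
    have h2 := hcop.dvd_of_dvd_mul_left h1
    rw [one_mul, inv_one, mul_one, ← Nat.sub_add_cancel (Fintype.card_pos : 0 < Fintype.card F), pow_succ,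
      orderOf_dvd_iff_pow_eq_one.1 h2, one_mul]
  · push Not at hfix
    have hx1 : orderOf x ≠ 1 := fun e => by
      obtain ⟨a, -, -⟩ := Partition.exists_ne_points hF hm
      exact hfix a (by rw [orderOf_eq_one_iff.1 e, one_smul])
    obtain ⟨p, hp, hpd⟩ := Nat.exists_prime_and_dvd hx1
    haveI := Fact.mk hp
    have hdq := prime_dvd_of_fpf hF hm hfix hp hpd
    set u := x ^ (orderOf x / p) with hu
    have huo : orderOf u = p := orderOf_pow_orderOf_div (orderOf_pos x).ne' hpd
    obtain ⟨g, hg⟩ := conj_prime hF hm hp hdq huo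
    refine ⟨g, ?_⟩
    let ι : Cfsg.Sz F m →* Matrix (Fin 4) (Fin 4) F :=
      { toFun := fun g => ((g : Matrix.SpecialLinearGroup (Fin 4) F) : Matrix (Fin 4) (Fin 4) F)
        map_one' := rfl
        map_mul' := fun _ _ => rfl }
    have hι : Function.Injective ι := fun a b h => Subtype.ext (Subtype.ext h)
    obtain ⟨hpq, hpc⟩ := order_four hF hm hp hdq
    obtain ⟨hirr, hdeg⟩ := FieldCentralizer.minpoly_irreducible (F := F) (d := 4) (p := p) (by norm_num) hpq hpc
      (M := ι u) (by rw [← map_pow, ← huo, pow_orderOf_eq_one, map_one])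
      (fun h => by rw [hι (h.trans (map_one ι).symm), orderOf_one] at huo; exact hp.ne_one huo.symm)
    obtain ⟨f, hf⟩ := exists_aeval (by norm_num) hirr hdeg
      (show ι x * ι u = ι u * ι x by rw [← map_mul, ← map_mul, hu, (Commute.self_pow x _).eq])
    have h1 := conj_aeval (N := ι g) (N' := ι g⁻¹) (M := ι u) (by rw [← map_mul, mul_inv_cancel, map_one])
      (by rw [← map_mul, inv_mul_cancel, map_one]) (by rw [← map_mul, ← map_mul, hg, map_pow]) f
    rw [hf, ← map_mul, ← map_mul, ← map_pow] at h1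
    exact hι h1

end Cfsg.Agent.Lie.Suzuki.FrobConj
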