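import Mathlib
import Cfsg.Agent.Lib.Spor.LargeCriteria
import Cfsg.Agent.Lib.Solv.Extraspecial

/-!
Transfer from the centralizer of an involution with extraspecial core.
-/

set_option autoImplicit false
set_option linter.style.haveILetI false
set_option linter.unusedSectionVars false

namespace Cfsg.Agent.Lie.CentTransfer

open MulAction

universe u

variable {G : Type u} [Group G] [Finite G]

/-- the data: a normal extraspecial subgroup `E` of `H = C(z)` containing its centralizer -/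
structure Setting (z : G) (E : Subgroup G) : Prop where
  xt : Spor.Large.XT z E
  sq : ∀ a ∈ E, a * a = 1 ∨ a * a = z
  cent : Subgroup.centralizer (E : Set G) ≤ E
  norm : ∀ h : G, Commute h z → ∀ a ∈ E, h * a * h⁻¹ ∈ E
  two : IsPGroup 2 E

variable {z : G} {E : Subgroup G}

theorem Setting.le_cent (S : Setting z E) : E ≤ Subgroup.centralizer ({z} : Set G) := fun _ ha =>
  Subgroup.mem_centralizer_singleton_iff.2 (S.xt.cen _ ha).symm.eq

theorem setting_of (hz : orderOf z = 2)
    (hE : E = (Cfsg.pCore 2 ↥(Subgroup.centralizer ({z} : Set G))).map (Subgroup.centralizer ({z} : Set G)).subtype)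
    (hext : Cfsg.IsExtraspecial 2 ↥E) (hcent : Subgroup.centralizer (E : Set G) ≤ E) : Setting z E := by
  haveI : Fact (Nat.Prime 2) := ⟨Nat.prime_two⟩
  set H := Subgroup.centralizer ({z} : Set G)
  have hEH : E ≤ H := hE ▸ Subgroup.map_subtype_le _
  have hzc : z ∈ Subgroup.centralizer (E : Set G) :=
    Subgroup.mem_centralizer_iff.2 fun a ha => (Subgroup.mem_centralizer_singleton_iff.1 (hEH ha))
  have hzE : z ∈ E := hcent hzc
  obtain ⟨z', hz', hz'E, X, hset⟩ := Spor.Large.exists_center_gen E hext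
  have hzz : z = z' := by
    rcases X.eq_of_cen z hzE (fun b hb => (Subgroup.mem_centralizer_iff.1 hzc b hb).symm) with e | e
    · exact absurd (e ▸ hz) (by simp)
    · exact e
  subst hzz
  refine ⟨X, fun a ha => ?_, hcent, fun h hh a ha => ?_, hext.1.1⟩
  · have h2 := Solv.extraspecial_pow_mem_center hext ⟨a, ha⟩
    have : ((a : G) * a) ∈ ((Subgroup.center E).map E.subtype : Set G) :=
      ⟨⟨a, ha⟩ ^ 2, h2, by simp [sq]⟩
    rw [hset] at this
    simpa using this
  · rw [hE] at ha ⊢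
    obtain ⟨a', ha', rfl⟩ := ha
    exact ⟨⟨h, Subgroup.mem_centralizer_singleton_iff.2 hh.eq⟩ * a' *
      ⟨h, Subgroup.mem_centralizer_singleton_iff.2 hh.eq⟩⁻¹, (Solv.pCore_normal 2).conj_mem _ ha' _, rfl⟩

theorem moved (S : Setting z E) {a e : G} (ha : a ∈ E) (he : e ∈ E) (hn : ¬ Commute a e) :
    a * e = e * a * z := by
  have h := S.xt.move ha he hn
  calc a * e = a * e * a⁻¹ * a := by group
    _ = e * z * a := by rw [h]
    _ = e * a * z := by rw [mul_assoc, (S.xt.cen a ha).eq, mul_assoc]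

theorem exists_not_commute (S : Setting z E) {a : G} (ha : a ∈ E) (h1 : a ≠ 1) (hz : a ≠ z) :
    ∃ e ∈ E, ¬ Commute a e := by
  by_contra! hc
  rcases S.xt.eq_of_cen a ha hc with e | e
  · exact h1 e
  · exact hz e

theorem mul_commute (S : Setting z E) {a b e : G} (ha : a ∈ E) (hb : b ∈ E) (he : e ∈ E)
    (hae : ¬ Commute a e) (hbe : ¬ Commute b e) : Commute (a * b) e := by
  show a * b * e = e * (a * b)
  calc a * b * e = a * (b * e) := by group
    _ = a * (e * b * z) := by rw [moved S hb he hbe]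
    _ = (a * e) * b * z := by group
    _ = e * a * z * b * z := by rw [moved S ha he hae]
    _ = e * a * (z * b) * z := by group
    _ = e * a * (b * z) * z := by rw [(S.xt.cen b hb).eq]
    _ = e * (a * b) * (z * z) := by group
    _ = e * (a * b) := by rw [S.xt.sq, mul_one]

/-- an element of `E` centralizing `C_E(g)` lies in `⟨g, z⟩` -/
theorem of_centralizes (S : Setting z E) {g : G} (hg : g ∈ E) (h1 : g ≠ 1) (hgz : g ≠ z)
    (hgg : g * g = 1) {w : G} (hw : w ∈ E) (hc : ∀ c ∈ E, Commute c g → Commute w c) :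
    w = 1 ∨ w = z ∨ w = g ∨ w = g * z := by
  obtain ⟨e, he, hge⟩ := exists_not_commute S hg h1 hgz
  have key : ∀ v ∈ E, (∀ c ∈ E, Commute c g → Commute v c) → Commute v e → v = 1 ∨ v = z := by
    intro v hv hvc hve
    refine S.xt.eq_of_cen v hv fun b hb => ?_
    by_cases hbg : Commute b g
    · exact hvc b hb hbg
    · have h2 := hvc (b * e) (E.mul_mem hb he)
        (mul_commute S hb he hg hbg fun h => hge h.symm)
      have h3 : Commute v (b * e * e⁻¹) := h2.mul_right hve.inv_right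
      simpa using h3
  by_cases hwe : Commute w e
  · rcases key w hw hc hwe with h | h
    · exact Or.inl h
    · exact Or.inr (Or.inl h)
  · rcases key (w * g) (E.mul_mem hw hg) (fun c hcE hcg => (hc c hcE hcg).mul_left hcg.symm)
      (mul_commute S hw hg he hwe hge) with h | h
    · exact Or.inr (Or.inr (Or.inl (by rw [← mul_one w, ← hgg, ← mul_assoc, h, one_mul])))
    · refine Or.inr (Or.inr (Or.inr ?_))
      rw [← mul_one w, ← hgg, ← mul_assoc, h, (S.xt.cen g hg).eq]

/-- an element of `C(z)` centralizing `C_E(g)` and `g` lies in `⟨g, z⟩` -/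
theorem outer_centralizes (S : Setting z E) {g : G} (hg : g ∈ E) (h1 : g ≠ 1) (hgz : g ≠ z)
    (hgg : g * g = 1) {w : G} (hwz : Commute w z) (hc : ∀ c ∈ E, Commute c g → Commute w c) :
    w = 1 ∨ w = z ∨ w = g ∨ w = g * z := by
  refine of_centralizes S hg h1 hgz hgg ?_ hc
  obtain ⟨e, he, hge⟩ := exists_not_commute S hg h1 hgz
  have hext : ∀ v : G, (∀ c ∈ E, Commute c g → Commute v c) → Commute v e → v ∈ E := by
    intro v hvc hve
    refine S.cent (Subgroup.mem_centralizer_iff.2 fun b hb => ?_)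
    by_cases hbg : Commute b g
    · exact (hvc b hb hbg).symm.eq
    · have h3 : Commute v (b * e * e⁻¹) :=
        (hvc (b * e) (E.mul_mem hb he) (mul_commute S hb he hg hbg fun h => hge h.symm)).mul_right hve.inv_right
      have h4 : Commute v b := by simpa using h3
      exact h4.symm.eq
  set d := e⁻¹ * (w * e * w⁻¹) with hd
  have he' : w * e * w⁻¹ ∈ E := S.norm w hwz e he
  have hdc : ∀ c ∈ E, Commute c g → Commute d c := by
    intro c hcE hcg
    have hwc := hc c hcE hcg
    show e⁻¹ * (w * e * w⁻¹) * c = c * (e⁻¹ * (w * e * w⁻¹))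
    by_cases hec : Commute e c
    · have : Commute (w * e * w⁻¹) c := ((hwc.mul_left hec).mul_left hwc.inv_left)
      exact (hec.inv_left.mul_left this).eq
    · have h5 : e * c = c * e * z := moved S he hcE hec
      have h6 : w * e * w⁻¹ * c = c * (w * e * w⁻¹) * z := by
        calc w * e * w⁻¹ * c = w * e * (c * w⁻¹) := by rw [mul_assoc, hwc.inv_left.eq]
          _ = w * (e * c) * w⁻¹ := by group
          _ = w * (c * e * z) * w⁻¹ := by rw [h5]
          _ = (w * c) * e * (z * w⁻¹) := by group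
          _ = (c * w) * e * (w⁻¹ * z) := by rw [hwc.eq, hwz.inv_left.eq]
          _ = c * (w * e * w⁻¹) * z := by group
      calc e⁻¹ * (w * e * w⁻¹) * c = e⁻¹ * (w * e * w⁻¹ * c) := by group
        _ = e⁻¹ * (c * (w * e * w⁻¹) * z) := by rw [h6]
        _ = e⁻¹ * c * ((w * e * w⁻¹) * z) := by group
        _ = e⁻¹ * c * (z * (w * e * w⁻¹)) := by rw [(S.xt.cen _ he').eq]
        _ = e⁻¹ * (c * z) * (w * e * w⁻¹) := by group
        _ = e⁻¹ * (c * e * z * e⁻¹) * (w * e * w⁻¹) := by
          rw [mul_assoc c e z, ← (S.xt.cen e he).eq, show c * (z * e) * e⁻¹ = c * z by group]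
        _ = e⁻¹ * (e * c * e⁻¹) * (w * e * w⁻¹) := by rw [h5]
        _ = c * (e⁻¹ * (w * e * w⁻¹)) := by group
  have hdE : d ∈ E := E.mul_mem (E.inv_mem he) he'
  have hsq : e * d * (e * d) = e * e := by
    rw [show e * d = w * e * w⁻¹ by rw [hd]; group, conj_mul]
    rcases S.sq e he with h | h <;> rw [h]
    · group
    · rw [hwz.eq]; group
  have hnot : ∀ c : G, c ∈ E → c * c = 1 → ¬ Commute e c → ¬ e * c * (e * c) = e * e := by
    intro c hcE hcc hec h
    refine S.xt.ne ?_
    have h' : c * e = e * c * z := moved S hcE he fun h' => hec h'.symm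
    calc z = (e * e)⁻¹ * (e * e * z) := by group
      _ = (e * e)⁻¹ * (e * (e * c * z) * c) := by
          rw [mul_assoc e (e * c * z) c, mul_assoc (e * c) z c, (S.xt.cen c hcE).eq, ← mul_assoc (e * c) c z,
            mul_assoc e c c, hcc]
          group
      _ = (e * e)⁻¹ * (e * c * (e * c)) := by rw [← h']; group
      _ = 1 := by rw [h]; group
  rcases of_centralizes S hg h1 hgz hgg hdE hdc with h | h | h | h
  · refine hext w hc ?_
    have : w * e * w⁻¹ = e := by rw [hd, inv_mul_eq_one] at h; exact h.symm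
    exact mul_inv_eq_iff_eq_mul.1 this
  · have hwe : w * e = e * z * w := by
      rw [hd, inv_mul_eq_iff_eq_mul] at h
      exact mul_inv_eq_iff_eq_mul.1 h
    have hwg : Commute w g := hc g hg (Commute.refl g)
    have : w * g ∈ E := by
      refine hext (w * g) (fun c hcE hcg => (hc c hcE hcg).mul_left hcg.symm) ?_
      show w * g * e = e * (w * g)
      calc w * g * e = w * (g * e) := by group
        _ = w * (e * g * z) := by rw [moved S hg he hge]
        _ = (w * e) * (g * z) := by group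
        _ = e * z * w * (g * z) := by rw [hwe]
        _ = e * z * (w * g) * z := by group
        _ = e * ((w * g) * z) * z := by
          rw [mul_assoc e z, ((hwz.mul_left (S.xt.cen g hg).symm).symm).eq]
        _ = e * (w * g) * (z * z) := by group
        _ = e * (w * g) := by rw [S.xt.sq, mul_one]
    simpa using E.mul_mem this (E.inv_mem hg)
  · exact absurd (h ▸ hsq) (hnot g hg hgg fun h' => hge h'.symm)
  · refine absurd (h ▸ hsq) (hnot (g * z) (E.mul_mem hg S.xt.mem) ?_ fun h' => hge ?_)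
    · rw [(S.xt.cen g hg).mul_mul_mul_comm g z, hgg, S.xt.sq, one_mul]
    · have : Commute e (g * z * z⁻¹) := h'.mul_right (S.xt.cen e he).symm.inv_right
      simpa using this.symm

/-- two elements of `C_E(a)` that do not commute, for `E` of order at least 32 -/
theorem exists_pair (S : Setting z E) (hbig : 8 < Nat.card E) {a : G} (ha : a ∈ E) (h1 : a ≠ 1)
    (hz : a ≠ z) : ∃ c ∈ E, ∃ d ∈ E, Commute c a ∧ Commute d a ∧ ¬ Commute c d := by
  classical
  by_contra! hno
  obtain ⟨e, he, hae⟩ := exists_not_commute S ha h1 hz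
  have hC : ∀ c ∈ E, Commute c a → c ∈ ({1, z, a, a * z} : Finset G) := by
    intro c hcE hca
    have key : ∀ v ∈ E, Commute v a → Commute v e → v = 1 ∨ v = z := by
      intro v hv hva hve
      refine S.xt.eq_of_cen v hv fun b hb => ?_
      by_cases hba : Commute b a
      · exact hno v hv b hb hva hba
      · have h3 : Commute v (b * e * e⁻¹) :=
          (hno v hv (b * e) (E.mul_mem hb he) hva
            (mul_commute S hb he ha hba fun h => hae h.symm)).mul_right hve.inv_right
        simpa using h3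
    by_cases hce : Commute c e
    · rcases key c hcE hca hce with h | h <;> simp [h]
    · rcases key (c * a) (E.mul_mem hcE ha) (hca.mul_left (Commute.refl a))
        (mul_commute S hcE ha he hce hae) with h | h
      · have hc' : c = a⁻¹ := mul_eq_one_iff_eq_inv.1 h
        rcases S.sq a ha with e' | e'
        · simp [hc', inv_eq_of_mul_eq_one_right e']
        · have : a⁻¹ = a * z := inv_eq_of_mul_eq_one_right (by rw [← mul_assoc, e', S.xt.sq])
          simp [hc', this]
      · have hc' : c = z * a⁻¹ := eq_mul_inv_of_mul_eq h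
        rcases S.sq a ha with e' | e'
        · simp [hc', inv_eq_of_mul_eq_one_right e', (S.xt.cen a ha).eq]
        · have : a⁻¹ = a * z := inv_eq_of_mul_eq_one_right (by rw [← mul_assoc, e', S.xt.sq])
          simp [hc', this, ← mul_assoc, (S.xt.cen a ha).eq, mul_assoc a z z, S.xt.sq]
  set T : Finset G := ({1, z, a, a * z} : Finset G) ∪ ({1, z, a, a * z} : Finset G).image (· * e) with hT
  have hET : (E : Set G) ⊆ (T : Set G) := by
    intro x hx
    rw [Finset.mem_coe, hT, Finset.mem_union]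
    by_cases hxa : Commute x a
    · exact Or.inl (hC x hx hxa)
    · right
      refine Finset.mem_image.2 ⟨x * e⁻¹, hC _ (E.mul_mem hx (E.inv_mem he)) ?_, by group⟩
      refine mul_commute S hx (E.inv_mem he) ha hxa fun h => hae ?_
      simpa using h.inv_left.symm
  have h4 : ({1, z, a, a * z} : Finset G).card ≤ 4 := Finset.card_le_four
  have h8 : T.card ≤ 8 := (Finset.card_union_le _ _).trans (by
    have := Finset.card_image_le (s := ({1, z, a, a * z} : Finset G)) (f := (· * e)); omega)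
  have hle : Nat.card E ≤ T.card := by
    exact (Nat.card_mono T.finite_toSet hET).trans (le_of_eq (by rw [Nat.card_coe_set_eq, Set.ncard_coe_finset]))
  omega

/-- an involution of `E` outside a subgroup of index two -/
theorem exists_involution (S : Setting z E) (hbig : 8 < Nat.card E) (P : G → Prop)
    (hP : ∀ a ∈ E, ∀ b ∈ E, (P (a * b) ↔ (P a ↔ P b))) (hz : P z) {a : G} (ha : a ∈ E) (hPa : ¬ P a) :
    ∃ g ∈ E, g * g = 1 ∧ ¬ P g := by
  have hP1 : P 1 := by simpa using hP 1 E.one_mem 1 E.one_mem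
  rcases S.sq a ha with h | h
  · exact ⟨a, ha, h, hPa⟩
  obtain ⟨c, hc, d, hd, hca, hda, hcd⟩ := exists_pair S hbig ha (fun e => hPa (e ▸ hP1)) (fun e => hPa (e ▸ hz))
  have use : ∀ v ∈ E, Commute v a → v * v = z → P v → ∃ g ∈ E, g * g = 1 ∧ ¬ P g := by
    intro v hv hva hvv hPv
    refine ⟨a * v, E.mul_mem ha hv, ?_, fun h' => hPa (((hP a ha v hv).1 h').2 hPv)⟩
    rw [hva.mul_mul_mul_comm, h, hvv, S.xt.sq]
  have hcdq : c * d * (c * d) = c * c * (d * d) * z := by
    calc c * d * (c * d) = c * (d * c) * d := by group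
      _ = c * (c * d * z) * d := by rw [moved S hd hc fun h' => hcd h'.symm]
      _ = c * c * (d * (z * d)) := by group
      _ = c * c * (d * (d * z)) := by rw [(S.xt.cen d hd).eq]
      _ = c * c * (d * d) * z := by group
  have hcda : Commute (c * d) a := hca.mul_left hda
  rcases S.sq c hc with e1 | e1
  · by_cases p1 : P c
    swap
    · exact ⟨c, hc, e1, p1⟩
    rcases S.sq d hd with e2 | e2
    · by_cases p2 : P d
      swap
      · exact ⟨d, hd, e2, p2⟩
      refine use (c * d) (E.mul_mem hc hd) hcda ?_ ((hP c hc d hd).2 ⟨fun _ => p2, fun _ => p1⟩)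
      rw [hcdq, e1, e2, one_mul, one_mul]
    · by_cases p2 : P d
      · exact use d hd hda e2 p2
      · refine ⟨c * d, E.mul_mem hc hd, ?_, fun h' => p2 (((hP c hc d hd).1 h').1 p1)⟩
        rw [hcdq, e1, e2, one_mul, S.xt.sq]
  · by_cases p1 : P c
    · exact use c hc hca e1 p1
    rcases S.sq d hd with e2 | e2
    · by_cases p2 : P d
      swap
      · exact ⟨d, hd, e2, p2⟩
      refine ⟨c * d, E.mul_mem hc hd, ?_, fun h' => p1 (((hP c hc d hd).1 h').2 p2)⟩
      rw [hcdq, e1, e2, mul_one, S.xt.sq]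
    · by_cases p2 : P d
      · exact use d hd hda e2 p2
      refine use (c * d) (E.mul_mem hc hd) hcda ?_
        ((hP c hc d hd).2 ⟨fun h' => absurd h' p1, fun h' => absurd h' p2⟩)
      rw [hcdq, e1, e2, S.xt.sq, one_mul]

theorem mem_fixed_iff {H : Subgroup G} (r : G) (q : G ⧸ H) : r • q = q ↔ q.out⁻¹ * r * q.out ∈ H := by
  conv_lhs => rw [← QuotientGroup.out_eq' q]
  rw [show r • (QuotientGroup.mk q.out : G ⧸ H) = QuotientGroup.mk (r * q.out) from rfl, eq_comm,
    QuotientGroup.eq, mul_assoc]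

/-- the contribution of a fixed coset -/
noncomputable def val {H : Subgroup G} (ψ : H →* ℤˣ) (g : G) (q : G ⧸ H) : ℤˣ :=
  haveI := Classical.dec (q.out⁻¹ * g * q.out ∈ H)
  if h : q.out⁻¹ * g * q.out ∈ H then ψ ⟨_, h⟩ else 1

theorem val_of {H : Subgroup G} (ψ : H →* ℤˣ) {g : G} {q : G ⧸ H} (x : G) (hx : (QuotientGroup.mk x : G ⧸ H) = q)
    (hmem : x⁻¹ * g * x ∈ H) : val ψ g q = ψ ⟨x⁻¹ * g * x, hmem⟩ := by
  have hk : x⁻¹ * q.out ∈ H := QuotientGroup.eq.1 (hx.trans (QuotientGroup.out_eq' q).symm)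
  have hm : q.out⁻¹ * g * q.out ∈ H := by
    have := H.mul_mem (H.mul_mem (H.inv_mem hk) hmem) hk
    simpa [mul_assoc] using this
  rw [val, dif_pos hm]
  have he : (⟨_, hm⟩ : H) = (⟨_, hk⟩ : H)⁻¹ * ⟨_, hmem⟩ * ⟨_, hk⟩ := Subtype.ext (by simp [mul_assoc])
  rw [he, map_mul, map_mul, map_inv, mul_right_comm, inv_mul_cancel, one_mul]

theorem smul_zpow_fixed {α : Type*} [MulAction G α] {g : G} {q : α} (hq : g • q = q) (k : ℤ) :
    g ^ k • q = q :=
  (Subgroup.zpow_mem _ (show g ∈ stabilizer G q from hq) k : g ^ k ∈ stabilizer G q)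

/-- the transfer of an involution whose conjugate squares are trivial is the product over fixed cosets -/
theorem transfer_involution {H : Subgroup G} (ψ : H →* ℤˣ) {g : G} (hgg : g * g = 1)
    [Fintype (fixedBy (G ⧸ H) g)] :
    MonoidHom.transfer ψ g = ∏ q : fixedBy (G ⧸ H) g, val ψ g (q : G ⧸ H) := by
  classical
  haveI : Fintype (Quotient (orbitRel (Subgroup.zpowers g) (G ⧸ H))) := Fintype.ofFinite _
  rw [MonoidHom.transfer_eq_prod_quotient_orbitRel_zpowers_quot ψ g]
  have hper : ∀ q : G ⧸ H, Function.minimalPeriod (g • ·) q = 1 ∨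
      (Function.minimalPeriod (g • ·) q = 2 ∧ g • q ≠ q) := by
    intro q
    by_cases hq : g • q = q
    · exact Or.inl (Function.minimalPeriod_eq_one_iff_isFixedPt.2 hq)
    · refine Or.inr ⟨Function.minimalPeriod_eq_prime ?_ hq, hq⟩
      show g • g • q = q
      rw [smul_smul, hgg, one_smul]
  rw [← Finset.prod_filter_mul_prod_filter_not Finset.univ
    (fun q : Quotient (orbitRel (Subgroup.zpowers g) (G ⧸ H)) => g • q.out = q.out)]
  have h2 : ∀ q ∈ Finset.univ.filter
      (fun q : Quotient (orbitRel (Subgroup.zpowers g) (G ⧸ H)) => ¬ g • q.out = q.out),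
      ψ ⟨q.out.out⁻¹ * g ^ Function.minimalPeriod (g • ·) q.out * q.out.out,
        QuotientGroup.out_conj_pow_minimalPeriod_mem H g q.out⟩ = 1 := by
    intro q hq
    rw [Finset.mem_filter] at hq
    have h2 : Function.minimalPeriod (g • ·) q.out = 2 := ((hper q.out).resolve_left
      fun h => hq.2 (Function.minimalPeriod_eq_one_iff_isFixedPt.1 h)).1
    refine (congrArg ψ (Subtype.ext ?_ : _ = (1 : H))).trans (map_one ψ)
    show q.out.out⁻¹ * g ^ Function.minimalPeriod (g • ·) q.out * q.out.out = 1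
    rw [h2, sq, hgg, mul_one, inv_mul_cancel]
  rw [Finset.prod_eq_one h2, mul_one]
  have horb : ∀ q : G ⧸ H, g • q = q → ∀ x, x ∈ orbit (Subgroup.zpowers g) q → x = q := by
    rintro q hq x ⟨⟨y, k, rfl⟩, rfl⟩
    show g ^ k • q = q
    exact smul_zpow_fixed hq k
  refine Finset.prod_bij (fun q hq => (⟨q.out, (Finset.mem_filter.1 hq).2⟩ : fixedBy (G ⧸ H) g))
    (fun _ _ => Finset.mem_univ _) (fun q₁ _ q₂ _ h => Quotient.out_inj.1 (congrArg Subtype.val h))
    (fun q _ => ?_) (fun q hq => ?_)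
  · have hout : (Quotient.mk (orbitRel (Subgroup.zpowers g) (G ⧸ H)) (q : G ⧸ H)).out = q :=
      horb q q.2 _ (Quotient.mk_out (s := orbitRel (Subgroup.zpowers g) (G ⧸ H)) (q : G ⧸ H))
    exact ⟨Quotient.mk _ (q : G ⧸ H), Finset.mem_filter.2 ⟨Finset.mem_univ _, by rw [hout]; exact q.2⟩,
      Subtype.ext hout⟩
  · have h1 := Function.minimalPeriod_eq_one_iff_isFixedPt.2 (Finset.mem_filter.1 hq).2
    rw [val_of ψ q.out.out (QuotientGroup.out_eq' _) ((mem_fixed_iff g q.out).1 (Finset.mem_filter.1 hq).2)]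
    refine congrArg ψ (Subtype.ext ?_)
    show q.out.out⁻¹ * g ^ Function.minimalPeriod (g • ·) q.out * q.out.out = _
    rw [h1, pow_one]

/-- if `G` has no 2-quotient, the core lies in every normal subgroup of index two of `C(z)` -/
theorem E_le (S : Setting z E) (hres : Cfsg.pResidual 2 G = ⊤) (hbig : 8 < Nat.card E)
    : ∀ (ψ : Subgroup.centralizer ({z} : Set G) →* ℤˣ) (a : G) (ha : a ∈ E),
    ψ ⟨a, S.le_cent ha⟩ = 1 := by
  classical
  haveI : Fact (Nat.Prime 2) := ⟨Nat.prime_two⟩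
  set H := Subgroup.centralizer ({z} : Set G) with hH
  have memH : ∀ {x : G}, x ∈ H ↔ Commute x z := fun {x} => Subgroup.mem_centralizer_singleton_iff
  have hzH : z ∈ H := memH.2 (Commute.refl z)
  intro ψ a ha
  let P : G → Prop := fun x => ∀ h : x ∈ H, ψ ⟨x, h⟩ = 1
  by_contra hne
  have hneg : ∀ {v : ℤˣ}, v ≠ 1 → v = -1 := fun {v} h => (Int.units_eq_one_or v).resolve_left h
  have hPiff : ∀ {x : G} (h : x ∈ H), P x ↔ ψ ⟨x, h⟩ = 1 := fun {x} h => ⟨fun p => p h, fun p _ => p⟩
  have hP : ∀ x ∈ E, ∀ y ∈ E, (P (x * y) ↔ (P x ↔ P y)) := by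
    intro x hx y hy
    rw [hPiff (S.le_cent hx), hPiff (S.le_cent hy), hPiff (S.le_cent (E.mul_mem hx hy)),
      show (⟨x * y, S.le_cent (E.mul_mem hx hy)⟩ : H) = ⟨x, S.le_cent hx⟩ * ⟨y, S.le_cent hy⟩ from rfl,
      map_mul]
    rcases Int.units_eq_one_or (ψ ⟨x, S.le_cent hx⟩) with e1 | e1 <;>
      rcases Int.units_eq_one_or (ψ ⟨y, S.le_cent hy⟩) with e2 | e2 <;> rw [e1, e2] <;> decide
  have hcomm : ∀ c d : G, ∀ hc : c ∈ H, ∀ hd : d ∈ H, ∀ x : G, ∀ hx : x ∈ H,
      x = c * d * c⁻¹ * d⁻¹ → ψ ⟨x, hx⟩ = 1 := by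
    intro c d hc hd x hx e
    rw [show (⟨x, hx⟩ : H) = ⟨c, hc⟩ * ⟨d, hd⟩ * ⟨c, hc⟩⁻¹ * ⟨d, hd⟩⁻¹ from Subtype.ext e,
      map_mul, map_mul, map_mul, map_inv, map_inv, mul_comm (ψ ⟨c, hc⟩), mul_inv_cancel_right, mul_inv_cancel]
  have comm_eq : ∀ c ∈ E, ∀ d ∈ E, ¬ Commute c d → z = c * d * c⁻¹ * d⁻¹ := by
    intro c hc d hd h
    rw [S.xt.move hc hd h, (S.xt.cen d hd).symm.eq]
    group
  have hPz : P z := by
    obtain ⟨c, hc, hc1⟩ : ∃ c ∈ E, c ≠ 1 ∧ c ≠ z := by
      by_contra! hall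
      have hsub : (E : Set G) ⊆ (({1, z} : Finset G) : Set G) := fun x hx => by
        by_cases h1 : x = 1
        · simp [h1]
        · simp [hall x hx h1]
      have hh : Nat.card E ≤ ({1, z} : Finset G).card := by
        rw [← Set.ncard_coe_finset, ← Nat.card_coe_set_eq]
        exact Nat.card_mono (Finset.finite_toSet _) hsub
      have : ({1, z} : Finset G).card ≤ 2 := Finset.card_le_two
      omega
    obtain ⟨d, hd, hcd⟩ := exists_not_commute S hc hc1.1 hc1.2
    exact fun h => hcomm c d (S.le_cent hc) (S.le_cent hd) z h (comm_eq c hc d hd hcd)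
  obtain ⟨g, hgE, hgg, hPg⟩ := exists_involution S hbig P hP hPz ha fun h => hne (h (S.le_cent ha))
  have hgH : g ∈ H := S.le_cent hgE
  have hψg : ψ ⟨g, hgH⟩ = -1 := hneg fun h => hPg ((hPiff hgH).2 h)
  have hg1 : g ≠ 1 := fun e => hPg (fun h => by
    rw [show (⟨g, h⟩ : H) = 1 from Subtype.ext e, map_one])
  have hgz : g ≠ z := fun e => hPg (e ▸ hPz)
  -- the 2-subgroup `R` and its overgroup
  set Cg := H ⊓ Subgroup.centralizer ({g} : Set G) with hCg
  have hCpg : IsPGroup 2 (E ⊓ Subgroup.centralizer ({g} : Set G) : Subgroup G) := S.two.to_le inf_le_left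
  have hle : (E ⊓ Subgroup.centralizer ({g} : Set G)) ≤ Cg := inf_le_inf_right _ S.le_cent
  obtain ⟨R₀, hR₀⟩ := IsPGroup.exists_le_sylow
    (hCpg.comap_of_injective Cg.subtype Cg.subtype_injective)
  set R : Subgroup G := (R₀ : Subgroup Cg).map Cg.subtype with hR
  have hRp : IsPGroup 2 R := R₀.isPGroup'.map _
  have hRle : R ≤ Cg := Subgroup.map_subtype_le _
  have hCR : ∀ c ∈ E, Commute c g → c ∈ R := fun c hc hcg =>
    have hm : c ∈ Cg := hle ⟨hc, Subgroup.mem_centralizer_singleton_iff.2 hcg.eq⟩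
    ⟨⟨c, hm⟩, hR₀ (show ((⟨c, hm⟩ : Cg) : G) ∈ E ⊓ Subgroup.centralizer ({g} : Set G) from
      ⟨hc, Subgroup.mem_centralizer_singleton_iff.2 hcg.eq⟩), rfl⟩
  have hRmax : ∀ Q : Subgroup G, IsPGroup 2 Q → R ≤ Q → Q ≤ Cg → Q ≤ R := by
    intro Q hQ hRQ hQC x hx
    have h := R₀.is_maximal' (hQ.comap_of_injective Cg.subtype Cg.subtype_injective)
      (fun y hy => hRQ ⟨y, hy, rfl⟩)
    exact ⟨⟨x, hQC hx⟩, h.le (show ((⟨x, hQC hx⟩ : Cg) : G) ∈ Q from hx), rfl⟩
  have hzR : z ∈ R := hCR z S.xt.mem (S.xt.cen g hgE)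
  have hgR : g ∈ R := hCR g hgE (Commute.refl g)
  have four : ∀ w : G, (∀ r ∈ R, Commute w r) → w = 1 ∨ w = z ∨ w = g ∨ w = g * z := fun w hw =>
    outer_centralizes S hgE hg1 hgz hgg (hw z hzR) fun c hc hcg => hw c (hCR c hc hcg)
  obtain ⟨S₁, hS₁⟩ := IsPGroup.exists_le_sylow
    (hRp.comap_of_injective H.subtype H.subtype_injective)
  set T : Subgroup G := (S₁ : Subgroup H).map H.subtype with hT
  have hTp : IsPGroup 2 T := S₁.isPGroup'.map _
  have hTH : T ≤ H := Subgroup.map_subtype_le _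
  have hET : E ≤ T := by
    have h1 : IsPGroup 2 (E.subgroupOf H) := S.two.comap_of_injective H.subtype H.subtype_injective
    have hn : (E.subgroupOf H).Normal := ⟨fun x hx h => S.norm h (memH.1 h.2) x hx⟩
    intro x hx
    exact ⟨⟨x, S.le_cent hx⟩, h1.le_sylow_of_normal S₁ (show (⟨x, S.le_cent hx⟩ : H) ∈ _ from hx), rfl⟩
  have hRT : R ≤ T := fun r hr => ⟨⟨r, (hRle hr).1⟩, hS₁ (show ((⟨r, (hRle hr).1⟩ : H) : G) ∈ R from hr), rfl⟩
  have hlt : Nat.card R < Nat.card T := by
    refine lt_of_le_of_ne (Subgroup.card_le_of_le hRT) fun e => ?_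
    have : R = T := Subgroup.eq_of_le_of_card_ge hRT e.ge
    obtain ⟨b, hb, hgb⟩ := exists_not_commute S hgE hg1 hgz
    exact hgb (Subgroup.mem_centralizer_singleton_iff.1 (hRle (this ▸ hET hb)).2).symm
  -- `g` is not conjugate to `z`
  have hnoconj : ∀ x : G, x * z * x⁻¹ ≠ g := by
    intro x hx
    set D := Subgroup.centralizer ({g} : Set G)
    set T' := T.map (MulAut.conj x).toMonoidHom with hT'
    have hT'D : T' ≤ D := by
      rintro _ ⟨t, ht, rfl⟩
      refine Subgroup.mem_centralizer_singleton_iff.2 ?_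
      rw [← hx]
      exact ((Commute.conj_iff x).2 (memH.1 (hTH ht))).eq
    have hRD : R ≤ D := fun r hr => (hRle hr).2
    obtain ⟨U, hU⟩ := IsPGroup.exists_le_sylow (hRp.comap_of_injective D.subtype D.subtype_injective)
    set U' : Subgroup G := (U : Subgroup D).map D.subtype with hU'
    have hU'p : IsPGroup 2 U' := U.isPGroup'.map _
    have hRU : R ≤ U' := fun r hr => ⟨⟨r, hRD hr⟩, hU (show ((⟨r, hRD hr⟩ : D) : G) ∈ R from hr), rfl⟩
    have hcardU : Nat.card R < Nat.card U' := by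
      refine hlt.trans_le ?_
      obtain ⟨U₂, hU₂⟩ := IsPGroup.exists_le_sylow
        ((hTp.map (MulAut.conj x).toMonoidHom).comap_of_injective D.subtype D.subtype_injective)
      have h1 : Nat.card T = Nat.card T' := (Subgroup.card_map_of_injective (MulEquiv.injective _)).symm
      have h2 : Nat.card (T'.subgroupOf D) = Nat.card T' :=
        Nat.card_congr (Subgroup.subgroupOfEquivOfLe hT'D).toEquiv
      rw [h1, ← h2, hU', Subgroup.card_map_of_injective D.subtype_injective,
        Sylow.card_eq_multiplicity U, ← Sylow.card_eq_multiplicity U₂]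
      exact Subgroup.card_le_of_le hU₂
    haveI : Group.IsNilpotent U' := hU'p.isNilpotent
    have hneT : R.subgroupOf U' < ⊤ := lt_top_iff_ne_top.2 fun h =>
      absurd (Subgroup.card_le_of_le (Subgroup.subgroupOf_eq_top.1 h)) (by omega)
    obtain ⟨y, hy, hyR⟩ := SetLike.exists_of_lt (Group.normalizerCondition_of_isNilpotent _ hneT)
    have hyD : (y : G) ∈ D := Subgroup.map_subtype_le _ y.2
    have hyg : Commute (y : G) g := Subgroup.mem_centralizer_singleton_iff.1 hyD
    have hnorm : ∀ r ∈ R, (y : G)⁻¹ * r * y ∈ R := by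
      intro r hr
      have h := (Subgroup.mem_normalizer_iff.1 (Subgroup.inv_mem _ hy) ⟨r, hRU hr⟩).1 hr
      simpa [Subgroup.mem_subgroupOf] using h
    have hyH : (y : G) ∉ H := by
      intro hyH
      refine hyR (show (y : G) ∈ R from hRmax (U' ⊓ Cg) (hU'p.to_le inf_le_left)
        (le_inf hRU hRle) inf_le_right ⟨y.2, hyH, hyD⟩)
    have hw : ∀ r ∈ R, Commute ((y : G) * z * (y : G)⁻¹) r := by
      intro r hr
      have h1 : Commute z ((y : G)⁻¹ * r * y) := (memH.1 (hRle (hnorm r hr)).1).symm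
      have h2 := (Commute.conj_iff (y : G)).2 h1
      rwa [show (y : G) * ((y : G)⁻¹ * r * y) * (y : G)⁻¹ = r by group] at h2
    rcases four _ hw with e | e | e | e
    · exact S.xt.ne (conj_eq_one_iff.1 e)
    · exact hyH (memH.2 (mul_inv_eq_iff_eq_mul.1 e))
    · exact hgz (mul_left_cancel (a := (y : G)) (mul_right_cancel (b := (y : G)⁻¹) (by
        rw [e, hyg.eq]; group))).symm
    · obtain ⟨c, hc, d, hd, hcg, hdg, hcd⟩ := exists_pair S hbig hgE hg1 hgz
      have hconj : ∀ v ∈ R, (y : G) * v * (y : G)⁻¹ ∈ H := by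
        intro v hv
        have h := (Subgroup.mem_normalizer_iff.1 hy ⟨v, hRU hv⟩).1 hv
        have h' : (y : G) * v * (y : G)⁻¹ ∈ R := by simpa [Subgroup.mem_subgroupOf] using h
        exact (hRle h').1
      have hzgH : g * z ∈ H := H.mul_mem hgH hzH
      have h1 : ψ ⟨g * z, hzgH⟩ = 1 := hcomm _ _ (hconj c (hCR c hc hcg)) (hconj d (hCR d hd hdg)) _ hzgH (by
        rw [← e, comm_eq c hc d hd hcd]; group)
      rw [show (⟨g * z, hzgH⟩ : H) = ⟨g, hgH⟩ * ⟨z, hzH⟩ from rfl, map_mul, hPz hzH, mul_one, hψg] at h1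
      exact absurd h1 (by decide)
  -- the transfer
  have htriv : ∀ φ : G →* ℤˣ, φ = 1 := fun φ => by
    have : φ.ker = ⊤ := top_le_iff.1 (hres ▸ (Subgroup.closure_le _).2 fun x hx => by
      show φ x = 1
      refine orderOf_eq_one_iff.1 (Nat.eq_one_of_dvd_coprimes hx (orderOf_map_dvd φ x)
        (orderOf_dvd_of_pow_eq_one (by rw [sq]; exact Int.units_mul_self _))))
    ext x
    simp [MonoidHom.mem_ker.1 (this ▸ Subgroup.mem_top x)]
  haveI : Fintype (fixedBy (G ⧸ H) g) := Fintype.ofFinite _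
  have hV := transfer_involution ψ hgg
  rw [htriv (MonoidHom.transfer ψ), MonoidHom.one_apply] at hV
  -- `R` acts on the fixed cosets, with a single fixed point
  have hRg : ∀ r ∈ R, Commute r g := fun r hr => Subgroup.mem_centralizer_singleton_iff.1 (hRle hr).2
  let F := fixedBy (G ⧸ H) g
  have hstab : ∀ (r : R) (q : F), val ψ g ((r : G) • (q : G ⧸ H)) = val ψ g (q : G ⧸ H) := by
    intro r q
    have hm := (mem_fixed_iff g (q : G ⧸ H)).1 q.2
    have e : ((r : G) * (q : G ⧸ H).out)⁻¹ * g * ((r : G) * (q : G ⧸ H).out) =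
        (q : G ⧸ H).out⁻¹ * g * (q : G ⧸ H).out := by
      rw [mul_inv_rev, show (q : G ⧸ H).out⁻¹ * (r : G)⁻¹ * g * ((r : G) * (q : G ⧸ H).out) =
        (q : G ⧸ H).out⁻¹ * ((r : G)⁻¹ * (g * r)) * (q : G ⧸ H).out by group,
        ← (hRg r r.2).eq, inv_mul_cancel_left]
    rw [val_of ψ ((r : G) * (q : G ⧸ H).out)
      (show _ = (r : G) • (q : G ⧸ H) by
        conv_rhs => rw [← QuotientGroup.out_eq' (q : G ⧸ H)]
        rfl) (e ▸ hm), val_of ψ _ (QuotientGroup.out_eq' (q : G ⧸ H)) hm]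
    exact congrArg ψ (Subtype.ext e)
  have hmemF : ∀ (r : R) (q : F), (r : G) • (q : G ⧸ H) ∈ fixedBy (G ⧸ H) g := fun r q => by
    show g • (r : G) • (q : G ⧸ H) = (r : G) • (q : G ⧸ H)
    rw [smul_smul, ← (hRg r r.2).eq, ← smul_smul, q.2]
  let X := {q : F // val ψ g (q : G ⧸ H) = -1}
  letI : MulAction R X :=
    { smul := fun r q => ⟨⟨(r : G) • ((q.1 : F) : G ⧸ H), hmemF r q.1⟩, (hstab r q.1).trans q.2⟩
      one_smul := fun q => Subtype.ext (Subtype.ext (one_smul G _))
      mul_smul := fun r s q => Subtype.ext (Subtype.ext (mul_smul _ _ _)) }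
  set q₀ : G ⧸ H := QuotientGroup.mk 1 with hq₀
  have hfix0 : ∀ h ∈ H, h • q₀ = q₀ := fun h hh => by
    rw [hq₀, show h • (QuotientGroup.mk 1 : G ⧸ H) = QuotientGroup.mk (h * 1) from rfl, QuotientGroup.eq]
    simpa using H.inv_mem hh
  have hmem0 : (1 : G)⁻¹ * g * 1 ∈ H := by simpa using hgH
  have hval0 : val ψ g q₀ = -1 := by
    rw [val_of ψ 1 rfl hmem0, ← hψg]
    exact congrArg ψ (Subtype.ext (by simp))
  have hsub : Subsingleton (fixedPoints R X) := by
    have key : ∀ p : fixedPoints R X, ((p.1.1 : F) : G ⧸ H) = q₀ := by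
      intro p
      obtain ⟨x, hx⟩ := QuotientGroup.mk_surjective ((p.1.1 : F) : G ⧸ H)
      have hw : ∀ r ∈ R, Commute (x * z * x⁻¹) r := by
        intro r hr
        have h1 : (QuotientGroup.mk (r * x) : G ⧸ H) = QuotientGroup.mk x := by
          rw [show (QuotientGroup.mk (r * x) : G ⧸ H) = r • (QuotientGroup.mk x : G ⧸ H) from rfl, hx]
          exact congrArg (fun v : X => ((v.1 : F) : G ⧸ H)) (p.2 ⟨r, hr⟩)
        have h2 : Commute (x⁻¹ * r * x) z := memH.1 (by
          have := H.inv_mem (QuotientGroup.eq.1 h1)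
          simpa [mul_assoc] using this)
        have h3 := (Commute.conj_iff x).2 h2
        rw [show x * (x⁻¹ * r * x) * x⁻¹ = r by group] at h3
        exact h3.symm
      rcases four _ hw with e | e | e | e
      · exact absurd (conj_eq_one_iff.1 e) S.xt.ne
      · rw [← hx, hq₀, QuotientGroup.eq, mul_one]
        exact H.inv_mem (memH.2 (mul_inv_eq_iff_eq_mul.1 e))
      · exact absurd e (hnoconj x)
      · obtain ⟨b, hb, hgb⟩ := exists_not_commute S hgE hg1 hgz
        refine absurd ?_ (hnoconj (b⁻¹ * x))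
        calc b⁻¹ * x * z * (b⁻¹ * x)⁻¹ = b⁻¹ * (x * z * x⁻¹) * b := by group
          _ = b⁻¹ * (g * z) * b := by rw [e]
          _ = b⁻¹ * (g * (z * b)) := by group
          _ = b⁻¹ * (g * b * z) := by rw [(S.xt.cen b hb).eq, mul_assoc]
          _ = b⁻¹ * (b * g * z * z) := by rw [moved S hgE hb hgb]
          _ = g := by rw [mul_assoc (b * g), S.xt.sq, mul_one, inv_mul_cancel_left]
    exact ⟨fun p p' => Subtype.ext (Subtype.ext (Subtype.ext ((key p).trans (key p').symm)))⟩
  have hne0 : Nonempty (fixedPoints R X) :=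
    ⟨⟨⟨⟨q₀, hfix0 g hgH⟩, hval0⟩, fun r => Subtype.ext (Subtype.ext (hfix0 _ (hRle r.2).1))⟩⟩
  have hodd : Nat.card X % 2 = 1 := by
    have h := hRp.card_modEq_card_fixedPoints X
    rw [Nat.card_of_subsingleton hne0.some] at h
    exact h
  have hprod : (∏ q : F, val ψ g (q : G ⧸ H)) = (-1) ^ Nat.card X := by
    rw [← Finset.prod_filter_mul_prod_filter_not Finset.univ (fun q : F => val ψ g (q : G ⧸ H) = -1),
      Finset.prod_eq_pow_card (fun q hq => (Finset.mem_filter.1 hq).2),
      Finset.prod_eq_one (fun q hq => (Int.units_eq_one_or _).resolve_right (Finset.mem_filter.1 hq).2),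
      mul_one]
    congr 1
    rw [Nat.card_eq_fintype_card]
    exact (Fintype.card_subtype _).symm
  rw [hprod, ← Nat.div_add_mod (Nat.card X) 2, hodd, pow_add, pow_mul, neg_one_sq, one_pow, one_mul,
    pow_one] at hV
  exact absurd hV (by decide)

end Cfsg.Agent.Lie.CentTransfer
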