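import Mathlib

/-!
Moore's relations bound the order of a group by that of the symmetric group.
-/

set_option autoImplicit false

namespace Cfsg.Agent.Lie

/-- Moore's relations on the first `n` terms of a sequence. -/
structure SymRels {G : Type*} [Group G] (s : ℕ → G) (n : ℕ) : Prop where
  sq : ∀ i < n, s i * s i = 1
  braid : ∀ i, i + 1 < n → s i * s (i + 1) * s i = s (i + 1) * s i * s (i + 1)
  comm : ∀ i j, i + 1 < j → j < n → s i * s j = s j * s i

namespace SymRels

variable {G : Type*} [Group G] {s : ℕ → G} {n : ℕ}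

theorem mono (h : SymRels s (n + 1)) : SymRels s n :=
  ⟨fun i hi => h.sq i (by omega), fun i hi => h.braid i (by omega),
    fun i j hij hj => h.comm i j hij (by omega)⟩

/-- The product `s k * s (k+1) * ... * s (n-1)`. -/
def word (s : ℕ → G) (n k : ℕ) : G := ((List.range (n - k)).map fun i => s (k + i)).prod

theorem word_self : word s n n = 1 := by simp [word]

theorem word_succ {k : ℕ} (hk : k < n) : word s n k = s k * word s n (k + 1) := by
  rw [word, word, show n - k = (n - (k + 1)) + 1 by omega, List.range_succ_eq_map, List.map_cons,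
    List.prod_cons, List.map_map, Nat.add_zero]
  congr 3
  funext i
  simp only [Function.comp_apply]
  congr 1
  omega

theorem commute_word (h : SymRels s n) {i : ℕ} :
    ∀ k, i + 1 < k → k ≤ n → Commute (s i) (word s n k) := by
  intro k hik hk
  refine Commute.list_prod_right _ _ fun x hx => ?_
  obtain ⟨j, hj, rfl⟩ := List.mem_map.1 hx
  exact h.comm i (k + j) (by omega) (by have := List.mem_range.1 hj; omega)

theorem mul_word (h : SymRels s n) {i : ℕ} (hi : i < n) :
    ∀ d k, k + d + 1 = i → s i * word s n k = word s n k * s (i - 1) := by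
  intro d
  induction d with
  | zero =>
    rintro k rfl
    rw [word_succ (show k < n by omega), word_succ (show k + 1 < n from hi),
      show k + 0 + 1 - 1 = k by omega, show k + 0 + 1 = k + 1 by omega]
    have hc := (h.commute_word (i := k) (k + 1 + 1) (by omega) (by omega)).eq
    simp only [← mul_assoc]
    rw [← h.braid k hi]
    simp only [mul_assoc]
    rw [hc]
  | succ d ih =>
    intro k hk
    rw [word_succ (show k < n by omega), ← mul_assoc, ← h.comm k i (by omega) hi, mul_assoc,
      ih (k + 1) (by omega), mul_assoc]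

/-- A group with Moore's relations has order at most `(n + 1)!`. -/
theorem bound : ∀ {n : ℕ}, SymRels s n →
    Finite (Subgroup.closure (s '' {i | i < n})) ∧
      Nat.card (Subgroup.closure (s '' {i | i < n})) ≤ (n + 1).factorial := by
  intro n
  induction n with
  | zero =>
    intro _
    have : s '' {i | i < 0} = ∅ := by simp
    rw [this, Subgroup.closure_empty]
    exact ⟨inferInstance, by simp⟩
  | succ n ih =>
    intro h
    obtain ⟨hfin, hle⟩ := ih h.mono
    set K := Subgroup.closure (s '' {i | i < n}) with hK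
    set L := Subgroup.closure (s '' {i | i < n + 1}) with hL
    let U : Set G := {g | ∃ k, k ≤ n + 1 ∧ ∃ x ∈ K, g = word s (n + 1) k * x}
    have hstep : ∀ i < n + 1, ∀ g ∈ U, s i * g ∈ U := by
      rintro i hi g ⟨k, hk, x, hx, rfl⟩
      have hsK : ∀ j < n, s j ∈ K := fun j hj => Subgroup.subset_closure ⟨j, hj, rfl⟩
      rcases lt_trichotomy (i + 1) k with hlt | heq | hgt
      · refine ⟨k, hk, s i * x, mul_mem (hsK i (by omega)) hx, ?_⟩
        rw [← mul_assoc, (h.commute_word k hlt hk).eq, mul_assoc]
      · subst heq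
        exact ⟨i, by omega, x, hx, by rw [word_succ hi, mul_assoc]⟩
      · rcases eq_or_ne i k with rfl | hne
        · refine ⟨i + 1, by omega, x, hx, ?_⟩
          rw [word_succ hi, ← mul_assoc, ← mul_assoc, h.sq i hi, one_mul]
        · refine ⟨k, hk, s (i - 1) * x, mul_mem (hsK _ (by omega)) hx, ?_⟩
          rw [← mul_assoc, h.mul_word hi (i - k - 1) k (by omega), mul_assoc]
    have hsub : ∀ g ∈ L, g ∈ U := by
      intro g hg
      have hmul : ∀ y ∈ U, g * y ∈ U := by
        induction hg using Subgroup.closure_induction_left with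
        | one => intro y hy; rwa [one_mul]
        | mul_left a ha b _ hb =>
          obtain ⟨i, hi, rfl⟩ := ha
          intro y hy
          rw [mul_assoc]
          exact hstep i hi _ (hb y hy)
        | inv_mul_cancel a ha b _ hb =>
          obtain ⟨i, hi, rfl⟩ := ha
          intro y hy
          rw [inv_eq_of_mul_eq_one_right (h.sq i hi), mul_assoc]
          exact hstep i hi _ (hb y hy)
      simpa using hmul 1 ⟨n + 1, le_rfl, 1, one_mem _, by rw [word_self, one_mul]⟩
    let f : Fin (n + 2) × K → U := fun p =>
      ⟨word s (n + 1) (p.1 : ℕ) * (p.2 : G), ⟨_, Nat.le_of_lt_succ p.1.2, _, p.2.2, rfl⟩⟩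
    have hf : Function.Surjective f := by
      rintro ⟨g, k, hk, x, hx, rfl⟩
      exact ⟨(⟨k, Nat.lt_succ_of_le hk⟩, ⟨x, hx⟩), rfl⟩
    haveI : Finite U := Finite.of_surjective f hf
    let j : L → U := fun g => ⟨g, hsub g g.2⟩
    have hj : Function.Injective j := fun a b hab => Subtype.ext (congrArg Subtype.val hab :)
    refine ⟨Finite.of_injective j hj, ?_⟩
    calc Nat.card L ≤ Nat.card U := Nat.card_le_card_of_injective j hj
      _ ≤ Nat.card (Fin (n + 2) × K) := Nat.card_le_card_of_surjective f hf
      _ ≤ (n + 1 + 1).factorial := by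
        rw [Nat.card_prod, Nat.card_fin, Nat.factorial_succ (n + 1)]
        exact Nat.mul_le_mul_left _ hle

/-- If moreover the group is generated, it has order at most `(n + 1)!`. -/
theorem card_le (h : SymRels s n) (hgen : Subgroup.closure (s '' {i | i < n}) = ⊤) :
    Finite G ∧ Nat.card G ≤ (n + 1).factorial := by
  obtain ⟨hfin, hle⟩ := h.bound
  rw [hgen] at hfin hle
  rw [Subgroup.card_top] at hle
  exact ⟨Finite.of_equiv _ (Subgroup.topEquiv (G := G)).toEquiv, hle⟩

end SymRels

theorem braid_of_pow_three {G : Type*} [Group G] {a b : G} (ha : a * a = 1) (hb : b * b = 1)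
    (h : (a * b) ^ 3 = 1) : a * b * a = b * a * b := by
  have h' : a * b * a * (b * a * b) = 1 := by
    rw [← h]; simp [pow_succ, mul_assoc]
  rw [mul_eq_one_iff_eq_inv] at h'
  rw [h', mul_inv_rev, mul_inv_rev, inv_eq_of_mul_eq_one_right ha, inv_eq_of_mul_eq_one_right hb,
    mul_assoc]

theorem comm_of_pow_two {G : Type*} [Group G] {a b : G} (ha : a * a = 1) (hb : b * b = 1)
    (h : (a * b) ^ 2 = 1) : a * b = b * a := by
  rw [sq, mul_eq_one_iff_eq_inv, mul_inv_rev, inv_eq_of_mul_eq_one_right ha,
    inv_eq_of_mul_eq_one_right hb] at h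
  exact h

end Cfsg.Agent.Lie
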