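import Mathlib
import Cfsg.Agent.Lib.Lie.SymCoxeter
import Cfsg.Agent.S2530

/-!
Recognising a symmetric group of degree `n + 4` from two copies of degree `n + 2`.
-/

set_option autoImplicit false
set_option linter.style.haveILetI false
set_option linter.unusedSectionVars false

namespace Cfsg.Agent.Lie.SymExtend

open Equiv

theorem swap_share {α : Type*} [DecidableEq α] {A B : Perm α} (hA : A.IsSwap) (hB : B.IsSwap)
    (h : ¬ Commute A B) : ∃ a b c : α, a ≠ b ∧ b ≠ c ∧ a ≠ c ∧ A = swap a b ∧ B = swap b c := by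
  obtain ⟨a, b, hab, rfl⟩ := hA
  obtain ⟨c, d, hcd, rfl⟩ := hB
  by_cases h1 : a = c
  · subst h1
    refine ⟨b, a, d, hab.symm, hcd, fun e => h ?_, swap_comm a b, rfl⟩
    rw [e]
  by_cases h2 : a = d
  · subst h2
    refine ⟨b, a, c, hab.symm, hcd.symm, fun e => h ?_, swap_comm a b, swap_comm c a⟩
    rw [e, swap_comm a c]
  by_cases h3 : b = c
  · subst h3
    exact ⟨a, b, d, hab, hcd, fun e => h2 e, rfl, rfl⟩
  by_cases h4 : b = d
  · subst h4
    exact ⟨a, b, c, hab, hcd.symm, h1, rfl, swap_comm c b⟩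
  refine absurd ?_ h
  refine Equiv.Perm.Disjoint.commute ?_
  intro z
  by_cases hza : z = a
  · right; rw [hza]; exact swap_apply_of_ne_of_ne h1 h2
  by_cases hzb : z = b
  · right; rw [hzb]; exact swap_apply_of_ne_of_ne h3 h4
  left; exact swap_apply_of_ne_of_ne hza hzb

theorem swap_braid {α : Type*} [DecidableEq α] {A B : Perm α} (hA : A.IsSwap) (hB : B.IsSwap)
    (h : ¬ Commute A B) : A * B * A = B * A * B := by
  obtain ⟨a, b, c, hab, hbc, hac, rfl, rfl⟩ := swap_share hA hB h
  have h1 := Equiv.swap_apply_apply (swap a b) b c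
  rw [swap_apply_right, swap_apply_of_ne_of_ne hac.symm hbc.symm, Perm.inv_def, symm_swap] at h1
  have h2 := Equiv.swap_apply_apply (swap b c) a b
  rw [swap_apply_left, swap_apply_of_ne_of_ne hab hac, Perm.inv_def, symm_swap] at h2
  exact h1.symm.trans h2

theorem swap_fix_of_commute {α : Type*} [DecidableEq α] {T : Perm α} {p q : α} (hpq : p ≠ q) (hT : T.IsSwap)
    (hc : Commute T (swap p q)) (hne : T ≠ swap p q) : T p = p ∧ T q = q := by
  obtain ⟨a, b, hab, rfl⟩ := hT
  have h1 := DFunLike.congr_fun hc.eq p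
  simp only [Perm.mul_apply, swap_apply_left] at h1
  by_cases ha : p = a
  · subst ha
    rw [swap_apply_left] at h1
    by_cases hqb : q = b
    · exact absurd (by rw [hqb]) hne
    rw [swap_apply_of_ne_of_ne hpq.symm hqb] at h1
    by_cases hbp : b = p
    · exact absurd hbp hab.symm
    rw [swap_apply_of_ne_of_ne hbp (fun e => hqb e.symm)] at h1
    exact absurd h1 hqb
  by_cases hb : p = b
  · subst hb
    rw [swap_apply_right] at h1
    by_cases hqa : q = a
    · exact absurd (by rw [hqa, swap_comm a p]) hne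
    rw [swap_apply_of_ne_of_ne hqa hpq.symm] at h1
    rw [swap_apply_of_ne_of_ne hab (fun e => hqa e.symm)] at h1
    exact absurd h1 hqa
  refine ⟨swap_apply_of_ne_of_ne ha hb, ?_⟩
  rw [swap_apply_of_ne_of_ne ha hb, swap_apply_left] at h1
  exact h1

theorem four_swaps {α : Type*} [DecidableEq α] {A B C D : Perm α} (hA : A.IsSwap) (hB : B.IsSwap) (hC : C.IsSwap)
    (hD : D.IsSwap) (hAB : ¬ Commute A B) (hBC : ¬ Commute B C) (hAC : Commute A C) (hne : A ≠ C)
    (hDA : Commute D A) (hDC : Commute D C) (hDA' : D ≠ A) (hDC' : D ≠ C) : Commute B D := by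
  obtain ⟨a, b, c, hab, hbc, hac, rfl, rfl⟩ := swap_share hA hB hAB
  obtain ⟨p, q, r, hpq, hqr, hpr, hB', rfl⟩ := swap_share hB hC hBC
  have hDb : D b = b := (swap_fix_of_commute hab hD hDA hDA').2
  have hDq : D q = q := (swap_fix_of_commute hqr hD hDC hDC').1
  have hqb : q ≠ b := by
    rintro rfl
    have h1 := (swap_fix_of_commute hqr hA hAC hne).1
    rw [swap_apply_right] at h1
    exact hab h1
  have hqc : q = c := by
    have h := DFunLike.congr_fun hB' q
    rw [swap_apply_right] at h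
    by_contra hqc
    rw [swap_apply_of_ne_of_ne hqb hqc] at h
    exact hpq h.symm
  subst hqc
  show swap b q * D = D * swap b q
  ext z
  simp only [Perm.mul_apply]
  by_cases hz : z = b
  · rw [hz, hDb, swap_apply_left, hDq]
  by_cases hz' : z = q
  · rw [hz', hDq, swap_apply_right, hDb]
  rw [swap_apply_of_ne_of_ne hz hz', swap_apply_of_ne_of_ne]
  · exact fun e => hz (D.injective (e.trans hDb.symm))
  · exact fun e => hz' (D.injective (e.trans hDq.symm))

theorem fact_lt (k : ℕ) : 2 ^ (k + 3) * (k + 4).factorial < (2 * k + 6).factorial := by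
  induction k with
  | zero => decide
  | succ k ih =>
    rw [pow_succ, show k + 1 + 4 = (k + 4) + 1 by omega, Nat.factorial_succ (k + 4),
      show 2 * (k + 1) + 6 = (2 * k + 7) + 1 by omega, Nat.factorial_succ (2 * k + 7),
      show 2 * k + 7 = (2 * k + 6) + 1 by omega, Nat.factorial_succ (2 * k + 6)]
    calc 2 ^ (k + 3) * 2 * ((k + 4 + 1) * (k + 4).factorial)
        = (2 * (k + 4 + 1)) * (2 ^ (k + 3) * (k + 4).factorial) := by ring
      _ < ((2 * k + 6 + 1 + 1) * (2 * k + 6 + 1)) * (2 * k + 6).factorial :=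
        Nat.mul_lt_mul_of_le_of_lt (by nlinarith) ih (by positivity)
      _ = _ := by ring

theorem centralizer_lt {n k : ℕ} (hn : 7 ≤ n) (hk : 2 ≤ k) (hkn : 2 * k ≤ n) :
    (n - 2 * k).factorial * 2 ^ k * k.factorial < 2 * (n - 2).factorial := by
  obtain ⟨j, rfl⟩ : ∃ j, k = j + 1 := ⟨k - 1, by omega⟩
  have hd := Nat.factorial_mul_descFactorial (show 2 * j ≤ n - 2 by omega)
  rw [show n - 2 - 2 * j = n - 2 * (j + 1) by omega] at hd
  rw [← hd]
  have key : 2 ^ j * (j + 1).factorial < (n - 2).descFactorial (2 * j) := by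
    rcases lt_or_ge j 3 with hj | hj
    · have : 1 ≤ j := by omega
      refine lt_of_lt_of_le ?_ (Nat.descFactorial_le (2 * j) (show 5 ≤ n - 2 by omega))
      interval_cases j <;> decide
    · refine lt_of_lt_of_le ?_ (Nat.descFactorial_le (2 * j) (show 2 * j ≤ n - 2 by omega))
      rw [Nat.descFactorial_self]
      have h := fact_lt (j - 3)
      rwa [show j - 3 + 3 = j by omega, show j - 3 + 4 = j + 1 by omega, show 2 * (j - 3) + 6 = 2 * j by omega] at h
  have hpos := Nat.factorial_pos (n - 2 * (j + 1))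
  rw [pow_succ]
  nlinarith

theorem isSwap_iff_card {α : Type*} [DecidableEq α] [Fintype α] (hn : 7 ≤ Fintype.card α) {σ : Perm α}
    (h2 : σ * σ = 1) :
    σ.IsSwap ↔ Nat.card (Subgroup.centralizer ({σ} : Set (Perm α))) = 2 * (Fintype.card α - 2).factorial := by
  have hform : ∀ k : ℕ, σ.cycleType = Multiset.replicate k 2 →
      Nat.card (Subgroup.centralizer ({σ} : Set (Perm α))) =
        (Fintype.card α - 2 * k).factorial * 2 ^ k * k.factorial := by
    intro k hk
    rw [Equiv.Perm.nat_card_centralizer, hk]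
    rcases Nat.eq_zero_or_pos k with rfl | hpos
    · simp
    · simp [Multiset.toFinset_replicate, hpos.ne', mul_comm k 2]
  constructor
  · intro hs
    rw [hform 1 (by rw [(Equiv.Perm.isSwap_iff_cycleType).1 hs]; rfl)]
    simp [mul_comm]
  · intro hc
    by_cases h1 : σ = 1
    · exfalso
      have := hform 0 (by rw [h1]; simp)
      rw [this] at hc
      simp only [mul_zero, Nat.sub_zero, pow_zero, mul_one, Nat.factorial_zero] at hc
      obtain ⟨r, hr⟩ : ∃ r, Fintype.card α = r + 2 := ⟨Fintype.card α - 2, by omega⟩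
      rw [hr, Nat.add_sub_cancel, Nat.factorial_succ, Nat.factorial_succ, ← mul_assoc] at hc
      have := Nat.eq_of_mul_eq_mul_right (Nat.factorial_pos r) hc
      nlinarith
    have ho : orderOf σ = 2 := orderOf_eq_prime (by rw [sq, h2]) h1
    obtain ⟨k, hk⟩ := Equiv.Perm.cycleType_prime_order (σ := σ) (by rw [ho]; exact Nat.prime_two)
    rw [ho] at hk
    have hle := σ.support.card_le_univ
    rw [← Equiv.Perm.sum_cycleType, hk, Multiset.sum_replicate, smul_eq_mul] at hle
    rcases Nat.eq_zero_or_pos k with rfl | hpos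
    · exact (Equiv.Perm.isSwap_iff_cycleType).2 (by rw [hk]; rfl)
    · exfalso
      rw [hform _ hk] at hc
      exact (centralizer_lt hn (by omega) (by omega)).ne hc

theorem auto_swap {α : Type*} [DecidableEq α] [Fintype α] (hn : 7 ≤ Fintype.card α) (φ : Perm α ≃* Perm α)
    {σ : Perm α} (hs : σ.IsSwap) : (φ σ).IsSwap := by
  have h2 : σ * σ = 1 := by obtain ⟨a, b, -, rfl⟩ := hs; exact swap_mul_self a b
  rw [isSwap_iff_card hn (by rw [← map_mul, h2, map_one]), ← (isSwap_iff_card hn h2).1 hs]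
  refine (Nat.card_congr (Equiv.subtypeEquiv φ.toEquiv fun p => ?_)).symm
  show p ∈ Subgroup.centralizer ({σ} : Set (Perm α)) ↔ φ p ∈ Subgroup.centralizer ({φ σ} : Set (Perm α))
  rw [Subgroup.mem_centralizer_singleton_iff, Subgroup.mem_centralizer_singleton_iff, ← map_mul, ← map_mul]
  exact φ.injective.eq_iff.symm

variable {n : ℕ}

/-- the embedding shifting the letters by two -/
def shiftEquiv (n : ℕ) : Fin n ≃ {z : Fin (n + 2) // 2 ≤ (z : ℕ)} where
  toFun i := ⟨⟨i + 2, by omega⟩, Nat.le_add_left 2 i⟩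
  invFun z := ⟨(z.1 : ℕ) - 2, by have := z.1.2; have := z.2; omega⟩
  left_inv i := Fin.ext (by simp)
  right_inv z := Subtype.ext (Fin.ext (by have := z.2; simp only; omega))

/-- the corresponding map of symmetric groups -/
def ι (n : ℕ) : Perm (Fin n) →* Perm (Fin (n + 2)) := Perm.extendDomainHom (shiftEquiv n)

/-- shifted letters -/
def up (i : Fin n) : Fin (n + 2) := ⟨i + 2, by omega⟩

theorem up_injective : Function.Injective (up (n := n)) := fun i j h => Fin.ext (by simpa [up] using h)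

theorem up_ne (i : Fin n) {z : Fin (n + 2)} (hz : (z : ℕ) < 2) : up i ≠ z := fun e => by
  rw [← e] at hz; simp [up] at hz

theorem ι_injective : Function.Injective (ι n) := Perm.extendDomainHom_injective (shiftEquiv n)

theorem ι_up (σ : Perm (Fin n)) (i : Fin n) : ι n σ (up i) = up (σ i) := by
  show Perm.extendDomain σ (shiftEquiv n) ((shiftEquiv n i : {z : Fin (n + 2) // 2 ≤ (z : ℕ)}) : Fin (n + 2)) = _
  rw [Perm.extendDomain_apply_image]
  rfl

theorem ι_low (σ : Perm (Fin n)) {z : Fin (n + 2)} (hz : (z : ℕ) < 2) : ι n σ z = z := by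
  show Perm.extendDomain σ (shiftEquiv n) z = z
  rw [Perm.extendDomain_apply_not_subtype]
  omega

theorem cases_up (z : Fin (n + 2)) : (z : ℕ) < 2 ∨ ∃ i : Fin n, up i = z := by
  rcases lt_or_ge (z : ℕ) 2 with h | h
  · exact Or.inl h
  · exact Or.inr ⟨⟨(z : ℕ) - 2, by omega⟩, Fin.ext (by simp [up]; omega)⟩

theorem ι_swap (i j : Fin n) : ι n (swap i j) = swap (up i) (up j) := by
  ext z : 1
  rcases cases_up z with h | ⟨k, rfl⟩
  · rw [ι_low _ h, swap_apply_of_ne_of_ne (up_ne i h).symm (up_ne j h).symm]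
  · rw [ι_up, up_injective.swap_apply]

theorem mem_range_ι {σ : Perm (Fin (n + 2))} (h0 : σ 0 = 0) (h1 : σ 1 = 1) : σ ∈ (ι n).range := by
  have hlow : ∀ z : Fin (n + 2), (z : ℕ) < 2 → σ z = z := by
    intro z hz
    rcases (show (z : ℕ) = 0 ∨ (z : ℕ) = 1 by omega) with e | e
    · rw [show z = 0 from Fin.ext e]; exact h0
    · rw [show z = 1 from Fin.ext (by simpa using e)]; exact h1
  have hmap : ∀ z : Fin (n + 2), 2 ≤ ((σ z : Fin (n + 2)) : ℕ) ↔ 2 ≤ (z : ℕ) := by
    intro z
    constructor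
    · intro h
      by_contra hz
      rw [hlow z (by omega)] at h
      exact hz h
    · intro h
      by_contra hz
      have := σ.injective (hlow (σ z) (by omega))
      rw [this] at hz
      omega
  refine ⟨(shiftEquiv n).symm.permCongr (σ.subtypePerm hmap), ?_⟩
  ext z : 1
  rcases cases_up z with h | ⟨k, rfl⟩
  · rw [ι_low _ h, hlow z h]
  · rw [ι_up]
    show ((shiftEquiv n ((shiftEquiv n).symm ((σ.subtypePerm hmap) (shiftEquiv n k))) : {z : Fin (n + 2) // 2 ≤ (z : ℕ)}) : Fin (n + 2)) = _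
    rw [Equiv.apply_symm_apply]
    rfl

section

variable {G : Type*} [Group G]

theorem side_commute {x : G} {α : Type*} {f : Perm α →* G}
    (hC : Subgroup.centralizer ({x} : Set G) = Subgroup.zpowers x ⊔ f.range) (σ : Perm α) : Commute (f σ) x :=
  Subgroup.mem_centralizer_singleton_iff.1 (hC.ge (Subgroup.mem_sup_right ⟨σ, rfl⟩))

theorem side_mem {x : G} (hxx : x * x = 1) {α : Type*} {f : Perm α →* G}
    (hC : Subgroup.centralizer ({x} : Set G) = Subgroup.zpowers x ⊔ f.range) {p : G} (hp : Commute p x) :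
    ∃ σ, p = f σ ∨ p = x * f σ := by
  let M : Subgroup G :=
    { carrier := {p | ∃ σ, p = f σ ∨ p = x * f σ}
      one_mem' := ⟨1, Or.inl (map_one f).symm⟩
      mul_mem' := by
        rintro _ _ ⟨σ, rfl | rfl⟩ ⟨τ, rfl | rfl⟩
        · exact ⟨σ * τ, Or.inl (map_mul f σ τ).symm⟩
        · exact ⟨σ * τ, Or.inr (by rw [← mul_assoc, (side_commute hC σ).eq, mul_assoc, map_mul])⟩
        · exact ⟨σ * τ, Or.inr (by rw [mul_assoc, map_mul])⟩
        · exact ⟨σ * τ, Or.inl (by rw [mul_assoc x, ← mul_assoc (f σ), (side_commute hC σ).eq, mul_assoc x,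
            ← mul_assoc x x, hxx, one_mul, map_mul])⟩
      inv_mem' := by
        rintro _ ⟨σ, rfl | rfl⟩
        · exact ⟨σ⁻¹, Or.inl (map_inv f σ).symm⟩
        · exact ⟨σ⁻¹, Or.inr (by rw [mul_inv_rev, inv_eq_of_mul_eq_one_right hxx, ← map_inv, (side_commute hC _).eq])⟩ }
  have hle : Subgroup.zpowers x ⊔ f.range ≤ M := by
    refine sup_le (Subgroup.zpowers_le.2 ⟨1, Or.inr (by rw [map_one, mul_one])⟩) ?_
    rintro _ ⟨σ, rfl⟩
    exact ⟨σ, Or.inl rfl⟩
  exact hle (hC.le (Subgroup.mem_centralizer_singleton_iff.2 hp.eq))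

theorem side_iff {x : G} {α : Type*} {f : Perm α →* G} (hf : Function.Injective f)
    (hC : Subgroup.centralizer ({x} : Set G) = Subgroup.zpowers x ⊔ f.range) {q : G} {σ : Perm α}
    (hq : q = f σ ∨ q = x * f σ) (τ : Perm α) : Commute (f τ) q ↔ Commute τ σ := by
  have h0 : Commute (f τ) (f σ) ↔ Commute τ σ := by
    refine ⟨fun h => hf ?_, fun h => h.map f⟩
    rw [map_mul, map_mul]; exact h.eq
  rcases hq with rfl | rfl
  · exact h0
  · refine ⟨fun h => h0.1 ?_, fun h => (side_commute hC τ).mul_right (h0.2 h)⟩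
    have := (side_commute hC τ).inv_right.mul_right h
    simpa using this

theorem side_card {x : G} (hxx : x * x = 1) {α : Type*} {f : Perm α →* G} (hf : Function.Injective f)
    (hx : x ∉ f.range) (hC : Subgroup.centralizer ({x} : Set G) = Subgroup.zpowers x ⊔ f.range) {q : G} {σ : Perm α}
    (hq : q = f σ ∨ q = x * f σ) :
    Nat.card {p : G // Commute p x ∧ Commute p q} = 2 * Nat.card (Subgroup.centralizer ({σ} : Set (Perm α))) := by
  have hxq : Commute x q := by
    rcases hq with rfl | rfl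
    · exact (side_commute hC σ).symm
    · exact (Commute.refl x).mul_right (side_commute hC σ).symm
  rw [← Nat.card_fin 2, ← Nat.card_prod]
  symm
  refine Nat.card_congr (Equiv.ofBijective (fun r : Fin 2 × Subgroup.centralizer ({σ} : Set (Perm α)) =>
    (⟨x ^ (r.1 : ℕ) * f r.2, ((Commute.refl x).pow_left _).mul_left (side_commute hC _),
      (hxq.pow_left _).mul_left ((side_iff hf hC hq _).2 (Subgroup.mem_centralizer_singleton_iff.1 r.2.2))⟩ :
      {p : G // Commute p x ∧ Commute p q})) ⟨?_, ?_⟩)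
  · rintro ⟨i, τ⟩ ⟨j, ρ⟩ h
    have h' : x ^ (i : ℕ) * f τ = x ^ (j : ℕ) * f ρ := congrArg Subtype.val h
    have key : ∀ a b : Perm α, f a ≠ x * f b := fun a b e => hx ⟨a * b⁻¹, by
      rw [map_mul, map_inv, e, mul_inv_cancel_right]⟩
    fin_cases i <;> fin_cases j <;> simp at h'
    · exact Prod.ext rfl (Subtype.ext (hf h'))
    · exact absurd h' (key _ _)
    · exact absurd h'.symm (key _ _)
    · exact Prod.ext rfl (Subtype.ext (hf h'))
  · rintro ⟨p, hpx, hpq⟩
    obtain ⟨τ, hτ⟩ := side_mem hxx hC hpx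
    have hτc : τ ∈ Subgroup.centralizer ({σ} : Set (Perm α)) := by
      refine Subgroup.mem_centralizer_singleton_iff.2 ((side_iff hf hC hq τ).1 ?_).eq
      rcases hτ with rfl | rfl
      · exact hpq
      · have := hxq.inv_left.mul_left hpq
        simpa using this
    rcases hτ with rfl | rfl
    · exact ⟨⟨0, τ, hτc⟩, Subtype.ext (by simp)⟩
    · exact ⟨⟨1, τ, hτc⟩, Subtype.ext (by simp)⟩

theorem card_conj (g a b : G) :
    Nat.card {p : G // Commute p a ∧ Commute p b} =
      Nat.card {p : G // Commute p (g⁻¹ * a * g) ∧ Commute p (g⁻¹ * b * g)} := by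
  refine Nat.card_congr (Equiv.subtypeEquiv (MulAut.conj g⁻¹).toEquiv fun p => ?_)
  show _ ↔ Commute (g⁻¹ * p * g⁻¹⁻¹) _ ∧ Commute (g⁻¹ * p * g⁻¹⁻¹) _
  rw [inv_inv]
  have : ∀ c : G, Commute p c ↔ Commute (g⁻¹ * p * g) (g⁻¹ * c * g) := fun c => by
    have h := Commute.conj_iff (a := p) (b := c) g⁻¹
    rw [inv_inv] at h
    exact h.symm
  rw [← this, ← this]

theorem labelled {m : ℕ} {y : G} {K I : Subgroup G} (e : Perm (Fin (m + 2)) ≃* K) (hm : 3 ≤ m)
    (hcen : ∀ w ∈ I, Commute y w) (hyI : y ∉ I)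
    (hy : ∃ i j : Fin (m + 2), i ≠ j ∧ ((e (swap i j) : K) : G) = y)
    (hI : ∃ a b : Fin (m + 2), a ≠ b ∧
      I = (MulAction.stabilizer (Perm (Fin (m + 2))) a ⊓ MulAction.stabilizer (Perm (Fin (m + 2))) b).map
        (K.subtype.comp e.toMonoidHom)) :
    ∃ f : Perm (Fin (m + 2)) →* G, Function.Injective f ∧ f.range = K ∧ f (swap 0 1) = y ∧ I = (ι m).range.map f := by
  obtain ⟨i, j, hij, hy⟩ := hy
  obtain ⟨a, b, hab, hI⟩ := hI
  set F := K.subtype.comp e.toMonoidHom with hFdef
  have hF : Function.Injective F := K.subtype_injective.comp e.injective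
  have hFy : F (swap i j) = y := hy
  have hmem : ∀ σ : Perm (Fin (m + 2)), σ a = a → σ b = b → F σ ∈ I := fun σ ha hb => by
    rw [hI]; exact ⟨σ, ⟨ha, hb⟩, rfl⟩
  have hout : ∀ {u v : Fin (m + 2)}, u ≠ v → F (swap u v) = y → u = a ∨ u = b := by
    intro u v huv he
    by_contra! h
    obtain ⟨k, hk⟩ : ∃ k : Fin (m + 2), k ∉ ({a, b, u, v} : Finset (Fin (m + 2))) := by
      by_contra! hall
      have h1 := Finset.card_le_card (show Finset.univ ⊆ ({a, b, u, v} : Finset (Fin (m + 2))) from fun z _ => hall z)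
      have h2 : ({a, b, u, v} : Finset (Fin (m + 2))).card ≤ 4 := Finset.card_le_four
      rw [Finset.card_univ, Fintype.card_fin] at h1
      omega
    simp only [Finset.mem_insert, Finset.mem_singleton, not_or] at hk
    have hc := hcen _ (hmem (swap u k) (swap_apply_of_ne_of_ne h.1.symm (Ne.symm hk.1))
      (swap_apply_of_ne_of_ne h.2.symm (Ne.symm hk.2.1)))
    rw [← he] at hc
    have h' : swap u v * swap u k = swap u k * swap u v := hF (by rw [map_mul, map_mul]; exact hc.eq)
    have h2 := DFunLike.congr_fun h' u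
    simp only [Perm.mul_apply, swap_apply_left] at h2
    rw [swap_apply_of_ne_of_ne hk.2.2.1 hk.2.2.2, swap_apply_of_ne_of_ne huv.symm (Ne.symm hk.2.2.2)] at h2
    exact hk.2.2.2 h2
  have hi := hout hij hFy
  have hj := hout hij.symm (by rw [swap_comm]; exact hFy)
  have hsw : swap i j = swap a b := by
    rcases hi with rfl | rfl <;> rcases hj with rfl | rfl
    · exact absurd rfl hij
    · rfl
    · exact swap_comm _ _
    · exact absurd rfl hij
  let π₁ : Perm (Fin (m + 2)) := swap 0 a
  let π : Perm (Fin (m + 2)) := swap (π₁ 1) b * π₁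
  have hπ0 : π 0 = a := by
    show swap (π₁ 1) b (π₁ 0) = a
    rw [show π₁ 0 = a from swap_apply_left 0 a]
    refine swap_apply_of_ne_of_ne (fun e => ?_) hab
    have h01 := π₁.injective ((show π₁ 1 = a from e.symm).trans (swap_apply_left 0 a).symm)
    simp at h01
  have hπ1 : π 1 = b := swap_apply_left _ _
  refine ⟨F.comp (MulAut.conj π).toMonoidHom, hF.comp (MulEquiv.injective _), ?_, ?_, ?_⟩
  · ext w
    constructor
    · rintro ⟨σ, rfl⟩; exact (e _).2
    · intro hw
      refine ⟨π⁻¹ * e.symm ⟨w, hw⟩ * π, ?_⟩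
      show F (π * (π⁻¹ * e.symm ⟨w, hw⟩ * π) * π⁻¹) = w
      rw [show π * (π⁻¹ * e.symm ⟨w, hw⟩ * π) * π⁻¹ = e.symm ⟨w, hw⟩ by group]
      show ((e (e.symm ⟨w, hw⟩) : K) : G) = w
      rw [e.apply_symm_apply]
  · show F (π * swap 0 1 * π⁻¹) = y
    rw [← Equiv.swap_apply_apply, hπ0, hπ1, ← hsw, hFy]
  · have hπa : π⁻¹ a = 0 := by rw [← hπ0, Perm.inv_def, symm_apply_apply]
    have hπb : π⁻¹ b = 1 := by rw [← hπ1, Perm.inv_def, symm_apply_apply]
    rw [hI]
    ext w
    constructor
    · rintro ⟨σ, ⟨ha, hb⟩, rfl⟩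
      have ha' : σ a = a := ha
      have hb' : σ b = b := hb
      refine ⟨π⁻¹ * σ * π, mem_range_ι ?_ ?_, ?_⟩
      · show π⁻¹ (σ (π 0)) = 0; rw [hπ0, ha', hπa]
      · show π⁻¹ (σ (π 1)) = 1; rw [hπ1, hb', hπb]
      · show F (π * (π⁻¹ * σ * π) * π⁻¹) = F σ
        congr 1; group
    · rintro ⟨_, ⟨τ, rfl⟩, rfl⟩
      refine ⟨π * ι m τ * π⁻¹, ⟨?_, ?_⟩, rfl⟩
      · show π (ι m τ (π⁻¹ a)) = a; rw [hπa, ι_low τ (by simp), hπ0]
      · show π (ι m τ (π⁻¹ b)) = b; rw [hπb, ι_low τ (by simp), hπ1]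

theorem injective_of_big {N : ℕ} (hN : 5 ≤ N) (φ : Perm (Fin N) →* G) (h : 2 < Nat.card φ.range) :
    Function.Injective φ := by
  rw [← MonoidHom.ker_eq_bot_iff]
  haveI : IsSimpleGroup (alternatingGroup (Fin N)) := alternatingGroup.isSimpleGroup (by rw [Nat.card_fin]; exact hN)
  haveI : Nontrivial (Fin N) := Fin.nontrivial_iff_two_le.2 (by omega)
  rcases ((inferInstance : (φ.ker.subgroupOf (alternatingGroup (Fin N))).Normal)).eq_bot_or_eq_top with hb | ht
  · refine le_bot_iff.1 fun k hk => ?_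
    have hcen : k ∈ Subgroup.center (Perm (Fin N)) := by
      rw [Subgroup.mem_center_iff]
      intro p
      have hd : p * k * p⁻¹ * k⁻¹ ∈ alternatingGroup (Fin N) := by
        show Perm.sign (p * k * p⁻¹ * k⁻¹) = 1
        rw [map_mul, map_mul, map_mul, map_inv, map_inv, mul_comm (Perm.sign p), mul_inv_cancel_right, mul_inv_cancel]
      have hk' : p * k * p⁻¹ * k⁻¹ ∈ φ.ker :=
        φ.ker.mul_mem ((MonoidHom.normal_ker φ).conj_mem k hk p) (φ.ker.inv_mem hk)
      have h1 : (⟨_, hd⟩ : alternatingGroup (Fin N)) ∈ φ.ker.subgroupOf (alternatingGroup (Fin N)) := hk'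
      rw [hb, Subgroup.mem_bot] at h1
      have h2 : p * k * p⁻¹ * k⁻¹ = 1 := congrArg Subtype.val h1
      rw [mul_inv_eq_one, mul_inv_eq_iff_eq_mul] at h2
      exact h2
    rw [Subgroup.mem_bot]
    by_contra hne
    obtain ⟨a, ha⟩ : ∃ a, k a ≠ a := by
      by_contra! hall
      exact hne (Equiv.ext hall)
    obtain ⟨c, hc⟩ : ∃ c : Fin N, c ∉ ({a, k a} : Finset (Fin N)) := by
      by_contra! hall
      have h1 := Finset.card_le_card (show Finset.univ ⊆ ({a, k a} : Finset (Fin N)) from fun z _ => hall z)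
      rw [Finset.card_univ, Fintype.card_fin] at h1
      have h2 : ({a, k a} : Finset (Fin N)).card ≤ 2 := Finset.card_le_two
      omega
    simp only [Finset.mem_insert, Finset.mem_singleton, not_or] at hc
    have h3 := DFunLike.congr_fun (Subgroup.mem_center_iff.1 hcen (swap (k a) c)) a
    simp only [Perm.mul_apply, swap_apply_left] at h3
    rw [swap_apply_of_ne_of_ne (Ne.symm ha) (Ne.symm hc.1)] at h3
    exact hc.2 h3
  · exfalso
    have hle : alternatingGroup (Fin N) ≤ φ.ker := fun w hw => by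
      have : (⟨w, hw⟩ : alternatingGroup (Fin N)) ∈ φ.ker.subgroupOf (alternatingGroup (Fin N)) := ht ▸ Subgroup.mem_top _
      exact this
    have := Nat.le_of_dvd (by rw [alternatingGroup.index_eq_two]; norm_num) (Subgroup.index_dvd_of_le hle)
    rw [alternatingGroup.index_eq_two, Subgroup.index_ker] at this
    omega

theorem main [Finite G] (hn : 7 ≤ n) {x y : G} (f g : Perm (Fin (n + 2)) →* G) (hf : Function.Injective f)
    (hg : Function.Injective g) (hCx : Subgroup.centralizer ({x} : Set G) = Subgroup.zpowers x ⊔ f.range)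
    (hx : x ∉ f.range) (hCy : Subgroup.centralizer ({y} : Set G) = Subgroup.zpowers y ⊔ g.range) (hy : y ∉ g.range)
    (hfy : f (swap 0 1) = y) (hgx : g (swap 0 1) = x) (hI : (ι n).range.map f = (ι n).range.map g) :
    Nonempty (↥(f.range ⊔ g.range) ≃* Perm (Fin (n + 4))) := by
  classical
  have hxx : x * x = 1 := by rw [← hgx, ← map_mul, swap_mul_self, map_one]
  have hyy : y * y = 1 := by rw [← hfy, ← map_mul, swap_mul_self, map_one]
  have h01 : (0 : Fin (n + 2)) ≠ 1 := by simp
  have hfx := side_commute hCx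
  have hgy := side_commute hCy
  have hcard : Fintype.card (Fin n) = n := Fintype.card_fin n
  -- the transition between the two labellings
  have hr : (f.comp (ι n)).range = (g.comp (ι n)).range := by
    rw [MonoidHom.range_comp, MonoidHom.range_comp, hI]
  let ψ : Perm (Fin n) ≃* Perm (Fin n) :=
    ((MonoidHom.ofInjective (f := f.comp (ι n)) (hf.comp ι_injective)).trans (MulEquiv.subgroupCongr hr)).trans
      (MonoidHom.ofInjective (f := g.comp (ι n)) (hg.comp ι_injective)).symm
  have hψ : ∀ σ, g (ι n (ψ σ)) = f (ι n σ) := fun σ => by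
    show (g.comp (ι n)) ((MonoidHom.ofInjective (f := g.comp (ι n)) (hg.comp ι_injective)).symm
      (MulEquiv.subgroupCongr hr ((MonoidHom.ofInjective (f := f.comp (ι n)) (hf.comp ι_injective)) σ))) = _
    rw [MonoidHom.apply_ofInjective_symm]
    rfl
  have hψsw : ∀ {σ : Perm (Fin n)}, σ.IsSwap → (ψ σ).IsSwap := fun h => auto_swap (by omega) ψ h
  have hψc : ∀ {σ τ : Perm (Fin n)}, Commute (ψ σ) (ψ τ) → Commute σ τ := fun {σ τ} h =>
    ψ.injective (by rw [map_mul, map_mul]; exact h.eq)
  -- the last letters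
  let F : ∀ k : ℕ, k < n → Fin n := fun k hk => ⟨k, hk⟩
  have hneF : ∀ {i j : ℕ} (hi : i < n) (hj : j < n), i ≠ j → F i hi ≠ F j hj := fun _ _ h e => h (Fin.ext_iff.1 e)
  let last : Perm (Fin n) := swap (F (n - 2) (by omega)) (F (n - 1) (by omega))
  have hnadj : ∀ {a b c : Fin n}, a ≠ b → b ≠ c → a ≠ c → ¬ Commute (swap a b) (swap b c) := by
    intro a b c hab hbc hac h
    have := DFunLike.congr_fun h.eq a
    simp only [Perm.mul_apply, swap_apply_left] at this
    rw [swap_apply_of_ne_of_ne hab hac, swap_apply_left] at this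
    exact hbc this
  have hlastsw : last.IsSwap := ⟨_, _, hneF _ _ (by omega), rfl⟩
  obtain ⟨a, b, c, hab, hbc, hac, hprev, hlast⟩ := swap_share
    (hψsw (σ := swap (F (n - 3) (by omega)) (F (n - 2) (by omega))) ⟨_, _, hneF _ _ (by omega), rfl⟩) (hψsw hlastsw)
    (fun h => hnadj (hneF _ _ (by omega)) (hneF _ _ (by omega)) (hneF _ _ (by omega)) (hψc h))
  -- transpositions of the common part fixing `c`
  have hfixc : ∀ {k : ℕ} (hk : k + 1 < n), k + 2 < n → ψ (swap (F k (by omega)) (F (k + 1) hk)) c = c := by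
    intro k hk hk2
    rcases (show k = n - 3 ∨ k + 3 < n by omega) with rfl | hk3
    · rw [show F (n - 3 + 1) hk = F (n - 2) (by omega) from Fin.ext (show n - 3 + 1 = n - 2 by omega), hprev]
      exact swap_apply_of_ne_of_ne hac.symm hbc.symm
    · refine (swap_fix_of_commute hbc (hψsw ⟨_, _, hneF _ _ (by omega), rfl⟩) ?_ ?_).2
      · rw [← hlast]
        refine Commute.map ?_ ψ
        refine Perm.Disjoint.commute fun z => ?_
        by_cases hz : z = F k (by omega) ∨ z = F (k + 1) hk
        · right; rcases hz with rfl | rfl <;> exact swap_apply_of_ne_of_ne (hneF _ _ (by omega)) (hneF _ _ (by omega))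
        · push Not at hz; left; exact swap_apply_of_ne_of_ne hz.1 hz.2
      · rw [← hlast]
        intro e
        have h2 := DFunLike.congr_fun (ψ.injective e) (F k (by omega))
        rw [swap_apply_left, swap_apply_of_ne_of_ne (hneF _ _ (by omega)) (hneF _ _ (by omega))] at h2
        exact hneF _ _ (by omega) h2
  let B : G := g (swap 1 (up c))
  have hBy : Commute B y := hgy _
  have h1c : (1 : Fin (n + 2)) ≠ up c := (up_ne c (by simp)).symm
  have hBfix : ∀ {σ : Perm (Fin n)}, ψ σ c = c → Commute B (f (ι n σ)) := by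
    intro σ h
    rw [← hψ]
    refine Commute.map ?_ g
    have he := Equiv.swap_apply_apply (ι n (ψ σ)) 1 (up c)
    rw [ι_low (ψ σ) (by simp), ι_up, h] at he
    exact eq_mul_inv_iff_mul_eq.1 he
  have hBlast : ¬ Commute B (f (ι n last)) := by
    rw [← hψ]
    intro h
    have h' : swap 1 (up c) * ι n (ψ last) = ι n (ψ last) * swap 1 (up c) := hg (by rw [map_mul, map_mul]; exact h.eq)
    rw [hlast, ι_swap] at h'
    have := DFunLike.congr_fun h' 1
    simp only [Perm.mul_apply, swap_apply_left] at this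
    rw [swap_apply_right, swap_apply_of_ne_of_ne (up_ne b (by simp)).symm h1c, swap_apply_left] at this
    exact hbc (up_injective this).symm
  -- the two new letters are independent
  let D : G := f (swap 1 (up (F 0 (by omega))))
  have hBD : Commute B D := by
    obtain ⟨p, q, hpq, ht⟩ := hψsw (σ := swap (F 2 (by omega)) (F (2 + 1) (by omega))) ⟨_, _, hneF _ _ (by omega), rfl⟩
    have hcpq : c ≠ p ∧ c ≠ q := by
      have h := hfixc (k := 2) (by omega) (by omega)
      rw [ht] at h
      constructor <;> rintro rfl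
      · rw [swap_apply_left] at h; exact hpq h.symm
      · rw [swap_apply_right] at h; exact hpq h
    let η : Perm (Fin (n + 2)) := swap 0 (up p) * swap 1 (up q)
    have hη : ∀ z, η⁻¹ z = swap 1 (up q) (swap 0 (up p) z) := fun z => by
      rw [show η⁻¹ = swap 1 (up q) * swap 0 (up p) by simp [η, mul_inv_rev], Perm.mul_apply]
    let t : G := f (ι n (swap (F 2 (by omega)) (F (2 + 1) (by omega))))
    have hconj : ∀ u v : Fin (n + 2), (g η)⁻¹ * g (swap u v) * g η = g (swap (η⁻¹ u) (η⁻¹ v)) := fun u v => by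
      rw [← map_inv, ← map_mul, ← map_mul, Equiv.swap_apply_apply, inv_inv]
    have hp0 : (0 : Fin (n + 2)) ≠ up p := (up_ne p (by simp)).symm
    have ht' : (g η)⁻¹ * t * g η = x := by
      show (g η)⁻¹ * f (ι n _) * g η = x
      rw [← hψ, ht, ι_swap, hconj, hη, hη, swap_apply_right,
        swap_apply_of_ne_of_ne h01 (up_ne q (by simp)).symm,
        swap_apply_of_ne_of_ne (up_ne q (by simp)) (fun e => hpq (up_injective e).symm), swap_apply_right, hgx]
    have hB' : (g η)⁻¹ * B * g η = g (ι n (swap q c)) := by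
      show (g η)⁻¹ * g (swap 1 (up c)) * g η = _
      rw [hconj, hη, hη, swap_apply_of_ne_of_ne h01.symm (up_ne p (by simp)).symm, swap_apply_left,
        swap_apply_of_ne_of_ne (up_ne c (by simp)) (fun e => hcpq.1 (up_injective e)),
        swap_apply_of_ne_of_ne h1c.symm (fun e => hcpq.2 (up_injective e)), ι_swap]
    obtain ⟨σ, hσ⟩ := ψ.surjective (swap q c)
    rw [← hσ, hψ] at hB'
    have hσsw : σ.IsSwap := by
      have := auto_swap (by omega) ψ.symm (σ := swap q c) ⟨q, c, hcpq.2.symm, rfl⟩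
      rwa [← hσ, ψ.symm_apply_apply] at this
    have hswι : ∀ {τ : Perm (Fin n)}, τ.IsSwap → (ι n τ).IsSwap := by
      rintro τ ⟨u, v, huv, rfl⟩
      exact ⟨_, _, fun e => huv (up_injective e), ι_swap u v⟩
    have hc1 : Nat.card {w : G // Commute w t ∧ Commute w B} = 2 * (2 * n.factorial) := by
      rw [card_conj (g η), ht', hB', side_card hxx hf hx hCx (Or.inl rfl),
        (isSwap_iff_card (by rw [Fintype.card_fin]; omega) (by
          obtain ⟨u, v, -, huv⟩ := hswι hσsw; rw [huv]; exact swap_mul_self u v)).1 (hswι hσsw),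
        Fintype.card_fin, Nat.add_sub_cancel]
    let θ : Perm (Fin (n + 2)) := swap 0 (up (F 2 (by omega))) * swap 1 (up (F (2 + 1) (by omega)))
    have hθ : ∀ z, θ⁻¹ z = swap 1 (up (F (2 + 1) (by omega))) (swap 0 (up (F 2 (by omega))) z) := fun z => by
      rw [show θ⁻¹ = swap 1 (up (F (2 + 1) (by omega))) * swap 0 (up (F 2 (by omega))) by simp [θ, mul_inv_rev],
        Perm.mul_apply]
    have hθfix : ∀ {k : ℕ} (hk : k < n), k ≠ 2 → k ≠ 3 → θ⁻¹ (up (F k hk)) = up (F k hk) := fun {k} hk h2 h3 => by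
      rw [hθ, swap_apply_of_ne_of_ne (up_ne _ (by simp)) (fun e => hneF _ _ h2 (up_injective e)),
        swap_apply_of_ne_of_ne (up_ne _ (by simp)) (fun e => hneF _ _ (by omega) (up_injective e))]
    have hconjf : ∀ u v : Fin (n + 2), (f θ)⁻¹ * f (swap u v) * f θ = f (swap (θ⁻¹ u) (θ⁻¹ v)) := fun u v => by
      rw [← map_inv, ← map_mul, ← map_mul, Equiv.swap_apply_apply, inv_inv]
    have ht2 : (f θ)⁻¹ * t * f θ = y := by
      show (f θ)⁻¹ * f (ι n _) * f θ = y
      rw [ι_swap, hconjf, hθ, hθ, swap_apply_right, swap_apply_of_ne_of_ne h01 (up_ne _ (by simp)).symm,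
        swap_apply_of_ne_of_ne (up_ne _ (by simp)) (fun e => hneF _ _ (by omega) (up_injective e)),
        swap_apply_right, hfy]
    have hx' : (f θ)⁻¹ * x * f θ = x := by rw [mul_assoc, ← (hfx θ).eq, inv_mul_cancel_left]
    let β : G := (f θ)⁻¹ * B * f θ
    have hciff : ∀ u : G, Commute ((f θ)⁻¹ * u * f θ) β ↔ Commute u B := fun u => by
      have h := Commute.conj_iff (a := u) (b := B) (f θ)⁻¹
      rw [inv_inv] at h
      exact h
    have hβy : Commute β y := by
      rw [← ht2]
      exact ((hciff t).2 (hBfix (hfixc (k := 2) (by omega) (by omega))).symm).symm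
    obtain ⟨τ, hτ⟩ := side_mem hyy hCy hβy
    have hBB : B * B = 1 := by show g _ * g _ = 1; rw [← map_mul, swap_mul_self, map_one]
    have hβ2 : β * β = 1 := by
      show (f θ)⁻¹ * B * f θ * ((f θ)⁻¹ * B * f θ) = 1
      rw [show (f θ)⁻¹ * B * f θ * ((f θ)⁻¹ * B * f θ) = (f θ)⁻¹ * (B * B) * f θ by group, hBB]; group
    have hττ : τ * τ = 1 := by
      apply hg
      rw [map_mul, map_one, ← hβ2]
      rcases hτ with e | e <;> rw [e]
      rw [(hgy τ).mul_mul_mul_comm, hyy, one_mul]
    have hc2 := hc1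
    rw [card_conj (f θ), ht2, side_card hyy hg hy hCy hτ] at hc2
    have hτsw : τ.IsSwap := (isSwap_iff_card (by rw [Fintype.card_fin]; omega) hττ).2 (by
      rw [Fintype.card_fin, Nat.add_sub_cancel]; omega)
    have hiff : ∀ ρ, Commute (g ρ) β ↔ Commute ρ τ := side_iff hg hCy hτ
    -- the images of the four transpositions
    have hA : ¬ Commute (swap 0 1) τ := by
      rw [← hiff, hgx, ← hx', hciff, ← hgx]
      intro h
      have h' : swap 0 1 * swap 1 (up c) = swap 1 (up c) * swap (0 : Fin (n + 2)) 1 := hg (by rw [map_mul, map_mul]; exact h.eq)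
      have := DFunLike.congr_fun h' 0
      simp only [Perm.mul_apply, swap_apply_left] at this
      rw [swap_apply_of_ne_of_ne h01 (up_ne c (by simp)).symm, swap_apply_left] at this
      exact h1c this
    have hw : (f θ)⁻¹ * f (ι n last) * f θ = f (ι n last) := by
      show (f θ)⁻¹ * f (ι n (swap _ _)) * f θ = f (ι n (swap _ _))
      rw [ι_swap, hconjf, hθfix _ (by omega) (by omega), hθfix _ (by omega) (by omega)]
    have hC' : ¬ Commute τ (ι n (ψ last)) := by
      intro h
      refine hBlast ((hciff _).1 ?_).symm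
      rw [hw, ← hψ, hiff]
      exact h.symm
    let σ₀ : Perm (Fin n) := swap (F (2 + 1) (by omega)) (F 0 (by omega))
    have hD : (f θ)⁻¹ * D * f θ = g (ι n (ψ σ₀)) := by
      rw [hψ]
      show (f θ)⁻¹ * f (swap 1 _) * f θ = f (ι n (swap _ _))
      rw [ι_swap, hconjf, hθfix _ (by omega) (by omega), hθ,
        swap_apply_of_ne_of_ne h01.symm (up_ne _ (by simp)).symm, swap_apply_left]
    have hσ₀sw : σ₀.IsSwap := ⟨_, _, hneF _ _ (by omega), rfl⟩
    have hlow : ∀ ρ : Perm (Fin n), Commute (ι n ρ) (swap 0 1) := fun ρ => by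
      have he := Equiv.swap_apply_apply (ι n ρ) 0 1
      rw [ι_low ρ (by simp), ι_low ρ (by simp)] at he
      exact (eq_mul_inv_iff_mul_eq.1 he).symm
    have hne01 : ∀ ρ : Perm (Fin n), ι n ρ ≠ swap 0 1 := fun ρ e => by
      have h2 := DFunLike.congr_fun e 0
      rw [ι_low ρ (by simp), swap_apply_left] at h2
      exact h01 h2
    have h4 := four_swaps (A := swap (0 : Fin (n + 2)) 1) (B := τ) (C := ι n (ψ last)) (D := ι n (ψ σ₀))
      ⟨0, 1, h01, rfl⟩ hτsw (hswι (hψsw hlastsw)) (hswι (hψsw hσ₀sw)) hA hC' (hlow _).symm (hne01 _).symm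
      (hlow _) ((Commute.map (Perm.Disjoint.commute fun z => ?_) ψ).map (ι n)) (hne01 _) fun e => ?_
    · refine ((hciff D).1 ?_).symm
      rw [hD, hiff]
      exact h4.symm
    · by_cases hz : z = F (2 + 1) (by omega) ∨ z = F 0 (by omega)
      · right; rcases hz with rfl | rfl <;> exact swap_apply_of_ne_of_ne (hneF _ _ (by omega)) (hneF _ _ (by omega))
      · push Not at hz; left; exact swap_apply_of_ne_of_ne hz.1 hz.2
    · have h2 := DFunLike.congr_fun (ψ.injective (ι_injective e)) (F 0 (by omega))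
      rw [swap_apply_right, swap_apply_of_ne_of_ne (hneF _ _ (by omega)) (hneF _ _ (by omega))] at h2
      exact hneF _ _ (by omega) h2
  -- Moore's generators
  let v : ℕ → G := fun k => if h : k ≤ n then f (swap ⟨k, by omega⟩ ⟨k + 1, by omega⟩) else if k = n + 1 then B else x
  have hv : ∀ k (h : k ≤ n), v k = f (swap ⟨k, by omega⟩ ⟨k + 1, by omega⟩) := fun k h => dif_pos h
  have hvB : v (n + 1) = B := by simp [v]
  have hvx : v (n + 2) = x := by simp [v]
  have hsymm : SymRels v (n + 3) := by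
    refine ⟨fun k hk => ?_, fun k hk => ?_, fun k l hkl hl => ?_⟩
    · rcases (show k ≤ n ∨ k = n + 1 ∨ k = n + 2 by omega) with h | rfl | rfl
      · rw [hv k h, ← map_mul, swap_mul_self, map_one]
      · rw [hvB]; show g _ * g _ = 1; rw [← map_mul, swap_mul_self, map_one]
      · rw [hvx, hxx]
    · rcases (show k < n ∨ k = n ∨ k = n + 1 by omega) with h | h | rfl
      · rw [hv k h.le, hv (k + 1) h, ← map_mul, ← map_mul, ← map_mul, ← map_mul]
        congr 1
        refine swap_braid ⟨_, _, by simp, rfl⟩ ⟨_, _, by simp, rfl⟩ fun hc => ?_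
        have := DFunLike.congr_fun hc.eq ⟨k, by omega⟩
        simp only [Perm.mul_apply, swap_apply_left] at this
        rw [swap_apply_of_ne_of_ne (show (⟨k, by omega⟩ : Fin (n + 2)) ≠ ⟨k + 1, by omega⟩ by simp)
          (show (⟨k, by omega⟩ : Fin (n + 2)) ≠ ⟨k + 1 + 1, by omega⟩ by simp; omega), swap_apply_left] at this
        simp at this
      · subst h
        rw [hv k le_rfl, hvB]
        have hk' : f (swap ⟨k, by omega⟩ ⟨k + 1, by omega⟩) = g (ι k (ψ last)) := by
          rw [hψ, ι_swap]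
          congr 2 <;> exact Fin.ext (by simp [up, F]; omega)
        rw [hk']
        show g _ * g _ * g _ = g _ * g _ * g _
        rw [← map_mul, ← map_mul, ← map_mul, ← map_mul]
        congr 1
        refine swap_braid ?_ ⟨_, _, h1c, rfl⟩ fun hc => hBlast ?_
        · obtain ⟨u, w, huw, e⟩ := hψsw hlastsw
          exact ⟨up u, up w, fun e' => huw (up_injective e'), by rw [e, ι_swap]⟩
        · rw [← hψ]; exact (hc.map g).symm
      · rw [hvB, hvx, ← hgx]
        show g _ * g _ * g _ = g _ * g _ * g _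
        rw [← map_mul, ← map_mul, ← map_mul, ← map_mul]
        congr 1
        refine swap_braid ⟨_, _, h1c, rfl⟩ ⟨_, _, h01, rfl⟩ fun hc => ?_
        have := DFunLike.congr_fun hc.eq 0
        simp only [Perm.mul_apply, swap_apply_left] at this
        rw [swap_apply_of_ne_of_ne h01 (up_ne c (by simp)).symm, swap_apply_left] at this
        exact h1c this.symm
    · rcases (show l ≤ n ∨ l = n + 1 ∨ l = n + 2 by omega) with h | rfl | rfl
      · rw [hv k (by omega), hv l h, ← map_mul, ← map_mul]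
        congr 1
        refine (Perm.Disjoint.commute fun z => ?_).eq
        by_cases hz : z = ⟨k, by omega⟩ ∨ z = ⟨k + 1, by omega⟩
        · right; rcases hz with rfl | rfl <;> exact swap_apply_of_ne_of_ne (by simp; omega) (by simp; omega)
        · push Not at hz; left; exact swap_apply_of_ne_of_ne hz.1 hz.2
      · rw [hvB, hv k (by omega)]
        rcases (show k = 0 ∨ k = 1 ∨ ∃ j, k = j + 2 by
          rcases lt_or_ge k 2 with h | h
          · omega
          · exact Or.inr (Or.inr ⟨k - 2, by omega⟩)) with rfl | rfl | ⟨j, rfl⟩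
        · rw [show f (swap ⟨0, by omega⟩ ⟨0 + 1, by omega⟩) = y by rw [← hfy]; rfl]
          exact hBy.symm.eq
        · rw [show f (swap ⟨1, by omega⟩ ⟨1 + 1, by omega⟩) = D from rfl]
          exact hBD.symm.eq
        · rw [show f (swap ⟨j + 2, by omega⟩ ⟨j + 2 + 1, by omega⟩) =
            f (ι n (swap (F j (by omega)) (F (j + 1) (by omega)))) by rw [ι_swap]; rfl]
          exact (hBfix (hfixc (by omega) (by omega))).symm.eq
      · rw [hvx]
        rcases (show k ≤ n ∨ k = n + 1 by omega) with h | rfl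
        · rw [hv k h]; exact (hfx _).eq
        · omega
  -- the homomorphism from the big symmetric group
  obtain ⟨cs, hcs⟩ := Cfsg.Agent.S2530.result (n + 3)
  have hlift : (CoxeterMatrix.A (n + 3)).IsLiftable (fun i : Fin (n + 3) => v i) := by
    intro i j
    show (v i * v j) ^ (CoxeterMatrix.A (n + 3)).M i j = 1
    have hi := hsymm.sq i i.2
    have hj := hsymm.sq j j.2
    simp only [CoxeterMatrix.A, Matrix.of_apply]
    have hbr : ∀ {u w : G}, u * u = 1 → w * w = 1 → u * w * u = w * u * w → (u * w) ^ 3 = 1 := by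
      intro u w hu hw h
      calc (u * w) ^ 3 = u * w * u * (w * u * w) := by simp [pow_succ, mul_assoc]
        _ = w * u * w * (w * u * w) := by rw [h]
        _ = w * u * (w * w) * u * w := by group
        _ = 1 := by rw [hw, mul_one, mul_assoc w u u, hu, mul_one, hw]
    have hcm : ∀ {u w : G}, u * u = 1 → w * w = 1 → u * w = w * u → (u * w) ^ 2 = 1 := by
      intro u w hu hw h
      rw [(show Commute u w from h).mul_pow, sq, sq, hu, hw, one_mul]
    split_ifs with h1 h2
    · subst h1; rw [pow_one, hi]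
    · rcases h2 with h2 | h2
      · refine hbr hi hj ?_
        rw [← h2]
        exact (hsymm.braid j (by omega)).symm
      · refine hbr hi hj ?_
        rw [← h2]
        exact hsymm.braid i (by omega)
    · have h1' : (i : ℕ) ≠ j := fun e => h1 (Fin.ext e)
      push Not at h2
      rcases lt_or_gt_of_ne h1' with h | h
      · exact hcm hi hj (hsymm.comm i j (by omega) j.2)
      · exact hcm hi hj (hsymm.comm j i (by omega) i.2).symm
  let φ : Perm (Fin (n + 4)) →* G := cs.lift ⟨_, hlift⟩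
  have hφ : ∀ i : Fin (n + 3), φ (cs.simple i) = v i := fun i => cs.lift_apply_simple hlift i
  have hvmem : ∀ k < n + 3, v k ∈ φ.range := fun k hk => ⟨_, hφ ⟨k, hk⟩⟩
  have hfle : f.range ≤ φ.range := by
    rw [MonoidHom.range_eq_map, ← Subgroup.closure_eq_top_of_mclosure_eq_top (Perm.mclosure_swap_castSucc_succ (n + 1)),
      MonoidHom.map_closure, Subgroup.closure_le]
    rintro _ ⟨_, ⟨i, rfl⟩, rfl⟩
    rw [show f (swap i.castSucc i.succ) = v i from (hv i (by omega)).symm]
    exact hvmem i (by omega)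
  have hgle : g.range ≤ φ.range := by
    let H := φ.range.comap g
    suffices hH : H = ⊤ by
      rintro _ ⟨σ, rfl⟩
      exact (hH ▸ Subgroup.mem_top σ : σ ∈ H)
    have hιH : ∀ σ, ι n σ ∈ H := fun σ => by
      obtain ⟨τ, rfl⟩ := ψ.surjective σ
      show g _ ∈ φ.range
      rw [hψ]
      exact hfle ⟨_, rfl⟩
    have hc' : swap 1 (up c) ∈ H := by
      show B ∈ φ.range
      rw [← hvB]; exact hvmem _ (by omega)
    have h01' : swap (0 : Fin (n + 2)) 1 ∈ H := by
      show g _ ∈ φ.range
      rw [hgx, ← hvx]; exact hvmem _ (by omega)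
    have hconjH : ∀ {h : Perm (Fin (n + 2))} {u w : Fin (n + 2)}, h ∈ H → swap u w ∈ H → swap (h u) (h w) ∈ H := by
      intro h u w hh hs
      rw [Equiv.swap_apply_apply]
      exact H.mul_mem (H.mul_mem hh hs) (H.inv_mem hh)
    have h1up : ∀ i, swap 1 (up i) ∈ H := fun i => by
      have h := hconjH (hιH (swap c i)) hc'
      rwa [ι_low _ (by simp), ι_up, swap_apply_left] at h
    have h0up : ∀ i, swap 0 (up i) ∈ H := fun i => by
      have h := hconjH h01' (h1up i)
      rwa [swap_apply_right, swap_apply_of_ne_of_ne (up_ne i (by simp)) (up_ne i (by simp))] at h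
    refine top_unique ?_
    rw [← Perm.closure_isSwap, Subgroup.closure_le]
    rintro _ ⟨u, w, huw, rfl⟩
    rcases cases_up u with hu | ⟨i, rfl⟩ <;> rcases cases_up w with hw | ⟨j, rfl⟩
    · rcases (show (u : ℕ) = 0 ∧ (w : ℕ) = 1 ∨ (u : ℕ) = 1 ∧ (w : ℕ) = 0 by
        have : (u : ℕ) ≠ w := fun e => huw (Fin.ext e)
        omega) with ⟨e, e'⟩ | ⟨e, e'⟩
      · rw [show u = 0 from Fin.ext e, show w = 1 from Fin.ext (by simpa using e')]; exact h01'
      · rw [show u = 1 from Fin.ext (by simpa using e), show w = 0 from Fin.ext e', swap_comm]; exact h01'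
    · rcases (show (u : ℕ) = 0 ∨ (u : ℕ) = 1 by omega) with e | e
      · rw [show u = 0 from Fin.ext e]; exact h0up j
      · rw [show u = 1 from Fin.ext (by simpa using e)]; exact h1up j
    · rcases (show (w : ℕ) = 0 ∨ (w : ℕ) = 1 by omega) with e | e
      · rw [show w = 0 from Fin.ext e, swap_comm]; exact h0up i
      · rw [show w = 1 from Fin.ext (by simpa using e), swap_comm]; exact h1up i
    · rw [← ι_swap]; exact hιH _
  have hrange : φ.range = f.range ⊔ g.range := by
    refine le_antisymm ?_ (sup_le hfle hgle)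
    rw [MonoidHom.range_eq_map, ← cs.subgroup_closure_range_simple, MonoidHom.map_closure, Subgroup.closure_le]
    rintro _ ⟨_, ⟨i, rfl⟩, rfl⟩
    rw [hφ]
    rcases (show (i : ℕ) ≤ n ∨ (i : ℕ) = n + 1 ∨ (i : ℕ) = n + 2 by omega) with h | h | h
    · rw [hv i h]; exact Subgroup.mem_sup_left ⟨_, rfl⟩
    · rw [h, hvB]; exact Subgroup.mem_sup_right ⟨_, rfl⟩
    · rw [h, hvx, ← hgx]; exact Subgroup.mem_sup_right ⟨_, rfl⟩
  have hbig : 2 < Nat.card φ.range := by
    refine lt_of_lt_of_le ?_ (Subgroup.card_le_of_le hfle)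
    rw [← Nat.card_congr (MonoidHom.ofInjective hf).toEquiv, Nat.card_perm, Nat.card_fin]
    exact (show 2 < n + 2 by omega).trans_le (Nat.self_le_factorial _)
  exact ⟨((MonoidHom.ofInjective (injective_of_big (by omega) φ hbig)).trans (MulEquiv.subgroupCongr hrange)).symm⟩

end

end Cfsg.Agent.Lie.SymExtend
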