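import Mathlib
import Cfsg.Prelude.Def_TwoFusion
import Cfsg.Agent.S0213
import Cfsg.Agent.Lib.Lie.CentralizerTransfer
import Cfsg.Agent.Lib.LocalEven.ExtraspecialFive
import Cfsg.Agent.Lib.Solv.Component
import Cfsg.Agent.Lib.Local.Basics

/-!
Counting involution pairs in centralizers of the Hall–Janko pattern.
-/

set_option autoImplicit false
set_option linter.style.haveILetI false
set_option linter.unusedSectionVars false

namespace Cfsg.Agent.Lie.HallJankoPairs

open Equiv

universe u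

theorem a5_inv_fix : ∀ σ : Perm (Fin 5), Perm.sign σ = 1 → σ * σ = 1 → σ ≠ 1 →
    ∃ i : Fin 5, σ i = i ∧ ∀ j, σ j = j → j = i := by decide +kernel

theorem a5_tri : ∀ σ : Perm (Fin 5), Perm.sign σ = 1 → σ * σ = 1 → σ ≠ 1 → ∀ i : Fin 5, σ i = i →
    ∃ g : Perm (Fin 5), Perm.sign g = 1 ∧ g i = i ∧ σ * (g * σ * g⁻¹) = g * g * σ * (g * g)⁻¹ := by
  decide +kernel

theorem a5_order_cases : ∀ g : alternatingGroup (Fin 5), g * g = 1 ∨ g ^ 15 = 1 := by decide +kernel

theorem a5_inv_count :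
    Fintype.card {g : alternatingGroup (Fin 5) // g * g = 1 ∧ g ≠ 1} = 15 := by decide +kernel

theorem a5_pair_count :
    Fintype.card {p : alternatingGroup (Fin 5) × alternatingGroup (Fin 5) //
      (p.1 * p.1 = 1 ∧ p.1 ≠ 1) ∧ (p.2 * p.2 = 1 ∧ p.2 ≠ 1) ∧ (p.1 * p.2 = p.2 * p.1 → p.1 = p.2)} = 195 := by
  decide +kernel

variable {G : Type u} [Group G] [Finite G]

theorem ord_two {x : G} (h : orderOf x = 2) : x * x = 1 ∧ x ≠ 1 := by
  refine ⟨by rw [← sq, ← h, pow_orderOf_eq_one], fun e => ?_⟩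
  rw [e, orderOf_one] at h
  norm_num at h

theorem ord_of {x : G} (h : x * x = 1) (h1 : x ≠ 1) : orderOf x = 2 :=
  orderOf_eq_prime (by rw [sq, h]) h1

/-- an involution in the group generated by a product of two involutions commutes with both factors -/
theorem commute_of_mem {u v x : G} (hu : u * u = 1) (hv : v * v = 1) (hx : x * x = 1)
    (h : x ∈ Subgroup.zpowers (u * v)) : Commute u x ∧ Commute v x := by
  obtain ⟨k, hk⟩ := Subgroup.mem_zpowers_iff.1 h
  have hui : u⁻¹ = u := inv_eq_of_mul_eq_one_right hu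
  have hvi : v⁻¹ = v := inv_eq_of_mul_eq_one_right hv
  have h1 : u * x * u⁻¹ = x⁻¹ := by
    rw [← hk, ← conj_zpow, ← inv_zpow]
    congr 1
    rw [mul_inv_rev, hui, hvi, ← mul_assoc u u v, hu, one_mul]
  rw [inv_eq_of_mul_eq_one_right hx] at h1
  have hux : Commute u x := mul_inv_eq_iff_eq_mul.1 h1
  refine ⟨hux, ?_⟩
  have h2 : Commute (u * v) x := by rw [← hk]; exact (Commute.refl _).zpow_right k
  have h3 : Commute (u⁻¹ * (u * v)) x := hux.inv_left.mul_left h2
  simpa using h3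

/-- the pairs through an involution whose centralizer is a four group times `A₅` -/
theorem count_t {z t : G} (hz : orderOf z = 2) (ht : orderOf t = 2) (hzt : ¬ IsConj z t) (V B : Subgroup G)
    (hVB : Cfsg.IsInternalDirectProduct V B (Subgroup.centralizer ({t} : Set G)))
    (hV : Nat.card ↥V = 4) (hV2 : ∀ v ∈ V, v ^ 2 = 1) (htV : t ∈ V)
    (hB : Nonempty (↥B ≃* alternatingGroup (Fin 5)))
    (hBz : ∀ x ∈ B, orderOf x = 2 → IsConj x z)
    (hCt : ∀ x ∈ Subgroup.centralizer ({t} : Set G), orderOf x = 2 → x ∉ B → IsConj x t) :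
    Nat.card {p : G × G // IsConj z p.1 ∧ IsConj t p.2 ∧ t ∈ Subgroup.zpowers (p.1 * p.2)} = 195 ∧
      Nat.card ↥(Subgroup.centralizer ({t} : Set G)) = 240 := by
  classical
  obtain ⟨e⟩ := hB
  obtain ⟨hVC, hBC, hcomm, hinf, hsup⟩ := hVB
  obtain ⟨htt, ht1⟩ := ord_two ht
  have hinv : ∀ {x y : G}, IsConj x y → orderOf x = 2 → orderOf y = 2 := fun {x y} h hx =>
    (Fusion.orderOf_isConj h).symm.trans hx
  have hdec : ∀ x ∈ Subgroup.centralizer ({t} : Set G), ∃ w ∈ V, ∃ b ∈ B, w * b = x := by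
    intro x hx
    let M : Subgroup G :=
      { carrier := {x | ∃ a ∈ V, ∃ b ∈ B, a * b = x}
        one_mem' := ⟨1, V.one_mem, 1, B.one_mem, one_mul 1⟩
        mul_mem' := by
          rintro _ _ ⟨a, ha, b, hb, rfl⟩ ⟨c, hc, d, hd, rfl⟩
          exact ⟨a * c, V.mul_mem ha hc, b * d, B.mul_mem hb hd, (show Commute c b from hcomm c hc b hb).mul_mul_mul_comm a d⟩
        inv_mem' := by
          rintro _ ⟨a, ha, b, hb, rfl⟩
          exact ⟨a⁻¹, V.inv_mem ha, b⁻¹, B.inv_mem hb, by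
            rw [mul_inv_rev, ((show Commute a b from hcomm a ha b hb).inv_inv).eq]⟩ }
    have hle : V ⊔ B ≤ M := sup_le (fun x hx => ⟨x, hx, 1, B.one_mem, mul_one x⟩)
      fun x hx => ⟨1, V.one_mem, x, hx, one_mul x⟩
    exact hle (hsup.ge hx)
  have huniq : ∀ {w w' b b' : G}, w ∈ V → w' ∈ V → b ∈ B → b' ∈ B → w * b = w' * b' → w = w' ∧ b = b' := by
    intro w w' b b' hw hw' hb hb' h
    have hm : w'⁻¹ * w ∈ V ⊓ B := ⟨V.mul_mem (V.inv_mem hw') hw, by
      have : w'⁻¹ * w = b' * b⁻¹ := by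
        rw [eq_mul_inv_iff_mul_eq, mul_assoc, h, inv_mul_cancel_left]
      rw [this]; exact B.mul_mem hb' (B.inv_mem hb)⟩
    rw [hinf, Subgroup.mem_bot, inv_mul_eq_one] at hm
    subst hm
    exact ⟨rfl, mul_left_cancel h⟩
  have hnB : ∀ {b : G}, b ∈ B → t * b ∉ B := by
    intro b hb h
    have : t ∈ V ⊓ B := ⟨htV, by simpa using B.mul_mem h (B.inv_mem hb)⟩
    rw [hinf, Subgroup.mem_bot] at this
    exact ht1 this
  constructor
  · rw [← a5_pair_count, ← Nat.card_eq_fintype_card]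
    symm
    have hcB : ∀ a : alternatingGroup (Fin 5), a * a = 1 → a ≠ 1 →
        orderOf ((e.symm a : B) : G) = 2 := fun a ha ha1 => by
      rw [Subgroup.orderOf_coe, MulEquiv.orderOf_eq]
      exact orderOf_eq_prime (by rw [sq, ha]) ha1
    have hodd : ∀ a b : alternatingGroup (Fin 5), (a * a = 1 → b * b = 1 → (a * b = b * a → a = b) → (a * b) ^ 15 = 1) := by
      intro a b ha hb h
      rcases a5_order_cases (a * b) with h2 | h2
      · have hab : a * b = b * a := by
          calc a * b = (a * b)⁻¹ := (inv_eq_of_mul_eq_one_right h2).symm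
            _ = b * a := by rw [mul_inv_rev, inv_eq_of_mul_eq_one_right ha, inv_eq_of_mul_eq_one_right hb]
        rw [← h hab, ha, one_pow]
      · exact h2
    refine Nat.card_congr (Equiv.ofBijective (fun p => ⟨(((e.symm p.1.1 : B) : G), t * ((e.symm p.1.2 : B) : G)), ?_, ?_, ?_⟩) ⟨?_, ?_⟩)
    · exact (hBz _ (e.symm p.1.1).2 (hcB _ p.2.1.1 p.2.1.2)).symm
    · have hb := (e.symm p.1.2).2
      obtain ⟨hbb, hb1⟩ := ord_two (hcB _ p.2.2.1.1 p.2.2.1.2)
      have hc : Commute t ((e.symm p.1.2 : B) : G) := hcomm t htV _ hb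
      refine (hCt _ (Subgroup.mul_mem _ (hVC htV) (hBC hb)) (ord_of ?_ ?_) (hnB hb)).symm
      · rw [hc.symm.mul_mul_mul_comm, htt, hbb, one_mul]
      · exact fun e' => hnB hb (e' ▸ B.one_mem)
    · have hu := (e.symm p.1.1).2
      have hb := (e.symm p.1.2).2
      refine Subgroup.mem_zpowers_iff.2 ⟨15, ?_⟩
      have hcu : Commute t ((e.symm p.1.1 : B) : G) := hcomm t htV _ hu
      rw [← mul_assoc, ← hcu.eq, mul_assoc]
      rw [show (15 : ℤ) = ((15 : ℕ) : ℤ) from rfl, zpow_natCast,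
        (show Commute t (((e.symm p.1.1 : B) : G) * ((e.symm p.1.2 : B) : G)) from hcu.mul_right (hcomm t htV _ hb)).mul_pow,
        ← Subgroup.coe_mul, ← map_mul, ← Subgroup.coe_pow, ← map_pow, hodd _ _ p.2.1.1 p.2.2.1.1 p.2.2.2, map_one,
        OneMemClass.coe_one, mul_one, show (15 : ℕ) = 2 * 7 + 1 by norm_num, pow_succ, pow_mul, sq, htt, one_pow, one_mul]
    · rintro ⟨⟨a, b⟩, hp⟩ ⟨⟨a', b'⟩, hp'⟩ h
      have h1 : ((e.symm a : B) : G) = ((e.symm a' : B) : G) ∧ t * ((e.symm b : B) : G) = t * ((e.symm b' : B) : G) :=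
        Prod.mk.injEq .. ▸ congrArg Subtype.val h
      obtain rfl : a = a' := e.symm.injective (Subtype.ext h1.1)
      obtain rfl : b = b' := e.symm.injective (Subtype.ext (mul_left_cancel h1.2))
      rfl
    · rintro ⟨⟨u, v⟩, hu, hv, hmem⟩
      dsimp only at hu hv hmem
      obtain ⟨huu, hu1⟩ := ord_two (hinv hu hz)
      obtain ⟨hvv, hv1⟩ := ord_two (hinv hv ht)
      obtain ⟨hcu, hcv⟩ := commute_of_mem huu hvv htt hmem
      have huB : u ∈ B := by
        by_contra h
        exact hzt (hu.trans (hCt u (Subgroup.mem_centralizer_singleton_iff.2 hcu.eq) (hinv hu hz) h))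
      have hvB : v ∉ B := fun h => hzt ((hBz v h (hinv hv ht)).symm.trans hv.symm)
      obtain ⟨w, hw, b, hb, rfl⟩ := hdec v (Subgroup.mem_centralizer_singleton_iff.2 hcv.eq)
      obtain ⟨k, hk⟩ := Subgroup.mem_zpowers_iff.1 hmem
      have hwb : Commute w b := hcomm w hw b hb
      have hwu : Commute w u := hcomm w hw u huB
      rw [← mul_assoc, ← hwu.eq, mul_assoc,
        (show Commute w (u * b) from hwu.mul_right hwb).mul_zpow] at hk
      obtain ⟨hk1, hk2⟩ := huniq (V.zpow_mem hw k) htV (B.zpow_mem (B.mul_mem huB hb) k) B.one_mem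
        (hk.trans (mul_one t).symm)
      have hw2 : w ^ (2 : ℤ) = 1 := by rw [zpow_ofNat]; exact hV2 w hw
      obtain ⟨j, hj⟩ : Odd k := by
        rw [← Int.not_even_iff_odd]
        rintro ⟨j, rfl⟩
        rw [show j + j = 2 * j by ring, zpow_mul, hw2, one_zpow] at hk1
        exact ht1 hk1.symm
      have hwt : w = t := by rw [← hk1, hj, zpow_add, zpow_mul, hw2, one_zpow, one_mul, zpow_one]
      subst hwt
      obtain ⟨-, hbb⟩ := huniq (V.mul_mem hw hw) V.one_mem (B.mul_mem hb hb) B.one_mem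
        (show w * w * (b * b) = 1 * 1 by rw [← hwb.symm.mul_mul_mul_comm, hvv, one_mul])
      have hkub : (u * b) ^ k = 1 := hk2
      have hb1 : b ≠ 1 := by
        rintro rfl
        rw [mul_one, hj, zpow_add, zpow_mul, zpow_one, zpow_ofNat, sq, huu, one_zpow, one_mul] at hkub
        exact hu1 hkub
      refine ⟨⟨(e ⟨u, huB⟩, e ⟨b, hb⟩), ⟨?_, ?_⟩, ⟨?_, ?_⟩, ?_⟩, ?_⟩
      · rw [← map_mul, show (⟨u, huB⟩ : B) * ⟨u, huB⟩ = 1 from Subtype.ext huu, map_one]
      · exact fun h => hu1 (congrArg Subtype.val (e.injective (h.trans (map_one e).symm)))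
      · rw [← map_mul, show (⟨b, hb⟩ : B) * ⟨b, hb⟩ = 1 from Subtype.ext hbb, map_one]
      · exact fun h => hb1 (congrArg Subtype.val (e.injective (h.trans (map_one e).symm)))
      · intro h
        rw [← map_mul, ← map_mul] at h
        have hub : Commute u b := congrArg Subtype.val (e.injective h)
        have h2 : (u * b) ^ (2 : ℤ) = 1 := by
          rw [zpow_ofNat, sq, hub.symm.mul_mul_mul_comm, huu, hbb, one_mul]
        rw [hj, zpow_add, zpow_mul, h2, one_zpow, one_mul, zpow_one] at hkub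
        refine congrArg e (Subtype.ext ?_)
        show u = b
        rw [mul_eq_one_iff_eq_inv.1 hkub, inv_eq_of_mul_eq_one_right hbb]
      · refine Subtype.ext (Prod.ext ?_ ?_)
        · show ((e.symm (e ⟨u, huB⟩) : B) : G) = u
          rw [e.symm_apply_apply]
        · show w * ((e.symm (e ⟨b, hb⟩) : B) : G) = w * b
          rw [e.symm_apply_apply]
  · have h1 : Nat.card ↥(Subgroup.centralizer ({t} : Set G)) = Nat.card (V × B) := by
      refine (Nat.card_congr (Equiv.ofBijective (fun p : V × B =>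
        (⟨(p.1 : G) * p.2, Subgroup.mul_mem _ (hVC p.1.2) (hBC p.2.2)⟩ : Subgroup.centralizer ({t} : Set G))) ⟨?_, ?_⟩)).symm
      · rintro ⟨w, b⟩ ⟨w', b'⟩ h
        obtain ⟨h1, h2⟩ := huniq w.2 w'.2 b.2 b'.2 (congrArg Subtype.val h)
        exact Prod.ext (Subtype.ext h1) (Subtype.ext h2)
      · rintro ⟨x, hx⟩
        obtain ⟨w, hw, b, hb, rfl⟩ := hdec x hx
        exact ⟨(⟨w, hw⟩, ⟨b, hb⟩), rfl⟩
    have h60 : Nat.card (alternatingGroup (Fin 5)) = 60 := by
      rw [nat_card_alternatingGroup, Nat.card_fin]; rfl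
    rw [h1, Nat.card_prod, hV, Nat.card_congr e.toEquiv, h60]

theorem extraspecial_congr {E F : Type u} [Group E] [Group F] [Finite F] (e : E ≃* F)
    (h : Cfsg.IsExtraspecial 2 E) : Cfsg.IsExtraspecial 2 F := by
  haveI : Fact (Nat.Prime 2) := ⟨Nat.prime_two⟩
  haveI : Finite E := Finite.of_equiv F e.symm.toEquiv
  have hc : (Subgroup.center E).map e.toMonoidHom = Subgroup.center F := by
    ext y
    rw [Subgroup.mem_map_equiv]
    exact ⟨fun hy => Subgroup.mem_center_iff.2 fun w => e.symm.injective (by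
        rw [map_mul, map_mul, Subgroup.mem_center_iff.1 hy]),
      fun hy => Subgroup.mem_center_iff.2 fun w => e.injective (by
        rw [map_mul, map_mul, e.apply_symm_apply, Subgroup.mem_center_iff.1 hy])⟩
  refine Solv.isExtraspecial_of (h.1.1.of_equiv e) ?_ ?_ fun x => ?_
  · rw [← hc, Subgroup.card_map_of_injective e.injective, h.2]
  · rw [← hc, ← h.1.2.2, commutator_def, commutator_def, Subgroup.map_commutator,
      Subgroup.map_top_of_surjective _ e.surjective]
  · rw [← hc, Subgroup.mem_map_equiv, map_pow]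
    exact Solv.extraspecial_pow_mem_center h _

theorem card_centralizer_in {z : G} {Q : Subgroup G} (S : CentTransfer.Setting z Q) (hQ : Nat.card Q = 32)
    {w : G} (hw : w ∈ Q) (hw1 : w ≠ 1) (hwz : w ≠ z) :
    Nat.card (Q ⊓ Subgroup.centralizer ({w} : Set G) : Subgroup G) = 16 := by
  classical
  obtain ⟨e, he, hwe⟩ := CentTransfer.exists_not_commute S hw hw1 hwz
  set C : Subgroup Q := (Subgroup.centralizer ({w} : Set G)).subgroupOf Q
  have hidx : C.index = 2 := by
    rw [Subgroup.index_eq_two_iff]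
    refine ⟨⟨e, he⟩, fun b => ?_⟩
    have hmem : ∀ x : Q, x ∈ C ↔ Commute (x : G) w := fun x => Subgroup.mem_centralizer_singleton_iff
    by_cases hb : b ∈ C
    · refine Or.inr ⟨hb, fun h => hwe ?_⟩
      have h1 : Commute ((b : G)⁻¹ * ((b : G) * e)) w := ((hmem b).1 hb).inv_left.mul_left ((hmem _).1 h)
      simpa using h1.symm
    · refine Or.inl ⟨(hmem _).2 ?_, hb⟩
      exact CentTransfer.mul_commute S b.2 he hw (fun h => hb ((hmem b).2 h)) (fun h => hwe h.symm)
  have h := C.card_mul_index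
  rw [hidx, hQ] at h
  rw [show (Q ⊓ Subgroup.centralizer ({w} : Set G) : Subgroup G) = C.map Q.subtype by
    rw [Subgroup.subgroupOf_map_subtype, inf_comm], Subgroup.card_map_of_injective Q.subtype_injective]
  omega

theorem extraspecial_of_setting {z : G} {Q : Subgroup G} (S : CentTransfer.Setting z Q) (hQ : Nat.card Q = 32) :
    Cfsg.IsExtraspecial 2 Q := by
  classical
  haveI : Fact (Nat.Prime 2) := ⟨Nat.prime_two⟩
  have hcen : ∀ x : Q, x ∈ Subgroup.center Q ↔ ((x : G) = 1 ∨ (x : G) = z) := by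
    intro x
    refine ⟨fun hx => S.xt.eq_of_cen x x.2 fun b hb =>
      (congrArg Subtype.val (Subgroup.mem_center_iff.1 hx ⟨b, hb⟩)).symm, fun hx => ?_⟩
    refine Subgroup.mem_center_iff.2 fun y => Subtype.ext ?_
    show (y : G) * x = x * y
    rcases hx with e | e <;> rw [e]
    · simp
    · exact (S.xt.cen y y.2).symm.eq
  obtain ⟨c, hc, d, hd, hcd⟩ : ∃ c ∈ Q, ∃ d ∈ Q, ¬ Commute c d := by
    by_contra! hall
    have hsub : (Q : Set G) ⊆ (({1, z} : Finset G) : Set G) := fun x hx => by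
      rcases S.xt.eq_of_cen x hx (fun b hb => hall x hx b hb) with e | e <;> simp [e]
    have hle := Nat.card_mono (Finset.finite_toSet _) hsub
    rw [show Nat.card (Q : Set G) = 32 from hQ, Nat.card_coe_set_eq, Set.ncard_coe_finset] at hle
    have : ({1, z} : Finset G).card ≤ 2 := Finset.card_le_two
    omega
  have hzc : (⟨z, S.xt.mem⟩ : Q) ∈ commutator Q := by
    have h := Subgroup.commutator_mem_commutator (Subgroup.mem_top (⟨c, hc⟩ : Q)) (Subgroup.mem_top ⟨d, hd⟩)
    rw [← commutator_def] at h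
    convert h using 1
    refine Subtype.ext ?_
    show z = c * d * c⁻¹ * d⁻¹
    rw [S.xt.move hc hd hcd, (S.xt.cen d hd).symm.eq]
    group
  refine Solv.isExtraspecial_of S.two ?_ (le_antisymm ?_ ?_) fun x => ?_
  · rw [Nat.card_eq_two_iff]
    refine ⟨1, ⟨⟨z, S.xt.mem⟩, (hcen _).2 (Or.inr rfl)⟩, fun e => S.xt.ne ?_, ?_⟩
    · exact (congrArg (fun v : Subgroup.center Q => ((v : Q) : G)) e).symm
    · refine Set.eq_univ_of_forall fun ⟨x, hx⟩ => ?_
      rcases (hcen x).1 hx with e | e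
      · exact Or.inl (Subtype.ext (Subtype.ext e))
      · exact Or.inr (Subtype.ext (Subtype.ext e))
  · rw [commutator_def, Subgroup.commutator_le]
    intro x _ y _
    refine (hcen _).2 ?_
    show (x : G) * y * (x : G)⁻¹ * (y : G)⁻¹ = 1 ∨ (x : G) * y * (x : G)⁻¹ * (y : G)⁻¹ = z
    rcases S.xt.comm x x.2 y y.2 with e | e <;> rw [e]
    · left; group
    · right; rw [← (S.xt.cen y y.2).eq, mul_inv_cancel_right]
  · intro x hx
    rcases (hcen x).1 hx with e | e
    · rw [show x = 1 from Subtype.ext e]; exact one_mem _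
    · rw [show x = ⟨z, S.xt.mem⟩ from Subtype.ext e]; exact hzc
  · refine (hcen _).2 ?_
    rw [Subgroup.coe_pow, sq]
    exact S.sq x x.2

theorem quad_inj {z u v : G} (hzz : z * z = 1) (hz1 : z ≠ 1) (huu : u * u = 1) (hu1 : u ≠ 1) (huz : u ≠ z)
    (hc : Commute z u) (hv1 : v ≠ 1) (hvz : v ≠ z) (hvu : v ≠ u) (hvzu : v ≠ z * u) :
    Function.Injective fun i : Fin 2 × Fin 2 × Fin 2 => z ^ (i.1 : ℕ) * u ^ (i.2.1 : ℕ) * v ^ (i.2.2 : ℕ) := by
  have hzu : z * u ≠ 1 := fun e => huz (by rw [eq_inv_of_mul_eq_one_right e, inv_eq_of_mul_eq_one_right hzz])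
  have hl : ∀ i i' j j' : Fin 2, z ^ (i : ℕ) * u ^ (j : ℕ) = z ^ (i' : ℕ) * u ^ (j' : ℕ) → i = i' ∧ j = j' := by
    intro i i' j j' he
    fin_cases i <;> fin_cases i' <;> fin_cases j <;> fin_cases j' <;>
      simp_all [eq_comm]
  have hout : ∀ i i' j j' : Fin 2, z ^ (i : ℕ) * u ^ (j : ℕ) * v ≠ z ^ (i' : ℕ) * u ^ (j' : ℕ) := by
    intro i i' j j' he
    have hsq : z ^ (i : ℕ) * u ^ (j : ℕ) * (z ^ (i : ℕ) * u ^ (j : ℕ)) = 1 := by
      rw [(hc.pow_pow _ _).symm.mul_mul_mul_comm, ← (Commute.refl z).mul_pow, ← (Commute.refl u).mul_pow, hzz,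
        huu, one_pow, one_pow, one_mul]
    have hv : v = z ^ ((i : ℕ) + (i' : ℕ)) * u ^ ((j : ℕ) + (j' : ℕ)) := by
      rw [pow_add, pow_add, ← (hc.pow_pow (i' : ℕ) (j : ℕ)).symm.mul_mul_mul_comm, ← he, ← mul_assoc, hsq, one_mul]
    clear hsq he hl
    fin_cases i <;> fin_cases i' <;> fin_cases j <;> fin_cases j' <;>
      simp [pow_succ, hzz, huu, hv1, hvz, hvu, hvzu] at hv
  rintro ⟨i, j, l⟩ ⟨i', j', l'⟩ h
  dsimp only at h
  fin_cases l <;> fin_cases l'
  · obtain ⟨rfl, rfl⟩ := hl i i' j j' (by simpa using h); rfl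
  · exact absurd (by simpa using h.symm) (hout i' i j' j)
  · exact absurd (by simpa using h) (hout i i' j j')
  · obtain ⟨rfl, rfl⟩ := hl i i' j j' (mul_right_cancel h); rfl

theorem count_z_core {z t : G} (hzt : ¬ IsConj z t) {Q : Subgroup G} (S : CentTransfer.Setting z Q)
    (hQ : Nat.card Q = 32) (K : Subgroup G) (eK : ↥K ≃* alternatingGroup (Fin 5))
    (hKH : K ≤ Subgroup.centralizer ({z} : Set G)) (hKQ : K ⊓ Q = ⊥)
    (hdec : ∀ x ∈ Subgroup.centralizer ({z} : Set G), ∃ k ∈ K, ∃ q ∈ Q, k * q = x)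
    (huniq : ∀ {k k' q q' : G}, k ∈ K → k' ∈ K → q ∈ Q → q' ∈ Q → k * q = k' * q' → k = k' ∧ q = q')
    (hz : orderOf z = 2) (ht : orderOf t = 2)
    (hQz : ∀ x ∈ Q, orderOf x = 2 → IsConj x z)
    (hCz : ∀ x ∈ Subgroup.centralizer ({z} : Set G), orderOf x = 2 → x ∉ Q → IsConj x t) :
    Nat.card {p : G × G // IsConj z p.1 ∧ IsConj t p.2 ∧ z ∈ Subgroup.zpowers (p.1 * p.2)} = 960 := by
  classical
  haveI : Fact (Nat.Prime 2) := ⟨Nat.prime_two⟩
  haveI : Fact (Nat.Prime 5) := ⟨by norm_num⟩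
  haveI : Fintype G := Fintype.ofFinite G
  have hzz := S.xt.sq
  have hzQ := S.xt.mem
  have hzc : ∀ x ∈ Q, Commute z x := S.xt.cen
  have hkz : ∀ k ∈ K, Commute k z := fun k hk => Subgroup.mem_centralizer_singleton_iff.1 (hKH hk)
  have hnorm : ∀ k ∈ K, ∀ q ∈ Q, k * q * k⁻¹ ∈ Q := fun k hk q hq => S.norm k (hkz k hk) q hq
  have hconjz : ∀ k ∈ K, ∀ x : G, k * (x * z) * k⁻¹ = k * x * k⁻¹ * z := fun k hk x => by
    rw [mul_assoc k, mul_assoc x, ← (hkz k hk).inv_left.eq]; group
  -- an element of order five is fixed-point-free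
  obtain ⟨k5, hk5, hk5o⟩ : ∃ k ∈ K, orderOf k = 5 := by
    obtain ⟨k, hk⟩ := exists_prime_orderOf_dvd_card' (G := K) 5 (by
      rw [Nat.card_congr eK.toEquiv, nat_card_alternatingGroup, Nat.card_fin]; decide)
    exact ⟨k, k.2, by rw [Subgroup.orderOf_coe, hk]⟩
  have hfpf : ∀ x ∈ Q, (k5 * x * k5⁻¹ = x ∨ k5 * x * k5⁻¹ = x * z) → x = 1 ∨ x = z := by
    intro x hx hor
    have hcomm : Commute k5 x := by
      rcases hor with h | h
      · exact mul_inv_eq_iff_eq_mul.1 h
      · exfalso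
        have h2 : ∀ n : ℕ, k5 ^ n * x * (k5 ^ n)⁻¹ = x * z ^ n := by
          intro n
          induction n with
          | zero => simp
          | succ n ih =>
            rw [pow_succ', mul_inv_rev, show k5 * k5 ^ n * x * ((k5 ^ n)⁻¹ * k5⁻¹) = k5 * (k5 ^ n * x * (k5 ^ n)⁻¹) * k5⁻¹ by group,
              ih, show k5 * (x * z ^ n) * k5⁻¹ = (k5 * x * k5⁻¹) * (k5 * z ^ n * k5⁻¹) by group, h,
              ((hkz k5 hk5).pow_right n).eq, mul_inv_cancel_right, mul_assoc, ← pow_succ']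
        have h5 := h2 5
        rw [← hk5o, pow_orderOf_eq_one, one_mul, inv_one, mul_one, hk5o, show (5 : ℕ) = 2 * 2 + 1 by norm_num,
          pow_succ, pow_mul, sq z, hzz, one_pow, one_mul] at h5
        exact S.xt.ne (left_eq_mul.1 h5)
    set A := Subgroup.zpowers k5
    have hA : IsPGroup 5 A := IsPGroup.of_card (n := 1) (by rw [Nat.card_zpowers, hk5o, pow_one])
    have hAK : A ≤ K := (Subgroup.zpowers_le).2 hk5
    letI : MulAction A Q :=
      { smul := fun a q => ⟨(a : G) * q * (a : G)⁻¹, hnorm _ (hAK a.2) q q.2⟩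
        one_smul := fun q => Subtype.ext (show ((1 : A) : G) * q * ((1 : A) : G)⁻¹ = q by simp)
        mul_smul := fun a b q => Subtype.ext (show ((a * b : A) : G) * q * ((a * b : A) : G)⁻¹ =
          (a : G) * ((b : G) * q * (b : G)⁻¹) * (a : G)⁻¹ by rw [Subgroup.coe_mul]; group) }
    set C : Subgroup G := Q ⊓ Subgroup.centralizer ({k5} : Set G)
    have hfix : Nat.card (MulAction.fixedPoints A Q) = Nat.card C := by
      refine Nat.card_congr
        { toFun := fun q => ⟨q.1, q.1.2, Subgroup.mem_centralizer_singleton_iff.2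
            (mul_inv_eq_iff_eq_mul.1 (congrArg Subtype.val (q.2 ⟨k5, Subgroup.mem_zpowers k5⟩))).symm⟩
          invFun := fun c => ⟨⟨c, c.2.1⟩, fun a => Subtype.ext (by
            obtain ⟨j, hj⟩ := Subgroup.mem_zpowers_iff.1 a.2
            have hc : Commute (c : G) k5 := Subgroup.mem_centralizer_singleton_iff.1 c.2.2
            show (a : G) * c * (a : G)⁻¹ = c
            rw [← hj, ← (hc.zpow_right j).eq, mul_inv_cancel_right])⟩
          left_inv := fun _ => rfl
          right_inv := fun _ => rfl }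
    have hmod := hA.card_modEq_card_fixedPoints Q
    rw [hfix, hQ] at hmod
    obtain ⟨j, hj, hj'⟩ := (Nat.dvd_prime_pow Nat.prime_two).1
      (show Nat.card C ∣ 2 ^ 5 from (by norm_num : (32 : ℕ) = 2 ^ 5) ▸ hQ ▸ Subgroup.card_dvd_of_le inf_le_left)
    have hxC : x ∈ C := ⟨hx, Subgroup.mem_centralizer_singleton_iff.2 hcomm.symm.eq⟩
    rw [hj'] at hmod
    have hj1 : j = 1 ∨ j = 5 := by
      interval_cases j <;> first | omega | (exfalso; revert hmod; decide)
    rcases hj1 with rfl | rfl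
    · by_contra! hne
      have hz' : z ∈ C := ⟨hzQ, Subgroup.mem_centralizer_singleton_iff.2 (hkz k5 hk5).symm.eq⟩
      have hsub : (({1, z, x} : Finset G) : Set G) ⊆ C := by
        intro y hy
        simp only [Finset.coe_insert, Finset.coe_singleton, Set.mem_insert_iff, Set.mem_singleton_iff] at hy
        rcases hy with rfl | rfl | rfl <;> [exact C.one_mem; exact hz'; exact hxC]
      have hle := Nat.card_mono (Set.toFinite _) hsub
      rw [Nat.card_coe_set_eq, Set.ncard_coe_finset, Finset.card_eq_three.2 ⟨1, z, x, S.xt.ne.symm, hne.1.symm, hne.2.symm, rfl⟩] at hle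
      change 3 ≤ Nat.card C at hle
      omega
    · exfalso
      have hCQ : C = Q := Subgroup.eq_of_le_of_card_ge inf_le_left (by rw [hQ, hj']; norm_num)
      have : k5 ∈ Q := S.cent (Subgroup.mem_centralizer_iff.2 fun q hq =>
        Subgroup.mem_centralizer_singleton_iff.1 (hCQ.ge hq).2)
      have hb : k5 ∈ K ⊓ Q := ⟨hk5, this⟩
      rw [hKQ, Subgroup.mem_bot] at hb
      rw [hb, orderOf_one] at hk5o
      norm_num at hk5o
  -- noncentral involutions of `Q`
  let I : Finset G := Finset.univ.filter fun u => u ∈ Q ∧ u * u = 1 ∧ u ≠ 1 ∧ u ≠ z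
  have hI : ∀ {u : G}, u ∈ I ↔ u ∈ Q ∧ u * u = 1 ∧ u ≠ 1 ∧ u ≠ z := fun {u} => by simp [I]
  have hIconj : ∀ {k u : G}, k ∈ K → u ∈ I → k * u * k⁻¹ ∈ I := by
    intro k u hk hu
    obtain ⟨hq, huu, hu1, huz⟩ := hI.1 hu
    refine hI.2 ⟨hnorm k hk u hq, by rw [conj_mul, huu]; group, fun e => hu1 (conj_eq_one_iff.1 e), fun e => huz ?_⟩
    exact mul_left_cancel (a := k) (mul_right_cancel (b := k⁻¹) (e.trans (by rw [(hkz k hk).eq]; group)))
  have hImulz : ∀ {u : G}, u ∈ I → u * z ∈ I := by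
    intro u hu
    obtain ⟨hq, huu, hu1, huz⟩ := hI.1 hu
    refine hI.2 ⟨Q.mul_mem hq hzQ, by rw [(hzc u hq).mul_mul_mul_comm u z, huu, hzz, one_mul], fun e => huz ?_,
      fun e => hu1 ?_⟩
    · rw [mul_eq_one_iff_eq_inv.1 e, inv_eq_of_mul_eq_one_right hzz]
    · exact mul_eq_right.1 e
  have hdiv5 : 5 ∣ I.card := by
    set A := Subgroup.zpowers k5
    have hA : IsPGroup 5 A := IsPGroup.of_card (n := 1) (by rw [Nat.card_zpowers, hk5o, pow_one])
    have hAK : A ≤ K := (Subgroup.zpowers_le).2 hk5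
    letI : MulAction A I :=
      { smul := fun a q => ⟨(a : G) * q * (a : G)⁻¹, hIconj (hAK a.2) q.2⟩
        one_smul := fun q => Subtype.ext (show ((1 : A) : G) * q * ((1 : A) : G)⁻¹ = q by simp)
        mul_smul := fun a b q => Subtype.ext (show ((a * b : A) : G) * q * ((a * b : A) : G)⁻¹ =
          (a : G) * ((b : G) * q * (b : G)⁻¹) * (a : G)⁻¹ by rw [Subgroup.coe_mul]; group) }
    have hempty : IsEmpty (MulAction.fixedPoints A I) := ⟨fun q => by
      obtain ⟨hq, -, hu1, huz⟩ := hI.1 q.1.2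
      rcases hfpf _ hq (Or.inl (congrArg Subtype.val (q.2 ⟨k5, Subgroup.mem_zpowers k5⟩))) with e | e
      · exact hu1 e
      · exact huz e⟩
    have hmod := hA.card_modEq_card_fixedPoints I
    rw [Nat.card_of_isEmpty (α := MulAction.fixedPoints A I), Nat.card_eq_fintype_card, Fintype.card_coe] at hmod
    exact (Nat.modEq_zero_iff_dvd).1 hmod
  obtain ⟨u₁, hu₁⟩ : ∃ u, u ∈ I := by
    obtain ⟨a, ha, ha1, haz⟩ : ∃ a ∈ Q, a ≠ 1 ∧ a ≠ z := by
      by_contra! hall
      have hsub : (Q : Set G) ⊆ (({1, z} : Finset G) : Set G) := fun x hx => by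
        by_cases h1 : x = 1
        · simp [h1]
        · simp [hall x hx h1]
      have hle := Nat.card_mono (Finset.finite_toSet _) hsub
      rw [show Nat.card (Q : Set G) = 32 from hQ, Nat.card_coe_set_eq, Set.ncard_coe_finset] at hle
      have : ({1, z} : Finset G).card ≤ 2 := Finset.card_le_two
      omega
    rcases S.sq a ha with h | h
    · exact ⟨a, hI.2 ⟨ha, h, ha1, haz⟩⟩
    obtain ⟨c, hc, d, hd, hca, hda, hcd⟩ := CentTransfer.exists_pair S (by omega) ha ha1 haz
    by_cases hcc : c * c = 1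
    · exact ⟨c, hI.2 ⟨hc, hcc, fun e => hcd (by rw [e]; exact Commute.one_left d),
        fun e => hcd (by rw [e]; exact hzc d hd)⟩⟩
    · refine ⟨a * c, hI.2 ⟨Q.mul_mem ha hc, ?_, fun e => hcd ?_, fun e => hcd ?_⟩⟩
      · rw [hca.mul_mul_mul_comm a c, h, (S.sq c hc).resolve_left hcc, hzz]
      · rw [eq_inv_of_mul_eq_one_right e]; exact hda.symm.inv_left
      · rw [eq_inv_mul_of_mul_eq e]; exact hda.symm.inv_left.mul_left (hzc d hd)
  have hnc : ∀ {u v : G}, u ∈ I → v ∈ I → Commute u v → v = u ∨ v = u * z := by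
    intro u v hu hv huv
    obtain ⟨huQ, huu, hu1, huz⟩ := hI.1 hu
    obtain ⟨hvQ, hvv, hv1, hvz⟩ := hI.1 hv
    by_contra! hne
    let f : Fin 2 × Fin 2 × Fin 2 → G := fun i => z ^ (i.1 : ℕ) * u ^ (i.2.1 : ℕ) * v ^ (i.2.2 : ℕ)
    let A : Subgroup Q :=
      { carrier := {x | ∃ i j l : ℕ, z ^ i * u ^ j * v ^ l = x}
        one_mem' := ⟨0, 0, 0, by simp⟩
        mul_mem' := by
          rintro x y ⟨i, j, l, hx⟩ ⟨i', j', l', hy⟩
          refine ⟨i + i', j + j', l + l', ?_⟩
          rw [Subgroup.coe_mul, ← hx, ← hy, pow_add, pow_add, pow_add]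
          have c1 : Commute (z ^ i') (u ^ j * v ^ l) :=
            (((hzc u huQ).pow_pow i' j).mul_right ((hzc v hvQ).pow_pow i' l))
          have c2 : Commute (u ^ j') (v ^ l) := huv.pow_pow j' l
          calc z ^ i * z ^ i' * (u ^ j * u ^ j') * (v ^ l * v ^ l')
              = z ^ i * z ^ i' * u ^ j * (u ^ j' * v ^ l) * v ^ l' := by group
            _ = z ^ i * (z ^ i' * (u ^ j * v ^ l)) * (u ^ j' * v ^ l') := by rw [c2.eq]; group
            _ = z ^ i * ((u ^ j * v ^ l) * z ^ i') * (u ^ j' * v ^ l') := by rw [c1.eq]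
            _ = _ := by group
        inv_mem' := by
          rintro x ⟨i, j, l, hx⟩
          refine ⟨i, j, l, ?_⟩
          rw [Subgroup.coe_inv, ← hx, mul_inv_rev, mul_inv_rev, ← inv_pow, ← inv_pow, ← inv_pow,
            inv_eq_of_mul_eq_one_right hzz, inv_eq_of_mul_eq_one_right huu, inv_eq_of_mul_eq_one_right hvv,
            (huv.pow_pow j l).symm.eq |> fun h => (by rw [← mul_assoc, h] : v ^ l * (u ^ j * z ^ i) = u ^ j * v ^ l * z ^ i)]
          rw [mul_assoc, ((hzc u huQ).pow_pow i j).mul_right ((hzc v hvQ).pow_pow i l) |>.eq] }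
    have hf : ∀ i, f i ∈ Q := fun i => Q.mul_mem (Q.mul_mem (Q.pow_mem hzQ _) (Q.pow_mem huQ _)) (Q.pow_mem hvQ _)
    have hred : ∀ {x : G}, x * x = 1 → ∀ n : ℕ, x ^ n = x ^ (n % 2) := fun {x} hx n => by
      conv_lhs => rw [← Nat.div_add_mod n 2, pow_add, pow_mul, sq, hx, one_pow, one_mul]
    have hAeq : (A : Set Q) = Set.range fun i => (⟨f i, hf i⟩ : Q) := by
      ext x
      constructor
      · rintro ⟨i, j, l, hx⟩
        refine ⟨(⟨i % 2, Nat.mod_lt _ two_pos⟩, ⟨j % 2, Nat.mod_lt _ two_pos⟩, ⟨l % 2, Nat.mod_lt _ two_pos⟩), ?_⟩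
        refine Subtype.ext ?_
        show z ^ (i % 2) * u ^ (j % 2) * v ^ (l % 2) = x
        rw [← hred hzz, ← hred huu, ← hred hvv, hx]
      · rintro ⟨i, rfl⟩
        exact ⟨_, _, _, rfl⟩
    have hinj : Function.Injective fun i => (⟨f i, hf i⟩ : Q) := fun i i' h =>
      quad_inj hzz S.xt.ne huu hu1 huz (hzc u huQ) hv1 hvz hne.1 (fun e => hne.2 (e.trans (hzc u huQ).eq))
        (congrArg Subtype.val h)
    have hA8 : Nat.card A = 2 ^ (2 + 1) := by
      rw [show Nat.card A = Nat.card (A : Set Q) from rfl, hAeq, Nat.card_range_of_injective hinj]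
      simp
    have hAe : Cfsg.IsElementaryAbelian 2 A := by
      have hc : ∀ x ∈ A, ∀ y ∈ A, x * y = y * x := by
        rintro x ⟨i, j, l, hx⟩ y ⟨i', j', l', hy⟩
        refine Subtype.ext ?_
        rw [Subgroup.coe_mul, Subgroup.coe_mul, ← hx, ← hy]
        have a1 : Commute z (z ^ i' * u ^ j' * v ^ l') :=
          (((Commute.refl z).pow_right i').mul_right ((hzc u huQ).pow_right j')).mul_right ((hzc v hvQ).pow_right l')
        have a2 : Commute u (z ^ i' * u ^ j' * v ^ l') :=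
          ((((hzc u huQ).symm).pow_right i').mul_right ((Commute.refl u).pow_right j')).mul_right (huv.pow_right l')
        have a3 : Commute v (z ^ i' * u ^ j' * v ^ l') :=
          ((((hzc v hvQ).symm).pow_right i').mul_right (huv.symm.pow_right j')).mul_right ((Commute.refl v).pow_right l')
        exact (((a1.pow_left i).mul_left (a2.pow_left j)).mul_left (a3.pow_left l)).eq
      refine ⟨⟨⟨fun x y => Subtype.ext (hc x x.2 y y.2)⟩⟩, fun x ⟨i, j, l, hx⟩ => Subtype.ext ?_⟩
      rw [Subgroup.coe_pow, ← hx, OneMemClass.coe_one,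
        (((hzc v hvQ).pow_pow i l).mul_left (huv.pow_pow j l)).mul_pow, ((hzc u huQ).pow_pow i j).mul_pow,
        ← pow_mul, ← pow_mul, ← pow_mul, pow_mul', pow_mul', pow_mul', sq, sq, sq, hzz, huu, hvv]
      simp
    have h20 := LocalEven.ExtraspecialFive.card_sq_eq_one (m := 2) (extraspecial_of_setting S hQ) (by rw [hQ]; norm_num) hAe hA8
    have hset : Nat.card {x : Q // x ^ 2 = 1} = I.card + 2 := by
      have e1 : (I ∪ ({1, z} : Finset G)).card = I.card + 2 := by
        rw [Finset.card_union_of_disjoint, Finset.card_pair S.xt.ne.symm]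
        rw [Finset.disjoint_left]
        intro x hx hx'
        simp only [Finset.mem_insert, Finset.mem_singleton] at hx'
        rcases hx' with e | e
        · exact (hI.1 hx).2.2.1 e
        · exact (hI.1 hx).2.2.2 e
      have hm : ∀ x : G, x ∈ I ∪ ({1, z} : Finset G) ↔ x ∈ Q ∧ x * x = 1 := by
        intro x
        simp only [Finset.mem_union, Finset.mem_insert, Finset.mem_singleton]
        refine ⟨?_, fun h => ?_⟩
        · rintro (h | rfl | rfl)
          · exact ⟨(hI.1 h).1, (hI.1 h).2.1⟩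
          · exact ⟨Q.one_mem, one_mul 1⟩
          · exact ⟨hzQ, hzz⟩
        · by_cases h1 : x = 1
          · exact Or.inr (Or.inl h1)
          by_cases h2 : x = z
          · exact Or.inr (Or.inr h2)
          exact Or.inl (hI.2 ⟨h.1, h.2, h1, h2⟩)
      rw [← e1, ← Fintype.card_coe, ← Nat.card_eq_fintype_card]
      exact Nat.card_congr
        { toFun := fun x => ⟨((x : Q) : G), (hm _).2 ⟨x.1.2, by
            have := congrArg Subtype.val x.2
            rwa [Subgroup.coe_pow, sq] at this⟩⟩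
          invFun := fun x => ⟨⟨x, ((hm _).1 x.2).1⟩, Subtype.ext (by rw [Subgroup.coe_pow, sq]; exact ((hm _).1 x.2).2)⟩
          left_inv := fun _ => rfl
          right_inv := fun _ => rfl }
    rw [hset] at h20
    omega
  have hcls : ∀ {u : G}, u ∈ I → u ≠ u * z := fun {u} _ h => S.xt.ne (left_eq_mul.1 h)
  let cls : G → Finset G := fun u => {u, u * z}
  have hclsz : ∀ {u : G}, cls (u * z) = cls u := fun {u} => by
    show ({u * z, u * z * z} : Finset G) = {u, u * z}
    rw [mul_assoc, hzz, mul_one, Finset.pair_comm]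
  have hclsiff : ∀ {u v : G}, cls u = cls v ↔ v = u ∨ v = u * z := by
    intro u v
    refine ⟨fun h => ?_, ?_⟩
    · have : v ∈ cls u := h ▸ Finset.mem_insert_self _ _
      simpa [cls] using this
    · rintro (rfl | rfl)
      · rfl
      · exact hclsz.symm
  let P : Finset (Finset G) := I.image cls
  have hI10 : I.card = 10 := by
    have heven : 2 ∣ I.card := by
      rw [Finset.card_eq_sum_card_fiberwise (f := cls) (t := P) (fun x hx => Finset.mem_image_of_mem cls hx)]
      refine Finset.dvd_sum fun c hc => ?_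
      obtain ⟨u, hu, rfl⟩ := Finset.mem_image.1 hc
      rw [show (I.filter fun x => cls x = cls u) = cls u by
        ext x
        simp only [Finset.mem_filter, cls, Finset.mem_insert, Finset.mem_singleton]
        refine ⟨fun h => ?_, ?_⟩
        · exact hclsiff.1 h.2.symm
        · rintro (rfl | rfl)
          · exact ⟨hu, rfl⟩
          · exact ⟨hImulz hu, hclsz⟩]
      rw [Finset.card_pair (hcls hu)]
    obtain ⟨hu₁Q, -, hu₁1, hu₁z⟩ := hI.1 hu₁
    have h16 := card_centralizer_in S hQ hu₁Q hu₁1 hu₁z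
    let Qf : Finset G := Finset.univ.filter fun x => x ∈ Q
    let Cf : Finset G := Finset.univ.filter fun x => x ∈ (Q ⊓ Subgroup.centralizer ({u₁} : Set G) : Subgroup G)
    have hQf : Qf.card = 32 := by
      rw [← hQ, Nat.card_eq_fintype_card]
      exact (Fintype.card_subtype _).symm
    have hCf : Cf.card = 16 := by
      rw [← h16, Nat.card_eq_fintype_card]
      exact (Fintype.card_subtype _).symm
    have hsub : I ⊆ cls u₁ ∪ (Qf \ Cf) := by
      intro x hx
      rw [Finset.mem_union]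
      by_cases h : Commute u₁ x
      · left
        simpa [cls] using hnc hu₁ hx h
      · right
        simp only [Finset.mem_sdiff, Qf, Cf, Finset.mem_filter, Finset.mem_univ, true_and]
        exact ⟨(hI.1 hx).1, fun h' => h (Subgroup.mem_centralizer_singleton_iff.1 h'.2).symm⟩
    have hCQ : Cf ⊆ Qf := fun x hx => by
      simp only [Qf, Cf, Finset.mem_filter, Finset.mem_univ, true_and] at hx ⊢
      exact hx.1
    have hle : I.card ≤ 18 := by
      refine ((Finset.card_le_card hsub).trans (Finset.card_union_le _ _)).trans ?_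
      rw [Finset.card_sdiff_of_subset hCQ, hQf, hCf]
      have : (cls u₁).card ≤ 2 := Finset.card_le_two
      omega
    have hpos : 0 < I.card := Finset.card_pos.2 ⟨u₁, hu₁⟩
    omega
  have hfib : ∀ u ∈ I, (I.filter fun x => cls x = cls u) = cls u := by
    intro u hu
    ext x
    simp only [Finset.mem_filter, cls, Finset.mem_insert, Finset.mem_singleton]
    refine ⟨fun h => hclsiff.1 h.2.symm, ?_⟩
    rintro (rfl | rfl)
    · exact ⟨hu, rfl⟩
    · exact ⟨hImulz hu, hclsz⟩
  have hP5 : P.card = 5 := by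
    have h := Finset.card_eq_sum_card_fiberwise (s := I) (f := cls) (t := P) (fun x hx => Finset.mem_image_of_mem cls hx)
    rw [Finset.sum_congr rfl (fun c hc => by
      obtain ⟨u, hu, rfl⟩ := Finset.mem_image.1 hc
      rw [hfib u hu, Finset.card_pair (hcls hu)] : ∀ c ∈ P, (I.filter fun x => cls x = c).card = 2),
      Finset.sum_const, smul_eq_mul, hI10] at h
    omega
  have himg : ∀ k ∈ K, ∀ u : G, (cls u).image (fun x => k * x * k⁻¹) = cls (k * u * k⁻¹) := by
    intro k hk u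
    simp [cls, Finset.image_insert, hconjz k hk]
  letI actP : MulAction K P :=
    { smul := fun k c => ⟨(c : Finset G).image (fun x => (k : G) * x * (k : G)⁻¹), by
        obtain ⟨u, hu, hcu⟩ := Finset.mem_image.1 c.2
        rw [← hcu, himg k k.2]
        exact Finset.mem_image_of_mem cls (hIconj k.2 hu)⟩
      one_smul := fun c => Subtype.ext (show (c : Finset G).image (fun x => ((1 : K) : G) * x * ((1 : K) : G)⁻¹) = c by simp)
      mul_smul := fun a b c => Subtype.ext (show (c : Finset G).image (fun x => ((a * b : K) : G) * x * ((a * b : K) : G)⁻¹) =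
          ((c : Finset G).image (fun x => (b : G) * x * (b : G)⁻¹)).image (fun x => (a : G) * x * (a : G)⁻¹) by
        rw [Finset.image_image]; congr 1; ext x; simp [mul_assoc]) }
  have hsmul : ∀ (k : K) (u : G) (hu : u ∈ I), k • (⟨cls u, Finset.mem_image_of_mem cls hu⟩ : P) =
      ⟨cls ((k : G) * u * (k : G)⁻¹), Finset.mem_image_of_mem cls (hIconj k.2 hu)⟩ := fun k u hu => Subtype.ext (himg k k.2 u)
  let eP : P ≃ Fin 5 := Fintype.equivFinOfCardEq (by rw [Fintype.card_coe, hP5])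
  let ψ : K →* Perm (Fin 5) := eP.permCongrHom.toMonoidHom.comp (MulAction.toPermHom K P)
  have hψ : ∀ (k : K) (c : P), ψ k (eP c) = eP (k • c) := fun k c => by
    show eP ((MulAction.toPerm k : Perm P) (eP.symm (eP c))) = _
    rw [eP.symm_apply_apply]; rfl
  haveI : IsSimpleGroup K := eK.isSimpleGroup
  have hψinj : Function.Injective ψ := by
    rw [← MonoidHom.ker_eq_bot_iff]
    refine ((inferInstance : ψ.ker.Normal).eq_bot_or_eq_top).resolve_right fun htop => ?_
    have h1 : ψ ⟨k5, hk5⟩ = 1 := by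
      rw [← MonoidHom.mem_ker, htop]; trivial
    have h2 := hψ ⟨k5, hk5⟩ ⟨cls u₁, Finset.mem_image_of_mem cls hu₁⟩
    rw [h1, Perm.one_apply] at h2
    have h3 := congrArg Subtype.val (eP.injective h2)
    rw [hsmul _ u₁ hu₁] at h3
    obtain ⟨hu₁Q, -, hu₁1, hu₁z⟩ := hI.1 hu₁
    rcases hfpf u₁ hu₁Q (hclsiff.1 h3) with e | e
    · exact hu₁1 e
    · exact hu₁z e
  have hK60 : Nat.card K = 60 := by
    rw [Nat.card_congr eK.toEquiv, nat_card_alternatingGroup, Nat.card_fin]; rfl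
  have hsign : ∀ k : K, Perm.sign (ψ k) = 1 := by
    intro k
    rcases (inferInstance : (Perm.sign.comp ψ).ker.Normal).eq_bot_or_eq_top with h | h
    · exfalso
      have := Nat.card_le_card_of_injective _ ((MonoidHom.ker_eq_bot_iff _).1 h)
      rw [hK60, Nat.card_eq_fintype_card] at this
      simp at this
    · have : k ∈ (Perm.sign.comp ψ).ker := h ▸ Subgroup.mem_top k
      exact this
  have hrange : ∀ g : Perm (Fin 5), Perm.sign g = 1 → ∃ k : K, ψ k = g := by
    intro g hg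
    have hle : ψ.range ≤ alternatingGroup (Fin 5) := by
      rintro _ ⟨k, rfl⟩; exact hsign k
    have hcard : Nat.card (alternatingGroup (Fin 5)) ≤ Nat.card ψ.range := by
      rw [nat_card_alternatingGroup, Nat.card_fin, show Nat.card ψ.range = Nat.card K from
        (Nat.card_congr (MonoidHom.ofInjective hψinj).toEquiv).symm, hK60]
      decide
    have he := Subgroup.eq_of_le_of_card_ge hle hcard
    exact (he.ge (show g ∈ alternatingGroup (Fin 5) from hg) :)
  -- the inverted set of an involution of `K`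
  have hkey : ∀ k ∈ K, k * k = 1 → k ≠ 1 → ∃ u₀ ∈ I, k * u₀ = u₀ * k ∧
      (∀ u ∈ I, cls (k * u * k⁻¹) = cls u → cls u = cls u₀) ∧
      (Finset.univ.filter fun q => q ∈ Q ∧ k * q * k⁻¹ = q⁻¹).card = 8 ∧
      (∀ q ∈ Q, k * q * k⁻¹ = q⁻¹ → Commute q u₀) := by
    intro k hk hkk hk1
    have hψk2 : ψ ⟨k, hk⟩ * ψ ⟨k, hk⟩ = 1 := by
      rw [← map_mul, show (⟨k, hk⟩ : K) * ⟨k, hk⟩ = 1 from Subtype.ext hkk, map_one]
    have hψk1 : ψ ⟨k, hk⟩ ≠ 1 := fun e => hk1 (congrArg Subtype.val (hψinj (e.trans (map_one ψ).symm)))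
    obtain ⟨i, hi, hiu⟩ := a5_inv_fix _ (hsign _) hψk2 hψk1
    obtain ⟨u₀, hu₀, hu₀c⟩ := Finset.mem_image.1 (eP.symm i).2
    obtain ⟨hu₀Q, hu₀u₀, hu₀1, hu₀z⟩ := hI.1 hu₀
    have hei : eP ⟨cls u₀, Finset.mem_image_of_mem cls hu₀⟩ = i := by
      rw [show (⟨cls u₀, Finset.mem_image_of_mem cls hu₀⟩ : P) = eP.symm i from Subtype.ext hu₀c, eP.apply_symm_apply]
    have hunique : ∀ u ∈ I, cls (k * u * k⁻¹) = cls u → cls u = cls u₀ := by
      intro u hu he
      have h1 : ψ ⟨k, hk⟩ (eP ⟨cls u, Finset.mem_image_of_mem cls hu⟩) = eP ⟨cls u, Finset.mem_image_of_mem cls hu⟩ := by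
        rw [hψ, hsmul _ u hu]; exact congrArg eP (Subtype.ext he)
      exact congrArg Subtype.val (eP.injective ((hiu _ h1).trans hei.symm))
    have hstab : ∀ h : K, ψ h i = i → (h : G) * u₀ * (h : G)⁻¹ = u₀ ∨ (h : G) * u₀ * (h : G)⁻¹ = u₀ * z := by
      intro h hh
      rw [← hei, hψ, hsmul _ u₀ hu₀] at hh
      exact hclsiff.1 (congrArg Subtype.val (eP.injective hh)).symm
    have hku₀ : k * u₀ * k⁻¹ = u₀ := by
      rcases hstab ⟨k, hk⟩ hi with e | e
      · exact e
      exfalso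
      obtain ⟨g, hg, hgi, hgeq⟩ := a5_tri _ (hsign _) hψk2 hψk1 i hi
      obtain ⟨h, rfl⟩ := hrange g hg
      have heq : (⟨k, hk⟩ : K) * (h * ⟨k, hk⟩ * h⁻¹) = h * h * ⟨k, hk⟩ * (h * h)⁻¹ := hψinj (by simpa using hgeq)
      have hG : k * ((h : G) * k * (h : G)⁻¹) = (h : G) * h * k * ((h : G) * h)⁻¹ := congrArg Subtype.val heq
      have htw : ∀ x ∈ K, (x * u₀ * x⁻¹ = u₀ ∨ x * u₀ * x⁻¹ = u₀ * z) → (x * k * x⁻¹) * u₀ * (x * k * x⁻¹)⁻¹ = u₀ * z := by
        intro x hx hxu
        have hk2 : k * (u₀ * z) * k⁻¹ = u₀ := by rw [hconjz k hk, e, mul_assoc, hzz, mul_one]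
        rw [show x * k * x⁻¹ * u₀ * (x * k * x⁻¹)⁻¹ = x * (k * (x⁻¹ * u₀ * x) * k⁻¹) * x⁻¹ by group]
        rcases hxu with hxu | hxu
        · rw [show x⁻¹ * u₀ * x = u₀ from by
              calc x⁻¹ * u₀ * x = x⁻¹ * (x * u₀ * x⁻¹) * x := by rw [hxu]
                _ = u₀ := by group,
            e, hconjz x hx, hxu]
        · have h' : x⁻¹ * u₀ * x = u₀ * z := by
            have : u₀ = x⁻¹ * (u₀ * z) * x := by
              calc u₀ = x⁻¹ * (x * u₀ * x⁻¹) * x := by group
                _ = _ := by rw [hxu]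
            conv_rhs => rw [this]
            rw [show x⁻¹ * (u₀ * z) * x * z = x⁻¹ * (u₀ * z) * (x * z) by group, (hkz x hx).eq,
              show x⁻¹ * (u₀ * z) * (z * x) = x⁻¹ * (u₀ * (z * z)) * x by group, hzz, mul_one]
          rw [h', hk2, hxu]
      have h1 : ((h : G) * k * (h : G)⁻¹) * u₀ * ((h : G) * k * (h : G)⁻¹)⁻¹ = u₀ * z := htw _ h.2 (hstab h hgi)
      have h2 : ((h : G) * h * k * ((h : G) * h)⁻¹) * u₀ * ((h : G) * h * k * ((h : G) * h)⁻¹)⁻¹ = u₀ * z :=
        htw _ (K.mul_mem h.2 h.2) (hstab (h * h) (by rw [map_mul, Perm.mul_apply, hgi, hgi]))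
      rw [← hG, show k * ((h : G) * k * (h : G)⁻¹) * u₀ * (k * ((h : G) * k * (h : G)⁻¹))⁻¹ =
        k * (((h : G) * k * (h : G)⁻¹) * u₀ * ((h : G) * k * (h : G)⁻¹)⁻¹) * k⁻¹ by group, h1,
        hconjz k hk, e, mul_assoc, hzz, mul_one] at h2
      exact S.xt.ne (left_eq_mul.1 h2)
    -- a moved class
    obtain ⟨a, ha, hau⟩ : ∃ a ∈ I, a ∉ cls u₀ := by
      by_contra! hall
      have hle := Finset.card_le_card (show I ⊆ cls u₀ from hall)
      have : (cls u₀).card ≤ 2 := Finset.card_le_two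
      omega
    obtain ⟨haQ, haa, -, -⟩ := hI.1 ha
    set b := k * a * k⁻¹ with hb
    have hbI : b ∈ I := hIconj hk ha
    obtain ⟨hbQ, hbb, -, -⟩ := hI.1 hbI
    have hbc : cls b ≠ cls a := fun h => hau (by rw [← hunique a ha h]; exact Finset.mem_insert_self _ _)
    have hbu : b ∉ cls u₀ := by
      intro h
      refine hau ?_
      have hk2 : a = k * b * k⁻¹ := by
        rw [hb, show k * (k * a * k⁻¹) * k⁻¹ = k * k * a * (k * k)⁻¹ by group, hkk]; group
      simp only [cls, Finset.mem_insert, Finset.mem_singleton] at h ⊢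
      rcases h with h | h <;> rw [hk2, h]
      · exact Or.inl hku₀
      · exact Or.inr (by rw [hconjz k hk, hku₀])
    have hab : ¬ Commute a b := fun h => hbc (hclsiff.2 (hnc ha hbI h)).symm
    have hua : ¬ Commute a u₀ := fun h => hau (by simpa [cls] using hnc hu₀ ha h.symm)
    have hub : ¬ Commute b u₀ := fun h => hbu (by simpa [cls] using hnc hu₀ hbI h.symm)
    have habQ : a * b ∈ Q := Q.mul_mem haQ hbQ
    have hu0ab : Commute u₀ (a * b) := (CentTransfer.mul_commute S haQ hbQ hu₀Q hua hub).symm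
    have habsq : a * b * (a * b) = z := by
      calc a * b * (a * b) = a * (b * a) * b := by group
        _ = a * (a * b * z) * b := by rw [CentTransfer.moved S hbQ haQ fun h => hab h.symm]
        _ = a * a * (b * (z * b)) := by group
        _ = a * a * (b * b * z) := by rw [(hzc b hbQ).eq, mul_assoc b b z]
        _ = z := by rw [haa, hbb, one_mul, one_mul]
    have hab1 : a * b ≠ 1 := fun h => by rw [h, one_mul] at habsq; exact S.xt.ne habsq.symm
    have habz : a * b ≠ z := fun h => by rw [h, hzz] at habsq; exact S.xt.ne habsq.symm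
    have hkab : k * (a * b) * k⁻¹ = (a * b)⁻¹ := by
      rw [mul_inv_rev, inv_eq_of_mul_eq_one_right haa, inv_eq_of_mul_eq_one_right hbb, hb,
        show k * (a * (k * a * k⁻¹)) * k⁻¹ = k * a * k⁻¹ * (k * k * a * (k * k)⁻¹) by group, hkk]
      group
    -- the fixed classes
    let W : Subgroup G :=
      { carrier := {q | q ∈ Q ∧ (k * q * k⁻¹ = q ∨ k * q * k⁻¹ = q * z)}
        one_mem' := ⟨Q.one_mem, Or.inl (by group)⟩
        mul_mem' := by
          rintro x y ⟨hx, hx'⟩ ⟨hy, hy'⟩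
          refine ⟨Q.mul_mem hx hy, ?_⟩
          rw [show k * (x * y) * k⁻¹ = (k * x * k⁻¹) * (k * y * k⁻¹) by group]
          rcases hx' with e1 | e1 <;> rcases hy' with e2 | e2 <;> rw [e1, e2]
          · exact Or.inl rfl
          · exact Or.inr (mul_assoc x y z).symm
          · exact Or.inr (by rw [mul_assoc x z y, (hzc y hy).eq, mul_assoc])
          · exact Or.inl (by rw [mul_assoc x z, ← mul_assoc z y, (hzc y hy).eq, mul_assoc y, hzz, mul_one])
        inv_mem' := by
          rintro x ⟨hx, hx'⟩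
          refine ⟨Q.inv_mem hx, ?_⟩
          rw [show k * x⁻¹ * k⁻¹ = (k * x * k⁻¹)⁻¹ by group]
          rcases hx' with e1 | e1 <;> rw [e1]
          · exact Or.inl rfl
          · exact Or.inr (by rw [mul_inv_rev, inv_eq_of_mul_eq_one_right hzz, (hzc _ (Q.inv_mem hx)).eq]) }
    set C := Q ⊓ Subgroup.centralizer ({a * b} : Set G)
    have hWC : W ≤ C := by
      rintro q ⟨hq, hq'⟩
      refine ⟨hq, Subgroup.mem_centralizer_singleton_iff.2 ?_⟩
      have hiff : Commute q a ↔ Commute q b := by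
        constructor
        · intro h
          have h2 := (Commute.conj_iff k).2 h
          rcases hq' with e | e <;> rw [e] at h2
          · exact h2
          · have h3 : Commute (q * z * z⁻¹) b := h2.mul_left (hzc b hbQ).inv_left
            simpa using h3
        · intro h
          have h2 := (Commute.conj_iff k).2 h
          rw [show k * b * k⁻¹ = a by rw [hb, show k * (k * a * k⁻¹) * k⁻¹ = k * k * a * (k * k)⁻¹ by group, hkk]; group] at h2
          rcases hq' with e | e <;> rw [e] at h2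
          · exact h2
          · have h3 : Commute (q * z * z⁻¹) a := h2.mul_left (hzc a haQ).inv_left
            simpa using h3
      by_cases h : Commute q a
      · exact (h.mul_right (hiff.1 h)).eq
      · exact (CentTransfer.mul_commute S haQ hbQ hq (fun h' => h h'.symm) (fun h' => h (hiff.2 h'.symm))).symm.eq
    obtain ⟨c, hc, hc0, hca, hcb⟩ : ∃ c ∈ I, c ∉ cls u₀ ∧ c ∉ cls a ∧ c ∉ cls b := by
      by_contra! hall
      have hle := Finset.card_le_card (show I ⊆ cls u₀ ∪ cls a ∪ cls b from fun x hx => by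
        simp only [Finset.mem_union]
        by_cases h1 : x ∈ cls u₀
        · exact Or.inl (Or.inl h1)
        by_cases h2 : x ∈ cls a
        · exact Or.inl (Or.inr h2)
        exact Or.inr (hall x hx h1 h2))
      have h1 := Finset.card_union_le (cls u₀ ∪ cls a) (cls b)
      have h2 := Finset.card_union_le (cls u₀) (cls a)
      have h3 : ∀ w : G, (cls w).card ≤ 2 := fun w => Finset.card_le_two
      have := h3 u₀; have := h3 a; have := h3 b
      omega
    have hcC : c ∈ C := by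
      refine ⟨(hI.1 hc).1, Subgroup.mem_centralizer_singleton_iff.2 ?_⟩
      refine (CentTransfer.mul_commute S haQ hbQ (hI.1 hc).1 (fun h => hca ?_) (fun h => hcb ?_)).symm.eq
      · simpa [cls] using hnc ha hc h
      · simpa [cls] using hnc hbI hc h
    have hcW : c ∉ W := fun h => hc0 (by
      rw [← hunique c hc (hclsiff.2 h.2).symm]
      exact Finset.mem_insert_self _ _)
    have hW8 : Nat.card W ≤ 8 := by
      have h16 := card_centralizer_in S hQ habQ hab1 habz
      have hd := Subgroup.card_dvd_of_le hWC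
      rw [h16, show (16 : ℕ) = 2 ^ 4 by norm_num] at hd
      obtain ⟨j, hj, hj'⟩ := (Nat.dvd_prime_pow Nat.prime_two).1 hd
      rw [hj']
      rcases eq_or_lt_of_le hj with rfl | hlt
      · exact absurd (Subgroup.eq_of_le_of_card_ge hWC (by rw [h16, hj']; norm_num) ▸ hcC) hcW
      · exact (Nat.pow_le_pow_right two_pos (show j ≤ 3 by omega)).trans (by norm_num)
    let f : Fin 2 × Fin 2 × Fin 2 → G := fun i => z ^ (i.1 : ℕ) * u₀ ^ (i.2.1 : ℕ) * (a * b) ^ (i.2.2 : ℕ)
    have hsq0 : ∀ i j : Fin 2, z ^ (i : ℕ) * u₀ ^ (j : ℕ) * (z ^ (i : ℕ) * u₀ ^ (j : ℕ)) = 1 := fun i j => by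
      rw [((hzc u₀ hu₀Q).pow_pow _ _).symm.mul_mul_mul_comm, ← (Commute.refl z).mul_pow, ← (Commute.refl u₀).mul_pow, hzz,
        hu₀u₀, one_pow, one_pow, one_mul]
    have hfF : ∀ i, f i ∈ Q ∧ k * f i * k⁻¹ = (f i)⁻¹ ∧ Commute (f i) u₀ := by
      rintro ⟨i, j, l⟩
      refine ⟨Q.mul_mem (Q.mul_mem (Q.pow_mem hzQ _) (Q.pow_mem hu₀Q _)) (Q.pow_mem habQ _), ?_, ?_⟩
      · have c1 : Commute (z ^ (i : ℕ)) (u₀ ^ (j : ℕ)) := (hzc u₀ hu₀Q).pow_pow _ _
        have c2 : Commute (z ^ (i : ℕ) * u₀ ^ (j : ℕ)) ((a * b) ^ (l : ℕ)) :=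
          ((hzc _ habQ).pow_pow _ _).mul_left (hu0ab.pow_pow _ _)
        show k * (z ^ (i : ℕ) * u₀ ^ (j : ℕ) * (a * b) ^ (l : ℕ)) * k⁻¹ = _
        rw [show k * (z ^ (i : ℕ) * u₀ ^ (j : ℕ) * (a * b) ^ (l : ℕ)) * k⁻¹ =
          (k * z ^ (i : ℕ) * k⁻¹) * (k * u₀ ^ (j : ℕ) * k⁻¹) * (k * (a * b) ^ (l : ℕ) * k⁻¹) by group,
          ← conj_pow, ← conj_pow, ← conj_pow, show k * z * k⁻¹ = z by rw [(hkz k hk).eq, mul_inv_cancel_right],
          hku₀, hkab]
        show _ = (z ^ (i : ℕ) * u₀ ^ (j : ℕ) * (a * b) ^ (l : ℕ))⁻¹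
        rw [c2.eq, mul_inv_rev ((a * b) ^ (l : ℕ)), inv_eq_of_mul_eq_one_right (hsq0 i j), inv_pow]
      · exact ((((hzc u₀ hu₀Q)).pow_left _).mul_left ((Commute.refl u₀).pow_left _)).mul_left (hu0ab.symm.pow_left _)
    have hfinj : Function.Injective f :=
      quad_inj hzz S.xt.ne hu₀u₀ hu₀1 hu₀z (hzc u₀ hu₀Q) hab1 habz
        (fun e => S.xt.ne (by rw [← habsq, e, hu₀u₀]))
        (fun e => S.xt.ne (by rw [← habsq, e, (hzc u₀ hu₀Q).symm.mul_mul_mul_comm, hzz, hu₀u₀, one_mul]))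
    have hF : (Finset.univ.filter fun q => q ∈ Q ∧ k * q * k⁻¹ = q⁻¹) = Finset.univ.image f := by
      symm
      refine Finset.eq_of_subset_of_card_le ?_ ?_
      · intro x hx
        obtain ⟨i, -, rfl⟩ := Finset.mem_image.1 hx
        exact Finset.mem_filter.2 ⟨Finset.mem_univ _, (hfF i).1, (hfF i).2.1⟩
      · rw [Finset.card_image_of_injective _ hfinj]
        refine le_trans ?_ (show 8 ≤ _ by simp)
        refine le_trans (Finset.card_le_card (show _ ⊆ Finset.univ.filter (fun q => q ∈ W) from fun q hq => ?_)) ?_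
        · simp only [Finset.mem_filter, Finset.mem_univ, true_and] at hq ⊢
          refine ⟨hq.1, ?_⟩
          rw [hq.2]
          rcases S.sq q hq.1 with e | e
          · exact Or.inl (inv_eq_of_mul_eq_one_right e)
          · exact Or.inr (inv_eq_of_mul_eq_one_right (by rw [← mul_assoc, e, hzz]))
        · rw [← Fintype.card_subtype, ← Nat.card_eq_fintype_card]
          exact hW8
    refine ⟨u₀, hu₀, ?_, hunique, ?_, ?_⟩
    · exact mul_inv_eq_iff_eq_mul.1 hku₀
    · rw [hF, Finset.card_image_of_injective _ hfinj]; simp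
    · intro q hq hq'
      have hm : q ∈ Finset.univ.image f := hF ▸ Finset.mem_filter.2 ⟨Finset.mem_univ _, hq, hq'⟩
      obtain ⟨i, -, rfl⟩ := Finset.mem_image.1 hm
      exact (hfF i).2.2
  -- the outer involutions
  let Vs : Finset G := Finset.univ.filter fun v => v ∈ Subgroup.centralizer ({z} : Set G) ∧ v ∉ Q ∧ v * v = 1
  let KI : Finset G := Finset.univ.filter fun k => k ∈ K ∧ k * k = 1 ∧ k ≠ 1
  have hKI : KI.card = 15 := by
    rw [← a5_inv_count, ← Nat.card_eq_fintype_card, ← Fintype.card_coe KI, ← Nat.card_eq_fintype_card]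
    exact Nat.card_congr
      { toFun := fun k => ⟨eK ⟨k, (Finset.mem_filter.1 k.2).2.1⟩, by
          rw [← map_mul, show (⟨(k : G), (Finset.mem_filter.1 k.2).2.1⟩ : K) * ⟨k, (Finset.mem_filter.1 k.2).2.1⟩ = 1 from
            Subtype.ext (Finset.mem_filter.1 k.2).2.2.1, map_one],
          fun e => (Finset.mem_filter.1 k.2).2.2.2 (congrArg Subtype.val (eK.injective (e.trans (map_one eK).symm)))⟩
        invFun := fun g => ⟨(eK.symm g.1 : K), Finset.mem_filter.2 ⟨Finset.mem_univ _, (eK.symm g.1).2, by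
            rw [← Subgroup.coe_mul, ← map_mul, g.2.1, map_one, OneMemClass.coe_one],
          fun e => g.2.2 (eK.symm.injective ((Subtype.ext e : eK.symm g.1 = 1).trans (map_one eK.symm).symm))⟩⟩
        left_inv := fun k => Subtype.ext (by simp)
        right_inv := fun g => Subtype.ext (by simp) }
  have hvsplit : ∀ v ∈ Vs, ∃ k ∈ KI, ∃ q ∈ Q, k * q * k⁻¹ = q⁻¹ ∧ k * q = v := by
    intro v hv
    obtain ⟨hvH, hvQ, hvv⟩ := (Finset.mem_filter.1 hv).2
    obtain ⟨k, hk, q, hq, rfl⟩ := hdec v hvH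
    have h : k * k * (k⁻¹ * q * k * q) = 1 * 1 := by rw [one_mul, ← hvv]; group
    have hm : k⁻¹ * q * k * q ∈ Q := by
      refine Q.mul_mem ?_ hq
      have := hnorm k⁻¹ (K.inv_mem hk) q hq
      rwa [inv_inv] at this
    obtain ⟨hkk, hqq⟩ := huniq (K.mul_mem hk hk) K.one_mem hm Q.one_mem h
    refine ⟨k, Finset.mem_filter.2 ⟨Finset.mem_univ _, hk, hkk, fun e => hvQ (by rw [e, one_mul]; exact hq)⟩, q, hq, ?_, rfl⟩
    rw [show k⁻¹ = k from inv_eq_of_mul_eq_one_right hkk] at hqq ⊢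
    exact mul_eq_one_iff_eq_inv.1 hqq
  have hVcard : Vs.card = 120 := by
    have e : Vs = KI.biUnion fun k => (Finset.univ.filter fun q => q ∈ Q ∧ k * q * k⁻¹ = q⁻¹).image (k * ·) := by
      ext v
      simp only [Finset.mem_biUnion, Finset.mem_image, Finset.mem_filter, Finset.mem_univ, true_and]
      constructor
      · intro hv
        obtain ⟨k, hk, q, hq, hkq, rfl⟩ := hvsplit v hv
        exact ⟨k, hk, q, ⟨hq, hkq⟩, rfl⟩
      · rintro ⟨k, hk, q, ⟨hq, hkq⟩, rfl⟩
        obtain ⟨hkK, hkk, hk1⟩ := (Finset.mem_filter.1 hk).2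
        refine Finset.mem_filter.2 ⟨Finset.mem_univ _, Subgroup.mul_mem _ (hKH hkK) ?_, fun h => hk1 ?_, ?_⟩
        · exact Subgroup.mem_centralizer_singleton_iff.2 (hzc q hq).symm.eq
        · have hm : k ∈ K ⊓ Q := ⟨hkK, by simpa using Q.mul_mem h (Q.inv_mem hq)⟩
          rwa [hKQ, Subgroup.mem_bot] at hm
        · rw [show k⁻¹ = k from inv_eq_of_mul_eq_one_right hkk] at hkq
          rw [← mul_assoc, hkq, inv_mul_cancel]
    rw [e, Finset.card_biUnion, Finset.sum_congr rfl (fun k hk => ?_), Finset.sum_const, smul_eq_mul, hKI]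
    rotate_left
    · exact 8
    · obtain ⟨hkK, hkk, hk1⟩ := (Finset.mem_filter.1 hk).2
      obtain ⟨u₀, -, -, -, h8, -⟩ := hkey k hkK hkk hk1
      rw [Finset.card_image_of_injective _ (mul_right_injective k), h8]
    · intro k hk k' hk' hne
      rw [Function.onFun, Finset.disjoint_left]
      intro v hv hv'
      obtain ⟨q, hq, rfl⟩ := Finset.mem_image.1 hv
      obtain ⟨q', hq', he⟩ := Finset.mem_image.1 hv'
      exact hne (huniq (Finset.mem_filter.1 hk').2.1 (Finset.mem_filter.1 hk).2.1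
        (Finset.mem_filter.1 hq').2.1 (Finset.mem_filter.1 hq).2.1 he).1.symm
    norm_num
  have hper : ∀ v ∈ Vs, (I.filter fun u => ¬ Commute u v).card = 8 := by
    intro v hv
    obtain ⟨k, hk, q, hq, hkq, rfl⟩ := hvsplit v hv
    obtain ⟨hkK, hkk, hk1⟩ := (Finset.mem_filter.1 hk).2
    obtain ⟨u₀, hu₀, hku, hunique, -, hcom⟩ := hkey k hkK hkk hk1
    have hqu := hcom q hq hkq
    have hsub : (I.filter fun u => Commute u (k * q)) = cls u₀ := by
      ext u
      simp only [Finset.mem_filter, cls, Finset.mem_insert, Finset.mem_singleton]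
      constructor
      · rintro ⟨hu, huv⟩
        refine hclsiff.1 (hunique u hu ?_).symm
        have huQ := (hI.1 hu).1
        have h1 : k * (q * u * q⁻¹) * k⁻¹ = u := by
          rw [show k * (q * u * q⁻¹) * k⁻¹ = (k * q) * u * (k * q)⁻¹ by group, ← huv.eq, mul_inv_cancel_right]
        refine (hclsiff.2 ?_).symm
        rcases S.xt.comm q hq u huQ with e | e <;> rw [e] at h1
        · exact Or.inl h1
        · refine Or.inr ?_
          rw [hconjz k hkK] at h1
          conv_rhs => rw [← h1]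
          rw [mul_assoc _ z z, hzz, mul_one]
      · have hc0 : Commute u₀ (k * q) := (show Commute u₀ k from hku.symm).mul_right hqu.symm
        rintro (rfl | rfl)
        · exact ⟨hu₀, hc0⟩
        · exact ⟨hImulz hu₀, hc0.mul_left ((hkz k hkK).symm.mul_right (hzc q hq))⟩
    have hsum := Finset.card_filter_add_card_filter_not (s := I) (fun u => Commute u (k * q))
    rw [hsub, Finset.card_pair (hcls hu₀), hI10] at hsum
    omega
  -- the pairs
  have hinv : ∀ {x y : G}, IsConj x y → orderOf x = 2 → orderOf y = 2 := fun {x y} h hx =>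
    (Fusion.orderOf_isConj h).symm.trans hx
  have hpairs : Nat.card {p : G × G // IsConj z p.1 ∧ IsConj t p.2 ∧ z ∈ Subgroup.zpowers (p.1 * p.2)} =
      (Vs.sigma fun v => I.filter fun u => ¬ Commute u v).card := by
    rw [← Fintype.card_coe, ← Nat.card_eq_fintype_card]
    refine Nat.card_congr (Equiv.ofBijective (fun p => ⟨⟨p.1.2, p.1.1⟩, ?_⟩) ⟨?_, ?_⟩)
    · obtain ⟨⟨u, v⟩, hu, hv, hmem⟩ := p
      dsimp only at hu hv hmem ⊢
      obtain ⟨huu, hu1⟩ := ord_two (hinv hu hz)
      obtain ⟨hvv, hv1⟩ := ord_two (hinv hv ht)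
      obtain ⟨hcu, hcv⟩ := commute_of_mem huu hvv hzz hmem
      have huH : u ∈ Subgroup.centralizer ({z} : Set G) := Subgroup.mem_centralizer_singleton_iff.2 hcu.eq
      have hvH : v ∈ Subgroup.centralizer ({z} : Set G) := Subgroup.mem_centralizer_singleton_iff.2 hcv.eq
      have huQ : u ∈ Q := by
        by_contra h
        exact hzt (hu.trans (hCz u huH (hinv hu hz) h))
      have hvQ : v ∉ Q := fun h => hzt ((hQz v h (hinv hv ht)).symm.trans hv.symm)
      have hncomm : ¬ Commute u v := by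
        intro h
        obtain ⟨j, hj⟩ := Subgroup.mem_zpowers_iff.1 hmem
        have h2 : (u * v) ^ (2 : ℤ) = 1 := by
          rw [zpow_ofNat, sq, h.symm.mul_mul_mul_comm, huu, hvv, one_mul]
        obtain ⟨m, rfl | rfl⟩ := Int.even_or_odd' j
        · rw [zpow_mul, h2, one_zpow] at hj
          exact S.xt.ne hj.symm
        · rw [zpow_add, zpow_mul, h2, one_zpow, one_mul, zpow_one] at hj
          refine hvQ ?_
          rw [eq_inv_mul_of_mul_eq hj]
          exact Q.mul_mem (Q.inv_mem huQ) hzQ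
      refine Finset.mem_sigma.2 ⟨Finset.mem_filter.2 ⟨Finset.mem_univ _, hvH, hvQ, hvv⟩,
        Finset.mem_filter.2 ⟨hI.2 ⟨huQ, huu, hu1, fun e => hncomm ?_⟩, hncomm⟩⟩
      show Commute u v
      rw [show u = z from e]; exact (Subgroup.mem_centralizer_singleton_iff.1 hvH).symm
    · rintro ⟨⟨u, v⟩, h⟩ ⟨⟨u', v'⟩, h'⟩ e
      have e' := congrArg (fun x : ↥(Vs.sigma fun v => I.filter fun u => ¬ Commute u v) => ((x : Σ _ : G, G).1, (x : Σ _ : G, G).2)) e
      simp only [Prod.mk.injEq] at e'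
      obtain ⟨rfl, rfl⟩ := e'
      rfl
    · rintro ⟨⟨v, u⟩, h⟩
      obtain ⟨hv, hu'⟩ := Finset.mem_sigma.1 h
      obtain ⟨hu, hncomm⟩ := Finset.mem_filter.1 hu'
      obtain ⟨huQ, huu, hu1, huz⟩ := hI.1 hu
      obtain ⟨hvH, hvQ, hvv⟩ := (Finset.mem_filter.1 hv).2
      refine ⟨⟨(u, v), (hQz u huQ (ord_of huu hu1)).symm,
        (hCz v hvH (ord_of hvv (fun e => hvQ (e ▸ Q.one_mem))) hvQ).symm, ?_⟩, rfl⟩
      have hvi : v⁻¹ = v := inv_eq_of_mul_eq_one_right hvv
      set u' := v * u * v⁻¹ with hu'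
      have hu'Q : u' ∈ Q := S.norm v (Subgroup.mem_centralizer_singleton_iff.1 hvH) u huQ
      have hu'I : u' ∈ I := by
        refine hI.2 ⟨hu'Q, by rw [hu', conj_mul, huu]; group, fun e => hu1 (conj_eq_one_iff.1 e), fun e => huz ?_⟩
        exact mul_left_cancel (a := v) (mul_right_cancel (b := v⁻¹) (e.trans (by
          rw [(show Commute v z from Subgroup.mem_centralizer_singleton_iff.1 hvH).eq]; group)))
      have hne : u' ≠ u := fun e => hncomm (mul_inv_eq_iff_eq_mul.1 e).symm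
      have hsq : (u * v) * (u * v) = u * u' := by rw [hu', hvi]; group
      by_cases hc : Commute u u'
      · rcases hnc hu hu'I hc with e | e
        · exact absurd e hne
        · refine Subgroup.mem_zpowers_iff.2 ⟨2, ?_⟩
          rw [zpow_ofNat, sq, hsq, e, ← mul_assoc, huu, one_mul]
      · refine Subgroup.mem_zpowers_iff.2 ⟨4, ?_⟩
        obtain ⟨-, hu'u', -, -⟩ := hI.1 hu'I
        rw [show (4 : ℤ) = ((2 * 2 : ℕ) : ℤ) from rfl, zpow_natCast, pow_mul, sq, sq, hsq]
        calc u * u' * (u * u') = u * (u' * u) * u' := by group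
          _ = u * (u * u' * z) * u' := by rw [CentTransfer.moved S hu'Q huQ fun h => hc h.symm]
          _ = u * u * (u' * (z * u')) := by group
          _ = u * u * (u' * (u' * z)) := by rw [(hzc u' hu'Q).eq]
          _ = (u * u) * (u' * u') * z := by group
          _ = z := by rw [huu, hu'u', one_mul, one_mul]
  rw [hpairs, Finset.card_sigma, Finset.sum_congr rfl hper, Finset.sum_const, hVcard, smul_eq_mul]

/-- the data inside the centralizer of a 2-central involution -/
theorem count_z {z t : G} (hz : orderOf z = 2) (ht : orderOf t = 2) (hzt : ¬ IsConj z t)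
    (hex : Cfsg.IsExtraspecial 2 ↥(Cfsg.generalizedFittingSubgroup ↥(Subgroup.centralizer ({z} : Set G))))
    (Q : Subgroup G)
    (hQdef : Q = (Cfsg.pCore 2 ↥(Subgroup.centralizer ({z} : Set G))).map (Subgroup.centralizer ({z} : Set G)).subtype)
    (hQ : Nat.card Q = 32) (K : Subgroup G) (hK : Nonempty (↥K ≃* alternatingGroup (Fin 5)))
    (hKC : K ⊔ Q = Subgroup.centralizer ({z} : Set G)) (hKQ : K ⊓ Q = ⊥)
    (hQz : ∀ x ∈ Q, orderOf x = 2 → IsConj x z)
    (hCz : ∀ x ∈ Subgroup.centralizer ({z} : Set G), orderOf x = 2 → x ∉ Q → IsConj x t) :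
    Nat.card {p : G × G // IsConj z p.1 ∧ IsConj t p.2 ∧ z ∈ Subgroup.zpowers (p.1 * p.2)} = 960 ∧
      Nat.card ↥(Subgroup.centralizer ({z} : Set G)) = 1920 := by
  classical
  haveI : Fact (Nat.Prime 2) := ⟨Nat.prime_two⟩
  haveI : Fintype G := Fintype.ofFinite G
  obtain ⟨eK⟩ := hK
  obtain ⟨hzz, hz1⟩ := ord_two hz
  set H := Subgroup.centralizer ({z} : Set G) with hH
  have hKH : K ≤ H := hKC ▸ le_sup_left
  have hQH : Q ≤ H := hKC ▸ le_sup_right
  -- the generalised Fitting subgroup is the core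
  have hgf : Cfsg.generalizedFittingSubgroup H = Cfsg.pCore 2 H := by
    haveI : (Cfsg.generalizedFittingSubgroup H).Normal := Local.gfit_normal
    refine le_antisymm (Fusion.le_pCore hex.1.1) (le_trans ?_ le_sup_right)
    exact le_sSup ⟨inferInstance, (Fusion.isPGroup_pCore 2 H).isNilpotent⟩
  have hzQ : z ∈ Q := by
    by_contra h
    exact hzt (hCz z (Subgroup.mem_centralizer_singleton_iff.2 rfl) hz h)
  have hext : Cfsg.IsExtraspecial 2 Q := extraspecial_congr
    ((Subgroup.equivMapOfInjective _ H.subtype H.subtype_injective).trans (MulEquiv.subgroupCongr hQdef.symm))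
    (hgf ▸ hex)
  have hcent : Subgroup.centralizer (Q : Set G) ≤ Q := by
    intro x hx
    have hxH : x ∈ H := Subgroup.mem_centralizer_singleton_iff.2 (Subgroup.mem_centralizer_iff.1 hx z hzQ).symm
    have h1 : (⟨x, hxH⟩ : H) ∈ Subgroup.centralizer (Cfsg.generalizedFittingSubgroup H : Set H) := by
      rw [hgf, Subgroup.mem_centralizer_iff]
      intro y hy
      exact Subtype.ext (Subgroup.mem_centralizer_iff.1 hx y (hQdef.ge ⟨y, hy, rfl⟩))
    have h2 := Solv.centralizer_gfit_le h1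
    rw [hgf] at h2
    exact hQdef.ge ⟨_, h2, rfl⟩
  have S := CentTransfer.setting_of hz hQdef hext hcent
  have hnormK : ∀ k ∈ K, ∀ q ∈ Q, k * q * k⁻¹ ∈ Q := fun k hk q hq =>
    S.norm k (Subgroup.mem_centralizer_singleton_iff.1 (hKH hk)) q hq
  have hzc : ∀ x ∈ H, Commute x z := fun x hx => Subgroup.mem_centralizer_singleton_iff.1 hx
  have hdec : ∀ x ∈ H, ∃ k ∈ K, ∃ q ∈ Q, k * q = x := by
    intro x hx
    let M : Subgroup G :=
      { carrier := {x | ∃ a ∈ K, ∃ b ∈ Q, a * b = x}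
        one_mem' := ⟨1, K.one_mem, 1, Q.one_mem, one_mul 1⟩
        mul_mem' := by
          rintro _ _ ⟨a, ha, b, hb, rfl⟩ ⟨c, hc, d, hd, rfl⟩
          refine ⟨a * c, K.mul_mem ha hc, c⁻¹ * b * c * d, Q.mul_mem ?_ hd, by group⟩
          have := hnormK c⁻¹ (K.inv_mem hc) b hb
          rwa [inv_inv] at this
        inv_mem' := by
          rintro _ ⟨a, ha, b, hb, rfl⟩
          exact ⟨a⁻¹, K.inv_mem ha, a * b⁻¹ * a⁻¹, hnormK a ha _ (Q.inv_mem hb), by group⟩ }
    have hle : K ⊔ Q ≤ M := sup_le (fun x hx => ⟨x, hx, 1, Q.one_mem, mul_one x⟩)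
      fun x hx => ⟨1, K.one_mem, x, hx, one_mul x⟩
    exact hle (hKC.ge hx)
  have huniq : ∀ {k k' q q' : G}, k ∈ K → k' ∈ K → q ∈ Q → q' ∈ Q → k * q = k' * q' → k = k' ∧ q = q' := by
    intro k k' q q' hk hk' hq hq' h
    have hm : k'⁻¹ * k ∈ K ⊓ Q := ⟨K.mul_mem (K.inv_mem hk') hk, by
      have : k'⁻¹ * k = q' * q⁻¹ := by
        rw [eq_mul_inv_iff_mul_eq, mul_assoc, h, inv_mul_cancel_left]
      rw [this]; exact Q.mul_mem hq' (Q.inv_mem hq)⟩
    rw [hKQ, Subgroup.mem_bot, inv_mul_eq_one] at hm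
    subst hm
    exact ⟨rfl, mul_left_cancel h⟩
  have h60 : Nat.card K = 60 := by
    rw [Nat.card_congr eK.toEquiv, nat_card_alternatingGroup, Nat.card_fin]; rfl
  refine ⟨?_, ?_⟩
  · exact count_z_core hzt S hQ K eK hKH hKQ hdec (fun {k k' q q'} => huniq) hz ht hQz hCz
  · rw [show Nat.card H = Nat.card (K × Q) from (Nat.card_congr (Equiv.ofBijective (fun p : K × Q =>
      (⟨(p.1 : G) * p.2, H.mul_mem (hKH p.1.2) (hQH p.2.2)⟩ : H)) ⟨?_, ?_⟩)).symm, Nat.card_prod, h60, hQ]
    · rintro ⟨k, q⟩ ⟨k', q'⟩ h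
      obtain ⟨h1, h2⟩ := huniq k.2 k'.2 q.2 q'.2 (congrArg Subtype.val h)
      exact Prod.ext (Subtype.ext h1) (Subtype.ext h2)
    · rintro ⟨x, hx⟩
      obtain ⟨k, hk, q, hq, rfl⟩ := hdec x hx
      exact ⟨(⟨k, hk⟩, ⟨q, hq⟩), rfl⟩

end Cfsg.Agent.Lie.HallJankoPairs
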