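import Cfsg.Agent.Lib.Lie.Bruhat

/-!
Homomorphisms from SL₂ attached to roots.
-/

set_option autoImplicit false

namespace Cfsg.Agent.Lie

open Cfsg.Lie Matrix
open scoped MatrixGroups

section Abstract

variable {F : Type*} [Field F] {Γ : Type*} [Group Γ]

local notation "SLt" => Matrix.SpecialLinearGroup (Fin 2) F

/-- Upper unitriangular element. -/
def upS (t : F) : SLt := ⟨!![1, t; 0, 1], by simp [Matrix.det_fin_two]⟩

/-- Lower unitriangular element. -/
def loS (t : F) : SLt := ⟨!![1, 0; t, 1], by simp [Matrix.det_fin_two]⟩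

/-- The antidiagonal element. -/
def antS : SLt := ⟨!![0, 1; -1, 0], by simp [Matrix.det_fin_two]⟩

/-- The relations of SL₂ on two one-parameter subgroups. -/
structure RankOneRel (u v : F → Γ) : Prop where
  u_add : ∀ a b, u (a + b) = u a * u b
  v_add : ∀ a b, v (a + b) = v a * v b
  flip : ∀ z, u 1 * v (-1) * u 1 * v z * (u 1 * v (-1) * u 1)⁻¹ = u (-z)
  h_mul : ∀ a b : F, a ≠ 0 → b ≠ 0 →
    (u a * v (-a⁻¹) * u a * (u (-1) * v 1 * u (-1))) *
      (u b * v (-b⁻¹) * u b * (u (-1) * v 1 * u (-1))) =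
      u (a * b) * v (-(a * b)⁻¹) * u (a * b) * (u (-1) * v 1 * u (-1))
  h_conj : ∀ a s : F, a ≠ 0 →
    (u a * v (-a⁻¹) * u a * (u (-1) * v 1 * u (-1))) * u s *
      (u a * v (-a⁻¹) * u a * (u (-1) * v 1 * u (-1)))⁻¹ = u (a ^ 2 * s)

namespace RankOneRel

variable {u v : F → Γ} (R : RankOneRel u v)

/-- n(t) -/
def nn (u v : F → Γ) (t : F) : Γ := u t * v (-t⁻¹) * u t

/-- h(t) -/
def hh (u v : F → Γ) (t : F) : Γ := nn u v t * nn u v (-1)

include R in
theorem u_zero : u 0 = 1 := by
  have := R.u_add 0 0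
  rw [add_zero] at this
  exact mul_left_cancel (this.symm.trans (mul_one _).symm)

include R in
theorem v_zero : v 0 = 1 := by
  have := R.v_add 0 0
  rw [add_zero] at this
  exact mul_left_cancel (this.symm.trans (mul_one _).symm)

include R in
theorem u_neg (a : F) : u (-a) = (u a)⁻¹ := by
  rw [eq_inv_iff_mul_eq_one, ← R.u_add, neg_add_cancel, R.u_zero]

include R in
theorem v_neg (a : F) : v (-a) = (v a)⁻¹ := by
  rw [eq_inv_iff_mul_eq_one, ← R.v_add, neg_add_cancel, R.v_zero]

include R in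
theorem nn_neg (t : F) : nn u v (-t) = (nn u v t)⁻¹ := by
  simp only [nn, _root_.mul_inv_rev, inv_neg, neg_neg, ← R.u_neg, ← R.v_neg, mul_assoc]

theorem hh_eq (t : F) : hh u v t = u t * v (-t⁻¹) * u t * (u (-1) * v 1 * u (-1)) := by
  simp [hh, nn, inv_neg]

include R in
theorem hh_one : hh u v (1 : F) = 1 := by rw [hh, R.nn_neg, mul_inv_cancel]

include R in
theorem hh_mul {a b : F} (ha : a ≠ 0) (hb : b ≠ 0) : hh u v a * hh u v b = hh u v (a * b) := by
  simpa [hh_eq] using R.h_mul a b ha hb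

include R in
theorem hh_conj {a : F} (ha : a ≠ 0) (s : F) : hh u v a * u s = u (a ^ 2 * s) * hh u v a := by
  rw [← mul_inv_eq_iff_eq_mul]
  simpa [hh_eq] using R.h_conj a s ha

include R in
theorem nn_eq (t : F) : nn u v t = hh u v t * nn u v 1 := by
  rw [hh, R.nn_neg, inv_mul_cancel_right]

include R in
theorem hh_nn {s t : F} (hs : s ≠ 0) (ht : t ≠ 0) : hh u v s * nn u v t = nn u v (s * t) := by
  rw [R.nn_eq t, ← mul_assoc, R.hh_mul hs ht, ← R.nn_eq]

include R in
theorem nn_mul_one {t : F} (ht : t ≠ 0) : nn u v t * nn u v 1 = hh u v (-t) := by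
  have h1 : hh u v (-1 : F) * hh u v (-1) = 1 := by
    rw [R.hh_mul (neg_ne_zero.2 one_ne_zero) (neg_ne_zero.2 one_ne_zero), neg_mul_neg, one_mul, R.hh_one]
  have h2 : nn u v (1 : F) * nn u v 1 = hh u v (-1) := by
    rw [eq_inv_iff_mul_eq_one.2 h1, hh, R.nn_neg]
    simp only [pow_two, _root_.mul_inv_rev, inv_inv]
  rw [R.nn_eq t, mul_assoc, h2, R.hh_mul ht (neg_ne_zero.2 one_ne_zero), mul_neg, mul_one]

include R in
theorem flip' (z : F) : nn u v 1 * v z = u (-z) * nn u v 1 := by
  rw [← mul_inv_eq_iff_eq_mul, nn, inv_one]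
  exact R.flip z

include R in
theorem u_nn {y : F} (hy : y ≠ 0) :
    u y * nn u v 1 = nn u v 1 * (u (-y⁻¹) * nn u v y⁻¹ * u (-y⁻¹)) := by
  have h1 := R.flip' (-y)
  rw [neg_neg] at h1
  rw [← h1]
  congr 1
  simp [nn, inv_inv, R.u_neg]
  group

/-- The map on matrices. -/
noncomputable def toFun (u v : F → Γ) (g : SLt) : Γ :=
  haveI := Classical.decEq F
  if g.1 1 0 = 0 then hh u v (g.1 0 0) * u (g.1 0 1 / g.1 0 0)
  else u (g.1 0 0 / g.1 1 0) * nn u v (-(g.1 1 0)⁻¹) * u (g.1 1 1 / g.1 1 0)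

theorem upS_val (t : F) : (upS t : SLt).1 = !![1, t; 0, 1] := rfl

theorem loS_val (t : F) : (loS t : SLt).1 = !![1, 0; t, 1] := rfl

theorem antS_val : (antS : SLt).1 = !![0, 1; -1, 0] := rfl

theorem entries_mul (g h : SLt) (i j : Fin 2) :
    (g * h).1 i j = g.1 i 0 * h.1 0 j + g.1 i 1 * h.1 1 j := by
  show (g.1 * h.1) i j = _
  rw [Matrix.mul_apply, Fin.sum_univ_two]

theorem det_eq (g : SLt) : g.1 0 0 * g.1 1 1 - g.1 0 1 * g.1 1 0 = 1 := by
  have := g.2
  rwa [Matrix.det_fin_two] at this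

include R in
theorem toFun_one : toFun u v (1 : SLt) = 1 := by
  simp [toFun, R.hh_one, R.u_zero]

include R in
theorem toFun_up (g : SLt) (y : F) : toFun u v (g * upS y) = toFun u v g * u y := by
  have e10 : (g * upS y).1 1 0 = g.1 1 0 := by rw [entries_mul]; simp [upS]
  have e00 : (g * upS y).1 0 0 = g.1 0 0 := by rw [entries_mul]; simp [upS]
  have e01 : (g * upS y).1 0 1 = g.1 0 0 * y + g.1 0 1 := by rw [entries_mul]; simp [upS]
  have e11 : (g * upS y).1 1 1 = g.1 1 0 * y + g.1 1 1 := by rw [entries_mul]; simp [upS]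
  unfold toFun
  rw [e10, e00, e01, e11]
  split_ifs with hc
  · have ha : g.1 0 0 ≠ 0 := fun h => by have := det_eq g; simp [h, hc] at this
    rw [mul_assoc, ← R.u_add]
    congr 2
    field_simp
    ring
  · rw [mul_assoc (_ * _) _ (u y), ← R.u_add]
    congr 2
    field_simp
    ring

include R in
theorem toFun_ant (g : SLt) : toFun u v (g * antS) = toFun u v g * nn u v 1 := by
  have e10 : (g * antS).1 1 0 = -g.1 1 1 := by rw [entries_mul]; simp [antS]
  have e00 : (g * antS).1 0 0 = -g.1 0 1 := by rw [entries_mul]; simp [antS]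
  have e01 : (g * antS).1 0 1 = g.1 0 0 := by rw [entries_mul]; simp [antS]
  have e11 : (g * antS).1 1 1 = g.1 1 0 := by rw [entries_mul]; simp [antS]
  have hdet := det_eq g
  unfold toFun
  rw [e10, e00, e01, e11]
  generalize g.1 0 0 = a, g.1 0 1 = b, g.1 1 0 = c, g.1 1 1 = d at hdet ⊢
  by_cases hc : c = 0
  · subst hc
    rw [mul_zero, sub_zero] at hdet
    have ha : a ≠ 0 := left_ne_zero_of_mul_eq_one hdet
    have hd : d = a⁻¹ := eq_inv_of_mul_eq_one_right hdet
    subst hd
    rw [if_neg (neg_ne_zero.2 (inv_ne_zero ha)), if_pos rfl, zero_div, R.u_zero, mul_one,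
      R.hh_conj ha, mul_assoc (u _), R.hh_nn ha one_ne_zero, mul_one]
    congr 1
    · congr 1
      field_simp
    · congr 1
      field_simp
  · rw [if_neg hc]
    by_cases hd : d = 0
    · subst hd
      rw [mul_zero, zero_sub] at hdet
      have hb : b = -c⁻¹ := by
        rw [← neg_mul] at hdet
        rw [← neg_neg b, eq_inv_of_mul_eq_one_left hdet]
      subst hb
      rw [if_pos neg_zero, zero_div, R.u_zero, mul_one, neg_neg, mul_assoc (u _),
        R.nn_mul_one (neg_ne_zero.2 (inv_ne_zero hc)), neg_neg, R.hh_conj (inv_ne_zero hc)]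
      congr 2
      field_simp
    · rw [if_neg (neg_ne_zero.2 hd), mul_assoc (u (a / c) * _) _ (nn u v 1), R.u_nn (div_ne_zero hd hc),
        ← mul_assoc (u (a / c) * _) (nn u v 1), mul_assoc (u (a / c)) _ (nn u v 1),
        R.nn_mul_one (neg_ne_zero.2 (inv_ne_zero hc)), neg_neg,
        mul_assoc (u (a / c)) (hh u v c⁻¹), ← mul_assoc (hh u v c⁻¹) (u _ * _), ← mul_assoc (hh u v c⁻¹),
        R.hh_conj (inv_ne_zero hc), mul_assoc (u _) (hh u v c⁻¹),
        R.hh_nn (inv_ne_zero hc) (inv_ne_zero (div_ne_zero hd hc)), ← mul_assoc, ← mul_assoc, ← R.u_add]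
      have hb' : b * c = a * d - 1 := by linear_combination -hdet
      congr 1
      · congr 1
        · congr 1
          field_simp
          linear_combination hb'
        · congr 1
          field_simp
      · congr 1
        field_simp

theorem closure_up_ant : Subgroup.closure (Set.range (upS (F := F)) ∪ {antS}) = (⊤ : Subgroup SLt) := by
  set K := Subgroup.closure (Set.range (upS (F := F)) ∪ {(antS : SLt)}) with hK
  have hu : ∀ t, (upS t : SLt) ∈ K := fun t => Subgroup.subset_closure (Or.inl ⟨t, rfl⟩)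
  have hw : (antS : SLt) ∈ K := Subgroup.subset_closure (Or.inr rfl)
  have hl : ∀ t, (loS t : SLt) ∈ K := by
    intro t
    have e : (loS t : SLt) = antS * upS (-t) * antS⁻¹ := by
      rw [eq_mul_inv_iff_mul_eq]
      ext i j
      fin_cases i <;> fin_cases j <;> simp [entries_mul, loS_val, upS_val, antS_val]
    rw [e]
    exact mul_mem (mul_mem hw (hu _)) (inv_mem hw)
  rw [eq_top_iff]
  rintro g -
  have hdet := det_eq g
  by_cases hc : g.1 1 0 = 0
  · have ha : g.1 0 0 ≠ 0 := fun h => by simp [h, hc] at hdet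
    have h1 : (g * loS 1).1 1 0 ≠ 0 := by
      rw [entries_mul]
      simp only [loS, Matrix.of_apply, Matrix.cons_val', Matrix.cons_val_zero, Matrix.cons_val_one,
        Matrix.empty_val', Matrix.cons_val_fin_one, hc, zero_mul, zero_add, mul_one]
      intro h
      simp [hc, h] at hdet
    suffices h : g * loS 1 ∈ K by
      simpa using mul_mem h (inv_mem (hl 1))
    generalize g * loS 1 = g' at h1
    have hdet' := det_eq g'
    have e : g' = upS ((g'.1 0 0 - 1) / g'.1 1 0) * loS (g'.1 1 0) * upS ((g'.1 1 1 - 1) / g'.1 1 0) := by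
      ext i j
      fin_cases i <;> fin_cases j <;> simp [entries_mul, loS_val, upS_val] <;> field_simp <;>
        first | ring1 | linear_combination hdet' | linear_combination -hdet'
    rw [e]
    exact mul_mem (mul_mem (hu _) (hl _)) (hu _)
  · have e : g = upS ((g.1 0 0 - 1) / g.1 1 0) * loS (g.1 1 0) * upS ((g.1 1 1 - 1) / g.1 1 0) := by
      ext i j
      fin_cases i <;> fin_cases j <;> simp [entries_mul, loS_val, upS_val] <;> field_simp <;>
        first | ring1 | linear_combination hdet | linear_combination -hdet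
    rw [e]
    exact mul_mem (mul_mem (hu _) (hl _)) (hu _)

include R in
theorem toFun_mul (g h : SLt) : toFun u v (g * h) = toFun u v g * toFun u v h := by
  have hh : h ∈ Subgroup.closure (Set.range (upS (F := F)) ∪ {antS}) := by
    rw [closure_up_ant]; exact Subgroup.mem_top _
  induction hh using Subgroup.closure_induction generalizing g with
  | mem x hx =>
    rcases hx with ⟨t, rfl⟩ | hx
    · rw [R.toFun_up]
      congr 1
      conv_rhs => rw [← one_mul (upS t : SLt), R.toFun_up, R.toFun_one, one_mul]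
    · rw [Set.mem_singleton_iff] at hx
      subst hx
      rw [R.toFun_ant]
      congr 1
      conv_rhs => rw [← one_mul (antS : SLt), R.toFun_ant, R.toFun_one, one_mul]
  | one => rw [mul_one, R.toFun_one, mul_one]
  | mul x y _ _ hx hy => rw [← mul_assoc, hy, hx, hy x, mul_assoc]
  | inv x _ hx =>
    have h1 := hx (g * x⁻¹)
    rw [inv_mul_cancel_right] at h1
    have h2 := hx x⁻¹
    rw [inv_mul_cancel, R.toFun_one] at h2
    rw [h1, eq_inv_of_mul_eq_one_left h2.symm, mul_inv_cancel_right]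

/-- The homomorphism from SL₂. -/
noncomputable def hom : SLt →* Γ := MonoidHom.mk' (toFun u v) R.toFun_mul

theorem hom_up (t : F) : R.hom (upS t) = u t := by
  show toFun u v (upS t) = _
  simp [toFun, upS, R.hh_one]

theorem hom_lo (t : F) : R.hom (loS t) = v t := by
  have e : (loS t : SLt) = antS * upS (-t) * antS⁻¹ := by
    rw [eq_mul_inv_iff_mul_eq]
    ext i j
    fin_cases i <;> fin_cases j <;> simp [entries_mul, loS_val, upS_val, antS_val]
  have ha : R.hom (antS : SLt) = nn u v 1 := by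
    show toFun u v antS = _
    simp [toFun, antS, R.u_zero]
  rw [e, map_mul, map_mul, map_inv, hom_up, ha]
  have hv : v t = (nn u v 1)⁻¹ * u (-t) * nn u v 1 := by
    rw [mul_assoc, ← R.flip' t, inv_mul_cancel_left]
  have h2 : nn u v (1 : F) * nn u v 1 = hh u v (-1) := by
    rw [R.nn_mul_one one_ne_zero]
  have h5 : nn u v (1 : F) * nn u v 1 * u (-t) = u (-t) * (nn u v 1 * nn u v 1) := by
    rw [h2, R.hh_conj (neg_ne_zero.2 one_ne_zero), neg_one_sq, one_mul]
  rw [hv, mul_inv_eq_iff_eq_mul, ← mul_right_inj (nn u v (1 : F)), ← mul_assoc, h5]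
  group

theorem hom_range : R.hom.range = Subgroup.closure (Set.range u ∪ Set.range v) := by
  apply le_antisymm
  · rintro _ ⟨g, rfl⟩
    have hg : g ∈ Subgroup.closure (Set.range (upS (F := F)) ∪ {antS}) := by
      rw [closure_up_ant]; exact Subgroup.mem_top _
    have hle : Subgroup.closure (Set.range (upS (F := F)) ∪ {antS}) ≤
        (Subgroup.closure (Set.range u ∪ Set.range v)).comap R.hom := by
      refine (Subgroup.closure_le _).2 ?_
      have hu : ∀ t, u t ∈ Subgroup.closure (Set.range u ∪ Set.range v) := fun t =>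
        Subgroup.subset_closure (Or.inl ⟨t, rfl⟩)
      rintro x (⟨t, rfl⟩ | hx)
      · show R.hom (upS t) ∈ Subgroup.closure (Set.range u ∪ Set.range v)
        rw [hom_up]; exact hu t
      · rw [Set.mem_singleton_iff] at hx
        subst hx
        show toFun u v antS ∈ Subgroup.closure (Set.range u ∪ Set.range v)
        have : toFun u v (antS : SLt) = nn u v 1 := by simp [toFun, antS, R.u_zero]
        rw [this]
        exact mul_mem (mul_mem (hu 1) (Subgroup.subset_closure (Or.inr ⟨_, rfl⟩))) (hu 1)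
    exact hle hg
  · refine (Subgroup.closure_le _).2 ?_
    rintro x (⟨t, rfl⟩ | ⟨t, rfl⟩)
    exacts [⟨_, R.hom_up t⟩, ⟨_, R.hom_lo t⟩]

end RankOneRel

end Abstract

/-- Conjugation by diag(s, 1), for an involutive scalar s. -/
def twS {F : Type*} [Field F] (s : F) (hss : s * s = 1) :
    Matrix.SpecialLinearGroup (Fin 2) F →* Matrix.SpecialLinearGroup (Fin 2) F :=
  MonoidHom.mk' (fun g => ⟨!![g.1 0 0, s * g.1 0 1; s * g.1 1 0, g.1 1 1], by
      rw [Matrix.det_fin_two_of]
      linear_combination RankOneRel.det_eq g - g.1 0 1 * g.1 1 0 * hss⟩) fun g h => by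
    refine Subtype.ext ?_
    ext a b
    show (!![(g * h).1 0 0, s * (g * h).1 0 1; s * (g * h).1 1 0, (g * h).1 1 1]) a b =
      ((!![g.1 0 0, s * g.1 0 1; s * g.1 1 0, g.1 1 1] : Matrix (Fin 2) (Fin 2) F) *
        !![h.1 0 0, s * h.1 0 1; s * h.1 1 0, h.1 1 1]) a b
    rw [Matrix.mul_apply, Fin.sum_univ_two]
    fin_cases a <;> fin_cases b <;> simp [RankOneRel.entries_mul]
    · linear_combination (-(g.1 0 1 * h.1 1 0)) * hss
    · ring
    · ring
    · linear_combination (-(g.1 1 0 * h.1 0 1)) * hss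

theorem twS_val {F : Type*} [Field F] (s : F) (hss : s * s = 1)
    (g : Matrix.SpecialLinearGroup (Fin 2) F) :
    (twS s hss g).1 = !![g.1 0 0, s * g.1 0 1; s * g.1 1 0, g.1 1 1] := rfl

namespace Facts

variable {D : ChevalleyDatum} {F : Type*} [Field F] (hF : Facts D)

include hF in
theorem rankOneRel_simple (i : ℕ) (hi : i < D.rank) :
    RankOneRel (hF.xg (F := F) (D.simple i)) (hF.xg (D.neg (D.simple i))) where
  u_add := hF.xg_add _
  v_add := hF.xg_add _
  flip z := by
    have hα := hF.simple_lt i hi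
    have e : hF.xg (D.simple i) (1 : F) * hF.xg (D.neg (D.simple i)) (-1) * hF.xg (D.simple i) 1 =
        (hF.tsys F).nS ⟨i, hi⟩ := by
      rw [hF.tsys_nS, hF.ng_eq, inv_one]
    have h := (hF.tsys F).nS_conj ⟨i, hi⟩ (hF.neg_lt hα) z
    rw [hF.tsys_x, hF.tsys_x] at h
    rw [e, h, hF.refl_neg i hi _ hα, Facts.refl_simple, hF.neg_neg hα]
    congr 1
    simp [sgn, hF.eta_neg i hi _ hα, hF.eta_simple i hi]
  h_mul a b ha hb := by
    have key : ∀ c : F, hF.xg (D.simple i) c * hF.xg (D.neg (D.simple i)) (-c⁻¹) * hF.xg (D.simple i) c *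
        (hF.xg (D.simple i) (-1) * hF.xg (D.neg (D.simple i)) 1 * hF.xg (D.simple i) (-1)) =
        hF.hg (D.simple i) c := fun c => by
      rw [hF.hg_eq, hF.ng_eq, hF.ng_eq]; simp [inv_neg]
    rw [key, key, key, show a = ((Units.mk0 a ha : Fˣ) : F) from rfl,
      show b = ((Units.mk0 b hb : Fˣ) : F) from rfl, ← Units.val_mul,
      hF.hg_eq_torus (hF.simple_lt i hi), hF.hg_eq_torus (hF.simple_lt i hi),
      hF.hg_eq_torus (hF.simple_lt i hi), ← map_mul]
    congr 1
    funext j
    simp [hCoord, _root_.mul_zpow]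
  h_conj a s ha := by
    have key : ∀ c : F, hF.xg (D.simple i) c * hF.xg (D.neg (D.simple i)) (-c⁻¹) * hF.xg (D.simple i) c *
        (hF.xg (D.simple i) (-1) * hF.xg (D.neg (D.simple i)) 1 * hF.xg (D.simple i) (-1)) =
        hF.hg (D.simple i) c := fun c => by
      rw [hF.hg_eq, hF.ng_eq, hF.ng_eq]; simp [inv_neg]
    rw [key, show a = ((Units.mk0 a ha : Fˣ) : F) from rfl,
      hF.hg_eq_torus (hF.simple_lt i hi), hF.torus_conj _ (hF.simple_lt i hi), hF.torChar_simple hi,
      hF.cartan_simple i hi]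
    congr 2

include hF in
/-- For every root there is a homomorphism from SL₂ onto ⟨X_r, X_{-r}⟩. -/
theorem exists_sl2Hom : ∀ r, r < D.nroots → ∃ φ : Matrix.SpecialLinearGroup (Fin 2) F →* GL D.Idx F,
    φ.range = Subgroup.closure (Set.range (hF.xg (F := F) r) ∪ Set.range (hF.xg (D.neg r))) ∧
      ∀ t, φ (upS t) = hF.xg r t ∧ φ (loS t) = hF.xg (D.neg r) t := by
  refine hF.simple_induction _ (fun i hi => ?_) (fun i hi r hr ih => ?_)
  · exact ⟨(hF.rankOneRel_simple i hi).hom, (hF.rankOneRel_simple i hi).hom_range,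
      fun t => ⟨(hF.rankOneRel_simple i hi).hom_up t, (hF.rankOneRel_simple i hi).hom_lo t⟩⟩
  · obtain ⟨φ, hrange, hφ⟩ := ih
    set s := hF.sgn F i r with hs
    have hss : s * s = 1 := hF.sgn_mul_self hi hr
    -- twist by diag(s, 1)
    let tw := twS s hss
    set g0 := (hF.tsys F).nS ⟨i, hi⟩ with hg0
    have hconj : ∀ t, g0 * hF.xg r t * g0⁻¹ = hF.xg (D.reflectRoot i r) (s * t) ∧
        g0 * hF.xg (D.neg r) t * g0⁻¹ = hF.xg (D.neg (D.reflectRoot i r)) (s * t) := by
      intro t
      have h1 := (hF.tsys F).nS_conj ⟨i, hi⟩ hr t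
      have h2 := (hF.tsys F).nS_conj ⟨i, hi⟩ (hF.neg_lt hr) t
      rw [hF.tsys_x, hF.tsys_x] at h1 h2
      refine ⟨h1, ?_⟩
      rw [h2, hF.refl_neg i hi r hr]
      congr 2
      simp [hs, sgn, hF.eta_neg i hi r hr]
    refine ⟨(MulAut.conj g0).toMonoidHom.comp (φ.comp tw), ?_, fun t => ⟨?_, ?_⟩⟩
    swap
    · have e : tw (upS t) = upS (s * t) := by
        ext a b; fin_cases a <;> fin_cases b <;> simp [tw, twS_val, RankOneRel.upS_val]
      show g0 * φ (tw (upS t)) * g0⁻¹ = _
      rw [e, (hφ _).1, (hconj _).1, ← mul_assoc, hss, one_mul]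
    swap
    · have e : tw (loS t) = loS (s * t) := by
        ext a b; fin_cases a <;> fin_cases b <;> simp [tw, twS_val, RankOneRel.loS_val]
      show g0 * φ (tw (loS t)) * g0⁻¹ = _
      rw [e, (hφ _).2, (hconj _).2, ← mul_assoc, hss, one_mul]
    have htw : tw.range = ⊤ := by
      rw [MonoidHom.range_eq_top]
      intro g
      refine ⟨tw g, ?_⟩
      ext a b
      fin_cases a <;> fin_cases b <;> simp [tw, twS_val, ← mul_assoc, hss]
    rw [MonoidHom.range_comp, MonoidHom.range_comp, htw, ← MonoidHom.range_eq_map, hrange,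
      MonoidHom.map_closure, Set.image_union]
    congr 2
    · ext x
      constructor
      · rintro ⟨_, ⟨t, rfl⟩, rfl⟩; exact ⟨s * t, (hconj t).1.symm⟩
      · rintro ⟨t, rfl⟩
        exact ⟨_, ⟨s * t, rfl⟩, by rw [MulEquiv.coe_toMonoidHom, MulAut.conj_apply, (hconj _).1, ← mul_assoc, hss, one_mul]⟩
    · ext x
      constructor
      · rintro ⟨_, ⟨t, rfl⟩, rfl⟩; exact ⟨s * t, (hconj t).2.symm⟩
      · rintro ⟨t, rfl⟩
        exact ⟨_, ⟨s * t, rfl⟩, by rw [MulEquiv.coe_toMonoidHom, MulAut.conj_apply, (hconj _).2, ← mul_assoc, hss, one_mul]⟩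

end Facts

end Cfsg.Agent.Lie
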