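import Mathlib

/-!
A non-abelian group of order eight is dihedral or quaternion.
-/

set_option autoImplicit false

namespace Cfsg.Agent.Lie.OrderEight

variable {G : Type*} [Group G] [Finite G]

theorem dihedral_or_quaternion (h8 : Nat.card G = 8) (hna : ∃ x y : G, x * y ≠ y * x) :
    Nonempty (G ≃* DihedralGroup 4) ∨ Nonempty (G ≃* QuaternionGroup 2) := by
  classical
  haveI : Fact (Nat.Prime 2) := ⟨Nat.prime_two⟩
  have hdvd : ∀ g : G, orderOf g ∣ 2 ^ 3 := fun g => by rw [show (2:ℕ) ^ 3 = Nat.card G by rw [h8]; rfl]; exact orderOf_dvd_natCard g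
  obtain ⟨a, ha⟩ : ∃ a : G, orderOf a = 4 := by
    by_contra hcon
    push Not at hcon
    have hsq : ∀ g : G, g * g = 1 := fun g => by
      obtain ⟨k, hk, hk'⟩ := (Nat.dvd_prime_pow Nat.prime_two).1 (hdvd g)
      interval_cases k
      · rw [orderOf_eq_one_iff.1 hk', mul_one]
      · rw [← pow_two, ← show orderOf g = 2 from hk', pow_orderOf_eq_one]
      · exact absurd hk' (hcon g)
      · exfalso
        obtain ⟨x, y, hxy⟩ := hna
        have hg : Subgroup.zpowers g = ⊤ := Subgroup.eq_top_of_card_eq _ (by rw [Nat.card_zpowers, hk', h8]; rfl)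
        obtain ⟨i, rfl⟩ : x ∈ Subgroup.zpowers g := hg ▸ Subgroup.mem_top x
        obtain ⟨j, rfl⟩ : y ∈ Subgroup.zpowers g := hg ▸ Subgroup.mem_top y
        exact hxy (by rw [← zpow_add, ← zpow_add, add_comm])
    obtain ⟨x, y, hxy⟩ := hna
    refine hxy ?_
    have h := hsq (x * y)
    calc x * y = x * (x * y * (x * y)) * y := by rw [h]; group
      _ = x * x * (y * x) * (y * y) := by group
      _ = y * x := by rw [hsq, hsq, one_mul, mul_one]
  set N := Subgroup.zpowers a with hN
  have hNc : Nat.card ↥N = 4 := by rw [hN, Nat.card_zpowers, ha]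
  have hidx : N.index = 2 := by
    have := N.card_mul_index
    rw [hNc, h8] at this
    omega
  haveI : N.Normal := Subgroup.normal_of_index_eq_two hidx
  obtain ⟨b, hb⟩ : ∃ b, b ∉ N := by
    by_contra h
    push Not at h
    have : N = ⊤ := (Subgroup.eq_top_iff' _).2 h
    rw [this, Subgroup.card_top, h8] at hNc
    norm_num at hNc
  have hpow : ∀ g ∈ N, ∃ k, k < 4 ∧ g = a ^ k := fun g hg => by
    obtain ⟨k, hk⟩ := (mem_powers_iff_mem_zpowers).2 hg
    exact ⟨k % 4, Nat.mod_lt _ (by norm_num), by rw [← ha, pow_mod_orderOf]; exact hk.symm⟩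
  have hnc : a * b ≠ b * a := by
    intro hab
    obtain ⟨x, y, hxy⟩ := hna
    have hall : ∀ z : G, Commute a z ∧ ∃ n ∈ N, z = n ∨ z = b * n := by
      intro z
      have hn : ∃ n ∈ N, z = n ∨ z = b * n := by
        by_cases hz : z ∈ N
        · exact ⟨z, hz, Or.inl rfl⟩
        · refine ⟨b⁻¹ * z, ?_, Or.inr (by group)⟩
          rw [Subgroup.mul_mem_iff_of_index_two hidx]
          simp [hb, hz]
      refine ⟨?_, hn⟩
      obtain ⟨n, hn, rfl | rfl⟩ := hn
      · obtain ⟨k, -, rfl⟩ := hpow _ hn; exact Commute.self_pow a k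
      · obtain ⟨k, -, rfl⟩ := hpow _ hn; exact Commute.mul_right hab (Commute.self_pow a k)
    have hb' : ∀ z, Commute b z := fun z => by
      obtain ⟨n, hn, rfl | rfl⟩ := (hall z).2 <;> obtain ⟨k, -, rfl⟩ := hpow _ hn
      · exact (Commute.symm hab).pow_right k
      · exact (Commute.refl b).mul_right ((Commute.symm hab).pow_right k)
    refine hxy ?_
    obtain ⟨n, hn, rfl | rfl⟩ := (hall x).2 <;> obtain ⟨k, -, rfl⟩ := hpow _ hn
    · exact (hall y).1.pow_left k
    · exact (hb' y).mul_left ((hall y).1.pow_left k)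
  have hinv : b * a * b⁻¹ = a⁻¹ := by
    have hm : b * a * b⁻¹ ∈ N := (inferInstance : N.Normal).conj_mem a (Subgroup.mem_zpowers a) b
    obtain ⟨k, hk4, hk⟩ := hpow _ hm
    have ho : orderOf (a ^ k) = 4 := by
      rw [← hk, ← MulAut.conj_apply, MulEquiv.orderOf_eq, ha]
    rw [orderOf_pow, ha] at ho
    interval_cases k
    · norm_num at ho
    · exfalso; rw [pow_one, mul_inv_eq_iff_eq_mul] at hk; exact hnc hk.symm
    · norm_num at ho
    · rw [hk]; exact eq_inv_of_mul_eq_one_left (by rw [← pow_succ, show 3 + 1 = orderOf a from ha.symm, pow_orderOf_eq_one])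
  have hb2N : b * b ∈ N := by
    rw [Subgroup.mul_mem_iff_of_index_two hidx]
  have hb2 : b * b = 1 ∨ b * b = a ^ 2 := by
    obtain ⟨k, hk4, hk⟩ := hpow _ hb2N
    have hc : b * a ^ k * b⁻¹ = a ^ k := by rw [← hk]; group
    rw [← conj_pow, hinv] at hc
    interval_cases k
    · left; rw [hk, pow_zero]
    · exfalso
      rw [pow_one, pow_one] at hc
      have : orderOf a ∣ 2 := orderOf_dvd_of_pow_eq_one (by rw [pow_two]; nth_rewrite 1 [← hc]; rw [inv_mul_cancel])
      rw [ha] at this; norm_num at this
    · exact Or.inr hk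
    · exfalso
      have : orderOf a ∣ 6 := orderOf_dvd_of_pow_eq_one (by
        rw [show (6 : ℕ) = 3 + 3 from rfl, pow_add]
        nth_rewrite 1 [← hc]
        rw [inv_pow, inv_mul_cancel])
      rw [ha] at this; norm_num at this
  let P : ZMod 4 → G := fun i => a ^ i.val
  have hP : ∀ i j, P (i + j) = P i * P j := fun i j => by
    show a ^ (i + j).val = a ^ i.val * a ^ j.val
    rw [ZMod.val_add, ← pow_add]
    have h := pow_mod_orderOf a (i.val + j.val)
    rwa [ha] at h
  have hP0 : P 0 = 1 := pow_zero a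
  have hPinj : Function.Injective P := fun i j h => ZMod.val_injective _
    (pow_injOn_Iio_orderOf (by rw [Set.mem_Iio, ha]; exact i.val_lt) (by rw [Set.mem_Iio, ha]; exact j.val_lt) h)
  have hmove : ∀ i, P i * b = b * P (-i) := fun i => by
    have h1 : P (-i) = (P i)⁻¹ := eq_inv_of_mul_eq_one_left (by rw [← hP, neg_add_cancel, hP0])
    have h2 : b * P i * b⁻¹ = (P i)⁻¹ := by
      show b * a ^ i.val * b⁻¹ = (a ^ i.val)⁻¹
      rw [← conj_pow, hinv, inv_pow]
    rw [h1]
    have h3 := congrArg (fun g : G => g⁻¹) h2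
    simp only [mul_inv_rev, inv_inv] at h3
    calc P i * b = b * (P i)⁻¹ * b⁻¹ * b := by rw [← mul_assoc] at h3; rw [h3]
      _ = b * (P i)⁻¹ := by group
  have hPN : ∀ i, P i ∈ N := fun i => Subgroup.pow_mem _ (Subgroup.mem_zpowers a) _
  have hbN : ∀ i, b * P i ∉ N := fun i h => hb (by simpa using N.mul_mem h (N.inv_mem (hPN i)))
  rcases hb2 with hb2 | hb2
  · left
    let f : DihedralGroup 4 →* G := MonoidHom.mk' (fun x => match x with
        | .r i => P i
        | .sr i => b * P i) (by
      rintro (i | i) (j | j)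
      · exact hP i j
      · show b * P (j - i) = P i * (b * P j)
        rw [← mul_assoc, hmove, mul_assoc, ← hP, show j - i = -i + j by abel]
      · show b * P (i + j) = b * P i * P j
        rw [mul_assoc, hP]
      · show P (j - i) = b * P i * (b * P j)
        rw [mul_assoc, ← mul_assoc (P i), hmove, mul_assoc b, ← mul_assoc b, hb2, one_mul, ← hP,
          show j - i = -i + j by abel])
    have hinj : Function.Injective f := by
      rintro (i | i) (j | j) h
      · exact congrArg _ (hPinj h)
      · exact absurd ((show P i = b * P j from h) ▸ hPN i) (hbN j)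
      · exact absurd ((show b * P i = P j from h).symm ▸ hPN j) (hbN i)
      · exact congrArg _ (hPinj (mul_left_cancel (show b * P i = b * P j from h)))
    exact ⟨(MulEquiv.ofBijective f ((Nat.bijective_iff_injective_and_card f).2
      ⟨hinj, by rw [DihedralGroup.nat_card, h8]⟩)).symm⟩
  · right
    have hP2 : P 2 = a ^ 2 := rfl
    let f : QuaternionGroup 2 →* G := MonoidHom.mk' (fun x => match x with
        | .a i => P i
        | .xa i => b * P i) (by
      rintro (i | i) (j | j)
      · exact hP i j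
      · show b * P (j - i) = P i * (b * P j)
        rw [← mul_assoc, hmove, mul_assoc, ← hP]
        exact congrArg (b * P ·) (show j - i = -i + j by abel)
      · show b * P (i + j) = b * P i * P j
        rw [mul_assoc]
        exact congrArg (b * ·) (hP i j)
      · show P ((2 : ℕ) + j - i) = b * P i * (b * P j)
        rw [mul_assoc, ← mul_assoc (P i), hmove, mul_assoc b, ← mul_assoc b, hb2, ← hP2, ← hP, ← hP]
        exact congrArg P (show ((2 : ℕ) : ZMod 4) + j - i = 2 + (-i + j) by push_cast; abel))
    have hinj : Function.Injective f := by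
      rintro (i | i) (j | j) h
      · exact congrArg _ (hPinj h)
      · exact absurd ((show P i = b * P j from h) ▸ hPN i) (hbN j)
      · exact absurd ((show b * P i = P j from h).symm ▸ hPN j) (hbN i)
      · exact congrArg _ (hPinj (mul_left_cancel (show b * P i = b * P j from h)))
    exact ⟨(MulEquiv.ofBijective f ((Nat.bijective_iff_injective_and_card f).2
      ⟨hinj, by rw [Nat.card_eq_fintype_card, QuaternionGroup.card, h8]⟩)).symm⟩

end Cfsg.Agent.Lie.OrderEight
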