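import Cfsg.Agent.Lib.Lie.Facts

/-!
Action of root elements and Weyl elements on the basis vectors.
-/

set_option autoImplicit false

namespace Cfsg.Agent.Lie

open Cfsg.Lie Matrix

variable (D : ChevalleyDatum) (F : Type*) [Field F]

/-- The basis vector with numeric position `k` (zero when out of range). -/
def eI (k : ℕ) : D.Idx → F := fun p => if (idxEquiv D p : ℕ) = k then 1 else 0

/-- The coordinate vector of e_s. -/
abbrev eR (s : ℕ) : D.Idx → F := eI D F (D.rank + s)

theorem eI_apply (k : ℕ) (p : D.Idx) :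
    eI D F k p = if (idxEquiv D p : ℕ) = k then 1 else 0 := rfl

theorem eI_eq_single (q : D.Idx) : eI D F (idxEquiv D q : ℕ) = Pi.single q 1 := by
  funext p
  simp [eI_apply, Pi.single_apply, Fin.val_inj]

variable {D F}

theorem mat_ext_eI {M N : Matrix D.Idx D.Idx F}
    (hH : ∀ j, j < D.rank → M *ᵥ eI D F j = N *ᵥ eI D F j)
    (hR : ∀ s, s < D.nroots → M *ᵥ eR D F s = N *ᵥ eR D F s) : M = N := by
  refine Matrix.ext_of_mulVec_single fun q => ?_
  rw [← eI_eq_single]
  cases q with
  | inl i => rw [idx_inl]; exact hH i i.isLt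
  | inr s => rw [idx_inr]; exact hR s s.isLt

theorem matUnit_mulVec (i j k : ℕ) (hk : k < D.rank + D.nroots) :
    (matUnit (idxEquiv D) (R := F) i j) *ᵥ eI D F k = if k = j then eI D F i else 0 := by
  have hq : eI D F k = Pi.single ((idxEquiv D).symm ⟨k, hk⟩) 1 := by
    rw [← eI_eq_single]; simp
  rw [hq, Matrix.mulVec_single_one]
  funext p
  by_cases hj : k = j <;> simp [matUnit_apply, hj, eI_apply, Matrix.col, Matrix.transpose_apply]

theorem evL_mulVec (t u : F) (L : List Tm) (k : ℕ) (hk : k < D.rank + D.nroots) :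
    ev D F t u L *ᵥ eI D F k =
      (L.map fun m => if k = m.col then ((m.c : F) * t ^ m.a * u ^ m.b) • eI D F m.row else 0).sum := by
  induction L with
  | nil => simp [ev]
  | cons m L ih =>
    simp only [ev, evL_cons, Matrix.add_mulVec, List.map_cons, List.sum_cons] at ih ⊢
    rw [ih]
    congr 1
    simp only [Tm.ev, Matrix.smul_mulVec, matUnit_mulVec _ _ _ hk]
    split_ifs <;> simp

variable (hF : Facts D)

/-- x_r(t) on h_{p_j}. -/
theorem x_mulVec_eH (r : ℕ) (hr : r < D.nroots) (t : F) (j : ℕ) (hj : j < D.rank) :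
    D.x F r t *ᵥ eI D F j = eI D F j - ((D.cartan j r : F) * t) • eR D F r := by
  have hj' : j = (idxEquiv D (Sum.inl ⟨j, hj⟩) : ℕ) := (idx_inl D ⟨j, hj⟩).symm
  rw [hj', eI_eq_single, ← hj', Matrix.mulVec_single_one, ← eI_eq_single, ← hj']
  funext p
  rw [ChevalleyDatum.x, dif_pos hr]
  cases p with
  | inl i =>
    have hne : (i : ℕ) ≠ D.rank + r := by have := i.isLt; omega
    simp [ChevalleyDatum.xMat, Matrix.col, Matrix.transpose_apply, eI_apply, idx_inl, hne,
      Fin.ext_iff, ChevalleyDatum.cartan]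
  | inr v =>
    have hne : D.rank + (v : ℕ) ≠ j := by omega
    simp [ChevalleyDatum.xMat, Matrix.col, Matrix.transpose_apply, eI_apply, idx_inr, hne,
      Fin.ext_iff, ChevalleyDatum.cartan]
    split_ifs <;> simp

theorem x_mulVec_single (r : ℕ) (hr : r < D.nroots) (t : F) (s : ℕ) (hs : s < D.nroots) :
    D.x F r t *ᵥ eR D F s = fun p => D.xMat F ⟨r, hr⟩ t p (Sum.inr ⟨s, hs⟩) := by
  have hs' : D.rank + s = (idxEquiv D (Sum.inr ⟨s, hs⟩) : ℕ) := (idx_inr D ⟨s, hs⟩).symm
  rw [eR, hs', eI_eq_single, Matrix.mulVec_single_one, ChevalleyDatum.x, dif_pos hr]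
  rfl

/-- x_r(t) on e_r. -/
theorem x_mulVec_self (r : ℕ) (hr : r < D.nroots) (t : F) :
    D.x F r t *ᵥ eR D F r = eR D F r := by
  rw [x_mulVec_single r hr t r hr]
  funext p
  cases p with
  | inl i =>
    have hne : (i : ℕ) ≠ D.rank + r := by have := i.isLt; omega
    simp [ChevalleyDatum.xMat, eI_apply, idx_inl, hne]
  | inr v => simp [ChevalleyDatum.xMat, eI_apply, idx_inr, Fin.ext_iff]

include hF in
/-- x_r(t) on e_{−r}. -/
theorem x_mulVec_neg (r : ℕ) (hr : r < D.nroots) (t : F) :
    D.x F r t *ᵥ eR D F (D.neg r) =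
      eR D F (D.neg r) + (∑ j ∈ Finset.range D.rank, ((co D r j : F) * t) • eI D F j)
        - (t ^ 2) • eR D F r := by
  have hne := hF.neg_ne_self hr
  have hlt := hF.neg_lt hr
  rw [x_mulVec_single r hr t _ hlt]
  funext p
  simp only [Pi.sub_apply, Pi.add_apply, Finset.sum_apply, Pi.smul_apply, smul_eq_mul]
  cases p with
  | inl i =>
    have h1 : (i : ℕ) ≠ D.rank + r := by have := i.isLt; omega
    have h2 : (i : ℕ) ≠ D.rank + D.neg r := by have := i.isLt; omega
    simp only [ChevalleyDatum.xMat, Matrix.of_apply, Fin.ext_iff, eI_apply, idx_inl, h1, h2,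
      if_false, hne, zero_add, mul_zero, sub_zero, mul_ite, mul_one]
    rw [if_pos (show D.neg r = D.negIdx.getD r 0 from rfl), Finset.sum_ite_eq,
      if_pos (Finset.mem_range.2 i.isLt)]
    rfl
  | inr v =>
    have h0 : ∑ j ∈ Finset.range D.rank, (co D r j : F) * t * eI D F j (Sum.inr v) = 0 := by
      refine Finset.sum_eq_zero fun j hj => ?_
      have : D.rank + (v : ℕ) ≠ j := by have := Finset.mem_range.1 hj; omega
      simp [eI_apply, idx_inr, this]
    rw [h0]
    simp only [ChevalleyDatum.xMat, Matrix.of_apply, Fin.ext_iff, eI_apply, idx_inr, hne,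
      if_false, add_zero, Nat.add_left_cancel_iff, mul_ite, mul_one, mul_zero]
    rw [if_pos (show D.neg r = D.negIdx.getD r 0 from rfl)]
    by_cases hv : (v : ℕ) = D.neg r
    · simp [hv, hne]
    · by_cases hv2 : (v : ℕ) = r <;> simp [hv, hv2, Ne.symm hne]

/-- The sum Σ_k M t^k e_u over a chain row. -/
def chainVec (r s : ℕ) (t : F) : D.Idx → F :=
  ((D.chainEntry r s).zipIdx.map fun q => ((q.1.2 : F) * t ^ (q.2 + 1)) • eR D F q.1.1).sum

include hF in
/-- x_r(t) on e_s, s ≠ ±r. -/
theorem x_mulVec_other (r : ℕ) (hr : r < D.nroots) (t : F) (s : ℕ) (hs : s < D.nroots)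
    (h1 : s ≠ r) (h2 : s ≠ D.neg r) :
    D.x F r t *ᵥ eR D F s = eR D F s + chainVec r s t := by
  rw [x_mulVec_single r hr t s hs]
  funext p
  simp only [Pi.add_apply, chainVec]
  cases p with
  | inl i =>
    have h3 : (i : ℕ) ≠ D.rank + s := by have := i.isLt; omega
    simp only [ChevalleyDatum.xMat, Matrix.of_apply, Fin.ext_iff, h1, if_false]
    rw [if_neg (show ¬ s = D.negIdx.getD r 0 from h2)]
    generalize (D.chainEntry r s).zipIdx = L
    induction L with
    | nil => simp [eI_apply, idx_inl, h3]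
    | cons q L ih =>
      have : (i : ℕ) ≠ D.rank + q.1.1 := by have := i.isLt; omega
      simpa [eI_apply, idx_inl, this] using ih
  | inr v =>
    simp only [ChevalleyDatum.xMat, Matrix.of_apply, Fin.ext_iff, h1, if_false]
    rw [if_neg (show ¬ s = D.negIdx.getD r 0 from h2)]
    congr 1
    · simp [eI_apply, idx_inr]
    rw [hF.chain_coeff r hr]
    generalize (D.chainEntry r s).zipIdx = L
    induction L with
    | nil => simp
    | cons q L ih =>
      by_cases hq : q.1.1 = v.val
      · simp [hq, ← ih, eI_apply, idx_inr]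
      · simp [hq, ← ih, eI_apply, idx_inr, Ne.symm hq]

theorem evL_redL (t : F) (ht : t ≠ 0) (L : List Tm) :
    ev D F t t⁻¹ (redL L) = ev D F t t⁻¹ L := by
  refine evL_map_eq _ _ _ fun m _ => ?_
  simp only [Tm.ev]
  congr 1
  rcases Nat.le_total m.b m.a with h | h
  · obtain ⟨k, hk⟩ := Nat.exists_eq_add_of_le h
    have : m.b - m.a = 0 := by omega
    rw [this, hk, Nat.add_sub_cancel_left, pow_add, pow_zero, inv_pow]
    field_simp
  · obtain ⟨k, hk⟩ := Nat.exists_eq_add_of_le h
    have : m.a - m.b = 0 := by omega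
    rw [this, hk, Nat.add_sub_cancel_left, pow_add, pow_zero, inv_pow, inv_pow]
    field_simp

theorem ent_b (r : ℕ) : ∀ m ∈ ent D r, m.b = 0 ∧ 1 ≤ m.a := by
  intro m hm
  simp only [ent, entCartan, entOpp, entChain] at hm
  split_ifs at hm <;>
    simp only [List.mem_append, List.mem_filter, List.mem_map, List.mem_flatMap, List.not_mem_nil,
      List.mem_singleton, false_or] at hm
  · rcases hm with ⟨⟨x, -, rfl⟩, -⟩ | (⟨⟨x, -, rfl⟩, -⟩ | rfl) | ⟨e, -, hm⟩ <;> try simp
    split_ifs at hm
    · obtain ⟨x, -, rfl⟩ := List.mem_map.1 hm; simp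
    · simp at hm
  · rcases hm with ⟨⟨x, -, rfl⟩, -⟩ | ⟨e, -, hm⟩ <;> try simp
    split_ifs at hm
    · obtain ⟨x, -, rfl⟩ := List.mem_map.1 hm; simp
    · simp at hm

theorem x_zero (r : ℕ) : D.x F r 0 = 1 := by
  rw [x_eq D F r 0 0]
  have : ∀ L : List Tm, (∀ m ∈ L, 1 ≤ m.a) → ev D F 0 0 L = 0 := by
    intro L hL
    induction L with
    | nil => simp [ev]
    | cons m L ih =>
      simp only [ev, evL_cons] at ih ⊢
      rw [ih fun x hx => hL x (List.mem_cons_of_mem _ hx)]
      simp [Tm.ev, zero_pow (Nat.one_le_iff_ne_zero.1 (hL m (by simp)))]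
  rw [this _ fun m hm => (ent_b r m hm).2, add_zero]

theorem x_eq' (r : ℕ) (t u t' u' : F) (f : Tm → Tm)
    (h : ∀ m, m.b = 0 → (f m).ev (idxEquiv D) t u = m.ev (idxEquiv D) t' u') :
    1 + ev D F t u ((ent D r).map f) = D.x F r t' := by
  rw [x_eq D F r t' u']
  congr 1
  exact evL_map_eq _ _ _ fun m hm => h m (ent_b r m hm).1

theorem x_toU (r : ℕ) (t u : F) : 1 + ev D F t u (toU (ent D r)) = D.x F r u :=
  x_eq' r t u u t _ fun m _ => by simp [Tm.ev, mul_right_comm]

theorem x_substVar (r a b : ℕ) (e : ℤ) (t u : F) :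
    1 + ev D F t u (substVar a b e (ent D r)) = D.x F r ((e : F) * t ^ a * u ^ b) :=
  x_eq' r t u _ t _ fun m hm => by
    simp only [Tm.ev, hm, pow_zero, mul_one, Int.cast_mul, Int.cast_pow, mul_pow, ← pow_mul]
    congr 1
    ring

theorem x_sumVar (r : ℕ) (t u : F) : 1 + ev D F t u (sumVar (ent D r)) = D.x F r (t + u) := by
  rw [x_eq D F r (t + u) 0]
  congr 1
  have : ∀ L : List Tm, (∀ m ∈ L, m.b = 0) →
      ev D F t u (sumVar L) = ev D F (t + u) 0 L := by
    intro L hL
    induction L with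
    | nil => simp [ev, sumVar]
    | cons m L ih =>
      simp only [ev, sumVar, List.flatMap_cons, evL_append, evL_cons] at ih ⊢
      rw [ih fun x hx => hL x (List.mem_cons_of_mem _ hx)]
      congr 1
      simp only [evL, List.map_map, Tm.ev, hL m (by simp), pow_zero, mul_one, Function.comp_def,
        add_pow, Finset.mul_sum, Finset.sum_smul]
      rw [← List.sum_toFinset _ List.nodup_range, List.toFinset_range]
      refine Finset.sum_congr rfl fun j _ => ?_
      congr 1
      push_cast
      ring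
  exact this _ fun m hm => (ent_b r m hm).1

include hF in
theorem evL_uMul (t u : F) (A B : List Tm) :
    1 + ev D F t u (uMul (D.rank + D.nroots) A B) =
      (1 + ev D F t u A) * (1 + ev D F t u B) := by
  simp only [uMul, ev, evL_append, evL_mulL _ hF.size_le]
  noncomm_ring

include hF in
theorem evL_uProd (t u : F) : ∀ L : List (List Tm),
    1 + ev D F t u (uProd (D.rank + D.nroots) L) = (L.map fun A => 1 + ev D F t u A).prod
  | [] => by simp [uProd, ev]
  | [A] => by simp [uProd]
  | A :: B :: L => by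
    rw [uProd, evL_uMul hF, evL_uProd t u (B :: L)]
    simp

include hF in
/-- The formula for n_i(t). -/
theorem nMat_eq (i : ℕ) (hi : i < D.rank) (t : F) (ht : t ≠ 0) :
    D.nMat F (D.simple i) t = 1 + ev D F t t⁻¹ (nTerms D (hF.eta i) i) := by
  have h := eqL_sound (idxEquiv D) (R := F) (hF.n_check i hi) t t⁻¹
  change ev D F t t⁻¹ (redL _) = ev D F t t⁻¹ (redL _) at h
  rw [evL_redL t ht, evL_redL t ht] at h
  rw [← h, evL_uProd hF]
  simp only [ChevalleyDatum.nMat, ChevalleyDatum.wordMat, ChevalleyDatum.nWord, List.map_cons,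
    List.map_nil, List.prod_cons, List.prod_nil, mul_one, x_substVar, pow_zero, pow_one,
    ← x_eq D F _ t t⁻¹]
  simp

include hF in
theorem nMat_mulVec_eR (i : ℕ) (hi : i < D.rank) (t : F) (ht : t ≠ 0) (s : ℕ)
    (hs : s < D.nroots) :
    D.nMat F (D.simple i) t *ᵥ eR D F s =
      ((hF.eta i s : F) * t ^ (-D.cartan i s)) • eR D F (D.reflectRoot i s) := by
  rw [nMat_eq hF i hi t ht, Matrix.add_mulVec, Matrix.one_mulVec, evL_mulVec _ _ _ _ (by omega),
    nTerms, List.map_append, List.sum_append, List.map_map]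
  rw [sum_eq_zero_of (List.range D.rank) _ (fun j hj => by
    have := List.mem_range.1 hj
    exact if_neg (by simp only; omega)), zero_add, List.flatMap,
    List.map_flatten, List.sum_flatten, List.map_map, List.map_map]
  rw [← List.sum_toFinset _ List.nodup_range, List.toFinset_range, Finset.sum_eq_single s]
  · simp only [Function.comp_apply, List.map_cons, List.map_nil, List.sum_cons, List.sum_nil,
      if_true, add_zero, Int.cast_neg, Int.cast_one, pow_zero, mul_one, neg_smul, one_smul]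
    have hz : t ^ (-D.cartan i s).toNat * t⁻¹ ^ (D.cartan i s).toNat = t ^ (-D.cartan i s) := by
      rcases le_total 0 (D.cartan i s) with h | h
      · obtain ⟨k, hk⟩ := Int.eq_ofNat_of_zero_le h
        simp [hk]
      · obtain ⟨k, hk⟩ := Int.exists_eq_neg_ofNat h
        simp [hk]
    rw [mul_assoc, hz]
    simp only [eR]
    abel
  · intro b _ hb
    simp [Ne.symm hb]
  · simp [hs]

include hF in
theorem nMat_mulVec_eH (i : ℕ) (hi : i < D.rank) (t : F) (ht : t ≠ 0) (j : ℕ) (hj : j < D.rank) :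
    D.nMat F (D.simple i) t *ᵥ eI D F j =
      eI D F j - (D.cartan j (D.simple i) : F) • eI D F i := by
  rw [nMat_eq hF i hi t ht, Matrix.add_mulVec, Matrix.one_mulVec, evL_mulVec _ _ _ _ (by omega),
    nTerms, List.map_append, List.sum_append, List.map_map]
  have h0 : ∀ L : List ℕ, ((L.flatMap fun s =>
      ([⟨D.rank + D.reflectRoot i s, D.rank + s, (-D.cartan i s).toNat, (D.cartan i s).toNat, hF.eta i s⟩,
       ⟨D.rank + s, D.rank + s, 0, 0, -1⟩] : List Tm)).map fun m =>
      if j = m.col then ((m.c : F) * t ^ m.a * t⁻¹ ^ m.b) • eI D F m.row else 0).sum = 0 := by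
    intro L
    refine sum_eq_zero_of _ _ fun m hm => if_neg ?_
    simp only [List.mem_flatMap, List.mem_cons, List.not_mem_nil, or_false] at hm
    obtain ⟨s, -, rfl | rfl⟩ := hm <;> simp only <;> omega
  rw [h0, add_zero, ← List.sum_toFinset _ List.nodup_range, List.toFinset_range,
    Finset.sum_eq_single j]
  · simp [sub_eq_add_neg]
  · intro b _ hb
    simp [Ne.symm hb]
  · simp [hj]

end Cfsg.Agent.Lie
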