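import Mathlib
import Cfsg.Agent.Lib.Small.SL2.Orders

/-!
The group `F² ⋊ SL(2, F)` for a field of characteristic two, and its element orders.
-/

set_option autoImplicit false
set_option linter.unusedSectionVars false
set_option linter.style.haveILetI false

namespace Cfsg.Agent.Lie.AffineSL2

open Matrix

variable {F : Type*} [Field F]

local notation "SL3" => Matrix.SpecialLinearGroup (Fin 3) F
local notation "SL2" => Matrix.SpecialLinearGroup (Fin 2) F
local notation "P2" => Matrix.ProjectiveSpecialLinearGroup (Fin 2) F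

/-- The special linear matrices of degree three with last row `(0, 0, 1)`. -/
def lastRow (F : Type*) [Field F] : Set (Matrix.SpecialLinearGroup (Fin 3) F) :=
  {M | (M : Matrix (Fin 3) (Fin 3) F) 2 0 = 0 ∧ (M : Matrix (Fin 3) (Fin 3) F) 2 1 = 0 ∧
    (M : Matrix (Fin 3) (Fin 3) F) 2 2 = 1}

theorem lastRow_mul {M N : SL3} (hM : M ∈ lastRow F) (hN : N ∈ lastRow F) : M * N ∈ lastRow F := by
  obtain ⟨h0, h1, h2⟩ := hM
  obtain ⟨k0, k1, k2⟩ := hN
  simp [lastRow, Matrix.mul_apply, Fin.sum_univ_three, h0, h1, h2, k0, k1, k2]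

/-- The affine group. -/
def aff (F : Type*) [Field F] [Finite F] : Subgroup (Matrix.SpecialLinearGroup (Fin 3) F) where
  carrier := lastRow F
  one_mem' := by simp [lastRow]
  mul_mem' := lastRow_mul
  inv_mem' {M} hM := by
    have h : ∀ k : ℕ, M ^ k ∈ lastRow F := fun k => by
      induction k with
      | zero => simp [lastRow]
      | succ k ih => rw [pow_succ]; exact lastRow_mul ih hM
    rw [show M⁻¹ = M ^ (orderOf M - 1) from by
      rw [inv_eq_iff_mul_eq_one, ← pow_succ', Nat.sub_add_cancel (orderOf_pos M), pow_orderOf_eq_one]]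
    exact h _

theorem closure_lastRow [Finite F] : Subgroup.closure (lastRow F) = aff F := Subgroup.closure_eq (aff F)

variable [Finite F]

@[simp] theorem mul_val (M N : aff F) : (M * N).1.1 = M.1.1 * N.1.1 := rfl

@[simp] theorem one_val : (1 : aff F).1.1 = 1 := rfl

@[simp] theorem sl2_mul_val (A B : SL2) : (A * B).1 = A.1 * B.1 := rfl

@[simp] theorem sl2_one_val : (1 : SL2).1 = 1 := rfl

theorem blk_det (M : aff F) :
    (!![M.1.1 0 0, M.1.1 0 1; M.1.1 1 0, M.1.1 1 1] : Matrix (Fin 2) (Fin 2) F).det = 1 := by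
  obtain ⟨h0, h1, h2⟩ := M.2
  have h := M.1.2
  rw [Matrix.det_fin_three, h0, h1, h2] at h
  rw [Matrix.det_fin_two]
  simpa using h

/-- The linear part. -/
def blk : aff F →* SL2 where
  toFun M := ⟨!![M.1.1 0 0, M.1.1 0 1; M.1.1 1 0, M.1.1 1 1], blk_det M⟩
  map_one' := by
    apply Subtype.ext
    ext i j
    fin_cases i <;> fin_cases j <;> simp
  map_mul' M N := by
    obtain ⟨k0, k1, k2⟩ := N.2
    apply Subtype.ext
    ext i j
    fin_cases i <;> fin_cases j <;>
      (show (!![(M * N).1.1 0 0, (M * N).1.1 0 1; (M * N).1.1 1 0, (M * N).1.1 1 1] :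
          Matrix (Fin 2) (Fin 2) F) _ _ = ((!![M.1.1 0 0, M.1.1 0 1; M.1.1 1 0, M.1.1 1 1] :
          Matrix (Fin 2) (Fin 2) F) * !![N.1.1 0 0, N.1.1 0 1; N.1.1 1 0, N.1.1 1 1]) _ _
       simp [Matrix.mul_apply, Fin.sum_univ_three, Fin.sum_univ_two, k0, k1])

@[simp] theorem blk_val (M : aff F) :
    (blk M).1 = !![M.1.1 0 0, M.1.1 0 1; M.1.1 1 0, M.1.1 1 1] := rfl

/-- The section. -/
def sec (A : SL2) : aff F :=
  ⟨⟨!![A.1 0 0, A.1 0 1, 0; A.1 1 0, A.1 1 1, 0; 0, 0, 1], by
    have h := A.2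
    rw [Matrix.det_fin_two] at h
    rw [Matrix.det_fin_three]
    simpa using h⟩, by show _ = _ ∧ _ = _ ∧ _ = _; simp⟩

@[simp] theorem sec_val (A : SL2) :
    (sec A).1.1 = !![A.1 0 0, A.1 0 1, 0; A.1 1 0, A.1 1 1, 0; 0, 0, 1] := rfl

theorem blk_sec (A : SL2) : blk (sec A) = A := by
  apply Subtype.ext
  ext i j
  fin_cases i <;> fin_cases j <;> rfl

theorem blk_surjective : Function.Surjective (blk : aff F → SL2) := fun A => ⟨sec A, blk_sec A⟩

theorem sec_pow (A : SL2) : orderOf (sec A) = orderOf A := by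
  let s : SL2 →* aff F :=
    { toFun := sec
      map_one' := by
        apply Subtype.ext; apply Subtype.ext
        ext i j
        fin_cases i <;> fin_cases j <;> simp [sec]
      map_mul' := fun A B => by
        apply Subtype.ext; apply Subtype.ext
        ext i j
        rw [mul_val, sec_val, sec_val, sec_val, sl2_mul_val]
        fin_cases i <;> fin_cases j <;> simp [Matrix.mul_apply, Fin.sum_univ_three, Fin.sum_univ_two] }
  exact orderOf_injective s (fun A B h => by rw [← blk_sec A, ← blk_sec B]; exact congrArg blk h) A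

theorem ker_entries {M : aff F} (h : M ∈ (blk : aff F →* SL2).ker) :
    M.1.1 0 0 = 1 ∧ M.1.1 0 1 = 0 ∧ M.1.1 1 0 = 0 ∧ M.1.1 1 1 = 1 := by
  rw [MonoidHom.mem_ker] at h
  have h' := congrArg Subtype.val h
  exact ⟨congrFun (congrFun h' 0) 0, congrFun (congrFun h' 0) 1, congrFun (congrFun h' 1) 0,
    congrFun (congrFun h' 1) 1⟩

theorem ker_sq [CharP F 2] (M : aff F) (h : M ∈ (blk : aff F →* SL2).ker) : M ^ 2 = 1 := by
  obtain ⟨a, b, c, d⟩ := ker_entries h
  obtain ⟨h0, h1, h2⟩ := M.2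
  rw [pow_two]
  apply Subtype.ext; apply Subtype.ext
  ext i j
  fin_cases i <;> fin_cases j <;>
    simp [Matrix.mul_apply, Fin.sum_univ_three, a, b, c, d, h0, h1, h2, CharTwo.add_self_eq_zero]

/-- The elements `t` and `x` generating translations. -/
def tr (x y : F) : aff F :=
  ⟨⟨!![1, 0, x; 0, 1, y; 0, 0, 1], by rw [Matrix.det_fin_three]; simp⟩,
    by show _ = _ ∧ _ = _ ∧ _ = _; simp⟩

@[simp] theorem tr_val (x y : F) : (tr x y).1.1 = !![1, 0, x; 0, 1, y; 0, 0, 1] := rfl

theorem ker_ne_bot : (blk : aff F →* SL2).ker ≠ ⊥ := by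
  intro h
  have h1 : tr (1 : F) 0 ∈ (blk : aff F →* SL2).ker := by
    rw [MonoidHom.mem_ker]
    apply Subtype.ext
    ext i j
    rw [blk_val, tr_val, sl2_one_val]
    fin_cases i <;> fin_cases j <;> simp
  rw [h, Subgroup.mem_bot] at h1
  have h2 := congrArg (fun M : aff F => M.1.1 0 2) h1
  simp [tr] at h2

theorem orderOf_four_or [CharP F 2] (M : aff F) : orderOf M ∣ 4 ∨ orderOf M = orderOf (blk M) := by
  have hA := blk_det M
  rw [Matrix.det_fin_two] at hA
  simp at hA
  by_cases ht : M.1.1 0 0 + M.1.1 1 1 = 0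
  · left
    have hd : M.1.1 1 1 = M.1.1 0 0 := (CharTwo.add_eq_zero.1 ht).symm
    have hmem : M * M ∈ (blk : aff F →* SL2).ker := by
      rw [MonoidHom.mem_ker, map_mul]
      apply Subtype.ext
      ext i j
      rw [sl2_mul_val, blk_val, sl2_one_val]
      fin_cases i <;> fin_cases j <;>
        simp [Matrix.mul_apply, Fin.sum_univ_two, hd, mul_comm, CharTwo.add_self_eq_zero] <;>
        linear_combination hA + (M.1.1 0 1 * M.1.1 1 0) * CharTwo.two_eq_zero (R := F) - M.1.1 0 0 * hd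
    refine orderOf_dvd_of_pow_eq_one ?_
    rw [show M ^ 4 = (M * M) ^ 2 by rw [← pow_two, ← pow_mul], ker_sq _ hmem]
  · right
    refine Nat.dvd_antisymm (orderOf_dvd_of_pow_eq_one ?_) (orderOf_map_dvd _ M)
    set k := orderOf (blk M) with hk
    have hmem : M ^ k ∈ (blk : aff F →* SL2).ker := by
      rw [MonoidHom.mem_ker, map_pow, hk, pow_orderOf_eq_one]
    obtain ⟨a, b, c, d⟩ := ker_entries hmem
    obtain ⟨n0, n1, n2⟩ := (M ^ k).2
    obtain ⟨h0, h1, h2⟩ := M.2
    set N := M ^ k with hN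
    have hc : M * N = N * M := by rw [hN, ← pow_succ', pow_succ]
    have e0 := congrArg (fun M : aff F => M.1.1 0 2) hc
    have e1 := congrArg (fun M : aff F => M.1.1 1 2) hc
    simp [Matrix.mul_apply, Fin.sum_univ_three, a, b, c, d, h2, n2] at e0 e1
    have hx : N.1.1 0 2 * (M.1.1 0 0 + M.1.1 1 1) = 0 := by
      linear_combination (1 - M.1.1 1 1) * e0 + M.1.1 0 1 * e1 + N.1.1 0 2 * hA +
        N.1.1 0 2 * CharTwo.two_eq_zero (R := F)
    have hy : N.1.1 1 2 * (M.1.1 0 0 + M.1.1 1 1) = 0 := by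
      linear_combination M.1.1 1 0 * e0 + (1 - M.1.1 0 0) * e1 + N.1.1 1 2 * hA +
        N.1.1 1 2 * CharTwo.two_eq_zero (R := F)
    have x0 := (mul_eq_zero.1 hx).resolve_right ht
    have y0 := (mul_eq_zero.1 hy).resolve_right ht
    apply Subtype.ext; apply Subtype.ext
    ext i j
    fin_cases i <;> fin_cases j <;> simp [a, b, c, d, n0, n1, n2, x0, y0]

theorem four_mem [CharP F 2] : 4 ∈ Set.range (orderOf : aff F → ℕ) := by
  let A : SL2 := Small.PSL2.uS (1 : F)
  refine ⟨sec A * tr 0 1, orderOf_eq_prime_pow (p := 2) (n := 1) ?_ ?_⟩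
  · intro h
    have h' := congrArg (fun M : aff F => M.1.1 0 2) h
    simp only [pow_one, pow_two, mul_val, sec_val, tr_val, one_val] at h'
    simp [A, Matrix.mul_apply, Fin.sum_univ_three, CharTwo.add_self_eq_zero] at h'
  · rcases orderOf_four_or (sec A * tr 0 1) with h | h
    · exact orderOf_dvd_iff_pow_eq_one.1 h
    · refine orderOf_dvd_iff_pow_eq_one.1 ?_
      rw [h]
      refine orderOf_dvd_of_pow_eq_one ?_
      apply Subtype.ext
      ext i j
      rw [show (2 : ℕ) ^ (1 + 1) = 2 + 2 from rfl, pow_add, pow_two, sl2_mul_val, sl2_mul_val, blk_val, mul_val,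
        sec_val, tr_val, sl2_one_val]
      fin_cases i <;> fin_cases j <;>
        simp [A, pow_succ, Matrix.mul_apply, Fin.sum_univ_two, Fin.sum_univ_three,
          CharTwo.add_self_eq_zero]

/-- The spectrum of the affine group, relative to `PSL(2, F)`. -/
theorem spectrum [CharP F 2] (d : ℕ) :
    d ∈ Set.range (orderOf : aff F → ℕ) ↔ d ∣ 4 ∨ d ∈ Set.range (orderOf : P2 → ℕ) := by
  haveI := Fintype.ofFinite F
  have hbij : Function.Injective (Small.PSL2.pr : SL2 → P2) := by
    rw [← MonoidHom.ker_eq_bot_iff, Small.PSL2.pr, QuotientGroup.ker_mk',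
      ← Subgroup.card_eq_one]
    exact Small.SL2C.center_card_even (CharTwo.two_eq_zero)
  constructor
  · rintro ⟨M, rfl⟩
    rcases orderOf_four_or M with h | h
    · exact Or.inl h
    · exact Or.inr ⟨Small.PSL2.pr (blk M), by rw [orderOf_injective _ hbij, h]⟩
  · rintro (h | ⟨y, rfl⟩)
    · obtain ⟨M, hM⟩ := four_mem (F := F)
      rw [← hM] at h
      exact ⟨M ^ (orderOf M / d), orderOf_pow_orderOf_div (orderOf_pos M).ne' h⟩
    · obtain ⟨A, rfl⟩ := Small.PSL2.pr_surjective y
      exact ⟨sec A, by rw [sec_pow, orderOf_injective _ hbij]⟩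

end Cfsg.Agent.Lie.AffineSL2
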