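import Mathlib

/-!
A finite group with a nontrivial normal subgroup of prime exponent has the same spectrum as
arbitrarily large groups.
-/

set_option autoImplicit false

namespace Cfsg.Agent.Lie

universe u

/-- The tuples of elements of `G` lying in one common coset of `V`. -/
def fibre {G : Type u} [Group G] (V : Subgroup G) [V.Normal] (n : ℕ) : Subgroup (Fin (n + 1) → G) where
  carrier := {f | ∀ i, QuotientGroup.mk' V (f i) = QuotientGroup.mk' V (f 0)}
  one_mem' := fun _ => rfl
  mul_mem' {f g} hf hg := fun i => by simp only [Pi.mul_apply, map_mul, hf i, hg i]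
  inv_mem' {f} hf := fun i => by simp only [Pi.inv_apply, map_inv, hf i]

theorem range_orderOf_fibre {G : Type u} [Group G] [Finite G] (V : Subgroup G) [V.Normal] {p : ℕ}
    (hp : p.Prime) (hexp : ∀ x ∈ V, x ^ p = 1) (n : ℕ) :
    Set.range (orderOf : fibre V n → ℕ) = Set.range (orderOf : G → ℕ) := by
  classical
  ext d
  constructor
  · rintro ⟨⟨f, hf⟩, rfl⟩
    rw [Subgroup.orderOf_mk, Pi.orderOf]
    set k := orderOf (QuotientGroup.mk' V (f 0)) with hk
    have hb : ∀ i, orderOf (f i) = k ∨ orderOf (f i) = k * p := by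
      intro i
      obtain ⟨s, hs⟩ : k ∣ orderOf (f i) := by
        rw [hk, ← hf i]
        exact orderOf_map_dvd _ _
      have h2 : orderOf (f i) ∣ k * p := by
        refine orderOf_dvd_of_pow_eq_one ?_
        rw [pow_mul]
        refine hexp _ ((QuotientGroup.eq_one_iff _).1 ?_)
        show QuotientGroup.mk' V (f i ^ k) = 1
        rw [map_pow, hf i, hk, pow_orderOf_eq_one]
      rw [hs] at h2 ⊢
      rcases (Nat.dvd_prime hp).1 (Nat.dvd_of_mul_dvd_mul_left (orderOf_pos _) h2) with rfl | rfl
      · exact Or.inl (mul_one k)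
      · exact Or.inr rfl
    by_cases h : ∃ i, orderOf (f i) = k * p
    · obtain ⟨i, hi⟩ := h
      refine ⟨f i, Nat.dvd_antisymm (Finset.dvd_lcm (f := fun i => orderOf (f i)) (Finset.mem_univ i))
        (Finset.lcm_dvd fun j _ => ?_)⟩
      rcases hb j with h | h <;> rw [h, hi]
      exact dvd_mul_right k p
    · push Not at h
      refine ⟨f 0, Nat.dvd_antisymm (Finset.dvd_lcm (f := fun i => orderOf (f i)) (Finset.mem_univ 0))
        (Finset.lcm_dvd fun j _ => ?_)⟩
      rw [(hb j).resolve_right (h j), (hb 0).resolve_right (h 0)]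
  · rintro ⟨g, rfl⟩
    let c : G →* (Fin (n + 1) → G) :=
      { toFun := fun g _ => g, map_one' := rfl, map_mul' := fun _ _ => rfl }
    refine ⟨⟨c g, fun _ => rfl⟩, (Subgroup.orderOf_mk _ _).trans ?_⟩
    exact orderOf_injective c (fun a b h => congrFun h 0) g

theorem card_fibre_gt {G : Type u} [Group G] [Finite G] (V : Subgroup G) [V.Normal] (hV : V ≠ ⊥)
    (n : ℕ) : n < Nat.card (fibre V n) := by
  haveI := (Subgroup.nontrivial_iff_ne_bot V).2 hV
  let f : (Fin (n + 1) → V) → fibre V n := fun v => ⟨fun i => (v i : G), fun i => by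
    simp only [QuotientGroup.mk'_apply, (QuotientGroup.eq_one_iff _).2 (v i).2,
      (QuotientGroup.eq_one_iff _).2 (v 0).2]⟩
  have hf : Function.Injective f := fun v w h => funext fun i =>
    Subtype.ext (congrFun (congrArg Subtype.val h) i)
  have h1 := Nat.card_le_card_of_injective f hf
  rw [Nat.card_fun, Nat.card_fin] at h1
  have h2 : 1 < Nat.card V := Finite.one_lt_card
  exact lt_of_lt_of_le (Nat.lt_of_succ_lt (Nat.lt_pow_self h2)) h1

/-- Arbitrarily large isospectral groups. -/
theorem exists_large_isospectral {G : Type u} [Group G] [Finite G] (V : Subgroup G) [V.Normal]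
    (hV : V ≠ ⊥) {p : ℕ} (hp : p.Prime) (hexp : ∀ x ∈ V, x ^ p = 1) (N : ℕ) :
    ∃ (H : Type) (_ : Group H) (_ : Fintype H), N < Fintype.card H ∧
      Set.range (orderOf : H → ℕ) = Set.range (orderOf : G → ℕ) := by
  classical
  let P := fibre V N
  let φ : P →* Equiv.Perm (Fin (Nat.card P)) :=
    ((Finite.equivFin P).permCongrHom).toMonoidHom.comp (MulAction.toPermHom P P)
  have hφ : Function.Injective φ :=
    ((Finite.equivFin P).permCongrHom).injective.comp MulAction.toPerm_injective
  refine ⟨φ.range, inferInstance, Fintype.ofFinite _, ?_, ?_⟩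
  · rw [Fintype.card_eq_nat_card, ← Nat.card_congr (MonoidHom.ofInjective hφ).toEquiv]
    exact card_fibre_gt V hV N
  · rw [← range_orderOf_fibre V hp hexp N]
    ext d
    constructor
    · rintro ⟨x, rfl⟩
      exact ⟨(MonoidHom.ofInjective hφ).symm x, MulEquiv.orderOf_eq _ x⟩
    · rintro ⟨x, rfl⟩
      exact ⟨MonoidHom.ofInjective hφ x, MulEquiv.orderOf_eq _ x⟩

end Cfsg.Agent.Lie
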