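import Mathlib
import Cfsg.Agent.Lib.Lie.AffineSL2
import Cfsg.Agent.Lib.Lie.FibrePower
import Cfsg.Agent.Lib.Small.AltOrders

/-!
`F₄² ⋊ SL(2, 4)` has the spectrum of `A₆`; the prime graph of `F² ⋊ SL(2, F)` and its fibre powers.
-/

set_option autoImplicit false
set_option linter.style.haveILetI false

namespace Cfsg.Agent.Lie.AffineSL2

theorem types_six : ∀ p ∈ Small.AltOrders.types 3 6, p.2 = 0 → p.1 ∈ [1, 2, 3, 4, 5] := by
  decide +kernel

theorem spectrum_A6 : Set.range (orderOf : alternatingGroup (Fin 6) → ℕ) = {1, 2, 3, 4, 5} := by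
  apply Set.Subset.antisymm
  · rintro _ ⟨g, rfl⟩
    obtain ⟨hev, hsum, hlcm, h2⟩ := Small.AltOrders.cycleType_facts g
    have hc : Multiset.card g.1.cycleType ≤ 3 := by
      have := Multiset.card_nsmul_le_sum h2
      rw [smul_eq_mul] at this
      omega
    have h := types_six _ (Small.AltOrders.types_spec 3 6 _ hc hsum h2) hev
    rw [hlcm]
    simpa [List.mem_cons] using h
  · have mk : ∀ m : Multiset ℕ, m.sum ≤ 6 → (∀ a ∈ m, 2 ≤ a) → (m.sum + Multiset.card m) % 2 = 0 →
        ∀ k, m.lcm = k → k ∈ Set.range (orderOf : alternatingGroup (Fin 6) → ℕ) := by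
      intro m h1 h2 h3 k hk
      obtain ⟨g, hg⟩ := Small.AltOrders.exists_alt h1 h2 h3
      exact ⟨g, hg.trans hk⟩
    rintro k (rfl | rfl | rfl | rfl | rfl)
    · exact mk 0 (by decide) (by decide) (by decide) _ (by decide)
    · exact mk {2, 2} (by decide) (by decide) (by decide) _ (by decide)
    · exact mk {3} (by decide) (by decide) (by decide) _ (by decide)
    · exact mk {4, 2} (by decide) (by decide) (by decide) _ (by decide)
    · exact mk {5} (by decide) (by decide) (by decide) _ (by decide)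

theorem spectrum_four {F : Type*} [Field F] [Fintype F] (hF : Fintype.card F = 4) :
    Set.range (orderOf : aff F → ℕ) = {1, 2, 3, 4, 5} := by
  haveI : Fact (Nat.Prime 2) := ⟨Nat.prime_two⟩
  haveI : CharP F 2 := charP_of_card_eq_prime_pow (f := 2) hF
  haveI : Fact (Nat.Prime 2) := ⟨Nat.prime_two⟩
  have hy := Small.SL2C.orderOf_dvd (F := F) 2
  have hex := Small.SL2C.order_exists (F := F) 2 (by omega)
  rw [hF] at hy hex
  ext d
  rw [spectrum]
  constructor
  · rintro (h | ⟨y, rfl⟩)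
    · have := Nat.le_of_dvd (by norm_num) h
      interval_cases d <;> simp_all
    · rcases hy y with h | h | h <;>
        (norm_num at h
         have h5 := Nat.le_of_dvd (by norm_num) h
         have h1 := orderOf_pos y
         interval_cases horderOf : orderOf y <;> simp_all)
  · rintro (rfl | rfl | rfl | rfl | rfl)
    · exact Or.inl (by norm_num)
    · exact Or.inl (by norm_num)
    · exact Or.inr (hex 3 (by norm_num))
    · exact Or.inl (by norm_num)
    · exact Or.inr (hex 5 (by norm_num))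

/-- The prime graph only depends on the orders that are primes or products of two primes. -/
theorem graph_eq {G H : Type*} [Group G] [Finite G] [Group H] [Finite H]
    (h1 : ∀ p : ℕ, p.Prime → (p ∈ Set.range (orderOf : G → ℕ) ↔ p ∈ Set.range (orderOf : H → ℕ)))
    (h2 : ∀ p q : ℕ, p.Prime → q.Prime → p ≠ q →
      (p * q ∈ Set.range (orderOf : G → ℕ) ↔ p * q ∈ Set.range (orderOf : H → ℕ))) :
    (∀ p : ℕ, p.Prime → (p ∣ Nat.card G ↔ p ∣ Nat.card H)) ∧
    (∀ p q : ℕ, p.Prime → q.Prime → p ≠ q →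
      ((∃ g : G, orderOf g = p * q) ↔ (∃ g : H, orderOf g = p * q))) := by
  refine ⟨fun p hp => ?_, fun p q hp hq hpq => h2 p q hp hq hpq⟩
  haveI := Fact.mk hp
  constructor
  · intro h
    obtain ⟨x, hx⟩ := (h1 p hp).1 (exists_prime_orderOf_dvd_card' p h)
    exact hx ▸ orderOf_dvd_natCard x
  · intro h
    obtain ⟨x, hx⟩ := (h1 p hp).2 (exists_prime_orderOf_dvd_card' p h)
    exact hx ▸ orderOf_dvd_natCard x

theorem prime_or_two_primes_not_dvd_four {d : ℕ}
    (hd : (∃ p, p.Prime ∧ d = p ∧ d ≠ 2) ∨ ∃ p q, p.Prime ∧ q.Prime ∧ p ≠ q ∧ d = p * q) : ¬ d ∣ 4 := by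
  intro h
  have e : ∀ p : ℕ, p.Prime → p ∣ 4 → p = 2 := fun p hp hd =>
    (Nat.prime_dvd_prime_iff_eq hp Nat.prime_two).1 (hp.dvd_of_dvd_pow (show p ∣ 2 ^ 2 from hd))
  rcases hd with ⟨p, hp, rfl, hne⟩ | ⟨p, q, hp, hq, hpq, rfl⟩
  · exact hne (e _ hp h)
  · exact hpq ((e p hp ((dvd_mul_right p q).trans h)).trans (e q hq ((dvd_mul_left q p).trans h)).symm)

/-- Arbitrarily large groups with the prime graph of `PSL(2, F)` in characteristic two. -/
theorem exists_large_graph {F : Type*} [Field F] [Fintype F] [CharP F 2] (hF : 4 ≤ Fintype.card F)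
    (N : ℕ) :
    ∃ (H : Type) (_ : Group H) (_ : Finite H), N < Nat.card H ∧
      (∀ p : ℕ, p.Prime → (p ∈ Set.range (orderOf : Matrix.ProjectiveSpecialLinearGroup (Fin 2) F → ℕ) ↔
        p ∈ Set.range (orderOf : H → ℕ))) ∧
      (∀ p q : ℕ, p.Prime → q.Prime → p ≠ q →
        (p * q ∈ Set.range (orderOf : Matrix.ProjectiveSpecialLinearGroup (Fin 2) F → ℕ) ↔
        p * q ∈ Set.range (orderOf : H → ℕ))) := by
  haveI : Fact (Nat.Prime 2) := ⟨Nat.prime_two⟩
  obtain ⟨H, iG, iF, hN, hH⟩ := exists_large_isospectral (blk : aff F →* _).ker ker_ne_bot Nat.prime_two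
    ker_sq N
  refine ⟨H, iG, inferInstance, by rwa [Nat.card_eq_fintype_card], fun p hp => ?_, fun p q hp hq hpq => ?_⟩
  · rw [hH, spectrum]
    refine ⟨Or.inr, ?_⟩
    rintro (h | h)
    · by_cases hp2 : p = 2
      · subst hp2
        exact Small.SL2C.order_exists 2 hF 2 (Or.inl dvd_rfl)
      · exact absurd h (prime_or_two_primes_not_dvd_four (Or.inl ⟨p, hp, rfl, hp2⟩))
    · exact h
  · rw [hH, spectrum]
    refine ⟨Or.inr, ?_⟩
    rintro (h | h)
    · exact absurd h (prime_or_two_primes_not_dvd_four (Or.inr ⟨p, q, hp, hq, hpq, rfl⟩))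
    · exact h

end Cfsg.Agent.Lie.AffineSL2
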