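import Mathlib

/-!
Quadratic maps on elementary abelian 2-groups with values in a group of order at most four:
the order of the domain is at most sixteen when there is at most the prescribed zero.
-/

set_option autoImplicit false

namespace Cfsg.Agent.Lie.AnisoMap

attribute [local instance] _root_.Classical.propDecidable

variable {E Y : Type*} [CommGroup E] [CommGroup Y]

/-- A quadratic map between groups of exponent two. -/
structure IsQuad (q : E → Y) : Prop where
  expE : ∀ x : E, x * x = 1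
  expY : ∀ y : Y, y * y = 1
  one : q 1 = 1
  bilin : ∀ x y z : E, q (x * (y * z)) * q x * q (y * z) = (q (x * y) * q x * q y) * (q (x * z) * q x * q z)

/-- the polar form -/
def pol (q : E → Y) (x y : E) : Y := q (x * y) * q x * q y

variable {q : E → Y}

theorem IsQuad.q_mul (hq : IsQuad q) (x y : E) : q (x * y) = q x * q y * pol q x y := by
  unfold pol
  rw [show q x * q y * (q (x * y) * q x * q y) = q (x * y) * ((q x * q x) * (q y * q y)) by
    simp only [mul_comm, mul_left_comm]]
  rw [hq.expY, hq.expY, one_mul, mul_one]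

theorem pol_comm (x y : E) : pol q x y = pol q y x := by
  unfold pol; rw [mul_comm x y, mul_right_comm]

theorem IsQuad.pol_self (hq : IsQuad q) (x : E) : pol q x x = 1 := by
  unfold pol; rw [hq.expE, hq.one, one_mul, hq.expY]

theorem IsQuad.pol_mul (hq : IsQuad q) (x y z : E) : pol q x (y * z) = pol q x y * pol q x z :=
  hq.bilin x y z

theorem IsQuad.pol_mul' (hq : IsQuad q) (x y z : E) : pol q (y * z) x = pol q y x * pol q z x := by
  rw [pol_comm, hq.pol_mul, pol_comm x y, pol_comm x z]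

theorem IsQuad.pol_one (hq : IsQuad q) (x : E) : pol q x 1 = 1 := by
  unfold pol; rw [mul_one, hq.one, mul_one, hq.expY]

/-- the polar form at a fixed element -/
def polHom (hq : IsQuad q) (x : E) : E →* Y := MonoidHom.mk' (pol q x) (hq.pol_mul x)

theorem polHom_apply (hq : IsQuad q) (x y : E) : polHom hq x y = pol q x y := rfl

variable [Finite E] [Finite Y]

theorem klein {a b : Y} (hq : IsQuad q) (hY : Nat.card Y ≤ 4) (ha : a ≠ 1) (hb : b ≠ 1) (hab : a ≠ b) (y : Y) :
    y = 1 ∨ y = a ∨ y = b ∨ y = a * b := by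
  by_contra h
  push Not at h
  have hinv : ∀ u : Y, u⁻¹ = u := fun u => inv_eq_of_mul_eq_one_right (hq.expY u)
  have h1 : a * b ≠ 1 := fun e => hab (by rw [eq_inv_of_mul_eq_one_left e, hinv])
  have h2 : a * b ≠ a := fun e => hb (mul_eq_left.1 e)
  have h3 : a * b ≠ b := fun e => ha (mul_eq_right.1 e)
  let f : Fin 5 → Y := ![1, a, b, a * b, y]
  have hf : Function.Injective f := by
    intro i j e
    fin_cases i <;> fin_cases j <;> simp [f] at e <;> first | rfl | (exfalso; first
      | exact ha e | exact ha e.symm | exact hb e | exact hb e.symm | exact hab e | exact hab e.symm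
      | exact h1 e | exact h1 e.symm | exact h2 e | exact h2 e.symm | exact h3 e | exact h3 e.symm
      | exact h.1 e | exact h.1 e.symm | exact h.2.1 e | exact h.2.1 e.symm | exact h.2.2.1 e
      | exact h.2.2.1 e.symm | exact h.2.2.2 e | exact h.2.2.2 e.symm
      | exact hb e.1 | exact ha e.1 | simp_all)
  have := Nat.card_le_card_of_injective f hf
  rw [Nat.card_eq_fintype_card, Fintype.card_fin] at this
  omega

theorem card_eq_ker_mul (φ : E →* Y) : Nat.card E = Nat.card ↥φ.ker * Nat.card ↥φ.range := by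
  rw [← Subgroup.index_ker, Subgroup.card_mul_index]

theorem card_le_ker_mul (φ : E →* Y) : Nat.card E ≤ Nat.card ↥φ.ker * Nat.card Y := by
  rw [card_eq_ker_mul φ]
  exact Nat.mul_le_mul_left _ φ.range.card_le_card_group

variable (hq : IsQuad q)

include hq in
theorem ne_q_of_orth (h0 : ∀ x, q x = 1 → x = 1) {e k : E} (hk : pol q e k = 1)
    (hke : k ≠ e) : q k ≠ q e := by
  intro h
  have : q (k * e) = 1 := by rw [hq.q_mul, h, hq.expY, one_mul, pol_comm, hk]
  exact hke (by rw [eq_inv_of_mul_eq_one_left (h0 _ this), inv_eq_of_mul_eq_one_right (hq.expE e)])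

include hq in
/-- In the orthogonal of a point the pairwise values are in a subgroup of order two. -/
theorem orth_structure (hY : Nat.card Y ≤ 4) (h0 : ∀ x, q x = 1 → x = 1) {e : E} (he : e ≠ 1) :
    Nat.card ↥(polHom hq e).ker ≤ 8 ∧
      ∃ β : Y, β ≠ 1 ∧ ∀ k ∈ (polHom hq e).ker, ∀ l ∈ (polHom hq e).ker, pol q k l = 1 ∨ pol q k l = β := by
  set K := (polHom hq e).ker with hKdef
  have hKmem : ∀ k, k ∈ K ↔ pol q e k = 1 := fun k => MonoidHom.mem_ker
  have hqe : q e ≠ 1 := fun h => he (h0 e h)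
  by_cases hf : ∀ k ∈ K, k = 1 ∨ k = e
  · refine ⟨?_, q e, hqe, fun k hk l hl => Or.inl ?_⟩
    · have : Nat.card ↥K ≤ Nat.card (Fin 2) := by
        refine Nat.card_le_card_of_surjective (fun i : Fin 2 => (if i = 0 then 1 else ⟨e, (hKmem e).2 (hq.pol_self e)⟩ : ↥K))
          fun ⟨k, hk⟩ => ?_
        rcases hf k hk with rfl | rfl
        · exact ⟨0, rfl⟩
        · exact ⟨1, rfl⟩
      rw [Nat.card_eq_fintype_card (α := Fin 2), Fintype.card_fin] at this
      omega
    · rcases hf k hk with rfl | rfl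
      · rw [pol_comm]; exact hq.pol_one l
      · exact (hKmem l).1 hl
  push Not at hf
  obtain ⟨f, hf, hf1, hfe⟩ := hf
  have hef : pol q e f = 1 := (hKmem f).1 hf
  have hqf : q f ≠ 1 := fun h => hf1 (h0 f h)
  have hqef : q f ≠ q e := ne_q_of_orth hq h0 hef hfe
  have hfour := klein hq hY hqe hqf (Ne.symm hqef)
  have hother : ∀ k ∈ K, k ≠ 1 → k ≠ e → q k = q f ∨ q k = q e * q f := by
    intro k hk h1 h2
    rcases hfour (q k) with h | h | h | h
    · exact absurd (h0 k h) h1
    · exact absurd h (ne_q_of_orth hq h0 ((hKmem k).1 hk) h2)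
    · exact Or.inl h
    · exact Or.inr h
  -- elements of K orthogonal to f
  have horth : ∀ g ∈ K, pol q f g = 1 → g = 1 ∨ g = e ∨ g = f ∨ g = e * f := by
    intro g hg hfg
    have heg : pol q g e = 1 := by rw [pol_comm]; exact (hKmem g).1 hg
    by_contra hne
    push Not at hne
    rcases hother g hg hne.1 hne.2.1 with h | h
    · exact ne_q_of_orth hq h0 hfg hne.2.2.1 h
    · have e1 : pol q (e * f) g = 1 := by rw [hq.pol_mul', (hKmem g).1 hg, hfg, mul_one]
      refine ne_q_of_orth hq h0 e1 hne.2.2.2 ?_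
      rw [h, hq.q_mul, hef, mul_one]
  have hnota : ∀ g ∈ K, pol q f g ≠ q e := by
    intro g hg hfg
    have hg1 : g ≠ 1 := fun h => hqe (by rw [← hfg, h, hq.pol_one])
    have hge : g ≠ e := fun h => hqe (by rw [← hfg, h, pol_comm, hef])
    have hgf : g ≠ f := fun h => hqe (by rw [← hfg, h, hq.pol_self])
    have hm1 : f * g ≠ 1 := fun h => hgf (by
      rw [eq_inv_of_mul_eq_one_right h, inv_eq_of_mul_eq_one_right (hq.expE f)])
    have hme : f * g ≠ e := fun h => hqe (by
      have : g = f * e := by rw [← h, ← mul_assoc, hq.expE, one_mul]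
      rw [← hfg, this, hq.pol_mul, hq.pol_self, one_mul, pol_comm, hef])
    have hval := hq.q_mul f g
    rw [hfg] at hval
    rcases hother g hg hg1 hge with h | h
    · rw [h, hq.expY, one_mul] at hval
      exact ne_q_of_orth hq h0 ((hKmem _).1 (K.mul_mem hf hg)) hme hval
    · refine hm1 (h0 _ ?_)
      rw [hval, h, mul_left_comm, hq.expY, mul_one, hq.expY]
  have himg : ∃ β : Y, β ≠ 1 ∧ ∀ g ∈ K, pol q f g = 1 ∨ pol q f g = β := by
    by_cases h : ∀ g ∈ K, pol q f g = 1
    · exact ⟨q e, hqe, fun g hg => Or.inl (h g hg)⟩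
    push Not at h
    obtain ⟨g0, hg0, hβ⟩ := h
    refine ⟨_, hβ, fun g hg => ?_⟩
    by_contra hne
    push Not at hne
    have h3 := hnota _ (K.mul_mem hg hg0)
    rw [hq.pol_mul] at h3
    rcases klein hq hY hqe hne.1 (Ne.symm (hnota g hg)) (pol q f g0) with h | h | h | h
    · exact hβ h
    · exact hnota g0 hg0 h
    · exact hne.2 h.symm
    · exact h3 (by rw [h, mul_left_comm, hq.expY, mul_one])
  obtain ⟨β, hβ1, hβ⟩ := himg
  have hcover : ∃ g0 ∈ K, ∀ k ∈ K, ∃ u : E, (u = 1 ∨ u = e ∨ u = f ∨ u = e * f) ∧ (k = u ∨ k = g0 * u) := by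
    by_cases h : ∀ g ∈ K, pol q f g = 1
    · exact ⟨1, K.one_mem, fun k hk => ⟨k, horth k hk (h k hk), Or.inl rfl⟩⟩
    push Not at h
    obtain ⟨g0, hg0, hg0'⟩ := h
    refine ⟨g0, hg0, fun k hk => ?_⟩
    rcases hβ k hk with h | h
    · exact ⟨k, horth k hk h, Or.inl rfl⟩
    · refine ⟨g0 * k, horth _ (K.mul_mem hg0 hk) ?_, Or.inr (by rw [← mul_assoc, hq.expE, one_mul])⟩
      rw [hq.pol_mul, h, (hβ g0 hg0).resolve_left hg0', hq.expY]
  obtain ⟨g0, hg0, hcov⟩ := hcover
  refine ⟨?_, β, hβ1, ?_⟩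
  · let s : Fin 4 → E := ![1, e, f, e * f]
    have hsK : ∀ i, s i ∈ K := by
      intro i
      have he' : e ∈ K := (hKmem e).2 (hq.pol_self e)
      fin_cases i
      · exact K.one_mem
      · exact he'
      · exact hf
      · exact K.mul_mem he' hf
    have : Nat.card ↥K ≤ Nat.card (Bool × Fin 4) := by
      refine Nat.card_le_card_of_surjective
        (fun p : Bool × Fin 4 => (⟨(if p.1 then g0 else 1) * s p.2,
          K.mul_mem (by split <;> first | exact hg0 | exact K.one_mem) (hsK p.2)⟩ : ↥K)) fun ⟨k, hk⟩ => ?_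
      obtain ⟨u, hu, hku⟩ := hcov k hk
      obtain ⟨i, hi⟩ : ∃ i, s i = u := by
        rcases hu with h | h | h | h
        · exact ⟨0, h.symm⟩
        · exact ⟨1, h.symm⟩
        · exact ⟨2, h.symm⟩
        · exact ⟨3, h.symm⟩
      rcases hku with h | h
      · exact ⟨(false, i), Subtype.ext (by simp [hi, h])⟩
      · exact ⟨(true, i), Subtype.ext (by simp [hi, h])⟩
    simpa using this
  intro k hk l hl
  obtain ⟨u, hu, hku⟩ := hcov k hk
  obtain ⟨v, hv, hlv⟩ := hcov l hl
  have hg0e : pol q e g0 = 1 := (hKmem g0).1 hg0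
  have hg0f : pol q f g0 = 1 ∨ pol q f g0 = β := hβ g0 hg0
  have huu : pol q u v = 1 := by
    rcases hu with h | h | h | h <;> rcases hv with h' | h' | h' | h' <;> rw [h, h'] <;>
      simp only [hq.pol_mul, hq.pol_mul', hq.pol_self, hef, pol_comm f e, hq.pol_one, pol_comm (1 : E) _, one_mul,
        mul_one]
  have hgw : ∀ w : E, (w = 1 ∨ w = e ∨ w = f ∨ w = e * f) → pol q g0 w = 1 ∨ pol q g0 w = β := by
    intro w hw
    rcases hw with h | h | h | h <;> rw [h]
    · exact Or.inl (hq.pol_one _)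
    · exact Or.inl (by rw [pol_comm, hg0e])
    · rw [pol_comm]; exact hg0f
    · rw [hq.pol_mul, pol_comm g0 e, hg0e, one_mul, pol_comm]; exact hg0f
  rcases hku with h | h <;> rcases hlv with h' | h' <;> rw [h, h']
  · exact Or.inl huu
  · rw [hq.pol_mul, huu, mul_one, pol_comm]; exact hgw u hu
  · rw [hq.pol_mul', huu, mul_one]; exact hgw v hv
  · rw [hq.pol_mul', hq.pol_mul, hq.pol_mul, hq.pol_self, huu, one_mul, mul_one, pol_comm u g0]
    rcases hgw v hv with e1 | e1 <;> rcases hgw u hu with e2 | e2 <;> rw [e1, e2] <;>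
      simp [hq.expY]

include hq in
/-- The bound in the anisotropic case. -/
theorem card_le_of_aniso (hY : Nat.card Y ≤ 4) (h0 : ∀ x, q x = 1 → x = 1) {n : ℕ} (hn : Nat.card E = 2 ^ n) :
    n ≤ 4 := by
  by_contra hn4
  have h32 : 32 ≤ Nat.card E := hn ▸ (show 2 ^ 5 ≤ 2 ^ n from Nat.pow_le_pow_right (by norm_num) (by omega))
  have hall : ∀ e : E, e ≠ 1 → Nat.card ↥(polHom hq e).ker = 8 ∧ ∀ y : Y, ∃ x, pol q e x = y := by
    intro e he
    have h8 := (orth_structure hq hY h0 he).1
    have h := card_eq_ker_mul (polHom hq e)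
    have hr : Nat.card ↥(polHom hq e).range ≤ Nat.card Y := (polHom hq e).range.card_le_card_group
    have : Nat.card ↥(polHom hq e).ker * Nat.card ↥(polHom hq e).range ≤ 8 * 4 := Nat.mul_le_mul h8 (hr.trans hY)
    have hk8 : Nat.card ↥(polHom hq e).ker = 8 := by
      by_contra hne
      have : Nat.card ↥(polHom hq e).ker * Nat.card ↥(polHom hq e).range ≤ 7 * 4 :=
        Nat.mul_le_mul (by omega) (hr.trans hY)
      omega
    refine ⟨hk8, fun y => ?_⟩
    rw [hk8] at h
    have htop : (polHom hq e).range = ⊤ :=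
      Subgroup.eq_top_of_le_card _ (by omega)
    exact (htop ▸ Subgroup.mem_top y : y ∈ (polHom hq e).range)
  haveI : Nontrivial E := Finite.one_lt_card_iff_nontrivial.1 (by omega)
  obtain ⟨e, he⟩ := exists_ne (1 : E)
  obtain ⟨hK8, hsurj⟩ := hall e he
  obtain ⟨-, β, hβ1, hβ⟩ := orth_structure hq hY h0 he
  set K := (polHom hq e).ker with hKdef
  -- a second value
  obtain ⟨γ, hγ1, hγ⟩ : ∃ γ : Y, γ ≠ 1 ∧ β ≠ γ := by
    by_contra hne
    push Not at hne
    have : Nat.card Y ≤ Nat.card Bool := Nat.card_le_card_of_surjective (fun b : Bool => if b then β else 1) fun y => by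
      by_cases h : y = 1
      · exact ⟨false, h.symm⟩
      · exact ⟨true, hne y h⟩
    have h := card_eq_ker_mul (polHom hq e)
    have hr : Nat.card ↥(polHom hq e).range ≤ Nat.card Y := (polHom hq e).range.card_le_card_group
    rw [hK8] at h
    simp at this
    omega
  have hfour := klein hq hY hβ1 hγ1 hγ
  obtain ⟨h1, hh1⟩ := hsurj β
  obtain ⟨h2, hh2⟩ := hsurj γ
  let B : Subgroup Y :=
    { carrier := {1, β}
      one_mem' := Or.inl rfl
      mul_mem' := fun {x y} hx hy => by
        rcases hx with rfl | rfl <;> rcases hy with rfl | rfl <;> simp [hq.expY]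
      inv_mem' := fun {x} hx => by
        rw [show x⁻¹ = x from inv_eq_of_mul_eq_one_right (hq.expY x)]; exact hx }
  have hout : ∀ {u v : Y}, u ∉ B → v ∉ B → u * v ∈ B := by
    intro u v hu hv
    have hcase : ∀ w : Y, w ∉ B → w = γ ∨ w = β * γ := fun w hw => by
      rcases hfour w with h | h | h | h
      · exact absurd (h ▸ B.one_mem) hw
      · exact absurd (Or.inr h) hw
      · exact Or.inl h
      · exact Or.inr h
    rcases hcase u hu with h | h <;> rcases hcase v hv with h' | h' <;> rw [h, h']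
    · exact Or.inl (hq.expY _)
    · exact Or.inr (by rw [mul_left_comm, hq.expY, mul_one]; rfl)
    · exact Or.inr (by rw [mul_assoc, hq.expY, mul_one]; rfl)
    · exact Or.inl (hq.expY _)
  obtain ⟨k, k', hne, heq⟩ : ∃ k k' : ↥K, k ≠ k' ∧
      (decide (pol q (k : E) h1 ∈ B), decide (pol q (k : E) h2 ∈ B)) =
        (decide (pol q (k' : E) h1 ∈ B), decide (pol q (k' : E) h2 ∈ B)) := by
    by_contra hne
    push Not at hne
    have := Nat.card_le_card_of_injective
      (fun k : ↥K => (decide (pol q (k : E) h1 ∈ B), decide (pol q (k : E) h2 ∈ B)))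
      fun a b hab => by by_contra hab'; exact hne a b hab' hab
    rw [hK8] at this
    simp at this
  simp only [Prod.mk.injEq, decide_eq_decide] at heq
  set r : E := (k : E) * k' with hr
  have hr1 : r ≠ 1 := fun h => hne (Subtype.ext (by
    rw [eq_inv_of_mul_eq_one_left h, inv_eq_of_mul_eq_one_right (hq.expE _)]))
  have hrK : r ∈ K := K.mul_mem k.2 k'.2
  have hcomb : ∀ h : E, (pol q (k : E) h ∈ B ↔ pol q (k' : E) h ∈ B) → pol q r h ∈ B := by
    intro h hiff
    rw [hr, hq.pol_mul']
    by_cases hkB : pol q (k : E) h ∈ B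
    · exact B.mul_mem hkB (hiff.1 hkB)
    · exact hout hkB fun h' => hkB (hiff.2 h')
  have hrh1 := hcomb h1 heq.1
  have hrh2 := hcomb h2 heq.2
  have hrK' : ∀ l ∈ K, pol q r l ∈ B := fun l hl => hβ r hrK l hl
  have hrall : ∀ x : E, pol q r x ∈ B := by
    intro x
    have key : ∀ h : E, pol q e h = pol q e x → pol q r h ∈ B → pol q r x ∈ B := by
      intro h hh hB
      have hm : h * x ∈ K := MonoidHom.mem_ker.2 (by rw [polHom_apply, hq.pol_mul, hh, hq.expY])
      have := B.mul_mem hB (hrK' _ hm)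
      rwa [← hq.pol_mul, ← mul_assoc, hq.expE, one_mul] at this
    rcases hfour (pol q e x) with h | h | h | h
    · exact key 1 (by rw [hq.pol_one, h]) (by rw [hq.pol_one]; exact B.one_mem)
    · exact key h1 (by rw [hh1, h]) hrh1
    · exact key h2 (by rw [hh2, h]) hrh2
    · exact key (h1 * h2) (by rw [hq.pol_mul, hh1, hh2, h]) (by rw [hq.pol_mul]; exact B.mul_mem hrh1 hrh2)
  obtain ⟨x, hx⟩ := (hall r hr1).2 γ
  rcases hrall x with h | h
  · exact hγ1 (hx.symm.trans h)
  · exact hγ ((hx.symm.trans h).symm)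

include hq in
/-- The bound when there are only two values. -/
theorem card_le_of_two_values (hY : Nat.card Y ≤ 2)
    (h1 : ∀ x y : E, x ≠ 1 → y ≠ 1 → q x = 1 → q y = 1 → x = y) {n : ℕ} (hn : Nat.card E = 2 ^ n) : n ≤ 3 := by
  by_contra hn3
  have h16 : 16 ≤ Nat.card E := hn ▸ (show 2 ^ 4 ≤ 2 ^ n from Nat.pow_le_pow_right (by norm_num) (by omega))
  have hval : ∀ u v : Y, u ≠ 1 → v ≠ 1 → u = v := by
    intro u v hu hv
    by_contra huv
    have hinj : Function.Injective (![1, u, v] : Fin 3 → Y) := by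
      intro i j e
      fin_cases i <;> fin_cases j <;> simp_all [eq_comm]
    have := Nat.card_le_card_of_injective _ hinj
    simp at this
    omega
  haveI : Nontrivial E := Finite.one_lt_card_iff_nontrivial.1 (by omega)
  obtain ⟨z, hz1, hz⟩ : ∃ z : E, z ≠ 1 ∧ ∀ x, q x = 1 → x = 1 ∨ x = z := by
    by_cases h : ∃ z : E, z ≠ 1 ∧ q z = 1
    · obtain ⟨z, hz1, hz⟩ := h
      exact ⟨z, hz1, fun x hx => or_iff_not_imp_left.2 fun h' => h1 x z h' hz1 hx hz⟩
    · push Not at h
      obtain ⟨z, hz⟩ := exists_ne (1 : E)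
      exact ⟨z, hz, fun x hx => Or.inl (not_not.1 fun h' => h x h' hx)⟩
  obtain ⟨e, he1, hez⟩ : ∃ e : E, e ≠ 1 ∧ e ≠ z := by
    by_contra h
    push Not at h
    have : Nat.card E ≤ Nat.card Bool := Nat.card_le_card_of_surjective (fun b : Bool => if b then z else 1) fun x => by
      by_cases hx : x = 1
      · exact ⟨false, hx.symm⟩
      · exact ⟨true, (h x hx).symm⟩
    simp at this
    omega
  have hk : ∀ k ∈ (polHom hq e).ker, k = 1 ∨ k = e ∨ k = z ∨ k = z * e := by
    intro k hk
    have hek : pol q e k = 1 := hk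
    by_cases hqk : q k = 1
    · rcases hz k hqk with h | h
      · exact Or.inl h
      · exact Or.inr (Or.inr (Or.inl h))
    · have hqe : q e ≠ 1 := fun h => by
        rcases hz e h with h | h
        · exact he1 h
        · exact hez h
      have : q (k * e) = 1 := by rw [hq.q_mul, hval _ _ hqk hqe, hq.expY, one_mul, pol_comm, hek]
      rcases hz _ this with h | h
      · exact Or.inr (Or.inl (by rw [eq_inv_of_mul_eq_one_left h, inv_eq_of_mul_eq_one_right (hq.expE e)]))
      · exact Or.inr (Or.inr (Or.inr (by rw [← h, mul_assoc, hq.expE, mul_one])))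
  have h4 : Nat.card ↥(polHom hq e).ker ≤ 4 := by
    have h := (Set.ncard_le_ncard (s := ((polHom hq e).ker : Set E)) (t := ({1, e, z, z * e} : Set E))
      (fun k hk' => by simpa using hk k hk') (Set.toFinite _)).trans ((Set.ncard_insert_le _ _).trans
        (Nat.succ_le_succ ((Set.ncard_insert_le _ _).trans (Nat.succ_le_succ ((Set.ncard_insert_le _ _).trans
          (by rw [Set.ncard_singleton]))))))
    exact h
  have := card_le_ker_mul (polHom hq e)
  have : Nat.card ↥(polHom hq e).ker * Nat.card Y ≤ 4 * 2 := Nat.mul_le_mul h4 hY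
  omega

end Cfsg.Agent.Lie.AnisoMap
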