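import Cfsg.Agent.Lib.Lie.AnisotropicBound
import Cfsg.Agent.Lib.Char.Burnside

/-!
The stabilizer of such a quadratic map is solvable.
-/

set_option autoImplicit false

namespace Cfsg.Agent.Lie.AnisoMap

attribute [local instance] _root_.Classical.propDecidable

universe u v

variable {E : Type u} {Y : Type v} [CommGroup E] [CommGroup Y] [Finite E] [Finite Y] {q : E → Y}

/-- What is assumed of the zeros. -/
def FewZeros (q : E → Y) : Prop :=
  (∀ x, q x = 1 → x = 1) ∨ (Nat.card Y ≤ 2 ∧ ∀ x y : E, x ≠ 1 → y ≠ 1 → q x = 1 → q y = 1 → x = y)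

theorem FewZeros.unique (h : FewZeros q) (x y : E) (hx : x ≠ 1) (hy : y ≠ 1) (h1 : q x = 1) (h2 : q y = 1) :
    x = y := by
  rcases h with h | h
  · exact absurd (h x h1) hx
  · exact h.2 x y hx hy h1 h2

theorem exp_le (hq : IsQuad q) (hY : Nat.card Y ≤ 4) (h : FewZeros q) {n : ℕ} (hn : Nat.card E = 2 ^ n) : n ≤ 4 := by
  rcases h with h | h
  · exact card_le_of_aniso hq hY h hn
  · exact (card_le_of_two_values hq h.1 h.2 hn).trans (by norm_num)

theorem pow_fixed {α : MulAut E} {x : E} (h : α x = x) : ∀ n : ℕ, (α ^ n) x = x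
  | 0 => rfl
  | n + 1 => by rw [pow_succ, MulAut.mul_apply, h]; exact pow_fixed h n

theorem iter_inj {α : MulAut E} {r : ℕ} (hr : r.Prime) (ha : α ^ r = 1) {x : E} (hx : α x ≠ x) (i j : ℕ)
    (hi : i < r) (hj : j < r) (h : (α ^ i) x = (α ^ j) x) : i = j := by
  wlog hij : i ≤ j generalizing i j
  · exact (this j i hj hi h.symm (le_of_not_ge hij)).symm
  by_contra hne
  have hfix : (α ^ (j - i)) x = x := by
    refine (α ^ i).injective ?_
    rw [← MulAut.mul_apply, ← pow_add, show i + (j - i) = j by omega, h]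
  haveI : Finite (MulAut E) := Finite.of_injective (fun f : MulAut E => (f : E → E)) DFunLike.coe_injective
  have hco : (j - i).Coprime r :=
    ((Nat.Prime.coprime_iff_not_dvd hr).2 fun hd => by
      have := Nat.le_of_dvd (by omega) hd
      omega).symm
  obtain ⟨k, hk⟩ := Nat.exists_mul_mod_eq_one_of_coprime hco hr.one_lt
  refine hx ?_
  have e := pow_fixed hfix k
  rwa [← pow_mul, show α ^ ((j - i) * k) = α by rw [pow_eq_pow_mod _ ha, hk.2, pow_one]] at e

theorem sub_four : ∀ m : ℕ, m ≤ 4 → ∀ r : ℕ, r.Prime → r ≠ 2 → r ≠ 3 → m ≠ 0 → r ∣ 2 ^ m - 1 →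
    (r = 5 ∧ m = 4) ∨ (r = 7 ∧ m = 3) := by
  intro m hm r hr h2 h3 hm0 hd
  rcases (by omega : m = 1 ∨ m = 2 ∨ m = 3 ∨ m = 4) with rfl | rfl | rfl | rfl <;> norm_num at hd
  · exact absurd hd hr.ne_one
  · exact absurd ((Nat.prime_dvd_prime_iff_eq hr Nat.prime_three).1 hd) h3
  · exact Or.inr ⟨(Nat.prime_dvd_prime_iff_eq hr (by norm_num : Nat.Prime 7)).1 hd, rfl⟩
  · rcases hr.dvd_mul.1 (show r ∣ 3 * 5 from hd) with h | h
    · exact absurd ((Nat.prime_dvd_prime_iff_eq hr Nat.prime_three).1 h) h3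
    · exact Or.inl ⟨(Nat.prime_dvd_prime_iff_eq hr (by norm_num : Nat.Prime 5)).1 h, rfl⟩

/-- An element of prime order at least five. -/
theorem prime_cases (hq : IsQuad q) (hY : Nat.card Y ≤ 4) (h : FewZeros q) {α : MulAut E} {r : ℕ} (hr : r.Prime)
    (h2 : r ≠ 2) (h3 : r ≠ 3) (ha : orderOf α = r) (hα : ∀ x, q (α x) = q x) :
    r = 5 ∧ Nat.card E = 16 ∧ (∀ x, q x = 1 → x = 1) ∧ ∀ x, α x = x → x = 1 := by
  haveI : Fact r.Prime := ⟨hr⟩
  haveI : Fact (Nat.Prime 2) := ⟨Nat.prime_two⟩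
  have hE2 : IsPGroup 2 E := fun x => ⟨1, by rw [pow_one, pow_two, hq.expE]⟩
  obtain ⟨n, hn⟩ := IsPGroup.iff_card.1 hE2
  have hn4 := exp_le hq hY h hn
  have har : α ^ r = 1 := ha ▸ pow_orderOf_eq_one α
  have hinv : ∀ x : E, x⁻¹ = x := fun x => inv_eq_of_mul_eq_one_right (hq.expE x)
  let μ : E →* E := MonoidHom.mk' (fun x => x * α x) fun x y => by rw [map_mul]; exact mul_mul_mul_comm x y _ _
  have hker : ∀ x, x ∈ μ.ker ↔ α x = x := fun x => by
    rw [MonoidHom.mem_ker]
    show x * α x = 1 ↔ _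
    rw [mul_eq_one_iff_eq_inv', hinv]
  have hodd : Odd r := hr.odd_of_ne_two h2
  have hdisj : ∀ x : E, α (μ x) = μ x → μ x = 1 := by
    intro x hx
    have hiter : ∀ i : ℕ, (α ^ i) x = x * μ x ^ i := by
      intro i
      induction i with
      | zero => rw [pow_zero, pow_zero, mul_one]; rfl
      | succ i ih =>
        rw [pow_succ', MulAut.mul_apply, ih, map_mul, map_pow, hx, pow_succ']
        show α x * (x * α x) ^ i = x * (x * α x * (x * α x) ^ i)
        rw [← mul_assoc x, ← mul_assoc x x, hq.expE, one_mul]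
    have e := hiter r
    rw [har, MulAut.one_apply, left_eq_mul] at e
    have e2 : μ x ^ 2 = 1 := by rw [pow_two, hq.expE]
    have e3 : μ x ^ Nat.gcd 2 r = 1 := pow_gcd_eq_one.2 ⟨e2, e⟩
    rwa [(Nat.coprime_two_left.2 hodd).gcd_eq_one, pow_one] at e3
  haveI : Finite (MulAut E) := Finite.of_injective (fun f : MulAut E => (f : E → E)) DFunLike.coe_injective
  -- sizes
  have hcm : Nat.card E = Nat.card ↥μ.ker * Nat.card ↥μ.range := card_eq_ker_mul μ
  obtain ⟨k, hk⟩ := IsPGroup.iff_card.1 (hE2.to_subgroup μ.ker)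
  obtain ⟨m, hm⟩ := IsPGroup.iff_card.1 (hE2.to_subgroup μ.range)
  have hnm : n = k + m := by
    rw [hn, hk, hm, ← pow_add] at hcm
    exact Nat.pow_right_injective le_rfl hcm
  have hmne : m ≠ 0 := by
    rintro rfl
    have hbot : μ.range = ⊥ := Subgroup.card_eq_one.1 (by rw [hm, pow_zero])
    have : α = 1 := MulEquiv.ext fun x => by
      have hx : x ∈ μ.ker := MonoidHom.mem_ker.2 (Subgroup.mem_bot.1 (hbot ▸ ⟨x, rfl⟩))
      exact (hker x).1 hx
    rw [this, orderOf_one] at ha
    exact hr.ne_one ha.symm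
  have hmod : Nat.card E ≡ Nat.card ↥μ.ker [MOD r] := by
    have hH : IsPGroup r ↥(Subgroup.zpowers α) := IsPGroup.of_card (n := 1) (by rw [Nat.card_zpowers, ha, pow_one])
    have h := hH.card_modEq_card_fixedPoints E
    have hset : (MulAction.fixedPoints ↥(Subgroup.zpowers α) E : Set E) = {x | α x = x} := by
      ext x
      constructor
      · intro hx
        exact hx ⟨α, Subgroup.mem_zpowers α⟩
      · rintro hx ⟨g, hg⟩
        have hle : Subgroup.zpowers α ≤ MulAction.stabilizer (MulAut E) x := Subgroup.zpowers_le.2 hx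
        exact hle hg
    have hset' : (μ.ker : Set E) = {x | α x = x} := by ext x; exact hker x
    rw [hset] at h
    have : Nat.card ↥μ.ker = Nat.card ↥({x | α x = x} : Set E) := by rw [← hset']; rfl
    rw [this]
    exact h
  have hd : r ∣ 2 ^ m - 1 := by
    have h1 : r ∣ 2 ^ k * (2 ^ m - 1) := by
      rw [Nat.mul_sub, mul_one, ← pow_add]
      rw [hn, hk, hnm] at hmod
      exact (Nat.modEq_iff_dvd' (Nat.pow_le_pow_right two_pos (by omega))).1 hmod.symm
    exact ((Nat.coprime_primes hr Nat.prime_two).2 h2 |>.pow_right k).dvd_of_dvd_mul_left h1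
  rcases sub_four m (by omega) r hr h2 h3 hmne hd with ⟨rfl, rfl⟩ | ⟨rfl, rfl⟩
  · have hk0 : k = 0 := by omega
    refine ⟨rfl, by rw [hn, hnm, hk0]; norm_num, ?_, fun x hx => ?_⟩
    · rcases h with h | h
      · exact h
      · exact absurd (card_le_of_two_values hq h.1 h.2 hn) (by omega)
    · have : μ.ker = ⊥ := Subgroup.card_eq_one.1 (by rw [hk, hk0, pow_zero])
      exact Subgroup.mem_bot.1 (this ▸ (hker x).2 hx)
  · exfalso
    haveI : Nontrivial ↥μ.range := Finite.one_lt_card_iff_nontrivial.1 (by rw [hm]; norm_num)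
    obtain ⟨⟨x, w, rfl⟩, hx1⟩ := exists_ne (1 : ↥μ.range)
    have hx1' : μ w ≠ 1 := fun e => hx1 (Subtype.ext e)
    have hmov : α (μ w) ≠ μ w := fun e => hx1' (hdisj w e)
    have hinvM : ∀ y ∈ μ.range, α y ∈ μ.range := by
      rintro _ ⟨v, rfl⟩
      exact ⟨α v, (map_mul α v (α v)).symm⟩
    have hiterM : ∀ i : ℕ, (α ^ i) (μ w) ∈ μ.range := by
      intro i
      induction i with
      | zero => exact ⟨w, rfl⟩
      | succ i ih => rw [pow_succ', MulAut.mul_apply]; exact hinvM _ ih
    have hqi : ∀ i : ℕ, q ((α ^ i) (μ w)) = q (μ w) := by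
      intro i
      induction i with
      | zero => rfl
      | succ i ih => rw [pow_succ', MulAut.mul_apply, hα, ih]
    -- every element of the range
    have hall : ∀ y ∈ μ.range, y ≠ 1 → q y = q (μ w) := by
      intro y hy hy1
      by_contra hne
      let f : Option (Option (Fin 7)) → ↥μ.range := fun o =>
        match o with
        | none => 1
        | some none => ⟨y, hy⟩
        | some (some i) => ⟨_, hiterM i.val⟩
      have hf : Function.Injective f := by
        have hne1 : ∀ i : Fin 7, (α ^ i.val) (μ w) ≠ 1 := fun i e => hx1' ((α ^ i.val).injective (e.trans (map_one _).symm))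
        have hne2 : ∀ i : Fin 7, (α ^ i.val) (μ w) ≠ y := fun i e => hne (e ▸ hqi i.val)
        rintro (_ | _ | i) (_ | _ | j) e <;> simp only [f, Subtype.ext_iff, OneMemClass.coe_one] at e
        · rfl
        · exact absurd e.symm hy1
        · exact absurd e.symm (hne1 j)
        · exact absurd e hy1
        · rfl
        · exact absurd e.symm (hne2 j)
        · exact absurd e (hne1 i)
        · exact absurd e (hne2 i)
        · rw [Fin.ext (iter_inj hr har hmov _ _ i.isLt j.isLt e)]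
      have := Nat.card_le_card_of_injective f hf
      rw [hm] at this
      simp at this
    set x := μ w with hxdef
    set y := α x with hydef
    have hy : y ∈ μ.range := hinvM _ ⟨w, rfl⟩
    have hy1 : y ≠ 1 := fun e => hx1' (α.injective (e.trans (map_one α).symm))
    have hc : q x ≠ 1 := fun e => hmov (h.unique y x hy1 hx1' (by rw [hydef, hα, e]) e)
    obtain ⟨z, hz, hz1, hzx, hzy, hzxy⟩ : ∃ z ∈ μ.range, z ≠ 1 ∧ z ≠ x ∧ z ≠ y ∧ z ≠ x * y := by
      by_contra hcon
      push Not at hcon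
      have hsub : (μ.range : Set E) ⊆ ({1, x, y, x * y} : Set E) := by
        intro z hz
        by_cases h1 : z = 1
        · simp [h1]
        by_cases h2 : z = x
        · simp [h2]
        by_cases h3 : z = y
        · simp [h3]
        simp [hcon z hz h1 h2 h3]
      have := (Set.ncard_le_ncard hsub (Set.toFinite _)).trans ((Set.ncard_insert_le _ _).trans
        (Nat.succ_le_succ ((Set.ncard_insert_le _ _).trans (Nat.succ_le_succ ((Set.ncard_insert_le _ _).trans
          (by rw [Set.ncard_singleton]))))))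
      rw [← Nat.card_coe_set_eq] at this
      change Nat.card ↥μ.range ≤ _ at this
      rw [hm] at this
      norm_num at this
    have hx : x ∈ μ.range := ⟨w, rfl⟩
    have hp : ∀ a b : E, a ∈ μ.range → b ∈ μ.range → a ≠ 1 → b ≠ 1 → a ≠ b → pol q a b = q x := by
      intro a b ha hb ha1 hb1 hab
      have hab1 : a * b ≠ 1 := fun e => hab (by rw [eq_inv_of_mul_eq_one_left e, hinv])
      unfold pol
      rw [hall _ (μ.range.mul_mem ha hb) hab1, hall _ ha ha1, hall _ hb hb1, hq.expY, one_mul]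
    have e := hq.pol_mul x y z
    rw [hp x y hx hy hx1' hy1 (Ne.symm hmov), hp x z hx hz hx1' hz1 (Ne.symm hzx), hq.expY] at e
    refine hc ((hp x (y * z) hx (μ.range.mul_mem hy hz) hx1' (fun e' => hzy ?_) (fun e' => hzxy ?_)).symm.trans e)
    · rw [eq_inv_of_mul_eq_one_right e', hinv]
    · rw [e', mul_right_comm, hq.expE, one_mul]

def adjB (i j : Fin 5) : Bool := decide (j = i + 1 ∨ i = j + 1)

/-- the symmetries of a pentagon -/
def pentagon : Subgroup (Equiv.Perm (Fin 5)) where
  carrier := {σ | ∀ i j, adjB (σ i) (σ j) = adjB i j}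
  one_mem' := fun _ _ => rfl
  mul_mem' := fun {σ τ} hσ hτ i j => (hσ (τ i) (τ j)).trans (hτ i j)
  inv_mem' := fun {σ} hσ i j => by
    have := hσ (σ⁻¹ i) (σ⁻¹ j)
    rw [show σ (σ⁻¹ i) = i from σ.apply_symm_apply i, show σ (σ⁻¹ j) = j from σ.apply_symm_apply j] at this
    exact this.symm

theorem pentagon_card : Nat.card ↥pentagon = 10 := by
  have h : (Finset.univ.filter fun σ : Equiv.Perm (Fin 5) => ∀ i j, adjB (σ i) (σ j) = adjB i j).card = 10 := by
    decide +kernel
  rw [← h, ← Nat.card_eq_finsetCard]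
  exact Nat.card_congr (Equiv.subtypeEquivRight fun σ => by simp; rfl)

theorem pentagon_solvable : Group.IsSolvable ↥pentagon := by
  refine Cfsg.Agent.Char.isSolvable_of_two_primes Nat.prime_two (by norm_num : Nat.Prime 5) _ pentagon_card fun r hr hd => ?_
  rcases hr.dvd_mul.1 (show r ∣ 2 * 5 from hd) with h | h
  · exact Or.inl ((Nat.prime_dvd_prime_iff_eq hr Nat.prime_two).1 h)
  · exact Or.inr ((Nat.prime_dvd_prime_iff_eq hr (by norm_num : Nat.Prime 5)).1 h)

theorem pentagon_case (hq : IsQuad q) (hY : Nat.card Y ≤ 4) (h0 : ∀ x, q x = 1 → x = 1) (h16 : Nat.card E = 16)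
    (G : Subgroup (MulAut E)) (hG : ∀ g ∈ G, ∀ x, q (g x) = q x) {α : MulAut E} (hαG : α ∈ G)
    (hα5 : orderOf α = 5) (hfpf : ∀ x, α x = x → x = 1) : Group.IsSolvable ↥G := by
  have ha5 : α ^ 5 = 1 := hα5 ▸ pow_orderOf_eq_one α
  have hinv : ∀ x : E, x⁻¹ = x := fun x => inv_eq_of_mul_eq_one_right (hq.expE x)
  haveI : Nontrivial E := Finite.one_lt_card_iff_nontrivial.1 (by omega)
  obtain ⟨x₀, hx₀⟩ := exists_ne (1 : E)
  let x : Fin 5 → E := fun i => (α ^ i.val) x₀
  have hxs : ∀ i : Fin 5, α (x i) = x (i + 1) := by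
    intro i
    show α ((α ^ i.val) x₀) = _
    rw [← MulAut.mul_apply, ← pow_succ']
    show (α ^ (i.val + 1)) x₀ = (α ^ (i + 1 : Fin 5).val) x₀
    rw [pow_eq_pow_mod (i.val + 1) ha5, Fin.val_add]
    rfl
  have hqα : ∀ y, q (α y) = q y := hG α hαG
  have hpα : ∀ y z, pol q (α y) (α z) = pol q y z := fun y z => by
    unfold pol; rw [← map_mul, hqα, hqα, hqα]
  set a := q x₀ with hadef
  have ha1 : a ≠ 1 := fun e => hx₀ (h0 _ e)
  have hprod : x 0 * x 1 * x 2 * x 3 * x 4 = 1 := hfpf _ (by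
    rw [map_mul, map_mul, map_mul, map_mul, hxs, hxs, hxs, hxs, hxs]
    show x 1 * x 2 * x 3 * x 4 * x 0 = _
    simp only [mul_comm, mul_left_comm])
  set β1 := pol q (x 0) (x 1) with hβ1
  set β2 := pol q (x 0) (x 2) with hβ2
  have hp01 : ∀ i : Fin 5, pol q (x i) (x (i + 1)) = β1 := by
    have hs : ∀ i : Fin 5, pol q (x (i + 1)) (x (i + 1 + 1)) = pol q (x i) (x (i + 1)) := fun i =>
      (congrArg₂ (pol q) (hxs i).symm (hxs (i + 1)).symm).trans (hpα _ _)
    intro i
    fin_cases i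
    · rfl
    · exact hs 0
    · exact (hs 1).trans (hs 0)
    · exact (hs 2).trans ((hs 1).trans (hs 0))
    · exact (hs 3).trans ((hs 2).trans ((hs 1).trans (hs 0)))
  have hp02 : ∀ i : Fin 5, pol q (x i) (x (i + 2)) = β2 := by
    have hs : ∀ i : Fin 5, pol q (x (i + 1)) (x (i + 1 + 2)) = pol q (x i) (x (i + 2)) := fun i =>
      (congrArg₂ (pol q) (hxs i).symm ((congrArg x (add_right_comm i 1 2)).trans (hxs (i + 2)).symm)).trans (hpα _ _)
    intro i
    fin_cases i
    · rfl
    · exact hs 0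
    · exact (hs 1).trans (hs 0)
    · exact (hs 2).trans ((hs 1).trans (hs 0))
    · exact (hs 3).trans ((hs 2).trans ((hs 1).trans (hs 0)))
  have hqx : ∀ i : Fin 5, q (x i) = a := by
    have hs : ∀ i : Fin 5, q (x (i + 1)) = q (x i) := fun i => by rw [← hxs i, hqα]
    intro i
    fin_cases i
    · rfl
    · exact hs 0
    · exact (hs 1).trans (hs 0)
    · exact (hs 2).trans ((hs 1).trans (hs 0))
    · exact (hs 3).trans ((hs 2).trans ((hs 1).trans (hs 0)))
  have hq1 : ∀ i : Fin 5, q (x i * x (i + 1)) = β1 := fun i => by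
    rw [hq.q_mul, hqx, hqx, hq.expY, one_mul, hp01]
  have hq2 : ∀ i : Fin 5, q (x i * x (i + 2)) = β2 := fun i => by
    rw [hq.q_mul, hqx, hqx, hq.expY, one_mul, hp02]
  have hx4 : x 4 = x 0 * x 1 * (x 2 * x 3) := by
    rw [← mul_assoc, eq_inv_of_mul_eq_one_right hprod, hinv]
  have hab : a = β1 * β2 := by
    have e := hqx 4
    rw [hx4, hq.q_mul, show x 2 * x 3 = x 2 * x (2 + 1) from rfl, show x 0 * x 1 = x 0 * x (0 + 1) from rfl, hq1, hq1,
      hq.expY, one_mul, hq.pol_mul, hq.pol_mul', hq.pol_mul', show pol q (x 0) (x 2) = β2 from rfl,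
      show pol q (x (0 + 1)) (x 2) = β1 from hp01 1, show pol q (x (0 + 1)) (x (2 + 1)) = β2 from hp02 1,
      show pol q (x 0) (x (2 + 1)) = β2 from (pol_comm _ _).trans (hp02 3), hq.expY, mul_one] at e
    rw [← e, mul_comm]
  have hxinj : Function.Injective x := fun i j e => Fin.ext (iter_inj (by norm_num) ha5
    (fun e' => hx₀ (hfpf x₀ e')) _ _ i.isLt j.isLt e)
  have hb1 : β1 ≠ 1 := fun e => by
    have h1 := h0 _ ((hq1 0).trans e)
    rw [eq_inv_of_mul_eq_one_left h1, hinv] at h1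
    exact absurd (hxinj (by rw [eq_inv_of_mul_eq_one_left (h0 _ ((hq1 0).trans e)), hinv] : x 0 = x (0 + 1))) (by decide)
  have hb2 : β2 ≠ 1 := fun e =>
    absurd (hxinj (by rw [eq_inv_of_mul_eq_one_left (h0 _ ((hq2 0).trans e)), hinv] : x 0 = x (0 + 2))) (by decide)
  have hab1 : a ≠ β1 := fun e => hb2 (by rw [e] at hab; exact left_eq_mul.1 hab)
  have hab2 : a ≠ β2 := fun e => hb1 (by rw [e] at hab; exact right_eq_mul.1 hab)
  have hb12 : β1 ≠ β2 := fun e => ha1 (by rw [hab, e, hq.expY])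
  -- the fifteen elements
  let F : Fin 3 × Fin 5 → E := fun p => ![x p.2, x p.2 * x (p.2 + 1), x p.2 * x (p.2 + 2)] p.1
  have hqF : ∀ p, q (F p) = ![a, β1, β2] p.1 := by
    rintro ⟨c, i⟩
    fin_cases c
    · exact hqx i
    · exact hq1 i
    · exact hq2 i
  have hval : ∀ c c' : Fin 3, ![a, β1, β2] c = ![a, β1, β2] c' → c = c' := by
    intro c c' e
    fin_cases c <;> fin_cases c' <;> first | rfl | (exfalso; simp at e; first
      | exact hab1 e | exact hab1 e.symm | exact hab2 e | exact hab2 e.symm | exact hb12 e | exact hb12 e.symm)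
  have hFs : ∀ c i, α (F (c, i)) = F (c, i + 1) := by
    intro c i
    fin_cases c
    · exact hxs i
    · show α (x i * x (i + 1)) = x (i + 1) * x (i + 1 + 1)
      rw [map_mul, hxs, hxs]
    · show α (x i * x (i + 2)) = x (i + 1) * x (i + 1 + 2)
      rw [map_mul, hxs, hxs, add_right_comm i 2 1]
  have hFn : ∀ p, F p ≠ 1 := by
    intro p e
    have := hqF p
    rw [e, hq.one] at this
    obtain ⟨c, i⟩ := p
    fin_cases c
    · exact ha1 this.symm
    · exact hb1 this.symm
    · exact hb2 this.symm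
  have hFi : ∀ c i, F (c, i) = (α ^ i.val) (F (c, 0)) := by
    intro c i
    fin_cases i
    · rfl
    · show F (c, 1) = (α ^ 1) _
      rw [pow_one, hFs]; rfl
    · show F (c, 2) = (α ^ 2) _
      rw [pow_two, MulAut.mul_apply, hFs, hFs]; rfl
    · show F (c, 3) = (α ^ 3) _
      rw [pow_succ', pow_two, MulAut.mul_apply, MulAut.mul_apply, hFs, hFs, hFs]; rfl
    · show F (c, 4) = (α ^ 4) _
      rw [pow_succ', pow_succ', pow_two, MulAut.mul_apply, MulAut.mul_apply, MulAut.mul_apply, hFs, hFs, hFs, hFs]; rfl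
  have hFinj : Function.Injective F := by
    rintro ⟨c, i⟩ ⟨c', j⟩ e
    have hc : c = c' := hval c c' (by rw [← hqF (c, i), e, hqF])
    subst hc
    rw [hFi c i, hFi c j] at e
    exact Prod.ext rfl (Fin.ext (iter_inj (by norm_num) ha5 (fun e' => hFn (c, 0) (hfpf _ e')) _ _ i.isLt j.isLt e))
  have hall : ∀ y : E, y ≠ 1 → ∃ p, F p = y := by
    intro y hy
    by_contra hne
    push Not at hne
    let f : Option (Option (Fin 3 × Fin 5)) → E := fun o =>
      match o with
      | none => 1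
      | some none => y
      | some (some p) => F p
    have hf : Function.Injective f := by
      rintro (_ | _ | i) (_ | _ | j) e <;> simp only [f] at e
      · rfl
      · exact absurd e.symm hy
      · exact absurd e.symm (hFn j)
      · exact absurd e hy
      · rfl
      · exact absurd e.symm (hne j)
      · exact absurd e (hFn i)
      · exact absurd e (hne i)
      · rw [hFinj e]
    have := Nat.card_le_card_of_injective f hf
    rw [h16] at this
    simp at this
  have hT : ∀ y, q y = a → ∃ i, x i = y := by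
    intro y hy
    have hy1 : y ≠ 1 := fun e => ha1 (by rw [← hy, e, hq.one])
    obtain ⟨⟨c, i⟩, rfl⟩ := hall y hy1
    rw [hqF] at hy
    have := hval c 0 hy
    subst this
    exact ⟨i, rfl⟩
  choose σ hσ using fun (g : ↥G) (i : Fin 5) => hT (g.1 (x i)) (by rw [hG g.1 g.2, hqx])
  have hσmul : ∀ (g g' : ↥G) i, σ (g * g') i = σ g (σ g' i) := fun g g' i => hxinj (by
    rw [hσ, hσ, hσ]; rfl)
  have hσone : ∀ i, σ 1 i = i := fun i => hxinj (hσ 1 i)
  let θ : ↥G →* Equiv.Perm (Fin 5) :=
    { toFun := fun g => ⟨σ g, σ g⁻¹, fun i => by rw [← hσmul, inv_mul_cancel, hσone],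
        fun i => by rw [← hσmul, mul_inv_cancel, hσone]⟩
      map_one' := Equiv.ext hσone
      map_mul' := fun g g' => Equiv.ext (hσmul g g') }
  have hadj : ∀ i j : Fin 5, adjB i j = decide (q (x i * x j) = β1) := by
    intro i j
    have hcases : j = i ∨ j = i + 1 ∨ i = j + 1 ∨ j = i + 2 ∨ i = j + 2 := by
      revert i j; decide
    rcases hcases with h | h | h | h | h
    · subst h
      rw [hq.expE, hq.one, decide_eq_false (fun e => hb1 e.symm)]
      revert j; decide
    · subst h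
      rw [hq1, decide_eq_true rfl]
      simp [adjB]
    · subst h
      rw [mul_comm, hq1, decide_eq_true rfl]
      simp [adjB]
    · subst h
      rw [hq2, decide_eq_false (Ne.symm hb12)]
      revert i; decide
    · subst h
      rw [mul_comm, hq2, decide_eq_false (Ne.symm hb12)]
      revert j; decide
  have hθ : ∀ g, θ g ∈ pentagon := by
    intro g i j
    show adjB (σ g i) (σ g j) = adjB i j
    rw [hadj, hadj, hσ, hσ, ← map_mul, hG g.1 g.2]
  haveI := pentagon_solvable
  refine solvable_of_solvable_injective (f := θ.codRestrict pentagon hθ) fun g g' e => ?_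
  have e' : ∀ i, g.1 (x i) = g'.1 (x i) := fun i => by
    rw [← hσ g i, ← hσ g' i, show σ g i = σ g' i from congrArg (fun t : ↥pentagon => t.1 i) e]
  refine Subtype.ext (MulEquiv.ext fun y => ?_)
  by_cases hy : y = 1
  · rw [hy, map_one, map_one]
  obtain ⟨⟨c, i⟩, rfl⟩ := hall y hy
  fin_cases c
  · exact e' i
  · show g.1 (x i * x (i + 1)) = g'.1 (x i * x (i + 1))
    rw [map_mul, map_mul, e', e']
  · show g.1 (x i * x (i + 2)) = g'.1 (x i * x (i + 2))
    rw [map_mul, map_mul, e', e']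

/-- A group of automorphisms preserving the map is solvable. -/
theorem solvable (hq : IsQuad q) (hY : Nat.card Y ≤ 4) (h : FewZeros q)
    (G : Subgroup (MulAut E)) (hG : ∀ g ∈ G, ∀ x, q (g x) = q x) : Group.IsSolvable ↥G := by
  haveI : Finite (MulAut E) := Finite.of_injective (fun f : MulAut E => (f : E → E)) DFunLike.coe_injective
  by_cases h5 : ∀ r : ℕ, r.Prime → r ∣ Nat.card ↥G → r = 2 ∨ r = 3
  · exact Cfsg.Agent.Char.isSolvable_of_two_primes Nat.prime_two Nat.prime_three _ rfl h5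
  push Not at h5
  obtain ⟨r, hr, hd, h2, h3⟩ := h5
  haveI : Fact r.Prime := ⟨hr⟩
  obtain ⟨g, hg⟩ := exists_prime_orderOf_dvd_card' r hd
  have ho : orderOf (g : MulAut E) = r := by rw [Subgroup.orderOf_coe, hg]
  obtain ⟨rfl, h16, h0, hfpf⟩ := prime_cases hq hY h hr h2 h3 ho (hG g.1 g.2)
  exact pentagon_case hq hY h0 h16 G hG g.2 ho hfpf

end Cfsg.Agent.Lie.AnisoMap
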