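import Cfsg.Agent.Lib.Lie.Unipotent

/-!
The diagonal subgroup.
-/

set_option autoImplicit false

namespace Cfsg.Agent.Lie

open Cfsg.Lie Matrix
open scoped MatrixGroups

variable {D : ChevalleyDatum} {F : Type*} [Field F]

namespace Facts

variable (hF : Facts D)

include hF in
theorem psi_refl {i s : ℕ} (hi : i < D.rank) (hs : s < D.nroots) :
    hF.psi (D.reflectRoot i s) = hF.psi s - D.cartan i s * hF.psi (D.simple i) := by
  simp only [psi, psiOf, Finset.mul_sum, ← Finset.sum_sub_distrib]
  refine Finset.sum_congr rfl fun j hj => ?_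
  rw [hF.cartan_refl i hi s hs j (Finset.mem_range.1 hj)]
  ring

include hF in
theorem co_nonneg {r : ℕ} (hr : r < D.nroots) (hr' : D.nroots / 2 ≤ r) (j : ℕ) : 0 ≤ co D r j := by
  by_cases hj : j < (D.coroot.getD r #[]).toList.length
  · rw [co]
    have h := (hF.pos_iff r hr).2 hr' _ (List.getElem_mem hj)
    generalize D.coroot.getD r #[] = A at hj h ⊢
    rw [Array.getD, dif_pos (by simpa using hj)]
    simpa using h
  · rw [co]
    generalize D.coroot.getD r #[] = A at hj ⊢
    rw [Array.getD, dif_neg (by simpa using hj)]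

include hF in
/-- Every positive root is lowered by some fundamental reflection. -/
theorem exists_refl_lt {r : ℕ} (hr : r < D.nroots) (hr' : D.nroots / 2 ≤ r) :
    ∃ i, i < D.rank ∧ D.reflectRoot i r < r := by
  by_contra hc
  simp only [not_exists, not_and, not_lt] at hc
  have hA : ∀ j, j < D.rank → D.cartan j r ≤ 0 := by
    intro j hj
    by_contra hA
    have h1 := hF.psi_refl hj hr
    have h2 := hF.psi_pos (hF.simple_lt j hj) (hF.simple_ge j hj)
    have h3 : hF.psi (D.reflectRoot j r) < hF.psi r := by nlinarith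
    exact absurd (hF.lt_of_psi_lt (hF.refl_lt j hj r hr) h3) (not_lt.2 (hc j hj))
  have h2 := hF.pairing_self r hr
  have h0 : D.pairing r r ≤ 0 := by
    rw [pairing_eq]
    exact Finset.sum_nonpos fun j hj =>
      mul_nonpos_of_nonneg_of_nonpos (hF.co_nonneg hr hr' j) (hA j (Finset.mem_range.1 hj))
  omega

include hF in
/-- Induction from the fundamental roots. -/
theorem simple_induction (P : ℕ → Prop) (hsimple : ∀ i, i < D.rank → P (D.simple i))
    (hstep : ∀ i, i < D.rank → ∀ r, r < D.nroots → P r → P (D.reflectRoot i r)) :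
    ∀ r, r < D.nroots → P r := by
  have hpos : ∀ r, r < D.nroots → D.nroots / 2 ≤ r → P r := by
    intro r
    induction r using Nat.strong_induction_on with
    | _ r ih =>
      intro hr hr'
      obtain ⟨i, hi, hlt⟩ := hF.exists_refl_lt hr hr'
      by_cases hp : r = D.simple i
      · exact hp ▸ hsimple i hi
      · have hlow := hF.refl_lt i hi r hr
        have := hstep i hi _ hlow (ih _ hlt hlow (hF.refl_pos i hi r hr hr' hp))
        rwa [hF.refl_refl i hi r hr] at this
  intro r hr
  by_cases hr' : D.nroots / 2 ≤ r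
  · exact hpos r hr hr'
  · have hn : ∀ q, q < D.nroots → P q → P (D.neg q) → ∀ i, i < D.rank →
        P (D.reflectRoot i q) ∧ P (D.neg (D.reflectRoot i q)) := fun q hq h1 h2 i hi =>
      ⟨hstep i hi q hq h1, hF.refl_neg i hi q hq ▸ hstep i hi _ (hF.neg_lt hq) h2⟩
    have hall : ∀ q, q < D.nroots → D.nroots / 2 ≤ q → P (D.neg q) := by
      intro q
      induction q using Nat.strong_induction_on with
      | _ q ih =>
        intro hq hq'
        obtain ⟨i, hi, hlt⟩ := hF.exists_refl_lt hq hq'
        by_cases hp : q = D.simple i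
        · subst hp
          rw [← refl_simple (D := D) i]
          exact hstep i hi _ (hF.simple_lt i hi) (hsimple i hi)
        · have hlow := hF.refl_lt i hi q hq
          have hlp := hF.refl_pos i hi q hq hq' hp
          have := (hn _ hlow (hpos _ hlow hlp) (ih _ hlt hlow hlp) i hi).2
          rwa [hF.refl_refl i hi q hq] at this
    rw [← hF.neg_neg hr]
    exact hall _ (hF.neg_lt hr) ((hF.neg_ge_iff hr).2 (by omega))

include hF in
theorem pairing_simple {j s : ℕ} (hj : j < D.rank) : D.pairing (D.simple j) s = D.cartan j s := by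
  rw [pairing_eq, Finset.sum_eq_single j]
  · rw [hF.co_simple j hj j hj, if_pos rfl, one_mul]
  · intro b hb hne
    rw [hF.co_simple j hj b (Finset.mem_range.1 hb), if_neg hne, zero_mul]
  · intro h; exact absurd (Finset.mem_range.2 hj) h

include hF in
/-- The pairing is invariant under the fundamental reflections. -/
theorem pairing_refl {i r s : ℕ} (hi : i < D.rank) (hr : r < D.nroots) (hs : s < D.nroots) :
    D.pairing (D.reflectRoot i r) (D.reflectRoot i s) = D.pairing r s := by
  rw [pairing_eq, pairing_eq]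
  have h : ∀ j ∈ Finset.range D.rank,
      co D (D.reflectRoot i r) j * D.cartan j (D.reflectRoot i s) =
        co D r j * D.cartan j s - D.cartan i s * (co D r j * D.cartan j (D.simple i)) -
          (if j = i then D.pairing r (D.simple i) * D.cartan i (D.reflectRoot i s) else 0) := by
    intro j hj
    rw [hF.co_refl i hi r hr j (Finset.mem_range.1 hj)]
    split_ifs with h
    · subst h
      rw [sub_mul, hF.cartan_refl j hi s hs j hi]
      ring
    · rw [sub_zero, hF.cartan_refl i hi s hs j (Finset.mem_range.1 hj)]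
      ring
  rw [Finset.sum_congr rfl h, Finset.sum_sub_distrib, Finset.sum_sub_distrib, ← Finset.mul_sum,
    ← pairing_eq, ← pairing_eq, Finset.sum_ite_eq', if_pos (Finset.mem_range.2 hi),
    hF.cartan_refl_self hi hs]
  ring

include hF in
theorem nMat_mul_diagM (i : ℕ) (hi : i < D.rank) (χ : ℕ → F) :
    D.nMat F (D.simple i) 1 * diagM D χ =
      diagM D (fun s => χ (D.reflectRoot i s)) * D.nMat F (D.simple i) 1 := by
  refine mat_ext_eI (fun j hj => ?_) fun s hs => ?_
  · rw [← mulVec_mulVec, ← mulVec_mulVec, diagM_mulVec_eH _ j hj,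
      nMat_mulVec_eH hF i hi 1 one_ne_zero j hj, mulVec_sub, mulVec_smul, diagM_mulVec_eH _ j hj,
      diagM_mulVec_eH _ i hi]
  · rw [← mulVec_mulVec, ← mulVec_mulVec, diagM_mulVec_eR, mulVec_smul,
      hF.nMat_mulVec_one_eR i hi s hs, mulVec_smul, diagM_mulVec_eR, hF.refl_refl i hi s hs,
      smul_smul, smul_smul, mul_comm]

theorem diagM_mul (χ χ' : ℕ → F) : diagM D χ * diagM D χ' = diagM D fun s => χ s * χ' s := by
  rw [diagM, diagM, diagM, Matrix.diagonal_mul_diagonal]
  congr 1
  funext p
  cases p <;> simp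

theorem diagM_congr {χ χ' : ℕ → F} (h : ∀ s, s < D.nroots → χ s = χ' s) :
    diagM D χ = diagM D χ' := by
  unfold diagM
  congr 1
  funext p
  cases p with
  | inl i => rfl
  | inr s => exact h s s.isLt

theorem diagM_one : diagM D (fun _ => (1 : F)) = 1 := by
  rw [diagM, ← Matrix.diagonal_one]
  congr 1
  funext p
  cases p <;> rfl

/-- n_i n_r(t) n_i⁻¹ = n_{w_i r}(η t). -/
theorem ng_conj_ng {i r : ℕ} (hi : i < D.rank) (hr : r < D.nroots) (t : F) :
    hF.ng (D.simple i) 1 * hF.ng r t * (hF.ng (D.simple i) 1)⁻¹ =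
      hF.ng (D.reflectRoot i r) (hF.sgn F i r * t) := by
  have h2 : hF.sgn F i (D.neg r) = hF.sgn F i r := by simp [sgn, hF.eta_neg i hi r hr]
  have hinv : (hF.sgn F i r * t)⁻¹ = hF.sgn F i r * t⁻¹ := by
    rw [_root_.mul_inv_rev, mul_comm]
    congr 1
    exact inv_eq_of_mul_eq_one_left (hF.sgn_mul_self hi hr)
  rw [hF.ng_eq r t, hF.ng_eq (D.reflectRoot i r), hinv, ← mul_neg, ← hF.refl_neg i hi r hr,
    ← hF.ng_conj i hi r hr t]
  conv_rhs => arg 1; arg 2; rw [← h2, ← hF.ng_conj i hi _ (hF.neg_lt hr) (-t⁻¹)]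
  group

/-- h_r(c) is diagonal. -/
theorem hMat_eq : ∀ r, r < D.nroots → ∀ c : F, c ≠ 0 →
    (hF.hg r c : Matrix D.Idx D.Idx F) = diagM D fun s => c ^ D.pairing r s := by
  refine hF.simple_induction _ (fun i hi c hc => ?_) (fun i hi r hr ih c hc => ?_)
  · rw [coe_hg, hF.hMat_simple i hi c hc]
    exact diagM_congr fun s _ => by rw [hF.pairing_simple hi]
  · have hsg := hF.sgn_mul_self (F := F) hi hr
    have hne : hF.sgn F i r ≠ 0 := left_ne_zero_of_mul_eq_one hsg
    have hA := ih _ (mul_ne_zero hne hc)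
    have hB := ih _ hne
    have key : hF.hg (D.reflectRoot i r) c * (hF.ng (D.simple i) 1) =
        hF.ng (D.simple i) 1 * (hF.hg r (hF.sgn F i r * c) * (hF.hg r (hF.sgn F i r))⁻¹) := by
      rw [← eq_mul_inv_iff_mul_eq]
      have e : hF.hg r (hF.sgn F i r * c) * (hF.hg r (hF.sgn F i r))⁻¹ =
          hF.ng r (hF.sgn F i r * c) * hF.ng r (-hF.sgn F i r) := by
        rw [hF.hg_eq, hF.hg_eq, _root_.mul_inv_rev, hF.ng_neg r 1, inv_inv, hF.ng_neg r (hF.sgn F i r)]
        group
      rw [e, hF.hg_eq]
      have e1 := hF.ng_conj_ng hi hr (hF.sgn F i r * c)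
      have e2 := hF.ng_conj_ng hi hr (-hF.sgn F i r)
      rw [← mul_assoc, hsg, one_mul] at e1
      rw [mul_neg, hsg] at e2
      rw [← e1, ← e2]
      group
    have hBinv : ((hF.hg r (hF.sgn F i r))⁻¹ : GL D.Idx F).val =
        diagM D fun s => (hF.sgn F i r ^ D.pairing r s)⁻¹ := by
      refine Units.inv_eq_of_mul_eq_one_right ?_
      rw [hB, diagM_mul, ← diagM_one]
      exact diagM_congr fun s _ => mul_inv_cancel₀ (_root_.zpow_ne_zero _ hne)
    have hk := congrArg Units.val key
    rw [Units.val_mul, Units.val_mul, Units.val_mul, hA, hBinv, diagM_mul, coe_ng,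
      hF.nMat_mul_diagM i hi] at hk
    have hn : ∀ M N : Matrix D.Idx D.Idx F,
        M * D.nMat F (D.simple i) 1 = N * D.nMat F (D.simple i) 1 → M = N := by
      intro M N h
      have := congrArg (· * D.nMat F (D.simple i) (-1)) h
      simpa only [Matrix.mul_assoc, hF.nMat_mul_neg (F := F) i hi 1 one_ne_zero, Matrix.mul_one] using this
    rw [hn _ _ hk]
    refine diagM_congr fun s hs => ?_
    rw [mul_zpow_inv_cancel_aux hne c (D.pairing r (D.reflectRoot i s)),
      ← hF.pairing_refl hi hr (hF.refl_lt i hi s hs), hF.refl_refl i hi s hs]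
where
  mul_zpow_inv_cancel_aux {e : F} (he : e ≠ 0) (c : F) (m : ℤ) :
      (e * c) ^ m * (e ^ m)⁻¹ = c ^ m := by
    rw [_root_.mul_zpow, mul_right_comm, mul_inv_cancel₀ (_root_.zpow_ne_zero _ he), one_mul]

end Facts

/-- The character ∏ c_i^{A_{i,s}} -/
def torChar (D : ChevalleyDatum) {F : Type*} [Field F] (c : Fin D.rank → Fˣ) (s : ℕ) : Fˣ :=
  ∏ i, c i ^ D.cartan i.val s

/-- The torus homomorphism. -/
noncomputable def torus (D : ChevalleyDatum) (F : Type*) [Field F] : (Fin D.rank → Fˣ) →* GL D.Idx F where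
  toFun c := Units.map (Matrix.diagonalRingHom D.Idx F).toMonoidHom
    (MulEquiv.piUnits.symm (Sum.elim (fun _ => 1) fun s => torChar D c s.val))
  map_one' := by
    ext1
    rw [Units.val_one, ← Matrix.diagonal_one, Units.coe_map]
    show Matrix.diagonal _ = _
    congr 1
    funext p
    cases p <;> simp [torChar]
  map_mul' c d := by
    rw [← map_mul]
    congr 1
    rw [← map_mul]
    congr 1
    funext p
    cases p with
    | inl i => simp
    | inr s => simp [torChar, _root_.mul_zpow, Finset.prod_mul_distrib]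

theorem coe_torus (c : Fin D.rank → Fˣ) :
    (torus D F c : Matrix D.Idx D.Idx F) = diagM D fun s => (torChar D c s : F) := by
  show Matrix.diagonal _ = Matrix.diagonal _
  congr 1
  funext p
  cases p <;> rfl

namespace Facts

variable (hF : Facts D)

include hF in
theorem isChar_torChar (c : Fin D.rank → Fˣ) : IsChar (D := D) fun s => (torChar D c s : F) := by
  refine ⟨fun s hs => ?_, fun s hs v _ q hq => ?_⟩
  · rw [← Units.val_mul, torChar, torChar, ← Finset.prod_mul_distrib]
    rw [Finset.prod_eq_one fun i _ => ?_, Units.val_one]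
    rw [← _root_.zpow_add, hF.cartan_neg i i.isLt s hs, neg_add_cancel, zpow_zero]
  · show (torChar D c q.1.1 : F) = (torChar D c v : F) * (torChar D c s : F) ^ (q.2 + 1)
    rw [← Units.val_pow_eq_pow_val, ← Units.val_mul]
    congr 1
    rw [torChar, torChar, torChar, ← Finset.prod_pow, ← Finset.prod_mul_distrib]
    refine Finset.prod_congr rfl fun i _ => ?_
    rw [hF.chain_cartan s hs v q hq i i.isLt, _root_.zpow_add, ← zpow_natCast (c i ^ D.cartan i.val s),
      ← _root_.zpow_mul, mul_comm (D.cartan i.val s)]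

theorem torus_conj (c : Fin D.rank → Fˣ) {s : ℕ} (hs : s < D.nroots) (t : F) :
    torus D F c * hF.xg s t * (torus D F c)⁻¹ = hF.xg s ((torChar D c s : F) * t) := by
  rw [mul_inv_eq_iff_eq_mul]
  ext1
  rw [Units.val_mul, Units.val_mul, coe_torus, coe_xg, coe_xg,
    hF.diag_x (hF.isChar_torChar c) s hs t]

/-- h_r(u) in torus coordinates. -/
def hCoord {F : Type*} [Field F] (D : ChevalleyDatum) (r : ℕ) (u : Fˣ) : Fin D.rank → Fˣ :=
  fun i => u ^ co D r i.val

theorem torChar_hCoord (r s : ℕ) (u : Fˣ) : torChar D (hCoord D r u) s = u ^ D.pairing r s := by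
  rw [torChar, pairing_eq, Finset.sum_range]
  have : ∀ S : Finset (Fin D.rank),
      ∏ i ∈ S, hCoord D r u i ^ D.cartan i.val s = u ^ ∑ i ∈ S, co D r i.val * D.cartan i.val s := by
    intro S
    induction S using Finset.induction_on with
    | empty => simp
    | insert a S ha ih => rw [Finset.prod_insert ha, Finset.sum_insert ha, ih, _root_.zpow_add, hCoord, _root_.zpow_mul]
  exact this _

theorem hg_eq_torus {r : ℕ} (hr : r < D.nroots) (u : Fˣ) :
    hF.hg r (u : F) = torus D F (hCoord D r u) := by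
  ext1
  rw [coe_torus, hF.hMat_eq r hr (u : F) u.ne_zero]
  exact diagM_congr fun s _ => by rw [torChar_hCoord, Units.val_zpow_eq_zpow_val]

/-- The torus element with one nontrivial coordinate. -/
theorem torus_single (i : Fin D.rank) (u : Fˣ) :
    torus D F (Pi.mulSingle i u) = hF.hg (D.simple i) (u : F) := by
  rw [hF.hg_eq_torus (hF.simple_lt i i.isLt)]
  congr 1
  funext j
  rw [hCoord, hF.co_simple i i.isLt j j.isLt, Pi.mulSingle_apply]
  by_cases h : j = i
  · simp [h]
  · rw [if_neg h, if_neg (fun h' => h (Fin.ext h')), zpow_zero]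

include hF in
theorem diagonalSubgroup_eq (F : Type*) [Field F] : D.diagonalSubgroup F = (torus D F).range := by
  apply le_antisymm
  · apply (Subgroup.closure_le _).2
    rintro g ⟨r, t, hr, ht, hg⟩
    refine ⟨hCoord D r (Units.mk0 t ht), ?_⟩
    rw [← hF.hg_eq_torus hr]
    ext1
    rw [hg, coe_hg, Units.val_mk0]
  · rintro g ⟨c, rfl⟩
    suffices h : c ∈ (D.diagonalSubgroup F).comap (torus D F) from h
    rw [← Finset.univ_prod_mulSingle c]
    refine Subgroup.prod_mem _ fun i _ => Subgroup.subset_closure ?_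
    exact ⟨D.simple i, c i, hF.simple_lt i i.isLt, (c i).ne_zero, by rw [hF.torus_single, coe_hg]⟩

end Facts

end Cfsg.Agent.Lie
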