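import Cfsg.Agent.Lib.Lie.Coxeter
import Cfsg.Agent.Lib.Lie.Diagonal

/-!
The Weyl group of a datum as a group of permutations of the roots, with its Coxeter presentation.
-/

set_option autoImplicit false

namespace Cfsg.Agent.Lie

open Cfsg.Lie

/-- Apply the i-th reflection to a weight vector. -/
def reflW (col : List ℤ) (i : ℕ) (x : List ℤ) : List ℤ :=
  (fun a : ℤ => List.zipWith (fun xk ck => xk - a * ck) x col) (x.getD i 0)

/-- Weight vector of a root. -/
def wList (D : ChevalleyDatum) (s : ℕ) : List ℤ := (List.range D.rank).map fun k => D.cartan k s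

/-- One letter acting on a weight vector. -/
def actW (D : ChevalleyDatum) (i : ℕ) (x : List ℤ) : List ℤ := reflW (wList D (D.simple i)) i x

/-- A word acting on a weight vector, last letter first. -/
def actWord (D : ChevalleyDatum) (ω : List ℕ) (x : List ℤ) : List ℤ := ω.foldr (actW D) x

/-- (i j)^r as a word. -/
def altPow (i j : ℕ) : ℕ → List ℕ
  | 0 => []
  | r + 1 => i :: j :: altPow i j r

namespace Facts

variable {D : ChevalleyDatum} (hF : Facts D)

include hF in
theorem wList_refl {i s : ℕ} (hi : i < D.rank) (hs : s < D.nroots) :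
    wList D (D.reflectRoot i s) = actW D i (wList D s) := by
  refine List.ext_getElem (by simp [wList, actW, reflW]) fun k h1 h2 => ?_
  have hk : k < D.rank := by simpa [wList] using h1
  simp [wList, actW, reflW, hF.cartan_refl i hi s hs k hk, List.getElem?_eq_getElem, hi]

include hF in
theorem wList_inj {r s : ℕ} (hr : r < D.nroots) (hs : s < D.nroots) (h : wList D r = wList D s) :
    r = s := by
  refine hF.psi_inj hr hs fun j hj => ?_
  exact List.map_inj_left.1 h j (List.mem_range.2 hj)

/-- The reflection in the i-th fundamental root as a permutation of the roots. -/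
def sPerm (i : Fin D.rank) : Equiv.Perm (Fin D.nroots) :=
  Function.Involutive.toPerm (fun s => ⟨D.reflectRoot i.val s.val, hF.refl_lt i i.isLt s s.isLt⟩)
    fun s => Fin.ext (hF.refl_refl i i.isLt s s.isLt)

theorem sPerm_val (i : Fin D.rank) (s : Fin D.nroots) :
    (hF.sPerm i s : ℕ) = D.reflectRoot i.val s.val := rfl

/-- The Weyl group. -/
def weyl : Subgroup (Equiv.Perm (Fin D.nroots)) := Subgroup.closure (Set.range hF.sPerm)

/-- A generator. -/
def wS (i : Fin D.rank) : hF.weyl := ⟨hF.sPerm i, Subgroup.subset_closure ⟨i, rfl⟩⟩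

theorem wS_smul (i : Fin D.rank) (s : Fin D.nroots) :
    ((hF.wS i • s : Fin D.nroots) : ℕ) = D.reflectRoot i.val s.val := rfl

theorem wS_sq (i : Fin D.rank) : hF.wS i * hF.wS i = 1 :=
  Subtype.ext (Equiv.ext fun s => Fin.ext (hF.refl_refl i i.isLt s s.isLt))

theorem wS_gen : Subgroup.closure (Set.range hF.wS) = ⊤ := by
  have h := Subgroup.closure_closure_coe_preimage (k := Set.range hF.sPerm)
  refine Eq.trans ?_ h
  congr 1
  ext x
  constructor
  · rintro ⟨i, rfl⟩; exact ⟨i, rfl⟩
  · rintro ⟨i, hi⟩; exact ⟨i, Subtype.ext hi⟩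

theorem weyl_induction {P : hF.weyl → Prop} (one : P 1)
    (step : ∀ i w, P w → P (hF.wS i * w)) (w : hF.weyl) : P w := by
  have hw : w ∈ Subgroup.closure (Set.range hF.wS) := hF.wS_gen ▸ Subgroup.mem_top w
  suffices h : ∀ v, P v → P (w * v) by simpa using h 1 one
  induction hw using Subgroup.closure_induction with
  | mem x hx =>
    obtain ⟨i, rfl⟩ := hx
    exact fun v hv => step i v hv
  | one => simp
  | mul a b _ _ ha hb => exact fun v hv => by rw [mul_assoc]; exact ha _ (hb v hv)
  | inv a ha' ha =>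
    intro v hv
    have hfin : IsOfFinOrder a := isOfFinOrder_of_finite a
    have hinv : a⁻¹ = a ^ (orderOf a - 1) := by
      rw [inv_eq_iff_mul_eq_one, ← pow_succ', Nat.sub_add_cancel hfin.orderOf_pos, pow_orderOf_eq_one]
    rw [hinv]
    generalize orderOf a - 1 = m
    induction m generalizing v with
    | zero => simpa using hv
    | succ m ih => rw [pow_succ, mul_assoc]; exact ih _ (ha v hv)

theorem weyl_pairing (w : hF.weyl) : ∀ r s : Fin D.nroots,
    D.pairing (w • r : Fin D.nroots).val (w • s : Fin D.nroots).val = D.pairing r.val s.val := by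
  induction w using hF.weyl_induction with
  | one => simp
  | step i w ih =>
    intro r s
    rw [mul_smul, mul_smul, wS_smul, wS_smul, hF.pairing_refl i.isLt (Fin.isLt _) (Fin.isLt _), ih]

theorem weyl_linear (w : hF.weyl) : ∀ (x y z : Fin D.nroots) (a : ℤ),
    (∀ k, k < D.rank → D.cartan k x.val = D.cartan k y.val - a * D.cartan k z.val) →
    ∀ k, k < D.rank → D.cartan k (w • x : Fin D.nroots).val =
      D.cartan k (w • y : Fin D.nroots).val - a * D.cartan k (w • z : Fin D.nroots).val := by
  induction w using hF.weyl_induction with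
  | one => simp
  | step i w ih =>
    intro x y z a h k hk
    simp only [mul_smul, wS_smul]
    rw [hF.cartan_refl i i.isLt _ (Fin.isLt _) k hk, hF.cartan_refl i i.isLt _ (Fin.isLt _) k hk,
      hF.cartan_refl i i.isLt _ (Fin.isLt _) k hk, ih x y z a h k hk, ih x y z a h i i.isLt]
    ring

theorem weyl_conj (w : hF.weyl) (i j : Fin D.rank)
    (h : w • (⟨D.simple j.val, hF.simple_lt j j.isLt⟩ : Fin D.nroots) =
      ⟨D.simple i.val, hF.simple_lt i i.isLt⟩) :
    w * hF.wS j * w⁻¹ = hF.wS i := by
  refine Subtype.ext (Equiv.ext fun x => ?_)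
  show (w * hF.wS j * w⁻¹) • x = hF.wS i • x
  rw [mul_smul, mul_smul]
  refine Fin.ext (hF.psi_inj (Fin.isLt _) (Fin.isLt _) fun k hk => ?_)
  have hlin := hF.weyl_linear w (hF.wS j • w⁻¹ • x) (w⁻¹ • x) ⟨D.simple j.val, hF.simple_lt j j.isLt⟩
    (D.cartan j.val (w⁻¹ • x : Fin D.nroots).val)
    (fun k hk => by rw [wS_smul, hF.cartan_refl j j.isLt _ (Fin.isLt _) k hk]) k hk
  rw [hlin, smul_inv_smul, h, wS_smul, hF.cartan_refl i i.isLt _ x.isLt k hk]
  have hp := hF.weyl_pairing w ⟨D.simple j.val, hF.simple_lt j j.isLt⟩ (w⁻¹ • x)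
  rw [h, smul_inv_smul] at hp
  simp only [hF.pairing_simple i.isLt, hF.pairing_simple j.isLt] at hp
  rw [hp]

/-- The root system as a reflection system. -/
def refSys : RefSystem (Fin D.rank) hF.weyl (Fin D.nroots) where
  s := hF.wS
  P := Finset.univ.filter fun x => D.nroots / 2 ≤ x.val
  α i := ⟨D.simple i.val, hF.simple_lt i i.isLt⟩
  neg x := ⟨D.neg x.val, hF.neg_lt x.isLt⟩
  sq := hF.wS_sq
  gen := hF.wS_gen
  α_mem i := by simpa using hF.simple_ge i i.isLt
  neg_mem x := by simpa using hF.neg_ge_iff x.isLt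
  neg_neg x := Fin.ext (hF.neg_neg x.isLt)
  s_neg i x := Fin.ext (hF.refl_neg i i.isLt x x.isLt)
  s_α i := Fin.ext (refl_simple (D := D) i.val)
  perm i x hx hne := by
    simp only [Finset.mem_filter, Finset.mem_univ, true_and] at hx ⊢
    exact hF.refl_pos i i.isLt x x.isLt hx fun h => hne (Fin.ext h)
  conj := hF.weyl_conj

/-- Weight vector after a word. -/
theorem wList_pr (ω : List (Fin D.rank)) (x : Fin D.nroots) :
    wList D (hF.refSys.pr ω • x : Fin D.nroots).val = actWord D (ω.map Fin.val) (wList D x.val) := by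
  induction ω with
  | nil => simp [actWord]
  | cons i ω ih =>
    rw [RefSystem.pr_cons, mul_smul]
    show wList D (hF.wS i • _ : Fin D.nroots).val = _
    rw [wS_smul, hF.wList_refl i.isLt (Fin.isLt _), ih]
    rfl

end Facts

/-- Check that the Coxeter matrix is the matrix of orders of products of two reflections. -/
def okOrders (D : ChevalleyDatum) (M : ℕ → ℕ → ℕ) : Bool :=
  (List.range D.rank).all fun i => (List.range D.rank).all fun j =>
    decide (1 ≤ M i j) &&
    (List.range D.rank).all (fun m =>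
      actWord D (altPow i j (M i j)) (wList D (D.simple m)) == wList D (D.simple m)) &&
    (List.range (M i j)).all fun r => r == 0 ||
      (List.range D.rank).any fun m =>
        !(actWord D (altPow i j r) (wList D (D.simple m)) == wList D (D.simple m))

namespace Facts

variable {D : ChevalleyDatum} (hF : Facts D)

theorem eq_one_of_fix_simple (w : hF.weyl)
    (h : ∀ m : Fin D.rank, w • (hF.refSys.α m) = hF.refSys.α m) : w = 1 := by
  refine Subtype.ext (Equiv.ext fun x => ?_)
  show w • x = x
  have key : ∀ r, r < D.nroots → ∀ hr : r < D.nroots, w • (⟨r, hr⟩ : Fin D.nroots) = ⟨r, hr⟩ := by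
    refine hF.simple_induction _ (fun i hi _ => h ⟨i, hi⟩) (fun i hi r hr ih hr' => ?_)
    refine Fin.ext (hF.psi_inj (Fin.isLt _) hr' fun k hk => ?_)
    rw [hF.weyl_linear w ⟨_, hr'⟩ ⟨r, hr⟩ (hF.refSys.α ⟨i, hi⟩) (D.cartan i r)
      (fun k hk => hF.cartan_refl i hi r hr k hk) k hk, ih hr, h ⟨i, hi⟩]
    exact (hF.cartan_refl i hi r hr k hk).symm
  exact key x x.isLt x.isLt

theorem pr_altPow (i j : Fin D.rank) (r : ℕ) :
    ∃ ω : List (Fin D.rank), ω.map Fin.val = altPow i.val j.val r ∧
      hF.refSys.pr ω = (hF.wS i * hF.wS j) ^ r := by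
  induction r with
  | zero => exact ⟨[], rfl, rfl⟩
  | succ r ih =>
    obtain ⟨ω, h1, h2⟩ := ih
    refine ⟨i :: j :: ω, by simp [altPow, h1], ?_⟩
    rw [RefSystem.pr_cons, RefSystem.pr_cons, h2, pow_succ', mul_assoc]
    rfl

theorem orders_of_check (M : CoxeterMatrix (Fin D.rank)) (M' : ℕ → ℕ → ℕ)
    (hM' : ∀ i j : Fin D.rank, M i j = M' i.val j.val) (h : okOrders D M' = true) :
    (∀ i j, (hF.refSys.s i * hF.refSys.s j) ^ M i j = 1) ∧
      ∀ i j (r : ℕ), (hF.refSys.s i * hF.refSys.s j) ^ r = 1 → M i j ∣ r := by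
  simp only [okOrders, List.all_eq_true, List.mem_range, Bool.and_eq_true, decide_eq_true_eq,
    beq_iff_eq, Bool.or_eq_true, List.any_eq_true, Bool.not_eq_true'] at h
  have key : ∀ i j : Fin D.rank, ∀ r, ((hF.wS i * hF.wS j) ^ r = 1 ↔ ∀ m, m < D.rank →
      actWord D (altPow i.val j.val r) (wList D (D.simple m)) = wList D (D.simple m)) := by
    intro i j r
    obtain ⟨ω, h1, h2⟩ := hF.pr_altPow i j r
    rw [← h2, ← h1]
    constructor
    · intro he m hm
      rw [← hF.wList_pr ω ⟨D.simple m, hF.simple_lt m hm⟩, he, one_smul]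
    · intro hall
      refine hF.eq_one_of_fix_simple _ fun m => ?_
      refine Fin.ext (hF.wList_inj (Fin.isLt _) (Fin.isLt _) ?_)
      rw [hF.wList_pr ω]
      exact hall m.val m.isLt
  refine ⟨fun i j => ?_, fun i j r hr => ?_⟩
  · rw [hM']
    exact (key i j _).2 fun m hm => (h i i.isLt j j.isLt).1.2 m hm
  · rw [hM', Nat.dvd_iff_mod_eq_zero]
    by_contra hne
    have h1 := (h i i.isLt j j.isLt)
    have hpos : 0 < M' i.val j.val := h1.1.1
    rcases h1.2 _ (Nat.mod_lt r hpos) with h0 | ⟨m, hm, hmne⟩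
    · exact hne h0
    · have hfull : (hF.wS i * hF.wS j) ^ M' i.val j.val = 1 :=
        (key i j _).2 fun m hm => h1.1.2 m hm
      have : (hF.wS i * hF.wS j) ^ (r % M' i.val j.val) = 1 := by
        rw [← hr]
        conv_rhs => rw [← Nat.mod_add_div r (M' i.val j.val), pow_add, pow_mul]
        show _ = (hF.wS i * hF.wS j) ^ _ * ((hF.wS i * hF.wS j) ^ M' i.val j.val) ^ _
        rw [hfull, one_pow, mul_one]
      have := (key i j _).1 this m hm
      simp [this] at hmne

end Facts

end Cfsg.Agent.Lie
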