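import Cfsg.Agent.Lib.Lie.RootSys
import Cfsg.Agent.Lib.Lie.Weyl

/-!
The subgroups H, N, B and the double coset decomposition in a group with Chevalley relations.
-/

set_option autoImplicit false

namespace Cfsg.Agent.Lie

open Cfsg.Lie

/-- A root system in a group whose torus elements act on root elements by scalars. -/
structure TorusSys {D : ChevalleyDatum} (hF : Facts D) (F : Type*) [Field F] (Γ : Type*) [Group Γ]
    extends RootSys hF F Γ where
  h_conj : ∀ i, i < D.rank → ∀ c : F, c ≠ 0 → ∀ s, s < D.nroots → ∀ t,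
    (nElt D x (D.simple i) c * nElt D x (D.simple i) (-1)) * x s t *
        (nElt D x (D.simple i) c * nElt D x (D.simple i) (-1))⁻¹ =
      x s (c ^ D.cartan i s * t)

namespace TorusSys

variable {D : ChevalleyDatum} {hF : Facts D} {F : Type*} [Field F] {Γ : Type*} [Group Γ]
  (S : TorusSys hF F Γ)

/-- n_r(t) -/
def n (r : ℕ) (t : F) : Γ := nElt D S.x r t

/-- h_r(t) -/
def h (r : ℕ) (t : F) : Γ := S.n r t * S.n r (-1)

/-- n_i -/
def nS (i : Fin D.rank) : Γ := S.n (D.simple i.val) 1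

theorem n_neg (r : ℕ) (t : F) : S.n r (-t) = (S.n r t)⁻¹ := by
  simp only [n, nElt, mul_inv_rev, ← S.toCommSys.x_neg, inv_neg, neg_neg, mul_assoc]

theorem h_one (r : ℕ) : S.h r 1 = 1 := by rw [h, n_neg, mul_inv_cancel]

theorem n_eq_h_mul (r : ℕ) (t : F) : S.n r t = S.h r t * S.n r 1 := by
  rw [h, n_neg, inv_mul_cancel_right]

theorem n_mul_n (r : ℕ) (a b : F) : S.n r a * S.n r (-b) = S.h r a * (S.h r b)⁻¹ := by
  rw [S.n_eq_h_mul r a, n_neg, S.n_eq_h_mul r b, mul_inv_rev]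
  group

theorem nS_sq (i : Fin D.rank) : S.nS i * S.nS i = (S.h (D.simple i.val) (-1))⁻¹ := by
  rw [nS, h, n_neg, mul_inv_rev, inv_inv]

theorem nS_conj (i : Fin D.rank) {s : ℕ} (hs : s < D.nroots) (t : F) :
    S.nS i * S.x s t * (S.nS i)⁻¹ = S.x (D.reflectRoot i.val s) (hF.sgn F i.val s * t) :=
  S.n_conj i.val i.isLt s hs t

theorem nS_conj_inv (i : Fin D.rank) {s : ℕ} (hs : s < D.nroots) (t : F) :
    (S.nS i)⁻¹ * S.x s t * S.nS i =
      S.x (D.reflectRoot i.val s) (hF.sgn F i.val (D.reflectRoot i.val s) * t) := by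
  have h1 := S.nS_conj i (hF.refl_lt i.val i.isLt s hs)
    (hF.sgn F i.val (D.reflectRoot i.val s) * t)
  rw [hF.refl_refl i.val i.isLt s hs, ← mul_assoc (hF.sgn F i.val _),
    hF.sgn_mul_self i.isLt (hF.refl_lt i.val i.isLt s hs), one_mul] at h1
  rw [← h1]
  group

theorem nS_conj_n (i : Fin D.rank) {r : ℕ} (hr : r < D.nroots) (t : F) :
    S.nS i * S.n r t * (S.nS i)⁻¹ = S.n (D.reflectRoot i.val r) (hF.sgn F i.val r * t) := by
  have h2 : hF.sgn F i.val (D.neg r) = hF.sgn F i.val r := by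
    simp [Facts.sgn, hF.eta_neg i.val i.isLt r hr]
  have hinv : (hF.sgn F i.val r * t)⁻¹ = hF.sgn F i.val r * t⁻¹ := by
    rw [mul_inv_rev, mul_comm]
    congr 1
    exact inv_eq_of_mul_eq_one_left (hF.sgn_mul_self i.isLt hr)
  simp only [n, nElt]
  rw [hinv, ← mul_neg, ← hF.refl_neg i.val i.isLt r hr, ← S.nS_conj i hr t]
  conv_rhs => arg 1; arg 2; rw [← h2, ← S.nS_conj i (hF.neg_lt hr) (-t⁻¹)]
  group

theorem nS_conj_h (i : Fin D.rank) {r : ℕ} (hr : r < D.nroots) (t : F) :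
    S.nS i * S.h r t * (S.nS i)⁻¹ =
      S.h (D.reflectRoot i.val r) (hF.sgn F i.val r * t) *
        (S.h (D.reflectRoot i.val r) (hF.sgn F i.val r))⁻¹ := by
  have e : ∀ p q : Γ, S.nS i * (p * q) * (S.nS i)⁻¹ =
      S.nS i * p * (S.nS i)⁻¹ * (S.nS i * q * (S.nS i)⁻¹) := fun p q => by group
  rw [← n_mul_n, h, e, S.nS_conj_n i hr, S.nS_conj_n i hr, mul_neg, mul_one]

theorem h_x (r : ℕ) (hr : r < D.nroots) : ∀ c : F, c ≠ 0 → ∀ s, s < D.nroots → ∃ d : F,
    ∀ t, S.h r c * S.x s t * (S.h r c)⁻¹ = S.x s (d * t) := by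
  revert r
  refine hF.simple_induction _ (fun i hi c hc s hs => ⟨_, S.h_conj i hi c hc s hs⟩)
    (fun i hi r hr ih c hc s hs => ?_)
  have hsg := hF.sgn_mul_self (F := F) hi hr
  have hne : hF.sgn F i r ≠ 0 := left_ne_zero_of_mul_eq_one hsg
  have hcd : S.h (D.reflectRoot i r) c =
      S.nS ⟨i, hi⟩ * (S.h r (hF.sgn F i r * c) * (S.h r (hF.sgn F i r))⁻¹) * (S.nS ⟨i, hi⟩)⁻¹ := by
    rw [← n_mul_n]
    have e : S.nS ⟨i, hi⟩ * (S.n r (hF.sgn F i r * c) * S.n r (-hF.sgn F i r)) * (S.nS ⟨i, hi⟩)⁻¹ =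
        (S.nS ⟨i, hi⟩ * S.n r (hF.sgn F i r * c) * (S.nS ⟨i, hi⟩)⁻¹) *
          (S.nS ⟨i, hi⟩ * S.n r (-hF.sgn F i r) * (S.nS ⟨i, hi⟩)⁻¹) := by group
    rw [e, S.nS_conj_n ⟨i, hi⟩ hr, S.nS_conj_n ⟨i, hi⟩ hr, ← mul_assoc, hsg, one_mul, mul_neg, hsg]
    rfl
  have hs' := hF.refl_lt i hi s hs
  obtain ⟨d1, h1⟩ := ih _ (mul_ne_zero hne hc) (D.reflectRoot i s) hs'
  obtain ⟨d2, h2⟩ := ih _ hne (D.reflectRoot i s) hs'
  have hback : ∀ u, S.nS ⟨i, hi⟩ * S.x (D.reflectRoot i s) u * (S.nS ⟨i, hi⟩)⁻¹ =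
      S.x s (hF.sgn F i (D.reflectRoot i s) * u) := fun u => by
    rw [S.nS_conj ⟨i, hi⟩ hs' u, hF.refl_refl i hi s hs]
  have hd2 : S.x (D.reflectRoot i s) 1 = S.x (D.reflectRoot i s) 1 := rfl
  refine ⟨hF.sgn F i (D.reflectRoot i s) * (d1 * (d2⁻¹ * hF.sgn F i (D.reflectRoot i s))), fun t => ?_⟩
  set g := S.nS ⟨i, hi⟩ with hg
  set a := S.h r (hF.sgn F i r * c) with ha
  set b := S.h r (hF.sgn F i r) with hb
  have hx : g⁻¹ * S.x s t * g = S.x (D.reflectRoot i s) (hF.sgn F i (D.reflectRoot i s) * t) := by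
    rw [hg, S.nS_conj_inv ⟨i, hi⟩ hs t]
  have hbi : ∀ u, b⁻¹ * S.x (D.reflectRoot i s) u * b = S.x (D.reflectRoot i s) (d2⁻¹ * u) := by
    intro u
    by_cases hd : d2 = 0
    · have hz : ∀ v, S.x (D.reflectRoot i s) v = 1 := fun v => by
        have := h2 v
        rw [hd, zero_mul, S.toRootSys.x_zero, mul_inv_eq_one] at this
        exact mul_left_cancel (this.trans (mul_one _).symm)
      rw [hz, hz]; group
    · have := h2 (d2⁻¹ * u)
      rw [← mul_assoc d2, mul_inv_cancel₀ hd, one_mul] at this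
      rw [← this]
      group
  calc S.h (D.reflectRoot i r) c * S.x s t * (S.h (D.reflectRoot i r) c)⁻¹
      = g * (a * (b⁻¹ * (g⁻¹ * S.x s t * g) * b) * a⁻¹) * g⁻¹ := by rw [hcd]; group
    _ = _ := by
      rw [hx, hbi, h1, hback]
      congr 1
      ring

/-- The group generated by all root elements. -/
def G : Subgroup Γ := Subgroup.closure {g | ∃ r t, S.x r t = g}

/-- The subgroup H. -/
def H : Subgroup Γ := Subgroup.closure {g | ∃ r t, r < D.nroots ∧ t ≠ 0 ∧ S.h r t = g}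

theorem h_mem {r : ℕ} (hr : r < D.nroots) {t : F} (ht : t ≠ 0) : S.h r t ∈ S.H :=
  Subgroup.subset_closure ⟨r, t, hr, ht, rfl⟩

theorem nS_H (i : Fin D.rank) {g : Γ} (hg : g ∈ S.H) : S.nS i * g * (S.nS i)⁻¹ ∈ S.H := by
  induction hg using Subgroup.closure_induction with
  | mem g hg =>
    obtain ⟨r, t, hr, ht, rfl⟩ := hg
    have hne : hF.sgn F i.val r ≠ 0 := left_ne_zero_of_mul_eq_one (hF.sgn_mul_self i.isLt hr)
    rw [S.nS_conj_h i hr t]
    exact mul_mem (S.h_mem (hF.refl_lt i.val i.isLt r hr) (mul_ne_zero hne ht))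
      (inv_mem (S.h_mem (hF.refl_lt i.val i.isLt r hr) hne))
  | one => simp
  | mul a b _ _ ha hb =>
    rw [show S.nS i * (a * b) * (S.nS i)⁻¹ =
      S.nS i * a * (S.nS i)⁻¹ * (S.nS i * b * (S.nS i)⁻¹) by group]
    exact mul_mem ha hb
  | inv a _ ha =>
    rw [show S.nS i * a⁻¹ * (S.nS i)⁻¹ = (S.nS i * a * (S.nS i)⁻¹)⁻¹ by group]
    exact inv_mem ha

theorem nS_sq_mem (i : Fin D.rank) : S.nS i * S.nS i ∈ S.H := by
  rw [nS_sq]
  exact inv_mem (S.h_mem (hF.simple_lt i.val i.isLt) (neg_ne_zero.2 one_ne_zero))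

theorem nS_H' (i : Fin D.rank) {g : Γ} (hg : g ∈ S.H) : (S.nS i)⁻¹ * g * S.nS i ∈ S.H := by
  have h2 := S.nS_sq_mem i
  have := S.nS_H i (mul_mem (mul_mem (inv_mem h2) hg) h2)
  have e : S.nS i * ((S.nS i * S.nS i)⁻¹ * g * (S.nS i * S.nS i)) * (S.nS i)⁻¹ =
      (S.nS i)⁻¹ * g * S.nS i := by group
  rwa [e] at this

/-- Product of the n_i along a word. -/
def nw (ω : List (Fin D.rank)) : Γ := (ω.map S.nS).prod

theorem nw_nil : S.nw [] = 1 := rfl

theorem nw_cons (i : Fin D.rank) (ω : List (Fin D.rank)) : S.nw (i :: ω) = S.nS i * S.nw ω := by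
  simp [nw]

theorem nw_append (ω ω' : List (Fin D.rank)) : S.nw (ω ++ ω') = S.nw ω * S.nw ω' := by simp [nw]

theorem nw_singleton (i : Fin D.rank) : S.nw [i] = S.nS i := by simp [nw]

theorem nw_H (ω : List (Fin D.rank)) {g : Γ} (hg : g ∈ S.H) : S.nw ω * g * (S.nw ω)⁻¹ ∈ S.H := by
  induction ω with
  | nil => simpa [nw]
  | cons i ω ih =>
    rw [nw_cons, show S.nS i * S.nw ω * g * (S.nS i * S.nw ω)⁻¹ =
      S.nS i * (S.nw ω * g * (S.nw ω)⁻¹) * (S.nS i)⁻¹ by group]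
    exact S.nS_H i ih

theorem nw_H' (ω : List (Fin D.rank)) {g : Γ} (hg : g ∈ S.H) : (S.nw ω)⁻¹ * g * S.nw ω ∈ S.H := by
  induction ω generalizing g with
  | nil => simpa [nw]
  | cons i ω ih =>
    rw [nw_cons, show (S.nS i * S.nw ω)⁻¹ * g * (S.nS i * S.nw ω) =
      (S.nw ω)⁻¹ * ((S.nS i)⁻¹ * g * S.nS i) * S.nw ω by group]
    exact ih (S.nS_H' i hg)

theorem nw_conj (ω : List (Fin D.rank)) (s : Fin D.nroots) : ∃ e : F, e * e = 1 ∧ ∀ t,
    S.nw ω * S.x s.val t * (S.nw ω)⁻¹ = S.x (hF.refSys.pr ω • s : Fin D.nroots).val (e * t) := by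
  induction ω with
  | nil => exact ⟨1, one_mul 1, fun t => by simp [nw]⟩
  | cons i ω ih =>
    obtain ⟨e, he, heq⟩ := ih
    refine ⟨hF.sgn F i.val (hF.refSys.pr ω • s : Fin D.nroots).val * e, ?_, fun t => ?_⟩
    · rw [mul_mul_mul_comm, hF.sgn_mul_self i.isLt (Fin.isLt _), he, one_mul]
    · rw [nw_cons, RefSystem.pr_cons, mul_smul, show hF.refSys.s i = hF.wS i from rfl, hF.wS_smul,
        show S.nS i * S.nw ω * S.x s.val t * (S.nS i * S.nw ω)⁻¹ =
          S.nS i * (S.nw ω * S.x s.val t * (S.nw ω)⁻¹) * (S.nS i)⁻¹ by group, heq,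
        S.nS_conj i (Fin.isLt _), mul_assoc]

theorem nw_conj_n {ω : List (Fin D.rank)} {i j : Fin D.rank}
    (hroot : hF.refSys.pr ω • hF.refSys.α j = hF.refSys.α i) :
    ∃ g ∈ S.H, S.nw ω * S.nS j * (S.nw ω)⁻¹ = g * S.nS i := by
  obtain ⟨e, he, heq⟩ := S.nw_conj ω (hF.refSys.α j)
  obtain ⟨e', he', heq'⟩ := S.nw_conj ω (hF.refSys.neg (hF.refSys.α j))
  have key : ∀ (q : List (Fin D.rank)) (r : ℕ) (hr : r < D.nroots), ∃ c : F, c ≠ 0 ∧
      S.nw q * S.n r 1 * (S.nw q)⁻¹ = S.n (hF.refSys.pr q • (⟨r, hr⟩ : Fin D.nroots)).val c := by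
    intro q r hr
    induction q with
    | nil => exact ⟨1, one_ne_zero, by simp [nw]⟩
    | cons k q ih =>
      obtain ⟨c, hc, hceq⟩ := ih
      refine ⟨hF.sgn F k.val (hF.refSys.pr q • (⟨r, hr⟩ : Fin D.nroots)).val * c,
        mul_ne_zero (left_ne_zero_of_mul_eq_one (hF.sgn_mul_self k.isLt (Fin.isLt _))) hc, ?_⟩
      rw [nw_cons, RefSystem.pr_cons, mul_smul, show hF.refSys.s k = hF.wS k from rfl, hF.wS_smul,
        show S.nS k * S.nw q * S.n r 1 * (S.nS k * S.nw q)⁻¹ =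
          S.nS k * (S.nw q * S.n r 1 * (S.nw q)⁻¹) * (S.nS k)⁻¹ by group, hceq,
        S.nS_conj_n k (Fin.isLt _)]
  obtain ⟨c, hc, hceq⟩ := key ω (D.simple j.val) (hF.simple_lt j.val j.isLt)
  refine ⟨S.h (D.simple i.val) c, S.h_mem (hF.simple_lt i.val i.isLt) hc, ?_⟩
  rw [nS, hceq, show (⟨D.simple j.val, hF.simple_lt j.val j.isLt⟩ : Fin D.nroots) = hF.refSys.α j
    from rfl, hroot]
  exact S.n_eq_h_mul _ _

theorem nw_eq_one_mem : ∀ ω : List (Fin D.rank), hF.refSys.pr ω = 1 → S.nw ω ∈ S.H := by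
  intro ω
  induction hn : ω.length using Nat.strong_induction_on generalizing ω with
  | _ n ih =>
    subst hn
    intro hω
    rcases Nat.eq_zero_or_pos ω.length with h0 | hpos
    · rw [List.eq_nil_of_length_eq_zero h0]; exact one_mem _
    obtain ⟨A, i, Mid, j, C, rfl, hroot⟩ := hF.refSys.deletion'
      (ω := ω) (by rw [hω, RefSystem.len_one]; exact hpos)
    rw [hF.refSys.pr_shorten hroot] at hω
    have hrest := ih _ (by simp) (A ++ (Mid ++ C)) rfl hω
    obtain ⟨g, hg, hgeq⟩ := S.nw_conj_n hroot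
    have hmid : S.nw Mid * S.nS j = g * S.nS i * S.nw Mid := by rw [← hgeq]; group
    have e : S.nw (A ++ i :: (Mid ++ j :: C)) =
        (S.nw A * (S.nS i * g * (S.nS i)⁻¹ * (S.nS i * S.nS i)) * (S.nw A)⁻¹) *
          S.nw (A ++ (Mid ++ C)) := by
      simp only [nw_append, nw_cons]
      rw [← mul_assoc (S.nw Mid) (S.nS j), hmid]
      group
    rw [e]
    exact mul_mem (S.nw_H A (mul_mem (S.nS_H i hg) (S.nS_sq_mem i))) hrest

/-- A chosen reduced word. -/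
noncomputable def word (w : hF.weyl) : List (Fin D.rank) := Classical.choose (hF.refSys.exists_reduced w)

theorem pr_word (w : hF.weyl) : hF.refSys.pr (word w) = w :=
  (Classical.choose_spec (hF.refSys.exists_reduced w)).1

theorem length_word (w : hF.weyl) : (word w).length = hF.refSys.len w :=
  (Classical.choose_spec (hF.refSys.exists_reduced w)).2

/-- The chosen representative of w. -/
noncomputable def nW (w : hF.weyl) : Γ := S.nw (word w)

theorem nS_inv (i : Fin D.rank) : ∃ g ∈ S.H, (S.nS i)⁻¹ = g * S.nS i :=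
  ⟨(S.nS i * S.nS i)⁻¹, inv_mem (S.nS_sq_mem i), by group⟩

theorem nw_inv (ω : List (Fin D.rank)) : ∃ g ∈ S.H, (S.nw ω)⁻¹ = g * S.nw ω.reverse := by
  induction ω with
  | nil => exact ⟨1, one_mem _, by simp [nw]⟩
  | cons i ω ih =>
    obtain ⟨g, hg, hgeq⟩ := ih
    obtain ⟨g', hg', hgeq'⟩ := S.nS_inv i
    refine ⟨g * (S.nw ω.reverse * g' * (S.nw ω.reverse)⁻¹), mul_mem hg (S.nw_H _ hg'), ?_⟩
    rw [List.reverse_cons, nw_append, nw_cons, mul_inv_rev, hgeq, hgeq', nw_singleton]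
    group

theorem nw_eq {ω : List (Fin D.rank)} {w : hF.weyl} (h : hF.refSys.pr ω = w) :
    ∃ g ∈ S.H, S.nw ω = g * S.nW w := by
  obtain ⟨g, hg, hgeq⟩ := S.nw_inv (word w)
  have hz : hF.refSys.pr (ω ++ (word w).reverse) = 1 := by
    rw [RefSystem.pr_append, RefSystem.pr_reverse, pr_word, h, mul_inv_cancel]
  have h1 := S.nw_eq_one_mem _ hz
  have e : S.nw ω * (S.nW w)⁻¹ = (S.nw ω * g * (S.nw ω)⁻¹) * S.nw (ω ++ (word w).reverse) := by
    rw [nW, hgeq, nw_append]; group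
  exact ⟨_, e ▸ mul_mem (S.nw_H ω hg) h1, by group⟩

theorem nW_one : S.nW 1 ∈ S.H := S.nw_eq_one_mem _ (pr_word 1)

theorem nW_H {w : hF.weyl} {g : Γ} (hg : g ∈ S.H) : S.nW w * g * (S.nW w)⁻¹ ∈ S.H := S.nw_H _ hg

theorem nW_H' {w : hF.weyl} {g : Γ} (hg : g ∈ S.H) : (S.nW w)⁻¹ * g * S.nW w ∈ S.H := S.nw_H' _ hg

theorem nS_nW (i : Fin D.rank) (w : hF.weyl) :
    ∃ g ∈ S.H, S.nS i * S.nW w = g * S.nW (hF.wS i * w) := by
  obtain ⟨g, hg, hgeq⟩ := S.nw_eq (ω := i :: word w) (w := hF.wS i * w)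
    (by rw [RefSystem.pr_cons, pr_word]; rfl)
  exact ⟨g, hg, by rw [← hgeq, nw_cons]; rfl⟩

/-- The subgroup N. -/
def N : Subgroup Γ := S.H ⊔ Subgroup.closure (Set.range S.nS)

theorem nS_mem_N (i : Fin D.rank) : S.nS i ∈ S.N :=
  Subgroup.mem_sup_right (Subgroup.subset_closure ⟨i, rfl⟩)

theorem H_le_N : S.H ≤ S.N := le_sup_left

theorem nw_mem_N (ω : List (Fin D.rank)) : S.nw ω ∈ S.N := by
  induction ω with
  | nil => exact one_mem _
  | cons i ω ih => rw [nw_cons]; exact mul_mem (S.nS_mem_N i) ih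

theorem nW_mem_N (w : hF.weyl) : S.nW w ∈ S.N := S.nw_mem_N _

theorem mem_N {g : Γ} : g ∈ S.N ↔ ∃ a ∈ S.H, ∃ w, g = a * S.nW w := by
  constructor
  · intro hg
    rw [N, ← Subgroup.closure_eq S.H, ← Subgroup.closure_union] at hg
    obtain ⟨g1, hg1, hw1⟩ : ∃ a ∈ S.H, (1 : Γ) = a * S.nW 1 :=
      ⟨(S.nW 1)⁻¹, inv_mem S.nW_one, by group⟩
    induction hg using Subgroup.closure_induction with
    | mem g hg =>
      rcases hg with hg | ⟨i, rfl⟩
      · exact ⟨g * g1, mul_mem hg hg1, 1, by rw [mul_assoc, ← hw1, mul_one]⟩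
      · obtain ⟨a, ha, haeq⟩ := S.nw_eq (ω := [i]) (w := hF.wS i) (RefSystem.pr_singleton _ i)
        exact ⟨a, ha, _, by rw [← haeq, nw_singleton]⟩
    | one => exact ⟨g1, hg1, 1, hw1⟩
    | mul p q _ _ hp hq =>
      obtain ⟨a, ha, w, rfl⟩ := hp
      obtain ⟨b, hb, v, rfl⟩ := hq
      obtain ⟨c, hc, hceq⟩ := S.nw_eq (ω := word w ++ word v) (w := w * v)
        (by rw [RefSystem.pr_append, pr_word, pr_word])
      rw [nw_append] at hceq
      refine ⟨a * (S.nW w * b * (S.nW w)⁻¹) * c, mul_mem (mul_mem ha (S.nW_H hb)) hc, w * v, ?_⟩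
      rw [mul_assoc (a * _) c, ← hceq]
      show a * S.nW w * (b * S.nW v) = a * (S.nW w * b * (S.nW w)⁻¹) * (S.nW w * S.nW v)
      group
    | inv p _ hp =>
      obtain ⟨a, ha, w, rfl⟩ := hp
      obtain ⟨b, hb, hbeq⟩ := S.nw_inv (word w)
      obtain ⟨c, hc, hceq⟩ := S.nw_eq (ω := (word w).reverse) (w := w⁻¹)
        (by rw [RefSystem.pr_reverse, pr_word])
      refine ⟨b * c * (S.nW w⁻¹ * a⁻¹ * (S.nW w⁻¹)⁻¹), mul_mem (mul_mem hb hc) (S.nW_H (inv_mem ha)),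
        w⁻¹, ?_⟩
      rw [mul_inv_rev, show (S.nW w)⁻¹ = b * S.nw (word w).reverse from hbeq, hceq]
      group
  · rintro ⟨a, ha, w, rfl⟩
    exact mul_mem (S.H_le_N ha) (S.nW_mem_N w)

theorem H_normal_in_N {g a : Γ} (hg : g ∈ S.N) (ha : a ∈ S.H) : g * a * g⁻¹ ∈ S.H := by
  obtain ⟨b, hb, w, rfl⟩ := S.mem_N.1 hg
  rw [show b * S.nW w * a * (b * S.nW w)⁻¹ = b * (S.nW w * a * (S.nW w)⁻¹) * b⁻¹ by group]
  exact mul_mem (mul_mem hb (S.nW_H ha)) (inv_mem hb)

/-- The subgroup U. -/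
def U : Subgroup Γ := S.US (Facts.posL D)

theorem x_mem_U {r : ℕ} (h1 : D.nroots / 2 ≤ r) (h2 : r < D.nroots) (t : F) : S.x r t ∈ S.U :=
  S.x_mem_US (Facts.mem_posL.2 ⟨h1, h2⟩) t

theorem H_conj_X {g : Γ} (hg : g ∈ S.H) {s : ℕ} (hs : s < D.nroots) (t : F) :
    (∃ u, g * S.x s t * g⁻¹ = S.x s u) ∧ ∃ u, g⁻¹ * S.x s t * g = S.x s u := by
  induction hg using Subgroup.closure_induction generalizing t with
  | mem g hg =>
    obtain ⟨r, c, hr, hc, rfl⟩ := hg
    obtain ⟨d, hd⟩ := S.h_x r hr c hc s hs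
    refine ⟨⟨_, hd t⟩, d⁻¹ * t, ?_⟩
    by_cases hd0 : d = 0
    · have hz : ∀ v, S.x s v = 1 := fun v => by
        have := hd v
        rw [hd0, zero_mul, S.toRootSys.x_zero, mul_inv_eq_one] at this
        exact mul_left_cancel (this.trans (mul_one _).symm)
      rw [hz, hz]; group
    · have := hd (d⁻¹ * t)
      rw [← mul_assoc d, mul_inv_cancel₀ hd0, one_mul] at this
      rw [← this]; group
  | one => exact ⟨⟨t, by simp⟩, t, by simp⟩
  | mul a b _ _ ha hb =>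
    constructor
    · obtain ⟨u, hu⟩ := (hb t).1
      obtain ⟨v, hv⟩ := (ha u).1
      exact ⟨v, by rw [← hv, ← hu]; group⟩
    · obtain ⟨u, hu⟩ := (ha t).2
      obtain ⟨v, hv⟩ := (hb u).2
      exact ⟨v, by rw [← hv, ← hu]; group⟩
  | inv a _ ha =>
    constructor
    · obtain ⟨u, hu⟩ := (ha t).2
      exact ⟨u, by rw [← hu, inv_inv]⟩
    · obtain ⟨u, hu⟩ := (ha t).1
      exact ⟨u, by rw [← hu, inv_inv]⟩

theorem H_conj_US {g : Γ} (hg : g ∈ S.H) {L : List ℕ} (hL : ∀ r ∈ L, r < D.nroots) {u : Γ}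
    (hu : u ∈ S.US L) : g * u * g⁻¹ ∈ S.US L := by
  have : S.US L ≤ (S.US L).comap (MulAut.conj g).toMonoidHom := by
    refine S.US_le fun r hr t => ?_
    obtain ⟨v, hv⟩ := (S.H_conj_X hg (hL r hr) t).1
    show g * S.x r t * g⁻¹ ∈ S.US L
    rw [hv]
    exact S.x_mem_US hr v
  exact this hu

theorem posL_lt : ∀ r ∈ Facts.posL D, r < D.nroots := fun _ hr => (Facts.mem_posL.1 hr).2

/-- The subgroup B. -/
def B : Subgroup Γ := S.U ⊔ S.H

theorem H_le_normalizer_U : S.H ≤ Subgroup.normalizer (S.U : Set Γ) := by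
  intro g hg
  rw [Subgroup.mem_normalizer_iff]
  refine fun u => ⟨fun hu => S.H_conj_US hg posL_lt hu, fun hu => ?_⟩
  have h := S.H_conj_US (inv_mem hg) posL_lt hu
  rwa [show g⁻¹ * (g * u * g⁻¹) * g⁻¹⁻¹ = u by group] at h

theorem mem_B {g : Γ} : g ∈ S.B ↔ ∃ u ∈ S.U, ∃ a ∈ S.H, g = u * a := by
  constructor
  · intro hg
    have hmem : g ∈ ((S.U ⊔ S.H : Subgroup Γ) : Set Γ) := hg
    rw [Subgroup.coe_mul_of_right_le_normalizer_left S.U S.H S.H_le_normalizer_U] at hmem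
    obtain ⟨u, hu, a, ha, rfl⟩ := Set.mem_mul.1 hmem
    exact ⟨u, hu, a, ha, rfl⟩
  · rintro ⟨u, hu, a, ha, rfl⟩
    exact mul_mem (Subgroup.mem_sup_left hu) (Subgroup.mem_sup_right ha)

theorem mem_B' {g : Γ} (hg : g ∈ S.B) : ∃ a ∈ S.H, ∃ u ∈ S.U, g = a * u := by
  obtain ⟨u, hu, a, ha, rfl⟩ := S.mem_B.1 hg
  have h := S.H_conj_US (inv_mem ha) posL_lt hu
  rw [inv_inv] at h
  exact ⟨a, ha, a⁻¹ * u * a, h, by group⟩

theorem H_le_B : S.H ≤ S.B := le_sup_right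

theorem U_le_B : S.U ≤ S.B := le_sup_left

/-- The positive roots other than α_i. -/
def posNe (D : ChevalleyDatum) (i : Fin D.rank) : List ℕ :=
  (Facts.posL D).filter fun r => r != D.simple i.val

theorem mem_posNe {i : Fin D.rank} {r : ℕ} :
    r ∈ posNe D i ↔ D.nroots / 2 ≤ r ∧ r < D.nroots ∧ r ≠ D.simple i.val := by
  simp [posNe, Facts.mem_posL, and_assoc]

include hF in
theorem refl_posNe (i : Fin D.rank) {r : ℕ} (hr : r ∈ posNe D i) :
    D.reflectRoot i.val r ∈ posNe D i := by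
  obtain ⟨h1, h2, h3⟩ := mem_posNe.1 hr
  refine mem_posNe.2 ⟨hF.refl_pos i.val i.isLt r h2 h1 h3, hF.refl_lt i.val i.isLt r h2, fun he => ?_⟩
  have := hF.refl_refl i.val i.isLt r h2
  rw [he, Facts.refl_simple] at this
  have h5 := (hF.neg_ge_iff (hF.simple_lt i.val i.isLt)).1 (this ▸ h1)
  have h6 := hF.simple_ge i.val i.isLt
  omega

include hF in
theorem psi_comb {r s k : ℕ} (a b : ℤ)
    (h : ∀ j, j < D.rank → D.cartan j k = a * D.cartan j r + b * D.cartan j s) :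
    hF.psi k = a * hF.psi r + b * hF.psi s := by
  simp only [Facts.psi, psiOf, Finset.mul_sum, ← Finset.sum_add_distrib]
  refine Finset.sum_congr rfl fun j hj => ?_
  rw [h j (Finset.mem_range.1 hj)]
  ring

include hF in
theorem refl_comb (i : Fin D.rank) {r s k : ℕ} (hr : r < D.nroots) (hs : s < D.nroots)
    (hk : k < D.nroots) (a b : ℤ)
    (h : ∀ j, j < D.rank → D.cartan j k = a * D.cartan j r + b * D.cartan j s) :
    ∀ j, j < D.rank → D.cartan j (D.reflectRoot i.val k) =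
      a * D.cartan j (D.reflectRoot i.val r) + b * D.cartan j (D.reflectRoot i.val s) := by
  intro j hj
  rw [hF.cartan_refl i.val i.isLt k hk j hj, hF.cartan_refl i.val i.isLt r hr j hj,
    hF.cartan_refl i.val i.isLt s hs j hj, h j hj, h i.val i.isLt]
  ring

include hF in
theorem not_simple_sum (i : Fin D.rank) {r s k : ℕ} (hr : r ∈ posNe D i) (hs : s ∈ posNe D i)
    (hk : k = D.simple i.val) (a b : ℕ) (ha : 1 ≤ a) (hb : 1 ≤ b)
    (h : ∀ j, j < D.rank → D.cartan j k = a * D.cartan j r + b * D.cartan j s) : False := by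
  subst hk
  have hα := hF.simple_lt i.val i.isLt
  have hlin := refl_comb (hF := hF) i (mem_posNe.1 hr).2.1 (mem_posNe.1 hs).2.1 hα (a : ℤ) (b : ℤ) h
  rw [Facts.refl_simple] at hlin
  have hpsi := psi_comb (hF := hF) _ _ hlin
  rw [hF.psi_neg hα] at hpsi
  have h1 := hF.psi_pos hα (hF.simple_ge i.val i.isLt)
  obtain ⟨p1, p2, -⟩ := mem_posNe.1 (refl_posNe (hF := hF) i hr)
  obtain ⟨q1, q2, -⟩ := mem_posNe.1 (refl_posNe (hF := hF) i hs)
  have h2 := hF.psi_pos p2 p1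
  have h3 := hF.psi_pos q2 q1
  have h4 : (1 : ℤ) ≤ a := by exact_mod_cast ha
  have h5 : (1 : ℤ) ≤ b := by exact_mod_cast hb
  nlinarith

include hF in
theorem closed_posNe (i : Fin D.rank) : ClosedList D (posNe D i) := by
  refine ⟨hF.closedList_posL.sorted.filter _, fun r hr => ⟨(mem_posNe.1 hr).1, (mem_posNe.1 hr).2.1⟩,
    fun r hr s hs hne c hc => ?_⟩
  obtain ⟨h1, h2, -⟩ := mem_posNe.1 hr
  obtain ⟨h3, h4, -⟩ := mem_posNe.1 hs
  obtain ⟨hlt, hgr, -⟩ := hF.commTerms_gt h2 h4 h1 h3 hc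
  refine mem_posNe.2 ⟨by omega, hlt, fun he => ?_⟩
  obtain ⟨a1, b1, hw⟩ := hF.commTerms_psi h2 h4 hc
  exact not_simple_sum (hF := hF) i hr hs he _ _ a1 b1 hw

theorem simple_normalizes_posNe (i : Fin D.rank) (t : F) :
    S.x (D.simple i.val) t ∈ Subgroup.normalizer (S.US (posNe D i) : Set Γ) := by
  have hα := hF.simple_lt i.val i.isLt
  have hge := hF.simple_ge i.val i.isLt
  refine S.x_normalizes hα (fun s hs => ?_) t
  obtain ⟨h1, h2, h3⟩ := mem_posNe.1 hs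
  refine ⟨h2, fun he => ?_, fun _ c hc => ?_⟩
  · have := (hF.neg_ge_iff hα).1 (he ▸ h1)
    omega
  · obtain ⟨hlt, hgt, -⟩ := hF.commTerms_gt hα h2 hge h1 hc
    exact mem_posNe.2 ⟨by omega, hlt, by omega⟩

theorem U_split (i : Fin D.rank) {u : Γ} (hu : u ∈ S.U) :
    ∃ v ∈ S.US (posNe D i), ∃ t, u = v * S.x (D.simple i.val) t := by
  induction hu using Subgroup.closure_induction with
  | mem g hg =>
    obtain ⟨r, hr, a, rfl⟩ := hg
    by_cases he : r = D.simple i.val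
    · exact ⟨1, one_mem _, a, by simp [he]⟩
    · exact ⟨_, S.x_mem_US (mem_posNe.2 ⟨(Facts.mem_posL.1 hr).1, (Facts.mem_posL.1 hr).2, he⟩) a, 0,
        by simp [S.toRootSys.x_zero]⟩
  | one => exact ⟨1, one_mem _, 0, by simp [S.toRootSys.x_zero]⟩
  | mul p q _ _ hp hq =>
    obtain ⟨v, hv, a, rfl⟩ := hp
    obtain ⟨w, hw, b, rfl⟩ := hq
    refine ⟨v * (S.x (D.simple i.val) a * w * (S.x (D.simple i.val) a)⁻¹),
      mul_mem hv ((Subgroup.mem_normalizer_iff.1 (S.simple_normalizes_posNe i a) w).1 hw), a + b, ?_⟩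
    rw [S.x_add]; group
  | inv p _ hp =>
    obtain ⟨v, hv, a, rfl⟩ := hp
    refine ⟨(S.x (D.simple i.val) a)⁻¹ * v⁻¹ * S.x (D.simple i.val) a,
      (Subgroup.mem_normalizer_iff''.1 (S.simple_normalizes_posNe i a) _).1 (inv_mem hv), -a, ?_⟩
    rw [S.toCommSys.x_neg]; group

theorem nS_conj_posNe (i : Fin D.rank) {v : Γ} (hv : v ∈ S.US (posNe D i)) :
    S.nS i * v * (S.nS i)⁻¹ ∈ S.US (posNe D i) ∧ (S.nS i)⁻¹ * v * S.nS i ∈ S.US (posNe D i) := by
  induction hv using Subgroup.closure_induction with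
  | mem g hg =>
    obtain ⟨r, hr, a, rfl⟩ := hg
    rw [S.nS_conj i (mem_posNe.1 hr).2.1, S.nS_conj_inv i (mem_posNe.1 hr).2.1]
    exact ⟨S.x_mem_US (refl_posNe (hF := hF) i hr) _, S.x_mem_US (refl_posNe (hF := hF) i hr) _⟩
  | one => simp
  | mul p q _ _ hp hq =>
    constructor
    · rw [show S.nS i * (p * q) * (S.nS i)⁻¹ =
        S.nS i * p * (S.nS i)⁻¹ * (S.nS i * q * (S.nS i)⁻¹) by group]
      exact mul_mem hp.1 hq.1
    · rw [show (S.nS i)⁻¹ * (p * q) * S.nS i =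
        (S.nS i)⁻¹ * p * S.nS i * ((S.nS i)⁻¹ * q * S.nS i) by group]
      exact mul_mem hp.2 hq.2
  | inv p _ hp =>
    constructor
    · rw [show S.nS i * p⁻¹ * (S.nS i)⁻¹ = (S.nS i * p * (S.nS i)⁻¹)⁻¹ by group]
      exact inv_mem hp.1
    · rw [show (S.nS i)⁻¹ * p⁻¹ * S.nS i = ((S.nS i)⁻¹ * p * S.nS i)⁻¹ by group]
      exact inv_mem hp.2

theorem US_posNe_le_U (i : Fin D.rank) : S.US (posNe D i) ≤ S.U :=
  S.US_mono fun r hr => Facts.mem_posL.2 ⟨(mem_posNe.1 hr).1, (mem_posNe.1 hr).2.1⟩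

/-- The rank-one identity. -/
theorem neg_simple_eq (i : Fin D.rank) {t : F} (ht : t ≠ 0) : ∃ a, ∃ g ∈ S.H,
    S.x (D.neg (D.simple i.val)) t = S.x (D.simple i.val) a * g * S.nS i * S.x (D.simple i.val) a := by
  refine ⟨t⁻¹, S.h (D.simple i.val) (-t⁻¹), S.h_mem (hF.simple_lt i.val i.isLt)
    (neg_ne_zero.2 (inv_ne_zero ht)), ?_⟩
  have e : S.n (D.simple i.val) (-t⁻¹) =
      S.x (D.simple i.val) (-t⁻¹) * S.x (D.neg (D.simple i.val)) t * S.x (D.simple i.val) (-t⁻¹) := by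
    simp [n, nElt, inv_neg]
  rw [mul_assoc (S.x (D.simple i.val) t⁻¹), nS, ← n_eq_h_mul, e, S.toCommSys.x_neg]
  group

/-- Left multiplication of B n B by a fundamental representative. -/
theorem nS_mul_mem (i : Fin D.rank) {b : Γ} (hb : b ∈ S.B) (w : hF.weyl) :
    (∃ b₁ ∈ S.B, ∃ b₂ ∈ S.B, S.nS i * b * S.nW w = b₁ * S.nW (hF.wS i * w) * b₂) ∨
    (∃ b₁ ∈ S.B, ∃ b₂ ∈ S.B, S.nS i * b * S.nW w = b₁ * S.nW w * b₂ ∧
      (w⁻¹ • hF.refSys.α i) ∉ hF.refSys.P) := by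
  obtain ⟨u, hu, a, ha, rfl⟩ := S.mem_B.1 hb
  obtain ⟨v, hv, t, rfl⟩ := S.U_split i hu
  have hα := hF.simple_lt i.val i.isLt
  obtain ⟨t', ht'⟩ := (S.H_conj_X ha hα t).2
  obtain ⟨g, hg, hgeq⟩ := S.nS_nW i w
  have hv' : S.nS i * v * (S.nS i)⁻¹ ∈ S.B :=
    S.U_le_B (S.US_posNe_le_U i (S.nS_conj_posNe i hv).1)
  have ha' : S.nS i * a * (S.nS i)⁻¹ ∈ S.B := S.H_le_B (S.nS_H i ha)
  -- conjugation of X_α by the representative of w⁻¹
  obtain ⟨e, he, hconj⟩ := S.nw_conj (word w) (w⁻¹ • hF.refSys.α i)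
  rw [pr_word, smul_inv_smul] at hconj
  have hpull : ∀ y, S.x (D.simple i.val) y * S.nW w =
      S.nW w * S.x (w⁻¹ • hF.refSys.α i : Fin D.nroots).val (e * y) := by
    intro y
    have := hconj (e * y)
    rw [← mul_assoc e, he, one_mul] at this
    rw [← show S.nW w * S.x (w⁻¹ • hF.refSys.α i : Fin D.nroots).val (e * y) * (S.nW w)⁻¹ =
      S.x (D.simple i.val) y from this]
    group
  by_cases hpos : (w⁻¹ • hF.refSys.α i) ∈ hF.refSys.P
  · have hp : D.nroots / 2 ≤ (w⁻¹ • hF.refSys.α i : Fin D.nroots).val := by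
      simpa [Facts.refSys] using hpos
    refine Or.inl ⟨S.nS i * v * (S.nS i)⁻¹ * (S.nS i * a * (S.nS i)⁻¹) * g,
      mul_mem (mul_mem hv' ha') (S.H_le_B hg), _, S.U_le_B (S.x_mem_U hp (Fin.isLt _) (e * t')), ?_⟩
    calc S.nS i * (v * S.x (D.simple i.val) t * a) * S.nW w
        = (S.nS i * v * (S.nS i)⁻¹) * (S.nS i * a * (S.nS i)⁻¹) *
            (S.nS i * (S.x (D.simple i.val) t' * S.nW w)) := by rw [← ht']; group
      _ = _ := by rw [hpull, ← mul_assoc (S.nS i), hgeq]; group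
  · by_cases ht : t' = 0
    · refine Or.inl ⟨S.nS i * v * (S.nS i)⁻¹ * (S.nS i * a * (S.nS i)⁻¹) * g,
        mul_mem (mul_mem hv' ha') (S.H_le_B hg), 1, one_mem _, ?_⟩
      calc S.nS i * (v * S.x (D.simple i.val) t * a) * S.nW w
          = (S.nS i * v * (S.nS i)⁻¹) * (S.nS i * a * (S.nS i)⁻¹) *
              (S.nS i * (S.x (D.simple i.val) t' * S.nW w)) := by rw [← ht']; group
        _ = _ := by rw [ht, S.toRootSys.x_zero, one_mul, hgeq]; group
    · refine Or.inr ?_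
      have hflip : S.nS i * S.x (D.simple i.val) t' * (S.nS i)⁻¹ =
          S.x (D.neg (D.simple i.val)) (hF.sgn F i.val (D.simple i.val) * t') := by
        rw [S.nS_conj i hα, Facts.refl_simple]
      have hne : hF.sgn F i.val (D.simple i.val) * t' ≠ 0 :=
        mul_ne_zero (left_ne_zero_of_mul_eq_one (hF.sgn_mul_self i.isLt hα)) ht
      obtain ⟨y, g', hg', hy⟩ := S.neg_simple_eq i hne
      -- the second flip
      have hflip2 : ∃ z, S.nS i * S.x (D.simple i.val) y * (S.nS i)⁻¹ =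
          S.x (D.neg (D.simple i.val)) z :=
        ⟨_, by rw [S.nS_conj i hα, Facts.refl_simple]⟩
      obtain ⟨z, hz⟩ := hflip2
      have hneg : D.nroots / 2 ≤ (w⁻¹ • hF.refSys.neg (hF.refSys.α i) : Fin D.nroots).val := by
        have := (hF.refSys.neg_mem _).2 hpos
        rw [RefSystem.smul_neg]
        simpa [Facts.refSys] using this
      obtain ⟨e', he', hconj'⟩ := S.nw_conj (word w) (w⁻¹ • hF.refSys.neg (hF.refSys.α i))
      rw [pr_word, smul_inv_smul] at hconj'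
      obtain ⟨z', hz'⟩ := (S.H_conj_X (S.nS_sq_mem i) (hF.neg_lt hα) z).2
      have hpull' : S.x (D.neg (D.simple i.val)) z' * S.nW w =
          S.nW w * S.x (w⁻¹ • hF.refSys.neg (hF.refSys.α i) : Fin D.nroots).val (e' * z') := by
        have := hconj' (e' * z')
        rw [← mul_assoc e', he', one_mul] at this
        rw [← show S.nW w * S.x (w⁻¹ • hF.refSys.neg (hF.refSys.α i) : Fin D.nroots).val (e' * z') *
          (S.nW w)⁻¹ = S.x (D.neg (D.simple i.val)) z' from this]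
        group
      refine ⟨S.nS i * v * (S.nS i)⁻¹ * (S.nS i * a * (S.nS i)⁻¹) *
          (S.x (D.simple i.val) y * g' * (S.nS i * S.nS i)), ?_, _,
        S.U_le_B (S.x_mem_U hneg (Fin.isLt _) (e' * z')), ?_, hpos⟩
      · exact mul_mem (mul_mem hv' ha') (mul_mem (mul_mem (S.U_le_B (S.x_mem_U
          (hF.simple_ge i.val i.isLt) hα y)) (S.H_le_B hg')) (S.H_le_B (S.nS_sq_mem i)))
      · calc S.nS i * (v * S.x (D.simple i.val) t * a) * S.nW w
            = (S.nS i * v * (S.nS i)⁻¹) * (S.nS i * a * (S.nS i)⁻¹) *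
                ((S.nS i * S.x (D.simple i.val) t' * (S.nS i)⁻¹) * S.nS i * S.nW w) := by
              rw [← ht']; group
          _ = (S.nS i * v * (S.nS i)⁻¹) * (S.nS i * a * (S.nS i)⁻¹) *
                (S.x (D.simple i.val) y * g' * (S.nS i * S.x (D.simple i.val) y * (S.nS i)⁻¹) *
                  (S.nS i * S.nS i) * S.nW w) := by rw [hflip, hy]; group
          _ = (S.nS i * v * (S.nS i)⁻¹) * (S.nS i * a * (S.nS i)⁻¹) *
                (S.x (D.simple i.val) y * g' * (S.nS i * S.nS i) *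
                  (((S.nS i * S.nS i)⁻¹ * S.x (D.neg (D.simple i.val)) z * (S.nS i * S.nS i)) * S.nW w)) := by
              rw [hz]; group
          _ = _ := by rw [hz', hpull']; group

/-- The set B N B. -/
def BNB : Set Γ := {g | ∃ b ∈ S.B, ∃ w, ∃ b' ∈ S.B, g = b * S.nW w * b'}

theorem nS_BNB (i : Fin D.rank) {g : Γ} (hg : g ∈ S.BNB) : S.nS i * g ∈ S.BNB := by
  obtain ⟨b, hb, w, b', hb', rfl⟩ := hg
  rcases S.nS_mul_mem i hb w with ⟨b1, h1, b2, h2, he⟩ | ⟨b1, h1, b2, h2, he, -⟩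
  · exact ⟨b1, h1, hF.wS i * w, b2 * b', mul_mem h2 hb', by
      rw [← mul_assoc, ← mul_assoc, he]; group⟩
  · exact ⟨b1, h1, w, b2 * b', mul_mem h2 hb', by rw [← mul_assoc, ← mul_assoc, he]; group⟩

theorem B_BNB {b g : Γ} (hb : b ∈ S.B) (hg : g ∈ S.BNB) : b * g ∈ S.BNB := by
  obtain ⟨b1, h1, w, b2, h2, rfl⟩ := hg
  exact ⟨b * b1, mul_mem hb h1, w, b2, h2, by group⟩

theorem nw_BNB (ω : List (Fin D.rank)) : ∀ {g : Γ}, g ∈ S.BNB → S.nw ω * g ∈ S.BNB := by
  induction ω with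
  | nil => intro g hg; simpa [nw] using hg
  | cons i ω ih => intro g hg; rw [nw_cons, mul_assoc]; exact S.nS_BNB i (ih hg)

theorem X_mem_BN : ∀ r, r < D.nroots → ∀ t, S.x r t ∈ S.B ⊔ S.N := by
  refine hF.simple_induction _ (fun i hi t => ?_) (fun i hi r hr ih t => ?_)
  · exact Subgroup.mem_sup_left (S.U_le_B (S.x_mem_U (hF.simple_ge i hi) (hF.simple_lt i hi) t))
  · have h := S.nS_conj ⟨i, hi⟩ hr (hF.sgn F i r * t)
    rw [← mul_assoc, hF.sgn_mul_self hi hr, one_mul] at h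
    rw [← h]
    exact mul_mem (mul_mem (Subgroup.mem_sup_right (S.nS_mem_N _)) (ih _))
      (inv_mem (Subgroup.mem_sup_right (S.nS_mem_N _)))

/-- The decomposition G = B N B. -/
theorem mem_BNB {g : Γ} (hg : g ∈ S.G) : g ∈ S.BNB := by
  have h1 : (1 : Γ) ∈ S.BNB := by
    refine ⟨(S.nW 1)⁻¹, S.H_le_B (inv_mem S.nW_one), 1, 1, one_mem _, by group⟩
  have hN : ∀ a ∈ S.N, ∀ p ∈ S.BNB, a * p ∈ S.BNB := by
    intro a ha p hp
    obtain ⟨b, hb, w, rfl⟩ := S.mem_N.1 ha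
    rw [mul_assoc]
    exact S.B_BNB (S.H_le_B hb) (S.nw_BNB _ hp)
  have hsup : ∀ a ∈ S.B ⊔ S.N, ∀ p ∈ S.BNB, a * p ∈ S.BNB := by
    intro a ha
    rw [← Subgroup.closure_eq S.B, ← Subgroup.closure_eq S.N, ← Subgroup.closure_union] at ha
    induction ha using Subgroup.closure_induction'' with
    | mem a ha =>
      intro p hp
      rcases ha with ha | ha
      · exact S.B_BNB ha hp
      · exact hN a ha p hp
    | inv_mem a ha =>
      intro p hp
      rcases ha with ha | ha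
      · exact S.B_BNB (inv_mem ha) hp
      · exact hN _ (inv_mem ha) p hp
    | one => intro p hp; simpa using hp
    | mul a b _ _ ha hb => intro p hp; rw [mul_assoc]; exact ha _ (hb p hp)
  have hle : S.G ≤ S.B ⊔ S.N := by
    refine (Subgroup.closure_le _).2 ?_
    rintro _ ⟨r, t, rfl⟩
    by_cases hr : r < D.nroots
    · exact S.X_mem_BN r hr t
    · rw [S.x_out r t (not_lt.1 hr)]; exact one_mem _
  simpa using hsup g (hle hg) 1 h1

/-- The inverted positive roots, as an increasing list. -/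
def invList (w : hF.weyl) : List ℕ :=
  (Facts.posL D).filter fun r =>
    decide (∃ h : r < D.nroots, w • (⟨r, h⟩ : Fin D.nroots) ∉ hF.refSys.P)

theorem mem_invList {w : hF.weyl} {r : ℕ} :
    r ∈ invList w ↔ ∃ h : r < D.nroots, (⟨r, h⟩ : Fin D.nroots) ∈ hF.refSys.inv w := by
  simp only [invList, List.mem_filter, Facts.mem_posL, decide_eq_true_eq, RefSystem.mem_inv,
    Facts.refSys, Finset.mem_filter, Finset.mem_univ, true_and]
  constructor
  · rintro ⟨⟨h1, -⟩, h, h2⟩; exact ⟨h, h1, h2⟩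
  · rintro ⟨h, h1, h2⟩; exact ⟨⟨h1, h⟩, h, h2⟩

theorem length_invList (w : hF.weyl) : (invList w).length = hF.refSys.len w := by
  classical
  have hnd : (invList w).Nodup := hF.closedList_posL.sorted.nodup.filter _
  have hset : (invList w).toFinset = (hF.refSys.inv w).map Fin.valEmbedding := by
    ext r
    simp only [List.mem_toFinset, mem_invList, Finset.mem_map, Fin.valEmbedding_apply]
    exact ⟨fun ⟨h, hh⟩ => ⟨_, hh, rfl⟩, fun ⟨a, ha, he⟩ => he ▸ ⟨a.isLt, ha⟩⟩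
  rw [← List.toFinset_card_of_nodup hnd, hset, Finset.card_map, RefSystem.len]

theorem weyl_comb (w : hF.weyl) : ∀ (x y z : Fin D.nroots) (a b : ℤ),
    (∀ k, k < D.rank → D.cartan k x.val = a * D.cartan k y.val + b * D.cartan k z.val) →
    ∀ k, k < D.rank → D.cartan k (w • x : Fin D.nroots).val =
      a * D.cartan k (w • y : Fin D.nroots).val + b * D.cartan k (w • z : Fin D.nroots).val := by
  induction w using hF.weyl_induction with
  | one => simp
  | step i w ih =>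
    intro x y z a b h k hk
    simp only [mul_smul, hF.wS_smul]
    exact refl_comb (hF := hF) i (Fin.isLt _) (Fin.isLt _) (Fin.isLt _) a b
      (ih x y z a b h) k hk

theorem closed_invList (w : hF.weyl) : ClosedList D (invList w) := by
  refine ⟨hF.closedList_posL.sorted.filter _, fun r hr => ?_, fun r hr s hs hne c hc => ?_⟩
  · obtain ⟨h, h'⟩ := mem_invList.1 hr
    have := (RefSystem.mem_inv _).1 h'
    exact ⟨by simpa [Facts.refSys] using this.1, h⟩
  · obtain ⟨hr', hri⟩ := mem_invList.1 hr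
    obtain ⟨hs', hsi⟩ := mem_invList.1 hs
    obtain ⟨r1, r2⟩ := (RefSystem.mem_inv _).1 hri
    obtain ⟨s1, s2⟩ := (RefSystem.mem_inv _).1 hsi
    have r1' : D.nroots / 2 ≤ r := by simpa [Facts.refSys] using r1
    have s1' : D.nroots / 2 ≤ s := by simpa [Facts.refSys] using s1
    obtain ⟨hlt, hgt, -⟩ := hF.commTerms_gt hr' hs' r1' s1' hc
    obtain ⟨a1, b1, hw⟩ := hF.commTerms_psi hr' hs' hc
    have hlin := weyl_comb w ⟨c.1, hlt⟩ ⟨r, hr'⟩ ⟨s, hs'⟩ (c.2.2.1 : ℤ) (c.2.2.2 : ℤ) hw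
    have hpsi := psi_comb (hF := hF) _ _ hlin
    refine mem_invList.2 ⟨hlt, (RefSystem.mem_inv _).2 ⟨?_, fun hp => ?_⟩⟩
    · simp [Facts.refSys]; omega
    have hnegpsi : ∀ x : Fin D.nroots, x ∉ hF.refSys.P → hF.psi x.val < 0 := by
      intro x hx
      have h := (hF.refSys.neg_mem x).2 hx
      have h' : D.nroots / 2 ≤ D.neg x.val := by simpa [Facts.refSys] using h
      have := hF.psi_pos (hF.neg_lt x.isLt) h'
      rw [hF.psi_neg x.isLt] at this
      omega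
    have hp' := hF.psi_pos (Fin.isLt _) (show D.nroots / 2 ≤
      (w • (⟨c.1, hlt⟩ : Fin D.nroots) : Fin D.nroots).val by simpa [Facts.refSys] using hp)
    have h2 := hnegpsi _ r2
    have h3 := hnegpsi _ s2
    have a1' : (1 : ℤ) ≤ c.2.2.1 := by exact_mod_cast a1
    have b1' : (1 : ℤ) ≤ c.2.2.2 := by exact_mod_cast b1
    nlinarith

/-- B n_w B = B n_w U_w. -/
theorem nW_mul_B : ∀ (w : hF.weyl) {b : Γ}, b ∈ S.B →
    ∃ b' ∈ S.B, ∃ u ∈ S.US (invList w), S.nW w * b = b' * S.nW w * u := by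
  suffices h : ∀ (ω : List (Fin D.rank)) {b : Γ}, b ∈ S.B →
      ω.length = hF.refSys.len (hF.refSys.pr ω) →
      ∃ b' ∈ S.B, ∃ u ∈ S.US (invList (hF.refSys.pr ω)), S.nw ω * b = b' * S.nw ω * u by
    intro w b hb
    have := h (word w) hb (by rw [pr_word]; exact length_word w)
    rw [pr_word] at this
    exact this
  intro ω
  induction ω using List.reverseRecOn with
  | nil => exact fun {b} hb _ => ⟨b, hb, 1, one_mem _, by simp [nw]⟩
  | append_singleton ω i ih =>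
    intro b hb hlen
    rw [RefSystem.pr_append, RefSystem.pr_singleton, List.length_append, List.length_singleton] at hlen
    have hpos : hF.refSys.pr ω • hF.refSys.α i ∈ hF.refSys.P := by
      by_contra hc
      have := hF.refSys.len_mul_s_of_not_mem hc
      have := hF.refSys.len_pr_le ω
      omega
    have hlen' : ω.length = hF.refSys.len (hF.refSys.pr ω) := by
      rw [hF.refSys.len_mul_s_of_mem hpos] at hlen; omega
    obtain ⟨a, ha, u, hu, rfl⟩ := S.mem_B' hb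
    obtain ⟨v, hv, t, rfl⟩ := S.U_split i hu
    obtain ⟨b', hb', u', hu', he⟩ := ih (b := S.nS i * a * (S.nS i)⁻¹ * (S.nS i * v * (S.nS i)⁻¹))
      (mul_mem (S.H_le_B (S.nS_H i ha)) (S.U_le_B (S.US_posNe_le_U i (S.nS_conj_posNe i hv).1))) hlen'
    set L := invList (hF.refSys.pr (ω ++ [i])) with hL
    have hmemL : ∀ r, r ∈ invList (hF.refSys.pr ω) → D.reflectRoot i.val r ∈ L := by
      intro r hr
      obtain ⟨hr', hi'⟩ := mem_invList.1 hr
      obtain ⟨p1, p2⟩ := (RefSystem.mem_inv _).1 hi'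
      refine mem_invList.2 ⟨hF.refl_lt i.val i.isLt r hr', (RefSystem.mem_inv _).2 ⟨?_, ?_⟩⟩
      · exact hF.refSys.perm i ⟨r, hr'⟩ p1 fun he => p2 (he ▸ hpos)
      · rw [RefSystem.pr_append, RefSystem.pr_singleton, mul_smul,
          show hF.refSys.s i • (⟨D.reflectRoot i.val r, hF.refl_lt i.val i.isLt r hr'⟩ : Fin D.nroots) =
            ⟨r, hr'⟩ from Fin.ext (hF.refl_refl i.val i.isLt r hr')]
        exact p2
    have hαL : D.simple i.val ∈ L := by
      refine mem_invList.2 ⟨hF.simple_lt i.val i.isLt,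
        (RefSystem.mem_inv _).2 ⟨hF.refSys.α_mem i, ?_⟩⟩
      show hF.refSys.pr (ω ++ [i]) • hF.refSys.α i ∉ hF.refSys.P
      rw [RefSystem.pr_append, RefSystem.pr_singleton, mul_smul, hF.refSys.s_α, RefSystem.smul_neg,
        hF.refSys.neg_mem]
      exact not_not.2 hpos
    have hconj : (S.nS i)⁻¹ * u' * S.nS i ∈ S.US L := by
      have hle : S.US (invList (hF.refSys.pr ω)) ≤ (S.US L).comap (MulAut.conj (S.nS i)⁻¹).toMonoidHom := by
        refine S.US_le fun r hr t => ?_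
        show (S.nS i)⁻¹ * S.x r t * (S.nS i)⁻¹⁻¹ ∈ S.US L
        rw [inv_inv, S.nS_conj_inv i (mem_invList.1 hr).1]
        exact S.x_mem_US (hmemL r hr) _
      simpa using hle hu'
    refine ⟨b', hb', _, mul_mem hconj (S.x_mem_US hαL t), ?_⟩
    rw [nw_append, nw_singleton]
    calc S.nw ω * S.nS i * (a * (v * S.x (D.simple i.val) t))
        = S.nw ω * (S.nS i * a * (S.nS i)⁻¹ * (S.nS i * v * (S.nS i)⁻¹)) * S.nS i *
            S.x (D.simple i.val) t := by group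
      _ = _ := by rw [he]; group

/-- Distinct double cosets, given B ∩ N = H and separation of W. -/
theorem bruhat_inj (hsep : ∀ w, S.nW w ∈ S.B → w = 1) : ∀ (w v : hF.weyl) {b b' c c' : Γ},
    b ∈ S.B → b' ∈ S.B → c ∈ S.B → c' ∈ S.B → b * S.nW w * b' = c * S.nW v * c' →
    hF.refSys.len w ≤ hF.refSys.len v → w = v := by
  intro w
  induction hn : hF.refSys.len w using Nat.strong_induction_on generalizing w with
  | _ n ih =>
    subst hn
    intro v b b' c c' hb hb' hc hc' he hle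
    obtain ⟨ω, hω, hlen⟩ := hF.refSys.exists_reduced w
    cases ω with
    | nil =>
      rw [RefSystem.pr_nil] at hω
      subst hω
      have hv : S.nW v ∈ S.B := by
        have : S.nW v = c⁻¹ * (b * S.nW 1 * b') * c'⁻¹ := by rw [he]; group
        rw [this]
        exact mul_mem (mul_mem (inv_mem hc) (mul_mem (mul_mem hb (S.H_le_B S.nW_one)) hb')) (inv_mem hc')
      exact (hsep v hv).symm
    | cons i ω' =>
      have hlen' : ω'.length = hF.refSys.len (hF.refSys.pr ω') ∧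
          hF.refSys.len (hF.refSys.pr ω') < hF.refSys.len w := by
        have h1 := hF.refSys.len_pr_le ω'
        obtain ⟨q, hq, hql⟩ := hF.refSys.exists_reduced (hF.refSys.pr ω')
        have h2 := hF.refSys.len_pr_le (i :: q)
        rw [RefSystem.pr_cons, hq, ← RefSystem.pr_cons, hω, List.length_cons, hql] at h2
        rw [List.length_cons] at hlen
        omega
      have hw : hF.wS i * hF.refSys.pr ω' = w := by rw [← hω, RefSystem.pr_cons]; rfl
      obtain ⟨g, hg, hgeq⟩ := S.nS_nW i (hF.refSys.pr ω')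
      rw [hw] at hgeq
      -- n_{w'} = n_i⁻¹ g n_w
      obtain ⟨g', hg', hinv⟩ := S.nS_inv i
      set q := g'⁻¹ * 1 with hq
      have hw' : S.nW (hF.refSys.pr ω') =
          g' * (S.nS i * (g * b⁻¹ * c) * S.nW v) * (c' * b'⁻¹) := by
        calc S.nW (hF.refSys.pr ω') = (S.nS i)⁻¹ * (g * b⁻¹) * (b * S.nW w * b') * b'⁻¹ := by
              rw [show S.nW (hF.refSys.pr ω') = (S.nS i)⁻¹ * (S.nS i * S.nW (hF.refSys.pr ω')) by group,
                hgeq]
              group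
          _ = _ := by rw [he, hinv]; group
      have hbb : g * b⁻¹ * c ∈ S.B := mul_mem (mul_mem (S.H_le_B hg) (inv_mem hb)) hc
      rcases S.nS_mul_mem i hbb v with ⟨b1, h1, b2, h2, heq⟩ | ⟨b1, h1, b2, h2, heq, -⟩
      · rw [heq] at hw'
        have hcase : hF.refSys.len (hF.refSys.pr ω') ≤ hF.refSys.len (hF.wS i * v) := by
          obtain ⟨p, hp, hpl⟩ := hF.refSys.exists_reduced (hF.wS i * v)
          have h3 := hF.refSys.len_pr_le (i :: p)
          rw [RefSystem.pr_cons, hp, show hF.refSys.s i = hF.wS i from rfl, ← mul_assoc, hF.wS_sq,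
            one_mul, List.length_cons, hpl] at h3
          omega
        have := ih _ hlen'.2 (hF.refSys.pr ω') rfl (hF.wS i * v) (b := 1) (b' := 1)
          (c := g' * b1) (c' := b2 * (c' * b'⁻¹)) (one_mem _) (one_mem _)
          (mul_mem (S.H_le_B hg') h1) (mul_mem h2 (mul_mem hc' (inv_mem hb')))
          (by rw [hw']; group) hcase
        rw [← hw, this, ← mul_assoc, hF.wS_sq, one_mul]
      · rw [heq] at hw'
        have := ih _ hlen'.2 (hF.refSys.pr ω') rfl v (b := 1) (b' := 1)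
          (c := g' * b1) (c' := b2 * (c' * b'⁻¹)) (one_mem _) (one_mem _)
          (mul_mem (S.H_le_B hg') h1) (mul_mem h2 (mul_mem hc' (inv_mem hb')))
          (by rw [hw']; group) (by omega)
        have hlt := hlen'.2
        rw [this] at hlt
        omega

theorem bruhat_eq (hsep : ∀ w, S.nW w ∈ S.B → w = 1) {w v : hF.weyl} {b b' c c' : Γ}
    (hb : b ∈ S.B) (hb' : b' ∈ S.B) (hc : c ∈ S.B) (hc' : c' ∈ S.B)
    (he : b * S.nW w * b' = c * S.nW v * c') : w = v := by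
  rcases le_total (hF.refSys.len w) (hF.refSys.len v) with hle | hle
  · exact S.bruhat_inj hsep w v hb hb' hc hc' he hle
  · exact (S.bruhat_inj hsep v w hc hc' hb hb' he.symm hle).symm

end TorusSys

end Cfsg.Agent.Lie
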