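import Cfsg.Agent.Lib.Lie.BN
import Cfsg.Agent.Lib.Lie.Diagonal

/-!
The BN structure of the matrix groups of a Chevalley datum.
-/

set_option autoImplicit false

namespace Cfsg.Agent.Lie

open Cfsg.Lie Matrix
open scoped MatrixGroups

variable {D : ChevalleyDatum} {F : Type*} [Field F]

namespace Facts

variable (hF : Facts D)

theorem nElt_xg (r : ℕ) (t : F) : nElt D hF.xg r t = hF.ng r t := (hF.ng_eq r t).symm

include hF in
theorem torChar_simple {i : ℕ} (hi : i < D.rank) (u : Fˣ) (s : ℕ) :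
    torChar D (hCoord D (D.simple i) u) s = u ^ D.cartan i s := by
  rw [torChar_hCoord, hF.pairing_simple hi]

/-- The root elements in GL, with the torus relations. -/
noncomputable def tsys (F : Type*) [Field F] : TorusSys hF F (GL D.Idx F) where
  toRootSys := hF.sys F
  h_conj i hi c hc s hs t := by
    show nElt D hF.xg (D.simple i) c * nElt D hF.xg (D.simple i) (-1) * hF.xg s t *
        (nElt D hF.xg (D.simple i) c * nElt D hF.xg (D.simple i) (-1))⁻¹ = hF.xg s _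
    rw [hF.nElt_xg, hF.nElt_xg, ← hF.hg_eq, show c = ((Units.mk0 c hc : Fˣ) : F) from rfl,
      hF.hg_eq_torus (hF.simple_lt i hi), hF.torus_conj _ hs, hF.torChar_simple hi,
      Units.val_zpow_eq_zpow_val]

theorem tsys_x (r : ℕ) (t : F) : (hF.tsys F).x r t = hF.xg r t := rfl

theorem tsys_n (r : ℕ) (t : F) : (hF.tsys F).n r t = hF.ng r t := hF.nElt_xg r t

theorem tsys_h (r : ℕ) (t : F) : (hF.tsys F).h r t = hF.hg r t := by
  rw [TorusSys.h, hF.tsys_n, hF.tsys_n, hF.hg_eq]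

theorem tsys_U : (hF.tsys F).U = D.posUnipotent F := (hF.posUnipotent_eq F).symm

theorem tsys_H : (hF.tsys F).H = D.diagonalSubgroup F := by
  unfold TorusSys.H ChevalleyDatum.diagonalSubgroup
  congr 1
  ext g
  simp only [Set.mem_ofPred_eq]
  constructor
  · rintro ⟨r, t, hr, ht, rfl⟩; exact ⟨r, t, hr, ht, by rw [hF.tsys_h, coe_hg]⟩
  · rintro ⟨r, t, hr, ht, hg⟩; exact ⟨r, t, hr, ht, Units.ext (by rw [hF.tsys_h, coe_hg, hg])⟩

theorem tsys_B : (hF.tsys F).B = D.borelSubgroup F := by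
  rw [TorusSys.B, hF.tsys_U, hF.tsys_H, ChevalleyDatum.borelSubgroup]

theorem tsys_nS (i : Fin D.rank) : (hF.tsys F).nS i = hF.ng (D.simple i) 1 := hF.tsys_n _ _

theorem eq_tsys_nS {g : GL D.Idx F} {i : ℕ} (hi : i < D.rank)
    (hg : (g : Matrix D.Idx D.Idx F) = D.nMat F (D.simple i) 1) : g = (hF.tsys F).nS ⟨i, hi⟩ :=
  Units.ext (by rw [hg, hF.tsys_nS, coe_ng])

theorem n_mem_N : ∀ r, r < D.nroots → ∀ t : F, t ≠ 0 → (hF.tsys F).n r t ∈ (hF.tsys F).N := by
  refine hF.simple_induction _ (fun i hi t ht => ?_) (fun i hi r hr ih t ht => ?_)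
  · rw [TorusSys.n_eq_h_mul]
    exact mul_mem ((hF.tsys F).H_le_N ((hF.tsys F).h_mem (hF.simple_lt i hi) ht))
      ((hF.tsys F).nS_mem_N ⟨i, hi⟩)
  · have hne : hF.sgn F i r * t ≠ 0 :=
      mul_ne_zero (left_ne_zero_of_mul_eq_one (hF.sgn_mul_self hi hr)) ht
    have h := (hF.tsys F).nS_conj_n ⟨i, hi⟩ hr (hF.sgn F i r * t)
    rw [← mul_assoc, hF.sgn_mul_self hi hr, one_mul] at h
    rw [← h]
    exact mul_mem (mul_mem ((hF.tsys F).nS_mem_N _) (ih _ hne))
      (inv_mem ((hF.tsys F).nS_mem_N _))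

theorem tsys_N : (hF.tsys F).N = D.monomialSubgroup F := by
  apply le_antisymm
  · refine sup_le (by rw [hF.tsys_H]; exact le_sup_left) ((Subgroup.closure_le _).2 ?_)
    rintro _ ⟨i, rfl⟩
    exact Subgroup.mem_sup_right (Subgroup.subset_closure
      ⟨D.simple i, hF.simple_lt i i.isLt, by rw [hF.tsys_nS, coe_ng]⟩)
  · refine sup_le (by rw [← hF.tsys_H]; exact (hF.tsys F).H_le_N) ((Subgroup.closure_le _).2 ?_)
    rintro g ⟨r, hr, hg⟩
    have : g = (hF.tsys F).n r 1 := Units.ext (by rw [hg, hF.tsys_n, coe_ng])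
    rw [this]
    exact hF.n_mem_N r hr 1 one_ne_zero

theorem tsys_G : (hF.tsys F).G = D.group F := by
  rw [hF.group_eq]
  unfold TorusSys.G
  congr 1
  ext g
  simp [tsys_x]

/-! ### Triangularity -/

theorem x_mem_negUnipotent {r : ℕ} (hr : r < D.nroots / 2) (t : F) :
    hF.xg r t ∈ D.negUnipotent F :=
  Subgroup.subset_closure ⟨r, t, (hF.isNegRoot_iff r).2 hr, rfl⟩

theorem negUnipotent_le {K : Subgroup (GL D.Idx F)}
    (h : ∀ r, r < D.nroots / 2 → ∀ t, hF.xg r t ∈ K) : D.negUnipotent F ≤ K := by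
  refine (Subgroup.closure_le _).2 ?_
  rintro g ⟨r, t, hr, hg⟩
  rw [hF.eq_xg.1 hg]
  exact h r ((hF.isNegRoot_iff r).1 hr) t

theorem negUnipotent_le_lower : D.negUnipotent F ≤ hF.lowerSubgroup := by
  refine hF.negUnipotent_le fun r hr t => ⟨?_, ?_⟩
  · exact hF.x_sub_one_lowers r (by omega) hr t
  · rw [← hF.xg_neg]; exact hF.x_sub_one_lowers r (by omega) hr (-t)

include hF in
theorem diagonal_entry {a : GL D.Idx F} (ha : a ∈ D.diagonalSubgroup F) :
    ∃ d : D.Idx → F, (a : Matrix D.Idx D.Idx F) = Matrix.diagonal d := by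
  rw [hF.diagonalSubgroup_eq F] at ha
  obtain ⟨c, rfl⟩ := ha
  exact ⟨_, coe_torus c⟩

theorem triangular_unique {u v a : GL D.Idx F} (hu : u ∈ hF.raiseSubgroup 1)
    (hv : v ∈ hF.lowerSubgroup) (ha : a ∈ D.diagonalSubgroup F) (h : u * a = v) :
    u = 1 ∧ a = 1 ∧ v = 1 := by
  obtain ⟨d, hd⟩ := hF.diagonal_entry ha
  have hval := congrArg Units.val h
  rw [Units.val_mul, hd] at hval
  have hent : ∀ p q, (u : Matrix D.Idx D.Idx F) p q * d q = (v : Matrix D.Idx D.Idx F) p q :=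
    fun p q => by rw [← hval, Matrix.mul_diagonal]
  have hup : ∀ p q, ¬ hF.hgt q < hF.hgt p → (u : Matrix D.Idx D.Idx F) p q = (1 : Matrix D.Idx D.Idx F) p q := by
    intro p q hpq
    by_contra hne
    have := hu.1 p q (by rwa [Matrix.sub_apply, sub_ne_zero])
    omega
  have hlo : ∀ p q, ¬ hF.hgt p < hF.hgt q → (v : Matrix D.Idx D.Idx F) p q = (1 : Matrix D.Idx D.Idx F) p q := by
    intro p q hpq
    by_contra hne
    have := hv.1 q p (by rwa [Matrix.transpose_apply, Matrix.sub_apply, sub_ne_zero])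
    omega
  have hd1 : ∀ q, d q = 1 := by
    intro q
    have := hent q q
    rw [hup q q (lt_irrefl _), hlo q q (lt_irrefl _), Matrix.one_apply_eq, one_mul] at this
    exact this
  have ha1 : a = 1 := Units.ext (by rw [hd, Units.val_one, ← Matrix.diagonal_one, funext hd1])
  subst ha1
  rw [mul_one] at h
  subst h
  have hu1 : u = 1 := by
    refine Units.ext ?_
    ext p q
    rcases lt_or_ge (hF.hgt q) (hF.hgt p) with hlt | hge
    · exact hlo p q (by omega)
    · exact hup p q (by omega)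
  exact ⟨hu1, rfl, hu1⟩

theorem U_mem_raise {u : GL D.Idx F} (hu : u ∈ (hF.tsys F).U) : u ∈ hF.raiseSubgroup 1 := by
  rw [hF.tsys_U] at hu
  exact hF.posUnipotent_le_raise F hu

theorem B_inter_V {g : GL D.Idx F} (hB : g ∈ (hF.tsys F).B) (hV : g ∈ D.negUnipotent F) : g = 1 := by
  obtain ⟨u, hu, a, ha, rfl⟩ := (hF.tsys F).mem_B.1 hB
  rw [hF.tsys_H] at ha
  exact (hF.triangular_unique (hF.U_mem_raise hu) (hF.negUnipotent_le_lower hV) ha rfl).2.2

theorem U_inter_H {g : GL D.Idx F} (hU : g ∈ (hF.tsys F).U) (hH : g ∈ (hF.tsys F).H) : g = 1 := by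
  have ha : g⁻¹ ∈ D.diagonalSubgroup F := by rw [← hF.tsys_H]; exact inv_mem hH
  exact (hF.triangular_unique (hF.U_mem_raise hU) (one_mem _) ha (mul_inv_cancel g)).1

theorem nW_conj (w : hF.weyl) (s : Fin D.nroots) : ∃ e : F, e * e = 1 ∧ ∀ t,
    (hF.tsys F).nW w * hF.xg s.val t * ((hF.tsys F).nW w)⁻¹ =
      hF.xg (w • s : Fin D.nroots).val (e * t) := by
  have := (hF.tsys F).nw_conj (TorusSys.word w) s
  rw [TorusSys.pr_word] at this
  exact this

theorem nW_conj' (w : hF.weyl) (s : Fin D.nroots) (t : F) : ∃ u,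
    hF.xg (w • s : Fin D.nroots).val t =
      (hF.tsys F).nW w * hF.xg s.val u * ((hF.tsys F).nW w)⁻¹ := by
  obtain ⟨e, he, heq⟩ := hF.nW_conj (F := F) w s
  exact ⟨e * t, by rw [heq, ← mul_assoc, he, one_mul]⟩

/-- Only the identity of W has its representative in B. -/
theorem hsep (w : hF.weyl) (hw : (hF.tsys F).nW w ∈ (hF.tsys F).B) : w = 1 := by
  by_contra hne
  obtain ⟨r, hr⟩ : (hF.refSys.inv w).Nonempty := by
    rw [← Finset.card_pos]
    by_contra h0
    exact hne (hF.refSys.eq_one_of_len_eq_zero (by show (hF.refSys.inv w).card = 0; omega))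
  obtain ⟨h1, h2⟩ := (RefSystem.mem_inv _).1 hr
  obtain ⟨e, he, heq⟩ := hF.nW_conj (F := F) w r
  have hp : D.nroots / 2 ≤ r.val := by simpa [refSys] using h1
  have hn : (w • r : Fin D.nroots).val < D.nroots / 2 := by simpa [refSys] using h2
  have hB : hF.xg (w • r : Fin D.nroots).val (e * 1) ∈ (hF.tsys F).B := by
    rw [← heq]
    exact mul_mem (mul_mem hw ((hF.tsys F).U_le_B ((hF.tsys F).x_mem_U hp r.isLt 1))) (inv_mem hw)
  have h := hF.B_inter_V hB (hF.x_mem_negUnipotent hn _)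
  have h' := congrArg Units.val h
  rw [coe_xg, Units.val_one, hF.x_eq_one _ (Fin.isLt _), mul_one] at h'
  rw [h', mul_zero] at he
  exact zero_ne_one he

theorem B_inter_N {g : GL D.Idx F} (hB : g ∈ (hF.tsys F).B) (hN : g ∈ (hF.tsys F).N) :
    g ∈ (hF.tsys F).H := by
  obtain ⟨a, ha, w, rfl⟩ := (hF.tsys F).mem_N.1 hN
  have hw : (hF.tsys F).nW w ∈ (hF.tsys F).B := by
    simpa using mul_mem (inv_mem ((hF.tsys F).H_le_B ha)) hB
  rw [hF.hsep w hw]
  exact mul_mem ha (hF.tsys F).nW_one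

theorem nW_eq_of_mul {w v : hF.weyl} {a b : GL D.Idx F} (ha : a ∈ (hF.tsys F).H)
    (hb : b ∈ (hF.tsys F).H) (h : a * (hF.tsys F).nW w = b * (hF.tsys F).nW v) : w = v :=
  (hF.tsys F).bruhat_eq hF.hsep ((hF.tsys F).H_le_B ha) (one_mem _) ((hF.tsys F).H_le_B hb)
    (one_mem _) (by rw [mul_one, mul_one, h])

theorem US_invList_conj (w : hF.weyl) {u : GL D.Idx F}
    (hu : u ∈ (hF.tsys F).US (TorusSys.invList w)) :
    (hF.tsys F).nW w * u * ((hF.tsys F).nW w)⁻¹ ∈ D.negUnipotent F := by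
  have hle : (hF.tsys F).US (TorusSys.invList w) ≤
      (D.negUnipotent F).comap (MulAut.conj ((hF.tsys F).nW w)).toMonoidHom := by
    refine CommSys.US_le _ fun r hr t => ?_
    obtain ⟨h, hi⟩ := TorusSys.mem_invList.1 hr
    obtain ⟨e, -, heq⟩ := hF.nW_conj (F := F) w ⟨r, h⟩
    show (hF.tsys F).nW w * hF.xg r t * ((hF.tsys F).nW w)⁻¹ ∈ D.negUnipotent F
    rw [heq]
    refine hF.x_mem_negUnipotent ?_ _
    simpa [refSys] using ((RefSystem.mem_inv _).1 hi).2
  exact hle hu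

/-- Uniqueness of the form b n u. -/
theorem bruhat_unique {w v : hF.weyl} {b b' u u' : GL D.Idx F} (hb : b ∈ (hF.tsys F).B)
    (hb' : b' ∈ (hF.tsys F).B) (hu : u ∈ (hF.tsys F).US (TorusSys.invList w))
    (hu' : u' ∈ (hF.tsys F).US (TorusSys.invList v))
    (h : b * (hF.tsys F).nW w * u = b' * (hF.tsys F).nW v * u') : w = v ∧ b = b' ∧ u = u' := by
  have hUB : ∀ (z : hF.weyl) {y : GL D.Idx F}, y ∈ (hF.tsys F).US (TorusSys.invList z) →
      y ∈ (hF.tsys F).B := by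
    intro z y hy
    refine (hF.tsys F).U_le_B (CommSys.US_mono _ (fun r hr => ?_) hy)
    exact (mem_posL.2 ((TorusSys.closed_invList z).mem_pos r hr))
  obtain rfl := (hF.tsys F).bruhat_eq hF.hsep hb (hUB w hu) hb' (hUB v hu') h
  have hV := hF.US_invList_conj w (mul_mem hu' (inv_mem hu))
  have e : (hF.tsys F).nW w * (u' * u⁻¹) * ((hF.tsys F).nW w)⁻¹ = b'⁻¹ * b := by
    have hb2 : b = b' * (hF.tsys F).nW w * u' * u⁻¹ * ((hF.tsys F).nW w)⁻¹ := by rw [← h]; group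
    rw [hb2]; group
  have h1 := hF.B_inter_V (e ▸ mul_mem (inv_mem hb') hb) hV
  rw [e, inv_mul_eq_one] at h1
  subst h1
  exact ⟨rfl, rfl, mul_left_cancel h⟩

theorem mem_bnu {g : GL D.Idx F} (hg : g ∈ D.group F) :
    ∃ b ∈ (hF.tsys F).B, ∃ w, ∃ u ∈ (hF.tsys F).US (TorusSys.invList w),
      g = b * (hF.tsys F).nW w * u := by
  rw [← hF.tsys_G] at hg
  obtain ⟨b, hb, w, b', hb', rfl⟩ := (hF.tsys F).mem_BNB hg
  obtain ⟨c, hc, u, hu, he⟩ := (hF.tsys F).nW_mul_B w hb'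
  exact ⟨b * c, mul_mem hb hc, w, u, hu, by rw [mul_assoc b, he]; group⟩

end Facts

end Cfsg.Agent.Lie
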