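import Cfsg.Prelude.Def_Classical

/-!
The derived group of the isometry group of a hyperbolic quadratic form, over any field, is generated by
the root elements v ↦ v + c (v (σ b) e_a − v (σ a) e_b).
-/

set_option autoImplicit false

namespace Cfsg.Agent.Lie.PlusGen

open Matrix
open scoped commutatorElement

variable {F : Type*} [Field F] {m : ℕ}

/-- The place of a coordinate. -/
def pl (a : Fin m ⊕ Fin m) : Fin m := Sum.elim id id a

theorem pl_swap (a : Fin m ⊕ Fin m) : pl a.swap = pl a := by rcases a with a | a <;> rfl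

theorem swap_ne (a : Fin m ⊕ Fin m) : a.swap ≠ a := by rcases a with a | a <;> simp

theorem ne_of_pl {a b : Fin m ⊕ Fin m} (h : pl a ≠ pl b) : a ≠ b ∧ a ≠ b.swap :=
  ⟨fun e => h (by rw [e]), fun e => h (by rw [e, pl_swap])⟩

/-- The root element. -/
def sel (a b : Fin m ⊕ Fin m) (c : F) (v : Fin m ⊕ Fin m → F) : Fin m ⊕ Fin m → F :=
  v + Pi.single a (c * v b.swap) - Pi.single b (c * v a.swap)

theorem sel_apply (a b : Fin m ⊕ Fin m) (c : F) (v : Fin m ⊕ Fin m → F) (q : Fin m ⊕ Fin m) :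
    sel a b c v q = v q + (if q = a then c * v b.swap else 0) - (if q = b then c * v a.swap else 0) := by
  simp [sel, Pi.single_apply]

/-- The bilinear form. -/
def bil (v w : Fin m ⊕ Fin m → F) : F := ∑ a, v a * w a.swap

theorem quad_add (v w : Fin m ⊕ Fin m → F) :
    Cfsg.quadFormPlus m F (v + w) = Cfsg.quadFormPlus m F v + Cfsg.quadFormPlus m F w + bil v w := by
  simp only [Cfsg.quadFormPlus, bil, Fintype.sum_sum_type, Pi.add_apply, Sum.swap_inl, Sum.swap_inr,
    ← Finset.sum_add_distrib]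
  exact Finset.sum_congr rfl fun i _ => by ring

theorem bil_single (v : Fin m ⊕ Fin m → F) (a : Fin m ⊕ Fin m) (c : F) :
    bil v (Pi.single a c) = c * v a.swap := by
  rw [bil, Finset.sum_eq_single a.swap]
  · simp [mul_comm]
  · intro b _ hb
    rw [Pi.single_eq_of_ne, mul_zero]
    exact fun h => hb (by rw [← h, Sum.swap_swap])
  · simp

theorem bil_single_left (v : Fin m ⊕ Fin m → F) (a : Fin m ⊕ Fin m) (c : F) :
    bil (Pi.single a c) v = c * v a.swap := by
  rw [bil, Finset.sum_eq_single a]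
  · simp
  · intro b _ hb; simp [hb]
  · simp

theorem quad_single (a : Fin m ⊕ Fin m) (c : F) :
    Cfsg.quadFormPlus m F (Pi.single a c) = 0 := by
  unfold Cfsg.quadFormPlus
  refine Finset.sum_eq_zero fun i _ => ?_
  rcases a with a | a <;> simp

theorem quad_sel {a b : Fin m ⊕ Fin m} (hab : a ≠ b) (hab' : a ≠ b.swap) (c : F) (v : Fin m ⊕ Fin m → F) :
    Cfsg.quadFormPlus m F (sel a b c v) = Cfsg.quadFormPlus m F v := by
  have hb : a.swap ≠ b := fun h => hab' (by rw [← h, Sum.swap_swap])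
  rw [sel, sub_eq_add_neg, ← Pi.single_neg, quad_add, quad_add, quad_single, quad_single, bil_single,
    bil_single, Pi.add_apply, Pi.single_eq_of_ne (Ne.symm hab')]
  ring

theorem iso_bil {g : GL (Fin m ⊕ Fin m) F} (hg : g ∈ Cfsg.isometryGroup F (Cfsg.quadFormPlus m F))
    (v w : Fin m ⊕ Fin m → F) : bil (g.1 *ᵥ v) (g.1 *ᵥ w) = bil v w := by
  have h1 := hg (v + w) (v + w)
  have h2 := hg v v
  have h3 := hg w w
  simp only [Units.coeHom_apply] at h1 h2 h3
  rw [Matrix.mulVec_add, quad_add, quad_add, h2, h3] at h1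
  exact add_left_cancel h1

/-- The elements fixing the first k pairs. -/
def Fix (k : ℕ) (g : GL (Fin m ⊕ Fin m) F) : Prop :=
  ∀ a, (pl a).val < k → g.1 *ᵥ Pi.single a 1 = Pi.single a 1

theorem fix_mul {k : ℕ} {g h : GL (Fin m ⊕ Fin m) F} (hg : Fix k g) (hh : Fix k h) : Fix k (g * h) := by
  intro a ha
  rw [Units.val_mul, ← Matrix.mulVec_mulVec, hh a ha, hg a ha]

theorem fix_inv {k : ℕ} {g : GL (Fin m ⊕ Fin m) F} (hg : Fix k g) : Fix k g⁻¹ := by
  intro a ha
  conv_lhs => rw [← hg a ha]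
  rw [Matrix.mulVec_mulVec, ← Units.val_mul, inv_mul_cancel, Units.val_one, Matrix.one_mulVec]

theorem fix_coord {k : ℕ} {g : GL (Fin m ⊕ Fin m) F} (hg : g ∈ Cfsg.isometryGroup F (Cfsg.quadFormPlus m F))
    (hk : Fix k g) (v : Fin m ⊕ Fin m → F) {a : Fin m ⊕ Fin m} (ha : (pl a).val < k) :
    (g.1 *ᵥ v) a = v a := by
  have h := iso_bil hg v (Pi.single a.swap 1)
  rw [hk a.swap (by rwa [pl_swap]), bil_single, bil_single, Sum.swap_swap, one_mul, one_mul] at h
  exact h

theorem ext_single {g h : GL (Fin m ⊕ Fin m) F}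
    (e : ∀ a, g.1 *ᵥ Pi.single a 1 = h.1 *ᵥ Pi.single a 1) : g = h :=
  Units.ext (Matrix.ext_of_mulVec_single e)

variable (F m) in
/-- The generators. -/
def gens : Set (GL (Fin m ⊕ Fin m) F) :=
  {g | ∃ a b : Fin m ⊕ Fin m, ∃ c : F, a ≠ b ∧ a ≠ b.swap ∧ ∀ v, g.1 *ᵥ v = sel a b c v}

variable (F m) in
/-- All root elements exist. -/
def HasAll : Prop :=
  ∀ a b : Fin m ⊕ Fin m, a ≠ b → a ≠ b.swap → ∀ c : F, ∃ g : GL (Fin m ⊕ Fin m) F, ∀ v, g.1 *ᵥ v = sel a b c v

variable (hS : HasAll F m)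

local notation "X" => Subgroup.closure (gens F m)

theorem gens_le : X ≤ Cfsg.isometryGroup F (Cfsg.quadFormPlus m F) := by
  rw [Subgroup.closure_le]
  rintro g ⟨a, b, c, h1, h2, hg⟩ v _
  simp only [Units.coeHom_apply]
  rw [hg, quad_sel h1 h2]

include hS in
theorem exists_clear {k : Fin m} {p : Fin m ⊕ Fin m} (hp : pl p = k) {v : Fin m ⊕ Fin m → F} (hv : v p = 1)
    (s : Finset (Fin m ⊕ Fin m)) (hs : ∀ a ∈ s, k < pl a) :
    ∃ g ∈ X, Fix k.val g ∧ g.1 *ᵥ Pi.single p.swap 1 = Pi.single p.swap 1 ∧ (g.1 *ᵥ v) p = 1 ∧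
      ∀ a ∈ s, (g.1 *ᵥ v) a = 0 := by
  induction s using Finset.induction_on with
  | empty => exact ⟨1, one_mem _, fun _ _ => by rw [Units.val_one, Matrix.one_mulVec], by rw [Units.val_one, Matrix.one_mulVec], by simpa using hv, by simp⟩
  | insert a s ha ih =>
    obtain ⟨g, hgX, hgF, hgp, hg1, hg0⟩ := ih fun b hb => hs b (Finset.mem_insert_of_mem hb)
    have hak := hs a (Finset.mem_insert_self a s)
    obtain ⟨ha1, ha2⟩ := ne_of_pl (show pl a ≠ pl p.swap by rw [pl_swap, hp]; exact ne_of_gt hak)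
    rw [Sum.swap_swap] at ha2
    obtain ⟨g', hg'⟩ := hS a p.swap ha1 (by rwa [Sum.swap_swap]) (-(g.1 *ᵥ v) a)
    have hg'X : g' ∈ X := Subgroup.subset_closure ⟨a, p.swap, _, ha1, by rwa [Sum.swap_swap], hg'⟩
    have hfix : ∀ q : Fin m ⊕ Fin m, q ≠ p → q ≠ a.swap → g'.1 *ᵥ Pi.single q 1 = Pi.single q 1 := by
      intro q h1 h2
      rw [hg']
      funext r
      simp [sel_apply, Sum.swap_swap, Pi.single_eq_of_ne (Ne.symm h1), Pi.single_eq_of_ne (Ne.symm h2)]
    refine ⟨g' * g, mul_mem hg'X hgX, fix_mul (fun q hq => hfix q ?_ ?_) hgF, ?_, ?_, ?_⟩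
    · intro h; rw [h, hp] at hq; exact lt_irrefl _ hq
    · intro h; rw [h, pl_swap] at hq; exact lt_irrefl _ (hq.trans hak)
    · rw [Units.val_mul, ← Matrix.mulVec_mulVec, hgp, hfix]
      · exact swap_ne p
      · exact fun h => ha2 (Sum.swap_leftInverse.injective h).symm
    · rw [Units.val_mul, ← Matrix.mulVec_mulVec, hg', sel_apply, if_neg (Ne.symm ha2), if_neg (swap_ne p).symm, hg1]
      simp
    · intro b hb
      rw [Units.val_mul, ← Matrix.mulVec_mulVec, hg', sel_apply]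
      rcases Finset.mem_insert.1 hb with rfl | hb'
      · rw [if_pos rfl, if_neg ha1, Sum.swap_swap, hg1]; ring
      · have hbk := hs b hb
        have hbp : b ≠ p.swap := fun h => by rw [h, pl_swap, hp] at hbk; exact lt_irrefl _ hbk
        rw [if_neg (fun h : b = a => ha (h ▸ hb')), if_neg hbp, hg0 b hb']
        ring

include hS in
theorem exists_move {k : Fin m} {p : Fin m ⊕ Fin m} (hp : pl p = k) {v : Fin m ⊕ Fin m → F} (hv : v p = 1)
    (hq : Cfsg.quadFormPlus m F v = 0) (hlow : ∀ a, pl a < k → v a = 0) :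
    ∃ g ∈ X, Fix k.val g ∧ g.1 *ᵥ Pi.single p.swap 1 = Pi.single p.swap 1 ∧ g.1 *ᵥ v = Pi.single p 1 := by
  classical
  obtain ⟨g, hgX, hgF, hgp, hg1, hg0⟩ := exists_clear hS hp hv (Finset.univ.filter fun a => k < pl a) (by simp)
  refine ⟨g, hgX, hgF, hgp, ?_⟩
  set w := g.1 *ᵥ v with hw
  have hother : ∀ a, a ≠ p → a ≠ p.swap → w a = 0 := by
    intro a h1 h2
    rcases lt_trichotomy (pl a) k with h | h | h
    · rw [hw, fix_coord (gens_le hgX) hgF v h, hlow a h]
    · exfalso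
      rcases a with a | a <;> rcases p with p | p <;> simp_all [pl]
    · exact hg0 a (by simp [h])
  have hwe : w = Pi.single p 1 + Pi.single p.swap (w p.swap) := by
    funext a
    by_cases h1 : a = p
    · subst h1; simp [hg1, (swap_ne a).symm]
    · by_cases h2 : a = p.swap
      · subst h2; simp [swap_ne p]
      · simp [hother a h1 h2, h1, h2]
  have hQ := gens_le hgX v v
  simp only [Units.coeHom_apply, ← hw, hq] at hQ
  rw [hwe, quad_add, quad_single, quad_single, bil_single, Sum.swap_swap, Pi.single_eq_same] at hQ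
  rw [hwe, show w p.swap = 0 by simpa using hQ, Pi.single_zero, add_zero]

include hS in
theorem exists_one {k : Fin m} (hl : k.val + 1 < m) {v : Fin m ⊕ Fin m → F} (hv : v ≠ 0)
    (hlow : ∀ a, pl a < k → v a = 0) :
    ∃ g ∈ X, Fix k.val g ∧ (g.1 *ᵥ v) (Sum.inl k) = 1 := by
  have step : ∀ (w : Fin m ⊕ Fin m → F) (p q : Fin m ⊕ Fin m), w p ≠ 0 → k ≤ pl p → k ≤ pl q → pl p ≠ pl q →
      ∃ g ∈ X, Fix k.val g ∧ (g.1 *ᵥ w) q = 1 := by
    intro w p q hw hp hq hpq
    obtain ⟨h1, h2⟩ := ne_of_pl (show pl q ≠ pl p.swap by rw [pl_swap]; exact hpq.symm)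
    obtain ⟨g, hg⟩ := hS q p.swap h1 h2 ((1 - w q) / w p)
    refine ⟨g, Subgroup.subset_closure ⟨q, p.swap, _, h1, h2, hg⟩, fun a ha => ?_, ?_⟩
    · have e1 : a ≠ p := fun h => by rw [h] at ha; exact not_lt.2 hp ha
      have e2 : a ≠ q.swap := fun h => by rw [h, pl_swap] at ha; exact not_lt.2 hq ha
      rw [hg]
      funext r
      simp [sel_apply, Pi.single_eq_of_ne (Ne.symm e1), Pi.single_eq_of_ne (Ne.symm e2)]
    · rw [hg, sel_apply, if_pos rfl, if_neg h1, Sum.swap_swap]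
      field_simp
      ring
  obtain ⟨p, hp⟩ := Function.ne_iff.1 hv
  have hpk : k ≤ pl p := not_lt.1 fun h => hp (hlow p h)
  obtain ⟨l, hl'⟩ : ∃ l : Fin m, l.val = k.val + 1 := ⟨⟨k.val + 1, hl⟩, rfl⟩
  have hkl : k ≠ l := fun h => by rw [h] at hl'; omega
  by_cases hpp : pl p = k
  · obtain ⟨g, hgX, hgF, hg⟩ := step v p (Sum.inl l) hp hpk (show k.val ≤ l.val by omega)
      (by rw [hpp]; exact hkl)
    obtain ⟨g', hg'X, hg'F, hg'⟩ := step (g.1 *ᵥ v) (Sum.inl l) (Sum.inl k) (by rw [hg]; exact one_ne_zero)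
      (show k.val ≤ l.val by omega) le_rfl hkl.symm
    exact ⟨g' * g, mul_mem hg'X hgX, fix_mul hg'F hgF, by rw [Units.val_mul, ← Matrix.mulVec_mulVec, hg']⟩
  · exact step v p (Sum.inl k) hp hpk le_rfl hpp

include hS in
/-- Every isometry is a product of root elements and an isometry fixing all pairs but the last. -/
theorem exists_decomp {g : GL (Fin m ⊕ Fin m) F} (hg : g ∈ Cfsg.isometryGroup F (Cfsg.quadFormPlus m F)) :
    ∀ k : ℕ, k < m → ∃ h ∈ X, Fix k (h * g) := by
  intro k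
  induction k with
  | zero => exact fun _ => ⟨1, one_mem _, fun a ha => absurd ha (Nat.not_lt_zero _)⟩
  | succ k ih =>
    intro hk
    obtain ⟨h, hX, hF⟩ := ih (by omega)
    let kk : Fin m := ⟨k, by omega⟩
    have hI := mul_mem (gens_le hX) hg
    have hlow : ∀ q : Fin m ⊕ Fin m, pl q = kk → ∀ a, pl a < kk → ((h * g).1 *ᵥ Pi.single q 1) a = 0 := by
      intro q hq a ha
      rw [fix_coord hI hF _ (show (pl a).val < k from ha), Pi.single_eq_of_ne]
      exact fun e => by rw [e, hq] at ha; exact lt_irrefl _ ha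
    obtain ⟨h1, h1X, h1F, h1e⟩ := exists_one hS (k := kk) hk
      (v := (h * g).1 *ᵥ Pi.single (Sum.inl kk) 1) (fun e => by
        have := congrArg ((h * g)⁻¹.1 *ᵥ ·) e
        simp only [Matrix.mulVec_mulVec, ← Units.val_mul, inv_mul_cancel, Units.val_one, Matrix.one_mulVec,
          Matrix.mulVec_zero] at this
        simpa using congrFun this (Sum.inl kk)) (hlow _ rfl)
    set g1 := h1 * (h * g) with hg1def
    have hI1 : g1 ∈ Cfsg.isometryGroup F (Cfsg.quadFormPlus m F) := mul_mem (gens_le h1X) hI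
    have hF1 : Fix k g1 := fix_mul h1F hF
    have hq1 : ∀ q, Cfsg.quadFormPlus m F (g1.1 *ᵥ Pi.single q 1) = 0 := by
      intro q
      have := hI1 (Pi.single q 1) (Pi.single q 1)
      simpa [quad_single] using this
    have hlow1 : ∀ (g' : GL (Fin m ⊕ Fin m) F), g' ∈ Cfsg.isometryGroup F (Cfsg.quadFormPlus m F) → Fix k g' →
        ∀ q : Fin m ⊕ Fin m, pl q = kk → ∀ a, pl a < kk → (g'.1 *ᵥ Pi.single q 1) a = 0 := by
      intro g' hg' hf' q hq a ha
      rw [fix_coord hg' hf' _ (show (pl a).val < k from ha), Pi.single_eq_of_ne]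
      exact fun e => by rw [e, hq] at ha; exact lt_irrefl _ ha
    obtain ⟨h2, h2X, h2F, -, h2e⟩ := exists_move hS (k := kk) (p := Sum.inl kk) rfl
      (v := g1.1 *ᵥ Pi.single (Sum.inl kk) 1)
      (by rw [hg1def, Units.val_mul, ← Matrix.mulVec_mulVec]; exact h1e) (hq1 _) (hlow1 g1 hI1 hF1 _ rfl)
    set g2 := h2 * g1 with hg2def
    have hI2 : g2 ∈ Cfsg.isometryGroup F (Cfsg.quadFormPlus m F) := mul_mem (gens_le h2X) hI1
    have hF2 : Fix k g2 := fix_mul h2F hF1
    have he2 : g2.1 *ᵥ Pi.single (Sum.inl kk) 1 = Pi.single (Sum.inl kk) 1 := by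
      rw [hg2def, Units.val_mul, ← Matrix.mulVec_mulVec, h2e]
    have hf2 : (g2.1 *ᵥ Pi.single (Sum.inr kk) 1) (Sum.inr kk) = 1 := by
      have := iso_bil hI2 (Pi.single (Sum.inr kk) 1) (Pi.single (Sum.inl kk) 1)
      rw [he2, bil_single, bil_single] at this
      simpa using this
    obtain ⟨h3, h3X, h3F, h3p, h3e⟩ := exists_move hS (k := kk) (p := Sum.inr kk) rfl hf2
      (by
        have := hI2 (Pi.single (Sum.inr kk) 1) (Pi.single (Sum.inr kk) 1)
        simpa [quad_single] using this) (hlow1 g2 hI2 hF2 _ rfl)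
    refine ⟨h3 * h2 * h1 * h, mul_mem (mul_mem (mul_mem h3X h2X) h1X) hX, ?_⟩
    rw [show h3 * h2 * h1 * h * g = h3 * g2 by rw [hg2def, hg1def]; group]
    intro a ha
    rcases Nat.lt_succ_iff_lt_or_eq.1 ha with ha | ha
    · exact fix_mul h3F hF2 a ha
    · rw [Units.val_mul, ← Matrix.mulVec_mulVec]
      have hka : pl a = kk := Fin.ext ha
      rcases a with a | a <;> obtain rfl : a = kk := hka
      · rw [he2]; exact h3p
      · exact h3e

section Last

variable (hm : 3 ≤ m)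

/-- The last index. -/
def lastIdx : Fin m := ⟨m - 1, by omega⟩

theorem mono_of_fix {t : GL (Fin m ⊕ Fin m) F} (ht : t ∈ Cfsg.isometryGroup F (Cfsg.quadFormPlus m F))
    (hf : Fix (m - 1) t) (a : Fin m ⊕ Fin m) :
    ∃ (b : Fin m ⊕ Fin m) (c : F), c ≠ 0 ∧ pl b = pl a ∧ t.1 *ᵥ Pi.single a 1 = Pi.single b c := by
  by_cases ha : (pl a).val < m - 1
  · exact ⟨a, 1, one_ne_zero, rfl, hf a ha⟩
  obtain ⟨w, hw⟩ : ∃ w, w = t.1 *ᵥ Pi.single a 1 := ⟨_, rfl⟩
  have hne : w ≠ 0 := by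
    intro e
    have := congrArg (t⁻¹.1 *ᵥ ·) (hw.symm.trans e)
    simp only [Matrix.mulVec_mulVec, ← Units.val_mul, inv_mul_cancel, Units.val_one, Matrix.one_mulVec,
      Matrix.mulVec_zero] at this
    simpa using congrFun this a
  have hother : ∀ q, q ≠ a → q ≠ a.swap → w q = 0 := by
    intro q h1 h2
    by_cases hq : (pl q).val < m - 1
    · rw [hw, fix_coord ht hf _ hq, Pi.single_eq_of_ne h1]
    · exfalso
      have hpq : pl q = pl a := Fin.ext (by have := (pl q).isLt; have := (pl a).isLt; omega)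
      rcases a with a | a <;> rcases q with q | q <;> simp_all [pl]
  have hwe : w = Pi.single a (w a) + Pi.single a.swap (w a.swap) := by
    funext q
    by_cases h1 : q = a
    · subst h1; simp [(swap_ne q).symm]
    · by_cases h2 : q = a.swap
      · subst h2; simp [swap_ne a]
      · simp [hother q h1 h2, h1, h2]
  have hQ := ht (Pi.single a 1) (Pi.single a 1)
  simp only [Units.coeHom_apply, ← hw, quad_single] at hQ
  rw [hwe, quad_add, quad_single, quad_single, bil_single, Sum.swap_swap, Pi.single_eq_same] at hQ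
  rw [zero_add, zero_add, mul_eq_zero] at hQ
  rw [← hw]
  rcases hQ with h | h
  · refine ⟨a, w a, fun h' => hne (by rw [hwe, h, h', Pi.single_zero, Pi.single_zero, add_zero]), rfl, ?_⟩
    conv_lhs => rw [hwe, h, Pi.single_zero, add_zero]
  · refine ⟨a.swap, w a.swap, fun h' => hne (by rw [hwe, h, h', Pi.single_zero, Pi.single_zero, add_zero]),
      pl_swap a, ?_⟩
    conv_lhs => rw [hwe, h, Pi.single_zero, zero_add]

include hS in
theorem normal_fix {t : GL (Fin m ⊕ Fin m) F} (ht : t ∈ Cfsg.isometryGroup F (Cfsg.quadFormPlus m F))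
    (hf : Fix (m - 1) t) {g : GL (Fin m ⊕ Fin m) F} (hg : g ∈ X) : t * g * t⁻¹ ∈ X := by
  induction hg using Subgroup.closure_induction with
  | mem g hg =>
    obtain ⟨a, b, c, hab, hab', hg⟩ := hg
    obtain ⟨a', ca, hca, -, hta⟩ := mono_of_fix ht hf a
    obtain ⟨b', cb, hcb, -, htb⟩ := mono_of_fix ht hf b
    refine Subgroup.subset_closure ⟨a', b', c * ca * cb, ?_, ?_, fun v => ?_⟩
    · intro e
      apply hab
      have h1 : t.1 *ᵥ Pi.single a cb = t.1 *ᵥ Pi.single b ca := by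
        rw [show (Pi.single a cb : Fin m ⊕ Fin m → F) = cb • Pi.single a 1 by rw [← Pi.single_smul']; simp,
          show (Pi.single b ca : Fin m ⊕ Fin m → F) = ca • Pi.single b 1 by rw [← Pi.single_smul']; simp,
          Matrix.mulVec_smul, Matrix.mulVec_smul, hta, htb, e, ← Pi.single_smul', ← Pi.single_smul',
          smul_eq_mul, smul_eq_mul, mul_comm]
      have h2 := congrArg (t⁻¹.1 *ᵥ ·) h1
      simp only [Matrix.mulVec_mulVec, ← Units.val_mul, inv_mul_cancel, Units.val_one, Matrix.one_mulVec] at h2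
      have h3 := congrFun h2 a
      by_contra hne
      rw [Pi.single_eq_same, Pi.single_eq_of_ne hne] at h3
      exact hcb h3
    · intro e
      have h := iso_bil ht (Pi.single a 1) (Pi.single b 1)
      rw [hta, htb, bil_single, bil_single, e, Pi.single_eq_same, Pi.single_eq_of_ne (Ne.symm hab'), mul_zero] at h
      exact mul_ne_zero hcb hca h
    · obtain ⟨w, hw⟩ : ∃ w, w = t⁻¹.1 *ᵥ v := ⟨_, rfl⟩
      have hv : v = t.1 *ᵥ w := by
        rw [hw, Matrix.mulVec_mulVec, ← Units.val_mul, mul_inv_cancel, Units.val_one, Matrix.one_mulVec]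
      have key : ∀ (q q' : Fin m ⊕ Fin m) (d : F), t.1 *ᵥ Pi.single q 1 = Pi.single q' d →
          w q.swap = d * v q'.swap := by
        intro q q' d hq
        have h := iso_bil ht w (Pi.single q 1)
        rw [← hv, hq, bil_single, bil_single, one_mul] at h
        exact h.symm
      rw [Units.val_mul, Units.val_mul, ← Matrix.mulVec_mulVec, ← Matrix.mulVec_mulVec, ← hw, hg, sel,
        Matrix.mulVec_sub, Matrix.mulVec_add, ← hv, sel, key a a' ca hta, key b b' cb htb,
        show (Pi.single a (c * (cb * v b'.swap)) : Fin m ⊕ Fin m → F) = (c * (cb * v b'.swap)) • Pi.single a 1 by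
          rw [← Pi.single_smul']; simp,
        show (Pi.single b (c * (ca * v a'.swap)) : Fin m ⊕ Fin m → F) = (c * (ca * v a'.swap)) • Pi.single b 1 by
          rw [← Pi.single_smul']; simp,
        Matrix.mulVec_smul, Matrix.mulVec_smul, hta, htb, ← Pi.single_smul', ← Pi.single_smul', smul_eq_mul,
        smul_eq_mul]
      congr 2 <;> ring
  | one => simp
  | mul a b _ _ ha hb => rw [show t * (a * b) * t⁻¹ = (t * a * t⁻¹) * (t * b * t⁻¹) by group]; exact mul_mem ha hb
  | inv a _ ha => rw [show t * a⁻¹ * t⁻¹ = (t * a * t⁻¹)⁻¹ by group]; exact inv_mem ha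

theorem fix_ext {t u : GL (Fin m ⊕ Fin m) F} (ht : t ∈ Cfsg.isometryGroup F (Cfsg.quadFormPlus m F))
    (hu : u ∈ Cfsg.isometryGroup F (Cfsg.quadFormPlus m F)) (hf : Fix (m - 1) t) (hf' : Fix (m - 1) u)
    {a : Fin m ⊕ Fin m} (hal : (pl a).val = m - 1) (he : t.1 *ᵥ Pi.single a 1 = u.1 *ᵥ Pi.single a 1) :
    t = u := by
  have hb : t.1 *ᵥ Pi.single a.swap 1 = u.1 *ᵥ Pi.single a.swap 1 := by
    obtain ⟨b1, d1, hd1, hp1, e1⟩ := mono_of_fix ht hf a.swap
    obtain ⟨b2, d2, hd2, hp2, e2⟩ := mono_of_fix hu hf' a.swap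
    obtain ⟨b0, d0, hd0, hp0, e0⟩ := mono_of_fix ht hf a
    have h1 := iso_bil ht (Pi.single a 1) (Pi.single a.swap 1)
    have h2 := iso_bil hu (Pi.single a 1) (Pi.single a.swap 1)
    rw [e0, e1, bil_single, bil_single, Sum.swap_swap, Pi.single_eq_same, mul_one] at h1
    rw [← he, e0, e2, bil_single, bil_single, Sum.swap_swap, Pi.single_eq_same, mul_one] at h2
    have hb1 : b1.swap = b0 := by
      by_contra hne; rw [Pi.single_eq_of_ne hne, mul_zero] at h1; exact zero_ne_one h1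
    have hb2 : b2.swap = b0 := by
      by_contra hne; rw [Pi.single_eq_of_ne hne, mul_zero] at h2; exact zero_ne_one h2
    rw [hb1, Pi.single_eq_same] at h1
    rw [hb2, Pi.single_eq_same] at h2
    rw [e1, e2, mul_right_cancel₀ hd0 (h1.trans h2.symm),
      Sum.swap_leftInverse.injective (hb1.trans hb2.symm)]
  refine ext_single fun q => ?_
  by_cases hq : (pl q).val < m - 1
  · rw [hf q hq, hf' q hq]
  · have hpq : pl q = pl a := Fin.ext (by have := (pl q).isLt; omega)
    rcases a with a | a <;> rcases q with q | q <;> simp only [pl, Sum.elim_inl, Sum.elim_inr, id] at hpq <;>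
      subst hpq
    exacts [he, hb, hb, he]

include hS hm in
/-- The derived group is generated by the root elements. -/
theorem derived_eq
    (hsq : ∀ c : F, c ≠ 0 → ∃ h ∈ X, Fix (m - 1) h ∧
      h.1 *ᵥ Pi.single (Sum.inl ⟨m - 1, by omega⟩) 1 = Pi.single (Sum.inl ⟨m - 1, by omega⟩) (c ^ 2)) :
    ⁅Cfsg.isometryGroup F (Cfsg.quadFormPlus m F), Cfsg.isometryGroup F (Cfsg.quadFormPlus m F)⁆ = X := by
  set O := Cfsg.isometryGroup F (Cfsg.quadFormPlus m F) with hO
  refine le_antisymm ?_ ?_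
  · have hdec : ∀ g ∈ O, ∃ h ∈ X, ∃ t ∈ O, Fix (m - 1) t ∧ g = h * t := by
      intro g hg
      obtain ⟨h, hX, hF⟩ := exists_decomp hS hg (m - 1) (by omega)
      exact ⟨h⁻¹, inv_mem hX, h * g, mul_mem (gens_le hX) hg, hF, by group⟩
    have hnorm : ∀ g ∈ O, ∀ x ∈ X, g * x * g⁻¹ ∈ X := by
      intro g hg x hx
      obtain ⟨h, hX, t, ht, hf, rfl⟩ := hdec g hg
      rw [show h * t * x * (h * t)⁻¹ = h * (t * x * t⁻¹) * h⁻¹ by group]
      exact mul_mem (mul_mem hX (normal_fix hS ht hf hx)) (inv_mem hX)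
    have hcomm : ∀ t ∈ O, Fix (m - 1) t → ∀ u ∈ O, Fix (m - 1) u → ⁅t, u⁆ ∈ X := by
      intro t ht hft u hu hfu
      set L : Fin m := ⟨m - 1, by omega⟩ with hL
      have shape : ∀ s ∈ O, Fix (m - 1) s → ∃ c : F, c ≠ 0 ∧
          ((s.1 *ᵥ Pi.single (Sum.inl L) 1 = Pi.single (Sum.inl L) c ∧
            s.1 *ᵥ Pi.single (Sum.inr L) 1 = Pi.single (Sum.inr L) c⁻¹) ∨
          (s.1 *ᵥ Pi.single (Sum.inl L) 1 = Pi.single (Sum.inr L) c ∧
            s.1 *ᵥ Pi.single (Sum.inr L) 1 = Pi.single (Sum.inl L) c⁻¹)) := by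
        intro s hs hfs
        obtain ⟨b, c, hc, hpb, e1⟩ := mono_of_fix hs hfs (Sum.inl L)
        obtain ⟨b', c', hc', hpb', e2⟩ := mono_of_fix hs hfs (Sum.inr L)
        have h := iso_bil hs (Pi.single (Sum.inl L) 1) (Pi.single (Sum.inr L) 1)
        rw [e1, e2, bil_single, bil_single] at h
        simp only [Sum.swap_inr, Pi.single_eq_same, mul_one] at h
        have hbb : b'.swap = b := by
          by_contra hne; rw [Pi.single_eq_of_ne hne, mul_zero] at h; exact zero_ne_one h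
        rw [hbb, Pi.single_eq_same] at h
        refine ⟨c, hc, ?_⟩
        rw [eq_inv_of_mul_eq_one_left h] at e2
        rw [← Sum.swap_swap b', hbb] at e2
        rcases b with b | b <;> simp only [pl, Sum.elim_inl, Sum.elim_inr, id] at hpb <;> subst hpb
        · exact Or.inl ⟨e1, e2⟩
        · exact Or.inr ⟨e1, e2⟩
      have hsm : ∀ (s : GL (Fin m ⊕ Fin m) F) (q : Fin m ⊕ Fin m) (d : F),
          s.1 *ᵥ Pi.single q d = d • (s.1 *ᵥ Pi.single q 1) := by
        intro s q d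
        rw [← Matrix.mulVec_smul, ← Pi.single_smul', smul_eq_mul, mul_one]
      have hgI : ⁅t, u⁆ ∈ O := by
        rw [commutatorElement_def]; exact mul_mem (mul_mem (mul_mem ht hu) (inv_mem ht)) (inv_mem hu)
      have hgF : Fix (m - 1) ⁅t, u⁆ := by
        rw [commutatorElement_def]; exact fix_mul (fix_mul (fix_mul hft hfu) (fix_inv hft)) (fix_inv hfu)
      have key : ∀ (q : Fin m ⊕ Fin m) (d d' : F), d' ≠ 0 → (t * u).1 *ᵥ Pi.single (Sum.inl L) 1 = Pi.single q d →
          (u * t).1 *ᵥ Pi.single (Sum.inl L) 1 = Pi.single q d' →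
          ⁅t, u⁆.1 *ᵥ Pi.single q 1 = Pi.single q (d / d') := by
        intro q d d' hd' e1 e2
        rw [show t * u = ⁅t, u⁆ * (u * t) by group, Units.val_mul, ← Matrix.mulVec_mulVec, e2, hsm] at e1
        rw [← inv_smul_smul₀ hd' (⁅t, u⁆.1 *ᵥ Pi.single q 1), e1, ← Pi.single_smul', smul_eq_mul]
        congr 1
        field_simp
      obtain ⟨a, ha, hta⟩ := shape t ht hft
      obtain ⟨b, hb, hub⟩ := shape u hu hfu
      have fin_l : ∀ c : F, c ≠ 0 → ⁅t, u⁆.1 *ᵥ Pi.single (Sum.inl L) 1 = Pi.single (Sum.inl L) (c ^ 2) →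
          ⁅t, u⁆ ∈ X := by
        intro c hc e
        obtain ⟨h, hX, hhF, he⟩ := hsq c hc
        rw [fix_ext hgI (gens_le hX) hgF hhF (a := Sum.inl L) rfl (e.trans he.symm)]
        exact hX
      have fin_r : ∀ c : F, c ≠ 0 → ⁅t, u⁆.1 *ᵥ Pi.single (Sum.inr L) 1 = Pi.single (Sum.inr L) (c ^ 2) →
          ⁅t, u⁆ ∈ X := by
        intro c hc e
        obtain ⟨h, hX, hhF, he⟩ := hsq c⁻¹ (inv_ne_zero hc)
        rw [fix_ext hgI (gens_le hX) hgF hhF (a := Sum.inr L) rfl (e.trans ?_)]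
        · exact hX
        obtain ⟨d, hd, hd'⟩ := shape h (gens_le hX) hhF
        rcases hd' with ⟨h1, h2⟩ | ⟨h1, -⟩
        · rw [h2]
          rw [he] at h1
          rw [← Pi.single_injective _ h1]
          simp
        · rw [he] at h1
          have := congrFun h1 (Sum.inl L)
          simp [hc] at this
      rcases hta with ⟨t1, t2⟩ | ⟨t1, t2⟩ <;> rcases hub with ⟨u1, u2⟩ | ⟨u1, u2⟩
      · refine fin_l 1 one_ne_zero ?_
        rw [key (Sum.inl L) (b * a) (a * b) (mul_ne_zero ha hb)]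
        · congr 1; field_simp
        · rw [Units.val_mul, ← Matrix.mulVec_mulVec, u1, hsm, t1, ← Pi.single_smul', smul_eq_mul]
        · rw [Units.val_mul, ← Matrix.mulVec_mulVec, t1, hsm, u1, ← Pi.single_smul', smul_eq_mul]
      · refine fin_r a⁻¹ (inv_ne_zero ha) ?_
        rw [key (Sum.inr L) (b * a⁻¹) (a * b) (mul_ne_zero ha hb)]
        · congr 1; field_simp
        · rw [Units.val_mul, ← Matrix.mulVec_mulVec, u1, hsm, t2, ← Pi.single_smul', smul_eq_mul]
        · rw [Units.val_mul, ← Matrix.mulVec_mulVec, t1, hsm, u1, ← Pi.single_smul', smul_eq_mul]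
      · refine fin_r b hb ?_
        rw [key (Sum.inr L) (b * a) (a * b⁻¹) (mul_ne_zero ha (inv_ne_zero hb))]
        · congr 1; field_simp
        · rw [Units.val_mul, ← Matrix.mulVec_mulVec, u1, hsm, t1, ← Pi.single_smul', smul_eq_mul]
        · rw [Units.val_mul, ← Matrix.mulVec_mulVec, t1, hsm, u2, ← Pi.single_smul', smul_eq_mul]
      · refine fin_l (b / a) (div_ne_zero hb ha) ?_
        rw [key (Sum.inl L) (b * a⁻¹) (a * b⁻¹) (mul_ne_zero ha (inv_ne_zero hb))]
        · congr 1; field_simp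
        · rw [Units.val_mul, ← Matrix.mulVec_mulVec, u1, hsm, t2, ← Pi.single_smul', smul_eq_mul]
        · rw [Units.val_mul, ← Matrix.mulVec_mulVec, t1, hsm, u2, ← Pi.single_smul', smul_eq_mul]
    rw [Subgroup.commutator_le]
    intro g hg g' hg'
    obtain ⟨h, hX, t, ht, hft, rfl⟩ := hdec g hg
    obtain ⟨h', hX', u, hu, hfu, rfl⟩ := hdec g' hg'
    rw [show ⁅h * t, h' * u⁆ = h * (t * h' * t⁻¹) * ⁅t, u⁆ * (u * h⁻¹ * u⁻¹) * h'⁻¹ by group]
    exact mul_mem (mul_mem (mul_mem (mul_mem hX (hnorm t ht h' hX')) (hcomm t ht hft u hu hfu))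
      (hnorm u hu _ (inv_mem hX))) (inv_mem hX')
  · rw [Subgroup.closure_le]
    rintro g ⟨a, b, c, hab, hab', hg⟩
    obtain ⟨p, hpa, hpb⟩ : ∃ p : Fin m, p ≠ pl a ∧ p ≠ pl b := by
      by_contra hc
      push Not at hc
      have := Finset.card_le_card (show (Finset.univ : Finset (Fin m)) ⊆ {pl a, pl b} from fun p _ => by
        by_cases h : p = pl a
        · simp [h]
        · simp [hc p h])
      rw [Finset.card_univ, Fintype.card_fin] at this
      have := this.trans Finset.card_le_two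
      omega
    obtain ⟨ap1, ap2⟩ := ne_of_pl (show pl a ≠ pl (Sum.inl p : Fin m ⊕ Fin m) from Ne.symm hpa)
    obtain ⟨pb1, pb2⟩ := ne_of_pl (show pl (Sum.inr p : Fin m ⊕ Fin m) ≠ pl b from hpb)
    obtain ⟨g1, hg1⟩ := hS a (Sum.inl p) ap1 ap2 1
    obtain ⟨g2, hg2⟩ := hS (Sum.inr p) b pb1 pb2 c
    have hX1 : g1 ∈ X := Subgroup.subset_closure ⟨_, _, _, ap1, ap2, hg1⟩
    have hX2 : g2 ∈ X := Subgroup.subset_closure ⟨_, _, _, pb1, pb2, hg2⟩
    have e : g1 * g2 = g * (g2 * g1) := by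
      refine ext_single fun q => ?_
      simp only [Units.val_mul, ← Matrix.mulVec_mulVec, hg, hg1, hg2]
      obtain ⟨w, hw⟩ : ∃ w : Fin m ⊕ Fin m → F, w = Pi.single q 1 := ⟨_, rfl⟩
      rw [← hw]
      have a1 : a.swap ≠ a := swap_ne a
      have a2 : b.swap ≠ b := swap_ne b
      have a3 : a.swap ≠ b := fun h => hab' (by rw [← h, Sum.swap_swap])
      have a4 : a.swap ≠ Sum.inr p := fun h => ap1 (by rw [← Sum.swap_swap a, h]; rfl)
      have a5 : a.swap ≠ Sum.inl p := fun h => ap2 (by rw [← Sum.swap_swap a, h])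
      have a6 : b.swap ≠ Sum.inr p := fun h => hpb (by rw [← pl_swap b, h]; rfl)
      have a7 : b.swap ≠ Sum.inl p := fun h => hpb (by rw [← pl_swap b, h]; rfl)
      funext r
      simp only [sel_apply, Sum.swap_inl, Sum.swap_inr]
      simp only [a1, a2, a3, a4, a5, a6, a7, Ne.symm hab', ap1, ap2, Ne.symm pb1, Ne.symm pb2, hab, Ne.symm hab,
        Ne.symm ap1, pb1, if_false, if_true, Sum.inl.injEq, Sum.inr.injEq, reduceCtorEq]
      split_ifs <;> ring
    rw [show g = ⁅g1, g2⁆ by rw [commutatorElement_def, e]; group]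
    exact Subgroup.commutator_mem_commutator (gens_le hX1) (gens_le hX2)

end Last

end Cfsg.Agent.Lie.PlusGen
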