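import Cfsg.Agent.Lib.Lie.Relations

/-!
An abstract group with elements x_r(t) satisfying the relations of a Chevalley datum, and the
product form of its unipotent subgroups attached to closed sets of roots.
-/

set_option autoImplicit false

namespace Cfsg.Agent.Lie

open Cfsg.Lie

/-- The word n_r(t) evaluated in a group. -/
def nElt {Γ F : Type*} [Group Γ] [Field F] (D : ChevalleyDatum) (x : ℕ → F → Γ) (r : ℕ) (t : F) : Γ :=
  x r t * x (D.neg r) (-t⁻¹) * x r t

/-- A group with elements satisfying the additivity and commutator relations. -/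
structure CommSys {D : ChevalleyDatum} (hF : Facts D) (F : Type*) [Field F] (Γ : Type*) [Group Γ] where
  x : ℕ → F → Γ
  x_out : ∀ r t, D.nroots ≤ r → x r t = 1
  x_add : ∀ r t u, x r (t + u) = x r t * x r u
  x_comm : ∀ r s, r < D.nroots → s < D.nroots → s ≠ r → s ≠ D.neg r → ∀ t u,
    x s u * x r t = x r t * x s u * ((D.commWord F r s t u).map fun p => x p.1 p.2).prod

/-- A group with elements satisfying Steinberg's relations. -/
structure RootSys {D : ChevalleyDatum} (hF : Facts D) (F : Type*) [Field F] (Γ : Type*) [Group Γ]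
    extends CommSys hF F Γ where
  n_conj : ∀ i, i < D.rank → ∀ s, s < D.nroots → ∀ t,
    nElt D x (D.simple i) 1 * x s t * (nElt D x (D.simple i) 1)⁻¹ =
      x (D.reflectRoot i s) (hF.sgn F i s * t)

namespace Facts

variable {D : ChevalleyDatum} (hF : Facts D)

include hF in
/-- Roots in the commutator word. -/
theorem commTerms_psi {r s : ℕ} (hr : r < D.nroots) (hs : s < D.nroots) {c : ℕ × ℤ × ℕ × ℕ}
    (hc : c ∈ D.commTerms r s) :
    1 ≤ c.2.2.1 ∧ 1 ≤ c.2.2.2 ∧ ∀ j, j < D.rank →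
      D.cartan j c.1 = c.2.2.1 * D.cartan j r + c.2.2.2 * D.cartan j s := by
  simp only [ChevalleyDatum.commTerms, List.mem_filterMap, List.mem_cons, List.not_mem_nil,
    or_false] at hc
  obtain ⟨x, hx, hxc⟩ := hc
  obtain ⟨k, hk, rfl⟩ := Option.map_eq_some_iff.1 hxc
  rcases hx with rfl | rfl | rfl | rfl | rfl | rfl | rfl <;>
    refine ⟨by norm_num, by norm_num, fun j hj => ?_⟩
  · rw [hF.chainRoot_wt hr (by norm_num) hk hj]; push_cast; ring
  · rw [hF.chainRoot_wt hr (by norm_num) hk hj]; push_cast; ring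
  · rw [hF.chainRoot_wt hs (by norm_num) hk hj]; push_cast; ring
  · rw [hF.chainRoot_wt hr (by norm_num) hk hj]; push_cast; ring
  · rw [hF.chainRoot_wt hs (by norm_num) hk hj]; push_cast; ring
  · obtain ⟨k₁, h1, h2⟩ := Option.bind_eq_some_iff.1 hk
    rw [hF.chainRoot_wt (hF.chainRoot_lt hr h1) le_rfl h2 hj, hF.chainRoot_wt hr (by norm_num) h1 hj]
    push_cast; ring
  · obtain ⟨k₁, h1, h2⟩ := Option.bind_eq_some_iff.1 hk
    rw [hF.chainRoot_wt (hF.chainRoot_lt hs h1) le_rfl h2 hj, hF.chainRoot_wt hs (by norm_num) h1 hj]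
    push_cast; ring

theorem commTerms_psi' {r s : ℕ} (hr : r < D.nroots) (hs : s < D.nroots) {c : ℕ × ℤ × ℕ × ℕ}
    (hc : c ∈ D.commTerms r s) :
    hF.psi c.1 = c.2.2.1 * hF.psi r + c.2.2.2 * hF.psi s := by
  simp only [psi, psiOf, Finset.mul_sum, ← Finset.sum_add_distrib]
  refine Finset.sum_congr rfl fun j hj => ?_
  rw [(hF.commTerms_psi hr hs hc).2.2 j (Finset.mem_range.1 hj)]
  ring

theorem lt_of_psi_lt {r s : ℕ} (hr : r < D.nroots) (h : hF.psi r < hF.psi s) : r < s := by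
  by_contra hc
  rcases (not_lt.1 hc).lt_or_eq with hlt | rfl
  · exact absurd h (not_lt.2 (hF.psi_lt hlt hr).le)
  · exact absurd h (lt_irrefl _)

include hF in
/-- A root occurring in the commutator word of two positive roots is beyond both. -/
theorem commTerms_gt {r s : ℕ} (hr : r < D.nroots) (hs : s < D.nroots)
    (hr' : D.nroots / 2 ≤ r) (hs' : D.nroots / 2 ≤ s) {c : ℕ × ℤ × ℕ × ℕ}
    (hc : c ∈ D.commTerms r s) : c.1 < D.nroots ∧ r < c.1 ∧ s < c.1 := by
  obtain ⟨h1, h2, -⟩ := hF.commTerms_psi hr hs hc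
  have h := hF.commTerms_psi' hr hs hc
  have a := hF.psi_pos hr hr'
  have b := hF.psi_pos hs hs'
  have h1' : (1 : ℤ) ≤ c.2.2.1 := by exact_mod_cast h1
  have h2' : (1 : ℤ) ≤ c.2.2.2 := by exact_mod_cast h2
  exact ⟨hF.commTerms_lt hr hs c hc, hF.lt_of_psi_lt hr (by nlinarith),
    hF.lt_of_psi_lt hs (by nlinarith)⟩

end Facts

/-- An increasing list of positive roots closed under the commutator formula. -/
structure ClosedList (D : ChevalleyDatum) (L : List ℕ) : Prop where
  sorted : L.Pairwise (· < ·)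
  mem_pos : ∀ r ∈ L, D.nroots / 2 ≤ r ∧ r < D.nroots
  closed : ∀ r ∈ L, ∀ s ∈ L, r ≠ s → ∀ c ∈ D.commTerms r s, c.1 ∈ L

theorem ClosedList.tail {D : ChevalleyDatum} {hF : Facts D} {m : ℕ} {L : List ℕ}
    (h : ClosedList D (m :: L)) : ClosedList D L := by
  refine ⟨(List.pairwise_cons.1 h.sorted).2, fun r hr => h.mem_pos r (List.mem_cons_of_mem _ hr), ?_⟩
  intro r hr s hs hne c hc
  obtain ⟨hr1, hr2⟩ := h.mem_pos r (List.mem_cons_of_mem _ hr)
  obtain ⟨hs1, hs2⟩ := h.mem_pos s (List.mem_cons_of_mem _ hs)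
  have hgt := (hF.commTerms_gt hr2 hs2 hr1 hs1 hc).2.1
  have hmr := (List.pairwise_cons.1 h.sorted).1 r hr
  rcases List.mem_cons.1 (h.closed r (List.mem_cons_of_mem _ hr) s (List.mem_cons_of_mem _ hs) hne c hc)
    with rfl | hmem
  · omega
  · exact hmem

namespace CommSys

variable {D : ChevalleyDatum} {hF : Facts D} {F : Type*} [Field F] {Γ : Type*} [Group Γ]
  (S : CommSys hF F Γ)

theorem x_zero (r : ℕ) : S.x r 0 = 1 := by
  have h := S.x_add r 0 0
  rwa [add_zero, left_eq_mul] at h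

theorem x_neg (r : ℕ) (t : F) : S.x r (-t) = (S.x r t)⁻¹ := by
  rw [eq_inv_iff_mul_eq_one, ← S.x_add, neg_add_cancel, S.x_zero]

/-- The root subgroup. -/
def X (r : ℕ) : Subgroup Γ := Subgroup.closure (Set.range (S.x r))

theorem x_mem_X (r : ℕ) (t : F) : S.x r t ∈ S.X r := Subgroup.subset_closure ⟨t, rfl⟩

theorem mem_X {r : ℕ} {g : Γ} : g ∈ S.X r ↔ ∃ t, S.x r t = g := by
  refine ⟨fun h => ?_, fun ⟨t, ht⟩ => ht ▸ S.x_mem_X r t⟩
  induction h using Subgroup.closure_induction with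
  | mem g hg => exact hg
  | one => exact ⟨0, S.x_zero r⟩
  | mul a b _ _ ha hb =>
    obtain ⟨t, rfl⟩ := ha
    obtain ⟨u, rfl⟩ := hb
    exact ⟨t + u, S.x_add r t u⟩
  | inv a _ ha =>
    obtain ⟨t, rfl⟩ := ha
    exact ⟨-t, S.x_neg r t⟩

/-- The subgroup generated by the root elements of a list of roots. -/
def US (L : List ℕ) : Subgroup Γ := Subgroup.closure {g | ∃ r ∈ L, ∃ t, S.x r t = g}

theorem x_mem_US {L : List ℕ} {r : ℕ} (hr : r ∈ L) (t : F) : S.x r t ∈ S.US L :=
  Subgroup.subset_closure ⟨r, hr, t, rfl⟩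

theorem US_le {L : List ℕ} {H : Subgroup Γ} (h : ∀ r ∈ L, ∀ t, S.x r t ∈ H) : S.US L ≤ H :=
  (Subgroup.closure_le _).2 fun _ ⟨r, hr, t, ht⟩ => ht ▸ h r hr t

theorem US_mono {L L' : List ℕ} (h : ∀ r ∈ L, r ∈ L') : S.US L ≤ S.US L' :=
  S.US_le fun r hr t => S.x_mem_US (h r hr) t

theorem word_mem {H : Subgroup Γ} {w : List (ℕ × F)} (h : ∀ p ∈ w, S.x p.1 p.2 ∈ H) :
    (w.map fun p => S.x p.1 p.2).prod ∈ H := by
  apply H.list_prod_mem
  intro g hg
  obtain ⟨p, hp, rfl⟩ := List.mem_map.1 hg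
  exact h p hp

/-- Conjugate of x_s(u) by x_r(t), from the commutator formula. -/
theorem x_conj (r s : ℕ) (hr : r < D.nroots) (hs : s < D.nroots) (h1 : s ≠ r) (h2 : s ≠ D.neg r)
    (t u : F) :
    (S.x r t)⁻¹ * S.x s u * S.x r t = S.x s u * ((D.commWord F r s t u).map fun p => S.x p.1 p.2).prod := by
  rw [mul_assoc, S.x_comm r s hr hs h1 h2 t u, mul_assoc, inv_mul_cancel_left]

/-- Conjugation by x_r(t) keeps US L inside US L when the commutators stay inside. -/
theorem conj_mem_US {L : List ℕ} {r : ℕ} (hr : r < D.nroots)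
    (h : ∀ s ∈ L, s < D.nroots ∧ s ≠ D.neg r ∧ (s ≠ r → ∀ c ∈ D.commTerms r s, c.1 ∈ L)) (t : F)
    {g : Γ} (hg : g ∈ S.US L) : (S.x r t)⁻¹ * g * S.x r t ∈ S.US L := by
  induction hg using Subgroup.closure_induction with
  | mem g hg =>
    obtain ⟨s, hsL, u, rfl⟩ := hg
    obtain ⟨hs, hneg, hcl⟩ := h s hsL
    by_cases hsr : s = r
    · subst hsr
      rw [← S.x_neg, ← S.x_add, ← S.x_add]
      exact S.x_mem_US hsL _
    · rw [S.x_conj r s hr hs hsr hneg]
      refine mul_mem (S.x_mem_US hsL u) (S.word_mem fun p hp => ?_)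
      obtain ⟨c, hc, rfl⟩ := List.mem_map.1 hp
      exact S.x_mem_US (hcl hsr c hc) _
  | one => simp
  | mul a b _ _ ha hb =>
    rw [show (S.x r t)⁻¹ * (a * b) * S.x r t =
      ((S.x r t)⁻¹ * a * S.x r t) * ((S.x r t)⁻¹ * b * S.x r t) by group]
    exact mul_mem ha hb
  | inv a _ ha =>
    rw [show (S.x r t)⁻¹ * a⁻¹ * S.x r t = ((S.x r t)⁻¹ * a * S.x r t)⁻¹ by group]
    exact inv_mem ha

theorem x_normalizes {L : List ℕ} {r : ℕ} (hr : r < D.nroots)
    (h : ∀ s ∈ L, s < D.nroots ∧ s ≠ D.neg r ∧ (s ≠ r → ∀ c ∈ D.commTerms r s, c.1 ∈ L)) (t : F) :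
    S.x r t ∈ Subgroup.normalizer (S.US L : Set Γ) := by
  rw [Subgroup.mem_normalizer_iff'']
  intro g
  refine ⟨fun hg => S.conj_mem_US hr h t hg, fun hg => ?_⟩
  have := S.conj_mem_US hr h (-t) hg
  rw [S.x_neg] at this
  simpa [mul_assoc] using this

/-- The ordered product of root elements. -/
def prodOver (L : List ℕ) (t : ℕ → F) : Γ := (L.map fun r => S.x r (t r)).prod

theorem prodOver_mem (L : List ℕ) (t : ℕ → F) : S.prodOver L t ∈ S.US L := by
  apply Subgroup.list_prod_mem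
  intro g hg
  obtain ⟨r, hr, rfl⟩ := List.mem_map.1 hg
  exact S.x_mem_US hr _

theorem prodOver_congr {L : List ℕ} {t t' : ℕ → F} (h : ∀ r ∈ L, t r = t' r) :
    S.prodOver L t = S.prodOver L t' := by
  unfold prodOver
  congr 1
  exact List.map_congr_left fun r hr => by rw [h r hr]

/-- Every element of US L is an ordered product. -/
theorem exists_prodOver : ∀ {L : List ℕ}, ClosedList D L → ∀ {g : Γ}, g ∈ S.US L →
    ∃ t : ℕ → F, g = S.prodOver L t := by
  intro L
  induction L with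
  | nil =>
    intro _ g hg
    refine ⟨fun _ => 0, ?_⟩
    have : S.US [] = ⊥ := by simp [US]
    rw [this, Subgroup.mem_bot] at hg
    simp [hg, prodOver]
  | cons m L ih =>
    intro hL g hg
    have hT : ClosedList D L := hL.tail (hF := hF)
    obtain ⟨hm1, hm2⟩ := hL.mem_pos m (by simp)
    have hlt := (List.pairwise_cons.1 hL.sorted).1
    have hnorm : ∀ t, S.x m t ∈ Subgroup.normalizer (S.US L : Set Γ) := by
      refine fun t => S.x_normalizes hm2 (fun s hs => ?_) t
      obtain ⟨hs1, hs2⟩ := hT.mem_pos s hs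
      refine ⟨hs2, ?_, fun hne c hc => ?_⟩
      · intro h
        have := (hF.neg_ge_iff hm2).1 (h ▸ hs1)
        omega
      · rcases List.mem_cons.1 (hL.closed m (by simp) s (List.mem_cons_of_mem _ hs) (Ne.symm hne) c hc)
          with h | h
        · have := (hF.commTerms_gt hm2 hs2 hm1 hs1 hc).2.1
          omega
        · exact h
    have key : ∃ a, ∃ u ∈ S.US L, g = S.x m a * u := by
      induction hg using Subgroup.closure_induction with
      | mem g hg =>
        obtain ⟨r, hr, a, rfl⟩ := hg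
        rcases List.mem_cons.1 hr with rfl | hr
        · exact ⟨a, 1, one_mem _, by simp⟩
        · exact ⟨0, _, S.x_mem_US hr a, by simp [S.x_zero]⟩
      | one => exact ⟨0, 1, one_mem _, by simp [S.x_zero]⟩
      | mul p q _ _ hp hq =>
        obtain ⟨a, u, hu, rfl⟩ := hp
        obtain ⟨b, v, hv, rfl⟩ := hq
        refine ⟨a + b, (S.x m b)⁻¹ * u * S.x m b * v,
          mul_mem ((Subgroup.mem_normalizer_iff''.1 (hnorm b) u).1 hu) hv, ?_⟩
        rw [S.x_add]
        group
      | inv p _ hp =>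
        obtain ⟨a, u, hu, rfl⟩ := hp
        refine ⟨-a, S.x m a * u⁻¹ * (S.x m a)⁻¹,
          (Subgroup.mem_normalizer_iff.1 (hnorm a) u⁻¹).1 (inv_mem hu), ?_⟩
        rw [S.x_neg]
        group
    obtain ⟨a, u, hu, rfl⟩ := key
    obtain ⟨t, rfl⟩ := ih hT hu
    refine ⟨Function.update t m a, ?_⟩
    rw [prodOver, prodOver, List.map_cons, List.prod_cons, Function.update_self]
    congr 2
    refine List.map_congr_left fun r hr => ?_
    rw [Function.update_of_ne (ne_of_gt (hlt r hr))]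

end CommSys

end Cfsg.Agent.Lie
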