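import Cfsg.Agent.Lib.Lie.Group
import Cfsg.Agent.Lib.Lie.RootSys

/-!
Triangularity: uniqueness of the product form, nilpotency of the unipotent subgroups.
-/

set_option autoImplicit false

namespace Cfsg.Agent.Lie

open Cfsg.Lie Matrix
open scoped MatrixGroups commutatorElement

variable {D : ChevalleyDatum} {F : Type*} [Field F]

namespace Facts

variable (hF : Facts D)

/-- Height of a coordinate. -/
noncomputable def hgt : D.Idx → ℤ := Sum.elim (fun _ => 0) fun s => hF.psi s.val

/-- M raises heights by at least k. -/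
def Raises (k : ℤ) (M : Matrix D.Idx D.Idx F) : Prop :=
  ∀ p q, M p q ≠ 0 → k ≤ hF.hgt p - hF.hgt q

theorem Raises.add {k : ℤ} {M N : Matrix D.Idx D.Idx F} (hM : hF.Raises k M) (hN : hF.Raises k N) :
    hF.Raises k (M + N) := by
  intro p q h
  by_cases hp : M p q = 0
  · exact hN p q (by simpa [hp] using h)
  · exact hM p q hp

theorem Raises.neg {k : ℤ} {M : Matrix D.Idx D.Idx F} (hM : hF.Raises k M) : hF.Raises k (-M) :=
  fun p q h => hM p q (by simpa using h)

theorem Raises.mono {k k' : ℤ} (h : k' ≤ k) {M : Matrix D.Idx D.Idx F} (hM : hF.Raises k M) :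
    hF.Raises k' M := fun p q hh => h.trans (hM p q hh)

theorem Raises.mul {a b : ℤ} {M N : Matrix D.Idx D.Idx F} (hM : hF.Raises a M) (hN : hF.Raises b N) :
    hF.Raises (a + b) (M * N) := by
  intro p q h
  rw [Matrix.mul_apply] at h
  obtain ⟨r, -, hr⟩ := Finset.exists_ne_zero_of_sum_ne_zero h
  have h1 := hM p r (left_ne_zero_of_mul hr)
  have h2 := hN r q (right_ne_zero_of_mul hr)
  omega

theorem raises_one : hF.Raises 0 (1 : Matrix D.Idx D.Idx F) := by
  intro p q h
  by_cases hpq : p = q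
  · simp [hpq]
  · simp [hpq] at h

theorem hgt_le (p : D.Idx) : |hF.hgt p| ≤ ∑ q : D.Idx, |hF.hgt q| :=
  Finset.single_le_sum (f := fun q => |hF.hgt q|) (fun q _ => abs_nonneg _) (Finset.mem_univ p)

theorem raises_large {k : ℤ} (hk : 2 * ∑ q : D.Idx, |hF.hgt q| < k) {M : Matrix D.Idx D.Idx F}
    (hM : hF.Raises k M) : M = 0 := by
  ext p q
  by_contra h
  have h1 := hM p q h
  have h2 := abs_le.1 (hF.hgt_le p)
  have h3 := abs_le.1 (hF.hgt_le q)
  omega

/-- g − 1 and g⁻¹ − 1 raise heights by at least k. -/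
def raiseSubgroup (k : ℕ) : Subgroup (GL D.Idx F) where
  carrier := {g | hF.Raises k ((g : Matrix D.Idx D.Idx F) - 1) ∧
    hF.Raises k ((↑g⁻¹ : Matrix D.Idx D.Idx F) - 1)}
  one_mem' := by simp [Raises]
  inv_mem' := fun {g} ⟨h1, h2⟩ => ⟨h2, by simpa using h1⟩
  mul_mem' := by
    intro a b ha hb
    have key : ∀ M N : Matrix D.Idx D.Idx F, hF.Raises k (M - 1) → hF.Raises k (N - 1) →
        hF.Raises k (M * N - 1) := by
      intro M N hM hN
      rw [show M * N - 1 = (M - 1) * (N - 1) + ((M - 1) + (N - 1)) by noncomm_ring]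
      exact Raises.add hF (Raises.mono hF (by omega) (Raises.mul hF hM hN)) (Raises.add hF hM hN)
    refine ⟨?_, ?_⟩
    · rw [Units.val_mul]; exact key _ _ ha.1 hb.1
    · rw [_root_.mul_inv_rev, Units.val_mul]; exact key _ _ hb.2 ha.2

theorem raiseSubgroup_antitone {a b : ℕ} (h : a ≤ b) :
    hF.raiseSubgroup (F := F) b ≤ hF.raiseSubgroup a := fun _ hg =>
  ⟨Raises.mono hF (by exact_mod_cast h) hg.1, Raises.mono hF (by exact_mod_cast h) hg.2⟩

theorem commutator_raise (a b : ℕ) :
    ⁅hF.raiseSubgroup (F := F) a, hF.raiseSubgroup (F := F) b⁆ ≤ hF.raiseSubgroup (a + b) := by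
  rw [Subgroup.commutator_le]
  intro g hg h hh
  have key : ∀ (p q : ℕ) (g h : GL D.Idx F), g ∈ hF.raiseSubgroup p → h ∈ hF.raiseSubgroup q →
      hF.Raises ((p : ℤ) + q) ((↑⁅g, h⁆ : Matrix D.Idx D.Idx F) - 1) := by
    intro p q g h hg hh
    have hid : (↑⁅g, h⁆ : Matrix D.Idx D.Idx F) - 1 =
        (((g : Matrix D.Idx D.Idx F) - 1) * ((h : Matrix D.Idx D.Idx F) - 1) -
          ((h : Matrix D.Idx D.Idx F) - 1) * ((g : Matrix D.Idx D.Idx F) - 1)) *
        ((((g⁻¹ : GL D.Idx F) : Matrix D.Idx D.Idx F) - 1) + 1) *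
        ((((h⁻¹ : GL D.Idx F) : Matrix D.Idx D.Idx F) - 1) + 1) := by
      rw [commutatorElement_def, sub_add_cancel, sub_add_cancel,
        show ((g : Matrix D.Idx D.Idx F) - 1) * ((h : Matrix D.Idx D.Idx F) - 1) -
          ((h : Matrix D.Idx D.Idx F) - 1) * ((g : Matrix D.Idx D.Idx F) - 1) =
          ((g * h : GL D.Idx F) : Matrix D.Idx D.Idx F) - ((h * g : GL D.Idx F) : Matrix D.Idx D.Idx F) by
            push_cast; noncomm_ring, sub_mul, sub_mul, ← Units.val_mul, ← Units.val_mul,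
        ← Units.val_mul, ← Units.val_mul]
      simp [mul_assoc]
    rw [hid]
    have h0g : hF.Raises 0 ((((g⁻¹ : GL D.Idx F) : Matrix D.Idx D.Idx F) - 1) + 1) :=
      Raises.add hF (Raises.mono hF (by omega) hg.2) hF.raises_one
    have h0h : hF.Raises 0 ((((h⁻¹ : GL D.Idx F) : Matrix D.Idx D.Idx F) - 1) + 1) :=
      Raises.add hF (Raises.mono hF (by omega) hh.2) hF.raises_one
    have hc : hF.Raises ((p : ℤ) + q)
        (((g : Matrix D.Idx D.Idx F) - 1) * ((h : Matrix D.Idx D.Idx F) - 1) -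
          ((h : Matrix D.Idx D.Idx F) - 1) * ((g : Matrix D.Idx D.Idx F) - 1)) := by
      rw [sub_eq_add_neg]
      exact Raises.add hF (Raises.mul hF hg.1 hh.1)
        (Raises.neg hF (Raises.mono hF (by omega) (Raises.mul hF hh.1 hg.1)))
    exact Raises.mono hF (by omega) (Raises.mul hF (Raises.mul hF hc h0g) h0h)
  refine ⟨?_, ?_⟩
  · have := key a b g h hg hh
    exact_mod_cast this
  · rw [commutatorElement_inv]
    have := key b a h g hh hg
    push_cast
    rw [add_comm]
    exact this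

include hF in
theorem psiOf_neg (w : ℕ → ℤ) {s : ℕ} (hs : s < D.nroots) : psiOf D w (D.neg s) = -psiOf D w s := by
  simp only [psiOf, ← Finset.sum_neg_distrib]
  refine Finset.sum_congr rfl fun j hj => ?_
  rw [hF.cartan_neg j (Finset.mem_range.1 hj) s hs]
  ring

include hF in
theorem psiOf_chain (w : ℕ → ℤ) {s v : ℕ} (hs : s < D.nroots) {q : (ℕ × ℤ) × ℕ}
    (hq : q ∈ (D.chainEntry s v).zipIdx) :
    psiOf D w q.1.1 = psiOf D w v + (q.2 + 1 : ℕ) * psiOf D w s := by
  simp only [psiOf, Finset.mul_sum, ← Finset.sum_add_distrib]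
  refine Finset.sum_congr rfl fun j hj => ?_
  rw [hF.chain_cartan s hs v q hq j (Finset.mem_range.1 hj)]
  ring

/-- A weight functional on coordinates. -/
def hgtW (w : ℕ → ℤ) : D.Idx → ℤ := Sum.elim (fun _ => 0) fun s => psiOf D w s.val

include hF in
/-- The nonzero entries of x_r(t) − 1 shift weights by positive multiples of psi r. -/
theorem x_sub_one_suppW (w : ℕ → ℤ) (r : ℕ) (hr : r < D.nroots) (t : F) (p q : D.Idx)
    (h : (D.x F r t - 1) p q ≠ 0) : ∃ k : ℕ, 1 ≤ k ∧ hgtW w p - hgtW (D := D) w q = k * psiOf D w r := by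
  have hq : (D.x F r t - 1) p q = ((D.x F r t - 1) *ᵥ eI D F (idxEquiv D q : ℕ)) p := by
    rw [eI_eq_single, Matrix.mulVec_single_one]; rfl
  rw [hq, sub_mulVec, one_mulVec, Pi.sub_apply] at h
  have hp : ∀ k, eI D F k p ≠ 0 → (idxEquiv D p : ℕ) = k := by
    intro k hk
    by_contra hc
    simp [eI_apply, hc] at hk
  cases q with
  | inl i =>
    rw [idx_inl, x_mulVec_eH r hr t i i.isLt, Pi.sub_apply, Pi.smul_apply, sub_sub_cancel_left] at h
    have h' := hp (D.rank + r) (fun h0 => h (by simp [eR, h0]))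
    cases p with
    | inl j => rw [idx_inl] at h'; have := j.isLt; omega
    | inr v =>
      rw [idx_inr] at h'
      exact ⟨1, le_rfl, by simp only [hgtW, Sum.elim_inl, Sum.elim_inr, show (v : ℕ) = r by omega]; simp⟩
  | inr s =>
    rw [idx_inr] at h
    change (D.x F r t *ᵥ eR D F s.val) p - eR D F s.val p ≠ 0 at h
    by_cases h1 : s.val = r
    · rw [h1, x_mulVec_self r hr, sub_self] at h; exact absurd rfl h
    by_cases h2 : s.val = D.neg r
    · rw [h2, x_mulVec_neg hF r hr, Pi.sub_apply, Pi.add_apply] at h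
      cases p with
      | inl j => exact ⟨1, le_rfl, by simp only [hgtW, Sum.elim_inl, Sum.elim_inr, h2, hF.psiOf_neg w hr]; simp⟩
      | inr v =>
        have h0 : (∑ j ∈ Finset.range D.rank, ((co D r j : F) * t) • eI D F j) (Sum.inr v) = 0 := by
          rw [Finset.sum_apply]
          refine Finset.sum_eq_zero fun j hj => ?_
          have : D.rank + (v : ℕ) ≠ j := by have := Finset.mem_range.1 hj; omega
          simp [eI_apply, idx_inr, this]
        rw [h0, add_zero, Pi.smul_apply, sub_sub_cancel_left] at h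
        have h' := hp _ (fun h0 => h (by rw [eR, h0]; simp))
        rw [idx_inr] at h'
        exact ⟨2, by norm_num, by
          simp only [hgtW, Sum.elim_inr, h2, hF.psiOf_neg w hr, show (v : ℕ) = r by omega]; ring⟩
    · rw [x_mulVec_other hF r hr t s.val s.isLt h1 h2, Pi.add_apply, add_sub_cancel_left] at h
      unfold chainVec at h
      rw [Pi.list_sum_apply] at h
      obtain ⟨w, hw, hwne⟩ : ∃ w ∈ (((D.chainEntry r s).zipIdx.map fun q =>
          ((q.1.2 : F) * t ^ (q.2 + 1)) • eR D F q.1.1).map fun f => f p), w ≠ 0 := by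
        by_contra hc
        simp only [not_exists, not_and, not_not] at hc
        exact h (List.sum_eq_zero hc)
      rw [List.map_map] at hw
      obtain ⟨qq, hqq, rfl⟩ := List.mem_map.1 hw
      simp only [Function.comp_apply, Pi.smul_apply, smul_eq_mul] at hwne
      have h' := hp _ (right_ne_zero_of_mul hwne)
      have hc := hF.psiOf_chain w hr hqq
      cases p with
      | inl j => rw [idx_inl] at h'; have := j.isLt; omega
      | inr v =>
        rw [idx_inr] at h'
        refine ⟨qq.2 + 1, by omega, ?_⟩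
        simp only [hgtW, Sum.elim_inr, show (v : ℕ) = qq.1.1 by omega]
        rw [hc]
        ring

include hF in
/-- The nonzero entries of x_r(t) − 1 shift heights by positive multiples of psi r. -/
theorem x_sub_one_supp (r : ℕ) (hr : r < D.nroots) (t : F) (p q : D.Idx)
    (h : (D.x F r t - 1) p q ≠ 0) : ∃ k : ℕ, 1 ≤ k ∧ hF.hgt p - hF.hgt q = k * hF.psi r :=
  hF.x_sub_one_suppW hF.wt r hr t p q h

include hF in
theorem x_sub_one_raises (r : ℕ) (hr : r < D.nroots) (hr' : D.nroots / 2 ≤ r) (t : F) :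
    hF.Raises (hF.psi r) (D.x F r t - 1) := by
  intro p q h
  obtain ⟨k, hk, he⟩ := hF.x_sub_one_supp r hr t p q h
  have hpos := hF.psi_pos hr hr'
  have : (1 : ℤ) ≤ k := by exact_mod_cast hk
  rw [he]
  nlinarith

include hF in
theorem x_sub_one_lowers (r : ℕ) (hr : r < D.nroots) (hr' : r < D.nroots / 2) (t : F) :
    hF.Raises 1 (D.x F r t - 1)ᵀ := by
  intro p q h
  obtain ⟨k, hk, he⟩ := hF.x_sub_one_supp r hr t q p h
  have hpos := hF.psi_pos (hF.neg_lt hr) ((hF.neg_ge_iff hr).2 hr')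
  rw [hF.psi_neg hr] at hpos
  have : (1 : ℤ) ≤ k := by exact_mod_cast hk
  nlinarith

/-- g − 1 and g⁻¹ − 1 lower heights. -/
def lowerSubgroup : Subgroup (GL D.Idx F) where
  carrier := {g | hF.Raises 1 ((g : Matrix D.Idx D.Idx F) - 1)ᵀ ∧
    hF.Raises 1 ((↑g⁻¹ : Matrix D.Idx D.Idx F) - 1)ᵀ}
  one_mem' := by simp [Raises]
  inv_mem' := fun {g} ⟨h1, h2⟩ => ⟨h2, by simpa using h1⟩
  mul_mem' := by
    intro a b ha hb
    have key : ∀ M N : Matrix D.Idx D.Idx F, hF.Raises 1 (M - 1)ᵀ → hF.Raises 1 (N - 1)ᵀ →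
        hF.Raises 1 (M * N - 1)ᵀ := by
      intro M N hM hN
      rw [show M * N - 1 = (M - 1) * (N - 1) + ((M - 1) + (N - 1)) by noncomm_ring,
        Matrix.transpose_add, Matrix.transpose_mul, Matrix.transpose_add]
      exact Raises.add hF (Raises.mono hF (by norm_num) (Raises.mul hF hN hM)) (Raises.add hF hM hN)
    refine ⟨?_, ?_⟩
    · rw [Units.val_mul]; exact key _ _ ha.1 hb.1
    · rw [_root_.mul_inv_rev, Units.val_mul]; exact key _ _ hb.2 ha.2

theorem xg_mem_raise (r : ℕ) (hr : r < D.nroots) (hr' : D.nroots / 2 ≤ r) (t : F) (k : ℕ)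
    (hk : (k : ℤ) ≤ hF.psi r) : hF.xg r t ∈ hF.raiseSubgroup k := by
  refine ⟨Raises.mono hF hk (hF.x_sub_one_raises r hr hr' t), ?_⟩
  rw [← hF.xg_neg]
  exact Raises.mono hF hk (hF.x_sub_one_raises r hr hr' (-t))

theorem xg_mem_raise_succ {m r : ℕ} (hm : m < D.nroots) (hm' : D.nroots / 2 ≤ m) (hmr : m < r)
    (hr : r < D.nroots) (t : F) : hF.xg r t ∈ hF.raiseSubgroup ((hF.psi m).toNat + 1) := by
  refine hF.xg_mem_raise r hr (by omega) t _ ?_
  have h1 := hF.psi_lt hmr hr
  have h2 := hF.psi_pos hm hm'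
  push_cast
  rw [Int.toNat_of_nonneg h2.le]
  omega

theorem xg_eq_zero_of_mem_raise {m : ℕ} (hm : m < D.nroots) (hm' : D.nroots / 2 ≤ m) {t : F}
    (h : hF.xg m t ∈ hF.raiseSubgroup ((hF.psi m).toNat + 1)) : t = 0 := by
  obtain ⟨d, hd⟩ := hF.co_primitive m hm
  have hpos := hF.psi_pos hm hm'
  have hne : ∀ j, j < D.rank → (co D m j : F) * t = 0 := by
    intro j hj
    by_contra hc
    have hs := hF.neg_lt hm
    have hcol := congrFun (x_mulVec_neg (F := F) hF m hm t) (Sum.inl ⟨j, hj⟩)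
    rw [eR, show D.rank + D.neg m = (idxEquiv D (Sum.inr ⟨D.neg m, hs⟩) : ℕ) from
      (idx_inr D ⟨_, hs⟩).symm, eI_eq_single, Matrix.mulVec_single_one] at hcol
    have h1 : (j : ℕ) ≠ D.rank + m := by omega
    simp only [Pi.sub_apply, Pi.add_apply, Finset.sum_apply, Pi.smul_apply, smul_eq_mul,
      Pi.single_apply, Sum.inl_ne_inr, if_false, zero_add, eI_apply, idx_inl, h1, mul_zero,
      sub_zero, mul_ite, mul_one] at hcol
    rw [Finset.sum_ite_eq, if_pos (Finset.mem_range.2 hj)] at hcol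
    have := h.1 (Sum.inl ⟨j, hj⟩) (Sum.inr ⟨D.neg m, hs⟩) (by
      rw [Matrix.sub_apply, Matrix.one_apply_ne (by simp), sub_zero, coe_xg]
      rw [show D.x F m t (Sum.inl ⟨j, hj⟩) (Sum.inr ⟨D.neg m, hs⟩) = _ from hcol]
      exact hc)
    simp only [hgt, Sum.elim_inl, Sum.elim_inr, hF.psi_neg hm] at this
    push_cast at this
    rw [Int.toNat_of_nonneg hpos.le] at this
    omega
  have hcast : ((∑ j ∈ Finset.range D.rank, d j * co D m j : ℤ) : F) = 1 := by simp [hd]
  calc t = ((∑ j ∈ Finset.range D.rank, d j * co D m j : ℤ) : F) * t := by rw [hcast, one_mul]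
    _ = 0 := by
      rw [Int.cast_sum, Finset.sum_mul]
      refine Finset.sum_eq_zero fun j hj => ?_
      rw [Int.cast_mul, mul_assoc, hne j (Finset.mem_range.1 hj), mul_zero]

/-- The root elements in GL satisfy the relations. -/
noncomputable def sys (F : Type*) [Field F] : RootSys hF F (GL D.Idx F) where
  x := hF.xg
  x_out r t h := hF.xg_out h t
  x_add := hF.xg_add
  x_comm r s hr hs h1 h2 t u := by
    ext1
    have hw := hF.coe_wg (D.commWord F r s t u)
    simp only [wg] at hw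
    simp only [Units.val_mul, coe_xg, hw, hF.x_comm r s hr hs h1 h2 t u]
  n_conj i hi s hs t := by
    have : nElt D hF.xg (D.simple i) (1 : F) = hF.ng (D.simple i) 1 := (hF.ng_eq _ _).symm
    rw [this]
    exact hF.ng_conj i hi s hs t

theorem sys_x (r : ℕ) (t : F) : (hF.sys F).x r t = hF.xg r t := rfl

/-- Uniqueness of the ordered product. -/
theorem prodOver_inj : ∀ {L : List ℕ}, ClosedList D L → ∀ {t t' : ℕ → F},
    (hF.sys F).prodOver L t = (hF.sys F).prodOver L t' → ∀ r ∈ L, t r = t' r := by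
  intro L
  induction L with
  | nil => simp
  | cons m L ih =>
    intro hL t t' h r hr
    have hT : ClosedList D L := hL.tail (hF := hF)
    obtain ⟨hm1, hm2⟩ := hL.mem_pos m (by simp)
    have hlt := (List.pairwise_cons.1 hL.sorted).1
    have hle : (hF.sys F).US L ≤ hF.raiseSubgroup ((hF.psi m).toNat + 1) :=
      CommSys.US_le _ fun s hs u => hF.xg_mem_raise_succ hm2 hm1 (hlt s hs) (hT.mem_pos s hs).2 u
    simp only [CommSys.prodOver, List.map_cons, List.prod_cons] at h
    have hd : (hF.sys F).x m (t m - t' m) ∈ hF.raiseSubgroup ((hF.psi m).toNat + 1) := by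
      have he : (hF.sys F).x m (t m - t' m) =
          (hF.sys F).prodOver L t' * ((hF.sys F).prodOver L t)⁻¹ := by
        simp only [CommSys.prodOver]
        rw [sub_eq_neg_add, CommSys.x_add, CommSys.x_neg, eq_mul_inv_iff_mul_eq, mul_assoc, h,
          inv_mul_cancel_left]
      rw [he]
      exact mul_mem (hle (CommSys.prodOver_mem _ L t'))
        (inv_mem (hle (CommSys.prodOver_mem _ L t)))
    have heq : t m = t' m := sub_eq_zero.1 (hF.xg_eq_zero_of_mem_raise hm2 hm1 hd)
    rcases List.mem_cons.1 hr with rfl | hr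
    · exact heq
    · refine ih hT ?_ r hr
      simp only [CommSys.prodOver]
      rw [heq] at h
      exact mul_left_cancel h

/-- The positive roots in increasing order. -/
def posL (D : ChevalleyDatum) : List ℕ :=
  (List.range D.nroots).filter fun r => decide (D.nroots / 2 ≤ r)

theorem mem_posL {D : ChevalleyDatum} {r : ℕ} :
    r ∈ posL D ↔ D.nroots / 2 ≤ r ∧ r < D.nroots := by
  simp [posL, and_comm]

include hF in
theorem posRoots_eq : D.posRoots = posL D := by
  simp only [ChevalleyDatum.posRoots, posL]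
  refine List.filter_congr fun r hr => ?_
  rw [List.mem_range] at hr
  exact decide_eq_decide.2 ((hF.isPosRoot_iff r).trans (and_iff_left hr))

include hF in
theorem closedList_posL : ClosedList D (posL D) := by
  refine ⟨List.pairwise_lt_range.filter _, fun r hr => mem_posL.1 hr, fun r hr s hs hne c hc => ?_⟩
  obtain ⟨hr1, hr2⟩ := mem_posL.1 hr
  obtain ⟨hs1, hs2⟩ := mem_posL.1 hs
  obtain ⟨h1, h2, -⟩ := hF.commTerms_gt hr2 hs2 hr1 hs1 hc
  exact mem_posL.2 ⟨by omega, h1⟩

theorem posUnipotent_eq (F : Type*) [Field F] : D.posUnipotent F = (hF.sys F).US (posL D) := by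
  unfold ChevalleyDatum.posUnipotent CommSys.US
  congr 1
  ext g
  simp only [Set.mem_ofPred_eq, sys_x, mem_posL, hF.isPosRoot_iff, hF.eq_xg]
  constructor
  · rintro ⟨r, t, hr, rfl⟩; exact ⟨r, hr, t, rfl⟩
  · rintro ⟨r, hr, t, rfl⟩; exact ⟨r, t, hr, rfl⟩

theorem posUnipotent_le_raise (F : Type*) [Field F] :
    D.posUnipotent F ≤ hF.raiseSubgroup 1 := by
  rw [hF.posUnipotent_eq F]
  refine CommSys.US_le _ fun r hr t => ?_
  obtain ⟨h1, h2⟩ := mem_posL.1 hr
  have := hF.psi_pos h2 h1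
  exact hF.xg_mem_raise r h2 h1 t 1 (by push_cast; omega)

end Facts

end Cfsg.Agent.Lie
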