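import Cfsg.Agent.Lib.Lie.CTHom

/-!
Curtis–Tits: the certificates evaluated through packed tables of the reflections and supports.
-/

set_option autoImplicit false

namespace Cfsg.Agent.Lie

open Cfsg.Lie

/-- Byte s of a packed table. -/
def ctByte (N s : ℕ) : ℕ := (N >>> (8 * s)) &&& 255

/-- The reflections from packed tables. -/
def ctRefl (D : ChevalleyDatum) (T : List ℕ) (i s : ℕ) : ℕ :=
  if decide (i < D.rank) && decide (s < D.nroots) then ctByte (T.getD i 0) s else D.reflectRoot i s

/-- The rank two subsystems from packed supports. -/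
def ctSubF (D : ChevalleyDatum) (M i j r : ℕ) : Bool :=
  decide (r < D.nroots) && decide (i < D.rank) && decide (j < D.rank) &&
    (List.range D.rank).all fun k => k == i || k == j || !(ctByte M r).testBit k

/-- The packed reflection table is right. -/
def okReflRow (D : ChevalleyDatum) (T : List ℕ) (i : ℕ) : Bool :=
  (List.range D.nroots).all fun s => ctByte (T.getD i 0) s == D.reflectRoot i s

/-- The packed supports are right. -/
def okMask (D : ChevalleyDatum) (M : ℕ) : Bool :=
  (List.range D.nroots).all fun r => (List.range D.rank).all fun k =>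
    (!(ctByte M r).testBit k) == ((D.coroot.getD r #[]).getD k 0 == 0)

theorem ctRefl_eq {D : ChevalleyDatum} {T : List ℕ} (h : ∀ i, i < D.rank → okReflRow D T i = true) :
    ctRefl D T = D.reflectRoot := by
  funext i s
  unfold ctRefl
  split_ifs with hc
  · simp only [Bool.and_eq_true, decide_eq_true_eq] at hc
    have h' := h i hc.1
    simp only [okReflRow, List.all_eq_true, List.mem_range, beq_iff_eq] at h'
    exact h' s hc.2
  · rfl

theorem ctSubF_eq {D : ChevalleyDatum} {M : ℕ} (h : okMask D M = true) : ctSubF D M = ctSub D := by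
  funext i j r
  unfold ctSubF ctSub
  by_cases hr : r < D.nroots
  · simp only [okMask, List.all_eq_true, List.mem_range, beq_iff_eq] at h
    congr 1
    rw [Bool.eq_iff_iff]
    simp only [List.all_eq_true, List.mem_range, Bool.or_eq_true]
    constructor
    · intro H k hk
      exact (H k hk).imp id fun e => by rw [← h r hr k hk]; exact e
    · intro H k hk
      exact (H k hk).imp id fun e => by rw [h r hr k hk]; exact e
  · simp [hr]

section

variable (D : ChevalleyDatum) (R : ℕ → ℕ → ℕ) (Sb : ℕ → ℕ → ℕ → Bool)

/-- `ctWalk` with given reflections. -/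
def walkG : ℕ → ℕ → ℕ → ℕ → ℕ
  | _, _, 0, r => r
  | a, b, i + 1, r => R a (walkG b a i r)

/-- `ctDown` with given reflections. -/
def downG (r : ℕ) : ℕ :=
  ((List.range D.rank).find? fun k => decide (ctMu D (R k r) < ctMu D r)).getD 0

/-- `ctPath` with given reflections. -/
def pathG (r l : ℕ) : ℕ → ℕ → ℕ → Bool
  | _, _, 0 => true
  | a, b, i + 1 => pathG r l b a i &&
      (let v := walkG R b a i r
       let w := R a v
       (decide (ctMu D v < ctMu D r) && decide (ctMu D w < ctMu D r)) ||
         (a == l && ((v == r && w == R l r) || (w == r && v == R l r))))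

/-- `ctWord` with given reflections. -/
def wordG : List ℕ → ℕ → ℕ
  | [], r => r
  | k :: w, r => wordG w (R k r)

/-- `okDown` with given tables. -/
def okDownG : Bool := (List.range D.nroots).all fun r => ctBase D r ||
  (decide (downG D R r < D.rank) && decide (ctMu D (R (downG D R r) r) < ctMu D r) &&
    (List.range D.rank).all fun i => (List.range D.rank).all fun j =>
      !Sb i j r || downG D R r == i || downG D R r == j)

/-- `okLoop` with given tables. -/
def okLoopG : Bool := (List.range D.nroots).all fun r => ctBase D r ||
  (List.range D.rank).all fun k => decide (ctMu D r < ctMu D (R k r)) || k == downG D R r ||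
    Sb k (downG D R r) r ||
    (pathG D R r (downG D R r) (downG D R r) k (2 * ctM D k (downG D R r) - 1) &&
      walkG R (downG D R r) k (2 * ctM D k (downG D R r) - 1) r == R k r)

/-- `okPairs` with given tables. -/
def okPairsG (L : List (List (List ℕ × ℕ × ℕ))) : Bool :=
  (List.range D.rank).all fun i => (List.range D.nroots).all fun s =>
    s == D.simple i || s == D.neg (D.simple i) ||
      (let c := (L.getD i []).getD s ([], 0, 0)
       c.1.all (fun k => decide (k < D.rank)) && Sb c.2.1 c.2.2 (wordG R c.1 (D.simple i)) &&
         Sb c.2.1 c.2.2 (wordG R c.1 s))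

end

theorem walkG_eq (D : ChevalleyDatum) : ∀ i a b r, walkG D.reflectRoot a b i r = ctWalk D a b i r := by
  intro i
  induction i with
  | zero => intro a b r; rfl
  | succ i ih => intro a b r; rw [walkG, ctWalk, ih]

theorem pathG_eq (D : ChevalleyDatum) (r l : ℕ) : ∀ i a b,
    pathG D D.reflectRoot r l a b i = ctPath D r l a b i := by
  intro i
  induction i with
  | zero => intro a b; rfl
  | succ i ih => intro a b; rw [pathG, ctPath, ih, walkG_eq]

theorem wordG_eq (D : ChevalleyDatum) : ∀ w r, wordG D.reflectRoot w r = ctWord D w r := by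
  intro w
  induction w with
  | nil => intro r; rfl
  | cons k w ih => intro r; rw [wordG, ctWord, ih]

theorem okDown_of_fast {D : ChevalleyDatum} {T : List ℕ} {M : ℕ}
    (hT : ∀ i, i < D.rank → okReflRow D T i = true) (hM : okMask D M = true)
    (h : okDownG D (ctRefl D T) (ctSubF D M) = true) : okDown D = true := by
  rw [ctRefl_eq hT, ctSubF_eq hM] at h
  exact h

theorem okLoop_of_fast {D : ChevalleyDatum} {T : List ℕ} {M : ℕ}
    (hT : ∀ i, i < D.rank → okReflRow D T i = true) (hM : okMask D M = true)
    (h : okLoopG D (ctRefl D T) (ctSubF D M) = true) : okLoop D = true := by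
  rw [ctRefl_eq hT, ctSubF_eq hM] at h
  simp only [okLoopG, pathG_eq, walkG_eq] at h
  exact h

theorem okPairs_of_fast {D : ChevalleyDatum} {T : List ℕ} {M : ℕ} {L : List (List (List ℕ × ℕ × ℕ))}
    (hT : ∀ i, i < D.rank → okReflRow D T i = true) (hM : okMask D M = true)
    (h : okPairsG D (ctRefl D T) (ctSubF D M) L = true) : okPairs D L = true := by
  rw [ctRefl_eq hT, ctSubF_eq hM] at h
  simp only [okPairsG, wordG_eq] at h
  exact h

end Cfsg.Agent.Lie
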