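import Cfsg.Agent.Lib.Lie.CTHom

/-!
The Curtis–Tits group is the group of Steinberg's presentation.
-/

set_option autoImplicit false
set_option linter.style.haveILetI false

namespace Cfsg.Agent.Lie

open Cfsg.Lie

variable {D : ChevalleyDatum} (hF : Facts D) (F : Type*) [Field F]

/-- The image of a generator. -/
def ctX (r : ℕ) (t : F) : D.CurtisTitsGroup F := PresentedGroup.mk (D.curtisTitsRels F) (D.stX r t)

theorem ct_rel {g : FreeGroup (Fin D.nroots × F)} (h : g ∈ D.curtisTitsRels F) :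
    PresentedGroup.mk (D.curtisTitsRels F) g = 1 :=
  PresentedGroup.one_of_mem h

theorem mk_stWord_ct (w : List (ℕ × F)) : PresentedGroup.mk (D.curtisTitsRels F) (D.stWord w) =
    (w.map fun p => ctX F p.1 p.2).prod := by
  rw [ChevalleyDatum.stWord, map_list_prod, List.map_map]
  rfl

theorem ctX_out {r : ℕ} (hr : r < D.nroots) (h : ∀ i j, ¬ D.InRankTwoSub i j r) (t : F) :
    ctX (D := D) F r t = 1 :=
  ct_rel F (Or.inl (Or.inl (Or.inl ⟨r, t, hr, h, rfl⟩)))

open Classical in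
include hF in
/-- The evident map. -/
theorem ct_map {l : List (List ℤ)} (hl : okCoeff D l = true) :
    ∃ f : D.CurtisTitsGroup F →* D.SteinbergGroup F,
      ∀ i j r t, D.InRankTwoSub i j r → f (ctX F r t) = D.stGen F r t := by
  obtain ⟨φ, hφ⟩ : ∃ φ : Fin D.nroots × F → D.SteinbergGroup F, φ = fun p =>
      if (∃ i j, D.InRankTwoSub i j p.1.val) then D.stGen F p.1.val p.2 else 1 := ⟨_, rfl⟩
  have hX : ∀ i j r t, D.InRankTwoSub i j r → FreeGroup.lift φ (D.stX r t) = D.stGen F r t := by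
    intro i j r t h
    rw [ChevalleyDatum.stX, dif_pos h.1, FreeGroup.lift_apply_of, hφ]
    exact if_pos ⟨i, j, h⟩
  have hW : ∀ i j (w : List (ℕ × F)), (∀ p ∈ w, D.InRankTwoSub i j p.1) →
      FreeGroup.lift φ (D.stWord w) = PresentedGroup.mk (D.steinbergRels F) (D.stWord w) := by
    intro i j w hw
    rw [ChevalleyDatum.stWord, map_list_prod, map_list_prod, List.map_map, List.map_map]
    congr 1
    exact List.map_congr_left fun p hp => hX i j p.1 p.2 (hw p hp)
  have hrel : ∀ g ∈ D.curtisTitsRels F, FreeGroup.lift φ g = 1 := by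
    rintro g (((⟨r, t, hr, h, rfl⟩ | ⟨i, j, r, t, u, h, rfl⟩) | ⟨i, j, r, s, t, u, h, h', h1, h2, rfl⟩) |
      ⟨i, j, r, t, u, h, ht, hu, rfl⟩)
    · rw [ChevalleyDatum.stX, dif_pos hr, FreeGroup.lift_apply_of, hφ]
      exact if_neg fun ⟨i, j, hh⟩ => h i j hh
    · simp only [map_mul, map_inv, hX i j r _ h]
      have := Facts.st_rel (D := D) (F := F) (Or.inl (Or.inl ⟨r, t, u, h.1, rfl⟩))
      simpa only [map_mul, map_inv, ChevalleyDatum.stGen, ChevalleyDatum.stH] using this
    · simp only [map_mul, map_inv, hX i j r _ h, hX i j s _ h']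
      rw [hW i j _ (fun p hp => by
        obtain ⟨c, hc, rfl⟩ := List.mem_map.1 hp
        exact hF.sub_term hl h h' hc)]
      have := Facts.st_rel (D := D) (F := F) (Or.inl (Or.inr ⟨r, s, t, u, h.1, h'.1, h1, h2, rfl⟩))
      simpa only [map_mul, map_inv, ChevalleyDatum.stGen, ChevalleyDatum.stH] using this
    · have hh : ∀ v : F, ∀ p ∈ D.hWord r v, D.InRankTwoSub i j p.1 := fun v p hp => by
        simp [ChevalleyDatum.hWord, ChevalleyDatum.nWord] at hp
        rcases hp with rfl | rfl | rfl | rfl | rfl | rfl <;> first | exact h | exact hF.sub_neg h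
      simp only [map_mul, map_inv, ChevalleyDatum.stH, hW i j _ (hh _)]
      have := Facts.st_rel (D := D) (F := F) (Or.inr ⟨r, t, u, h.1, ht, hu, rfl⟩)
      simpa only [map_mul, map_inv, ChevalleyDatum.stGen, ChevalleyDatum.stH] using this
  refine ⟨PresentedGroup.toGroup hrel, fun i j r t h => ?_⟩
  rw [ctX, ← hX i j r t h]
  rfl

include hF in
theorem ct_sys {l : List (List ℤ)} (hl : okCoeff D l = true) :
    ∃ S : CTSys hF F (D.CurtisTitsGroup F), S.x = ctX F := by
  obtain ⟨f, hf⟩ := ct_map hF F hl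
  refine ⟨{ x := ctX F, f := f, x_add := ?_, f_x := fun i j r h t => hf i j r t h, x_comm := ?_, h_mul := ?_ }, rfl⟩
  · intro i j r h t u
    have := ct_rel F (Or.inl (Or.inl (Or.inr ⟨i, j, r, t, u, h, rfl⟩)) : _ ∈ D.curtisTitsRels F)
    simp only [map_mul, map_inv, mul_inv_eq_one] at this
    exact this.symm
  · intro i j r s h h' h1 h2 t u
    have := ct_rel F (Or.inl (Or.inr ⟨i, j, r, s, t, u, h, h', h1, h2, rfl⟩) : _ ∈ D.curtisTitsRels F)
    simp only [map_mul, map_inv, mul_inv_eq_one, mk_stWord_ct] at this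
    rw [← this]
    simp only [ctX]
    group
  · intro i j r h t u ht hu
    have e : ∀ v, PresentedGroup.mk (D.curtisTitsRels F) (D.stH r v) =
        nElt D (ctX F) r v * nElt D (ctX F) r (-1) := fun v => by
      rw [ChevalleyDatum.stH, mk_stWord_ct]
      simp [ChevalleyDatum.hWord, ChevalleyDatum.nWord, nElt, mul_assoc]
    have := ct_rel F (Or.inr ⟨i, j, r, t, u, h, ht, hu, rfl⟩ : _ ∈ D.curtisTitsRels F)
    simp only [map_mul, map_inv, mul_inv_eq_one, e] at this
    exact this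

include hF in
/-- Curtis–Tits. -/
theorem ct_equiv (hP : CTFull D) : ∃ e : D.CurtisTitsGroup F ≃* D.SteinbergGroup F,
    ∀ i j r t, D.InRankTwoSub i j r → e (ctX F r t) = D.stGen F r t := by
  obtain ⟨l, hl⟩ := hP.cert.hyp.1.2.2
  obtain ⟨S, hS⟩ := ct_sys hF F hl
  obtain ⟨g, hg⟩ := S.exists_hom hP
  have h1 : g.comp S.f = MonoidHom.id _ := by
    refine PresentedGroup.ext fun p => ?_
    obtain ⟨⟨r, hr⟩, t⟩ := p
    show g (S.f (PresentedGroup.mk (D.curtisTitsRels F) (FreeGroup.of (⟨r, hr⟩, t)))) =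
      PresentedGroup.mk (D.curtisTitsRels F) (FreeGroup.of (⟨r, hr⟩, t))
    rw [show PresentedGroup.mk (D.curtisTitsRels F) (FreeGroup.of (⟨r, hr⟩, t)) = ctX F r t by
      rw [ctX, ChevalleyDatum.stX, dif_pos hr]]
    by_cases h : ∃ i j, D.InRankTwoSub i j r
    · obtain ⟨i, j, h⟩ := h
      rw [← hS, S.f_x i j r h, hg r t hr, S.X_sub hP.cert r i j h]
    · push Not at h
      rw [ctX_out F hr h, map_one, map_one]
  have h2 : S.f.comp g = MonoidHom.id _ := by
    refine PresentedGroup.ext fun p => ?_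
    obtain ⟨⟨r, hr⟩, t⟩ := p
    show S.f (g (PresentedGroup.mk (D.steinbergRels F) (FreeGroup.of (⟨r, hr⟩, t)))) =
      PresentedGroup.mk (D.steinbergRels F) (FreeGroup.of (⟨r, hr⟩, t))
    rw [show PresentedGroup.mk (D.steinbergRels F) (FreeGroup.of (⟨r, hr⟩, t)) = D.stGen F r t by
      rw [ChevalleyDatum.stGen, ChevalleyDatum.stX, dif_pos hr], hg r t hr, S.f_X hP.cert r hr]
  refine ⟨S.f.toMulEquiv g h1 h2, fun i j r t h => ?_⟩
  show S.f (ctX F r t) = _
  rw [← hS, S.f_x i j r h]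

end Cfsg.Agent.Lie
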