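import Cfsg.Agent.Lib.Lie.CTWeyl

/-!
Curtis–Tits: the relations of Steinberg for all roots, and the homomorphism from the presented group.
-/

set_option autoImplicit false
set_option linter.style.haveILetI false

namespace Cfsg.Agent.Lie

open Cfsg.Lie

variable {D : ChevalleyDatum}

/-- A word of fundamental reflections applied to a root, first letter first. -/
def ctWord (D : ChevalleyDatum) : List ℕ → ℕ → ℕ
  | [], r => r
  | k :: w, r => ctWord D w (D.reflectRoot k r)

/-- For each fundamental root and each other root, a word into a rank two subsystem. -/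
def okPairs (D : ChevalleyDatum) (L : List (List (List ℕ × ℕ × ℕ))) : Bool :=
  (List.range D.rank).all fun i => (List.range D.nroots).all fun s =>
    s == D.simple i || s == D.neg (D.simple i) ||
      (let c := (L.getD i []).getD s ([], 0, 0)
       c.1.all (fun k => decide (k < D.rank)) && ctSub D c.2.1 c.2.2 (ctWord D c.1 (D.simple i)) &&
         ctSub D c.2.1 c.2.2 (ctWord D c.1 s))

/-- All certificates. -/
structure CTFull (D : ChevalleyDatum) : Prop where
  cert : CTCert D
  pairs : ∃ L, okPairs D L = true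

namespace CTSys

variable {hF : Facts D} {F : Type*} [Field F] {Γ : Type*} [Group Γ] (S : CTSys hF F Γ) (hP : CTFull D)

theorem refl_ne (hF : Facts D) {k r s : ℕ} (hk : k < D.rank) (hr : r < D.nroots) (hs : s < D.nroots) (h1 : s ≠ r)
    (h2 : s ≠ D.neg r) : D.reflectRoot k s ≠ D.reflectRoot k r ∧ D.reflectRoot k s ≠ D.neg (D.reflectRoot k r) := by
  refine ⟨fun h => h1 (hF.refl_inj hk hs hr h), fun h => h2 (hF.refl_inj hk hs (hF.neg_lt hr) ?_)⟩
  rw [h, hF.refl_neg k hk r hr]

/-- The commutator relation. -/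
def Rel (r s : ℕ) : Prop := ∀ t u, S.X s u * S.X r t = S.X r t * S.X s u * ((D.commWord F r s t u).map fun p => S.X p.1 p.2).prod

/-- Multiplicativity of h_r. -/
def HMul (r : ℕ) : Prop := ∀ t u : F, t ≠ 0 → u ≠ 0 →
  (nElt D S.X r t * nElt D S.X r (-1)) * (nElt D S.X r u * nElt D S.X r (-1)) =
    nElt D S.X r (t * u) * nElt D S.X r (-1)

include hP

theorem rel_step {k r s : ℕ} (hk : k < D.rank) (hr : r < D.nroots) (hs : s < D.nroots)
    (h : S.Rel (D.reflectRoot k r) (D.reflectRoot k s)) : S.Rel r s := by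
  intro t u
  refine (MulAut.conj (S.n k)).injective ?_
  simp only [map_mul, map_list_prod, List.map_map, MulAut.conj_apply]
  rw [S.n_X hP.cert hk hr, S.n_X hP.cert hk hs, h]
  congr 1
  have e := hF.commWord_refl (F := F) hk hr hs (hF.sgn F k r * t) (hF.sgn F k s * u)
  rw [← mul_assoc, ← mul_assoc, hF.sgn_mul_self hk hr, hF.sgn_mul_self hk hs, one_mul, one_mul] at e
  rw [← e, List.map_map]
  congr 1
  refine List.map_congr_left fun p hp => ?_
  obtain ⟨c, hc, rfl⟩ := List.mem_map.1 hp
  simp only [Function.comp_apply, MulAut.conj_apply]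
  exact (S.n_X hP.cert hk (hF.commTerms_lt hr hs c hc) _).symm

theorem rel_word : ∀ (w : List ℕ) (r s i j : ℕ), (∀ k ∈ w, k < D.rank) → r < D.nroots → s < D.nroots →
    s ≠ r → s ≠ D.neg r → D.InRankTwoSub i j (ctWord D w r) → D.InRankTwoSub i j (ctWord D w s) → S.Rel r s := by
  intro w
  induction w with
  | nil =>
    intro r s i j _ _ _ h1 h2 hr hs t u
    obtain ⟨l, hl⟩ := hP.cert.hyp.1.2.2
    simp only [ctWord] at hr hs
    rw [S.X_sub hP.cert s i j hs, S.X_sub hP.cert r i j hr, S.x_comm i j r s hr hs h1 h2]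
    congr 2
    refine List.map_congr_left fun p hp => ?_
    obtain ⟨c, hc, rfl⟩ := List.mem_map.1 hp
    exact (S.X_sub hP.cert _ i j (hF.sub_term hl hr hs hc) _).symm
  | cons k w ih =>
    intro r s i j hw hr hs h1 h2 hr' hs'
    have hk := hw k List.mem_cons_self
    obtain ⟨a, b⟩ := refl_ne hF hk hr hs h1 h2
    exact S.rel_step hP hk hr hs (ih _ _ i j (fun q hq => hw q (List.mem_cons_of_mem _ hq))
      (hF.refl_lt k hk r hr) (hF.refl_lt k hk s hs) a b hr' hs')

theorem rel_all : ∀ r, r < D.nroots → ∀ s, s < D.nroots → s ≠ r → s ≠ D.neg r → S.Rel r s := by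
  intro r
  induction hn : ctMu D r using Nat.strong_induction_on generalizing r with
  | _ n ih =>
    subst hn
    intro hr s hs h1 h2
    have hsimple : ∀ i, i < D.rank → ∀ s, s < D.nroots → s ≠ D.simple i → s ≠ D.neg (D.simple i) →
        S.Rel (D.simple i) s := by
      intro i hi s hs h1 h2
      obtain ⟨L, hL⟩ := hP.pairs
      simp only [okPairs, List.all_eq_true, List.mem_range, Bool.or_eq_true, Bool.and_eq_true, decide_eq_true_eq,
        beq_iff_eq] at hL
      rcases hL i hi s hs with (h | h) | ⟨⟨h, hr'⟩, hs'⟩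
      · exact absurd h h1
      · exact absurd h h2
      · exact S.rel_word hP _ _ _ _ _ h (hF.simple_lt i hi) hs h1 h2 (ctSub_iff.1 hr') (ctSub_iff.1 hs')
    cases hb : ctBase D r
    · obtain ⟨k1, k2, k3⟩ := down_spec hF hP.cert hr hb
      obtain ⟨a, b⟩ := refl_ne hF k1 hr hs h1 h2
      exact S.rel_step hP k1 hr hs (ih _ k3 _ rfl k2 _ (hF.refl_lt _ k1 s hs) a b)
    · obtain ⟨i, hi, rfl | rfl⟩ := base_spec hb
      · exact hsimple i hi s hs h1 h2
      · obtain ⟨a, b⟩ := refl_ne hF hi hr hs h1 h2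
        have e : D.reflectRoot i (D.neg (D.simple i)) = D.simple i := by
          rw [hF.refl_neg i hi _ (hF.simple_lt i hi)]
          unfold ChevalleyDatum.reflectRoot
          simp [hF.neg_neg (hF.simple_lt i hi)]
        rw [e] at a b
        refine S.rel_step hP hi hr hs ?_
        rw [e]
        exact hsimple i hi _ (hF.refl_lt i hi s hs) a b

theorem X_zero {r : ℕ} (hr : r < D.nroots) : S.X r 0 = 1 := by
  have h := S.X_add hP.cert r hr 0 0
  rwa [add_zero, left_eq_mul] at h

theorem X_neg {r : ℕ} (hr : r < D.nroots) (t : F) : S.X r (-t) = (S.X r t)⁻¹ := by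
  rw [eq_inv_iff_mul_eq_one, ← S.X_add hP.cert r hr, neg_add_cancel, S.X_zero hP hr]

theorem N_neg {r : ℕ} (hr : r < D.nroots) (t : F) : nElt D S.X r (-t) = (nElt D S.X r t)⁻¹ := by
  simp only [nElt, mul_inv_rev, ← S.X_neg hP hr, ← S.X_neg hP (hF.neg_lt hr), inv_neg, neg_neg, mul_assoc]

theorem hmul_step {k r : ℕ} (hk : k < D.rank) (hr : r < D.nroots) (h : S.HMul (D.reflectRoot k r)) :
    S.HMul r := by
  have hs : hF.sgn F k (D.neg r) = hF.sgn F k r := by simp [Facts.sgn, hF.eta_neg k hk r hr]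
  have hn : ∀ t, MulAut.conj (S.n k) (nElt D S.X r t) = nElt D S.X (D.reflectRoot k r) (hF.sgn F k r * t) := by
    intro t
    have hinv : (hF.sgn F k r * t)⁻¹ = hF.sgn F k r * t⁻¹ := by
      rw [mul_inv_rev, inv_eq_of_mul_eq_one_right (hF.sgn_mul_self (F := F) hk hr), mul_comm]
    rw [nElt, nElt, map_mul, map_mul, MulAut.conj_apply, MulAut.conj_apply, S.n_X hP.cert hk hr,
      S.n_X hP.cert hk (hF.neg_lt hr), hs, hF.refl_neg k hk r hr, hinv, mul_neg]
  obtain ⟨H, hH⟩ : ∃ H : F → Γ, H = fun t =>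
      nElt D S.X (D.reflectRoot k r) t * nElt D S.X (D.reflectRoot k r) (-1) := ⟨_, rfl⟩
  have hmul : ∀ t u, t ≠ 0 → u ≠ 0 → H t * H u = H (t * u) := fun t u ht hu => by
    rw [hH]; exact h t u ht hu
  have hc : ∀ t, t ≠ 0 → MulAut.conj (S.n k) (nElt D S.X r t * nElt D S.X r (-1)) = H t := by
    intro t ht
    have hσ := hF.sgn_mul_self (F := F) hk hr
    rw [map_mul, hn, hn]
    rcases mul_self_eq_one_iff.1 hσ with e | e <;> rw [e]
    · rw [one_mul, one_mul, hH]
    · have h1 : H (-t) = H t * H (-1) := by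
        rw [hmul t (-1) ht (neg_ne_zero.2 one_ne_zero), mul_neg, mul_one]
      have h2 : nElt D S.X (D.reflectRoot k r) (-t) =
          H (-t) * nElt D S.X (D.reflectRoot k r) (1 : F) := by
        rw [hH]
        simp only
        rw [S.N_neg hP (hF.refl_lt k hk r hr) (1 : F), inv_mul_cancel_right]
      rw [neg_one_mul, neg_one_mul, neg_neg, h2, h1, hH]
      simp only
      rw [S.N_neg hP (hF.refl_lt k hk r hr) (1 : F)]
      group
  intro t u ht hu
  refine (MulAut.conj (S.n k)).injective ?_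
  rw [map_mul, hc t ht, hc u hu, hc _ (mul_ne_zero ht hu), hmul t u ht hu]

theorem hmul_all : ∀ r, r < D.nroots → S.HMul r := by
  intro r
  induction hn : ctMu D r using Nat.strong_induction_on generalizing r with
  | _ n ih =>
    subst hn
    intro hr
    cases hb : ctBase D r
    · obtain ⟨k1, k2, k3⟩ := down_spec hF hP.cert hr hb
      exact S.hmul_step hP k1 hr (ih _ k3 _ rfl k2)
    · obtain ⟨i, hi, h⟩ := base_sub (hF := hF) hb
      have hsub := h i hi
      have e : ∀ t, nElt D S.X r t = nElt D S.x r t := fun t => by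
        simp only [nElt, S.X_sub hP.cert r i i hsub, S.X_sub hP.cert _ i i (hF.sub_neg hsub)]
      intro t u ht hu
      simp only [e]
      exact S.h_mul i i r hsub t u ht hu

/-- The map on generators. -/
theorem exists_hom : ∃ g : D.SteinbergGroup F →* Γ, ∀ r t, r < D.nroots → g (D.stGen F r t) = S.X r t := by
  have hout : ∀ r, ¬ r < D.nroots → ∀ t, S.X r t = 1 := fun r hr t => by rw [X, if_neg hr]
  have hX : ∀ r t, FreeGroup.lift (fun p : Fin D.nroots × F => S.X p.1.val p.2) (D.stX r t) = S.X r t := by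
    intro r t
    unfold ChevalleyDatum.stX
    split_ifs with h
    · simp
    · simp [hout r h]
  have hW : ∀ w : List (ℕ × F), FreeGroup.lift (fun p : Fin D.nroots × F => S.X p.1.val p.2) (D.stWord w) =
      (w.map fun p => S.X p.1 p.2).prod := by
    intro w
    rw [ChevalleyDatum.stWord, map_list_prod, List.map_map]
    congr 1
    exact List.map_congr_left fun p _ => hX _ _
  have hrel : ∀ x ∈ D.steinbergRels F, FreeGroup.lift (fun p : Fin D.nroots × F => S.X p.1.val p.2) x = 1 := by
    rintro x ((⟨r, t, u, hr, rfl⟩ | ⟨r, s, t, u, hr, hs, h1, h2, rfl⟩) | ⟨r, t, u, hr, ht, hu, rfl⟩)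
    · simp only [map_mul, map_inv, hX]
      rw [S.X_add hP.cert r hr, mul_inv_cancel]
    · simp only [map_mul, map_inv, hX, hW]
      rw [mul_inv_eq_one, mul_assoc (_ * _), S.rel_all hP r hr s hs h1 h2 t u]
      group
    · have e : ∀ v, FreeGroup.lift (fun p : Fin D.nroots × F => S.X p.1.val p.2) (D.stH r v) =
          nElt D S.X r v * nElt D S.X r (-1) := fun v => by
        rw [ChevalleyDatum.stH, hW]
        simp [ChevalleyDatum.hWord, ChevalleyDatum.nWord, nElt, mul_assoc]
      simp only [map_mul, map_inv, e]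
      rw [mul_inv_eq_one]
      exact S.hmul_all hP r hr t u ht hu
  refine ⟨PresentedGroup.toGroup hrel, fun r t hr => ?_⟩
  rw [ChevalleyDatum.stGen, ChevalleyDatum.stX, dif_pos hr]
  exact PresentedGroup.toGroup.of hrel

end CTSys

end Cfsg.Agent.Lie
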