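import Cfsg.Agent.Lib.Lie.Steinberg
import Cfsg.Prelude.Def_CurtisTits

/-!
Groups with elements satisfying Steinberg's relations inside rank two subsystems only: products over
closed lists and the action of the fundamental elements.
-/

set_option autoImplicit false
set_option linter.style.haveILetI false

namespace Cfsg.Agent.Lie

open Cfsg.Lie

variable {D : ChevalleyDatum}

namespace Facts

variable (hF : Facts D)

include hF in
theorem sub_simple {i j : ℕ} (hi : i < D.rank) (hj : j < D.rank) : D.InRankTwoSub i j (D.simple i) :=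
  ⟨hF.simple_lt i hi, hi, hj, fun k hk h1 _ => by
    have := hF.co_simple i hi k hk
    rwa [if_neg h1, co] at this⟩

include hF in
theorem sub_neg {i j r : ℕ} (h : D.InRankTwoSub i j r) : D.InRankTwoSub i j (D.neg r) :=
  ⟨hF.neg_lt h.1, h.2.1, h.2.2.1, fun k hk h1 h2 => by
    have := hF.co_neg r h.1 k hk
    have h0 : co D r k = 0 := h.2.2.2 k hk h1 h2
    rw [h0, neg_zero] at this
    exact this⟩

theorem sub_swap {i j r : ℕ} (h : D.InRankTwoSub i j r) : D.InRankTwoSub j i r :=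
  ⟨h.1, h.2.2.1, h.2.1, fun k hk h1 h2 => h.2.2.2 k hk h2 h1⟩

include hF in
theorem sub_refl {i j r : ℕ} (h : D.InRankTwoSub i j r) : D.InRankTwoSub i j (D.reflectRoot i r) :=
  ⟨hF.refl_lt i h.2.1 r h.1, h.2.1, h.2.2.1, fun k hk h1 h2 => by
    have := hF.co_refl i h.2.1 r h.1 k hk
    rw [if_neg h1, sub_zero] at this
    exact this.trans (h.2.2.2 k hk h1 h2)⟩

include hF in
theorem sub_term {l : List (List ℤ)} (hl : okCoeff D l = true) {i j r s : ℕ} (hr : D.InRankTwoSub i j r)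
    (hs : D.InRankTwoSub i j s) {c : ℕ × ℤ × ℕ × ℕ} (hc : c ∈ D.commTerms r s) :
    D.InRankTwoSub i j c.1 := by
  refine ⟨hF.commTerms_lt hr.1 hs.1 c hc, hr.2.1, hr.2.2.1, fun k hk h1 h2 => ?_⟩
  have h := hF.psiOf_commTerms (coeffFun l k) hr.1 hs.1 hc
  rw [(coeff_spec hl hr.1 hk).1.2 (hr.2.2.2 k hk h1 h2), (coeff_spec hl hs.1 hk).1.2 (hs.2.2.2 k hk h1 h2),
    mul_zero, mul_zero, add_zero] at h
  exact (coeff_spec hl (hF.commTerms_lt hr.1 hs.1 c hc) hk).1.1 h

end Facts

/-- A group with elements satisfying the relations of rank two subsystems, over the presented group. -/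
structure CTSys {D : ChevalleyDatum} (hF : Facts D) (F : Type*) [Field F] (Γ : Type*) [Group Γ] where
  /-- the elements -/
  x : ℕ → F → Γ
  /-- the map to the presented group -/
  f : Γ →* D.SteinbergGroup F
  x_add : ∀ i j r, D.InRankTwoSub i j r → ∀ t u, x r (t + u) = x r t * x r u
  f_x : ∀ i j r, D.InRankTwoSub i j r → ∀ t, f (x r t) = D.stGen F r t
  x_comm : ∀ i j r s, D.InRankTwoSub i j r → D.InRankTwoSub i j s → s ≠ r → s ≠ D.neg r → ∀ t u,
    x s u * x r t = x r t * x s u * ((D.commWord F r s t u).map fun p => x p.1 p.2).prod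
  h_mul : ∀ i j r, D.InRankTwoSub i j r → ∀ t u : F, t ≠ 0 → u ≠ 0 →
    (nElt D x r t * nElt D x r (-1)) * (nElt D x r u * nElt D x r (-1)) =
      nElt D x r (t * u) * nElt D x r (-1)

namespace CTSys

variable {hF : Facts D} {F : Type*} [Field F] {Γ : Type*} [Group Γ] (S : CTSys hF F Γ)

theorem x_zero {i j r : ℕ} (hr : D.InRankTwoSub i j r) : S.x r 0 = 1 := by
  have h := S.x_add i j r hr 0 0
  rwa [add_zero, left_eq_mul] at h

theorem x_neg {i j r : ℕ} (hr : D.InRankTwoSub i j r) (t : F) : S.x r (-t) = (S.x r t)⁻¹ := by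
  rw [eq_inv_iff_mul_eq_one, ← S.x_add i j r hr, neg_add_cancel, S.x_zero hr]

/-- The subgroup generated by the root elements of a list of roots. -/
def US (L : List ℕ) : Subgroup Γ := Subgroup.closure {g | ∃ r ∈ L, ∃ t, S.x r t = g}

theorem x_mem_US {L : List ℕ} {r : ℕ} (hr : r ∈ L) (t : F) : S.x r t ∈ S.US L :=
  Subgroup.subset_closure ⟨r, hr, t, rfl⟩

theorem conj_mem_US {i j : ℕ} {L : List ℕ} {r : ℕ} (hr : D.InRankTwoSub i j r)
    (h : ∀ s ∈ L, D.InRankTwoSub i j s ∧ s ≠ D.neg r ∧ (s ≠ r → ∀ c ∈ D.commTerms r s, c.1 ∈ L))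
    (t : F) {g : Γ} (hg : g ∈ S.US L) : (S.x r t)⁻¹ * g * S.x r t ∈ S.US L := by
  induction hg using Subgroup.closure_induction with
  | mem g hg =>
    obtain ⟨s, hsL, u, rfl⟩ := hg
    obtain ⟨hs, hneg, hcl⟩ := h s hsL
    by_cases hsr : s = r
    · subst hsr
      rw [← S.x_neg hr, ← S.x_add i j s hr, ← S.x_add i j s hr]
      exact S.x_mem_US hsL _
    · rw [mul_assoc, S.x_comm i j r s hr hs hsr hneg t u, mul_assoc, inv_mul_cancel_left]
      refine mul_mem (S.x_mem_US hsL u) (Subgroup.list_prod_mem _ fun y hy => ?_)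
      obtain ⟨p, hp, rfl⟩ := List.mem_map.1 hy
      obtain ⟨c, hc, rfl⟩ := List.mem_map.1 hp
      exact S.x_mem_US (hcl hsr c hc) _
  | one => simp
  | mul a b _ _ ha hb =>
    rw [show (S.x r t)⁻¹ * (a * b) * S.x r t =
      ((S.x r t)⁻¹ * a * S.x r t) * ((S.x r t)⁻¹ * b * S.x r t) by group]
    exact mul_mem ha hb
  | inv a _ ha =>
    rw [show (S.x r t)⁻¹ * a⁻¹ * S.x r t = ((S.x r t)⁻¹ * a * S.x r t)⁻¹ by group]
    exact inv_mem ha

theorem x_normalizes {i j : ℕ} {L : List ℕ} {r : ℕ} (hr : D.InRankTwoSub i j r)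
    (h : ∀ s ∈ L, D.InRankTwoSub i j s ∧ s ≠ D.neg r ∧ (s ≠ r → ∀ c ∈ D.commTerms r s, c.1 ∈ L)) (t : F) :
    S.x r t ∈ Subgroup.normalizer (S.US L : Set Γ) := by
  rw [Subgroup.mem_normalizer_iff'']
  intro g
  refine ⟨fun hg => S.conj_mem_US hr h t hg, fun hg => ?_⟩
  have := S.conj_mem_US hr h (-t) hg
  rw [S.x_neg hr] at this
  simpa [mul_assoc] using this

/-- Lists in which the commutators of the head with the tail lie in the tail. -/
inductive Tri (D : ChevalleyDatum) (i j : ℕ) : List ℕ → Prop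
  | nil : Tri D i j []
  | cons {m : ℕ} {L : List ℕ} : D.InRankTwoSub i j m → m ∉ L →
      (∀ s ∈ L, D.InRankTwoSub i j s ∧ s ≠ D.neg m ∧ ∀ c ∈ D.commTerms m s, c.1 ∈ L) →
      Tri D i j L → Tri D i j (m :: L)

/-- Every element of US L is an ordered product. -/
theorem exists_prodOver {i j : ℕ} {L : List ℕ} (hL : Tri D i j L) :
    ∀ {g : Γ}, g ∈ S.US L → ∃ t : ℕ → F, g = (L.map fun r => S.x r (t r)).prod := by
  induction hL with
  | nil =>
    intro g hg
    refine ⟨fun _ => 0, ?_⟩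
    have : S.US [] = ⊥ := by simp [US]
    rw [this, Subgroup.mem_bot] at hg
    simp [hg]
  | @cons m L hm hmL hcl hT ih =>
    intro g hg
    have hnorm : ∀ t, S.x m t ∈ Subgroup.normalizer (S.US L : Set Γ) := fun t =>
      S.x_normalizes hm (fun s hs => ⟨(hcl s hs).1, (hcl s hs).2.1, fun _ => (hcl s hs).2.2⟩) t
    have key : ∃ a, ∃ u ∈ S.US L, g = S.x m a * u := by
      clear ih
      induction hg using Subgroup.closure_induction with
      | mem g hg =>
        obtain ⟨r, hr, a, rfl⟩ := hg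
        rcases List.mem_cons.1 hr with rfl | hr
        · exact ⟨a, 1, one_mem _, by simp⟩
        · exact ⟨0, _, S.x_mem_US hr a, by simp [S.x_zero hm]⟩
      | one => exact ⟨0, 1, one_mem _, by simp [S.x_zero hm]⟩
      | mul p q _ _ hp hq =>
        obtain ⟨a, u, hu, rfl⟩ := hp
        obtain ⟨b, v, hv, rfl⟩ := hq
        refine ⟨a + b, (S.x m b)⁻¹ * u * S.x m b * v,
          mul_mem ((Subgroup.mem_normalizer_iff''.1 (hnorm b) u).1 hu) hv, ?_⟩
        rw [S.x_add i j m hm]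
        group
      | inv p _ hp =>
        obtain ⟨a, u, hu, rfl⟩ := hp
        refine ⟨-a, S.x m a * u⁻¹ * (S.x m a)⁻¹,
          (Subgroup.mem_normalizer_iff.1 (hnorm a) u⁻¹).1 (inv_mem hu), ?_⟩
        rw [S.x_neg hm]
        group
    obtain ⟨a, u, hu, rfl⟩ := key
    obtain ⟨t, rfl⟩ := ih hu
    refine ⟨Function.update t m a, ?_⟩
    rw [List.map_cons, List.prod_cons, Function.update_self]
    congr 2
    refine List.map_congr_left fun r hr => ?_
    rw [Function.update_of_ne (fun h => hmL (by rw [← h]; exact hr))]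

theorem f_prod {i j : ℕ} {L : List ℕ} (hL : ∀ r ∈ L, D.InRankTwoSub i j r) (t : ℕ → F) :
    hF.proj F (S.f (L.map fun r => S.x r (t r)).prod) = (hF.sys F).prodOver L t := by
  rw [map_list_prod, map_list_prod, List.map_map, List.map_map, CommSys.prodOver]
  congr 1
  refine List.map_congr_left fun r hr => ?_
  simp only [Function.comp_apply]
  rw [S.f_x i j r (hL r hr), hF.proj_x, Facts.sys_x]

theorem inj_pos {i j : ℕ} {L : List ℕ} (hT : Tri D i j L) (hL : ClosedList D L)
    (hsub : ∀ r ∈ L, D.InRankTwoSub i j r) {g g' : Γ} (hg : g ∈ S.US L) (hg' : g' ∈ S.US L)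
    (h : S.f g = S.f g') : g = g' := by
  obtain ⟨t, rfl⟩ := S.exists_prodOver hT hg
  obtain ⟨t', rfl⟩ := S.exists_prodOver hT hg'
  have h' := congrArg (hF.proj F) h
  rw [S.f_prod hsub, S.f_prod hsub] at h'
  congr 1
  exact List.map_congr_left fun r hr => by rw [hF.prodOver_inj hL h' r hr]

theorem inj_neg {i j : ℕ} {L : List ℕ} (hT : Tri D i j L) (hL : NegList D L)
    (hsub : ∀ r ∈ L, D.InRankTwoSub i j r) {g g' : Γ} (hg : g ∈ S.US L) (hg' : g' ∈ S.US L)
    (h : S.f g = S.f g') : g = g' := by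
  obtain ⟨t, rfl⟩ := S.exists_prodOver hT hg
  obtain ⟨t', rfl⟩ := S.exists_prodOver hT hg'
  have h' := congrArg (hF.proj F) h
  rw [S.f_prod hsub, S.f_prod hsub] at h'
  congr 1
  exact List.map_congr_left fun r hr => by rw [hF.prodOver_inj_neg hL h' r hr]

include hF in
theorem tri_closed {i j : ℕ} : ∀ {L : List ℕ}, ClosedList D L →
    (∀ r ∈ L, D.InRankTwoSub i j r) → Tri D i j L := by
  intro L
  induction L with
  | nil => exact fun _ _ => .nil
  | cons m L ih =>
    intro hL hsub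
    have hlt := (List.pairwise_cons.1 hL.sorted).1
    obtain ⟨hm1, hm2⟩ := hL.mem_pos m List.mem_cons_self
    refine .cons (hsub m List.mem_cons_self) (fun h => lt_irrefl m (hlt m h)) (fun s hs => ?_)
      (ih (hL.tail (hF := hF)) fun r hr => hsub r (List.mem_cons_of_mem _ hr))
    obtain ⟨hs1, hs2⟩ := hL.mem_pos s (List.mem_cons_of_mem _ hs)
    refine ⟨hsub s (List.mem_cons_of_mem _ hs), fun h => ?_, fun c hc => ?_⟩
    · have := (hF.neg_ge_iff hm2).1 (h ▸ hs1)
      omega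
    · rcases List.mem_cons.1 (hL.closed m List.mem_cons_self s (List.mem_cons_of_mem _ hs)
        (ne_of_lt (hlt s hs)) c hc) with h | h
      · have := (hF.commTerms_gt hm2 hs2 hm1 hs1 hc).2.1
        omega
      · exact h

include hF in
theorem tri_neg {i j : ℕ} : ∀ {L : List ℕ}, NegList D L →
    (∀ r ∈ L, D.InRankTwoSub i j r) → Tri D i j L := by
  intro L
  induction L with
  | nil => exact fun _ _ => .nil
  | cons m L ih =>
    intro hL hsub
    have hlt := (List.pairwise_cons.1 hL.sorted).1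
    have hm1 := hL.mem_neg m List.mem_cons_self
    refine .cons (hsub m List.mem_cons_self) (fun h => lt_irrefl m (hlt m h)) (fun s hs => ?_)
      (ih (hL.tail hF) fun r hr => hsub r (List.mem_cons_of_mem _ hr))
    have hs1 := hL.mem_neg s (List.mem_cons_of_mem _ hs)
    refine ⟨hsub s (List.mem_cons_of_mem _ hs), fun h => ?_, fun c hc => ?_⟩
    · have := (hF.neg_ge_iff (show m < D.nroots by omega)).2 hm1
      omega
    · rcases List.mem_cons.1 (hL.closed m List.mem_cons_self s (List.mem_cons_of_mem _ hs)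
        (ne_of_gt (hlt s hs)) c hc) with h | h
      · have := (hF.commTerms_below hm1 hs1 hc).1
        omega
      · exact h

end CTSys

/-- The certificate: every fundamental root and its negative occurs as a commutator inside a rank two
subsystem. -/
def CTHyp (D : ChevalleyDatum) : Prop :=
  StHyp D ∧ ∀ i, i < D.rank → ∀ a, (a = D.simple i ∨ a = D.neg (D.simple i)) →
    ∃ j e, okAlpha D a e = true ∧ D.InRankTwoSub i j e.1 ∧ D.InRankTwoSub i j e.2

namespace CTSys

variable {hF : Facts D} {F : Type*} [Field F] {Γ : Type*} [Group Γ] (S : CTSys hF F Γ)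

open Classical in
/-- A list restricted to a rank two subsystem. -/
noncomputable def restr (D : ChevalleyDatum) (i j : ℕ) (L : List ℕ) : List ℕ :=
  L.filter fun r => decide (D.InRankTwoSub i j r)

theorem mem_restr {i j r : ℕ} {L : List ℕ} :
    r ∈ restr D i j L ↔ r ∈ L ∧ D.InRankTwoSub i j r := by simp [restr]

/-- Transport of conjugation by an element of a rank one subgroup from the presented group. -/
theorem transport (hC : CTHyp D) (k : Fin D.rank) (g : Γ)
    (hg : g ∈ Subgroup.closure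
      (Set.range (S.x (D.simple k.val)) ∪ Set.range (S.x (D.neg (D.simple k.val)))))
    (π : ℕ → ℕ) (φ : ℕ → F)
    (hπinj : ∀ r s, r < D.nroots → s < D.nroots → π r = π s → r = s)
    (hπneg : ∀ s, s < D.nroots → π (D.neg s) = D.neg (π s))
    (hπsub : ∀ j r, D.InRankTwoSub k j r → D.InRankTwoSub k j (π r))
    (hπpos : ∀ s, s ∈ TorusSys.posNe D k → π s ∈ TorusSys.posNe D k)
    (hπn : ∀ s, s ∈ Facts.negNe D k → π s ∈ Facts.negNe D k)
    (himg : ∀ s, s < D.nroots → ∀ t, S.f g * D.stGen F s t * (S.f g)⁻¹ = D.stGen F (π s) (φ s * t))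
    (hword : ∀ r s, r < D.nroots → s < D.nroots → ∀ t u, D.commWord F (π r) (π s) (φ r * t) (φ s * u) =
      (D.commWord F r s t u).map fun p => (π p.1, φ p.1 * p.2)) :
    ∀ j r, D.InRankTwoSub k j r → ∀ t, g * S.x r t * g⁻¹ = S.x (π r) (φ r * t) := by
  obtain ⟨⟨-, -, l, hl⟩, hA⟩ := hC
  have hα := hF.simple_lt k.val k.isLt
  have hge := hF.simple_ge k.val k.isLt
  have hnα : D.neg (D.simple k.val) < D.nroots / 2 := by
    have := hF.neg_eq _ hα
    have := hF.even
    omega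
  have hgen : ∀ j s, D.InRankTwoSub k j s → s ≠ D.simple k.val → s ≠ D.neg (D.simple k.val) → ∀ t,
      g * S.x s t * g⁻¹ = S.x (π s) (φ s * t) := by
    intro j s hs h1 h2 t
    have hkk : D.InRankTwoSub k j (D.simple k.val) := hF.sub_simple k.isLt hs.2.2.1
    have hkn := hF.sub_neg hkk
    have hp : S.f (g * S.x s t * g⁻¹) = S.f (S.x (π s) (φ s * t)) := by
      rw [map_mul, map_mul, map_inv, S.f_x _ _ s hs, S.f_x _ _ _ (hπsub j s hs), himg s hs.1]
    by_cases hpos : D.nroots / 2 ≤ s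
    · have hcl : ClosedList D (restr D k j (TorusSys.posNe D k)) := by
        refine ⟨(TorusSys.closed_posNe (hF := hF) k).sorted.filter _,
          fun r hr => (TorusSys.closed_posNe (hF := hF) k).mem_pos r (mem_restr.1 hr).1,
          fun r hr q hq hne c hc => mem_restr.2 ⟨(TorusSys.closed_posNe (hF := hF) k).closed r
            (mem_restr.1 hr).1 q (mem_restr.1 hq).1 hne c hc,
            hF.sub_term hl (mem_restr.1 hr).2 (mem_restr.1 hq).2 hc⟩⟩
      have hsub : ∀ r ∈ restr D k j (TorusSys.posNe D k), D.InRankTwoSub k j r := fun r hr => (mem_restr.1 hr).2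
      have hnorm : g ∈ Subgroup.normalizer (S.US (restr D k j (TorusSys.posNe D k)) : Set Γ) := by
        refine (Subgroup.closure_le _).2 ?_ hg
        rintro _ (⟨u, rfl⟩ | ⟨u, rfl⟩)
        · refine S.x_normalizes hkk (fun q hq => ?_) u
          obtain ⟨hq1, hq2⟩ := mem_restr.1 hq
          obtain ⟨a1, a2, a3⟩ := TorusSys.mem_posNe.1 hq1
          exact ⟨hq2, by omega, fun _ c hc => mem_restr.2 ⟨TorusSys.mem_posNe.2
            (hF.term_avoid hl k.isLt hα a2 (Or.inl rfl) a1 a3 hc), hF.sub_term hl hkk hq2 hc⟩⟩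
        · refine S.x_normalizes hkn (fun q hq => ?_) u
          obtain ⟨hq1, hq2⟩ := mem_restr.1 hq
          obtain ⟨a1, a2, a3⟩ := TorusSys.mem_posNe.1 hq1
          exact ⟨hq2, by rw [hF.neg_neg hα]; exact a3, fun _ c hc => mem_restr.2 ⟨TorusSys.mem_posNe.2
            (hF.term_avoid hl k.isLt (hF.neg_lt hα) a2 (Or.inr (Or.inl rfl)) a1 a3 hc),
            hF.sub_term hl hkn hq2 hc⟩⟩
      have hsL : s ∈ TorusSys.posNe D k := TorusSys.mem_posNe.2 ⟨hpos, hs.1, h1⟩
      exact S.inj_pos (tri_closed (hF := hF) hcl hsub) hcl hsub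
        ((Subgroup.mem_normalizer_iff.1 hnorm _).1 (S.x_mem_US (mem_restr.2 ⟨hsL, hs⟩) t))
        (S.x_mem_US (mem_restr.2 ⟨hπpos s hsL, hπsub j s hs⟩) _) hp
    · have hN := hF.negList_negNe hl k
      have hcl : NegList D (restr D k j (Facts.negNe D k)) := by
        refine ⟨hN.sorted.filter _, fun r hr => hN.mem_neg r (mem_restr.1 hr).1,
          fun r hr q hq hne c hc => mem_restr.2 ⟨hN.closed r
            (mem_restr.1 hr).1 q (mem_restr.1 hq).1 hne c hc,
            hF.sub_term hl (mem_restr.1 hr).2 (mem_restr.1 hq).2 hc⟩⟩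
      have hsub : ∀ r ∈ restr D k j (Facts.negNe D k), D.InRankTwoSub k j r := fun r hr => (mem_restr.1 hr).2
      have hnorm : g ∈ Subgroup.normalizer (S.US (restr D k j (Facts.negNe D k)) : Set Γ) := by
        refine (Subgroup.closure_le _).2 ?_ hg
        rintro _ (⟨u, rfl⟩ | ⟨u, rfl⟩)
        · refine S.x_normalizes hkk (fun q hq => ?_) u
          obtain ⟨hq1, hq2⟩ := mem_restr.1 hq
          obtain ⟨a1, a2⟩ := Facts.mem_negNe.1 hq1
          exact ⟨hq2, a2, fun _ c hc => mem_restr.2 ⟨Facts.mem_negNe.2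
            (hF.term_avoid_neg hl k.isLt hα (by omega) (Or.inl rfl) a1 a2 hc), hF.sub_term hl hkk hq2 hc⟩⟩
        · refine S.x_normalizes hkn (fun q hq => ?_) u
          obtain ⟨hq1, hq2⟩ := mem_restr.1 hq
          obtain ⟨a1, a2⟩ := Facts.mem_negNe.1 hq1
          exact ⟨hq2, by rw [hF.neg_neg hα]; omega, fun _ c hc => mem_restr.2 ⟨Facts.mem_negNe.2
            (hF.term_avoid_neg hl k.isLt (hF.neg_lt hα) (by omega) (Or.inr (Or.inl rfl)) a1 a2 hc),
            hF.sub_term hl hkn hq2 hc⟩⟩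
      have hsL : s ∈ Facts.negNe D k := Facts.mem_negNe.2 ⟨not_le.1 hpos, h2⟩
      exact S.inj_neg (tri_neg (hF := hF) hcl hsub) hcl hsub
        ((Subgroup.mem_normalizer_iff.1 hnorm _).1 (S.x_mem_US (mem_restr.2 ⟨hsL, hs⟩) t))
        (S.x_mem_US (mem_restr.2 ⟨hπn s hsL, hπsub j s hs⟩) _) hp
  intro j₀ r₀ h₀ v
  by_cases hr₀ : r₀ = D.simple k.val ∨ r₀ = D.neg (D.simple k.val)
  swap
  · rw [not_or] at hr₀
    exact hgen j₀ r₀ h₀ hr₀.1 hr₀.2 v
  obtain ⟨j, ⟨r, s⟩, he, hrP, hsP⟩ := hA k.val k.isLt r₀ hr₀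
  simp only [okAlpha, Bool.and_eq_true, decide_eq_true_eq, bne_iff_ne, beq_iff_eq] at he
  obtain ⟨⟨⟨⟨⟨⟨⟨⟨⟨hr, hs⟩, hr1⟩, hr2⟩, hs1⟩, hs2⟩, hne1⟩, hne2⟩, hlen⟩, hall⟩ := he
  rw [List.all_eq_true] at hall
  have hoff : ∀ q, q ≠ r₀ → q ≠ D.neg r₀ → q ≠ D.simple k.val ∧ q ≠ D.neg (D.simple k.val) := by
    intro q k1 k2
    rcases hr₀ with rfl | rfl
    · exact ⟨k1, k2⟩
    · rw [hF.neg_neg hα] at k2; exact ⟨k2, k1⟩
  obtain ⟨c, hc, hca⟩ : ∃ c ∈ D.commTerms r s, c.1 = r₀ := by
    obtain ⟨c, hc⟩ := List.exists_mem_of_length_pos (l := (D.commTerms r s).filter fun c => c.1 == r₀)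
      (by omega)
    rw [List.mem_filter, beq_iff_eq] at hc
    exact ⟨c, hc⟩
  have hc' := hall c hc
  rw [if_pos (by simp [hca])] at hc'
  simp only [Bool.and_eq_true, Bool.or_eq_true, beq_iff_eq] at hc'
  obtain ⟨hC, hij⟩ := hc'
  have hCne : (c.2.1 : F) ≠ 0 := by
    rcases Int.natAbs_eq c.2.1 with h' | h' <;> rw [h', hC] <;> simp
  obtain ⟨t, u, htu⟩ : ∃ t u : F, (c.2.1 : F) * (-t) ^ c.2.2.1 * u ^ c.2.2.2 = v := by
    rcases hij with h | h
    · exact ⟨-(v / c.2.1), 1, by rw [h, _root_.neg_neg, pow_one, one_pow, mul_one, mul_div_cancel₀ _ hCne]⟩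
    · exact ⟨-1, v / c.2.1, by rw [h, _root_.neg_neg, one_pow, mul_one, pow_one, mul_div_cancel₀ _ hCne]⟩
  obtain ⟨r3, r4⟩ := hoff r hr1 hr2
  obtain ⟨s3, s4⟩ := hoff s hs1 hs2
  have h0 := congrArg (fun z => g * z * g⁻¹) (S.x_comm k j r s hrP hsP hne1 hne2 t u)
  have hconj : ∀ a b : Γ, g * (a * b) * g⁻¹ = g * a * g⁻¹ * (g * b * g⁻¹) := fun a b => by group
  simp only [hconj, hgen j s hsP s3 s4, hgen j r hrP r3 r4] at h0
  have h1 := S.x_comm k j (π r) (π s) (hπsub j r hrP) (hπsub j s hsP)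
    (fun h => hne1 (hπinj s r hs hr h))
    (fun h => hne2 (hπinj s _ hs (hF.neg_lt hr) (h.trans (hπneg r hr).symm))) (φ r * t) (φ s * u)
  rw [h1, mul_right_inj, hword r s hr hs, List.map_map,
    show ∀ z, g * z * g⁻¹ = (MulAut.conj g).toMonoidHom z from fun z => rfl, map_list_prod,
    List.map_map, ChevalleyDatum.commWord, List.map_map, List.map_map] at h0
  have hm := middle_eq _ _ (fun c => c.1 == r₀) (D.commTerms r s) h0.symm (fun d hd hda => ?_) hlen c hc
    (by simp [hca])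
  · simp only [Function.comp_apply, hca, htu] at hm
    exact hm
  · have hd' := hall d hd
    rw [if_neg (by simpa using hda)] at hd'
    obtain ⟨d1, d2⟩ := hoff d.1 (by simpa using hda) (by simpa using hd')
    simp only [Function.comp_apply]
    exact hgen j d.1 (hF.sub_term hl hrP hsP hd) d1 d2 _

variable (hC : CTHyp D)

/-- n_k -/
def n (k : ℕ) : Γ := nElt D S.x (D.simple k) 1

/-- h_k(c) -/
def h (k : ℕ) (c : F) : Γ := nElt D S.x (D.simple k) c * nElt D S.x (D.simple k) (-1)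

theorem f_nElt {i j r : ℕ} (hr : D.InRankTwoSub i j r) (t : F) :
    S.f (nElt D S.x r t) = nElt D (D.stGen F) r t := by
  rw [nElt, map_mul, map_mul, S.f_x i j r hr, S.f_x i j _ (hF.sub_neg hr), nElt]

theorem nElt_mem (k : ℕ) (t : F) : nElt D S.x (D.simple k) t ∈ Subgroup.closure
    (Set.range (S.x (D.simple k)) ∪ Set.range (S.x (D.neg (D.simple k)))) :=
  mul_mem (mul_mem (Subgroup.subset_closure (Or.inl ⟨t, rfl⟩))
    (Subgroup.subset_closure (Or.inr ⟨_, rfl⟩))) (Subgroup.subset_closure (Or.inl ⟨t, rfl⟩))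

include hC in
/-- The action of n_k inside rank two subsystems. -/
theorem n_conj (k : Fin D.rank) (j r : ℕ) (hr : D.InRankTwoSub k j r) (t : F) :
    S.n k * S.x r t * (S.n k)⁻¹ = S.x (D.reflectRoot k r) (hF.sgn F k r * t) := by
  refine S.transport hC k (S.n k) (S.nElt_mem k 1) (D.reflectRoot k) (fun r => hF.sgn F k r) ?_
    (hF.refl_neg k k.isLt) (fun j r hr => hF.sub_refl hr)
    (fun s hs => TorusSys.refl_posNe (hF := hF) k hs) ?_ ?_ ?_ j r hr t
  · intro a b ha hb hab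
    exact hF.refl_inj k.isLt ha hb hab
  · intro q hq
    obtain ⟨h1, h2⟩ := Facts.mem_negNe.1 hq
    have hq' : q < D.nroots := by omega
    have hm : D.neg q ∈ TorusSys.posNe D k := TorusSys.mem_posNe.2
      ⟨(hF.neg_ge_iff hq').2 h1, hF.neg_lt hq', fun h => h2 (by rw [← h, hF.neg_neg hq'])⟩
    obtain ⟨a, b, c⟩ := TorusSys.mem_posNe.1 (TorusSys.refl_posNe (hF := hF) k hm)
    rw [hF.refl_neg k k.isLt q hq'] at a c
    exact Facts.mem_negNe.2 ⟨(hF.neg_ge_iff (hF.refl_lt k k.isLt q hq')).1 a,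
      fun h => c (by rw [h, hF.neg_neg (hF.simple_lt k k.isLt)])⟩
  · intro q hq v
    rw [n, S.f_nElt (hF.sub_simple k.isLt k.isLt)]
    exact (hF.stT hC.1 F).n_conj k.val k.isLt q hq v
  · intro a b ha hb v w
    have h := hF.commWord_refl (F := F) k.isLt ha hb (hF.sgn F k a * v) (hF.sgn F k b * w)
    rw [← mul_assoc, ← mul_assoc, hF.sgn_mul_self k.isLt ha, hF.sgn_mul_self k.isLt hb, one_mul, one_mul] at h
    exact h.symm

include hC in
/-- The action of h_k(c) inside rank two subsystems. -/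
theorem h_conj (k : Fin D.rank) {c : F} (hc : c ≠ 0) (j r : ℕ) (hr : D.InRankTwoSub k j r) (t : F) :
    S.h k c * S.x r t * (S.h k c)⁻¹ = S.x r (c ^ D.cartan k r * t) := by
  refine S.transport hC k (S.h k c) (mul_mem (S.nElt_mem k c) (S.nElt_mem k (-1))) id
    (fun r => c ^ D.cartan k r) (fun _ _ _ _ h => h) (fun _ _ => rfl) (fun _ _ h => h)
    (fun _ h => h) (fun _ h => h) ?_ ?_ j r hr t
  · intro q hq v
    rw [h, map_mul, S.f_nElt (hF.sub_simple k.isLt k.isLt), S.f_nElt (hF.sub_simple k.isLt k.isLt)]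
    exact (hF.stT hC.1 F).h_conj k.val k.isLt c hc q hq v
  · intro a b ha hb v w
    simp only [id_eq, ChevalleyDatum.commWord, List.map_map]
    refine List.map_congr_left fun d hd => ?_
    simp only [Function.comp_apply, Prod.mk.injEq, true_and]
    rw [(hF.commTerms_psi ha hb hd).2.2 k.val k.isLt, zpow_add₀ hc, mul_comm (d.2.2.1 : ℤ),
      mul_comm (d.2.2.2 : ℤ), _root_.zpow_mul, _root_.zpow_mul, zpow_natCast, zpow_natCast,
      show -(c ^ D.cartan k.val a * v) = c ^ D.cartan k.val a * -v by ring, mul_pow, mul_pow]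
    ring

end CTSys

end Cfsg.Agent.Lie
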