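import Mathlib

/-!
The arithmetic core of the theorem of Feit and Higman: two real matrices satisfying the relations of a
Hecke algebra of dihedral type of length `m`, with vanishing traces on the non-trivial words, force
`m ∈ {2, 3, 4, 6, 8}`.
-/

set_option autoImplicit false
set_option linter.style.haveILetI false

namespace Cfsg.Agent.Lie.FeitHigman

open Matrix

section Monoid

variable {M : Type*} [Monoid M]

/-- The alternating product of length `n` beginning with `x`. -/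
def alt (x y : M) : ℕ → M
  | 0 => 1
  | n + 1 => x * alt y x n

/-- The alternating product of length `n` ending with `x`. -/
def altR (x y : M) : ℕ → M
  | 0 => 1
  | n + 1 => altR y x n * x

theorem alt_even (x y : M) (n : ℕ) : alt x y (2 * n) = (x * y) ^ n := by
  induction n with
  | zero => simp [alt]
  | succ n ih => rw [show 2 * (n + 1) = 2 * n + 1 + 1 by ring, alt, alt, ih, pow_succ', mul_assoc]

theorem alt_odd (x y : M) (n : ℕ) : alt x y (2 * n + 1) = (x * y) ^ n * x := by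
  induction n with
  | zero => simp [alt]
  | succ n ih =>
    rw [show 2 * (n + 1) + 1 = 2 * n + 1 + 1 + 1 by ring, alt, alt, ih, pow_succ']
    simp only [mul_assoc]

theorem altR_even (x y : M) (n : ℕ) : altR x y (2 * n) = (y * x) ^ n := by
  induction n with
  | zero => simp [altR]
  | succ n ih => rw [show 2 * (n + 1) = 2 * n + 1 + 1 by ring, altR, altR, ih, pow_succ, mul_assoc]

theorem altR_odd (x y : M) (n : ℕ) : altR x y (2 * n + 1) = (x * y) ^ n * x := by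
  rw [altR, altR_even]

theorem alt_map {N : Type*} [Monoid N] (f : M →* N) (x y : M) (n : ℕ) :
    f (alt x y n) = alt (f x) (f y) n := by
  induction n generalizing x y with
  | zero => simp [alt]
  | succ n ih => rw [alt, alt, map_mul, ih]

theorem alt_rel {N : Type*} [Monoid N] (P : M → N → Prop) (h1 : P 1 1)
    (hmul : ∀ a b c d, P a c → P b d → P (a * b) (c * d)) {x y : M} {x' y' : N} (hx : P x x') (hy : P y y')
    (n : ℕ) : P (alt x y n) (alt x' y' n) := by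
  induction n generalizing x y x' y' with
  | zero => exact h1
  | succ n ih => exact hmul _ _ _ _ hx (ih hy hx)

end Monoid

theorem sum_range_double {β : Type*} [AddCommMonoid β] (F : ℕ → β) (h : ℕ) :
    ∑ i ∈ Finset.range (2 * h), F i = ∑ n ∈ Finset.range h, (F (2 * n) + F (2 * n + 1)) := by
  induction h with
  | zero => simp
  | succ h ih =>
    rw [show 2 * (h + 1) = 2 * h + 1 + 1 by ring, Finset.sum_range_succ, Finset.sum_range_succ, ih,
      Finset.sum_range_succ, add_assoc]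

abbrev M2 : Type := Matrix (Fin 2) (Fin 2) ℝ

/-- The parameters of a two-dimensional representation. -/
structure Par where
  q : ℝ
  r : ℝ
  c : ℝ
  u : ℝ
  hq : 1 < q
  hr : 1 < r
  hu : u * u = q * r
  hu0 : 0 < u

namespace Par

variable (P : Par)

noncomputable def a : ℝ := (P.r - 1 + 2 * P.u * P.c) / (P.q + 1)
noncomputable def d : ℝ := P.r - 1 - P.a
def σ : M2 := !![P.q, 0; 0, -1]
noncomputable def τ : M2 := !![P.a, P.a * P.d + P.r; 1, P.d]
noncomputable def C : M2 := P.σ * P.τ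
noncomputable def C' : M2 := P.u⁻¹ • P.C
noncomputable def X (n : ℕ) : ℝ := (P.C' ^ n) 0 0
noncomputable def p : ℝ := P.q * P.a / P.u
noncomputable def num : ℝ :=
  (P.q * P.r + 1) * (P.q + P.r) + 2 * P.u * P.c * (P.q - 1) * (P.r - 1) - 4 * P.q * P.r * P.c ^ 2

theorem q_ne : P.q ≠ 0 := by linarith [P.hq]
theorem u_ne : P.u ≠ 0 := P.hu0.ne'

theorem σ_sq : P.σ * P.σ = P.q • (1 : M2) + (P.q - 1) • P.σ := by
  ext i j; fin_cases i <;> fin_cases j <;> simp [σ] <;> ring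

theorem τ_sq : P.τ * P.τ = P.r • (1 : M2) + (P.r - 1) • P.τ := by
  ext i j; fin_cases i <;> fin_cases j <;> simp [τ, d] <;> ring

theorem qa : P.q * P.a = 2 * P.u * P.c + P.d := by
  have : P.q + 1 ≠ 0 := by linarith [P.hq]
  rw [d, a]; field_simp; ring

theorem C'_sq : P.C' * P.C' = (2 * P.c) • P.C' - 1 := by
  have h1 := P.qa
  have h2 := P.hu
  have h3 := P.u_ne
  ext i j; fin_cases i <;> fin_cases j <;> simp [C', C, σ, τ] <;> field_simp <;> grobner

theorem C_pow (n : ℕ) : P.C ^ n = P.u ^ n • P.C' ^ n := by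
  rw [C', smul_pow, smul_smul, inv_pow, mul_inv_cancel₀ (pow_ne_zero _ P.u_ne), one_smul]

theorem sin_pow {θ : ℝ} (hc : P.c = Real.cos θ) (n : ℕ) :
    Real.sin θ • P.C' ^ (n + 1) = Real.sin ((n + 1 : ℕ) * θ) • P.C' - Real.sin (n * θ) • (1 : M2) := by
  induction n with
  | zero => simp
  | succ n ih =>
    rw [pow_succ (P.C') (n + 1), ← smul_mul_assoc, ih, sub_mul, smul_mul_assoc, smul_mul_assoc, one_mul, C'_sq,
      smul_sub, smul_smul]
    have e : Real.sin ((n + 1 + 1 : ℕ) * θ) = Real.sin ((n + 1 : ℕ) * θ) * (2 * P.c) - Real.sin (n * θ) := by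
      have e1 := Real.sin_add ((n + 1 : ℕ) * θ) θ
      have e2 := Real.sin_sub ((n + 1 : ℕ) * θ) θ
      rw [hc]
      push_cast at e1 e2 ⊢
      rw [show ((n : ℝ) + 1) * θ + θ = ((n : ℝ) + 1 + 1) * θ by ring] at e1
      rw [show ((n : ℝ) + 1) * θ - θ = (n : ℝ) * θ by ring] at e2
      linarith
    rw [e, sub_smul]
    abel

theorem X_zero : P.X 0 = 1 := by simp [X]

theorem X_one : P.X 1 = P.p := by simp [X, C', C, σ, τ, p]; ring

theorem X_rec (n : ℕ) : P.X (n + 2) = 2 * P.c * P.X (n + 1) - P.X n := by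
  have h : P.C' ^ (n + 2) = (2 * P.c) • P.C' ^ (n + 1) - P.C' ^ n := by
    rw [pow_add, pow_two, C'_sq, mul_sub, mul_one, mul_smul_comm, ← pow_succ]
  simp [X, h]

theorem X_inv (n : ℕ) :
    P.X (n + 1) ^ 2 - 2 * P.c * P.X (n + 1) * P.X n + P.X n ^ 2 = P.p ^ 2 - 2 * P.c * P.p + 1 := by
  induction n with
  | zero => rw [X_one, X_zero]; ring
  | succ n ih => rw [X_rec]; linear_combination ih

theorem Q_eq : P.p ^ 2 - 2 * P.c * P.p + 1 = P.num / (P.r * (P.q + 1) ^ 2) := by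
  have h1 : P.q + 1 ≠ 0 := by linarith [P.hq]
  have h2 : P.r ≠ 0 := by linarith [P.hr]
  have h3 := P.u_ne
  have h4 := P.hu
  rw [p, a, num]
  field_simp
  grobner

theorem σ_left (Z : M2) : (P.σ * Z) 0 0 = P.q * Z 0 0 := by simp [σ, Matrix.mul_apply, Fin.sum_univ_two]

theorem σ_right (Z : M2) : (Z * P.σ) 0 0 = Z 0 0 * P.q := by simp [σ, Matrix.mul_apply, Fin.sum_univ_two]

theorem σ_cancel {Y Z : M2} (h : P.σ * Y = P.σ * Z) : Y = Z := by
  have hi : (!![P.q⁻¹, 0; 0, -1] : M2) * P.σ = 1 := by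
    ext i j; fin_cases i <;> fin_cases j <;> simp [σ, P.q_ne]
  rw [← one_mul Y, ← one_mul Z, ← hi, mul_assoc, mul_assoc, h]

theorem σ_comm_pow (n : ℕ) : P.σ * (P.τ * P.σ) ^ n = P.C ^ n * P.σ := by
  induction n with
  | zero => simp
  | succ n ih => rw [pow_succ, ← mul_assoc, ih, C, pow_succ, mul_assoc, mul_assoc, mul_assoc]

theorem τσ_pow00 (n : ℕ) : ((P.τ * P.σ) ^ n) 0 0 = P.u ^ n * P.X n := by
  have h := congrArg (fun Z : M2 => Z 0 0) (P.σ_comm_pow n)
  simp only [σ_left, σ_right, C_pow, Matrix.smul_apply, smul_eq_mul] at h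
  have : P.q * ((P.τ * P.σ) ^ n) 0 0 = P.q * (P.u ^ n * P.X n) := by rw [h, X]; ring
  exact mul_left_cancel₀ P.q_ne this

theorem C_pow00 (n : ℕ) : (P.C ^ n) 0 0 = P.u ^ n * P.X n := by
  simp [C_pow, X]

theorem τσ_τ00 (n : ℕ) : ((P.τ * P.σ) ^ n * P.τ) 0 0 = P.u ^ (n + 1) * P.X (n + 1) / P.q := by
  rw [eq_div_iff P.q_ne, mul_comm, ← σ_left, ← mul_assoc, σ_comm_pow, mul_assoc, show P.σ * P.τ = P.C from rfl,
    ← pow_succ, C_pow00]

end Par

variable {ι : Type*} [Fintype ι] [DecidableEq ι]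

section Omega

variable (P : Par) (A B : Matrix ι ι ℝ)

noncomputable def ts (ψ : M2 →ₗ[ℝ] ℝ) (i : ℕ) : Matrix ι ι ℝ :=
  (ψ (altR P.σ P.τ i) / alt P.q P.r i) • alt A B i

noncomputable def tt (ψ : M2 →ₗ[ℝ] ℝ) (i : ℕ) : Matrix ι ι ℝ :=
  (ψ (altR P.τ P.σ i) / alt P.r P.q i) • alt B A i

noncomputable def Ω (m : ℕ) (ψ : M2 →ₗ[ℝ] ℝ) : Matrix ι ι ℝ :=
  ∑ i ∈ Finset.range m, (tt P A B ψ i + ts P A B ψ (i + 1))

/-- The contribution of the word of length `i` to the Schur element. -/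
noncomputable def fs (i : ℕ) : ℝ := (altR P.σ P.τ i) 0 0 * (alt P.σ P.τ i) 0 0 / alt P.q P.r i

noncomputable def ft (i : ℕ) : ℝ := (altR P.τ P.σ i) 0 0 * (alt P.τ P.σ i) 0 0 / alt P.r P.q i

noncomputable def κ (m : ℕ) : ℝ := ∑ i ∈ Finset.range m, (ft P i + fs P (i + 1))

theorem fs_even (n : ℕ) : fs P (2 * n) = P.X n ^ 2 := by
  rw [fs, altR_even, alt_even, alt_even, P.τσ_pow00, show P.σ * P.τ = P.C from rfl, P.C_pow00, ← P.hu,
    mul_pow]
  have := pow_ne_zero n P.u_ne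
  field_simp

theorem ft_even (n : ℕ) : ft P (2 * n) = P.X n ^ 2 := by
  rw [ft, altR_even, alt_even, alt_even, P.τσ_pow00, show P.σ * P.τ = P.C from rfl, P.C_pow00,
    mul_comm P.r P.q, ← P.hu, mul_pow]
  have := pow_ne_zero n P.u_ne
  field_simp

theorem fs_odd (n : ℕ) : fs P (2 * n + 1) = P.q * P.X n ^ 2 := by
  rw [fs, altR_odd, alt_odd, alt_odd, P.σ_right, show P.σ * P.τ = P.C from rfl, P.C_pow00, ← P.hu, mul_pow]
  have := pow_ne_zero n P.u_ne
  have := P.q_ne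
  field_simp

theorem ft_odd (n : ℕ) : ft P (2 * n + 1) = P.X (n + 1) ^ 2 / P.q := by
  rw [ft, altR_odd, alt_odd, alt_odd, P.τσ_τ00, mul_comm P.r P.q, ← P.hu, mul_pow]
  have := pow_ne_zero n P.u_ne
  have := P.q_ne
  have := P.u_ne
  have h2 := P.hu
  have : P.r ≠ 0 := by linarith [P.hr]
  rw [pow_succ]
  field_simp
  grobner

variable {P A B} (hA : A * A = P.q • (1 : Matrix ι ι ℝ) + (P.q - 1) • A)
  (hB : B * B = P.r • (1 : Matrix ι ι ℝ) + (P.r - 1) • B) {m : ℕ}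
  (hbr : alt A B m = alt B A m) (hρ : altR P.σ P.τ m = altR P.τ P.σ m) (hw : alt P.q P.r m = alt P.r P.q m)

include hbr hρ hw in
theorem Ω_swap (ψ : M2 →ₗ[ℝ] ℝ) :
    Ω P A B m ψ = ∑ i ∈ Finset.range m, (ts P A B ψ i + tt P A B ψ (i + 1)) := by
  have h0 : ts P A B ψ 0 = tt P A B ψ 0 := rfl
  have hm : ts P A B ψ m = tt P A B ψ m := by rw [ts, tt, hbr, hρ, hw]
  have e1 := (Finset.sum_range_succ' (ts P A B ψ) m).symm.trans (Finset.sum_range_succ _ m)
  have e2 := (Finset.sum_range_succ' (tt P A B ψ) m).symm.trans (Finset.sum_range_succ _ m)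
  rw [Ω, Finset.sum_add_distrib, Finset.sum_add_distrib]
  refine add_right_cancel (b := tt P A B ψ 0) ?_
  rw [add_assoc, add_assoc, e2]
  conv_lhs => rw [← h0, e1]
  rw [hm]
  abel

theorem pair {k : ℝ} (hk : k ≠ 0) {M : Matrix ι ι ℝ} {x : M2}
    (hM : M * M = k • (1 : Matrix ι ι ℝ) + (k - 1) • M) (hx : x * x = k • (1 : M2) + (k - 1) • x)
    (ψ : M2 →ₗ[ℝ] ℝ) (F : Matrix ι ι ℝ) (Y : M2) (w : ℝ) :
    M * ((ψ Y / w) • F + (ψ (Y * x) / (k * w)) • (M * F)) =
      (ψ (Y * x) / w) • F + (ψ (Y * x * x) / (k * w)) • (M * F) := by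
  rw [mul_add, mul_smul_comm, mul_smul_comm, ← mul_assoc, hM, add_mul, smul_mul_assoc, smul_mul_assoc, one_mul,
    mul_assoc Y, hx, mul_add, mul_smul_comm, mul_smul_comm, mul_one, map_add, map_smul, map_smul,
    smul_eq_mul, smul_eq_mul, smul_add, smul_smul, smul_smul,
    show (k * ψ Y + (k - 1) * ψ (Y * x)) / (k * w) = ψ Y / w + (k - 1) * (ψ (Y * x) / (k * w)) by field_simp,
    show ψ (Y * x) / (k * w) * k = ψ (Y * x) / w by field_simp, add_smul,
    mul_comm (k - 1) (ψ (Y * x) / (k * w))]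
  abel

include hA in
theorem casimir_A (ψ : M2 →ₗ[ℝ] ℝ) :
    A * Ω P A B m ψ = Ω P A B m (ψ.comp (LinearMap.mulRight ℝ P.σ)) := by
  rw [Ω, Ω, Finset.mul_sum]
  refine Finset.sum_congr rfl fun i _ => ?_
  exact pair P.q_ne hA P.σ_sq ψ _ _ _

include hB hbr hρ hw in
theorem casimir_B (ψ : M2 →ₗ[ℝ] ℝ) :
    B * Ω P A B m ψ = Ω P A B m (ψ.comp (LinearMap.mulRight ℝ P.τ)) := by
  rw [Ω_swap hbr hρ hw, Ω_swap hbr hρ hw, Finset.mul_sum]
  refine Finset.sum_congr rfl fun i _ => ?_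
  exact pair (by linarith [P.hr]) hB P.τ_sq ψ _ _ _

omit hA hB in
theorem Ω_lin (x y : ℝ) (ψ φ : M2 →ₗ[ℝ] ℝ) :
    Ω P A B m (x • ψ + y • φ) = x • Ω P A B m ψ + y • Ω P A B m φ := by
  simp only [Ω, ts, tt, Finset.smul_sum, ← Finset.sum_add_distrib]
  refine Finset.sum_congr rfl fun i _ => ?_
  simp only [LinearMap.add_apply, LinearMap.smul_apply, smul_eq_mul, smul_add, smul_smul, add_div, add_smul,
    mul_div_assoc]
  abel

include hA hB hbr hρ hw in
theorem Ω_sq :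
    Ω P A B m (Matrix.entryLinearMap ℝ ℝ 0 0) * Ω P A B m (Matrix.entryLinearMap ℝ ℝ 0 0) =
      κ P m • Ω P A B m (Matrix.entryLinearMap ℝ ℝ 0 0) := by
  obtain ⟨e, he⟩ : ∃ e, e = Matrix.entryLinearMap ℝ ℝ (0 : Fin 2) (0 : Fin 2) := ⟨_, rfl⟩
  obtain ⟨f, hf⟩ : ∃ f, f = Matrix.entryLinearMap ℝ ℝ (0 : Fin 2) (1 : Fin 2) := ⟨_, rfl⟩
  rw [← he]
  have hrel : ∀ (a b : Matrix ι ι ℝ) (a' b' : M2),
      (∀ ψ, a * Ω P A B m ψ = Ω P A B m (ψ.comp (LinearMap.mulRight ℝ a'))) →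
      (∀ ψ, b * Ω P A B m ψ = Ω P A B m (ψ.comp (LinearMap.mulRight ℝ b'))) →
      ∀ ψ, a * b * Ω P A B m ψ = Ω P A B m (ψ.comp (LinearMap.mulRight ℝ (a' * b'))) := fun a b a' b' h h' ψ => by
    rw [mul_assoc, h', h]
    congr 1
    ext1 Y
    simp [mul_assoc]
  have h1 : ∀ ψ : M2 →ₗ[ℝ] ℝ,
      (1 : Matrix ι ι ℝ) * Ω P A B m ψ = Ω P A B m (ψ.comp (LinearMap.mulRight ℝ (1 : M2))) := fun ψ => by
    rw [one_mul]; congr 1; ext1 Y; simp
  have hdec : ∀ Z : M2, e.comp (LinearMap.mulRight ℝ Z) = Z 0 0 • e + Z 1 0 • f := fun Z => by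
    subst he hf
    ext1 Y
    simp [Matrix.mul_apply, Fin.sum_univ_two, mul_comm]
  have hs : ∀ i, alt A B i * Ω P A B m e =
      (alt P.σ P.τ i) 0 0 • Ω P A B m e + (alt P.σ P.τ i) 1 0 • Ω P A B m f := fun i => by
    rw [alt_rel (fun a a' => ∀ ψ, a * Ω P A B m ψ = Ω P A B m (ψ.comp (LinearMap.mulRight ℝ a'))) h1
      (fun a b a' b' => hrel a b a' b') (casimir_A hA) (casimir_B hB hbr hρ hw) i e, hdec, Ω_lin]
  have ht : ∀ i, alt B A i * Ω P A B m e =
      (alt P.τ P.σ i) 0 0 • Ω P A B m e + (alt P.τ P.σ i) 1 0 • Ω P A B m f := fun i => by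
    rw [alt_rel (fun a a' => ∀ ψ, a * Ω P A B m ψ = Ω P A B m (ψ.comp (LinearMap.mulRight ℝ a'))) h1
      (fun a b a' b' => hrel a b a' b') (casimir_B hB hbr hρ hw) (casimir_A hA) i e, hdec, Ω_lin]
  obtain ⟨μ, hμ⟩ : ∃ μ : ℝ, μ = ∑ i ∈ Finset.range m,
      ((altR P.τ P.σ i) 0 0 * (alt P.τ P.σ i) 1 0 / alt P.r P.q i +
        (altR P.σ P.τ (i + 1)) 0 0 * (alt P.σ P.τ (i + 1)) 1 0 / alt P.q P.r (i + 1)) := ⟨_, rfl⟩
  have he' : ∀ Y : M2, e Y = Y 0 0 := fun Y => by rw [he]; rfl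
  have hsq : Ω P A B m e * Ω P A B m e = κ P m • Ω P A B m e + μ • Ω P A B m f := by
    rw [hμ, κ, Finset.sum_smul, Finset.sum_smul, ← Finset.sum_add_distrib]
    conv_lhs => arg 1; rw [Ω]
    rw [Finset.sum_mul]
    refine Finset.sum_congr rfl fun i _ => ?_
    simp only [ts, tt, fs, ft, add_mul, smul_mul_assoc, hs, ht, he', smul_add,
      smul_smul, add_smul]
    simp only [div_mul_eq_mul_div]
    abel
  have hAe : A * Ω P A B m e = P.q • Ω P A B m e := by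
    rw [casimir_A hA, hdec, Ω_lin]
    simp [Par.σ]
  have hAf : A * Ω P A B m f = (-1 : ℝ) • Ω P A B m f := by
    rw [casimir_A hA, show f.comp (LinearMap.mulRight ℝ P.σ) = (0 : ℝ) • e + (-1 : ℝ) • f by
      subst he hf; ext1 Y; simp [Par.σ, Matrix.mul_apply, Fin.sum_univ_two], Ω_lin, zero_smul, zero_add]
  have h3 : A * (Ω P A B m e * Ω P A B m e) = P.q • (Ω P A B m e * Ω P A B m e) := by
    rw [← mul_assoc, hAe, smul_mul_assoc]
  rw [hsq, mul_add, mul_smul_comm, mul_smul_comm, hAe, hAf, smul_add, smul_smul, smul_smul, smul_smul,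
    smul_smul, mul_comm P.q, add_right_inj] at h3
  have h4 : ((P.q + 1) * μ) • Ω P A B m f = 0 := by
    rw [show (P.q + 1) * μ = P.q * μ - μ * (-1) by ring, sub_smul, h3, sub_self]
  rw [hsq]
  rcases smul_eq_zero.1 h4 with h5 | h5
  · rw [(mul_eq_zero.1 h5).resolve_left (by linarith [P.hq]), zero_smul, add_zero]
  · rw [h5, smul_zero, add_zero]

end Omega

theorem trace_idem (E : Matrix ι ι ℝ) (h : E * E = E) : ∃ k : ℕ, E.trace = k := by
  have h' : IsIdempotentElem (Matrix.toLin' E) := by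
    show Matrix.toLin' E * Matrix.toLin' E = _
    rw [Module.End.mul_eq_comp, ← Matrix.toLin'_mul, h]
  have hp := LinearMap.IsProj.trace (LinearMap.IsIdempotentElem.isProj_range _ h')
  rw [LinearMap.trace_eq_matrix_trace ℝ (Pi.basisFun ℝ ι), LinearMap.toMatrix_eq_toMatrix',
    LinearMap.toMatrix'_toLin'] at hp
  exact ⟨_, hp⟩

section Arith

variable [Nonempty ι] {A B : Matrix ι ι ℝ} {m : ℕ}

/-- The Schur element is rational. -/
theorem kappa_rat (P : Par) (hA : A * A = P.q • (1 : Matrix ι ι ℝ) + (P.q - 1) • A)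
    (hB : B * B = P.r • (1 : Matrix ι ι ℝ) + (P.r - 1) • B) (hm : 1 ≤ m)
    (hbr : alt A B m = alt B A m) (hρ : altR P.σ P.τ m = altR P.τ P.σ m)
    (hw : alt P.q P.r m = alt P.r P.q m)
    (htr : ∀ i, 1 ≤ i → i ≤ m → (alt A B i).trace = 0 ∧ (alt B A i).trace = 0) :
    ∃ z : ℚ, κ P m = z := by
  have hsq := Ω_sq hA hB hbr hρ hw
  have htrace : (Ω P A B m (Matrix.entryLinearMap ℝ ℝ 0 0)).trace = (Fintype.card ι : ℝ) := by
    obtain ⟨j, rfl⟩ : ∃ j, m = j + 1 := ⟨m - 1, by omega⟩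
    rw [Ω, Matrix.trace_sum, Finset.sum_range_succ', Finset.sum_eq_zero (fun i hi => ?_), zero_add]
    · rw [Matrix.trace_add, ts, tt, Matrix.trace_smul, Matrix.trace_smul, (htr 1 le_rfl (by omega)).1]
      simp [alt, altR]
    · have := Finset.mem_range.1 hi
      rw [Matrix.trace_add, ts, tt, Matrix.trace_smul, Matrix.trace_smul,
        (htr (i + 1) (by omega) (by omega)).2, (htr (i + 1 + 1) (by omega) (by omega)).1]
      simp
  by_cases h0 : κ P m = 0
  · exact ⟨0, by simp [h0]⟩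
  obtain ⟨k, hk⟩ := trace_idem ((κ P m)⁻¹ • Ω P A B m (Matrix.entryLinearMap ℝ ℝ 0 0)) (by
    rw [smul_mul_assoc, mul_smul_comm, hsq, smul_smul, smul_smul, mul_assoc, inv_mul_cancel₀ h0, mul_one])
  rw [Matrix.trace_smul, htrace, smul_eq_mul] at hk
  refine ⟨(Fintype.card ι : ℚ) / k, ?_⟩
  have hk0 : (k : ℝ) ≠ 0 := by
    rw [← hk]
    exact mul_ne_zero (inv_ne_zero h0) (by simp [Fintype.card_ne_zero])
  push_cast
  rw [eq_div_iff hk0, ← hk, ← mul_assoc, mul_inv_cancel₀ h0, one_mul]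

end Arith

section Even

variable (P : Par) {θ : ℝ} (hc : P.c = Real.cos θ) (hs : Real.sin θ ≠ 0) {h : ℕ} (hh : 1 ≤ h)
  (hz : Real.sin (h * θ) = 0)

include hc hs hh hz

theorem C'_period : ∃ ε : ℝ, ε * ε = 1 ∧ P.C' ^ h = ε • (1 : M2) := by
  obtain ⟨k, rfl⟩ : ∃ k, h = k + 1 := ⟨h - 1, by omega⟩
  refine ⟨Real.cos ((k + 1 : ℕ) * θ), ?_, ?_⟩
  · have := Real.sin_sq_add_cos_sq ((k + 1 : ℕ) * θ)
    rw [hz] at this
    linarith
  · have h1 := P.sin_pow hc k
    have h2 := Real.sin_sub ((k + 1 : ℕ) * θ) θ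
    rw [hz, zero_smul, zero_sub, ← neg_smul] at h1
    rw [hz, show ((k + 1 : ℕ) : ℝ) * θ - θ = (k : ℝ) * θ by push_cast; ring] at h2
    refine smul_right_injective M2 hs ?_
    show Real.sin θ • P.C' ^ (k + 1) = Real.sin θ • (_ • (1 : M2))
    rw [h1, smul_smul]
    congr 1
    linarith

theorem braid_even : altR P.σ P.τ (2 * h) = altR P.τ P.σ (2 * h) := by
  obtain ⟨ε, -, hε⟩ := C'_period P hc hs hh hz
  rw [altR_even, altR_even]
  refine P.σ_cancel ?_
  rw [P.σ_comm_pow, show P.σ * P.τ = P.C from rfl, P.C_pow, hε, smul_smul, smul_mul_assoc, mul_smul_comm, one_mul,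
    mul_one]

theorem kappa_even : κ P (2 * h) = ((2 * h : ℕ) : ℝ) * (P.num / (1 - P.c ^ 2)) / (4 * P.q * P.r) := by
  obtain ⟨ε, hε1, hε⟩ := C'_period P hc hs hh hz
  have hXh : P.X h = ε := by simp [Par.X, hε]
  have hXh1 : P.X (h + 1) = ε * P.p := by rw [← P.X_one, Par.X, Par.X, pow_succ, hε]; simp
  obtain ⟨S, hS⟩ : ∃ S : ℝ, S = ∑ n ∈ Finset.range h, P.X n ^ 2 := ⟨_, rfl⟩
  obtain ⟨R, hR⟩ : ∃ R : ℝ, R = ∑ n ∈ Finset.range h, P.X (n + 1) * P.X n := ⟨_, rfl⟩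
  have hS' : ∑ n ∈ Finset.range h, P.X (n + 1) ^ 2 = S := by
    have e := (Finset.sum_range_succ' (fun n => P.X n ^ 2) h).symm.trans (Finset.sum_range_succ _ h)
    rw [hXh, P.X_zero, ← hS, sq ε, hε1] at e
    linarith
  have hR' : ∑ n ∈ Finset.range h, P.X (n + 2) * P.X (n + 1) = R := by
    have e := (Finset.sum_range_succ' (fun n => P.X (n + 1) * P.X n) h).symm.trans (Finset.sum_range_succ _ h)
    rw [hXh, hXh1, P.X_one, P.X_zero, ← hR] at e
    linear_combination e + P.p * hε1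
  have h1 : R + R = 2 * P.c * S := by
    nth_rewrite 1 [← hR']
    rw [hR, ← hS', Finset.mul_sum, ← Finset.sum_add_distrib]
    exact Finset.sum_congr rfl fun n _ => by rw [P.X_rec]; ring
  have h2 : S - 2 * P.c * R + S = h * (P.p ^ 2 - 2 * P.c * P.p + 1) := by
    nth_rewrite 1 [← hS']
    rw [hS, hR, Finset.mul_sum, ← Finset.sum_sub_distrib, ← Finset.sum_add_distrib,
      Finset.sum_congr rfl (g := fun _ => P.p ^ 2 - 2 * P.c * P.p + 1)
      (fun n _ => by rw [← P.X_inv n]; ring), Finset.sum_const, Finset.card_range, nsmul_eq_mul]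
  have hk : κ P (2 * h) = (1 + P.q) * S + (1 + P.q⁻¹) * S := by
    nth_rewrite 2 [← hS']
    rw [κ, sum_range_double, hS, Finset.mul_sum, Finset.mul_sum, ← Finset.sum_add_distrib]
    refine Finset.sum_congr rfl fun n _ => ?_
    rw [ft_even, fs_odd, ft_odd, show 2 * n + 1 + 1 = 2 * (n + 1) by ring, fs_even]
    ring
  have hc1 : 1 - P.c ^ 2 ≠ 0 := by
    have := Real.sin_sq_add_cos_sq θ
    rw [hc, show 1 - Real.cos θ ^ 2 = Real.sin θ ^ 2 by linarith]
    exact pow_ne_zero _ hs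
  have hQ := P.Q_eq
  have hq0 := P.q_ne
  have hr0 : P.r ≠ 0 := by linarith [P.hr]
  have hq1 : P.q + 1 ≠ 0 := by linarith [P.hq]
  have hSval : S = h * (P.num / (P.r * (P.q + 1) ^ 2)) / (2 * (1 - P.c ^ 2)) := by
    rw [← hQ, eq_div_iff (mul_ne_zero two_ne_zero hc1)]
    linear_combination h2 + P.c * h1
  rw [hk, hSval]
  push_cast
  field_simp
  ring

end Even

section Odd

variable (P : Par) (hqr : P.r = P.q) (hu : P.u = P.q) {θ : ℝ} (hc : P.c = Real.cos θ) (hs : Real.sin θ ≠ 0)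
  {k : ℕ} (hk : 1 ≤ k) (hz : Real.sin ((k + 1 : ℕ) * θ) + Real.sin (k * θ) = 0)

include hqr hu hc hs hk hz

theorem braid_odd : P.C ^ k * P.σ = P.τ * P.C ^ k := by
  obtain ⟨j, rfl⟩ : ∃ j, k = j + 1 := ⟨k - 1, by omega⟩
  have h1 : P.C' * P.σ - P.τ * P.C' = (2 * P.c + 1) • (P.σ - P.τ) := by
    have h2 := P.qa
    have h4 : P.d = P.q - 1 - P.a := by rw [Par.d, hqr]
    have h3 := P.q_ne
    ext i l; fin_cases i <;> fin_cases l <;> simp [Par.C', Par.C, Par.σ, Par.τ, hu, hqr] <;> field_simp <;> rw [hu] at h2 <;> grobner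
  rw [P.C_pow, smul_mul_assoc, mul_smul_comm]
  congr 1
  refine smul_right_injective M2 hs ?_
  show Real.sin θ • (P.C' ^ (j + 1) * P.σ) = Real.sin θ • (P.τ * P.C' ^ (j + 1))
  rw [← smul_mul_assoc, ← mul_smul_comm, P.sin_pow hc, ← sub_eq_zero]
  have e : Real.sin ((j + 1 : ℕ) * θ) * (2 * P.c + 1) - Real.sin (j * θ) = 0 := by
    have e1 := Real.sin_add ((j + 1 : ℕ) * θ) θ
    have e2 := Real.sin_sub ((j + 1 : ℕ) * θ) θ
    rw [hc]
    push_cast at hz e1 e2 ⊢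
    rw [show ((j : ℝ) + 1) * θ + θ = ((j : ℝ) + 1 + 1) * θ by ring] at e1
    rw [show ((j : ℝ) + 1) * θ - θ = (j : ℝ) * θ by ring] at e2
    linarith
  calc _ = Real.sin ((j + 1 : ℕ) * θ) • (P.C' * P.σ - P.τ * P.C') - Real.sin (j * θ) • (P.σ - P.τ) := by
        simp only [sub_mul, mul_sub, smul_sub, smul_mul_assoc, mul_smul_comm, one_mul, mul_one]
        abel
    _ = (Real.sin ((j + 1 : ℕ) * θ) * (2 * P.c + 1) - Real.sin (j * θ)) • (P.σ - P.τ) := by
        rw [h1, smul_smul, ← sub_smul]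
    _ = 0 := by rw [e, zero_smul]

theorem X_top : P.X (k + 1) = P.q * P.X k := by
  have h1 := congrArg (fun Z : M2 => (P.σ * Z) 0 0) (braid_odd P hqr hu hc hs hk hz)
  have h0 : P.σ * (P.τ * P.C ^ k) = P.C ^ (k + 1) := by rw [← mul_assoc, pow_succ']; rfl
  simp only [h0] at h1
  rw [P.σ_left, P.σ_right, P.C_pow00, P.C_pow00, pow_succ, hu] at h1
  have := pow_ne_zero k P.q_ne
  have := P.q_ne
  field_simp at h1
  linarith

theorem altR_braid_odd : altR P.σ P.τ (2 * k + 1) = altR P.τ P.σ (2 * k + 1) := by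
  rw [altR_odd, altR_odd, show P.σ * P.τ = P.C from rfl, braid_odd P hqr hu hc hs hk hz]
  clear hk hz
  induction k with
  | zero => simp
  | succ k ih => rw [pow_succ, ← mul_assoc, ih, Par.C, pow_succ]; simp only [mul_assoc]

theorem kappa_odd : κ P (2 * k + 1) = ((2 * k + 1 : ℕ) : ℝ) * (P.num / (1 - P.c ^ 2)) / (4 * P.q * P.r) := by
  have hXt := X_top P hqr hu hc hs hk hz
  obtain ⟨S, hS⟩ : ∃ S : ℝ, S = ∑ n ∈ Finset.range (k + 1), P.X n ^ 2 := ⟨_, rfl⟩
  obtain ⟨S', hS'⟩ : ∃ S' : ℝ, S' = ∑ n ∈ Finset.range (k + 1), P.X (n + 1) ^ 2 := ⟨_, rfl⟩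
  obtain ⟨R, hR⟩ : ∃ R : ℝ, R = ∑ n ∈ Finset.range (k + 1), P.X (n + 1) * P.X n := ⟨_, rfl⟩
  obtain ⟨R', hR'⟩ : ∃ R' : ℝ, R' = ∑ n ∈ Finset.range (k + 1), P.X (n + 2) * P.X (n + 1) := ⟨_, rfl⟩
  have hX2 : P.X (k + 2) = (2 * P.c * P.q - 1) * P.X k := by rw [P.X_rec, hXt]; ring
  have a1 : S' + 1 = S + P.q ^ 2 * P.X k ^ 2 := by
    have e := (Finset.sum_range_succ' (fun n => P.X n ^ 2) (k + 1)).symm.trans (Finset.sum_range_succ _ (k + 1))
    rw [hXt, P.X_zero, ← hS, ← hS'] at e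
    linear_combination e
  have a2 : R' + P.p = R + (2 * P.c * P.q - 1) * P.q * P.X k ^ 2 := by
    have e := (Finset.sum_range_succ' (fun n => P.X (n + 1) * P.X n) (k + 1)).symm.trans
      (Finset.sum_range_succ _ (k + 1))
    rw [hXt, hX2, P.X_one, P.X_zero, ← hR, ← hR'] at e
    linear_combination e
  have h1 : R + R' = 2 * P.c * S' := by
    rw [hR, hR', hS', Finset.mul_sum, ← Finset.sum_add_distrib]
    exact Finset.sum_congr rfl fun n _ => by rw [P.X_rec]; ring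
  have h2 : S' - 2 * P.c * R + S = ((k + 1 : ℕ) : ℝ) * (P.p ^ 2 - 2 * P.c * P.p + 1) := by
    rw [hS, hR, hS', Finset.mul_sum, ← Finset.sum_sub_distrib, ← Finset.sum_add_distrib,
      Finset.sum_congr rfl (g := fun _ => P.p ^ 2 - 2 * P.c * P.p + 1)
      (fun n _ => by rw [← P.X_inv n]; ring), Finset.sum_const, Finset.card_range, nsmul_eq_mul]
  have hXk : (P.q ^ 2 - 2 * P.c * P.q + 1) * P.X k ^ 2 = P.p ^ 2 - 2 * P.c * P.p + 1 := by
    rw [← P.X_inv k, hXt]; ring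
  have hk' : κ P (2 * k + 1) = (P.q + 1) / P.q * ((P.q + 1) * S - 1) := by
    have e : ∑ n ∈ Finset.range k, P.X (n + 1) ^ 2 = S - 1 := by
      rw [hS, Finset.sum_range_succ' (fun n => P.X n ^ 2), P.X_zero]; ring
    have e' : ∑ n ∈ Finset.range k, P.X n ^ 2 = S - P.X k ^ 2 := by
      rw [hS, Finset.sum_range_succ]; ring
    have hgr : κ P (2 * k + 1) = (1 + P.q) * ∑ n ∈ Finset.range k, P.X n ^ 2 +
        (1 + P.q⁻¹) * ∑ n ∈ Finset.range k, P.X (n + 1) ^ 2 + (1 + P.q) * P.X k ^ 2 := by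
      rw [κ, Finset.sum_range_succ, sum_range_double, Finset.mul_sum, Finset.mul_sum,
        ← Finset.sum_add_distrib, ft_even, fs_odd]
      congr 1
      · refine Finset.sum_congr rfl fun n _ => ?_
        rw [ft_even, fs_odd, ft_odd, show 2 * n + 1 + 1 = 2 * (n + 1) by ring, fs_even]
        ring
      · ring
    rw [hgr, e, e']
    have := P.q_ne
    field_simp
    ring
  have hc1 : 1 - P.c ^ 2 ≠ 0 := by
    have := Real.sin_sq_add_cos_sq θ
    rw [hc, show 1 - Real.cos θ ^ 2 = Real.sin θ ^ 2 by linarith]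
    exact pow_ne_zero _ hs
  have hq0 := P.q_ne
  have hq1 : P.q + 1 ≠ 0 := by linarith [P.hq]
  have hp : P.p = (P.q - 1 + 2 * P.q * P.c) / (P.q + 1) := by
    rw [Par.p, Par.a, hu, hqr]; field_simp
  have hc2 : 0 < 1 - P.c ^ 2 := by
    have h0 := Real.sin_sq_add_cos_sq θ
    have h0' := sq_pos_of_ne_zero hs
    rw [hc]; linarith
  have hden : P.q ^ 2 - 2 * P.c * P.q + 1 ≠ 0 := by
    intro h0
    nlinarith [sq_nonneg (P.q - P.c)]
  have hXv : P.X k ^ 2 = 2 * (1 + P.c) / (P.q + 1) ^ 2 := by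
    refine mul_left_cancel₀ hden (hXk.trans ?_)
    rw [hp]; field_simp; ring
  push_cast at h2
  have hSval : S = (((k : ℝ) + 1) * (P.p ^ 2 - 2 * P.c * P.p + 1) + 1 - 2 * P.c ^ 2 + P.c * P.p -
      (P.q ^ 2 - P.c * P.q) * P.X k ^ 2) / (2 * (1 - P.c ^ 2)) := by
    rw [eq_div_iff (mul_ne_zero two_ne_zero hc1)]
    linear_combination h2 + (2 * P.c ^ 2 - 1) * a1 + P.c * h1 - P.c * a2
  rw [hk', hSval, hXv, hp, Par.num, hu, hqr]
  push_cast
  field_simp
  ring

end Odd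

section Main

variable [Nonempty ι] {A B : Matrix ι ι ℝ} {m q r : ℕ}

theorem cos_angle_rat {x : ℚ} (h0 : 0 ≤ x) (h1 : x ≤ 1) (hz : ∃ z : ℚ, Real.cos (x * Real.pi) = z) :
    x = 0 ∨ x = 1 / 3 ∨ x = 1 / 2 ∨ x = 2 / 3 ∨ x = 1 := by
  have hmem : (x : ℝ) * Real.pi ∈ Set.Icc (0 : ℝ) Real.pi := by
    have := Real.pi_pos
    have e0 : (0 : ℝ) ≤ x := by exact_mod_cast h0
    have e1 : (x : ℝ) ≤ 1 := by exact_mod_cast h1
    constructor <;> nlinarith
  have h := niven_angle_eq ⟨x, rfl⟩ hz hmem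
  have hpi := Real.pi_ne_zero
  simp only [Set.mem_insert_iff, Set.mem_singleton_iff] at h
  rcases h with h | h | h | h | h
  · left; exact_mod_cast (mul_eq_zero.1 h).resolve_right hpi
  · right; left
    have : (x : ℝ) = ((1 / 3 : ℚ) : ℝ) := mul_right_cancel₀ hpi (h.trans (by push_cast; ring))
    exact_mod_cast this
  · right; right; left
    have : (x : ℝ) = ((1 / 2 : ℚ) : ℝ) := mul_right_cancel₀ hpi (h.trans (by push_cast; ring))
    exact_mod_cast this
  · right; right; right; left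
    have : (x : ℝ) = ((2 / 3 : ℚ) : ℝ) := mul_right_cancel₀ hpi (h.trans (by push_cast; ring))
    exact_mod_cast this
  · right; right; right; right
    have : (x : ℝ) = ((1 : ℚ) : ℝ) := mul_right_cancel₀ hpi (h.trans (by push_cast; ring))
    exact_mod_cast this

/-- The Feit–Higman constraint. -/
theorem constraint (hq : 2 ≤ q) (hr : 2 ≤ r) (hm : 2 ≤ m)
    (hA : A * A = (q : ℝ) • (1 : Matrix ι ι ℝ) + ((q : ℝ) - 1) • A)
    (hB : B * B = (r : ℝ) • (1 : Matrix ι ι ℝ) + ((r : ℝ) - 1) • B)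
    (hbr : alt A B m = alt B A m)
    (htr : ∀ i, 1 ≤ i → i ≤ m → (alt A B i).trace = 0 ∧ (alt B A i).trace = 0)
    (hodd : Odd m → q = r) : m = 2 ∨ m = 3 ∨ m = 4 ∨ m = 6 ∨ m = 8 := by
  have hq' : (1 : ℝ) < q := by exact_mod_cast hq
  have hr' : (1 : ℝ) < r := by exact_mod_cast hr
  obtain ⟨u, hu0, hu⟩ : ∃ u : ℝ, 0 < u ∧ u * u = (q : ℝ) * r :=
    ⟨Real.sqrt ((q : ℝ) * r), Real.sqrt_pos.2 (by positivity), Real.mul_self_sqrt (by positivity)⟩
  have hpi := Real.pi_pos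
  rcases Nat.even_or_odd' m with ⟨h, rfl | rfl⟩
  · -- even
    rcases Nat.lt_or_ge h 2 with hh | hh
    · left; omega
    right; right
    obtain ⟨N, hN⟩ : ∃ N : ℝ, N = ((q : ℝ) * r + 1) * (q + r) := ⟨_, rfl⟩
    -- the rationality for each admissible angle
    have key : ∀ j : ℕ, 0 < j → j < h → ∃ z : ℚ,
        (N + 2 * u * Real.cos (j * Real.pi / h) * ((q : ℝ) - 1) * (r - 1) -
          4 * q * r * Real.cos (j * Real.pi / h) ^ 2) / (1 - Real.cos (j * Real.pi / h) ^ 2) = z := by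
      intro j hj hjh
      have hh0 : (0 : ℝ) < h := by exact_mod_cast (by omega : 0 < h)
      have hs : Real.sin (j * Real.pi / h) ≠ 0 := by
        refine (Real.sin_pos_of_pos_of_lt_pi (by positivity) ?_).ne'
        rw [div_lt_iff₀ hh0]
        have : (j : ℝ) < h := by exact_mod_cast hjh
        nlinarith
      have hz : Real.sin (h * (j * Real.pi / h)) = 0 := by
        rw [show (h : ℝ) * (j * Real.pi / h) = j * Real.pi by field_simp]
        exact Real.sin_nat_mul_pi j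
      let P : Par := ⟨q, r, Real.cos (j * Real.pi / h), u, hq', hr', hu, hu0⟩
      have hρ := braid_even P rfl hs (by omega) hz
      obtain ⟨z, hz'⟩ := kappa_rat P hA hB (by omega) hbr hρ
        (by rw [alt_even, alt_even, mul_comm]) htr
      rw [kappa_even P rfl hs (by omega) hz] at hz'
      refine ⟨z * (4 * q * r) / (2 * h : ℕ), ?_⟩
      push_cast at hz' ⊢
      rw [← hz', hN]
      show _ = _
      simp only [Par.num, P]
      field_simp
    -- the square of the cosine is rational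
    obtain ⟨z1, hz1⟩ := key 1 one_pos (by omega)
    obtain ⟨z2, hz2⟩ := key (h - 1) (by omega) (by omega)
    have hhr : (h : ℝ) ≠ 0 := by exact_mod_cast (by omega : h ≠ 0)
    rw [show Real.cos (((h - 1 : ℕ) : ℝ) * Real.pi / h) = -Real.cos ((1 : ℕ) * Real.pi / h) by
      rw [Nat.cast_sub (by omega), Nat.cast_one, ← Real.cos_pi_sub]; congr 1; field_simp] at hz2
    obtain ⟨c, hc⟩ : ∃ c : ℝ, c = Real.cos ((1 : ℕ) * Real.pi / h) := ⟨_, rfl⟩
    have hs1 : 0 < 1 - c ^ 2 := by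
      have := Real.sin_sq_add_cos_sq ((1 : ℕ) * Real.pi / h)
      have hlt : Real.sin ((1 : ℕ) * Real.pi / h) > 0 := by
        refine Real.sin_pos_of_pos_of_lt_pi (by positivity) ?_
        rw [Nat.cast_one, one_mul, div_lt_iff₀ (by positivity)]
        have : (2 : ℝ) ≤ h := by exact_mod_cast hh
        nlinarith
      rw [hc]; nlinarith
    rw [← hc] at hz1 hz2
    rw [neg_sq, div_eq_iff hs1.ne'] at hz2
    rw [div_eq_iff hs1.ne'] at hz1
    have hK : ((z1 + z2 : ℚ) : ℝ) ≠ 8 * q * r := by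
      intro hK
      push_cast at hK
      have h1 : (4 : ℝ) * q * r < N := by
        rw [hN]
        nlinarith [sq_nonneg ((q : ℝ) - r), mul_pos (sub_pos.2 hq') (sub_pos.2 hr'), sq_nonneg (u - 1),
          mul_pos (mul_pos (sub_pos.2 hq') (sub_pos.2 hr')) hu0]
      nlinarith
    have hc2 : ∃ z : ℚ, Real.cos ((2 / h : ℚ) * Real.pi) = z := by
      refine ⟨2 * (((z1 + z2) - 2 * (((q : ℚ) * r + 1) * (q + r))) / ((z1 + z2) - 8 * q * r)) - 1, ?_⟩
      push_cast at hK ⊢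
      rw [← hN, show (2 : ℝ) / h * Real.pi = 2 * ((1 : ℕ) * Real.pi / h) by push_cast; ring, Real.cos_two_mul,
        ← hc]
      congr 2
      rw [eq_div_iff (sub_ne_zero.2 hK)]
      linear_combination hz1 + hz2
    have hx := cos_angle_rat (x := 2 / (h : ℚ)) (by positivity) (by
      rw [div_le_one (by positivity)]; exact_mod_cast hh) hc2
    have hhq : (h : ℚ) ≠ 0 := by exact_mod_cast (by omega : h ≠ 0)
    have : h = 2 ∨ h = 3 ∨ h = 4 ∨ h = 6 := by
      rcases hx with hx | hx | hx | hx | hx <;> field_simp at hx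
      · norm_num at hx
      all_goals
        first
        | (have : h = 2 := by exact_mod_cast (by linarith : (h : ℚ) = 2)
           omega)
        | (have : h = 3 := by exact_mod_cast (by linarith : (h : ℚ) = 3)
           omega)
        | (have : h = 4 := by exact_mod_cast (by linarith : (h : ℚ) = 4)
           omega)
        | (have : h = 6 := by exact_mod_cast (by linarith : (h : ℚ) = 6)
           omega)
    rcases this with rfl | rfl | rfl | rfl
    · left; rfl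
    · right; left; rfl
    · right; right; rfl
    -- m = 12 is impossible
    exfalso
    obtain ⟨w1, hw1⟩ := key 1 one_pos (by norm_num)
    obtain ⟨w2, hw2⟩ := key 2 two_pos (by norm_num)
    rw [show ((1 : ℕ) : ℝ) * Real.pi / (6 : ℕ) = Real.pi / 6 by push_cast; ring, Real.cos_pi_div_six] at hw1
    rw [show ((2 : ℕ) : ℝ) * Real.pi / (6 : ℕ) = Real.pi / 3 by push_cast; ring, Real.cos_pi_div_three] at hw2
    have h3 : Real.sqrt 3 * Real.sqrt 3 = 3 := Real.mul_self_sqrt (by norm_num)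
    rw [hN, div_eq_iff (by nlinarith)] at hw1
    rw [hN, div_eq_iff (by norm_num)] at hw2
    have hqr : ((q : ℝ) - 1) * (r - 1) ≠ 0 := (mul_pos (sub_pos.2 hq') (sub_pos.2 hr')).ne'
    have hu2 : u = ((w2 : ℝ) * 3 / 4 - (q * r + 1) * (q + r) + q * r) / ((q - 1) * (r - 1)) := by
      rw [eq_div_iff hqr]; linear_combination hw2
    have hu1 : u * Real.sqrt 3 = ((w1 : ℝ) / 4 - (q * r + 1) * (q + r) + 3 * q * r) / ((q - 1) * (r - 1)) := by
      rw [eq_div_iff hqr]; linear_combination hw1 + (q * r - w1 / 4 : ℝ) * h3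
    refine Nat.prime_three.irrational_sqrt ⟨(((w1 : ℚ) / 4 - (q * r + 1) * (q + r) + 3 * q * r) / ((q - 1) * (r - 1))) /
      ((w2 * 3 / 4 - ((q : ℚ) * r + 1) * (q + r) + q * r) / ((q - 1) * (r - 1))), ?_⟩
    push_cast
    rw [← hu1, ← hu2]
    field_simp
  · -- odd
    right; left
    have hqr := hodd ⟨h, rfl⟩
    subst hqr
    obtain ⟨θ, hθ⟩ : ∃ θ : ℝ, θ = 2 * Real.pi / (2 * h + 1 : ℕ) := ⟨_, rfl⟩
    have hd : (0 : ℝ) < (2 * h + 1 : ℕ) := by positivity
    have hs0 : 0 < Real.sin θ := by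
      rw [hθ]
      refine Real.sin_pos_of_pos_of_lt_pi (by positivity) ?_
      rw [div_lt_iff₀ hd]
      have : (3 : ℝ) ≤ (2 * h + 1 : ℕ) := by exact_mod_cast (by omega : 3 ≤ 2 * h + 1)
      nlinarith
    have hz : Real.sin ((h + 1 : ℕ) * θ) + Real.sin (h * θ) = 0 := by
      rw [show ((h + 1 : ℕ) : ℝ) * θ = 2 * Real.pi - h * θ by
        rw [hθ]; push_cast; field_simp; ring, Real.sin_two_pi_sub]
      ring
    let P : Par := ⟨q, q, Real.cos θ, q, hq', hq', rfl, by linarith⟩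
    have hρ := altR_braid_odd P rfl rfl rfl hs0.ne' (by omega) hz
    obtain ⟨z, hz'⟩ := kappa_rat P hA hB (by omega) hbr hρ rfl htr
    rw [kappa_odd P rfl rfl rfl hs0.ne' (by omega) hz] at hz'
    simp only [Par.num, P] at hz'
    obtain ⟨c, hc⟩ : ∃ c : ℝ, c = Real.cos θ := ⟨_, rfl⟩
    rw [← hc] at hz'
    have hs1 : 0 < 1 - c ^ 2 := by
      have := Real.sin_sq_add_cos_sq θ
      rw [hc]; nlinarith
    have hc1 : c ≠ 1 := fun h1 => by rw [h1] at hs1; norm_num at hs1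
    obtain ⟨K, hK⟩ : ∃ K : ℚ, K = z * (2 * q) / (2 * h + 1 : ℕ) := ⟨_, rfl⟩
    have hKc : ((q : ℝ) ^ 2 + 1 - 2 * q * c) = (K : ℝ) * (1 - c) := by
      rw [hK]
      push_cast at hz' hd ⊢
      rw [← hz']
      field_simp
      ring
    have hK2 : (K : ℝ) ≠ 2 * q := by
      intro h1
      rw [h1] at hKc
      nlinarith
    have hcr : ∃ w : ℚ, Real.cos ((2 / (2 * h + 1 : ℕ) : ℚ) * Real.pi) = w := by
      refine ⟨(K - (q : ℚ) ^ 2 - 1) / (K - 2 * q), ?_⟩
      push_cast at hθ ⊢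
      rw [show (2 : ℝ) / (2 * h + 1) * Real.pi = θ by rw [hθ]; ring, ← hc, eq_div_iff (sub_ne_zero.2 hK2)]
      linear_combination hKc
    have h3 : (3 : ℚ) ≤ (2 * h + 1 : ℕ) := by exact_mod_cast (by omega : 3 ≤ 2 * h + 1)
    have hx := cos_angle_rat (x := 2 / ((2 * h + 1 : ℕ) : ℚ)) (by positivity) (by
      rw [div_le_one (by positivity)]; linarith) hcr
    have hne : ((2 * h + 1 : ℕ) : ℚ) ≠ 0 := by linarith
    rcases hx with hx | hx | hx | hx | hx <;> rw [div_eq_iff hne] at hx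
    · norm_num at hx
    · have : 2 * h + 1 = 6 := by exact_mod_cast (by linarith : ((2 * h + 1 : ℕ) : ℚ) = 6)
      omega
    · have : 2 * h + 1 = 4 := by exact_mod_cast (by linarith : ((2 * h + 1 : ℕ) : ℚ) = 4)
      omega
    · exact_mod_cast (by linarith : ((2 * h + 1 : ℕ) : ℚ) = 3)
    · have : 2 * h + 1 = 2 := by exact_mod_cast (by linarith : ((2 * h + 1 : ℕ) : ℚ) = 2)
      omega

end Main

end Cfsg.Agent.Lie.FeitHigman
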