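import Cfsg.Agent.Lib.Lie.CTPartial
import Cfsg.Agent.Lib.Lie.FeitHigmanAlg

/-!
Curtis–Tits: root elements for all roots from the fundamental ones, and the action of the fundamental
elements on them.
-/

set_option autoImplicit false
set_option linter.style.haveILetI false

namespace Cfsg.Agent.Lie

open Cfsg.Lie
open Cfsg.Agent.Lie.FeitHigman (alt)

section Cert

variable (D : ChevalleyDatum)

/-- The index height. -/
def ctMu (r : ℕ) : ℕ := if D.nroots / 2 ≤ r then r else D.nroots - 1 - r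

/-- r is ± a fundamental root. -/
def ctBase (r : ℕ) : Bool := (List.range D.rank).any fun i => r == D.simple i || r == D.neg (D.simple i)

/-- The chosen descent. -/
def ctDown (r : ℕ) : ℕ :=
  ((List.range D.rank).find? fun k => decide (ctMu D (D.reflectRoot k r) < ctMu D r)).getD 0

/-- InRankTwoSub, computably. -/
def ctSub (i j r : ℕ) : Bool :=
  decide (r < D.nroots) && decide (i < D.rank) && decide (j < D.rank) &&
    (List.range D.rank).all fun k => k == i || k == j || (D.coroot.getD r #[]).getD k 0 == 0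

/-- The order of the product of two fundamental reflections. -/
def ctM (k l : ℕ) : ℕ :=
  let a := D.cartan l (D.simple k) * D.cartan k (D.simple l)
  if a = 0 then 2 else if a = 1 then 3 else if a = 2 then 4 else 6

/-- The alternating path. -/
def ctWalk : ℕ → ℕ → ℕ → ℕ → ℕ
  | _, _, 0, r => r
  | a, b, i + 1, r => D.reflectRoot a (ctWalk b a i r)

/-- The edges of the alternating path from r are below r or the chosen descent. -/
def ctPath (r l : ℕ) : ℕ → ℕ → ℕ → Bool
  | _, _, 0 => true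
  | a, b, i + 1 => ctPath r l b a i &&
      (let v := ctWalk D b a i r
       let w := D.reflectRoot a v
       (decide (ctMu D v < ctMu D r) && decide (ctMu D w < ctMu D r)) ||
         (a == l && ((v == r && w == D.reflectRoot l r) || (w == r && v == D.reflectRoot l r))))

/-- All roots descend. -/
def okDown : Bool := (List.range D.nroots).all fun r => ctBase D r ||
  (decide (ctDown D r < D.rank) && decide (ctMu D (D.reflectRoot (ctDown D r) r) < ctMu D r) &&
    (List.range D.rank).all fun i => (List.range D.rank).all fun j =>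
      !ctSub D i j r || ctDown D r == i || ctDown D r == j)

/-- Braid relations. -/
def okBraid : Bool := (List.range D.rank).all fun k => (List.range D.rank).all fun l => k == l ||
  (decide (1 ≤ ctM D k l) &&
    ctWalk D l k (ctM D k l - 1) (D.simple (if ctM D k l % 2 = 1 then l else k)) == D.simple k)

/-- The loops. -/
def okLoop : Bool := (List.range D.nroots).all fun r => ctBase D r ||
  (List.range D.rank).all fun k => decide (ctMu D r < ctMu D (D.reflectRoot k r)) || k == ctDown D r ||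
    ctSub D k (ctDown D r) r ||
    (ctPath D r (ctDown D r) (ctDown D r) k (2 * ctM D k (ctDown D r) - 1) &&
      ctWalk D (ctDown D r) k (2 * ctM D k (ctDown D r) - 1) r == D.reflectRoot k r)

end Cert

variable {D : ChevalleyDatum}

theorem ctSub_iff {i j r : ℕ} : ctSub D i j r = true ↔ D.InRankTwoSub i j r := by
  simp only [ctSub, Bool.and_eq_true, decide_eq_true_eq, List.all_eq_true, List.mem_range, Bool.or_eq_true,
    beq_iff_eq, ChevalleyDatum.InRankTwoSub]
  constructor
  · rintro ⟨⟨⟨h1, h2⟩, h3⟩, h4⟩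
    exact ⟨h1, h2, h3, fun k hk a b => by rcases h4 k hk with (h | h) | h <;> first | exact absurd h a | exact absurd h b | exact h⟩
  · rintro ⟨h1, h2, h3, h4⟩
    refine ⟨⟨⟨h1, h2⟩, h3⟩, fun k hk => ?_⟩
    by_cases a : k = i
    · exact Or.inl (Or.inl a)
    by_cases b : k = j
    · exact Or.inl (Or.inr b)
    exact Or.inr (h4 k hk a b)

/-- The certificates. -/
structure CTCert (D : ChevalleyDatum) : Prop where
  hyp : CTHyp D
  down : okDown D = true
  braid : okBraid D = true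
  loop : okLoop D = true

theorem stGen_inj (hF : Facts D) {F : Type*} [Field F] {r : ℕ} (hr : r < D.nroots) {t u : F}
    (h : D.stGen F r t = D.stGen F r u) : t = u := by
  have h1 := congrArg (hF.proj F) h
  rw [hF.proj_x, hF.proj_x] at h1
  have h2 : hF.xg r (t - u) = 1 := by rw [sub_eq_add_neg, hF.xg_add, hF.xg_neg, h1, mul_inv_cancel]
  exact sub_eq_zero.1 ((hF.x_eq_one r hr _).1 (congrArg Units.val h2))

theorem pow_quot_eq_one {M : Type*} [Group M] {a b : M} (ha : a * a = 1) (hb : b * b = 1) {m : ℕ}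
    (h : alt a b m = alt b a m) : (a * b) ^ m = 1 := by
  have e : b * a = (a * b)⁻¹ := by
    rw [mul_inv_rev, inv_eq_of_mul_eq_one_right ha, inv_eq_of_mul_eq_one_right hb]
  obtain ⟨n, hn⟩ := Nat.even_or_odd' m
  rcases hn with rfl | rfl
  · rw [FeitHigman.alt_even, FeitHigman.alt_even, e, inv_pow, eq_inv_iff_mul_eq_one] at h
    rw [two_mul, pow_add]
    exact h
  · rw [FeitHigman.alt_odd, FeitHigman.alt_odd, e, inv_pow] at h
    have h1 : (a * b) ^ n * a * b * (a * b) ^ n = 1 := by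
      rw [h]
      calc ((a * b) ^ n)⁻¹ * b * b * (a * b) ^ n = ((a * b) ^ n)⁻¹ * (b * b) * (a * b) ^ n := by group
        _ = 1 := by rw [hb, mul_one, inv_mul_cancel]
    rw [show 2 * n + 1 = n + 1 + n by ring, pow_add, pow_add, pow_one, ← mul_assoc ((a * b) ^ n) a b]
    exact h1

namespace CTSys

variable {hF : Facts D} {F : Type*} [Field F] {Γ : Type*} [Group Γ] (S : CTSys hF F Γ)

/-- Root elements for all roots, with fuel. -/
noncomputable def XF : ℕ → ℕ → F → Γ
  | 0, r, t => S.x r t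
  | m + 1, r, t => if ctBase D r then S.x r t else
      S.n (ctDown D r) * XF m (D.reflectRoot (ctDown D r) r)
        (hF.sgn F (ctDown D r) (D.reflectRoot (ctDown D r) r) * t) * (S.n (ctDown D r))⁻¹

/-- Root elements for all roots. -/
noncomputable def X (r : ℕ) (t : F) : Γ := if r < D.nroots then S.XF (ctMu D r + 1) r t else 1

variable (hC : CTCert D)

theorem down_spec (hF : Facts D) (hC : CTCert D) {r : ℕ} (hr : r < D.nroots) (hb : ctBase D r = false) :
    ctDown D r < D.rank ∧ D.reflectRoot (ctDown D r) r < D.nroots ∧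
      ctMu D (D.reflectRoot (ctDown D r) r) < ctMu D r := by
  have h := hC.down
  simp only [okDown, List.all_eq_true, List.mem_range, Bool.or_eq_true, Bool.and_eq_true, decide_eq_true_eq] at h
  rcases h r hr with h | ⟨⟨h1, h2⟩, -⟩
  · rw [hb] at h; exact absurd h Bool.false_ne_true
  · exact ⟨h1, hF.refl_lt _ h1 r hr, h2⟩

theorem base_spec {r : ℕ} (h : ctBase D r = true) : ∃ i < D.rank, r = D.simple i ∨ r = D.neg (D.simple i) := by
  simpa [ctBase] using h

include hF in
theorem base_sub {r : ℕ} (h : ctBase D r = true) : ∃ i < D.rank, ∀ j < D.rank, D.InRankTwoSub i j r := by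
  obtain ⟨i, hi, h⟩ := base_spec h
  refine ⟨i, hi, fun j hj => ?_⟩
  rcases h with rfl | rfl
  · exact hF.sub_simple hi hj
  · exact hF.sub_neg (hF.sub_simple hi hj)

include hC

theorem XF_eq {r : ℕ} (hr : r < D.nroots) : ∀ m, ctMu D r < m → ∀ t, S.XF m r t = S.X r t := by
  induction hn : ctMu D r using Nat.strong_induction_on generalizing r with
  | _ n ih =>
    subst hn
    intro m hm t
    obtain ⟨m, rfl⟩ : ∃ k, m = k + 1 := ⟨m - 1, by omega⟩
    rw [X, if_pos hr, XF, XF]
    cases hb : ctBase D r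
    · obtain ⟨h1, h2, h3⟩ := down_spec hF hC hr hb
      rw [if_neg Bool.false_ne_true, if_neg Bool.false_ne_true, ih _ h3 h2 rfl m (by omega),
        ih _ h3 h2 rfl (ctMu D r) h3]
    · simp

theorem X_base {r : ℕ} (hr : r < D.nroots) (hb : ctBase D r = true) (t : F) : S.X r t = S.x r t := by
  rw [X, if_pos hr, XF, if_pos hb]

theorem X_def {r : ℕ} (hr : r < D.nroots) (hb : ctBase D r = false) (t : F) :
    S.X r t = S.n (ctDown D r) * S.X (D.reflectRoot (ctDown D r) r)
      (hF.sgn F (ctDown D r) (D.reflectRoot (ctDown D r) r) * t) * (S.n (ctDown D r))⁻¹ := by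
  obtain ⟨h1, h2, h3⟩ := down_spec hF hC hr hb
  conv_lhs => rw [X, if_pos hr, XF, hb, if_neg Bool.false_ne_true]
  rw [S.XF_eq hC h2 _ h3]

theorem f_n {l : ℕ} (hl : l < D.rank) : S.f (S.n l) = nElt D (D.stGen F) (D.simple l) 1 :=
  S.f_nElt (hF.sub_simple hl hl) 1

theorem f_X : ∀ r, r < D.nroots → ∀ t, S.f (S.X r t) = D.stGen F r t := by
  intro r
  induction hn : ctMu D r using Nat.strong_induction_on generalizing r with
  | _ n ih =>
    subst hn
    intro hr t
    cases hb : ctBase D r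
    · obtain ⟨h1, h2, h3⟩ := down_spec hF hC hr hb
      have e := (hF.stT hC.hyp.1 F).n_conj (ctDown D r) h1 _ h2
        (hF.sgn F (ctDown D r) (D.reflectRoot (ctDown D r) r) * t)
      rw [S.X_def hC hr hb, map_mul, map_mul, map_inv, ih _ h3 _ rfl h2, S.f_n hC h1]
      refine e.trans ?_
      rw [hF.refl_refl _ h1 r hr, ← mul_assoc, hF.sgn_mul_self h1 h2, one_mul]
      rfl
    · obtain ⟨i, hi, h⟩ := base_sub (hF := hF) hb
      rw [S.X_base hC hr hb, S.f_x i i r (h i hi)]

theorem X_add : ∀ r, r < D.nroots → ∀ t u, S.X r (t + u) = S.X r t * S.X r u := by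
  intro r
  induction hn : ctMu D r using Nat.strong_induction_on generalizing r with
  | _ n ih =>
    subst hn
    intro hr t u
    cases hb : ctBase D r
    · obtain ⟨h1, h2, h3⟩ := down_spec hF hC hr hb
      rw [S.X_def hC hr hb, S.X_def hC hr hb, S.X_def hC hr hb, mul_add, ih _ h3 _ rfl h2]
      group
    · obtain ⟨i, hi, h⟩ := base_sub (hF := hF) hb
      rw [S.X_base hC hr hb, S.X_base hC hr hb, S.X_base hC hr hb, S.x_add i i r (h i hi)]

/-- X agrees with x inside rank two subsystems. -/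
theorem X_sub : ∀ r i j, D.InRankTwoSub i j r → ∀ t, S.X r t = S.x r t := by
  intro r
  induction hn : ctMu D r using Nat.strong_induction_on generalizing r with
  | _ n ih =>
    subst hn
    intro i j hr t
    cases hb : ctBase D r
    · obtain ⟨h1, h2, h3⟩ := down_spec hF hC hr.1 hb
      have hd := hC.down
      simp only [okDown, List.all_eq_true, List.mem_range, Bool.or_eq_true, Bool.and_eq_true,
        decide_eq_true_eq] at hd
      rcases hd r hr.1 with hd | ⟨-, hd⟩
      · rw [hb] at hd; exact absurd hd Bool.false_ne_true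
      have hd' := hd i hr.2.1 j hr.2.2.1
      simp only [Bool.not_eq_true', beq_iff_eq] at hd'
      obtain ⟨p, hp⟩ : ∃ p, D.InRankTwoSub (ctDown D r) p r := by
        rcases hd' with (h | h) | h
        · rw [ctSub_iff.2 hr] at h; exact absurd h.symm Bool.false_ne_true
        · exact ⟨j, h ▸ hr⟩
        · exact ⟨i, h ▸ Facts.sub_swap hr⟩
      have hp' := hF.sub_refl hp
      rw [S.X_def hC hr.1 hb, ih _ h3 _ rfl _ _ hp']
      refine (S.n_conj hC.hyp ⟨ctDown D r, h1⟩ p _ hp' _).trans ?_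
      show S.x (D.reflectRoot (ctDown D r) (D.reflectRoot (ctDown D r) r)) _ = _
      rw [hF.refl_refl _ h1 r hr.1, ← mul_assoc, hF.sgn_mul_self h1 h2, one_mul]
    · exact S.X_base hC hr.1 hb t

omit hC in
/-- g carries the root subgroup of a to that of b. -/
def M (g : Γ) (a b : ℕ) : Prop :=
  (fun y => g * y * g⁻¹) '' Set.range (S.X a) = Set.range (S.X b)

omit hC

theorem M.comp {g g' : Γ} {a b c : ℕ} (h : S.M g a b) (h' : S.M g' b c) : S.M (g' * g) a c := by
  unfold M at h h' ⊢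
  rw [← h', ← h, Set.image_image]
  refine Set.image_congr' fun y => ?_
  group

theorem M.refl (a : ℕ) : S.M 1 a a := by simp [M]

theorem M.inv {g : Γ} {a b : ℕ} (h : S.M g a b) : S.M g⁻¹ b a := by
  unfold M at h ⊢
  rw [← h, Set.image_image]
  simp [mul_assoc]

theorem M.mk {g : Γ} {a b : ℕ} (c : F) (hc : c ≠ 0) (h : ∀ t, g * S.X a t * g⁻¹ = S.X b (c * t)) :
    S.M g a b := by
  refine Set.Subset.antisymm ?_ ?_
  · rintro _ ⟨_, ⟨t, rfl⟩, rfl⟩
    exact ⟨c * t, (h t).symm⟩
  · rintro _ ⟨u, rfl⟩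
    refine ⟨_, ⟨u / c, rfl⟩, ?_⟩
    show g * S.X a (u / c) * g⁻¹ = _
    rw [h, mul_div_cancel₀ _ hc]

/-- The torus generated by the h_k(c). -/
def H0 : Subgroup Γ := Subgroup.closure {g | ∃ k < D.rank, ∃ c : F, c ≠ 0 ∧ S.h k c = g}

theorem h_mem {k : ℕ} (hk : k < D.rank) {c : F} (hc : c ≠ 0) : S.h k c ∈ S.H0 :=
  Subgroup.subset_closure ⟨k, hk, c, hc, rfl⟩

theorem nElt_neg {i j r : ℕ} (hr : D.InRankTwoSub i j r) (t : F) :
    nElt D S.x r (-t) = (nElt D S.x r t)⁻¹ := by
  simp only [nElt, mul_inv_rev, ← S.x_neg hr, ← S.x_neg (hF.sub_neg hr), inv_neg, neg_neg, mul_assoc]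

theorem n_sq {l : ℕ} (hl : l < D.rank) : S.n l * S.n l ∈ S.H0 := by
  have h1 := inv_mem (S.h_mem hl (neg_ne_zero.2 (one_ne_zero : (1 : F) ≠ 0)))
  rw [h, S.nElt_neg (hF.sub_simple hl hl), mul_inv_rev, inv_inv] at h1
  exact h1

include hC

theorem n_h_conj {l k : ℕ} (hl : l < D.rank) (hk : k < D.rank) {c : F} (hc : c ≠ 0) :
    S.n l * S.h k c * (S.n l)⁻¹ = (S.h l (c ^ D.cartan k (D.simple l)))⁻¹ * S.h k c := by
  have hα : D.InRankTwoSub k l (D.simple l) := Facts.sub_swap (hF.sub_simple hl hk)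
  have hd : (c ^ D.cartan k (D.simple l) : F) ≠ 0 := zpow_ne_zero _ hc
  have e : S.h k c * S.n l * (S.h k c)⁻¹ = nElt D S.x (D.simple l) (c ^ D.cartan k (D.simple l)) := by
    rw [n, nElt, show ∀ a b d g : Γ, g * (a * b * d) * g⁻¹ = (g * a * g⁻¹) * (g * b * g⁻¹) * (g * d * g⁻¹) from
      fun a b d g => by group, S.h_conj hC.hyp ⟨k, hk⟩ hc l _ hα, S.h_conj hC.hyp ⟨k, hk⟩ hc l _ (hF.sub_neg hα),
      nElt]
    show S.x _ (c ^ D.cartan k (D.simple l) * 1) * S.x _ (c ^ D.cartan k (D.neg (D.simple l)) * _) *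
      S.x _ (c ^ D.cartan k (D.simple l) * 1) = _
    rw [hF.cartan_neg k hk _ (hF.simple_lt l hl), zpow_neg, mul_one, inv_one, mul_neg, mul_one]
  have hneg : nElt D S.x (D.simple l) (-1) = (S.n l)⁻¹ := S.nElt_neg (hF.sub_simple hl hl) 1
  calc S.n l * S.h k c * (S.n l)⁻¹ = S.n l * (S.h k c * S.n l * (S.h k c)⁻¹)⁻¹ * S.h k c := by group
    _ = _ := by rw [e]; simp only [h, hneg, mul_inv_rev, inv_inv]

theorem n_normalizes {l : ℕ} (hl : l < D.rank) : S.n l ∈ Subgroup.normalizer (S.H0 : Set Γ) := by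
  have hle : ∀ g ∈ S.H0, S.n l * g * (S.n l)⁻¹ ∈ S.H0 := by
    intro g hg
    induction hg using Subgroup.closure_induction with
    | mem g hg =>
      obtain ⟨k, hk, c, hc, rfl⟩ := hg
      rw [S.n_h_conj hC hl hk hc]
      exact mul_mem (inv_mem (S.h_mem hl (zpow_ne_zero _ hc))) (S.h_mem hk hc)
    | one => simp
    | mul a b _ _ ha hb =>
      rw [show S.n l * (a * b) * (S.n l)⁻¹ = (S.n l * a * (S.n l)⁻¹) * (S.n l * b * (S.n l)⁻¹) by group]
      exact mul_mem ha hb
    | inv a _ ha =>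
      rw [show S.n l * a⁻¹ * (S.n l)⁻¹ = (S.n l * a * (S.n l)⁻¹)⁻¹ by group]
      exact inv_mem ha
  rw [Subgroup.mem_normalizer_iff]
  intro g
  refine ⟨hle g, fun hg => ?_⟩
  have := mul_mem (mul_mem (inv_mem (S.n_sq hl)) (hle _ hg)) (S.n_sq hl)
  simpa [mul_assoc] using this

theorem M_H0 : ∀ r, r < D.nroots → ∀ g ∈ S.H0, S.M g r r := by
  intro r
  induction hn : ctMu D r using Nat.strong_induction_on generalizing r with
  | _ n ih =>
    subst hn
    intro hr g hg
    cases hb : ctBase D r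
    · obtain ⟨h1, h2, h3⟩ := down_spec hF hC hr hb
      have hl : S.M (S.n (ctDown D r)) (D.reflectRoot (ctDown D r) r) r := by
        refine M.mk S _ (left_ne_zero_of_mul_eq_one (hF.sgn_mul_self (F := F) h1 h2)) fun t => ?_
        rw [S.X_def hC hr hb, ← mul_assoc, hF.sgn_mul_self h1 h2, one_mul]
      have hg' : (S.n (ctDown D r))⁻¹ * g * S.n (ctDown D r) ∈ S.H0 :=
        (Subgroup.mem_normalizer_iff''.1 (S.n_normalizes hC h1) g).1 hg
      have := M.comp S (M.comp S (M.inv S hl) (ih _ h3 _ rfl h2 _ hg')) hl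
      rwa [show S.n (ctDown D r) * ((S.n (ctDown D r))⁻¹ * g * S.n (ctDown D r) * (S.n (ctDown D r))⁻¹) = g
        by group] at this
    · obtain ⟨i, hi, h⟩ := base_sub (hF := hF) hb
      induction hg using Subgroup.closure_induction with
      | mem g hg =>
        obtain ⟨k, hk, c, hc, rfl⟩ := hg
        refine M.mk S (c ^ D.cartan k r) (zpow_ne_zero _ hc) fun t => ?_
        rw [S.X_base hC hr hb, S.X_base hC hr hb]
        exact S.h_conj hC.hyp ⟨k, hk⟩ hc i r (Facts.sub_swap (h k hk)) t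
      | one => exact M.refl S r
      | mul a b _ _ ha hb => exact M.comp S hb ha
      | inv a _ ha => exact M.inv S ha

theorem n_nElt {k : ℕ} (hk : k < D.rank) {j r : ℕ} (hr : D.InRankTwoSub k j r) (t : F) :
    S.n k * nElt D S.x r t * (S.n k)⁻¹ = nElt D S.x (D.reflectRoot k r) (hF.sgn F k r * t) := by
  have hs : hF.sgn F k (D.neg r) = hF.sgn F k r := by
    simp [Facts.sgn, hF.eta_neg k hk r hr.1]
  have e1 := S.n_conj hC.hyp ⟨k, hk⟩ j r hr t
  have e2 := S.n_conj hC.hyp ⟨k, hk⟩ j _ (hF.sub_neg hr) (-t⁻¹)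
  simp only at e1 e2
  rw [hs, hF.refl_neg k hk r hr.1] at e2
  have hinv : (hF.sgn F k r * t)⁻¹ = hF.sgn F k r * t⁻¹ := by
    rw [mul_inv_rev, inv_eq_of_mul_eq_one_right (hF.sgn_mul_self (F := F) hk hr.1), mul_comm]
  rw [nElt, nElt, show ∀ a b d g : Γ, g * (a * b * d) * g⁻¹ = (g * a * g⁻¹) * (g * b * g⁻¹) * (g * d * g⁻¹) from
    fun a b d g => by group, e1, e2, hinv, mul_neg]

theorem alt_conj : ∀ i, ∀ {a b : ℕ}, a < D.rank → b < D.rank → ∀ {r : ℕ}, D.InRankTwoSub a b r → ∀ t : F,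
    t * t = 1 → ∃ u : F, u * u = 1 ∧
      alt (S.n a) (S.n b) i * nElt D S.x r t * (alt (S.n a) (S.n b) i)⁻¹ = nElt D S.x (ctWalk D a b i r) u ∧
      D.InRankTwoSub a b (ctWalk D a b i r) := by
  intro i
  induction i with
  | zero => exact fun {a b} _ _ {r} hr t ht => ⟨t, ht, by simp [alt, ctWalk], by simpa [ctWalk] using hr⟩
  | succ i ih =>
    intro a b ha hb r hr t ht
    obtain ⟨u, hu, e, hs⟩ := ih hb ha (Facts.sub_swap hr) t ht
    have hs' := Facts.sub_swap hs
    refine ⟨hF.sgn F a (ctWalk D b a i r) * u, by rw [mul_mul_mul_comm, hF.sgn_mul_self ha hs.1, hu, one_mul], ?_,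
      hF.sub_refl hs'⟩
    rw [alt, show S.n a * alt (S.n b) (S.n a) i * nElt D S.x r t * (S.n a * alt (S.n b) (S.n a) i)⁻¹ =
      S.n a * (alt (S.n b) (S.n a) i * nElt D S.x r t * (alt (S.n b) (S.n a) i)⁻¹) * (S.n a)⁻¹ by group, e]
    exact S.n_nElt hC ha hs' u

theorem braid_loop {k l : ℕ} (hk : k < D.rank) (hl : l < D.rank) (hkl : k ≠ l) :
    alt (S.n k) (S.n l) (2 * ctM D k l) ∈ S.H0 := by
  have hb := hC.braid
  simp only [okBraid, List.all_eq_true, List.mem_range, Bool.or_eq_true, Bool.and_eq_true, decide_eq_true_eq,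
    beq_iff_eq] at hb
  obtain ⟨hm, hw⟩ := (hb k hk l hl).resolve_left hkl
  obtain ⟨m, hm'⟩ : ∃ m, ctM D k l = m + 1 := ⟨_, (Nat.sub_add_cancel hm).symm⟩
  rw [hm', Nat.add_sub_cancel] at hw
  obtain ⟨N, hN⟩ : ∃ N, N = Subgroup.normalizer (S.H0 : Set Γ) := ⟨_, rfl⟩
  haveI : (S.H0.subgroupOf N).Normal := by rw [hN]; infer_instance
  obtain ⟨A, hA⟩ : ∃ A : ↥N, (A : Γ) = S.n k := ⟨⟨S.n k, hN ▸ S.n_normalizes hC hk⟩, rfl⟩
  obtain ⟨B, hB⟩ : ∃ B : ↥N, (B : Γ) = S.n l := ⟨⟨S.n l, hN ▸ S.n_normalizes hC hl⟩, rfl⟩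
  obtain ⟨π, hπ⟩ : ∃ π : ↥N →* ↥N ⧸ S.H0.subgroupOf N, π = QuotientGroup.mk' _ := ⟨_, rfl⟩
  have hone : ∀ g : ↥N, π g = 1 ↔ (g : Γ) ∈ S.H0 := fun g => by
    rw [hπ, QuotientGroup.mk'_apply, QuotientGroup.eq_one_iff, Subgroup.mem_subgroupOf]
  have haa : π A * π A = 1 := by rw [← map_mul, hone, Subgroup.coe_mul, hA]; exact S.n_sq hk
  have hbb : π B * π B = 1 := by rw [← map_mul, hone, Subgroup.coe_mul, hB]; exact S.n_sq hl
  have hcoe : ∀ (P Q : ↥N) i, ((alt P Q i : ↥N) : Γ) = alt (P : Γ) Q i := fun P Q i =>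
    FeitHigman.alt_map N.subtype P Q i
  have happ : ∀ (a b : ↥N) i, alt a b (i + 1) = alt a b i * if i % 2 = 0 then a else b := by
    intro a b i
    induction i generalizing a b with
    | zero => simp [alt]
    | succ i ih =>
      rw [alt, ih, alt, mul_assoc]
      congr 1
      rcases Nat.mod_two_eq_zero_or_one i with h | h <;> simp [h, Nat.add_mod]
  obtain ⟨u, hu, hconj, -⟩ := S.alt_conj hC m hl hk (r := D.simple (if (m + 1) % 2 = 1 then l else k))
    (by split_ifs
        · exact hF.sub_simple hl hk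
        · exact Facts.sub_swap (hF.sub_simple hk hl)) (1 : F) (one_mul 1)
  rw [hw] at hconj
  have hbraid : alt (π A) (π B) (m + 1) = alt (π B) (π A) (m + 1) := by
    rw [← FeitHigman.alt_map, ← FeitHigman.alt_map, ← mul_inv_eq_one, ← map_inv, ← map_mul, hone,
      Subgroup.coe_mul, Subgroup.coe_inv]
    rw [happ B A m, alt, Subgroup.coe_mul, Subgroup.coe_mul, hA, hcoe B A m, hA, hB,
      show (((if m % 2 = 0 then B else A : ↥N)) : Γ) = S.n (if (m + 1) % 2 = 1 then l else k) by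
        rcases Nat.mod_two_eq_zero_or_one m with h | h <;> simp [h, Nat.add_mod, hA, hB],
      show alt (S.n l) (S.n k) m * S.n (if (m + 1) % 2 = 1 then l else k) = nElt D S.x (D.simple k) u *
        alt (S.n l) (S.n k) m by rw [← hconj]; simp only [n]; group, mul_inv_rev, mul_assoc, ← mul_assoc _ (alt (S.n l) (S.n k) m)⁻¹,
      mul_inv_cancel, one_mul]
    rcases mul_self_eq_one_iff.1 hu with rfl | rfl
    · rw [show nElt D S.x (D.simple k) (1 : F) = S.n k from rfl, mul_inv_cancel]; exact one_mem _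
    · rw [S.nElt_neg (hF.sub_simple hk hk), show nElt D S.x (D.simple k) (1 : F) = S.n k from rfl, inv_inv]
      exact S.n_sq hk
  rw [← hA, ← hB, ← hcoe, ← hone, FeitHigman.alt_map, FeitHigman.alt_even, hm']
  exact pow_quot_eq_one haa hbb hbraid

theorem n_M_sub {k j r : ℕ} (hr : D.InRankTwoSub k j r) : S.M (S.n k) r (D.reflectRoot k r) := by
  refine M.mk S (hF.sgn F k r) (left_ne_zero_of_mul_eq_one (hF.sgn_mul_self (F := F) hr.2.1 hr.1)) fun t => ?_
  rw [S.X_sub hC r k j hr, S.X_sub hC _ k j (hF.sub_refl hr)]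
  exact S.n_conj hC.hyp ⟨k, hr.2.1⟩ j r hr t

theorem M_rev {k a : ℕ} (hk : k < D.rank) (ha : a < D.nroots) (h : S.M (S.n k) (D.reflectRoot k a) a) :
    S.M (S.n k) a (D.reflectRoot k a) := by
  have := M.comp S (M.inv S h) (S.M_H0 hC _ (hF.refl_lt k hk a ha) _ (S.n_sq hk))
  rwa [show S.n k * S.n k * (S.n k)⁻¹ = S.n k by group] at this

theorem M_path {r l : ℕ} (hr : r < D.nroots) (hl : S.M (S.n l) r (D.reflectRoot l r))
    (hl' : S.M (S.n l) (D.reflectRoot l r) r)
    (hlow : ∀ v k, v < D.nroots → k < D.rank → ctMu D v < ctMu D r → ctMu D (D.reflectRoot k v) < ctMu D r →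
      S.M (S.n k) v (D.reflectRoot k v)) :
    ∀ i a b, a < D.rank → b < D.rank → ctPath D r l a b i = true →
      ctWalk D a b i r < D.nroots ∧ S.M (alt (S.n a) (S.n b) i) r (ctWalk D a b i r) := by
  intro i
  induction i with
  | zero => exact fun _ _ _ _ _ => ⟨hr, M.refl S r⟩
  | succ i ih =>
    intro a b ha hb h
    simp only [ctPath, Bool.and_eq_true, Bool.or_eq_true, decide_eq_true_eq, beq_iff_eq] at h
    obtain ⟨hp, he⟩ := h
    obtain ⟨hv, hM⟩ := ih b a hb ha hp
    refine ⟨hF.refl_lt a ha _ hv, M.comp S hM ?_⟩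
    rcases he with ⟨h1, h2⟩ | ⟨rfl, ⟨h1, h2⟩ | ⟨h1, h2⟩⟩
    · exact hlow _ a hv ha h1 h2
    · show S.M _ _ (D.reflectRoot a (ctWalk D b a i r))
      rw [h1]; exact hl
    · show S.M _ _ (D.reflectRoot a (ctWalk D b a i r))
      rw [h1, h2]; exact hl'

theorem n_M : ∀ k r, k < D.rank → r < D.nroots → S.M (S.n k) r (D.reflectRoot k r) := by
  suffices ∀ m k r, k < D.rank → r < D.nroots → ctMu D r = m → ctMu D (D.reflectRoot k r) ≤ m →
      S.M (S.n k) r (D.reflectRoot k r) by
    intro k r hk hr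
    by_cases h : ctMu D (D.reflectRoot k r) ≤ ctMu D r
    · exact this _ k r hk hr rfl h
    · refine S.M_rev hC hk hr ?_
      have := this _ k (D.reflectRoot k r) hk (hF.refl_lt k hk r hr) rfl (by rw [hF.refl_refl k hk r hr]; omega)
      rwa [hF.refl_refl k hk r hr] at this
  intro m
  induction m using Nat.strong_induction_on with
  | _ m ih =>
    intro k r hk hr hm hkr
    subst hm
    cases hb : ctBase D r
    swap
    · obtain ⟨i, hi, h⟩ := base_sub (hF := hF) hb
      exact S.n_M_sub hC (Facts.sub_swap (h k hk))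
    obtain ⟨h1, h2, h3⟩ := down_spec hF hC hr hb
    have hl' : S.M (S.n (ctDown D r)) (D.reflectRoot (ctDown D r) r) r := by
      refine M.mk S _ (left_ne_zero_of_mul_eq_one (hF.sgn_mul_self (F := F) h1 h2)) fun t => ?_
      rw [S.X_def hC hr hb, ← mul_assoc, hF.sgn_mul_self h1 h2, one_mul]
    have hl := S.M_rev hC h1 hr hl'
    by_cases hkd : k = ctDown D r
    · exact hkd ▸ hl
    have hlp := hC.loop
    simp only [okLoop, List.all_eq_true, List.mem_range, Bool.or_eq_true, Bool.and_eq_true, decide_eq_true_eq,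
      beq_iff_eq] at hlp
    rcases hlp r hr with h | h
    · rw [hb] at h; exact absurd h Bool.false_ne_true
    rcases h k hk with ((h | h) | h) | ⟨hp, hw⟩
    · omega
    · exact absurd h hkd
    · exact S.n_M_sub hC (ctSub_iff.1 h)
    have hlow : ∀ v q, v < D.nroots → q < D.rank → ctMu D v < ctMu D r → ctMu D (D.reflectRoot q v) < ctMu D r →
        S.M (S.n q) v (D.reflectRoot q v) := by
      intro v q hv hq a b
      by_cases h : ctMu D (D.reflectRoot q v) ≤ ctMu D v
      · exact ih _ a q v hq hv rfl h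
      · refine S.M_rev hC hq hv ?_
        have := ih _ b q (D.reflectRoot q v) hq (hF.refl_lt q hq v hv) rfl (by rw [hF.refl_refl q hq v hv]; omega)
        rwa [hF.refl_refl q hq v hv] at this
    obtain ⟨-, hM⟩ := S.M_path hC hr hl hl' hlow _ _ _ h1 hk hp
    rw [hw] at hM
    have hP := S.M_H0 hC r hr _ (S.braid_loop hC hk h1 hkd)
    rw [show 2 * ctM D k (ctDown D r) = 2 * ctM D k (ctDown D r) - 1 + 1 from
      (Nat.sub_add_cancel (by unfold ctM; dsimp only; split_ifs <;> omega)).symm, alt] at hP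
    have h5 := M.comp S (M.inv S hM) hP
    rw [mul_inv_cancel_right] at h5
    have h6 : S.M (S.n k) (D.reflectRoot k r) (D.reflectRoot k (D.reflectRoot k r)) := by
      rwa [hF.refl_refl k hk r hr]
    have := S.M_rev hC hk hr (by rwa [hF.refl_refl k hk r hr] at h6)
    exact this

/-- The exact action of n_k on all root elements. -/
theorem n_X {k r : ℕ} (hk : k < D.rank) (hr : r < D.nroots) (t : F) :
    S.n k * S.X r t * (S.n k)⁻¹ = S.X (D.reflectRoot k r) (hF.sgn F k r * t) := by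
  obtain ⟨u, hu⟩ : S.n k * S.X r t * (S.n k)⁻¹ ∈ Set.range (S.X (D.reflectRoot k r)) :=
    (S.n_M hC k r hk hr) ▸ ⟨S.X r t, ⟨t, rfl⟩, rfl⟩
  rw [← hu]
  congr 1
  refine stGen_inj hF (hF.refl_lt k hk r hr) ?_
  rw [← S.f_X hC _ (hF.refl_lt k hk r hr), hu, map_mul, map_mul, map_inv, S.f_X hC r hr, S.f_n hC hk]
  exact (hF.stT hC.hyp.1 F).n_conj k hk r hr t

end CTSys

end Cfsg.Agent.Lie
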