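import Mathlib
import Cfsg.Prelude.Def_KGroupFacts
import Cfsg.Agent.Lib.Lie.CentralTable
import Cfsg.Agent.Lib.Lie.CentralStage
import Cfsg.Agent.Lib.Lie.CentralDouble

/-!
A signed coset table with an invariant family of sets of signed points, no two with the same projection,
gives a double cover: a kernel element is constant on every member, so it is a global sign when the
members connect all cosets.
-/

set_option autoImplicit false

namespace Cfsg.Agent.Lie.CentralTable

/-- Signs on a coset table with an invariant family of blocks of signed points. -/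
structure Blocks where
  /-- sign of an edge -/
  bit : Janko.Tree Bool
  /-- number of blocks -/
  M : ℕ
  /-- the blocks -/
  blk : Janko.Tree (List ℕ)
  /-- image of a block under a generator -/
  tgt : Janko.Tree (ℕ × Bool)
  /-- a spanning tree -/
  par : Janko.Tree ℕ
  /-- a block through an edge of the tree -/
  via : Janko.Tree ℕ
  /-- depth in the tree -/
  rank : Janko.Tree ℕ
  /-- a relator of sign one -/
  word : List Bool

/-- Bit mask of a list. -/
def bmask (l : List ℕ) : ℕ := l.foldr (fun a m => m ||| 2 ^ a) 0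

theorem testBit_bmask (l : List ℕ) (i : ℕ) : (bmask l).testBit i = true ↔ i ∈ l := by
  induction l with
  | nil => simp [bmask]
  | cons a l ih =>
    rw [bmask, List.foldr_cons, Nat.testBit_or, Bool.or_eq_true, Nat.testBit_two_pow, decide_eq_true_iff,
      List.mem_cons, eq_comm (a := a)]
    exact (or_congr ih Iff.rfl).trans or_comm

namespace Blocks

variable (C : Cert) (D : Blocks)

/-- Image of a signed point under a generator. -/
def img (s : Bool) (a : ℕ) : ℕ :=
  Signs.pidx (C.step (a / 2) s) ((a % 2 == 1) ^^ D.bit.get (Cert.edge (a / 2) s))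

/-- The image of a block. -/
def imgCheck (j : ℕ) (s : Bool) : Bool :=
  Nat.blt (D.tgt.get (Cert.edge j s)).1 D.M &&
    Nat.beq (bmask ((D.blk.get j).map (D.img C s)))
      (bmask (bif (D.tgt.get (Cert.edge j s)).2 then (D.blk.get (D.tgt.get (Cert.edge j s)).1).map Signs.flip
        else D.blk.get (D.tgt.get (Cert.edge j s)).1))

/-- One block: bounds, one sign for each coset, and the images. -/
def blockCheck (j : ℕ) : Bool :=
  ((D.blk.get j).all fun a => Nat.blt a (2 * C.N) && !(D.blk.get j).elem (Signs.flip a)) &&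
    (D.imgCheck C j false && D.imgCheck C j true)

/-- Projection of a block. -/
def proj (j : ℕ) : ℕ := bmask ((D.blk.get j).map fun a => a / 2)

/-- The projection differs from the earlier ones. -/
def distinctCheck (j : ℕ) : Bool := (List.range j).all fun k => !Nat.beq (D.proj k) (D.proj j)

/-- The spanning tree. -/
def treeOK (n i : ℕ) : Bool :=
  Nat.beq i 0 || ((Nat.blt (D.par.get i) n && Nat.blt (D.rank.get (D.par.get i)) (D.rank.get i)) &&
    (Nat.blt (D.via.get i) D.M &&
      ((D.proj (D.via.get i)).testBit (D.par.get i) && (D.proj (D.via.get i)).testBit i)))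

/-- Sign along a word, starting at a point. -/
def parity : ℕ → List Bool → Bool
  | _, [] => false
  | i, s :: w => D.bit.get (Cert.edge i s) ^^ parity (C.step i s) w

/-- The special words. -/
def wordOK : Bool :=
  (C.relCheck D.word && (Nat.beq (C.endp 0 D.word) 0 && D.parity C 0 D.word)) &&
    ((C.relCheck (List.replicate C.m0 false) && (Nat.beq (C.endp 0 (List.replicate C.m0 false)) 0 &&
      !D.parity C 0 (List.replicate C.m0 false))) &&
    (C.relCheck (List.replicate C.m1 true) && (Nat.beq (C.endp 0 (List.replicate C.m1 true)) 0 &&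
      !D.parity C 0 (List.replicate C.m1 true))))

end Blocks

/-- The data of a double cover with blocks. -/
structure BlockSetup (C : Cert) (D : Blocks) (G : Type*) [Group G] [Finite G] where
  φ : G →* Equiv.Perm (Fin C.deg)
  faithful : Function.Injective φ
  /-- generators -/
  x : Bool → G
  rep_x : ∀ s, Rep φ (x s) (bif s then C.g1 else C.g0)
  /-- the subgroup of the labels -/
  H : Subgroup G
  /-- representatives -/
  t : Fin C.N → G
  step_lt : ∀ i < C.N, ∀ s, C.step i s < C.N
  edge : ∀ (i : Fin C.N) s, t i * x s * (t ⟨C.step i s, step_lt i i.2 s⟩)⁻¹ ∈ H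
  inj : ∀ i j, t i * (t j)⁻¹ ∈ H → i = j
  gen : Subgroup.closure (Set.range x) = ⊤
  npos : 0 < C.N
  odd : Odd C.m0 ∧ Odd C.m1
  blocks : ∀ j < D.M, D.blockCheck C j = true
  distinct : ∀ j < D.M, D.distinctCheck j = true
  tree : ∀ i < C.N, D.treeOK C.N i = true
  words : D.wordOK C = true

namespace BlockSetup

variable {C : Cert} {D : Blocks} {G : Type*} [Group G] [Finite G] (S : BlockSetup C D G)

include S

/-- Signed points. -/
abbrev Pt (C : Cert) : Type := Fin C.N × Bool

instance finite_ambient : Finite (G × (Equiv.Perm (Pt C))ᵐᵒᵖ) :=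
  haveI : Finite (Equiv.Perm (Pt C))ᵐᵒᵖ := Finite.of_equiv _ MulOpposite.opEquiv
  inferInstance

/-- A generator on the signed points. -/
def move (s : Bool) (a : Pt C) : Pt C :=
  (⟨C.step a.1 s, S.step_lt a.1 a.1.2 s⟩, a.2 ^^ D.bit.get (Cert.edge a.1 s))

theorem move_injective (s : Bool) : Function.Injective (S.move s) := by
  rintro ⟨i, z⟩ ⟨j, w⟩ e
  simp only [move, Prod.mk.injEq] at e
  have hij : i = j := by
    refine S.inj i j ?_
    have h1 := S.edge i s
    have h2 := inv_mem (S.edge j s)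
    rw [show (⟨C.step i s, S.step_lt i i.2 s⟩ : Fin C.N) = ⟨C.step j s, S.step_lt j j.2 s⟩ from e.1] at h1
    have := mul_mem h1 h2
    group at this ⊢
    exact this
  subst hij
  refine Prod.ext rfl ?_
  simpa using e.2

/-- A generator as a signed permutation. -/
noncomputable def mperm (s : Bool) : Equiv.Perm (Pt C) :=
  Equiv.ofBijective (S.move s) (Finite.injective_iff_bijective.1 (S.move_injective s))

/-- A generator of the cover. -/
noncomputable def gens (s : Bool) : G × (Equiv.Perm (Pt C))ᵐᵒᵖ := (S.x s, MulOpposite.op (S.mperm s))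

/-- The cover. -/
noncomputable def cover : Subgroup (G × (Equiv.Perm (Pt C))ᵐᵒᵖ) := Subgroup.closure (Set.range S.gens)

/-- The projection. -/
noncomputable def proj : S.cover →* G := (MonoidHom.fst G _).comp S.cover.subtype

theorem proj_surjective : Function.Surjective S.proj := by
  rw [← MonoidHom.range_eq_top, proj, MonoidHom.range_comp, Subgroup.range_subtype, cover,
    MonoidHom.map_closure, ← Set.range_comp]
  exact S.gen

/-- Change of sign. -/
def twist (z : Bool) (a : Pt C) : Pt C := (a.1, z ^^ a.2)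

/-- A signed point lies in a block. -/
def inBlk (D : Blocks) (j : ℕ) (a : Pt C) : Prop := Signs.pidx a.1 a.2 ∈ D.blk.get j

/-- The invariant of the elements of the cover. -/
def Good (g : G) (p : Equiv.Perm (Pt C)) : Prop :=
  (∀ a, S.t a.1 * g * (S.t (p a).1)⁻¹ ∈ S.H) ∧ (∀ a : Pt C, p (a.1, !a.2) = ((p a).1, !(p a).2)) ∧
    ∀ j < D.M, ∃ k < D.M, ∃ z, ∀ a, inBlk D j a ↔ inBlk D k (twist z (p a))

omit S in
theorem pidx_lt (a : Pt C) : Signs.pidx a.1 a.2 < 2 * C.N := by
  have := a.1.2
  cases a.2 <;> simp [Signs.pidx] <;> omega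

omit S in
theorem pidx_inj {a b : Pt C} (h : Signs.pidx a.1 a.2 = Signs.pidx b.1 b.2) : a = b := by
  obtain ⟨i, z⟩ := a
  obtain ⟨j, w⟩ := b
  simp only [Signs.pidx] at h
  have hz := z.toNat_le
  have hw := w.toNat_le
  have h2 : z.toNat = w.toNat := by omega
  refine Prod.ext (Fin.ext ?_) ?_
  · show (i : ℕ) = j
    omega
  · cases z <;> cases w <;> simp_all

omit S in
theorem flip_pidx (c : Pt C) : Signs.flip (Signs.pidx c.1 c.2) = Signs.pidx c.1 (!c.2) := by
  cases c.2 <;> simp [Signs.flip, Signs.pidx] <;> omega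

omit S in
theorem exists_pidx {n : ℕ} (h : n < 2 * C.N) : ∃ a : Pt C, Signs.pidx a.1 a.2 = n := by
  refine ⟨(⟨n / 2, by omega⟩, n % 2 == 1), ?_⟩
  rcases Nat.mod_two_eq_zero_or_one n with e | e <;> simp [Signs.pidx, e] <;> omega

theorem blk_pt {j : ℕ} (hj : j < D.M) {n : ℕ} (h : n ∈ D.blk.get j) : ∃ a : Pt C, Signs.pidx a.1 a.2 = n := by
  have hb := S.blocks j hj
  simp only [Blocks.blockCheck, Bool.and_eq_true, List.all_eq_true, Nat.blt_eq] at hb
  exact exists_pidx (hb.1 n h).1

theorem one_lift {j : ℕ} (hj : j < D.M) {i : Fin C.N} {b c : Bool} (hb : inBlk D j (i, b))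
    (hc : inBlk D j (i, c)) : b = c := by
  have h := S.blocks j hj
  simp only [Blocks.blockCheck, Bool.and_eq_true, List.all_eq_true, Bool.not_eq_true'] at h
  have h1 := (h.1 _ hb).2
  rw [flip_pidx (i, b)] at h1
  by_contra hne
  have : c = !b := by cases b <;> cases c <;> simp_all
  rw [this] at hc
  have h2 : (D.blk.get j).elem (Signs.pidx i (!b)) = true := List.elem_eq_true_of_mem hc
  exact Bool.false_ne_true (h1.symm.trans h2)

theorem img_eq (s : Bool) (a : Pt C) :
    D.img C s (Signs.pidx a.1 a.2) = Signs.pidx (S.move s a).1 (S.move s a).2 := by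
  obtain ⟨i, z⟩ := a
  have h1 : Signs.pidx (i : ℕ) z / 2 = i := by cases z <;> simp [Signs.pidx] <;> omega
  have h2 : (Signs.pidx (i : ℕ) z % 2 == 1) = z := by cases z <;> simp [Signs.pidx] <;> omega
  rw [Blocks.img, h1, h2]
  rfl

theorem good_gen (s : Bool) : S.Good (S.x s) (S.mperm s) := by
  refine ⟨fun a => S.edge a.1 s, fun a => ?_, fun j hj => ?_⟩
  · show S.move s (a.1, !a.2) = ((S.move s a).1, !(S.move s a).2)
    simp [move]
  · have hb := S.blocks j hj
    simp only [Blocks.blockCheck, Bool.and_eq_true] at hb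
    have hi : D.imgCheck C j s = true := by
      cases s
      exacts [hb.2.1, hb.2.2]
    simp only [Blocks.imgCheck, Bool.and_eq_true, Nat.blt_eq, Nat.beq_eq] at hi
    obtain ⟨hk, he⟩ := hi
    refine ⟨_, hk, (D.tgt.get (Cert.edge j s)).2, fun a => ?_⟩
    show _ ↔ inBlk D _ (twist _ (S.move s a))
    have h1 : inBlk D j a ↔ Signs.pidx (S.move s a).1 (S.move s a).2 ∈ (D.blk.get j).map (D.img C s) := by
      rw [List.mem_map]
      constructor
      · exact fun h => ⟨_, h, S.img_eq s a⟩
      · rintro ⟨n, hn, e⟩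
        obtain ⟨b, rfl⟩ := S.blk_pt hj hn
        rw [S.img_eq] at e
        rw [← S.move_injective s (pidx_inj e)]
        exact hn
    rw [h1, ← testBit_bmask, he, testBit_bmask]
    generalize (D.tgt.get (Cert.edge j s)).2 = z
    generalize S.move s a = b
    cases z
    · simp only [cond_false, inBlk, twist, Bool.false_xor]
    · simp only [cond_true, inBlk, twist, Bool.true_xor, List.mem_map]
      constructor
      · rintro ⟨n, hn, e⟩
        obtain ⟨c, rfl⟩ := S.blk_pt hk hn
        rw [flip_pidx c] at e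
        have := congrArg (fun x : Pt C => (x.1, !x.2)) (pidx_inj (a := (c.1, !c.2)) (b := b) e)
        simp only [Bool.not_not, Prod.mk.eta] at this
        subst this
        exact hn
      · intro h
        exact ⟨_, h, by rw [flip_pidx (b.1, !b.2)]; simp⟩

theorem good {e : G × (Equiv.Perm (Pt C))ᵐᵒᵖ} (he : e ∈ S.cover) : S.Good e.1 e.2.unop := by
  have he' : e ∈ Submonoid.closure (Set.range S.gens) := by
    have : e ∈ (Subgroup.closure (Set.range S.gens)).toSubmonoid := he
    rwa [Subgroup.closure_toSubmonoid_of_finite] at this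
  clear he
  induction he' using Submonoid.closure_induction with
  | mem s hs =>
    obtain ⟨s, rfl⟩ := hs
    exact S.good_gen s
  | one =>
    refine ⟨fun a => ?_, fun a => rfl, fun j hj => ⟨j, hj, false, fun a => ?_⟩⟩
    · show S.t a.1 * 1 * (S.t a.1)⁻¹ ∈ S.H
      rw [mul_one, mul_inv_cancel]
      exact one_mem _
    · simp [twist, inBlk]
  | mul g h _ _ ig ih =>
    obtain ⟨g1, g2, g3⟩ := ig
    obtain ⟨h1, h2, h3⟩ := ih
    refine ⟨fun a => ?_, fun a => ?_, fun j hj => ?_⟩
    · show S.t a.1 * (g.1 * h.1) * (S.t (h.2.unop (g.2.unop a)).1)⁻¹ ∈ S.H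
      have := mul_mem (g1 a) (h1 (g.2.unop a))
      group at this ⊢
      exact this
    · show h.2.unop (g.2.unop (a.1, !a.2)) = _
      rw [g2, h2]
      rfl
    · obtain ⟨k, hk, z, e1⟩ := g3 j hj
      obtain ⟨l, hl, w, e2⟩ := h3 k hk
      refine ⟨l, hl, w ^^ z, fun a => (e1 a).trans ((e2 _).trans ?_)⟩
      show inBlk D l (twist w (h.2.unop (twist z (g.2.unop a)))) ↔ inBlk D l (twist (w ^^ z) (h.2.unop (g.2.unop a)))
      cases z
      · simp [twist]
      · rw [show twist true (g.2.unop a) = ((g.2.unop a).1, !(g.2.unop a).2) by simp [twist], h2]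
        cases w <;> simp [twist]

theorem point_eq {p : Equiv.Perm (Pt C)} (hp : S.Good 1 p) (a : Pt C) : (p a).1 = a.1 := by
  refine (S.inj a.1 (p a).1 ?_).symm
  have := hp.1 a
  rwa [mul_one] at this

theorem proj_iff {j : ℕ} (hj : j < D.M) (i : ℕ) :
    (D.proj j).testBit i = true ↔ ∃ a : Pt C, (a.1 : ℕ) = i ∧ inBlk D j a := by
  rw [Blocks.proj, testBit_bmask, List.mem_map]
  have h1 : ∀ a : Pt C, Signs.pidx a.1 a.2 / 2 = a.1 := fun a => by cases a.2 <;> simp [Signs.pidx] <;> omega
  constructor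
  · rintro ⟨n, hn, rfl⟩
    obtain ⟨a, rfl⟩ := S.blk_pt hj hn
    exact ⟨a, (h1 a).symm, hn⟩
  · rintro ⟨a, rfl, ha⟩
    exact ⟨_, ha, h1 a⟩

/-- A kernel element is a global sign. -/
theorem sign_const {p : Equiv.Perm (Pt C)} (hp : S.Good 1 p) (i : Fin C.N) :
    (p (i, false)).2 = (p (⟨0, S.npos⟩, false)).2 := by
  have hval : ∀ a : Pt C, p a = (a.1, (p (a.1, false)).2 ^^ a.2) := by
    rintro ⟨j, z⟩
    cases z
    · rw [Bool.xor_false]
      exact Prod.ext (S.point_eq hp (j, false)) rfl
    · rw [Bool.xor_true]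
      refine (hp.2.1 (j, false)).trans ?_
      rw [S.point_eq hp (j, false)]
  obtain ⟨i, hi⟩ := i
  induction hr0 : D.rank.get i using Nat.strong_induction_on generalizing i with
  | _ r ih =>
    rcases Nat.eq_zero_or_pos i with rfl | h0
    · rfl
    have h := S.tree i hi
    simp only [Blocks.treeOK, Bool.or_eq_true, Nat.beq_eq, Bool.and_eq_true, Nat.blt_eq] at h
    obtain ⟨⟨hpar, hlt⟩, hv, hbp, hbi⟩ := h.resolve_left (by omega)
    rw [← ih _ (hr0 ▸ hlt) (D.par.get i) hpar rfl]
    obtain ⟨k, hk, z, hblk⟩ := hp.2.2 _ hv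
    have htw : ∀ a : Pt C, (twist z (p a)).1 = a.1 := fun a => S.point_eq hp a
    have hsame : D.proj (D.via.get i) = D.proj k := by
      refine Nat.eq_of_testBit_eq fun n => Bool.eq_iff_iff.2 ?_
      rw [S.proj_iff hv, S.proj_iff hk]
      constructor
      · rintro ⟨a, rfl, ha⟩
        exact ⟨_, by rw [htw], (hblk a).1 ha⟩
      · rintro ⟨b, rfl, hb⟩
        refine ⟨p.symm (twist z b), ?_, (hblk _).2 ?_⟩
        · rw [← S.point_eq hp (p.symm (twist z b)), p.apply_symm_apply]
          rfl
        · rw [p.apply_symm_apply]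
          cases z <;> simpa [twist] using hb
    have hkj : k = D.via.get i := by
      rcases Nat.lt_trichotomy k (D.via.get i) with h | h | h
      · have := List.all_eq_true.1 (S.distinct _ hv) k (List.mem_range.2 h)
        rw [hsame, Nat.beq_refl] at this
        exact Bool.noConfusion this
      · exact h
      · have := List.all_eq_true.1 (S.distinct _ hk) _ (List.mem_range.2 h)
        rw [hsame, Nat.beq_refl] at this
        exact Bool.noConfusion this
    rw [hkj] at hblk
    have key : ∀ m : ℕ, ∀ hm : m < C.N, (D.proj (D.via.get i)).testBit m = true →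
        (p ((⟨m, hm⟩ : Fin C.N), false)).2 = z := by
      intro m hm hbit
      obtain ⟨a, ha, hab⟩ := (S.proj_iff hv m).1 hbit
      have h2 := (hblk a).1 hab
      rw [hval a] at h2
      have h3 := S.one_lift hv (show inBlk D (D.via.get i) (a.1, a.2) from hab)
        (show inBlk D (D.via.get i) (a.1, z ^^ ((p (a.1, false)).2 ^^ a.2)) from h2)
      rw [show (⟨m, hm⟩ : Fin C.N) = a.1 from Fin.ext ha.symm]
      revert h3
      generalize (p (a.1, false)).2 = u
      cases u <;> cases z <;> cases a.2 <;> simp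
    rw [key i hi hbi, key _ hpar hbp]

/-- The value of a word in the cover. -/
noncomputable def wordElt (w : List Bool) : S.cover :=
  ⟨ev S.gens w, ev_mem S.gens w⟩

theorem wordElt_fst (w : List Bool) : S.proj (S.wordElt w) = ev S.x w := by
  show (ev S.gens w).1 = _
  exact map_ev (MonoidHom.fst G _) S.gens w

theorem walk : ∀ (w : List Bool) (a : Pt C), ((((ev S.gens w).2.unop a).1 : Fin C.N) : ℕ) = C.endp a.1 w ∧
    ((ev S.gens w).2.unop a).2 = (a.2 ^^ D.parity C a.1 w)
  | [], a => by simp [ev, Cert.endp, Blocks.parity]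
  | s :: w, a => by
    obtain ⟨h1, h2⟩ := walk w (S.move s a)
    rw [ev_cons]
    show ((((ev S.gens w).2.unop (S.move s a)).1 : Fin C.N) : ℕ) = _ ∧ _
    refine ⟨h1, ?_⟩
    show ((ev S.gens w).2.unop (S.move s a)).2 = _
    rw [h2]
    show ((a.2 ^^ D.bit.get (Cert.edge a.1 s)) ^^ D.parity C (C.step a.1 s) w) = _
    rw [Bool.xor_assoc]
    rfl

theorem rel_one {w : List Bool} (hw : C.relCheck w = true) : ev S.x w = 1 := by
  refine eq_of_rep S.faithful fun k => ?_
  simp only [Cert.relCheck, List.all_eq_true, List.mem_range, Nat.beq_eq] at hw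
  rw [rep_ev S.rep_x, hw k k.2, map_one]
  rfl

theorem ker_sign {e : S.cover} (he : S.proj e = 1) :
    (e = 1 ↔ ((e : G × (Equiv.Perm (Pt C))ᵐᵒᵖ).2.unop (⟨0, S.npos⟩, false)).2 = false) := by
  have he1 : (e : G × (Equiv.Perm (Pt C))ᵐᵒᵖ).1 = 1 := he
  have hg := S.good e.2
  rw [he1] at hg
  constructor
  · rintro rfl; rfl
  · intro h
    refine Subtype.ext (Prod.ext he1 (MulOpposite.unop_injective (Equiv.ext fun a => ?_)))
    show (e : G × (Equiv.Perm (Pt C))ᵐᵒᵖ).2.unop a = a
    obtain ⟨i, z⟩ := a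
    have h0 := S.sign_const hg i
    rw [h] at h0
    have hp : (e : G × (Equiv.Perm (Pt C))ᵐᵒᵖ).2.unop (i, false) = (i, false) :=
      Prod.ext (S.point_eq hg (i, false)) h0
    cases z
    · exact hp
    · refine (hg.2.1 (i, false)).trans ?_
      rw [hp]
      rfl

theorem word_facts : S.proj (S.wordElt D.word) = 1 ∧ S.wordElt D.word ≠ 1 ∧
    S.wordElt (List.replicate C.m0 false) = 1 ∧ S.wordElt (List.replicate C.m1 true) = 1 := by
  have h := S.words
  simp only [Blocks.wordOK, Bool.and_eq_true, Nat.beq_eq, Bool.not_eq_true'] at h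
  obtain ⟨⟨hr, -, hp⟩, ⟨hr0, -, hp0⟩, hr1, -, hp1⟩ := h
  have hk : ∀ w, C.relCheck w = true → S.proj (S.wordElt w) = 1 := fun w hw => by
    rw [S.wordElt_fst, S.rel_one hw]
  have hs : ∀ w, ((S.wordElt w : G × (Equiv.Perm (Pt C))ᵐᵒᵖ).2.unop (⟨0, S.npos⟩, false)).2 = D.parity C 0 w :=
    fun w => by
      refine (S.walk w (⟨0, S.npos⟩, false)).2.trans ?_
      exact Bool.false_xor _
  refine ⟨hk _ hr, fun e => ?_, (S.ker_sign (hk _ hr0)).2 (by rw [hs, hp0]), (S.ker_sign (hk _ hr1)).2 (by rw [hs, hp1])⟩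
  have := (S.ker_sign (hk _ hr)).1 e
  rw [hs, hp] at this
  exact Bool.noConfusion this

/-- The double cover is a stem extension with kernel of order two. -/
theorem stem : Cfsg.IsStemExtension S.proj ∧ Nat.card S.proj.ker = 2 := by
  obtain ⟨hw1, hw2, hm0, hm1⟩ := S.word_facts
  let f : S.proj.ker → Bool := fun e =>
    ((e.1 : G × (Equiv.Perm (Pt C))ᵐᵒᵖ).2.unop (⟨0, S.npos⟩, false)).2
  have hval : ∀ (e : S.proj.ker) (a : Pt C),
      (e.1 : G × (Equiv.Perm (Pt C))ᵐᵒᵖ).2.unop a = (a.1, f e ^^ a.2) := by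
    intro e a
    obtain ⟨i, z⟩ := a
    have he1 : (e.1 : G × (Equiv.Perm (Pt C))ᵐᵒᵖ).1 = 1 := e.2
    have hg := S.good e.1.2
    rw [he1] at hg
    have h0 := S.sign_const hg i
    have hp : (e.1 : G × (Equiv.Perm (Pt C))ᵐᵒᵖ).2.unop (i, false) = (i, f e) :=
      Prod.ext (S.point_eq hg (i, false)) h0
    cases z
    · rw [Bool.xor_false]; exact hp
    · refine (hg.2.1 (i, false)).trans ?_
      rw [hp, Bool.xor_true]
  have hinj : Function.Injective f := fun e e' h => by
    refine Subtype.ext (Subtype.ext (Prod.ext ((e.2 : _ = _).trans (e'.2 : _ = _).symm)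
      (MulOpposite.unop_injective (Equiv.ext fun a => ?_))))
    rw [hval e a, hval e' a, h]
  have hcentre : S.proj.ker ≤ Subgroup.center S.cover := by
    intro e he
    rw [Subgroup.mem_center_iff]
    intro g
    have he1 : (e : G × (Equiv.Perm (Pt C))ᵐᵒᵖ).1 = 1 := he
    refine Subtype.ext (Prod.ext (by
      show (g : G × (Equiv.Perm (Pt C))ᵐᵒᵖ).1 * _ = _ * _
      rw [he1, mul_one, one_mul]) (MulOpposite.unop_injective (Equiv.ext fun a => ?_)))
    show (e : G × (Equiv.Perm (Pt C))ᵐᵒᵖ).2.unop ((g : G × (Equiv.Perm (Pt C))ᵐᵒᵖ).2.unop a) =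
      (g : G × (Equiv.Perm (Pt C))ᵐᵒᵖ).2.unop ((e : G × (Equiv.Perm (Pt C))ᵐᵒᵖ).2.unop a)
    rw [hval ⟨e, he⟩ a, hval ⟨e, he⟩]
    generalize f ⟨e, he⟩ = b
    cases b
    · simp
    · rw [Bool.true_xor, Bool.true_xor]
      exact ((S.good g.2).2.1 a).symm
  have hcard : Nat.card S.proj.ker = 2 := by
    refine le_antisymm ((Nat.card_le_card_of_injective f hinj).trans (le_of_eq (by simp))) ?_
    refine Finite.one_lt_card_iff_nontrivial.2 ⟨⟨⟨_, hw1⟩, 1, fun e => hw2 (congrArg Subtype.val e)⟩⟩
  refine ⟨⟨S.proj_surjective, hcentre, fun e he => ?_⟩, hcard⟩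
  rw [← Abelianization.ker_of, MonoidHom.mem_ker]
  have hpow : ∀ g : S.cover, Abelianization.of g ^ (C.m0 * C.m1) = 1 := by
    rintro ⟨g, hg⟩
    induction hg using Subgroup.closure_induction with
    | mem s hs =>
      obtain ⟨s, rfl⟩ := hs
      rw [← map_pow]
      have hex : (⟨S.gens s, Subgroup.subset_closure ⟨s, rfl⟩⟩ : S.cover) ^ (bif s then C.m1 else C.m0) = 1 := by
        refine Eq.trans (Subtype.ext ?_) (show S.wordElt (List.replicate (bif s then C.m1 else C.m0) s) = 1 from ?_)
        · show _ = ev S.gens _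
          rw [ev, List.map_replicate, List.prod_replicate]
          rfl
        · cases s
          exacts [hm0, hm1]
      cases s
      · simp only [cond_false] at hex
        rw [pow_mul, hex, one_pow, map_one]
      · simp only [cond_true] at hex
        rw [mul_comm, pow_mul, hex, one_pow, map_one]
    | one =>
      rw [show (⟨1, one_mem _⟩ : S.cover) = 1 from rfl, map_one, one_pow]
    | mul g h hg hh ig ih =>
      rw [show (⟨g * h, mul_mem hg hh⟩ : S.cover) = ⟨g, hg⟩ * ⟨h, hh⟩ from rfl, map_mul, mul_pow, ig, ih, one_mul]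
    | inv g hg ig =>
      rw [show (⟨g⁻¹, inv_mem hg⟩ : S.cover) = ⟨g, hg⟩⁻¹ from rfl, map_inv, inv_pow, ig, inv_one]
  have h2 : Abelianization.of e ^ 2 = 1 := by
    have h := pow_card_eq_one' (x := (⟨e, he⟩ : S.proj.ker))
    rw [hcard] at h
    have h' : e ^ 2 = 1 := congrArg Subtype.val h
    rw [← map_pow, h', map_one]
  obtain ⟨k, hk⟩ := S.odd.1.mul S.odd.2
  have := hpow e
  rwa [hk, pow_succ, pow_mul, h2, one_pow, one_mul] at this

end BlockSetup

/-- Cyclic multiplier of order two from a double cover and a bound. -/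
theorem BlockSetup.hasCyclicSchur.{u} {G : Type u} [Group G] [Finite G] {C : Cert} {D : Blocks} (S : BlockSetup C D G)
    (h : ∀ (Γ : Type u) [Group Γ] [Finite Γ] (σ : Γ →* G), Cfsg.IsStemExtension σ →
      ∃ g : σ.ker, g ^ 2 = 1 ∧ ∀ k : σ.ker, k ∈ Subgroup.zpowers g) :
    Cfsg.HasCyclicSchurMultiplier G 2 := by
  haveI : Fact (Nat.Prime 2) := ⟨Nat.prime_two⟩
  exact Solv.hasCyclicSchur_of ⟨S.cover, inferInstance, inferInstance, S.proj, S.stem.1,
    ⟨mulEquivOfPrimeCardEq (p := 2) S.stem.2 (by simp)⟩⟩ h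

end Cfsg.Agent.Lie.CentralTable
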