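import Cfsg.Agent.Lib.Lie.CentralLocal
import Cfsg.Prelude.Def_KGroupFacts

/-!
A bound for the Sylow part of a stem kernel. The central table is read in the product of the extension with a
free abelian group carrying the exponent counts, so that the parameters of the commutator subgroup of the lifts
become a lattice; its image is spanned by a few elements of known exponents, by relations between lifts of
conjugate commuting pairs.
-/

set_option autoImplicit false

namespace Cfsg.Agent.Lie.CentralBound

open Cfsg.Agent.Lie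
open Cfsg.Agent.Lie.CentralTable hiding ev Setup Cert
open Cfsg.Agent.Lie.CentralLocal (ev)
open scoped commutatorElement

/-- The exponent count of a generator at a variable. -/
def mv (C : CentralLocal.Cert) (v s : ℕ) : ℤ :=
  bif Nat.blt v (C.k * C.N) then
    ((C.wd (v / C.k) ++ [v % C.k]).count s : ℤ) - ((C.wd (C.next.get v)).count s : ℤ)
  else ((C.rel (v - C.k * C.N)).count s : ℤ)

/-- A combination of some vectors. -/
def comb (L : List (List ℤ)) (c : List ℤ) : List ℤ :=
  (List.range L.length).foldr (fun t a => vadd (vsmul (c.getD t 0) (L.getD t [])) a) []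

/-- A combination of additional relations and rows. -/
abbrev RelComb : Type := List (ℤ × ℕ) × List (ℤ × (ℕ × ℕ))

/-- The lattice data. -/
structure Lat where
  /-- a basis of the vectors without exponent counts -/
  basis : List (List ℤ)
  /-- its complement -/
  compl : List (List ℤ)
  /-- the exponent counts of the complement -/
  counts : List (List ℤ)
  /-- pivots of the counts -/
  piv : List ℕ
  /-- the coordinates of the parameters -/
  coord : List (List ℤ × List ℤ)
  /-- the spanning vectors -/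
  gens : List (List ℤ)
  /-- their exponents -/
  ord : List ℕ
  /-- reduction of the basis to the spanning vectors -/
  red : List (List ℤ × RelComb × List ℤ)
  /-- the exponents -/
  kill : List (RelComb × List ℤ)

/-- The vector of a combination of relations. -/
def relV (C : CentralLocal.Cert) (es : List (List ℕ × List ℕ × List ℕ × List ℕ)) (c : RelComb) : List ℤ :=
  vadd (c.1.foldr (fun t a => vadd (vsmul t.1 (C.extL (es.getD t.2 ([], [], [], [])))) a) [])
    (c.2.foldr (fun t a => vadd (vsmul t.1 (C.rowL t.2)) a) [])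

/-- The relations of a combination exist. -/
def relOK (C : CentralLocal.Cert) (es : List (List ℕ × List ℕ × List ℕ × List ℕ)) (c : RelComb) : Bool :=
  c.1.all (fun t => Nat.blt t.2 es.length) && c.2.all (fun t => C.rowOK t.2)

/-- The counts are independent. -/
def countsOK (k : ℕ) (T : Lat) : Bool :=
  (List.range T.counts.length).all fun s => Nat.blt (T.piv.getD s 0) k &&
    (!((T.counts.getD s []).getD (T.piv.getD s 0) 0 == 0) &&
      (List.range T.counts.length).all fun s' => Nat.ble s' s || (T.counts.getD s' []).getD (T.piv.getD s 0) 0 == 0)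

/-- The coordinates of one parameter. -/
def coordOK (C : CentralLocal.Cert) (T : Lat) (p : ℕ) : Bool :=
  Nat.blt (C.pv.getD p 0) C.V && (vzero (vadd (vsmul (-1) (vunit C.P p))
      (vadd (comb T.basis (T.coord.getD p ([], [])).1) (comb T.compl (T.coord.getD p ([], [])).2))) &&
    (List.range C.k).all fun i =>
      ((List.range T.counts.length).foldr
        (fun s a => (T.coord.getD p ([], [])).2.getD s 0 * (T.counts.getD s []).getD i 0 + a) 0) ==
        mv C (C.pv.getD p 0) i)

/-- One vector of the basis. -/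
def redOK (C : CentralLocal.Cert) (es : List (List ℕ × List ℕ × List ℕ × List ℕ)) (Q : ℕ) (T : Lat) (t : ℕ) : Bool :=
  relOK C es (T.red.getD t ([], ([], []), [])).2.1 &&
    vzero (vadd (vsmul (-1) (T.basis.getD t []))
      (vadd (comb T.gens (T.red.getD t ([], ([], []), [])).1)
        (vadd (relV C es (T.red.getD t ([], ([], []), [])).2.1)
          (vsmul (Q : ℤ) (comb T.basis (T.red.getD t ([], ([], []), [])).2.2)))))

/-- One spanning vector. -/
def killOK (C : CentralLocal.Cert) (es : List (List ℕ × List ℕ × List ℕ × List ℕ)) (Q : ℕ) (T : Lat) (j : ℕ) : Bool :=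
  relOK C es (T.kill.getD j (([], []), [])).1 &&
    vzero (vadd (vsmul (-(T.ord.getD j 0 : ℤ)) (T.gens.getD j []))
      (vadd (relV C es (T.kill.getD j (([], []), [])).1)
        (vsmul (Q : ℤ) (comb T.basis (T.kill.getD j (([], []), [])).2))))

/-- The whole check. -/
def latOK (C : CentralLocal.Cert) (es : List (List ℕ × List ℕ × List ℕ × List ℕ)) (Q : ℕ) (T : Lat) : Bool :=
  (Nat.beq C.q 0 && (Nat.beq T.compl.length T.counts.length && (Nat.beq T.ord.length T.gens.length &&
    T.ord.all fun n => Nat.blt 0 n))) &&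
  (countsOK C.k T && ((List.range C.P).all (coordOK C T) &&
    ((List.range T.basis.length).all (redOK C es Q T) && (List.range T.gens.length).all (killOK C es Q T))))

section Lin

variable {A : Type*} [AddCommGroup A] (u : ℕ → A)

theorem lin_map {B : Type*} [AddCommGroup B] (f : A →+ B) :
    ∀ (v : List ℤ) (k : ℕ), f (lin u v k) = lin (fun i => f (u i)) v k
  | [], _ => map_zero f
  | a :: v, k => by rw [lin, lin, map_add, map_zsmul, lin_map f v (k + 1)]

theorem lin_mem_of (H : AddSubgroup A) : ∀ (v : List ℤ) (k : ℕ),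
    (∀ i, i < v.length → u (k + i) ∈ H) → lin u v k ∈ H
  | [], _, _ => zero_mem H
  | a :: v, k, h => by
    rw [lin]
    refine add_mem (zsmul_mem (h 0 (by simp)) a) (lin_mem_of H v (k + 1) fun i hi => ?_)
    rw [show k + 1 + i = k + (i + 1) by omega]
    exact h (i + 1) (by simpa using hi)

theorem lin_comb (L : List (List ℤ)) (c : List ℤ) :
    lin u (comb L c) 0 = ∑ t ∈ Finset.range L.length, c.getD t 0 • lin u (L.getD t []) 0 := by
  have h : ∀ l : List ℕ, lin u (l.foldr (fun t a => vadd (vsmul (c.getD t 0) (L.getD t [])) a) []) 0 =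
      (l.map fun t => c.getD t 0 • lin u (L.getD t []) 0).sum := fun l => by
    induction l with
    | nil => rfl
    | cons t l ih => rw [List.foldr_cons, lin_vadd, lin_vsmul, ih, List.map_cons, List.sum_cons]
  rw [comb, h]
  rfl

end Lin

theorem foldr_sum (g : ℕ → ℤ) (n : ℕ) :
    (List.range n).foldr (fun s a => g s + a) 0 = ∑ s ∈ Finset.range n, g s := by
  have h : ∀ l : List ℕ, l.foldr (fun s a => g s + a) 0 = (l.map g).sum := fun l => by
    induction l with
    | nil => rfl
    | cons t l ih => rw [List.foldr_cons, ih, List.map_cons, List.sum_cons]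
  rw [h]
  rfl

variable {C : CentralLocal.Cert} {Γ G : Type*} [Group Γ] [Group G]

/-- The lifts with their exponent counts. -/
def liftC (C : CentralLocal.Cert) (x : ℕ → Γ) (s : ℕ) : Γ × Multiplicative (Fin C.k → ℤ) :=
  (x s, Multiplicative.ofAdd fun i => if (i : ℕ) = s then 1 else 0)

theorem ev_liftC (x : ℕ → Γ) : ∀ (w : List ℕ), (ev (liftC C x) w).1 = ev x w ∧
    ∀ i : Fin C.k, Multiplicative.toAdd (ev (liftC C x) w).2 i = (w.count (i : ℕ) : ℤ)
  | [] => by simp [ev]
  | s :: w => by
    obtain ⟨h1, h2⟩ := ev_liftC x w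
    refine ⟨?_, fun i => ?_⟩
    · rw [CentralLocal.ev_cons, CentralLocal.ev_cons, Prod.fst_mul, h1]
      rfl
    · rw [CentralLocal.ev_cons, Prod.snd_mul, toAdd_mul, Pi.add_apply, h2, List.count_cons]
      by_cases e : (i : ℕ) = s
      · simp [liftC, e, add_comm]
      · simp [liftC, e, Ne.symm e]

/-- The derived subgroup of the preimage consists of commutator elements of the lifts. -/
theorem commutator_comap_mem {σ : Γ →* G} (hc : σ.ker ≤ Subgroup.center Γ) {ι : Type*} (x : ι → Γ) {P : Subgroup G}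
    (hP : Subgroup.closure (Set.range fun s => σ (x s)) = P) {k : P.comap σ}
    (hk : k ∈ commutator (P.comap σ)) :
    (k : Γ) ∈ ⁅Subgroup.closure (Set.range x), Subgroup.closure (Set.range x)⁆ := by
  have hsplit : ∀ g : P.comap σ, ∃ a ∈ Subgroup.closure (Set.range x), ∃ z ∈ Subgroup.center Γ, (g : Γ) = a * z := by
    intro g
    have : σ (g : Γ) ∈ (Subgroup.closure (Set.range x)).map σ := by
      rw [MonoidHom.map_closure, ← Set.range_comp]
      exact hP.symm ▸ g.2
    obtain ⟨a, ha, e⟩ := this
    exact ⟨a, ha, a⁻¹ * g, hc (by rw [MonoidHom.mem_ker, map_mul, map_inv, e, inv_mul_cancel]),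
      (mul_inv_cancel_left _ _).symm⟩
  have hle : commutator (P.comap σ) ≤
      (⁅Subgroup.closure (Set.range x), Subgroup.closure (Set.range x)⁆).comap (P.comap σ).subtype := by
    rw [commutator_def, Subgroup.commutator_le]
    intro g _ h _
    obtain ⟨a, ha, z, hz, eg⟩ := hsplit g
    obtain ⟨b, hb, w, hw, eh⟩ := hsplit h
    rw [Subgroup.mem_comap]
    have e : ((P.comap σ).subtype ⁅g, h⁆ : Γ) = ⁅a, b⁆ := by
      show (g : Γ) * h * (g : Γ)⁻¹ * (h : Γ)⁻¹ = a * b * a⁻¹ * b⁻¹
      rw [eg, eh, mul_inv_rev, mul_inv_rev]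
      calc a * z * (b * w) * (z⁻¹ * a⁻¹) * (w⁻¹ * b⁻¹)
          = a * (z * (b * w) * z⁻¹) * a⁻¹ * (w⁻¹ * b⁻¹) := by group
        _ = a * (b * w) * a⁻¹ * (w⁻¹ * b⁻¹) := by
          rw [← Subgroup.mem_center_iff.1 hz (b * w), mul_inv_cancel_right]
        _ = a * b * (w * a⁻¹ * w⁻¹) * b⁻¹ := by group
        _ = a * b * a⁻¹ * b⁻¹ := by rw [← Subgroup.mem_center_iff.1 hw a⁻¹, mul_inv_cancel_right]
    rw [e]
    exact Subgroup.commutator_mem_commutator ha hb
  exact hle hk

/-- A commutator element of the lifts lifts to one without exponent counts. -/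
theorem exists_lift_pair {x : ℕ → Γ} {g : Γ}
    (hg : g ∈ ⁅Subgroup.closure (Set.range fun s : {s // s < C.k} => x s),
      Subgroup.closure (Set.range fun s : {s // s < C.k} => x s)⁆) :
    ∃ y ∈ Subgroup.closure (liftC C x '' {s | s < C.k}), y.1 = g ∧ y.2 = 1 := by
  have hmap : (Subgroup.closure (liftC C x '' {s | s < C.k})).map (MonoidHom.fst _ _) =
      Subgroup.closure (Set.range fun s : {s // s < C.k} => x s) := by
    rw [MonoidHom.map_closure, Set.image_image, Set.image_eq_range]
    rfl
  rw [← hmap, ← Subgroup.map_commutator] at hg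
  obtain ⟨y, hy, rfl⟩ := hg
  refine ⟨y, Subgroup.commutator_le_self _ hy, rfl, ?_⟩
  have h : ⁅Subgroup.closure (liftC C x '' {s | s < C.k}), Subgroup.closure (liftC C x '' {s | s < C.k})⁆ ≤
      (MonoidHom.snd Γ (Multiplicative (Fin C.k → ℤ))).ker := by
    rw [Subgroup.commutator_le]
    intro a _ b _
    rw [MonoidHom.mem_ker, map_commutatorElement]
    exact commutatorElement_eq_one_iff_mul_comm.2 (mul_comm _ _)
  exact h hy

theorem prod_getD : ∀ l : List ℕ, ∏ j ∈ Finset.range l.length, l.getD j 0 = l.prod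
  | [] => rfl
  | a :: l => by
    rw [List.length_cons, Finset.prod_range_succ', List.prod_cons, ← prod_getD l, mul_comm]
    rfl

/-- What is needed to apply a certificate. -/
structure Data (C : CentralLocal.Cert) (G : Type*) [Group G] where
  /-- the generators -/
  gen : ℕ → G
  /-- the code -/
  code : G → ℕ
  code_step : ∀ g, ∀ s < C.k, code (g * gen s) = C.act s (code g)
  code_one : code 1 = C.one
  code_inj : ∀ a b, code a = code b → a = b
  valid : C.Valid
  /-- the order of the elements -/
  ord : Janko.Tree ℕ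
  ord_ok : ∀ k < C.N, C.ordCheck ord k = true

/-- The setup in the product with the exponent counts. -/
def Data.setup (D : Data C G) (σ : Γ →* G) (hc : σ.ker ≤ Subgroup.center Γ) (hq : C.q = 0) (x : ℕ → Γ)
    (hx : ∀ s, σ (x s) = D.gen s) : CentralLocal.Setup C (Γ × Multiplicative (Fin C.k → ℤ)) G :=
  { σ := σ.comp (MonoidHom.fst _ _)
    central := fun z hz => Subgroup.mem_center_iff.2 fun g =>
      Prod.ext (Subgroup.mem_center_iff.1 (hc hz) g.1) (mul_comm _ _)
    exponent := fun z => by rw [hq, pow_zero]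
    code := D.code
    x := liftC C x
    code_step := fun g s hs => by
      show D.code (g * σ (x s)) = _
      rw [hx]
      exact D.code_step g s hs
    code_one := D.code_one
    code_inj := D.code_inj
    valid := D.valid }

end Cfsg.Agent.Lie.CentralBound

namespace Cfsg.Agent.Lie.CentralLocal.Setup

variable {C : Cert} {Γ G : Type*} [Group Γ] [Group G] (S : Setup C Γ G)
include S

theorem elt_inj {ord : Janko.Tree ℕ} (hord : ∀ k < C.N, C.ordCheck ord k = true) :
    ∀ i < C.N, ∀ j < C.N, C.elt.get i = C.elt.get j → i = j := by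
  have hlt : ∀ k < C.N, ord.get k < C.N := fun k hk => by
    have h := hord k hk
    rw [Cert.ordCheck, Bool.and_eq_true, Nat.blt_eq] at h
    exact h.1
  have hmono : ∀ b a, a < b → b < C.N → C.elt.get (ord.get a) < C.elt.get (ord.get b) := by
    intro b
    induction b with
    | zero => intro a ha; omega
    | succ b ih =>
      intro a ha hb
      have h := hord b (by omega)
      simp only [Cert.ordCheck, Bool.and_eq_true, Bool.or_eq_true, Nat.blt_eq, Nat.ble_eq] at h
      have h2 := h.2.resolve_left (by omega)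
      rcases Nat.lt_succ_iff_lt_or_eq.mp ha with h' | h'
      · exact (ih a h' (by omega)).trans h2
      · exact h' ▸ h2
  have hinj : Function.Injective (fun k : Fin C.N => C.elt.get (ord.get k)) := fun a b h => by
    rcases lt_trichotomy (a : ℕ) b with h' | h' | h'
    · exact absurd h (hmono _ _ h' b.2).ne
    · exact Fin.ext h'
    · exact absurd h.symm (hmono _ _ h' a.2).ne
  have hb : Function.Bijective (fun k : Fin C.N => (⟨ord.get k, hlt k k.2⟩ : Fin C.N)) :=
    Finite.injective_iff_bijective.1 fun a b h => hinj (congrArg (fun j : Fin C.N => C.elt.get j) h)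
  intro i hi j hj h
  obtain ⟨a, ha⟩ := hb.2 ⟨i, hi⟩
  obtain ⟨b, hb'⟩ := hb.2 ⟨j, hj⟩
  have ea : ord.get a = i := congrArg Fin.val ha
  have eb : ord.get b = j := congrArg Fin.val hb'
  rw [← ea, ← eb] at h ⊢
  rw [hinj (a₁ := a) (a₂ := b) h]

theorem step_surj {ord : Janko.Tree ℕ} (hord : ∀ k < C.N, C.ordCheck ord k = true) {s : ℕ} (hs : s < C.k)
    (j : ℕ) (hj : j < C.N) : ∃ i, ∃ _ : i < C.N, C.step i s = j := by
  have hinj : Function.Injective (fun i : Fin C.N => (⟨C.step i s, S.step_lt i.2 hs⟩ : Fin C.N)) := fun a b h => by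
    have hv : C.step a s = C.step b s := congrArg Fin.val h
    have e : S.σ (S.t a * S.x s) = S.σ (S.t b * S.x s) := by
      rw [S.step_image a.2 hs, S.step_image b.2 hs, hv]
    rw [map_mul, map_mul, mul_left_inj] at e
    refine Fin.ext (S.elt_inj hord a a.2 b b.2 ?_)
    rw [← S.code_t a a.2, ← S.code_t b b.2, e]
  obtain ⟨i, hi⟩ := (Finite.injective_iff_surjective.1 hinj) ⟨j, hj⟩
  exact ⟨i, i.2, congrArg Fin.val hi⟩

theorem index_one {ord : Janko.Tree ℕ} (hord : ∀ k < C.N, C.ordCheck ord k = true) {i : ℕ} (hi : i < C.N)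
    (h : S.σ (S.t i) = 1) : i = 0 := by
  refine S.elt_inj hord i hi 0 S.valid.npos ?_
  rw [← S.code_t i hi, ← S.code_t 0 S.valid.npos, h, S.base.1, map_one]

theorem card_image [Finite G] {ord : Janko.Tree ℕ} (hord : ∀ k < C.N, C.ordCheck ord k = true) :
    Nat.card (Subgroup.closure ((fun s => S.σ (S.x s)) '' {s | s < C.k})) = C.N := by
  obtain ⟨P, hP⟩ : ∃ P, P = Subgroup.closure ((fun s => S.σ (S.x s)) '' {s | s < C.k}) := ⟨_, rfl⟩
  have hin : ∀ i < C.N, S.σ (S.t i) ∈ P := by
    intro i
    induction i using Nat.strong_induction_on with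
    | _ i ih =>
      intro hi
      rcases Nat.eq_zero_or_pos i with rfl | h0
      · rw [S.base.1, map_one]; exact one_mem _
      obtain ⟨hp, hs, ht, -⟩ := S.tree_spec hi h0
      rw [ht, map_mul]
      exact mul_mem (ih _ hp (hp.trans hi)) (hP ▸ Subgroup.subset_closure ⟨_, hs, rfl⟩)
  have hcov : ∀ g ∈ P, ∃ i, ∃ _ : i < C.N, S.σ (S.t i) = g := by
    intro g hg
    have hg' : g ∈ Submonoid.closure ((fun s => S.σ (S.x s)) '' {s | s < C.k}) := by
      have : g ∈ P.toSubmonoid := hg
      rwa [hP, Subgroup.closure_toSubmonoid_of_finite] at this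
    clear hg
    induction hg' using Submonoid.closure_induction_right with
    | one => exact ⟨0, S.valid.npos, by rw [S.base.1, map_one]⟩
    | mul_right g hg y hy ih =>
      obtain ⟨s, hs, rfl⟩ := hy
      obtain ⟨i, hi, rfl⟩ := ih
      exact ⟨C.step i s, S.step_lt hi hs, by rw [← map_mul, S.step_image hi hs]⟩
  rw [← hP]
  refine (Nat.card_congr (Equiv.ofBijective (fun i : Fin C.N => (⟨S.σ (S.t i), hin i i.2⟩ : P))
    ⟨fun a b h => Fin.ext (S.elt_inj hord a a.2 b b.2 ?_), fun g => ?_⟩)).symm.trans (Nat.card_fin _)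
  · have hv : S.σ (S.t a) = S.σ (S.t b) := congrArg Subtype.val h
    rw [← S.code_t a a.2, ← S.code_t b b.2, hv]
  · obtain ⟨i, hi, e⟩ := hcov g g.2
    exact ⟨⟨i, hi⟩, Subtype.ext e⟩

end Cfsg.Agent.Lie.CentralLocal.Setup

namespace Cfsg.Agent.Lie.CentralBound

open Cfsg.Agent.Lie
open Cfsg.Agent.Lie.CentralTable hiding ev Setup Cert
open Cfsg.Agent.Lie.CentralLocal (ev)
open scoped commutatorElement

variable {C : CentralLocal.Cert} {Γ G : Type*} [Group Γ] [Group G]

/-- The Sylow part of a stem kernel has order at most the product of the exponents. -/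
theorem card_ker_le [Finite Γ] [Finite G] (D : Data C G) {σ : Γ →* G} (hσ : Cfsg.IsStemExtension σ)
    {q e : ℕ} (hq : q.Prime) (hexp : ∀ z : σ.ker, z ^ (q ^ e) = 1) (hN : ¬ q ∣ Nat.card G / C.N)
    (es : List (List ℕ × List ℕ × List ℕ × List ℕ)) (T : Lat) (hT : latOK C es (q ^ e) T = true)
    (hes : ∀ hq0 : C.q = 0, ∀ (x : ℕ → Γ) (hx : ∀ s, σ (x s) = D.gen s),
      ∀ r ∈ es, (D.setup σ hσ.2.1 hq0 x hx).ExtHolds r) :
    Nat.card σ.ker ≤ T.ord.prod := by
  obtain ⟨Q, hQ⟩ : ∃ Q, Q = q ^ e := ⟨_, rfl⟩
  rw [← hQ] at hT hexp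
  simp only [latOK, Bool.and_eq_true, Nat.beq_eq, List.all_eq_true, List.mem_range, Nat.blt_eq] at hT
  obtain ⟨⟨hq0, hlen, hlen', hpos⟩, hcnt, hcoord, hred, hkill⟩ := hT
  choose x hx using fun s => hσ.1 (D.gen s)
  obtain ⟨S, hS⟩ : ∃ S, S = D.setup σ hσ.2.1 hq0 x hx := ⟨_, rfl⟩
  have hext : ∀ r ∈ es, S.ExtHolds r := hS ▸ hes hq0 x hx
  have hSσ : S.σ = σ.comp (MonoidHom.fst _ _) := by rw [hS]; rfl
  have hSx : S.x = liftC C x := by rw [hS]; rfl
  letI := S.kerGroup
  letI : CommGroup σ.ker := { (inferInstance : Group σ.ker) with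
    mul_comm := fun a b => Subtype.ext (Subgroup.mem_center_iff.1 (hσ.2.1 b.2) a) }
  let pr : Additive S.σ.ker →+ Additive σ.ker := MonoidHom.toAdditive
    { toFun := fun z => ⟨(z : Γ × Multiplicative (Fin C.k → ℤ)).1, by
        exact (DFunLike.congr_fun hSσ (z : Γ × Multiplicative (Fin C.k → ℤ))).symm.trans (MonoidHom.mem_ker.1 z.2)⟩
      map_one' := rfl
      map_mul' := fun _ _ => rfl }
  let sn : Additive S.σ.ker →+ (Fin C.k → ℤ) :=
    { toFun := fun z => Multiplicative.toAdd (z.toMul : Γ × Multiplicative (Fin C.k → ℤ)).2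
      map_zero' := rfl
      map_add' := fun _ _ => rfl }
  let w : List ℤ → Additive σ.ker := fun v => pr (lin S.u v 0)
  have hQa : ∀ a : Additive σ.ker, (Q : ℤ) • a = 0 := fun a => by
    rw [natCast_zsmul]
    exact congrArg Additive.ofMul (hexp a.toMul)
  have hrel : ∀ c : RelComb, relOK C es c = true → lin S.u (relV C es c) 0 = 0 := by
    intro c hc
    simp only [relOK, Bool.and_eq_true, List.all_eq_true, Nat.blt_eq] at hc
    rw [relV, lin_vadd]
    have z1 : ∀ l : List (ℤ × ℕ), (∀ t ∈ l, t.2 < es.length) →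
        lin S.u (l.foldr (fun t a => vadd (vsmul t.1 (C.extL (es.getD t.2 ([], [], [], [])))) a) []) 0 = 0 := by
      intro l hl
      induction l with
      | nil => rfl
      | cons t l ih =>
        rw [List.foldr_cons, lin_vadd, ih fun y hy => hl y (List.mem_cons_of_mem _ hy), add_zero, lin_vsmul,
          S.ext_lin (hext _ (by rw [List.getD_eq_getElem _ _ (hl t List.mem_cons_self)]; exact List.getElem_mem _)),
          smul_zero]
    have z2 : ∀ l : List (ℤ × (ℕ × ℕ)), (∀ t ∈ l, C.rowOK t.2 = true) →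
        lin S.u (l.foldr (fun t a => vadd (vsmul t.1 (C.rowL t.2)) a) []) 0 = 0 := by
      intro l hl
      induction l with
      | nil => rfl
      | cons t l ih =>
        rw [List.foldr_cons, lin_vadd, ih fun y hy => hl y (List.mem_cons_of_mem _ hy), add_zero, lin_vsmul,
          S.row_lin (hl t List.mem_cons_self), smul_zero]
    rw [z1 _ hc.1, z2 _ hc.2, add_zero]
  -- the span of the chosen vectors
  let W : AddSubgroup (Additive σ.ker) :=
    AddSubgroup.closure (Set.range fun j : Fin T.gens.length => w (T.gens.getD j []))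
  have hWg : ∀ c : List ℤ, pr (lin S.u (comb T.gens c) 0) ∈ W := fun c => by
    rw [lin_comb, map_sum]
    refine sum_mem fun j hj => ?_
    rw [map_zsmul]
    exact zsmul_mem (AddSubgroup.subset_closure (Set.mem_range_self (⟨j, Finset.mem_range.1 hj⟩ : Fin T.gens.length))) _
  have hWb : ∀ t < T.basis.length, w (T.basis.getD t []) ∈ W := by
    intro t ht
    have h := hred t ht
    simp only [redOK, Bool.and_eq_true] at h
    have h0 := congrArg pr (lin_vzero S.u _ 0 h.2)
    simp only [lin_vadd, lin_vsmul, hrel _ h.1, zero_add, map_add, map_zsmul, map_neg, hQa, add_zero, map_zero,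
      neg_smul, one_smul] at h0
    show pr (lin S.u (T.basis.getD t []) 0) ∈ W
    rw [neg_add_eq_zero.1 h0]
    exact hWg _
  have hord : ∀ j < T.gens.length, T.ord.getD j 0 • w (T.gens.getD j []) = 0 := by
    intro j hj
    have h := hkill j hj
    simp only [killOK, Bool.and_eq_true] at h
    have h0 := congrArg pr (lin_vzero S.u _ 0 h.2)
    simp only [lin_vadd, lin_vsmul, hrel _ h.1, zero_add, map_add, map_zsmul, map_neg, hQa, add_zero, map_zero,
      neg_smul, neg_eq_zero] at h0
    rw [← natCast_zsmul]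
    exact h0
  -- coordinates
  obtain ⟨R, hR⟩ : ∃ R, R = T.counts.length := ⟨_, rfl⟩
  let cvec : ℕ → (Fin C.k → ℤ) := fun s i => (T.counts.getD s []).getD i 0
  let H : AddSubgroup (Additive S.σ.ker) :=
    { carrier := {z | ∃ ρ : ℕ → ℤ, pr z - ∑ s ∈ Finset.range R, ρ s • w (T.compl.getD s []) ∈ W ∧
        sn z = ∑ s ∈ Finset.range R, ρ s • cvec s}
      zero_mem' := ⟨0, by simp, by simp⟩
      add_mem' := by
        rintro a b ⟨ρ, h1, h2⟩ ⟨ρ', h1', h2'⟩
        refine ⟨ρ + ρ', ?_, ?_⟩
        · have h := add_mem h1 h1'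
          simp only [map_add, Pi.add_apply, add_smul, Finset.sum_add_distrib]
          rwa [add_sub_add_comm]
        · simp only [map_add, h2, h2', Pi.add_apply, add_smul, Finset.sum_add_distrib]
      neg_mem' := by
        rintro a ⟨ρ, h1, h2⟩
        refine ⟨-ρ, ?_, ?_⟩
        · have h := neg_mem h1
          simp only [map_neg, Pi.neg_apply, neg_smul, Finset.sum_neg_distrib]
          convert h using 1
          abel
        · simp only [map_neg, h2, Pi.neg_apply, neg_smul, Finset.sum_neg_distrib] }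
  have hu : ∀ p < C.P, S.u p ∈ H := by
    intro p hp
    have h := hcoord p hp
    simp only [coordOK, Bool.and_eq_true, List.all_eq_true, List.mem_range, beq_iff_eq] at h
    obtain ⟨hpv, h⟩ := h
    refine ⟨fun s => (T.coord.getD p ([], [])).2.getD s 0, ?_, ?_⟩
    · have h0 := congrArg pr (lin_vzero S.u _ 0 h.1)
      simp only [lin_vadd, lin_vsmul, lin_vunit S.u hp, lin_comb, map_add, map_sum, map_zsmul, map_zero,
        neg_smul, one_smul, map_neg] at h0
      rw [neg_add_eq_zero] at h0
      rw [h0, hR, ← hlen, add_sub_cancel_right]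
      exact sum_mem fun t ht => zsmul_mem (hWb t (Finset.mem_range.1 ht)) _
    · funext i
      rw [Finset.sum_apply]
      simp only [Pi.smul_apply, smul_eq_mul, cvec]
      rw [hR, ← foldr_sum (fun s => (T.coord.getD p ([], [])).2.getD s 0 * (T.counts.getD s []).getD i 0),
        h.2 i i.2]
      show Multiplicative.toAdd ((S.val (C.pv.getD p 0) : S.σ.ker) : Γ × Multiplicative (Fin C.k → ℤ)).2 i = _
      have hv : ∀ v, v < C.V →
          Multiplicative.toAdd ((S.val v : S.σ.ker) : Γ × Multiplicative (Fin C.k → ℤ)).2 i = mv C v i := by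
        intro v hv
        rw [S.val_coe hv, CentralLocal.Setup.valG, mv]
        by_cases h1 : v < C.k * C.N
        · rw [if_pos h1, show Nat.blt v (C.k * C.N) = true from Nat.ble_eq.mpr h1, cond_true]
          simp only [Prod.snd_mul, Prod.snd_inv, toAdd_mul, toAdd_inv, Pi.add_apply, Pi.neg_apply,
            CentralLocal.Setup.t, hSx, (ev_liftC x _).2, List.count_append, Nat.cast_add, List.count_singleton]
          rw [sub_eq_add_neg]
          congr 2
          by_cases e : (i : ℕ) = v % C.k
          · simp [liftC, e]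
          · simp [liftC, e, Ne.symm e]
        · rw [if_neg h1, show Nat.blt v (C.k * C.N) = false by rw [← Bool.not_eq_true, Nat.blt_eq]; exact h1,
            cond_false, hSx, (ev_liftC x _).2]
      exact hv _ (Nat.blt_eq.mp hpv)
  -- elements of the lifts over one
  have hval : ∀ v < C.V, S.aval v ∈ H := by
    intro v hv
    rw [S.main_lin v hv]
    have hlen := S.valid.vars v hv
    rw [CentralLocal.Cert.varCheck, Bool.and_eq_true] at hlen
    exact lin_mem_of S.u H _ 0 fun p hp => by
      rw [zero_add]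
      exact hu p (lt_of_lt_of_le hp (Nat.le_of_ble_eq_true hlen.1))
  have hcov : ∀ g ∈ Subgroup.closure (S.x '' {s | s < C.k}),
      ∃ i < C.N, ∃ z : S.σ.ker, Additive.ofMul z ∈ H ∧ g = (z : Γ × Multiplicative (Fin C.k → ℤ)) * S.t i := by
    intro g hg
    induction hg using Subgroup.closure_induction_right with
    | one => exact ⟨0, S.valid.npos, 1, H.zero_mem, by simp [S.base.1]⟩
    | mul_right g _ y hy ih =>
      obtain ⟨i, hi, z, hz, rfl⟩ := ih
      obtain ⟨s, hs, rfl⟩ := hy
      exact ⟨C.step i s, S.step_lt hi hs, z * S.val (C.edge i s), H.add_mem hz (hval _ (S.edge_lt hi hs)), by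
        rw [mul_assoc, S.edge_eq hi hs, ← mul_assoc, Subgroup.coe_mul]⟩
    | mul_inv_cancel g _ y hy ih =>
      obtain ⟨j, hj, z, hz, rfl⟩ := ih
      obtain ⟨s, hs, rfl⟩ := hy
      obtain ⟨i, hi, rfl⟩ := S.step_surj D.ord_ok hs j hj
      refine ⟨i, hi, z * (S.val (C.edge i s))⁻¹, H.add_mem hz (H.neg_mem (hval _ (S.edge_lt hi hs))), ?_⟩
      have he := S.edge_eq hi hs
      rw [Subgroup.coe_mul, Subgroup.coe_inv, mul_assoc, mul_assoc]
      congr 1
      rw [eq_inv_mul_iff_mul_eq, ← mul_assoc, ← he, mul_inv_cancel_right]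
  -- every element of the kernel is a power of one in the span
  have hmem : ∀ z : σ.ker, Additive.ofMul z ∈ W := by
    intro z
    haveI : Finite Γ := inferInstance
    obtain ⟨P, hP⟩ : ∃ P, P = Subgroup.closure ((fun s => S.σ (S.x s)) '' {s | s < C.k}) := ⟨_, rfl⟩
    obtain ⟨k, hk, hkz⟩ := CentralCoded.pow_index_mem_commutator hσ.1 hσ.2.1 hσ.2.2 P z
    have hgen : Subgroup.closure (Set.range fun s : {s // s < C.k} => σ (x s)) = P := by
      rw [hP, Set.image_eq_range, hSσ, hSx]
      rfl
    have hz' := commutator_comap_mem hσ.2.1 (fun s : {s // s < C.k} => x s) hgen hk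
    obtain ⟨y, hy, hy1, hy2⟩ := exists_lift_pair hz'
    rw [← hSx] at hy
    obtain ⟨i, hi, c, hc, rfl⟩ := hcov y hy
    have hone : S.σ (S.t i) = 1 := by
      have h := congrArg σ (hy1.trans hkz)
      rw [map_pow, MonoidHom.mem_ker.1 z.2, one_pow] at h
      have hc1 : σ (c : Γ × Multiplicative (Fin C.k → ℤ)).1 = 1 :=
        (DFunLike.congr_fun hSσ (c : Γ × Multiplicative (Fin C.k → ℤ))).symm.trans (MonoidHom.mem_ker.1 c.2)
      rw [hSσ]
      simpa [hc1] using h
    have hi0 := S.index_one D.ord_ok hi hone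
    subst hi0
    rw [S.base.1, mul_one] at hy1 hy2
    obtain ⟨ρ, h1, h2⟩ := hc
    have hρ : ∀ s < R, ρ s = 0 := by
      intro s
      induction s using Nat.strong_induction_on with
      | _ s ih =>
        intro hs
        have h := List.all_eq_true.1 hcnt s (List.mem_range.2 (hR ▸ hs))
        simp only [Bool.and_eq_true, Nat.blt_eq, List.all_eq_true, List.mem_range, Bool.or_eq_true, Nat.ble_eq,
          beq_iff_eq, Bool.not_eq_true', beq_eq_false_iff_ne] at h
        obtain ⟨hpk, hne, hz0⟩ := h
        have e := congrFun h2 ⟨_, hpk⟩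
        rw [show sn (Additive.ofMul c) = Multiplicative.toAdd (c : Γ × Multiplicative (Fin C.k → ℤ)).2 from rfl,
          hy2, toAdd_one, Pi.zero_apply, Finset.sum_apply, Finset.sum_eq_single s (fun s' hs' hne' => by
            simp only [Pi.smul_apply, smul_eq_mul, cvec]
            rcases lt_or_gt_of_ne hne' with h' | h'
            · rw [ih s' h' (h'.trans hs), zero_mul]
            · rw [(hz0 s' (hR ▸ Finset.mem_range.1 hs')).resolve_left (by omega), mul_zero])
            (fun h' => absurd (Finset.mem_range.2 hs) h')] at e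
        simp only [Pi.smul_apply, smul_eq_mul, cvec] at e
        exact (mul_eq_zero.1 e.symm).resolve_right hne
    rw [Finset.sum_eq_zero (fun s hs => by rw [hρ s (Finset.mem_range.1 hs), zero_smul]), sub_zero] at h1
    have hzp : Additive.ofMul (z ^ P.index) ∈ W := by
      have : pr (Additive.ofMul c) = Additive.ofMul (z ^ P.index) :=
        congrArg Additive.ofMul (Subtype.ext (hy1.trans hkz))
      rwa [this] at h1
    have hPi : Nat.Coprime P.index Q := by
      rw [hQ]
      refine Nat.Coprime.pow_right e ((hq.coprime_iff_not_dvd.2 ?_).symm)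
      have h := Subgroup.card_mul_index P
      rw [hP] at h ⊢
      rw [S.card_image D.ord_ok] at h
      rw [← h, Nat.mul_div_cancel_left _ S.valid.npos] at hN
      exact hN
    obtain ⟨a, b, hab⟩ : ∃ a b : ℤ, (P.index : ℤ) * a + (Q : ℤ) * b = 1 :=
      ⟨_, _, (Nat.gcd_eq_gcd_ab _ _).symm.trans (by rw [hPi.gcd_eq_one]; rfl)⟩
    have : Additive.ofMul z = a • Additive.ofMul (z ^ P.index) := by
      rw [ofMul_pow, ← natCast_zsmul, smul_smul, mul_comm]
      nth_rewrite 1 [← one_smul ℤ (Additive.ofMul z)]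
      rw [← hab, add_smul, mul_smul (Q : ℤ), hQa, add_zero]
    rw [this]
    exact zsmul_mem hzp a
  -- counting
  haveI : ∀ j : Fin T.gens.length, NeZero (T.ord.getD j 0) := fun j => ⟨by
    have := hpos (T.ord.getD j 0) (by
      rw [List.getD_eq_getElem _ _ (hlen'.symm ▸ j.2 : (j : ℕ) < T.ord.length)]; exact List.getElem_mem _)
    omega⟩
  let f : ((j : Fin T.gens.length) → Fin (T.ord.getD j 0)) → Additive σ.ker :=
    fun n => ∑ j : Fin T.gens.length, (n j : ℕ) • w (T.gens.getD j [])
  have hW : ∀ a ∈ W, ∃ n : Fin T.gens.length → ℤ, a = ∑ j, n j • w (T.gens.getD j []) := by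
    intro a ha
    induction ha using AddSubgroup.closure_induction with
    | mem a ha =>
      obtain ⟨j, rfl⟩ := ha
      exact ⟨Pi.single j 1, by simp [Pi.single_apply, ite_smul]⟩
    | zero => exact ⟨0, by simp⟩
    | add a b _ _ iha ihb =>
      obtain ⟨m, rfl⟩ := iha
      obtain ⟨n, rfl⟩ := ihb
      exact ⟨m + n, by simp [add_smul, Finset.sum_add_distrib]⟩
    | neg a _ iha =>
      obtain ⟨n, rfl⟩ := iha
      exact ⟨-n, by simp [Finset.sum_neg_distrib]⟩
  have hf : Function.Surjective f := by
    intro a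
    obtain ⟨n, hn⟩ := hW a (hmem a.toMul)
    refine ⟨fun j => ⟨(n j % (T.ord.getD j 0 : ℤ)).toNat, ?_⟩, ?_⟩
    · have h0 : (T.ord.getD j 0 : ℤ) ≠ 0 := Int.natCast_ne_zero.2 (NeZero.ne _)
      have := Int.emod_lt_of_pos (n j) (b := (T.ord.getD j 0 : ℤ)) (by omega)
      have := Int.emod_nonneg (n j) h0
      omega
    · rw [hn]
      refine Finset.sum_congr rfl fun j _ => ?_
      have h0 : (T.ord.getD j 0 : ℤ) ≠ 0 := Int.natCast_ne_zero.2 (NeZero.ne _)
      rw [← natCast_zsmul, Int.toNat_of_nonneg (Int.emod_nonneg _ h0)]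
      conv_rhs => rw [← Int.emod_add_mul_ediv (n j) (T.ord.getD j 0 : ℤ), add_smul, mul_comm, mul_smul,
        natCast_zsmul _ (T.ord.getD j 0), hord j j.2, smul_zero, add_zero]
  have h := Nat.card_le_card_of_surjective f hf
  rw [Nat.card_pi] at h
  simp only [Nat.card_fin] at h
  refine le_trans h (le_of_eq ?_)
  rw [Fin.prod_univ_eq_prod_range (fun j => T.ord.getD j 0), ← hlen']
  exact prod_getD T.ord

end Cfsg.Agent.Lie.CentralBound
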