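import Cfsg.Agent.Lib.Lie.CentralTable

/-!
Tables with values in a central kernel over the elements of a coded finite subgroup: the lifts of the
elements are words, the kernel met by the lifts of two generators is spanned by a few parameters,
and checked rows give relations among the parameters.
-/

set_option autoImplicit false

namespace Cfsg.Agent.Lie.CentralCoded

open Cfsg.Agent.Lie Cfsg.Agent.Lie.CentralTable
open scoped commutatorElement

/-- A word coded by binary digits below a leading one. -/
def dec : ℕ → ℕ → List Bool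
  | 0, _ => []
  | f + 1, w => bif Nat.ble w 1 then [] else dec f (w / 2) ++ [w % 2 == 1]

/-- A certificate. -/
structure Cert where
  op : ℕ → ℕ → ℕ
  one : ℕ
  /-- number of elements -/
  N : ℕ
  g0 : ℕ
  g1 : ℕ
  m0 : ℕ
  m1 : ℕ
  rels : List (List Bool)
  /-- number of parameters -/
  P : ℕ
  elt : Janko.Tree ℕ
  next : Janko.Tree ℕ
  word : Janko.Tree ℕ
  par : Janko.Tree ℕ
  L : Janko.Tree (List ℤ)
  kind : Janko.Tree ℕ
  rank : Janko.Tree ℕ
  via : Janko.Tree (ℕ × ℕ)
  pv : List ℕ

namespace Cert

variable (C : Cert)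

/-- The index of an edge. -/
def edge (i : ℕ) (s : Bool) : ℕ := 2 * i + s.toNat

/-- Number of variables. -/
def V : ℕ := 2 * C.N + C.rels.length

/-- The target of an edge. -/
def step (i : ℕ) (s : Bool) : ℕ := C.next.get (edge i s)

/-- The edges along a word. -/
def path : ℕ → List Bool → List ℕ
  | _, [] => []
  | i, s :: w => edge i s :: path (C.step i s) w

/-- The end of a word. -/
def endp : ℕ → List Bool → ℕ
  | i, [] => i
  | i, s :: w => endp (C.step i s) w

/-- The relator. -/
def rel (r : ℕ) : List Bool := C.rels.getD r []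

/-- The variable of a relator. -/
def cvar (r : ℕ) : ℕ := 2 * C.N + r

/-- A generator. -/
def gen (s : Bool) : ℕ := bif s then C.g1 else C.g0

/-- The word of an element. -/
def wd (i : ℕ) : List Bool := dec 200 (C.word.get i)

/-- The equation of a relator at an element, with substituted values. -/
def rowL (q : ℕ × ℕ) : List ℤ :=
  vadd (vsmul (-1) (C.L.get (C.cvar q.1))) ((C.path q.2 (C.rel q.1)).foldr (fun v a => vadd (C.L.get v) a) [])

/-- Validity of a row. -/
def rowOK (q : ℕ × ℕ) : Bool :=
  Nat.blt q.1 C.rels.length && (Nat.blt q.2 C.N && Nat.beq (C.endp q.2 (C.rel q.1)) q.2)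

/-- Edges. -/
def edgeCheck (i : ℕ) : Bool :=
  [false, true].all fun s => Nat.blt (C.step i s) C.N &&
    Nat.beq (C.op (C.elt.get i) (C.gen s)) (C.elt.get (C.step i s))

/-- The spanning tree and the elements. -/
def treeCheck (i : ℕ) : Bool :=
  bif Nat.beq i 0 then (C.wd 0).isEmpty && Nat.beq (C.elt.get 0) C.one else
    (Nat.blt (C.par.get i / 2) i && (C.wd i == C.wd (C.par.get i / 2) ++ [C.par.get i % 2 == 1] &&
      (Nat.beq (C.step (C.par.get i / 2) (C.par.get i % 2 == 1)) i && !(Nat.beq (C.elt.get i) C.one))))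

/-- The relators hold. -/
def relCheck (w : List Bool) : Bool := Nat.beq (C.endp 0 w) 0

/-- One variable. -/
def varCheck (v : ℕ) : Bool :=
  Nat.ble (C.L.get v).length C.P &&
  match C.kind.get v with
  | 0 => Nat.blt v (2 * C.N) && (C.wd (C.next.get v) == C.wd (v / 2) ++ [v % 2 == 1] && vzero (C.L.get v))
  | 1 => Nat.ble (2 * C.N) v && ((C.rel (v - 2 * C.N) == List.replicate C.m0 false ||
      C.rel (v - 2 * C.N) == List.replicate C.m1 true) && vzero (C.L.get v))
  | 2 => Nat.blt (C.via.get v).1 C.P && (Nat.beq (C.pv.getD (C.via.get v).1 0) v &&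
      C.L.get v == vunit C.P (C.via.get v).1)
  | _ => C.rowOK (C.via.get v) && (vzero (C.rowL (C.via.get v)) &&
      ((Nat.beq v (C.cvar (C.via.get v).1) &&
          (C.path (C.via.get v).2 (C.rel (C.via.get v).1)).all fun e => Nat.blt (C.rank.get e) (C.rank.get v)) ||
        (Nat.blt (C.rank.get (C.cvar (C.via.get v).1)) (C.rank.get v) &&
          (Nat.beq ((C.path (C.via.get v).2 (C.rel (C.via.get v).1)).count v) 1 &&
            (C.path (C.via.get v).2 (C.rel (C.via.get v).1)).all fun e => Nat.beq e v || Nat.blt (C.rank.get e) (C.rank.get v)))))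

/-- A combination of rows and of one additional equality of two variables. -/
def comboCheck (k : ℤ) (a b : ℕ) (rows : List (ℤ × (ℕ × ℕ))) (target : List ℤ) : Bool :=
  Nat.blt a C.V && (Nat.blt b C.V && (rows.all (fun t => C.rowOK t.2) &&
    vadd (vsmul k (vadd (C.L.get a) (vsmul (-1) (C.L.get b))))
      (rows.foldr (fun t c => vadd (vsmul t.1 (C.rowL t.2)) c) (List.replicate C.P 0)) == target))

/-- The elements are listed in increasing order by the array. -/
def ordCheck (ord : Janko.Tree ℕ) (k : ℕ) : Bool :=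
  Nat.blt (ord.get k) C.N && (Nat.ble C.N (k + 1) || Nat.blt (C.elt.get (ord.get k)) (C.elt.get (ord.get (k + 1))))

/-- The hypotheses delivered by the computation. -/
structure Valid : Prop where
  npos : 0 < C.N
  edges : ∀ i < C.N, C.edgeCheck i = true
  tree : ∀ i < C.N, C.treeCheck i = true
  rels : ∀ w ∈ C.rels, C.relCheck w = true
  vars : ∀ v < C.V, C.varCheck v = true

end Cert

theorem lin_mem {A : Type*} [AddCommGroup A] (u : ℕ → A) (S : AddSubgroup A) :
    ∀ (v : List ℤ) (k : ℕ), (∀ p, k ≤ p → p < k + v.length → u p ∈ S) → lin u v k ∈ S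
  | [], _, _ => S.zero_mem
  | a :: v, k, h => by
    rw [lin]
    exact S.add_mem (S.zsmul_mem (h k le_rfl (by simp)) a)
      (lin_mem u S v (k + 1) fun p h1 h2 => h p (by omega) (by simp only [List.length_cons]; omega))

/-- The data to which a certificate is applied. -/
structure Setup (C : Cert) (Γ G : Type*) [Group Γ] [Group G] where
  /-- the extension -/
  σ : Γ →* G
  central : σ.ker ≤ Subgroup.center Γ
  /-- the code -/
  code : G → ℕ
  code_mul : ∀ a b, code (a * b) = C.op (code a) (code b)
  code_one : code 1 = C.one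
  code_inj : ∀ a b, code a = code b → a = b
  /-- lifts of the generators -/
  x : Bool → Γ
  rep_x : ∀ s, code (σ (x s)) = C.gen s
  pow_x : ∀ s, x s ^ (bif s then C.m1 else C.m0) = 1
  valid : C.Valid

namespace Setup

variable {C : Cert} {Γ G : Type*} [Group Γ] [Group G] (S : Setup C Γ G)
include S

/-- The lift of an element. -/
def t (i : ℕ) : Γ := ev S.x (C.wd i)

theorem step_lt {i : ℕ} (hi : i < C.N) (s : Bool) : C.step i s < C.N := by
  have h := S.valid.edges i hi
  simp only [Cert.edgeCheck, List.all_cons, List.all_nil, Bool.and_true, Bool.and_eq_true, Nat.blt_eq] at h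
  cases s
  exacts [h.1.1, h.2.1]

theorem edge_code {i : ℕ} (hi : i < C.N) (s : Bool) : C.op (C.elt.get i) (C.gen s) = C.elt.get (C.step i s) := by
  have h := S.valid.edges i hi
  simp only [Cert.edgeCheck, List.all_cons, List.all_nil, Bool.and_true, Bool.and_eq_true, Nat.beq_eq] at h
  cases s
  exacts [h.1.2, h.2.2]

theorem base : S.t 0 = 1 ∧ C.elt.get 0 = C.one := by
  have h := S.valid.tree 0 S.valid.npos
  simp only [Cert.treeCheck, show Nat.beq 0 0 = true from rfl, cond_true, Bool.and_eq_true, List.isEmpty_iff,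
    Nat.beq_eq] at h
  exact ⟨by simp [t, h.1, ev], h.2⟩

theorem tree_spec {i : ℕ} (hi : i < C.N) (h0 : 0 < i) : C.par.get i / 2 < i ∧
    S.t i = S.t (C.par.get i / 2) * S.x (C.par.get i % 2 == 1) ∧
    C.step (C.par.get i / 2) (C.par.get i % 2 == 1) = i ∧ C.elt.get i ≠ C.one := by
  have h := S.valid.tree i hi
  rw [Cert.treeCheck, show Nat.beq i 0 = false by rw [← Bool.not_eq_true, Nat.beq_eq]; omega] at h
  simp only [cond_false, Bool.and_eq_true, Nat.blt_eq, beq_iff_eq, Nat.beq_eq, Bool.not_eq_true'] at h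
  refine ⟨h.1, ?_, h.2.2.1, fun e => ?_⟩
  · rw [t, h.2.1, ev_append, show ev S.x [C.par.get i % 2 == 1] = S.x (C.par.get i % 2 == 1) by simp [ev]]
    rfl
  · rw [e] at h
    simp at h

theorem code_t : ∀ i < C.N, S.code (S.σ (S.t i)) = C.elt.get i := by
  intro i
  induction i using Nat.strong_induction_on with
  | _ i ih =>
    intro hi
    rcases Nat.eq_zero_or_pos i with rfl | h0
    · rw [S.base.1, map_one, S.code_one, S.base.2]
    obtain ⟨hlt, ht, hs, -⟩ := S.tree_spec hi h0
    rw [ht, map_mul, S.code_mul, ih _ hlt (hlt.trans hi), S.rep_x, S.edge_code (hlt.trans hi), hs]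

theorem code_walk : ∀ (w : List Bool) {i : ℕ}, i < C.N →
    S.code (S.σ (S.t i * ev S.x w)) = C.elt.get (C.endp i w)
  | [], i, hi => by simp [ev, Cert.endp, S.code_t i hi]
  | s :: w, i, hi => by
    have h := code_walk w (S.step_lt hi s)
    rw [Cert.endp, ← h, ev_cons, ← mul_assoc, map_mul _ (S.t i * S.x s), map_mul _ (S.t (C.step i s)),
      S.code_mul, S.code_mul _ (S.σ (ev S.x w))]
    congr 1
    rw [map_mul, S.code_mul, S.code_t i hi, S.rep_x, S.edge_code hi, S.code_t _ (S.step_lt hi s)]

theorem rel_image {w : List Bool} (hw : w ∈ C.rels) : S.σ (ev S.x w) = 1 := by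
  refine S.code_inj _ _ ?_
  have h := S.code_walk w S.valid.npos
  have he := S.valid.rels w hw
  simp only [Cert.relCheck, Nat.beq_eq] at he
  rwa [S.base.1, one_mul, he, S.base.2, ← S.code_one] at h

/-- The kernel as an additive commutative group. -/
@[reducible] def kerGroup : CommGroup S.σ.ker :=
  { (inferInstance : Group S.σ.ker) with
    mul_comm := fun a b => Subtype.ext (Subgroup.mem_center_iff.1 (S.central b.2) a) }

/-- The value of a variable, as an element of the extension. -/
def valG (v : ℕ) : Γ :=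
  if v < 2 * C.N then S.t (v / 2) * S.x (v % 2 == 1) * (S.t (C.next.get v))⁻¹
  else ev S.x (C.rel (v - 2 * C.N))

theorem valG_edge {i : ℕ} (hi : i < C.N) (s : Bool) :
    S.valG (Cert.edge i s) = S.t i * S.x s * (S.t (C.step i s))⁻¹ := by
  have h1 : Cert.edge i s < 2 * C.N := by cases s <;> simp [Cert.edge] <;> omega
  have h2 : Cert.edge i s / 2 = i := by cases s <;> simp [Cert.edge] <;> omega
  have h3 : (Cert.edge i s % 2 == 1) = s := by cases s <;> simp [Cert.edge] <;> omega
  rw [valG, if_pos h1, h2, h3]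
  rfl

theorem valG_mem {v : ℕ} (hv : v < C.V) : S.valG v ∈ S.σ.ker := by
  rw [MonoidHom.mem_ker]
  by_cases h : v < 2 * C.N
  · have e : v = Cert.edge (v / 2) (v % 2 == 1) := by
      rcases Nat.mod_two_eq_zero_or_one v with h' | h' <;> simp [Cert.edge, h'] <;> omega
    rw [e, S.valG_edge (by omega), map_mul, map_inv, mul_inv_eq_one]
    refine S.code_inj _ _ ?_
    rw [map_mul, S.code_mul, S.code_t _ (by omega), S.rep_x, S.edge_code (by omega),
      S.code_t _ (S.step_lt (by omega) _)]
  · rw [valG, if_neg h]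
    have : v - 2 * C.N < C.rels.length := by simp only [Cert.V] at hv; omega
    exact S.rel_image (by rw [Cert.rel, List.getD_eq_getElem _ _ this]; exact List.getElem_mem _)

/-- The value of a variable. -/
def val (v : ℕ) : S.σ.ker := if h : v < C.V then ⟨S.valG v, S.valG_mem h⟩ else 1

theorem val_coe {v : ℕ} (hv : v < C.V) : (S.val v : Γ) = S.valG v := by
  rw [val, dif_pos hv]

theorem val_rel {r : ℕ} (hr : r < C.rels.length) : (S.val (C.cvar r) : Γ) = ev S.x (C.rel r) := by
  rw [S.val_coe (by simp only [Cert.V, Cert.cvar]; omega), valG, if_neg (by simp [Cert.cvar]), Cert.cvar,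
    Nat.add_sub_cancel_left]

theorem edge_lt {i : ℕ} (hi : i < C.N) (s : Bool) : Cert.edge i s < C.V := by
  cases s <;> simp [Cert.edge, Cert.V] <;> omega

theorem edge_eq {i : ℕ} (hi : i < C.N) (s : Bool) :
    S.t i * S.x s = (S.val (Cert.edge i s) : Γ) * S.t (C.step i s) := by
  rw [S.val_coe (S.edge_lt hi s), S.valG_edge hi]
  group

theorem path_lt : ∀ (w : List Bool) {i : ℕ}, i < C.N → ∀ e ∈ C.path i w, e < C.V
  | [], i, _, e, he => by simp [Cert.path] at he
  | s :: w, i, hi, e, he => by
    rcases List.mem_cons.1 he with rfl | he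
    · exact S.edge_lt hi s
    · exact path_lt w (S.step_lt hi s) e he

theorem walk : ∀ (w : List Bool) {i : ℕ}, i < C.N →
    S.t i * ev S.x w = (((C.path i w).map S.val).prod : S.σ.ker) * S.t (C.endp i w)
  | [], i, _ => by simp [ev, Cert.path, Cert.endp]
  | s :: w, i, hi => by
    simp only [Cert.path, Cert.endp, List.map_cons, List.prod_cons, Subgroup.coe_mul, ev_cons]
    rw [← mul_assoc, S.edge_eq hi s, mul_assoc _ (S.t (C.step i s)), walk w (S.step_lt hi s), mul_assoc]

theorem row_eq {q : ℕ × ℕ} (hq : C.rowOK q = true) :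
    ((C.path q.2 (C.rel q.1)).map S.val).prod = S.val (C.cvar q.1) := by
  simp only [Cert.rowOK, Bool.and_eq_true, Nat.blt_eq, Nat.beq_eq] at hq
  obtain ⟨hr, hi, he⟩ := hq
  have hl := S.walk (C.rel q.1) hi
  rw [he] at hl
  have hw : C.rel q.1 ∈ C.rels := by rw [Cert.rel, List.getD_eq_getElem _ _ hr]; exact List.getElem_mem _
  have hc : ev S.x (C.rel q.1) ∈ Subgroup.center Γ := S.central (S.rel_image hw)
  rw [Subgroup.mem_center_iff.1 hc, mul_left_inj] at hl
  exact Subtype.ext (hl.symm.trans (S.val_rel hr).symm)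

/-- The additive value of a variable. -/
def aval (v : ℕ) : Additive S.σ.ker := Additive.ofMul (S.val v)

/-- The parameters. -/
def u (p : ℕ) : Additive S.σ.ker := S.aval (C.pv.getD p 0)

theorem kind0 {v : ℕ} (hv : v < 2 * C.N) (hw : C.wd (C.next.get v) = C.wd (v / 2) ++ [v % 2 == 1]) :
    S.val v = 1 := by
  have hV : v < C.V := by simp [Cert.V]; omega
  refine Subtype.ext ?_
  rw [S.val_coe hV, valG, if_pos hv, t, t, hw, ev_append,
    show ev S.x [v % 2 == 1] = S.x (v % 2 == 1) by simp [ev], mul_inv_cancel]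
  rfl

theorem kind1 {v : ℕ} (hv : 2 * C.N ≤ v) (hV : v < C.V) {s : Bool}
    (hw : C.rel (v - 2 * C.N) = List.replicate (bif s then C.m1 else C.m0) s) : S.val v = 1 := by
  refine Subtype.ext ?_
  rw [S.val_coe hV, valG, if_neg (by omega), hw, ev, List.map_replicate, List.prod_replicate, S.pow_x]
  rfl

theorem sum_lin (l : List ℕ) :
    letI := S.kerGroup
    lin S.u (l.foldr (fun v a => vadd (C.L.get v) a) []) 0 = (l.map fun e => lin S.u (C.L.get e) 0).sum := by
  letI := S.kerGroup
  induction l with
  | nil => rfl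
  | cons a l ih => rw [List.foldr_cons, lin_vadd, ih, List.map_cons, List.sum_cons]

theorem main_lin : letI := S.kerGroup; ∀ v < C.V, S.aval v = lin S.u (C.L.get v) 0 := by
  letI := S.kerGroup
  intro v hv
  induction hr : C.rank.get v using Nat.strong_induction_on generalizing v with
  | _ r ih =>
    subst hr
    have h := S.valid.vars v hv
    unfold Cert.varCheck at h
    rw [Bool.and_eq_true] at h
    have h := h.2
    split at h
    · simp only [Bool.and_eq_true, Nat.blt_eq, beq_iff_eq] at h
      rw [lin_vzero _ _ _ h.2.2, aval, S.kind0 h.1 h.2.1]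
      rfl
    · simp only [Bool.and_eq_true, Bool.or_eq_true, Nat.ble_eq, beq_iff_eq] at h
      rw [lin_vzero _ _ _ h.2.2, aval]
      rcases h.2.1 with hw | hw
      · rw [S.kind1 (s := false) h.1 hv hw]; rfl
      · rw [S.kind1 (s := true) h.1 hv hw]; rfl
    · simp only [Bool.and_eq_true, Nat.blt_eq, Nat.beq_eq, beq_iff_eq] at h
      rw [h.2.2, lin_vunit _ h.1, u, h.2.1]
    · simp only [Bool.and_eq_true, Bool.or_eq_true, Nat.blt_eq, Nat.beq_eq, List.all_eq_true] at h
      obtain ⟨hok, hz, hcase⟩ := h
      have hrow : ((C.path (C.via.get v).2 (C.rel (C.via.get v).1)).map S.aval).sum =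
          S.aval (C.cvar (C.via.get v).1) := by
        rw [show S.aval = Additive.ofMul ∘ S.val from rfl, ← List.map_map, ← ofMul_list_prod, S.row_eq hok]
        rfl
      have h0 := lin_vzero S.u _ 0 hz
      rw [Cert.rowL, lin_vadd, lin_vsmul, S.sum_lin, neg_one_zsmul, neg_add_eq_zero] at h0
      have hok' := hok
      simp only [Cert.rowOK, Bool.and_eq_true, Nat.blt_eq] at hok'
      have hlt := S.path_lt (C.rel (C.via.get v).1) hok'.2.1
      have hcv : C.cvar (C.via.get v).1 < C.V := by
        have := hok'.1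
        simp [Cert.cvar, Cert.V]; omega
      generalize hd : (fun e => S.aval e - lin S.u (C.L.get e) 0) = D
      have hsum : ((C.path (C.via.get v).2 (C.rel (C.via.get v).1)).map D).sum = D (C.cvar (C.via.get v).1) := by
        subst hd
        have : ∀ l : List ℕ, (l.map fun e => S.aval e - lin S.u (C.L.get e) 0).sum =
            (l.map S.aval).sum - (l.map fun e => lin S.u (C.L.get e) 0).sum := fun l => by
          induction l with
          | nil => simp
          | cons a l ihl => simp only [List.map_cons, List.sum_cons, ihl]; abel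
        simp only [this, hrow, h0]
      suffices D v = 0 by
        subst hd
        exact sub_eq_zero.1 this
      have hD : ∀ e < C.V, C.rank.get e < C.rank.get v → D e = 0 := fun e he hlt' => by
        subst hd
        exact sub_eq_zero.2 (ih _ hlt' e he rfl)
      rcases hcase with ⟨hvc, hall⟩ | ⟨hc, hcount, hall⟩
      · rw [hvc, ← hsum]
        refine List.sum_eq_zero fun x hx => ?_
        obtain ⟨e, he, rfl⟩ := List.mem_map.1 hx
        exact hD e (hlt e he) (hall e he)
      · rw [hD _ hcv hc, List.sum_map_eq_nsmul_single v D, hcount, one_smul] at hsum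
        · exact hsum
        · intro e hne he
          exact hD e (hlt e he) ((hall e he).resolve_left hne)

/-- A checked combination gives a relation among the parameters. -/
theorem combo {k : ℤ} {a b : ℕ} {rows : List (ℤ × (ℕ × ℕ))} {target : List ℤ}
    (h : C.comboCheck k a b rows target = true) (hab : S.val a = S.val b) :
    letI := S.kerGroup; lin S.u target 0 = 0 := by
  letI := S.kerGroup
  simp only [Cert.comboCheck, Bool.and_eq_true, Nat.blt_eq, List.all_eq_true, beq_iff_eq] at h
  obtain ⟨ha, hb, hok, he⟩ := h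
  rw [← he, lin_vadd, lin_vsmul, lin_vadd, lin_vsmul, neg_one_zsmul, ← S.main_lin a ha, ← S.main_lin b hb]
  rw [show S.aval a = S.aval b from congrArg Additive.ofMul hab, add_neg_cancel, smul_zero, zero_add]
  clear he ha hb hab
  induction rows with
  | nil => exact lin_replicate _ _ _
  | cons t l ih =>
    rw [List.foldr_cons, lin_vadd, ih fun x hx => hok x (List.mem_cons_of_mem _ hx), add_zero, lin_vsmul]
    have hq := hok t List.mem_cons_self
    have hrow := congrArg Additive.ofMul (S.row_eq hq)
    simp only [Cert.rowOK, Bool.and_eq_true, Nat.blt_eq] at hq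
    have hlt := S.path_lt (C.rel t.2.1) hq.2.1
    have hcv : C.cvar t.2.1 < C.V := by
      have := hq.1
      simp [Cert.cvar, Cert.V]; omega
    rw [ofMul_list_prod, List.map_map] at hrow
    rw [Cert.rowL, lin_vadd, lin_vsmul, S.sum_lin, neg_one_zsmul, ← S.main_lin _ hcv,
      List.map_congr_left (fun e he => (S.main_lin e (hlt e he)).symm),
      show S.aval = Additive.ofMul ∘ S.val from rfl, hrow]
    simp

/-- The kernel met by the lifts is spanned by the parameters. -/
theorem ker_mem [Finite Γ] (Z : Subgroup S.σ.ker) (hZ : ∀ p < C.P, Additive.toMul (S.u p) ∈ Z) {g : Γ}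
    (hg : g ∈ Subgroup.closure (Set.range S.x)) (h1 : S.σ g = 1) :
    (⟨g, h1⟩ : S.σ.ker) ∈ Z := by
  letI := S.kerGroup
  have hval : ∀ v < C.V, S.val v ∈ Z := fun v hv => by
    have hlen := S.valid.vars v hv
    rw [Cert.varCheck, Bool.and_eq_true] at hlen
    have := lin_mem S.u (Subgroup.toAddSubgroup Z) (C.L.get v) 0
      fun p _ hp => hZ p (lt_of_lt_of_le (by simpa using hp) (Nat.le_of_ble_eq_true hlen.1))
    rw [← S.main_lin v hv] at this
    exact this
  have hg' : g ∈ Submonoid.closure (Set.range S.x) := by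
    have : g ∈ (Subgroup.closure (Set.range S.x)).toSubmonoid := hg
    rwa [Subgroup.closure_toSubmonoid_of_finite] at this
  have hcov : ∃ i < C.N, ∃ z ∈ Z, g = (z : Γ) * S.t i := by
    clear h1 hg
    induction hg' using Submonoid.closure_induction_right with
    | one => exact ⟨0, S.valid.npos, 1, one_mem _, by simp [S.base.1]⟩
    | mul_right g hg y hy ih =>
      obtain ⟨s, rfl⟩ := hy
      obtain ⟨i, hi, z, hz, rfl⟩ := ih
      refine ⟨C.step i s, S.step_lt hi s, z * S.val (Cert.edge i s), mul_mem hz (hval _ (S.edge_lt hi s)), ?_⟩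
      rw [mul_assoc _ (S.t i) (S.x s), S.edge_eq hi, Subgroup.coe_mul, mul_assoc]
  obtain ⟨i, hi, z, hz, rfl⟩ := hcov
  have hc : S.code (S.σ (S.t i)) = C.one := by
    rw [← S.code_one]
    congr 1
    rwa [map_mul, MonoidHom.mem_ker.1 z.2, one_mul] at h1
  rcases Nat.eq_zero_or_pos i with rfl | h0
  · convert hz using 1
    exact Subtype.ext (by simp [S.base.1])
  · exact absurd ((S.code_t i hi).symm.trans hc) (S.tree_spec hi h0).2.2.2

/-- The order of the subgroup generated by the images of the lifts. -/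
theorem card_image [Finite G] {ord : Janko.Tree ℕ} (hord : ∀ k < C.N, C.ordCheck ord k = true) :
    Nat.card (Subgroup.closure (Set.range fun s => S.σ (S.x s))) = C.N := by
  generalize hPdef : Subgroup.closure (Set.range fun s => S.σ (S.x s)) = P
  have hmem : ∀ g ∈ P, ∃ i < C.N, g = S.σ (S.t i) := by
    intro g hg
    rw [← hPdef] at hg
    have hg' : g ∈ Submonoid.closure (Set.range fun s => S.σ (S.x s)) := by
      have : g ∈ (Subgroup.closure (Set.range fun s => S.σ (S.x s))).toSubmonoid := hg
      rwa [Subgroup.closure_toSubmonoid_of_finite] at this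
    clear hg
    induction hg' using Submonoid.closure_induction_right with
    | one => exact ⟨0, S.valid.npos, by rw [S.base.1, map_one]⟩
    | mul_right g hg y hy ih =>
      obtain ⟨s, rfl⟩ := hy
      obtain ⟨i, hi, rfl⟩ := ih
      refine ⟨C.step i s, S.step_lt hi s, S.code_inj _ _ ?_⟩
      rw [S.code_mul, S.code_t i hi, S.rep_x, S.edge_code hi, S.code_t _ (S.step_lt hi s)]
  have hlt : ∀ k < C.N, ord.get k < C.N := fun k hk => by
    have h := hord k hk
    rw [Cert.ordCheck, Bool.and_eq_true, Nat.blt_eq] at h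
    exact h.1
  have hmono : ∀ b a, a < b → b < C.N → C.elt.get (ord.get a) < C.elt.get (ord.get b) := by
    intro b
    induction b with
    | zero => intro a ha; omega
    | succ b ih =>
      intro a ha hb
      have h := hord b (by omega)
      simp only [Cert.ordCheck, Bool.and_eq_true, Bool.or_eq_true, Nat.blt_eq, Nat.ble_eq] at h
      have h2 := h.2.resolve_left (by omega)
      rcases Nat.lt_succ_iff_lt_or_eq.mp ha with h' | h'
      · exact (ih a h' (by omega)).trans h2
      · exact h' ▸ h2
  have hin : ∀ i, S.σ (S.t i) ∈ P := fun i => by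
    rw [← hPdef, t, map_ev]
    exact ev_mem _ _
  apply le_antisymm
  · rw [← Nat.card_fin C.N]
    refine Nat.card_le_card_of_surjective (fun i : Fin C.N => (⟨S.σ (S.t i), hin i⟩ : P)) fun g => ?_
    obtain ⟨i, hi, e⟩ := hmem g g.2
    exact ⟨⟨i, hi⟩, Subtype.ext e.symm⟩
  · rw [← Nat.card_fin C.N]
    refine Nat.card_le_card_of_injective (fun k : Fin C.N => (⟨S.σ (S.t (ord.get k)), hin _⟩ : P))
      fun a b h => ?_
    have h := congrArg S.code (congrArg Subtype.val h)
    rw [S.code_t _ (hlt a a.2), S.code_t _ (hlt b b.2)] at h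
    rcases lt_trichotomy (a : ℕ) b with h' | h' | h'
    · exact absurd h (hmono _ _ h' b.2).ne
    · exact Fin.ext h'
    · exact absurd h.symm (hmono _ _ h' a.2).ne

end Setup

/-- A power by the index of a central kernel element is a commutator in the preimage. -/
theorem pow_index_mem_commutator {Γ G : Type*} [Group Γ] [Group G] [Finite Γ] {σ : Γ →* G}
    (hs : Function.Surjective σ) (hc : σ.ker ≤ Subgroup.center Γ) (hd : σ.ker ≤ commutator Γ)
    (P : Subgroup G) (z : σ.ker) :
    ∃ k : P.comap σ, k ∈ commutator (P.comap σ) ∧ (k : Γ) = (z : Γ) ^ P.index := by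
  have hz : ∀ g : Γ, (z : Γ) * g = g * z := fun g => (Subgroup.mem_center_iff.1 (hc z.2) g).symm
  have ht := MonoidHom.transfer_eq_pow (Abelianization.of : P.comap σ →* _) (z : Γ) (fun k g _ => by
    rw [mul_assoc, ((show Commute (z : Γ) g from hz g).pow_left k).eq, inv_mul_cancel_left])
  have hker : (z : Γ) ∈ (MonoidHom.transfer (Abelianization.of : P.comap σ →* _)).ker :=
    Abelianization.commutator_subset_ker _ (hd z.2)
  rw [MonoidHom.mem_ker, ht, ← MonoidHom.mem_ker, Abelianization.ker_of] at hker
  exact ⟨_, hker, congrArg (fun n => (z : Γ) ^ n) (Subgroup.index_comap_of_surjective _ hs)⟩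

/-- The derived subgroup of the preimage of a generated subgroup lies in the group of the lifts. -/
theorem commutator_comap_le {Γ G : Type*} [Group Γ] [Group G] {σ : Γ →* G}
    (hc : σ.ker ≤ Subgroup.center Γ) {ι : Type*} (x : ι → Γ) (P : Subgroup G)
    (hP : Subgroup.closure (Set.range fun s => σ (x s)) = P) {k : P.comap σ}
    (hk : k ∈ commutator (P.comap σ)) : (k : Γ) ∈ Subgroup.closure (Set.range x) := by
  have hsplit : ∀ g : P.comap σ, ∃ a ∈ Subgroup.closure (Set.range x), ∃ z ∈ Subgroup.center Γ, (g : Γ) = a * z := by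
    intro g
    have : σ (g : Γ) ∈ (Subgroup.closure (Set.range x)).map σ := by
      rw [MonoidHom.map_closure, ← Set.range_comp]
      exact hP.symm ▸ g.2
    obtain ⟨a, ha, e⟩ := this
    exact ⟨a, ha, a⁻¹ * g, hc (by rw [MonoidHom.mem_ker, map_mul, map_inv, e, inv_mul_cancel]),
      (mul_inv_cancel_left _ _).symm⟩
  have hle : commutator (P.comap σ) ≤ (Subgroup.closure (Set.range x)).comap (P.comap σ).subtype := by
    rw [commutator_def, Subgroup.commutator_le]
    intro g _ h _
    obtain ⟨a, ha, z, hz, eg⟩ := hsplit g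
    obtain ⟨b, hb, w, hw, eh⟩ := hsplit h
    rw [Subgroup.mem_comap]
    have e : ((P.comap σ).subtype ⁅g, h⁆ : Γ) = ⁅a, b⁆ := by
      show (g : Γ) * h * (g : Γ)⁻¹ * (h : Γ)⁻¹ = a * b * a⁻¹ * b⁻¹
      rw [eg, eh, mul_inv_rev, mul_inv_rev]
      calc a * z * (b * w) * (z⁻¹ * a⁻¹) * (w⁻¹ * b⁻¹)
          = a * (z * (b * w) * z⁻¹) * a⁻¹ * (w⁻¹ * b⁻¹) := by group
        _ = a * (b * w) * a⁻¹ * (w⁻¹ * b⁻¹) := by
          rw [← Subgroup.mem_center_iff.1 hz (b * w), mul_inv_cancel_right]
        _ = a * b * (w * a⁻¹ * w⁻¹) * b⁻¹ := by group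
        _ = a * b * a⁻¹ * b⁻¹ := by rw [← Subgroup.mem_center_iff.1 hw a⁻¹, mul_inv_cancel_right]
    rw [e, commutatorElement_def]
    exact mul_mem (mul_mem (mul_mem ha hb) (inv_mem ha)) (inv_mem hb)
  exact hle hk

end Cfsg.Agent.Lie.CentralCoded
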