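import Mathlib
import Cfsg.Agent.Lib.Lie.CentralTable
import Cfsg.Agent.Lib.Lie.CentralStage

/-!
Injectivity stages over an arbitrary label subgroup, a stage using one known equality of lifts, straight-line
programs for packed permutations, and bounds for orders of subgroups of a permutation group.
-/

set_option autoImplicit false
set_option linter.style.haveILetI false

namespace Cfsg.Agent.Lie.CentralTable

/-- Torsion-freeness for a product of coprime exponents. -/
theorem no_torsion_mul {Z : Type*} [Monoid Z] {m n : ℕ} (hm : ∀ z : Z, z ^ m = 1 → z = 1)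
    (hn : ∀ z : Z, z ^ n = 1 → z = 1) : ∀ z : Z, z ^ (m * n) = 1 → z = 1 := fun z hz =>
  hm z (hn _ (by rw [← pow_mul]; exact hz))

/-- The targets when two relators are known to have equal values. -/
def Cert.pairTargets (C : Cert) (q r₁ r₂ : ℕ) (k : List ℤ) : Bool :=
  C.combos.map Prod.fst == (List.range C.P).map fun p =>
    vadd (vsmul (q : ℤ) (vunit C.P p))
      (vsmul (k.getD p 0) (vadd (C.L.get (C.cvar r₁)) (vsmul (-1) (C.L.get (C.cvar r₂)))))

namespace Setup

variable {C : Cert} {Γ G : Type*} [Group Γ] [Group G] (S : Setup C Γ G)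
include S

/-- All parameters vanish. -/
def Vanish : Prop := letI := S.kerGroup; ∀ p < C.P, S.u p = 0

theorem vanish_of_targets {q : ℕ} (hker : ∀ z : S.σ.ker, z ^ q = 1 → z = 1) (hT : C.killTargets q = true) :
    S.Vanish := by
  letI := S.kerGroup
  intro p hp
  rw [Cert.killTargets, beq_iff_eq] at hT
  have hmem' : vsmul (q : ℤ) (vunit C.P p) ∈ C.combos.map Prod.fst := by
    rw [hT]; exact List.mem_map.2 ⟨p, List.mem_range.2 hp, rfl⟩
  obtain ⟨c, hc, e⟩ := List.mem_map.1 hmem'
  have h := S.combo hc
  rw [e, lin_vsmul, lin_vunit _ hp, natCast_zsmul] at h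
  have h7 : (Additive.toMul (S.u p)) ^ q = 1 := by
    have := congrArg Additive.toMul h
    rwa [toMul_nsmul, toMul_zero] at this
  exact Additive.toMul.injective (hker _ h7)

theorem vanish_of_pair {q r₁ r₂ : ℕ} (k : List ℤ) (hker : ∀ z : S.σ.ker, z ^ q = 1 → z = 1)
    (h₁ : r₁ < C.rels.length) (h₂ : r₂ < C.rels.length)
    (heq : ev S.x (C.rel r₁) = ev S.x (C.rel r₂)) (hT : C.pairTargets q r₁ r₂ k = true) : S.Vanish := by
  letI := S.kerGroup
  intro p hp
  rw [Cert.pairTargets, beq_iff_eq] at hT
  have hmem' : vadd (vsmul (q : ℤ) (vunit C.P p))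
      (vsmul (k.getD p 0) (vadd (C.L.get (C.cvar r₁)) (vsmul (-1) (C.L.get (C.cvar r₂))))) ∈
      C.combos.map Prod.fst := by
    rw [hT]; exact List.mem_map.2 ⟨p, List.mem_range.2 hp, rfl⟩
  obtain ⟨c, hc, e⟩ := List.mem_map.1 hmem'
  have h := S.combo hc
  have hv₁ : C.cvar r₁ < C.V := by simp [Cert.cvar, Cert.V]; omega
  have hv₂ : C.cvar r₂ < C.V := by simp [Cert.cvar, Cert.V]; omega
  have hval : S.aval (C.cvar r₁) = S.aval (C.cvar r₂) := by
    refine congrArg Additive.ofMul (Subtype.ext ?_)
    rw [S.val_coe hv₁, S.val_coe hv₂, valG, valG, if_neg (by simp [Cert.cvar]), if_neg (by simp [Cert.cvar]),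
      Cert.cvar, Cert.cvar, Nat.add_sub_cancel_left, Nat.add_sub_cancel_left, heq]
  rw [e, lin_vadd, lin_vsmul, lin_vsmul, lin_vunit _ hp, lin_vadd, lin_vsmul, ← S.main_lin _ hv₁,
    ← S.main_lin _ hv₂, hval, neg_one_zsmul, add_neg_cancel, smul_zero, add_zero, natCast_zsmul] at h
  have h7 : (Additive.toMul (S.u p)) ^ q = 1 := by
    have := congrArg Additive.toMul h
    rwa [toMul_nsmul, toMul_zero] at this
  exact Additive.toMul.injective (hker _ h7)

theorem val_one (hu : S.Vanish) (hlen : C.lenCheck = true) {v : ℕ} (hv : v < C.V) : (S.val v : Γ) = 1 := by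
  letI := S.kerGroup
  have hl := Nat.le_of_ble_eq_true (List.all_eq_true.1 hlen v (List.mem_range.2 hv))
  have h := S.main_lin v hv
  rw [lin_zero S.u _ 0 fun p hp _ => hu p (by omega)] at h
  rw [show S.val v = 1 from congrArg Additive.toMul h]
  rfl

/-- With vanishing parameters the lifts generate a group of order at most `N` times the labels. -/
theorem card_le [Finite Γ] (hu : S.Vanish) (hlen : C.lenCheck = true) :
    Nat.card (Subgroup.closure (Set.range S.x)) ≤ C.N * Nat.card (Subgroup.closure (Set.range S.y)) := by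
  have hset : (Subgroup.closure (Set.range S.x) : Set Γ) ⊆
      Set.range fun k : Fin C.N × Subgroup.closure (Set.range S.y) => (k.2 : Γ) * S.t k.1 := by
    intro g hg
    obtain ⟨i, hi, z, hz, l, rfl⟩ :=
      S.cover ⊥ (fun v hv => by rw [Subgroup.mem_bot]; exact S.val_one hu hlen hv) hg
    rw [Subgroup.mem_bot.1 hz, one_mul]
    exact ⟨(⟨i, hi⟩, ⟨_, ev_mem S.y l⟩), rfl⟩
  rw [← SetLike.coe_sort_coe, Nat.card_coe_set_eq]
  refine (Set.ncard_le_ncard hset).trans ?_
  rw [← Nat.card_coe_set_eq]
  exact (Finite.card_range_le _).trans (le_of_eq (by rw [Nat.card_prod, Nat.card_fin]))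

/-- The lifts generate a copy of their image. -/
theorem inj_of_vanish [Finite Γ] (hu : S.Vanish) (hlen : C.lenCheck = true) {M : ℕ}
    (hM : Nat.card (Subgroup.closure (Set.range S.y)) ≤ M)
    (hcard : C.N * M ≤ Nat.card ((Subgroup.closure (Set.range S.x)).map S.σ)) :
    ∀ g ∈ Subgroup.closure (Set.range S.x), S.σ g = 1 → g = 1 := by
  have hb : Function.Bijective ((S.σ.comp (Subgroup.closure (Set.range S.x)).subtype).rangeRestrict) := by
    refine MonoidHom.rangeRestrict_surjective _ |>.bijective_of_nat_card_le ?_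
    rw [MonoidHom.range_comp, Subgroup.range_subtype]
    exact (S.card_le hu hlen).trans (le_trans (Nat.mul_le_mul_left _ hM) hcard)
  intro g hg h1
  have : (⟨g, hg⟩ : Subgroup.closure (Set.range S.x)) = 1 := hb.1 (Subtype.ext (by
    show S.σ g = S.σ 1
    rw [h1, map_one]))
  exact congrArg Subtype.val this

end Setup

/-! ### straight-line programs -/

/-- Composition of packed permutations: first `q`, then `p`. -/
def pmulN (deg p q : ℕ) : ℕ :=
  (List.range deg).foldr (fun k m => m * 128 + pget p (pget q k)) 0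

/-- Entries of a composition. -/
def slpPerm (deg : ℕ) : List ℕ → List (ℕ × ℕ) → List ℕ
  | acc, [] => acc
  | acc, e :: es => slpPerm deg (acc ++ [pmulN deg (acc.getD e.1 0) (acc.getD e.2 0)]) es

/-- The elements of a straight-line program. -/
def slpElt {G : Type*} [Group G] : List G → List (ℕ × ℕ) → List G
  | acc, [] => acc
  | acc, e :: es => slpElt (acc ++ [acc.getD e.1 1 * acc.getD e.2 1]) es

theorem foldr_digits (f : ℕ → ℕ) (hf : ∀ k, f k < 128) : ∀ (n s j : ℕ), j < n →
    pget ((List.range' s n).foldr (fun k m => m * 128 + f k) 0) j = f (s + j)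
  | 0, s, j, h => absurd h (Nat.not_lt_zero j)
  | n + 1, s, j, h => by
    rw [List.range'_succ, List.foldr_cons]
    generalize hM : (List.range' (s + 1) n).foldr (fun k m => m * 128 + f k) 0 = M
    cases j with
    | zero =>
      rw [pget, Nat.mul_zero, Nat.shiftRight_zero, Nat.add_zero]
      have := hf s
      omega
    | succ j =>
      have ih := foldr_digits f hf n (s + 1) j (by omega)
      rw [hM, pget] at ih
      rw [pget, show 7 * (j + 1) = 7 + 7 * j by ring, Nat.shiftRight_add,
        show (M * 128 + f s) >>> 7 = M by rw [Nat.shiftRight_eq_div_pow]; have := hf s; omega, ih]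
      congr 1
      ring

theorem pget_pmulN {deg p q j : ℕ} (hj : j < deg) : pget (pmulN deg p q) j = pget p (pget q j) := by
  have h := foldr_digits (fun k => pget p (pget q k)) (fun k => Nat.mod_lt _ (by norm_num)) deg 0 j hj
  rw [Nat.zero_add] at h
  rw [pmulN, List.range_eq_range']
  exact h

theorem slp_mem {G : Type*} [Group G] (K : Subgroup G) : ∀ (es : List (ℕ × ℕ)) (acc : List G),
    (∀ j, acc.getD j 1 ∈ K) → ∀ j, (slpElt acc es).getD j 1 ∈ K
  | [], acc, h, j => h j
  | e :: es, acc, h, j => slp_mem K es _ (fun i => by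
      rcases Nat.lt_trichotomy i acc.length with hi | hi | hi
      · rw [List.getD_append _ _ _ _ hi]; exact h i
      · rw [List.getD_append_right _ _ _ _ hi.ge, hi, Nat.sub_self]; exact mul_mem (h _) (h _)
      · rw [List.getD_eq_default]
        · exact one_mem _
        · simp; omega) j

theorem slp_rep {G : Type*} [Group G] {n : ℕ} (φ : G →* Equiv.Perm (Fin n)) :
    ∀ (es : List (ℕ × ℕ)) (acc : List G) (pacc : List ℕ), acc.length = pacc.length →
      (∀ j < acc.length, Rep φ (acc.getD j 1) (pacc.getD j 0)) →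
      (∀ (i : ℕ) (hi : i < es.length), es[i].1 < acc.length + i ∧ es[i].2 < acc.length + i) →
      ∀ j < acc.length + es.length, Rep φ ((slpElt acc es).getD j 1) ((slpPerm n pacc es).getD j 0)
  | [], acc, pacc, _, h, _, j, hj => h j (by simpa using hj)
  | e :: es, acc, pacc, hl, h, ho, j, hj => by
    have h0 := ho 0 (by simp)
    simp only [List.getElem_cons_zero, Nat.add_zero] at h0
    refine slp_rep φ es _ _ (by simp [hl]) (fun i hi => ?_) (fun i hi => ?_) j ?_
    · simp only [List.length_append, List.length_cons, List.length_nil] at hi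
      rcases Nat.lt_or_ge i acc.length with hi' | hi'
      · rw [List.getD_append _ _ _ _ hi', List.getD_append _ _ _ _ (hl ▸ hi')]
        exact h i hi'
      · rw [List.getD_append_right _ _ _ _ hi', List.getD_append_right _ _ _ _ (hl ▸ hi')]
        rw [show i - acc.length = 0 by omega, show i - pacc.length = 0 by omega]
        intro k
        show (φ (acc.getD e.1 1 * acc.getD e.2 1) k : ℕ) = pget (pmulN n _ _) k
        rw [map_mul, Equiv.Perm.mul_apply, h _ h0.1, h _ h0.2, pget_pmulN k.2]
    · have := ho (i + 1) (by simpa using hi)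
      simp only [List.getElem_cons_succ, List.length_append, List.length_cons, List.length_nil] at this ⊢
      omega
    · simp only [List.length_append, List.length_cons, List.length_nil] at hj ⊢
      omega

/-- Decidable form of the ordering condition. -/
def slpOrdered : ℕ → List (ℕ × ℕ) → Bool
  | _, [] => true
  | l, e :: es => (Nat.blt e.1 l && Nat.blt e.2 l) && slpOrdered (l + 1) es

theorem slpOrdered_spec : ∀ (es : List (ℕ × ℕ)) (l : ℕ), slpOrdered l es = true →
    ∀ (i : ℕ) (hi : i < es.length), es[i].1 < l + i ∧ es[i].2 < l + i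
  | [], _, _, i, hi => absurd hi (Nat.not_lt_zero i)
  | e :: es, l, h, i, hi => by
    simp only [slpOrdered, Bool.and_eq_true, Nat.blt_eq] at h
    cases i with
    | zero => exact h.1
    | succ i =>
      have := slpOrdered_spec es (l + 1) h.2 i (by simpa using hi)
      simp only [List.getElem_cons_succ]
      omega

/-! ### orders -/

/-- A subgroup with `m` distinct images of a point is `m` times as large as the stabiliser in it. -/
theorem card_orbit_mul_le {G : Type*} [Group G] [Finite G] {n : ℕ} (φ : G →* Equiv.Perm (Fin n))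
    (H T : Subgroup G) (b : Fin n) (hT : T ≤ H) (hfix : ∀ g ∈ T, φ g b = b) {m : ℕ} (w : Fin m → G)
    (hw : ∀ i, w i ∈ H) (hinj : Function.Injective fun i => φ (w i) b) :
    m * Nat.card T ≤ Nat.card H := by
  let f : Fin m × T → H := fun p => ⟨w p.1 * (p.2 : G), mul_mem (hw _) (hT p.2.2)⟩
  have hf : Function.Injective f := by
    rintro ⟨i, t⟩ ⟨j, u⟩ e
    have e' : w i * (t : G) = w j * (u : G) := congrArg Subtype.val e
    have hij : i = j := hinj (by
      have := congrArg (fun g => φ g b) e'
      simpa [map_mul, hfix _ t.2, hfix _ u.2] using this)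
    subst hij
    exact Prod.ext rfl (Subtype.ext (mul_left_cancel e'))
  have := Nat.card_le_card_of_injective f hf
  rwa [Nat.card_prod, Nat.card_fin] at this

end Cfsg.Agent.Lie.CentralTable
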