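import Cfsg.Agent.Lib.Lie.CentralCoded
import Cfsg.Agent.Lib.Lie.CentralStage

/-!
Central tables on a coded subgroup with several generators, for kernels of prime exponent: the values of the
edges are spanned by a few parameters, which vanish by relations between lifts of conjugate powers and of
conjugate commuting pairs.
-/

set_option autoImplicit false

namespace Cfsg.Agent.Lie.CentralLocal

open Cfsg.Agent.Lie Cfsg.Agent.Lie.CentralTable
open scoped commutatorElement

/-- A word coded by hexadecimal digits below a leading one. -/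
def dec : ℕ → ℕ → List ℕ
  | 0, _ => []
  | f + 1, w => bif Nat.ble w 1 then [] else dec f (w / 16) ++ [w % 16]

/-- All coefficients are multiples of the exponent. -/
def vzeroMod (q : ℕ) (v : List ℤ) : Bool := v.all fun a => a % (q : ℤ) == 0

/-- A certificate. -/
structure Cert where
  /-- the effect of a generator on codes -/
  act : ℕ → ℕ → ℕ
  one : ℕ
  /-- number of elements -/
  N : ℕ
  /-- number of generators -/
  k : ℕ
  /-- the exponent of the kernel -/
  q : ℕ
  rels : List (List ℕ)
  /-- number of parameters -/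
  P : ℕ
  elt : Janko.Tree ℕ
  next : Janko.Tree ℕ
  word : Janko.Tree ℕ
  par : Janko.Tree ℕ
  L : Janko.Tree (List ℤ)
  kind : Janko.Tree ℕ
  rank : Janko.Tree ℕ
  via : Janko.Tree (ℕ × ℕ)
  pv : List ℕ

namespace Cert

variable (C : Cert)

/-- The index of an edge. -/
def edge (i s : ℕ) : ℕ := C.k * i + s

/-- Number of variables. -/
def V : ℕ := C.k * C.N + C.rels.length

/-- The target of an edge. -/
def step (i s : ℕ) : ℕ := C.next.get (C.edge i s)

/-- The edges along a word. -/
def path : ℕ → List ℕ → List ℕ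
  | _, [] => []
  | i, s :: w => C.edge i s :: path (C.step i s) w

/-- The end of a word. -/
def endp : ℕ → List ℕ → ℕ
  | i, [] => i
  | i, s :: w => endp (C.step i s) w

/-- The relator. -/
def rel (r : ℕ) : List ℕ := C.rels.getD r []

/-- The variable of a relator. -/
def cvar (r : ℕ) : ℕ := C.k * C.N + r

/-- The word of an element. -/
def wd (i : ℕ) : List ℕ := dec 200 (C.word.get i)

/-- The substituted value of a path. -/
def pathL (i : ℕ) (w : List ℕ) : List ℤ := (C.path i w).foldr (fun v a => vadd (C.L.get v) a) []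

/-- The equation of a relator at an element, with substituted values. -/
def rowL (q : ℕ × ℕ) : List ℤ := vadd (vsmul (-1) (C.L.get (C.cvar q.1))) (C.pathL q.2 (C.rel q.1))

/-- Validity of a row. -/
def rowOK (q : ℕ × ℕ) : Bool :=
  Nat.blt q.1 C.rels.length && (Nat.blt q.2 C.N && Nat.beq (C.endp q.2 (C.rel q.1)) q.2)

/-- Edges. -/
def edgeCheck (i : ℕ) : Bool :=
  (List.range C.k).all fun s => Nat.blt (C.step i s) C.N &&
    Nat.beq (C.act s (C.elt.get i)) (C.elt.get (C.step i s))

/-- The spanning tree and the elements. -/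
def treeCheck (i : ℕ) : Bool :=
  bif Nat.beq i 0 then (C.wd 0).isEmpty && Nat.beq (C.elt.get 0) C.one else
    (Nat.blt (C.par.get i / 16) i && (Nat.blt (C.par.get i % 16) C.k &&
      (C.wd i == C.wd (C.par.get i / 16) ++ [C.par.get i % 16] &&
        Nat.beq (C.step (C.par.get i / 16) (C.par.get i % 16)) i)))

/-- The elements are listed in increasing order by the array. -/
def ordCheck (ord : Janko.Tree ℕ) (k : ℕ) : Bool :=
  Nat.blt (ord.get k) C.N && (Nat.ble C.N (k + 1) || Nat.blt (C.elt.get (ord.get k)) (C.elt.get (ord.get (k + 1))))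

/-- A word in the generators. -/
def letters (w : List ℕ) : Bool := w.all fun s => Nat.blt s C.k

/-- The relators hold. -/
def relCheck (w : List ℕ) : Bool := C.letters w && Nat.beq (C.endp 0 w) 0

/-- One variable. -/
def varCheck (v : ℕ) : Bool :=
  Nat.ble (C.L.get v).length C.P &&
  match C.kind.get v with
  | 0 => Nat.blt v (C.k * C.N) && (C.wd (C.next.get v) == C.wd (v / C.k) ++ [v % C.k] && vzero (C.L.get v))
  | 2 => Nat.blt (C.via.get v).1 C.P && (Nat.beq (C.pv.getD (C.via.get v).1 0) v &&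
      C.L.get v == vunit C.P (C.via.get v).1)
  | _ => C.rowOK (C.via.get v) && (vzeroMod C.q (C.rowL (C.via.get v)) &&
      ((Nat.beq v (C.cvar (C.via.get v).1) &&
          (C.path (C.via.get v).2 (C.rel (C.via.get v).1)).all fun e => Nat.blt (C.rank.get e) (C.rank.get v)) ||
        (Nat.blt (C.rank.get (C.cvar (C.via.get v).1)) (C.rank.get v) &&
          (Nat.beq ((C.path (C.via.get v).2 (C.rel (C.via.get v).1)).count v) 1 &&
            (C.path (C.via.get v).2 (C.rel (C.via.get v).1)).all fun e => Nat.beq e v || Nat.blt (C.rank.get e) (C.rank.get v)))))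

/-- An additional relation: two quotients of pairs of words with equal values. -/
def extOK (e : List ℕ × List ℕ × List ℕ × List ℕ) : Bool :=
  (C.letters e.1 && C.letters e.2.1) && ((C.letters e.2.2.1 && C.letters e.2.2.2) &&
    (Nat.beq (C.endp 0 e.1) (C.endp 0 e.2.1) && Nat.beq (C.endp 0 e.2.2.1) (C.endp 0 e.2.2.2)))

/-- The substituted equation of an additional relation. -/
def extL (e : List ℕ × List ℕ × List ℕ × List ℕ) : List ℤ :=
  vadd (vadd (C.pathL 0 e.1) (vsmul (-1) (C.pathL 0 e.2.1)))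
    (vsmul (-1) (vadd (C.pathL 0 e.2.2.1) (vsmul (-1) (C.pathL 0 e.2.2.2))))

/-- A combination which isolates one parameter. -/
def killCheck (es : List (List ℕ × List ℕ × List ℕ × List ℕ))
    (c : List (ℤ × ℕ) × List (ℤ × (ℕ × ℕ))) (p : ℕ) : Bool :=
  c.1.all (fun t => Nat.blt t.2 es.length) && (c.2.all (fun t => C.rowOK t.2) &&
    vzeroMod C.q (vadd (vsmul (-1) (vunit C.P p))
      (vadd (c.1.foldr (fun t a => vadd (vsmul t.1 (C.extL (es.getD t.2 ([], [], [], [])))) a) [])
        (c.2.foldr (fun t a => vadd (vsmul t.1 (C.rowL t.2)) a) []))))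

/-- The hypotheses delivered by the computation. -/
structure Valid : Prop where
  npos : 0 < C.N
  kpos : 0 < C.k
  edges : ∀ i < C.N, C.edgeCheck i = true
  tree : ∀ i < C.N, C.treeCheck i = true
  rels : ∀ w ∈ C.rels, C.relCheck w = true
  vars : ∀ v < C.V, C.varCheck v = true

end Cert

/-- Evaluation of a word. -/
def ev {M : Type*} [Monoid M] (g : ℕ → M) (w : List ℕ) : M := (w.map g).prod

theorem ev_cons {M : Type*} [Monoid M] (g : ℕ → M) (s : ℕ) (w : List ℕ) : ev g (s :: w) = g s * ev g w := by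
  simp [ev]

theorem ev_append {M : Type*} [Monoid M] (g : ℕ → M) (v w : List ℕ) : ev g (v ++ w) = ev g v * ev g w := by
  simp [ev]

theorem ev_replicate {M : Type*} [Monoid M] (g : ℕ → M) (w : List ℕ) (n : ℕ) :
    ev g (List.replicate n w).flatten = ev g w ^ n := by
  induction n with
  | zero => simp [ev]
  | succ n ih => rw [List.replicate_succ, List.flatten_cons, ev_append, ih, pow_succ']

theorem map_ev {Γ G : Type*} [Group Γ] [Group G] (σ : Γ →* G) (g : ℕ → Γ) (w : List ℕ) :
    σ (ev g w) = ev (fun s => σ (g s)) w := by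
  rw [ev, ev, map_list_prod, List.map_map]
  rfl

theorem lin_vzeroMod {A : Type*} [AddCommGroup A] (u : ℕ → A) {q : ℕ} (hA : ∀ a : A, q • a = 0) :
    ∀ (v : List ℤ) (k : ℕ), vzeroMod q v = true → lin u v k = 0
  | [], _, _ => rfl
  | a :: v, k, h => by
    simp only [vzeroMod, List.all_cons, Bool.and_eq_true, beq_iff_eq] at h
    rw [lin, lin_vzeroMod u hA v (k + 1) h.2, add_zero]
    obtain ⟨b, rfl⟩ := Int.dvd_of_emod_eq_zero h.1
    rw [mul_comm, mul_smul, natCast_zsmul, hA, smul_zero]

/-- The data to which a certificate is applied. -/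
structure Setup (C : Cert) (Γ G : Type*) [Group Γ] [Group G] where
  /-- the extension -/
  σ : Γ →* G
  central : σ.ker ≤ Subgroup.center Γ
  exponent : ∀ z : σ.ker, z ^ C.q = 1
  /-- the code -/
  code : G → ℕ
  /-- lifts of the generators -/
  x : ℕ → Γ
  code_step : ∀ g, ∀ s < C.k, code (g * σ (x s)) = C.act s (code g)
  code_one : code 1 = C.one
  code_inj : ∀ a b, code a = code b → a = b
  valid : C.Valid

namespace Setup

variable {C : Cert} {Γ G : Type*} [Group Γ] [Group G] (S : Setup C Γ G)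
include S

/-- The lift of an element. -/
def t (i : ℕ) : Γ := ev S.x (C.wd i)

theorem step_lt {i s : ℕ} (hi : i < C.N) (hs : s < C.k) : C.step i s < C.N := by
  have h := List.all_eq_true.1 (S.valid.edges i hi) s (List.mem_range.2 hs)
  simp only [Bool.and_eq_true, Nat.blt_eq] at h
  exact h.1

theorem edge_code {i s : ℕ} (hi : i < C.N) (hs : s < C.k) :
    C.act s (C.elt.get i) = C.elt.get (C.step i s) := by
  have h := List.all_eq_true.1 (S.valid.edges i hi) s (List.mem_range.2 hs)
  simp only [Bool.and_eq_true, Nat.beq_eq] at h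
  exact h.2

theorem base : S.t 0 = 1 ∧ C.elt.get 0 = C.one := by
  have h := S.valid.tree 0 S.valid.npos
  simp only [Cert.treeCheck, show Nat.beq 0 0 = true from rfl, cond_true, Bool.and_eq_true, List.isEmpty_iff,
    Nat.beq_eq] at h
  exact ⟨by simp [t, h.1, ev], h.2⟩

theorem tree_spec {i : ℕ} (hi : i < C.N) (h0 : 0 < i) : C.par.get i / 16 < i ∧ C.par.get i % 16 < C.k ∧
    S.t i = S.t (C.par.get i / 16) * S.x (C.par.get i % 16) ∧ C.step (C.par.get i / 16) (C.par.get i % 16) = i := by
  have h := S.valid.tree i hi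
  rw [Cert.treeCheck, show Nat.beq i 0 = false by rw [← Bool.not_eq_true, Nat.beq_eq]; omega] at h
  simp only [cond_false, Bool.and_eq_true, Nat.blt_eq, beq_iff_eq, Nat.beq_eq] at h
  refine ⟨h.1, h.2.1, ?_, h.2.2.2⟩
  rw [t, h.2.2.1, ev_append, show ev S.x [C.par.get i % 16] = S.x (C.par.get i % 16) by simp [ev]]
  rfl

theorem code_t : ∀ i < C.N, S.code (S.σ (S.t i)) = C.elt.get i := by
  intro i
  induction i using Nat.strong_induction_on with
  | _ i ih =>
    intro hi
    rcases Nat.eq_zero_or_pos i with rfl | h0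
    · rw [S.base.1, map_one, S.code_one, S.base.2]
    obtain ⟨hlt, hs, ht, he⟩ := S.tree_spec hi h0
    rw [ht, map_mul, S.code_step _ _ hs, ih _ hlt (hlt.trans hi), S.edge_code (hlt.trans hi) hs, he]

theorem step_image {i s : ℕ} (hi : i < C.N) (hs : s < C.k) :
    S.σ (S.t i * S.x s) = S.σ (S.t (C.step i s)) := by
  refine S.code_inj _ _ ?_
  rw [map_mul, S.code_step _ _ hs, S.code_t i hi, S.edge_code hi hs, S.code_t _ (S.step_lt hi hs)]

theorem code_walk : ∀ (w : List ℕ) {i : ℕ}, i < C.N → C.letters w = true →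
    C.endp i w < C.N ∧ S.σ (S.t i * ev S.x w) = S.σ (S.t (C.endp i w))
  | [], i, hi, _ => by simp [ev, Cert.endp, hi]
  | s :: w, i, hi, hw => by
    simp only [Cert.letters, List.all_cons, Bool.and_eq_true, Nat.blt_eq] at hw
    obtain ⟨h1, h2⟩ := code_walk w (S.step_lt hi hw.1) hw.2
    refine ⟨h1, ?_⟩
    rw [Cert.endp, ← h2, ev_cons, ← mul_assoc, map_mul _ (S.t i * S.x s), S.step_image hi hw.1, ← map_mul]

theorem image_word {w : List ℕ} (hw : C.letters w = true) :
    S.σ (ev S.x w) = S.σ (S.t (C.endp 0 w)) := by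
  have h := (S.code_walk w S.valid.npos hw).2
  rwa [S.base.1, one_mul] at h

theorem rel_spec {w : List ℕ} (hw : w ∈ C.rels) : C.letters w = true ∧ S.σ (ev S.x w) = 1 := by
  have he := S.valid.rels w hw
  simp only [Cert.relCheck, Bool.and_eq_true, Nat.beq_eq] at he
  exact ⟨he.1, by rw [S.image_word he.1, he.2, S.base.1, map_one]⟩

/-- The kernel as an additive commutative group. -/
@[reducible] def kerGroup : CommGroup S.σ.ker :=
  { (inferInstance : Group S.σ.ker) with
    mul_comm := fun a b => Subtype.ext (Subgroup.mem_center_iff.1 (S.central b.2) a) }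

theorem exp_add : letI := S.kerGroup; ∀ a : Additive S.σ.ker, C.q • a = 0 := by
  letI := S.kerGroup
  intro a
  exact congrArg Additive.ofMul (S.exponent a.toMul)

/-- The value of a variable, as an element of the extension. -/
def valG (v : ℕ) : Γ :=
  if v < C.k * C.N then S.t (v / C.k) * S.x (v % C.k) * (S.t (C.next.get v))⁻¹
  else ev S.x (C.rel (v - C.k * C.N))

theorem edge_lt' {i s : ℕ} (hi : i < C.N) (hs : s < C.k) : C.edge i s < C.k * C.N := by
  unfold Cert.edge
  have := Nat.mul_le_mul_left C.k (show i + 1 ≤ C.N from hi)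
  rw [Nat.mul_succ] at this
  omega

theorem valG_edge {i s : ℕ} (hi : i < C.N) (hs : s < C.k) :
    S.valG (C.edge i s) = S.t i * S.x s * (S.t (C.step i s))⁻¹ := by
  rw [valG, if_pos (S.edge_lt' hi hs), Cert.edge, Nat.mul_add_div S.valid.kpos, Nat.div_eq_of_lt hs, add_zero,
    Nat.mul_add_mod, Nat.mod_eq_of_lt hs]
  rfl

theorem valG_mem {v : ℕ} (hv : v < C.V) : S.valG v ∈ S.σ.ker := by
  rw [MonoidHom.mem_ker]
  by_cases h : v < C.k * C.N
  · have hi : v / C.k < C.N := Nat.div_lt_of_lt_mul h
    have hs : v % C.k < C.k := Nat.mod_lt _ S.valid.kpos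
    have e : v = C.edge (v / C.k) (v % C.k) := (Nat.div_add_mod v C.k).symm
    rw [e, S.valG_edge hi hs, map_mul, map_inv, mul_inv_eq_one]
    exact S.step_image hi hs
  · rw [valG, if_neg h]
    have : v - C.k * C.N < C.rels.length := by simp only [Cert.V] at hv; omega
    exact (S.rel_spec (by rw [Cert.rel, List.getD_eq_getElem _ _ this]; exact List.getElem_mem _)).2

/-- The value of a variable. -/
def val (v : ℕ) : S.σ.ker := if h : v < C.V then ⟨S.valG v, S.valG_mem h⟩ else 1

theorem val_coe {v : ℕ} (hv : v < C.V) : (S.val v : Γ) = S.valG v := by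
  rw [val, dif_pos hv]

theorem edge_lt {i s : ℕ} (hi : i < C.N) (hs : s < C.k) : C.edge i s < C.V :=
  lt_of_lt_of_le (S.edge_lt' hi hs) (Nat.le_add_right _ _)

theorem edge_eq {i s : ℕ} (hi : i < C.N) (hs : s < C.k) :
    S.t i * S.x s = (S.val (C.edge i s) : Γ) * S.t (C.step i s) := by
  rw [S.val_coe (S.edge_lt hi hs), S.valG_edge hi hs]
  group

theorem path_lt : ∀ (w : List ℕ) {i : ℕ}, i < C.N → C.letters w = true → ∀ e ∈ C.path i w, e < C.V
  | [], i, _, _, e, he => by simp [Cert.path] at he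
  | s :: w, i, hi, hw, e, he => by
    simp only [Cert.letters, List.all_cons, Bool.and_eq_true, Nat.blt_eq] at hw
    rcases List.mem_cons.1 he with rfl | he
    · exact S.edge_lt hi hw.1
    · exact path_lt w (S.step_lt hi hw.1) hw.2 e he

theorem walk : ∀ (w : List ℕ) {i : ℕ}, i < C.N → C.letters w = true →
    S.t i * ev S.x w = (((C.path i w).map S.val).prod : S.σ.ker) * S.t (C.endp i w)
  | [], i, _, _ => by simp [ev, Cert.path, Cert.endp]
  | s :: w, i, hi, hw => by
    simp only [Cert.letters, List.all_cons, Bool.and_eq_true, Nat.blt_eq] at hw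
    simp only [Cert.path, Cert.endp, List.map_cons, List.prod_cons, Subgroup.coe_mul, ev_cons]
    rw [← mul_assoc, S.edge_eq hi hw.1, mul_assoc _ (S.t (C.step i s)), walk w (S.step_lt hi hw.1) hw.2, mul_assoc]

theorem rel_at {r : ℕ} (hr : r < C.rels.length) : C.rel r ∈ C.rels := by
  rw [Cert.rel, List.getD_eq_getElem _ _ hr]; exact List.getElem_mem _

theorem row_eq {q : ℕ × ℕ} (hq : C.rowOK q = true) :
    ((C.path q.2 (C.rel q.1)).map S.val).prod = S.val (C.cvar q.1) := by
  simp only [Cert.rowOK, Bool.and_eq_true, Nat.blt_eq, Nat.beq_eq] at hq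
  obtain ⟨hr, hi, he⟩ := hq
  obtain ⟨hlet, himg⟩ := S.rel_spec (S.rel_at hr)
  have hl := S.walk (C.rel q.1) hi hlet
  rw [he] at hl
  have hc : ev S.x (C.rel q.1) ∈ Subgroup.center Γ := S.central himg
  rw [Subgroup.mem_center_iff.1 hc, mul_left_inj] at hl
  refine Subtype.ext (hl.symm.trans ?_)
  rw [S.val_coe (by simp only [Cert.V, Cert.cvar]; omega), valG, if_neg (by simp [Cert.cvar]), Cert.cvar,
    Nat.add_sub_cancel_left]

/-- The additive value of a variable. -/
def aval (v : ℕ) : Additive S.σ.ker := Additive.ofMul (S.val v)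

/-- The parameters. -/
def u (p : ℕ) : Additive S.σ.ker := S.aval (C.pv.getD p 0)

theorem sum_lin (l : List ℕ) :
    letI := S.kerGroup
    lin S.u (l.foldr (fun v a => vadd (C.L.get v) a) []) 0 = (l.map fun e => lin S.u (C.L.get e) 0).sum := by
  letI := S.kerGroup
  induction l with
  | nil => rfl
  | cons a l ih => rw [List.foldr_cons, lin_vadd, ih, List.map_cons, List.sum_cons]

theorem main_lin : letI := S.kerGroup; ∀ v < C.V, S.aval v = lin S.u (C.L.get v) 0 := by
  letI := S.kerGroup
  intro v hv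
  induction hr : C.rank.get v using Nat.strong_induction_on generalizing v with
  | _ r ih =>
    subst hr
    have h := S.valid.vars v hv
    unfold Cert.varCheck at h
    rw [Bool.and_eq_true] at h
    have h := h.2
    split at h
    · simp only [Bool.and_eq_true, Nat.blt_eq, beq_iff_eq] at h
      rw [lin_vzero _ _ _ h.2.2, aval, show S.val v = 1 from Subtype.ext (by
        rw [S.val_coe hv, valG, if_pos h.1, t, t, h.2.1, ev_append,
          show ev S.x [v % C.k] = S.x (v % C.k) by simp [ev], mul_inv_cancel]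
        rfl)]
      rfl
    · simp only [Bool.and_eq_true, Nat.blt_eq, Nat.beq_eq, beq_iff_eq] at h
      rw [h.2.2, lin_vunit _ h.1, u, h.2.1]
    · simp only [Bool.and_eq_true, Bool.or_eq_true, Nat.blt_eq, Nat.beq_eq, List.all_eq_true] at h
      obtain ⟨hok, hz, hcase⟩ := h
      have hrow : ((C.path (C.via.get v).2 (C.rel (C.via.get v).1)).map S.aval).sum =
          S.aval (C.cvar (C.via.get v).1) := by
        rw [show S.aval = Additive.ofMul ∘ S.val from rfl, ← List.map_map, ← ofMul_list_prod, S.row_eq hok]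
        rfl
      have h0 := lin_vzeroMod S.u S.exp_add _ 0 hz
      rw [Cert.rowL, lin_vadd, lin_vsmul, Cert.pathL, S.sum_lin, neg_one_zsmul, neg_add_eq_zero] at h0
      have hok' := hok
      simp only [Cert.rowOK, Bool.and_eq_true, Nat.blt_eq] at hok'
      have hlt := S.path_lt (C.rel (C.via.get v).1) hok'.2.1 (S.rel_spec (S.rel_at hok'.1)).1
      have hcv : C.cvar (C.via.get v).1 < C.V := by
        have := hok'.1
        simp only [Cert.cvar, Cert.V]; omega
      generalize hd : (fun e => S.aval e - lin S.u (C.L.get e) 0) = D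
      have hsum : ((C.path (C.via.get v).2 (C.rel (C.via.get v).1)).map D).sum = D (C.cvar (C.via.get v).1) := by
        subst hd
        have : ∀ l : List ℕ, (l.map fun e => S.aval e - lin S.u (C.L.get e) 0).sum =
            (l.map S.aval).sum - (l.map fun e => lin S.u (C.L.get e) 0).sum := fun l => by
          induction l with
          | nil => simp
          | cons a l ihl => simp only [List.map_cons, List.sum_cons, ihl]; abel
        simp only [this, hrow, h0]
      suffices D v = 0 by
        subst hd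
        exact sub_eq_zero.1 this
      have hD : ∀ e < C.V, C.rank.get e < C.rank.get v → D e = 0 := fun e he hlt' => by
        subst hd
        exact sub_eq_zero.2 (ih _ hlt' e he rfl)
      rcases hcase with ⟨hvc, hall⟩ | ⟨hc, hcount, hall⟩
      · rw [hvc, ← hsum]
        refine List.sum_eq_zero fun x hx => ?_
        obtain ⟨e, he, rfl⟩ := List.mem_map.1 hx
        exact hD e (hlt e he) (hall e he)
      · rw [hD _ hcv hc, List.sum_map_eq_nsmul_single v D, hcount, one_smul] at hsum
        · exact hsum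
        · intro e hne he
          exact hD e (hlt e he) ((hall e he).resolve_left hne)

theorem lin_path {i : ℕ} {w : List ℕ} (hi : i < C.N) (hw : C.letters w = true) :
    letI := S.kerGroup
    lin S.u (C.pathL i w) 0 = Additive.ofMul ((C.path i w).map S.val).prod := by
  letI := S.kerGroup
  rw [Cert.pathL, S.sum_lin, ofMul_list_prod, List.map_map]
  exact congrArg List.sum (List.map_congr_left fun e he => (S.main_lin e (S.path_lt w hi hw e he)).symm)

/-- An additional relation holds. -/
def ExtHolds (e : List ℕ × List ℕ × List ℕ × List ℕ) : Prop :=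
  C.extOK e = true ∧ ev S.x e.1 * (ev S.x e.2.1)⁻¹ = ev S.x e.2.2.1 * (ev S.x e.2.2.2)⁻¹

theorem ext_lin {e : List ℕ × List ℕ × List ℕ × List ℕ} (he : S.ExtHolds e) :
    letI := S.kerGroup; lin S.u (C.extL e) 0 = 0 := by
  letI := S.kerGroup
  obtain ⟨hok, heq⟩ := he
  simp only [Cert.extOK, Bool.and_eq_true, Nat.beq_eq] at hok
  obtain ⟨⟨h1, h2⟩, ⟨h3, h4⟩, e1, e2⟩ := hok
  have hv : ∀ a b : List ℕ, C.letters a = true → C.letters b = true → C.endp 0 a = C.endp 0 b →
      ev S.x a * (ev S.x b)⁻¹ = ((((C.path 0 a).map S.val).prod * (((C.path 0 b).map S.val).prod)⁻¹ : S.σ.ker) : Γ) := by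
    intro a b ha hb hab
    have p := S.walk a S.valid.npos ha
    have r := S.walk b S.valid.npos hb
    rw [S.base.1, one_mul] at p r
    rw [p, r, hab, Subgroup.coe_mul, Subgroup.coe_inv]
    group
  rw [hv _ _ h1 h2 e1, hv _ _ h3 h4 e2] at heq
  have heq := congrArg Additive.ofMul (Subtype.ext heq)
  rw [ofMul_mul, ofMul_mul, ofMul_inv, ofMul_inv] at heq
  rw [Cert.extL]
  simp only [lin_vadd, lin_vsmul, neg_one_zsmul, S.lin_path S.valid.npos h1, S.lin_path S.valid.npos h2,
    S.lin_path S.valid.npos h3, S.lin_path S.valid.npos h4]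
  rw [heq, add_neg_cancel]

theorem row_lin {q : ℕ × ℕ} (hq : C.rowOK q = true) : letI := S.kerGroup; lin S.u (C.rowL q) 0 = 0 := by
  letI := S.kerGroup
  have hrow := congrArg Additive.ofMul (S.row_eq hq)
  simp only [Cert.rowOK, Bool.and_eq_true, Nat.blt_eq] at hq
  have hcv : C.cvar q.1 < C.V := by
    have := hq.1
    simp only [Cert.cvar, Cert.V]; omega
  rw [Cert.rowL, lin_vadd, lin_vsmul, neg_one_zsmul, S.lin_path hq.2.1 (S.rel_spec (S.rel_at hq.1)).1, hrow,
    ← S.main_lin _ hcv]
  exact neg_add_cancel _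

/-- The checked combinations make all parameters vanish. -/
theorem vanish {es : List (List ℕ × List ℕ × List ℕ × List ℕ)} (hes : ∀ e ∈ es, S.ExtHolds e)
    {cs : List (List (ℤ × ℕ) × List (ℤ × (ℕ × ℕ)))}
    (h : ((List.range C.P).all fun p => C.killCheck es (cs.getD p ([], [])) p) = true) :
    ∀ p < C.P, S.u p = Additive.ofMul 1 := by
  letI := S.kerGroup
  intro p hp
  have h := List.all_eq_true.1 h p (List.mem_range.2 hp)
  simp only [Cert.killCheck, Bool.and_eq_true, List.all_eq_true, Nat.blt_eq] at h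
  obtain ⟨he, hr, hz⟩ := h
  have h0 := lin_vzeroMod S.u S.exp_add _ 0 hz
  have z1 : ∀ l : List (ℤ × ℕ), (∀ t ∈ l, t.2 < es.length) →
      lin S.u (l.foldr (fun t a => vadd (vsmul t.1 (C.extL (es.getD t.2 ([], [], [], [])))) a) []) 0 = 0 := by
    intro l hl
    induction l with
    | nil => rfl
    | cons t l ih =>
      rw [List.foldr_cons, lin_vadd, ih fun y hy => hl y (List.mem_cons_of_mem _ hy), add_zero, lin_vsmul,
        S.ext_lin (hes _ (by rw [List.getD_eq_getElem _ _ (hl t List.mem_cons_self)]; exact List.getElem_mem _)),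
        smul_zero]
  have z2 : ∀ l : List (ℤ × (ℕ × ℕ)), (∀ t ∈ l, C.rowOK t.2 = true) →
      lin S.u (l.foldr (fun t a => vadd (vsmul t.1 (C.rowL t.2)) a) []) 0 = 0 := by
    intro l hl
    induction l with
    | nil => rfl
    | cons t l ih =>
      rw [List.foldr_cons, lin_vadd, ih fun y hy => hl y (List.mem_cons_of_mem _ hy), add_zero, lin_vsmul,
        S.row_lin (hl t List.mem_cons_self), smul_zero]
  rw [lin_vadd, lin_vadd, z1 _ he, z2 _ hr, add_zero, add_zero, lin_vsmul, lin_vunit _ hp, neg_one_zsmul,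
    neg_eq_zero] at h0
  exact h0

/-- With vanishing parameters the lifts meet the kernel trivially. -/
theorem ker_meet [Finite Γ] {ord : Janko.Tree ℕ} (hord : ∀ k < C.N, C.ordCheck ord k = true)
    (hu : ∀ p < C.P, S.u p = Additive.ofMul 1) :
    (∀ g ∈ Subgroup.closure (S.x '' {s | s < C.k}), S.σ g = 1 → g = 1) ∧
    Nat.card (Subgroup.closure ((fun s => S.σ (S.x s)) '' {s | s < C.k})) = C.N := by
  letI := S.kerGroup
  have hval : ∀ v < C.V, (S.val v : Γ) = 1 := fun v hv => by
    have hlen := S.valid.vars v hv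
    rw [Cert.varCheck, Bool.and_eq_true] at hlen
    have hl : lin S.u (C.L.get v) 0 = 0 := lin_zero S.u _ 0
      fun p hp _ => hu p (lt_of_lt_of_le (by simpa using hp) (Nat.le_of_ble_eq_true hlen.1))
    rw [← S.main_lin v hv] at hl
    rw [show S.val v = 1 from congrArg Additive.toMul hl]
    rfl
  have hcov : ∀ g ∈ Subgroup.closure (S.x '' {s | s < C.k}), ∃ i < C.N, g = S.t i := by
    intro g hg
    have hg' : g ∈ Submonoid.closure (S.x '' {s | s < C.k}) := by
      have : g ∈ (Subgroup.closure (S.x '' {s | s < C.k})).toSubmonoid := hg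
      rwa [Subgroup.closure_toSubmonoid_of_finite] at this
    clear hg
    induction hg' using Submonoid.closure_induction_right with
    | one => exact ⟨0, S.valid.npos, S.base.1.symm⟩
    | mul_right g hg y hy ih =>
      obtain ⟨s, hs, rfl⟩ := hy
      obtain ⟨i, hi, rfl⟩ := ih
      exact ⟨C.step i s, S.step_lt hi hs, by rw [S.edge_eq hi hs, hval _ (S.edge_lt hi hs), one_mul]⟩
  have hlt : ∀ k < C.N, ord.get k < C.N := fun k hk => by
    have h := hord k hk
    rw [Cert.ordCheck, Bool.and_eq_true, Nat.blt_eq] at h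
    exact h.1
  have hmono : ∀ b a, a < b → b < C.N → C.elt.get (ord.get a) < C.elt.get (ord.get b) := by
    intro b
    induction b with
    | zero => intro a ha; omega
    | succ b ih =>
      intro a ha hb
      have h := hord b (by omega)
      simp only [Cert.ordCheck, Bool.and_eq_true, Bool.or_eq_true, Nat.blt_eq, Nat.ble_eq] at h
      have h2 := h.2.resolve_left (by omega)
      rcases Nat.lt_succ_iff_lt_or_eq.mp ha with h' | h'
      · exact (ih a h' (by omega)).trans h2
      · exact h' ▸ h2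
  have hinj : Function.Injective (fun k : Fin C.N => C.elt.get (ord.get k)) := fun a b h => by
    rcases lt_trichotomy (a : ℕ) b with h' | h' | h'
    · exact absurd h (hmono _ _ h' b.2).ne
    · exact Fin.ext h'
    · exact absurd h.symm (hmono _ _ h' a.2).ne
  have hsurj : ∀ i < C.N, ∃ k : Fin C.N, ord.get k = i := by
    have hb : Function.Bijective (fun k : Fin C.N => (⟨ord.get k, hlt k k.2⟩ : Fin C.N)) :=
      Finite.injective_iff_bijective.1 fun a b h => hinj (congrArg (fun j : Fin C.N => C.elt.get j) h)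
    intro i hi
    obtain ⟨k, hk⟩ := hb.2 ⟨i, hi⟩
    exact ⟨k, congrArg Fin.val hk⟩
  have helt : ∀ i < C.N, ∀ j < C.N, C.elt.get i = C.elt.get j → i = j := by
    intro i hi j hj h
    obtain ⟨a, rfl⟩ := hsurj i hi
    obtain ⟨b, rfl⟩ := hsurj j hj
    rw [hinj (a₁ := a) (a₂ := b) h]
  refine ⟨fun g hg h1 => ?_, ?_⟩
  · obtain ⟨i, hi, rfl⟩ := hcov g hg
    have hc := S.code_t i hi
    rw [h1, S.code_one, ← S.base.2] at hc
    rw [← helt 0 S.valid.npos i hi hc, S.base.1]
  · have hin : ∀ i < C.N, S.t i ∈ Subgroup.closure (S.x '' {s | s < C.k}) := by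
      intro i
      induction i using Nat.strong_induction_on with
      | _ i ih =>
        intro hi
        rcases Nat.eq_zero_or_pos i with rfl | h0
        · rw [S.base.1]; exact one_mem _
        obtain ⟨hp, hs, ht, -⟩ := S.tree_spec hi h0
        rw [ht]
        exact mul_mem (ih _ hp (hp.trans hi)) (Subgroup.subset_closure ⟨_, hs, rfl⟩)
    have himg : Subgroup.closure ((fun s => S.σ (S.x s)) '' {s | s < C.k}) =
        (Subgroup.closure (S.x '' {s | s < C.k})).map S.σ := by
      rw [MonoidHom.map_closure, Set.image_image]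
    rw [himg]
    refine (Nat.card_congr (Equiv.ofBijective
      (fun i : Fin C.N => (⟨S.σ (S.t i), _, hin i i.2, rfl⟩ :
        (Subgroup.closure (S.x '' {s | s < C.k})).map S.σ)) ⟨fun a b h => ?_, ?_⟩)).symm.trans (Nat.card_fin _)
    · have h := congrArg S.code (congrArg Subtype.val h)
      rw [S.code_t _ a.2, S.code_t _ b.2] at h
      exact Fin.ext (helt _ a.2 _ b.2 h)
    · rintro ⟨y, g, hg, rfl⟩
      obtain ⟨i, hi, rfl⟩ := hcov g hg
      exact ⟨⟨i, hi⟩, rfl⟩

/-- Lifts of conjugate elements with exponent killed have equal powers. -/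
theorem ext_pow {a c : List ℕ} {n : ℕ} (hn : C.q ∣ n)
    (hok : C.extOK ((List.replicate n a).flatten, [], (List.replicate n c).flatten, []) = true)
    (g : G) (hg : ∃ γ, S.σ γ = g) (h : g * S.σ (ev S.x a) = S.σ (ev S.x c) * g) :
    S.ExtHolds ((List.replicate n a).flatten, [], (List.replicate n c).flatten, []) := by
  refine ⟨hok, ?_⟩
  simp only [Cert.extOK, Bool.and_eq_true, Nat.beq_eq] at hok
  have hker : ev S.x a ^ n ∈ S.σ.ker := by
    rw [MonoidHom.mem_ker, ← ev_replicate, S.image_word hok.1.1, hok.2.2.1]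
    simp [Cert.endp, S.base.1]
  show ev S.x (List.replicate n a).flatten * (ev S.x [])⁻¹ = ev S.x (List.replicate n c).flatten * (ev S.x [])⁻¹
  rw [ev_replicate, ev_replicate]
  obtain ⟨γ, rfl⟩ := hg
  obtain ⟨z, hz⟩ : ∃ z : S.σ.ker, γ * ev S.x a * γ⁻¹ = ev S.x c * z :=
    ⟨⟨(ev S.x c)⁻¹ * (γ * ev S.x a * γ⁻¹), by
      rw [MonoidHom.mem_ker, map_mul, map_mul, map_mul, map_inv, map_inv, h]
      group⟩, (mul_inv_cancel_left _ _).symm⟩
  have hzn : (z : Γ) ^ n = 1 := by
    obtain ⟨m, rfl⟩ := hn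
    rw [pow_mul, show (z : Γ) ^ C.q = 1 from congrArg Subtype.val (S.exponent z), one_pow]
  have e := congrArg (· ^ n) hz
  simp only [conj_pow, (show Commute (ev S.x c) (z : Γ) from Subgroup.mem_center_iff.1 (S.central z.2) _).mul_pow,
    hzn, mul_one] at e
  rw [← e, Subgroup.mem_center_iff.1 (S.central hker) γ, mul_inv_cancel_right]

/-- Lifts of conjugate commuting pairs have equal commutators. -/
theorem ext_comm {a b c d : List ℕ} (hok : C.extOK (a ++ b, b ++ a, c ++ d, d ++ c) = true)
    (g : G) (hg : ∃ γ, S.σ γ = g) (h1 : g * S.σ (ev S.x a) = S.σ (ev S.x c) * g)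
    (h2 : g * S.σ (ev S.x b) = S.σ (ev S.x d) * g) :
    S.ExtHolds (a ++ b, b ++ a, c ++ d, d ++ c) := by
  refine ⟨hok, ?_⟩
  simp only [Cert.extOK, Bool.and_eq_true, Nat.beq_eq] at hok
  have hker : ev S.x (a ++ b) * (ev S.x (b ++ a))⁻¹ ∈ S.σ.ker := by
    rw [MonoidHom.mem_ker, map_mul, map_inv, S.image_word hok.1.1, S.image_word hok.1.2, hok.2.2.1,
      mul_inv_cancel]
  obtain ⟨γ, rfl⟩ := hg
  have hlift : ∀ u v : List ℕ, S.σ γ * S.σ (ev S.x u) = S.σ (ev S.x v) * S.σ γ →
      ∃ z : S.σ.ker, γ * ev S.x u * γ⁻¹ = ev S.x v * z := fun u v h =>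
    ⟨⟨(ev S.x v)⁻¹ * (γ * ev S.x u * γ⁻¹), by
      rw [MonoidHom.mem_ker, map_mul, map_mul, map_mul, map_inv, map_inv, h]
      group⟩, (mul_inv_cancel_left _ _).symm⟩
  obtain ⟨z, hz⟩ := hlift a c h1
  obtain ⟨w, hw⟩ := hlift b d h2
  simp only [ev_append] at hker ⊢
  have hcz : ∀ y, y * (z : Γ) = (z : Γ) * y := Subgroup.mem_center_iff.1 (S.central z.2)
  have hcw : ∀ y, y * (w : Γ) = (w : Γ) * y := Subgroup.mem_center_iff.1 (S.central w.2)
  have e : γ * (ev S.x a * ev S.x b * (ev S.x b * ev S.x a)⁻¹) * γ⁻¹ =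
      ev S.x c * ev S.x d * (ev S.x d * ev S.x c)⁻¹ := by
    calc _ = (γ * ev S.x a * γ⁻¹) * (γ * ev S.x b * γ⁻¹) * ((γ * ev S.x b * γ⁻¹) * (γ * ev S.x a * γ⁻¹))⁻¹ := by
          group
      _ = (ev S.x c * z) * (ev S.x d * w) * ((ev S.x d * w) * (ev S.x c * z))⁻¹ := by rw [hz, hw]
      _ = (ev S.x c * ev S.x d) * ((z : Γ) * w) * ((ev S.x d * ev S.x c) * ((z : Γ) * w))⁻¹ := by
          have e1 : ev S.x c * z * (ev S.x d * w) = ev S.x c * ev S.x d * ((z : Γ) * w) := by
            simp only [mul_assoc]; rw [← mul_assoc (z : Γ), ← hcz]; simp only [mul_assoc]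
          have e2 : ev S.x d * w * (ev S.x c * z) = ev S.x d * ev S.x c * ((z : Γ) * w) := by
            simp only [mul_assoc]; rw [← mul_assoc (w : Γ), ← hcw]; simp only [mul_assoc]; rw [hcw (z : Γ)]
          rw [e1, e2]
      _ = _ := by group
  rw [← e, Subgroup.mem_center_iff.1 (S.central hker) γ, mul_inv_cancel_right]

end Setup

/-- No kernel of order `q` for a stem extension, given a subgroup with index prime to `q` generated by images of
lifts which meet the kernel trivially. -/
theorem no_kernel {Γ G : Type*} [Group Γ] [Group G] [Finite Γ] {σ : Γ →* G}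
    (hσ : Cfsg.IsStemExtension σ) {q : ℕ} (hq : q.Prime) (hcard : Nat.card σ.ker = q) {ι : Type*} (x : ι → Γ)
    (hmeet : ∀ g ∈ Subgroup.closure (Set.range x), σ g = 1 → g = 1)
    (hidx : ¬ q ∣ (Subgroup.closure (Set.range fun s => σ (x s))).index) : False := by
  haveI : Nontrivial σ.ker := Finite.one_lt_card_iff_nontrivial.1 (hcard ▸ hq.one_lt)
  obtain ⟨z, hz⟩ := exists_ne (1 : σ.ker)
  obtain ⟨k, hk, hkz⟩ := CentralCoded.pow_index_mem_commutator hσ.1 hσ.2.1 hσ.2.2 _ z
  have hmem := CentralCoded.commutator_comap_le hσ.2.1 x _ rfl hk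
  have h1 := hmeet _ hmem (by rw [hkz, map_pow, MonoidHom.mem_ker.1 z.2, one_pow])
  rw [hkz] at h1
  have hzq : (z : Γ) ^ q = 1 := by
    rw [← hcard]
    exact congrArg Subtype.val (pow_card_eq_one' (x := z))
  have hg := pow_gcd_eq_one.2 ⟨h1, hzq⟩
  rw [Nat.Coprime.gcd_eq_one ((hq.coprime_iff_not_dvd.2 hidx).symm), pow_one] at hg
  exact hz (Subtype.ext hg)

/-- A prime dividing the order of a stem kernel divides that of a stem kernel of prime order. -/
theorem exists_stem_of_prime.{w} {Γ G : Type w} [Group Γ] [Group G] [Finite Γ] {σ : Γ →* G}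
    (hσ : Cfsg.IsStemExtension σ) {q : ℕ} (hq : q.Prime) {z : σ.ker} (hz : z ^ q = 1) (hz1 : z ≠ 1) :
    ∃ (Δ : Type w) (_ : Group Δ) (_ : Finite Δ) (τ : Δ →* G), Cfsg.IsStemExtension τ ∧ Nat.card τ.ker = q := by
  haveI : Fact q.Prime := ⟨hq⟩
  obtain ⟨hs, hc, hd⟩ := hσ
  letI : CommGroup σ.ker := { (inferInstance : Group σ.ker) with
    mul_comm := fun a b => Subtype.ext (Subgroup.mem_center_iff.1 (hc b.2) a) }
  obtain ⟨R, hR⟩ : ∃ R, R = (powMonoidHom q : σ.ker →* σ.ker).range := ⟨_, rfl⟩
  have hRne : R ≠ ⊤ := by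
    intro e
    rw [hR, MonoidHom.range_eq_top] at e
    exact hz1 ((Finite.injective_iff_surjective.2 e) (show z ^ q = (1 : σ.ker) ^ q by rw [hz, one_pow]))
  have hp : IsPGroup q (σ.ker ⧸ R) := fun x => by
    refine ⟨1, ?_⟩
    induction x using QuotientGroup.induction_on with
    | H a => rw [pow_one, ← QuotientGroup.mk_pow, QuotientGroup.eq_one_iff, hR]; exact ⟨a, rfl⟩
  obtain ⟨n, hn⟩ := hp.exists_card_eq
  have hn0 : n ≠ 0 := fun e => hRne (Subgroup.index_eq_one.1 (by rw [Subgroup.index, hn, e, pow_zero]))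
  obtain ⟨M, hM⟩ := Sylow.exists_subgroup_card_pow_prime q (n := n - 1)
    (by rw [hn]; exact pow_dvd_pow q (by omega) : q ^ (n - 1) ∣ Nat.card (σ.ker ⧸ R))
  have hMi : M.index = q := by
    have h := Subgroup.card_mul_index M
    rw [hM, hn, show n = (n - 1) + 1 by omega, pow_succ, Nat.add_sub_cancel] at h
    exact mul_left_cancel₀ (pow_ne_zero _ hq.ne_zero) h
  obtain ⟨K0, hK0⟩ : ∃ K0, K0 = M.comap (QuotientGroup.mk' R) := ⟨_, rfl⟩
  have hK0i : K0.index = q := by
    rw [hK0, Subgroup.index_comap_of_surjective _ (QuotientGroup.mk'_surjective R), hMi]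
  obtain ⟨K, hK⟩ : ∃ K, K = K0.map σ.ker.subtype := ⟨_, rfl⟩
  have hKle : K ≤ σ.ker := hK ▸ Subgroup.map_subtype_le K0
  haveI : K.Normal := ⟨fun x hx g => by
    rwa [Subgroup.mem_center_iff.1 (hc (hKle hx)) g, mul_inv_cancel_right]⟩
  have hτs : Function.Surjective (QuotientGroup.lift K σ hKle) :=
    fun g => (hs g).elim fun x hx => ⟨x, hx⟩
  have hker : (QuotientGroup.lift K σ hKle).ker = σ.ker.map (QuotientGroup.mk' K) := QuotientGroup.ker_lift K σ hKle
  refine ⟨Γ ⧸ K, inferInstance, inferInstance, QuotientGroup.lift K σ hKle, ⟨hτs, ?_, ?_⟩, ?_⟩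
  · rw [hker]
    rintro _ ⟨x, hx, rfl⟩
    refine Subgroup.mem_center_iff.2 fun y => ?_
    induction y using QuotientGroup.induction_on with
    | H a =>
      show QuotientGroup.mk' K a * QuotientGroup.mk' K x = QuotientGroup.mk' K x * QuotientGroup.mk' K a
      rw [← map_mul, ← map_mul, Subgroup.mem_center_iff.1 (hc hx) a]
  · rw [hker]
    refine (Subgroup.map_mono hd).trans ?_
    rw [commutator_def, commutator_def, Subgroup.map_commutator]
    exact Subgroup.commutator_mono le_top le_top
  · have h1 : Nat.card G = (QuotientGroup.lift K σ hKle).ker.index := by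
      rw [Subgroup.index_ker, MonoidHom.range_eq_top.2 hτs, Subgroup.card_top]
    have h2 := Subgroup.card_mul_index (QuotientGroup.lift K σ hKle).ker
    rw [← h1] at h2
    have h4 := Subgroup.card_mul_index σ.ker
    rw [Subgroup.index_ker, MonoidHom.range_eq_top.2 hs, Subgroup.card_top] at h4
    have h5 : Nat.card K = Nat.card K0 := by rw [hK]; exact (Nat.card_congr (K0.equivMapOfInjective _ Subtype.val_injective).toEquiv).symm
    have h6 := Subgroup.card_eq_card_quotient_mul_card_subgroup K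
    rw [← h2, h5, ← h4, ← Subgroup.card_mul_index K0, hK0i] at h6
    haveI : Finite G := Finite.of_surjective σ hs
    have hG : Nat.card G ≠ 0 := Nat.card_pos.ne'
    have hK0 : Nat.card K0 ≠ 0 := Nat.card_pos.ne'
    have := mul_left_cancel₀ hG (show Nat.card G * (Nat.card K0 * q) =
      Nat.card G * (Nat.card K0 * Nat.card (QuotientGroup.lift K σ hKle).ker) by
        linear_combination h6)
    exact (mul_left_cancel₀ hK0 this).symm

end Cfsg.Agent.Lie.CentralLocal
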