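import Mathlib
import Cfsg.Prelude.Def_KGroupFacts
import Cfsg.Agent.Lib.Solv.SchurSmall

/-!
Stem kernels without elements of order three or five: the cases of an elementary abelian group of order
`9` and of an extraspecial group of order `125` normalised by an element moving the commutator, and two
commuting involutions inside a semidihedral group, whose lifts commute.
-/

set_option autoImplicit false

namespace Cfsg.Agent.Lie.CentralTable

open scoped commutatorElement

variable {Γ G : Type*} [Group Γ] [Group G] {σ : Γ →* G}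

/-- Elements with equal images differ by a central factor. -/
theorem exists_central (hc : σ.ker ≤ Subgroup.center Γ) {x y : Γ} (h : σ x = σ y) :
    ∃ z : Γ, (∀ g, z * g = g * z) ∧ x = y * z := by
  refine ⟨y⁻¹ * x, fun g => (Subgroup.mem_center_iff.1 (hc ?_) g).symm, (mul_inv_cancel_left y x).symm⟩
  rw [MonoidHom.mem_ker, map_mul, map_inv, h, inv_mul_cancel]

/-- An element with trivial image is central. -/
theorem central_of_image_one (hc : σ.ker ≤ Subgroup.center Γ) {x : Γ} (h : σ x = 1) (g : Γ) : x * g = g * x :=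
  (Subgroup.mem_center_iff.1 (hc (MonoidHom.mem_ker.2 h)) g).symm

/-- Transfer to a subgroup whose commutator subgroup misses the kernel. -/
theorem ker_no_torsion_transfer [Finite Γ] (hσ : Cfsg.IsStemExtension σ) {q : ℕ} (hq : q.Prime)
    (P : Subgroup G) (hP : ¬ q ∣ P.index)
    (hK : ∀ z : P.comap σ, z ∈ commutator (P.comap σ) → σ z = 1 → (z : Γ) ^ q = 1 → z = 1) :
    ∀ z : σ.ker, z ^ q = 1 → z = 1 := by
  intro z hz1
  obtain ⟨hs, hc, hd⟩ := hσ
  haveI : (P.comap σ).FiniteIndex := inferInstance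
  have hz : ∀ g : Γ, (z : Γ) * g = g * z := central_of_image_one hc z.2
  have ht := MonoidHom.transfer_eq_pow (Abelianization.of : P.comap σ →* _) (z : Γ) (fun k g _ => by
    rw [mul_assoc, ((show Commute (z : Γ) g from hz g).pow_left k).eq, inv_mul_cancel_left])
  have hker : (z : Γ) ∈ (MonoidHom.transfer (Abelianization.of : P.comap σ →* _)).ker :=
    Abelianization.commutator_subset_ker _ (hd z.2)
  rw [MonoidHom.mem_ker, ht] at hker
  have hzq : (z : Γ) ^ q = 1 := congrArg Subtype.val hz1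
  have hone := hK _ (by rw [← Abelianization.ker_of, MonoidHom.mem_ker]; exact hker)
    (by show σ ((z : Γ) ^ (P.comap σ).index) = 1; rw [map_pow, MonoidHom.mem_ker.1 z.2, one_pow])
    (by show ((z : Γ) ^ (P.comap σ).index) ^ q = 1; rw [← pow_mul, mul_comm, pow_mul, hzq, one_pow])
  have he : (z : Γ) ^ (P.comap σ).index = 1 := congrArg Subtype.val hone
  rw [Subgroup.index_comap_of_surjective _ hs] at he
  have hg : (z : Γ) ^ Nat.gcd P.index q = 1 := pow_gcd_eq_one.2 ⟨he, hzq⟩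
  rw [Nat.Coprime.gcd_eq_one ((hq.coprime_iff_not_dvd.2 hP).symm), pow_one] at hg
  exact Subtype.ext hg

/-- A subgroup above the kernel is generated by lifts and the centre. -/
theorem comap_gen (hc : σ.ker ≤ Subgroup.center Γ) (S : Set Γ) :
    Subgroup.closure (Subtype.val ⁻¹' S : Set ((Subgroup.closure (σ '' S)).comap σ)) ⊔
      Subgroup.center ((Subgroup.closure (σ '' S)).comap σ) = ⊤ := by
  refine top_le_iff.1 fun x _ => ?_
  have hx : σ (x : Γ) ∈ (Subgroup.closure S).map σ := by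
    rw [MonoidHom.map_closure]
    exact x.2
  obtain ⟨s, hs, e⟩ := hx
  obtain ⟨z, hz, hxz⟩ := exists_central hc e.symm
  have hle : Subgroup.closure S ≤ (Subgroup.closure (σ '' S)).comap σ := by
    rw [Subgroup.closure_le]
    exact fun y hy => Subgroup.subset_closure ⟨y, hy, rfl⟩
  have hzK : z ∈ (Subgroup.closure (σ '' S)).comap σ := by
    have : z = s⁻¹ * (x : Γ) := by rw [hxz, inv_mul_cancel_left]
    rw [this]
    exact mul_mem (inv_mem (hle hs)) x.2
  rw [show x = ⟨s, hle hs⟩ * ⟨z, hzK⟩ from Subtype.ext hxz]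
  refine Subgroup.mul_mem_sup ?_ (Subgroup.mem_center_iff.2 fun g => Subtype.ext (hz g).symm)
  have hmap : Subgroup.closure S ≤ (Subgroup.closure
      (Subtype.val ⁻¹' S : Set ((Subgroup.closure (σ '' S)).comap σ))).map
      ((Subgroup.closure (σ '' S)).comap σ).subtype := by
    rw [Subgroup.closure_le]
    exact fun y hy => ⟨⟨y, hle (Subgroup.subset_closure hy)⟩, Subgroup.subset_closure hy, rfl⟩
  obtain ⟨u, hu, e'⟩ := hmap hs
  rwa [show (⟨s, hle hs⟩ : (Subgroup.closure (σ '' S)).comap σ) = u from Subtype.ext e'.symm]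

/-- Elementary abelian of order nine. -/
theorem ker_no_three [Finite Γ] (hσ : Cfsg.IsStemExtension σ) {a b t : G} (hab : a * b = b * a)
    (ha : a ^ 3 = 1) (hta : t * a * t⁻¹ = a ^ 2) (htb : t * b * t⁻¹ = b)
    (hP : ¬ 3 ∣ (Subgroup.closure ({a, b} : Set G)).index) :
    ∀ z : σ.ker, z ^ 3 = 1 → z = 1 := by
  have hc := hσ.2.1
  obtain ⟨x, rfl⟩ := hσ.1 a
  obtain ⟨y, rfl⟩ := hσ.1 b
  obtain ⟨u, rfl⟩ := hσ.1 t
  have hd1 : σ (x * y * x⁻¹ * y⁻¹) = 1 := by
    simp only [map_mul, map_inv]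
    rw [hab]; group
  obtain ⟨d, hd⟩ : ∃ d, d = x * y * x⁻¹ * y⁻¹ := ⟨_, rfl⟩
  rw [← hd] at hd1
  have hdc := central_of_image_one hc hd1
  have hxy : x * y * x⁻¹ = d * y := by rw [hd]; group
  have hpow : ∀ n : ℕ, x ^ n * y * (x ^ n)⁻¹ = d ^ n * y := by
    intro n
    induction n with
    | zero => group
    | succ n ih =>
      rw [pow_succ' x, pow_succ d, mul_inv_rev,
        show x * x ^ n * y * ((x ^ n)⁻¹ * x⁻¹) = x * (x ^ n * y * (x ^ n)⁻¹) * x⁻¹ by group, ih,
        ← mul_assoc x, ← ((show Commute d x from hdc x).pow_left n).eq, mul_assoc (d ^ n), mul_assoc (d ^ n),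
        hxy, mul_assoc]
  have h3 : d ^ 3 = 1 := by
    have h := hpow 3
    have hx3 : ∀ g : Γ, x ^ 3 * g = g * x ^ 3 := central_of_image_one hc (by rw [map_pow]; exact ha)
    rw [hx3, mul_inv_cancel_right] at h
    exact (mul_eq_right.1 h.symm)
  obtain ⟨z, hz, e1⟩ := exists_central hc (x := u * x * u⁻¹) (y := x ^ 2) (by simpa [map_mul, map_inv, map_pow] using hta)
  obtain ⟨w, hw, e2⟩ := exists_central hc (x := u * y * u⁻¹) (y := y) (by simpa [map_mul, map_inv] using htb)
  have h2 : d ^ 2 = d := by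
    have e3 : u * (x * y * x⁻¹) * u⁻¹ = u * (d * y) * u⁻¹ := by rw [hxy]
    rw [show u * (x * y * x⁻¹) * u⁻¹ = (u * x * u⁻¹) * (u * y * u⁻¹) * (u * x * u⁻¹)⁻¹ by group,
      show u * (d * y) * u⁻¹ = d * (u * y * u⁻¹) by rw [← mul_assoc u, ← hdc u]; group, e1, e2] at e3
    rw [mul_inv_rev, show x ^ 2 * z * (y * w) * (z⁻¹ * (x ^ 2)⁻¹) = x ^ 2 * (z * (y * w) * z⁻¹) * (x ^ 2)⁻¹ by group,
      hz, mul_inv_cancel_right, ← mul_assoc, mul_assoc _ w, hw, ← mul_assoc, hpow 2, mul_assoc] at e3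
    exact mul_right_cancel e3
  have hd0 : d = 1 := by
    have : d * d = d * 1 := by rw [mul_one]; simpa [pow_two] using h2
    exact mul_left_cancel this
  rw [hd0, one_mul] at hxy
  have hxy' : x * y = y * x := mul_inv_eq_iff_eq_mul.1 hxy
  intro z' hz'
  refine ker_no_torsion_transfer hσ (by norm_num) _ hP (fun k hk _ _ => ?_) z' hz'
  have hS : (σ '' ({x, y} : Set Γ)) = {σ x, σ y} := Set.image_pair σ x y
  have hgen := comap_gen hc ({x, y} : Set Γ)
  rw [hS] at hgen
  have := Solv.commutator_le_of_gen (⊥ : Subgroup ((Subgroup.closure ({σ x, σ y} : Set G)).comap σ)) _ hgen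
    (fun p hp r hr => by
      rw [Subgroup.mem_bot, commutatorElement_eq_one_iff_mul_comm]
      refine Subtype.ext ?_
      rcases hp with hp | hp <;> rcases hr with hr | hr <;>
        first
        | (simp only [Set.mem_singleton_iff] at hp hr; simp only [Subgroup.coe_mul, hp, hr, hxy'])
        | (simp only [Subgroup.coe_mul, hp, hr, hxy'])) hk
  exact Subgroup.mem_bot.1 this

/-- Extraspecial of order `125`. -/
theorem ker_no_five [Finite Γ] (hσ : Cfsg.IsStemExtension σ) {a b c t : G} (hab : a * b * a⁻¹ = c * b)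
    (ha : a ^ 5 = 1) (hb : b ^ 5 = 1) (hc1 : c ≠ 1) (hca : c * a = a * c) (hcb : c * b = b * c)
    (hta : t * a * t⁻¹ = a ^ 2) (htb : t * b * t⁻¹ = b ^ 2) (htc : t * c * t⁻¹ = c ^ 4)
    (hP : ¬ 5 ∣ (Subgroup.closure ({a, b} : Set G)).index) :
    ∀ z : σ.ker, z ^ 5 = 1 → z = 1 := by
  have hc := hσ.2.1
  obtain ⟨x, rfl⟩ := hσ.1 a
  obtain ⟨y, rfl⟩ := hσ.1 b
  obtain ⟨u, rfl⟩ := hσ.1 t
  have hσc : σ (x * y * x⁻¹ * y⁻¹) = c := by
    simp only [map_mul, map_inv]
    rw [hab, mul_inv_cancel_right]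
  obtain ⟨v, hv⟩ : ∃ v, v = x * y * x⁻¹ * y⁻¹ := ⟨_, rfl⟩
  rw [← hv] at hσc
  subst hσc
  have key : ∀ g : Γ, σ v * σ g = σ g * σ v → (∀ w : Γ, σ g ^ 5 = 1 → g ^ 5 * w = w * g ^ 5) →
      σ g ^ 5 = 1 → σ u * σ g * (σ u)⁻¹ = σ g ^ 2 → v * g = g * v := by
    intro g hvg hg5 h5 htg
    have hd1 : σ (v * g * v⁻¹ * g⁻¹) = 1 := by
      simp only [map_mul, map_inv]
      rw [hvg]; group
    obtain ⟨d, hd⟩ : ∃ d, d = v * g * v⁻¹ * g⁻¹ := ⟨_, rfl⟩
    rw [← hd] at hd1
    have hdc := central_of_image_one hc hd1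
    have hvd : v * g * v⁻¹ = d * g := by rw [hd]; group
    have hpow : ∀ n : ℕ, v ^ n * g * (v ^ n)⁻¹ = d ^ n * g := by
      intro n
      induction n with
      | zero => group
      | succ n ih =>
        rw [pow_succ' v, pow_succ d, mul_inv_rev,
          show v * v ^ n * g * ((v ^ n)⁻¹ * v⁻¹) = v * (v ^ n * g * (v ^ n)⁻¹) * v⁻¹ by group, ih,
          ← mul_assoc v, ← ((show Commute d v from hdc v).pow_left n).eq, mul_assoc (d ^ n), mul_assoc (d ^ n),
          hvd, mul_assoc]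
    have h5d : d ^ 5 = 1 := by
      have e : (v * g * v⁻¹) ^ 5 = d ^ 5 * g ^ 5 := by rw [hvd, (show Commute d g from hdc g).mul_pow]
      rw [conj_pow, ← hg5 v h5, mul_inv_cancel_right] at e
      exact mul_eq_right.1 e.symm
    obtain ⟨z, hz, e1⟩ := exists_central hc (x := u * v * u⁻¹) (y := v ^ 4) (by simpa [map_mul, map_inv, map_pow] using htc)
    obtain ⟨w, hw, e2⟩ := exists_central hc (x := u * g * u⁻¹) (y := g ^ 2) (by simpa [map_mul, map_inv, map_pow] using htg)
    have h8 : d ^ 8 = d := by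
      have e3 : u * (v * g * v⁻¹) * u⁻¹ = u * (d * g) * u⁻¹ := by rw [hvd]
      rw [show u * (v * g * v⁻¹) * u⁻¹ = (u * v * u⁻¹) * (u * g * u⁻¹) * (u * v * u⁻¹)⁻¹ by group,
        show u * (d * g) * u⁻¹ = d * (u * g * u⁻¹) by rw [← mul_assoc u, ← hdc u]; group, e1, e2] at e3
      rw [mul_inv_rev, show v ^ 4 * z * (g ^ 2 * w) * (z⁻¹ * (v ^ 4)⁻¹) = v ^ 4 * (z * (g ^ 2 * w) * z⁻¹) * (v ^ 4)⁻¹ by group,
        hz, mul_inv_cancel_right, ← mul_assoc, mul_assoc _ w, hw, ← mul_assoc, ← conj_pow, hpow 4,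
        ((show Commute d g from hdc g).pow_left 4).mul_pow, ← pow_mul, mul_assoc] at e3
      exact mul_right_cancel e3
    have hd0 : d = 1 := by
      have h7 : d ^ 7 = 1 := by
        have : d * d ^ 7 = d * 1 := by rw [mul_one, ← pow_succ']; exact h8
        exact mul_left_cancel this
      have := pow_gcd_eq_one.2 ⟨h5d, h7⟩
      simpa using this
    rw [hd0, one_mul] at hvd
    exact mul_inv_eq_iff_eq_mul.1 hvd
  have hcen : ∀ g : Γ, ∀ w : Γ, σ g ^ 5 = 1 → g ^ 5 * w = w * g ^ 5 := fun g w h5 =>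
    central_of_image_one hc (by rw [map_pow]; exact h5) w
  have hvx : v * x = x * v := key x hca (hcen x) ha hta
  have hvy : v * y = y * v := key y hcb (hcen y) hb htb
  have hxy : x * y * x⁻¹ = v * y := by rw [hv]; group
  have hv5 : v ^ 5 = 1 := by
    have hp : ∀ n : ℕ, x ^ n * y * (x ^ n)⁻¹ = v ^ n * y := by
      intro n
      induction n with
      | zero => group
      | succ n ih =>
        rw [pow_succ' x, pow_succ v, mul_inv_rev,
          show x * x ^ n * y * ((x ^ n)⁻¹ * x⁻¹) = x * (x ^ n * y * (x ^ n)⁻¹) * x⁻¹ by group, ih,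
          ← mul_assoc x, ← ((show Commute v x from hvx).pow_left n).eq, mul_assoc (v ^ n), mul_assoc (v ^ n),
          hxy, mul_assoc]
    have h := hp 5
    rw [hcen x y ha, mul_inv_cancel_right] at h
    exact mul_eq_right.1 h.symm
  intro z' hz'
  refine ker_no_torsion_transfer hσ (by norm_num) _ hP (fun k hk hk1 _ => ?_) z' hz'
  have hS : (σ '' ({x, y} : Set Γ)) = {σ x, σ y} := Set.image_pair σ x y
  have hgen := comap_gen hc ({x, y} : Set Γ)
  rw [hS] at hgen
  generalize hKdef : (Subgroup.closure ({σ x, σ y} : Set G)).comap σ = K at k hk hk1 hgen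
  have hxK : x ∈ K := hKdef ▸ Subgroup.subset_closure (Set.mem_insert _ _)
  have hyK : y ∈ K := hKdef ▸ Subgroup.subset_closure (Set.mem_insert_of_mem _ rfl)
  let v' : K := ⟨v, hv ▸ mul_mem (mul_mem (mul_mem hxK hyK) (inv_mem hxK)) (inv_mem hyK)⟩
  have hv' : ⁅(⟨x, hxK⟩ : K), ⟨y, hyK⟩⁆ = v' := Subtype.ext (by rw [commutatorElement_def]; exact hv.symm)
  have hvc : v' ∈ Subgroup.center K := by
    have hle : Subgroup.closure (Subtype.val ⁻¹' ({x, y} : Set Γ) : Set K) ⊔ Subgroup.center K ≤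
        Subgroup.centralizer {v'} := by
      refine sup_le ((Subgroup.closure_le _).2 fun g hg => ?_) (fun g hg => ?_)
      · rw [SetLike.mem_coe, Subgroup.mem_centralizer_singleton_iff]
        refine Subtype.ext ?_
        rcases hg with hg | hg
        · simp only [Subgroup.coe_mul, v', hg, hvx]
        · simp only [Set.mem_singleton_iff] at hg
          simp only [Subgroup.coe_mul, v', hg, hvy]
      · rw [Subgroup.mem_centralizer_singleton_iff]
        exact ((Subgroup.mem_center_iff.1 hg) v').symm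
    rw [hgen] at hle
    rw [Subgroup.mem_center_iff]
    exact fun g => Subgroup.mem_centralizer_singleton_iff.1 (hle (Subgroup.mem_top g))
  haveI : (Subgroup.zpowers v').Normal := ⟨fun n hn g => by
    have hn' := (Subgroup.zpowers_le.2 hvc) hn
    rwa [Subgroup.mem_center_iff.1 hn' g, mul_inv_cancel_right]⟩
  have hmem := Solv.commutator_le_of_gen (Subgroup.zpowers v') _ hgen (fun p hp r hr => by
    have hp' : p = ⟨x, hxK⟩ ∨ p = ⟨y, hyK⟩ := by
      rcases hp with hp | hp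
      · exact Or.inl (Subtype.ext hp)
      · exact Or.inr (Subtype.ext hp)
    have hr' : r = ⟨x, hxK⟩ ∨ r = ⟨y, hyK⟩ := by
      rcases hr with hr | hr
      · exact Or.inl (Subtype.ext hr)
      · exact Or.inr (Subtype.ext hr)
    rcases hp' with rfl | rfl <;> rcases hr' with rfl | rfl
    · simp
    · rw [hv']
      exact Subgroup.mem_zpowers _
    · rw [← commutatorElement_inv, hv']
      exact inv_mem (Subgroup.mem_zpowers _)
    · simp) hk
  obtain ⟨m, hm⟩ := hmem
  have hk2 : σ v ^ m = 1 := by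
    rw [← hk1, ← hm, ← map_zpow]
    rfl
  haveI : Fact (Nat.Prime 5) := ⟨by norm_num⟩
  have ho : orderOf (σ v) = 5 := orderOf_eq_prime (by rw [← map_pow, hv5, map_one]) hc1
  obtain ⟨n, hn⟩ := orderOf_dvd_iff_zpow_eq_one.2 hk2
  rw [ho] at hn
  refine Subtype.ext ?_
  rw [← hm]
  show v ^ m = 1
  rw [hn, zpow_mul]
  norm_cast
  rw [hv5, one_zpow]

/-- Lifts of a non-central involution and the central involution of a semidihedral group commute. -/
theorem semidihedral_commute (hc : σ.ker ≤ Subgroup.center Γ) {x s r : Γ} (hs : σ s ^ 2 = 1)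
    (hconj : σ s * σ r * (σ s)⁻¹ = σ r ^ 3) (hx : σ x = σ r ^ 4) : x * s = s * x := by
  obtain ⟨z, hz, e⟩ := exists_central hc (x := s * r * s⁻¹) (y := r ^ 3) (by simpa [map_mul, map_inv, map_pow] using hconj)
  have hs2 : ∀ g : Γ, s ^ 2 * g = g * s ^ 2 := central_of_image_one hc (by rw [map_pow]; exact hs)
  have hzr : Commute z (r ^ 3) := hz _
  have e2 : r = (r ^ 3 * z) ^ 3 * z := by
    calc r = s ^ 2 * r * (s ^ 2)⁻¹ := by rw [hs2, mul_inv_cancel_right]
      _ = s * (s * r * s⁻¹) * s⁻¹ := by simp only [pow_two, mul_inv_rev, mul_assoc]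
      _ = s * r ^ 3 * s⁻¹ * z := by
        rw [e, ← mul_assoc, mul_assoc _ z, hz, ← mul_assoc]
      _ = (r ^ 3 * z) ^ 3 * z := by rw [← conj_pow, e]
  have e3 : r ^ 8 * z ^ 4 = 1 := by
    refine mul_left_cancel (a := r) ?_
    calc r * (r ^ 8 * z ^ 4) = (r ^ 3 * z) ^ 3 * z := by
          rw [hzr.symm.mul_pow, ← mul_assoc, ← pow_succ', ← pow_mul, mul_assoc _ (z ^ 3), ← pow_succ]
      _ = r * 1 := by rw [mul_one, ← e2]
  have e4 : s * r ^ 4 * s⁻¹ = r ^ 4 := by
    calc s * r ^ 4 * s⁻¹ = (r ^ 3 * z) ^ 4 := by rw [← conj_pow, e]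
      _ = r ^ 4 * (r ^ 8 * z ^ 4) := by rw [hzr.symm.mul_pow, ← mul_assoc, ← pow_mul, ← pow_add]
      _ = r ^ 4 := by rw [e3, mul_one]
  obtain ⟨w, hw, rfl⟩ := exists_central hc (x := x) (y := r ^ 4) (by rw [hx, map_pow])
  have hsr : s * r ^ 4 = r ^ 4 * s := mul_inv_eq_iff_eq_mul.1 e4
  calc r ^ 4 * w * s = r ^ 4 * s * w := by rw [mul_assoc, hw, ← mul_assoc]
    _ = s * (r ^ 4 * w) := by rw [← hsr, mul_assoc]

end Cfsg.Agent.Lie.CentralTable
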