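import Cfsg.Agent.Lib.Lie.Facts
import Cfsg.Agent.Lib.Lie.Pack

/-!
Packed certificates for the facts about a datum, and the Boolean checks on them.
-/

set_option autoImplicit false

namespace Cfsg.Agent.Lie

open Cfsg.Lie

/-- Packed copies of the tables of a datum (checked against it). -/
structure Cert where
  n : ℕ
  l : ℕ
  maxlen : ℕ
  simples : List ℕ
  R : List ℕ
  etaBits : List ℕ
  A : List ℕ
  C : ℕ
  P : ℕ
  K : List ℕ
  wt : List ℤ
  bezout : List (List ℤ)

namespace Cert

variable (c : Cert) (D : ChevalleyDatum)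

/-- −s -/
def negC (s : ℕ) : ℕ := Nat.sub (Nat.sub c.n 1) s

/-- α_i -/
noncomputable def cS (i : ℕ) : ℕ := nth 0 c.simples i

/-- w_i(s) -/
noncomputable def cR (i s : ℕ) : ℕ := dig 8 (nth 0 c.R i) s

/-- sign bit of η_i(s) -/
noncomputable def cN (i s : ℕ) : Bool := Nat.beq (dig 1 (nth 0 c.etaBits i) s) 1

/-- η_i(s) -/
noncomputable def eta (i s : ℕ) : ℤ := cond (c.cN i s) (-1) 1

/-- A_{j,s} -/
noncomputable def cA (j s : ℕ) : ℤ := (dig 5 (nth 0 c.A j) s : ℤ) - 16

/-- coefficient of coroot -/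
def cC (s j : ℕ) : ℤ := (dig 5 (dig (5 * c.l) c.C s) j : ℤ) - 16

/-- packed weight of a root -/
def cP (s : ℕ) : ℤ := (dig 66 c.P s : ℤ) - (2 ^ 65 : ℕ)

/-- weights -/
noncomputable def wtF (j : ℕ) : ℤ := nth 0 c.wt j

/-- Σ_{j<k} f j -/
noncomputable def sumTo (k : ℕ) (f : ℕ → ℤ) : ℤ := Nat.rec 0 (fun j ih => ih + f j) k

/-- functional ψ -/
noncomputable def cpsi (s : ℕ) : ℤ := sumTo c.l fun j => c.wtF j * c.cA j s

/-- pairing -/
noncomputable def cpair (r s : ℕ) : ℤ := sumTo c.l fun j => c.cC r j * c.cA j s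

/-- encoding of a chain item (index, coefficient) -/
def encItem (e : ℕ × ℤ) : ℕ := Nat.add e.1 (Nat.mul 256 (e.2 + 15).toNat)

def fitItem (e : ℕ × ℤ) : Bool := Nat.blt e.1 256 && decide (-14 ≤ e.2) && decide (e.2 ≤ 14)

/-- encoding of a chain row -/
noncomputable def encRow (L : List (ℕ × ℤ)) : ℕ :=
  List.rec 0 (fun a _ ih => Nat.add (encItem a) (Nat.mul 8192 ih)) L

/-- decoding of a chain row -/
noncomputable def decRow (fuel : ℕ) : ℕ → List (ℕ × ℤ) :=
  Nat.rec (fun _ => []) (fun _ ih N => cond (Nat.beq N 0) []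
    ((N % 8192 % 256, ((N % 8192 / 256 : ℕ) : ℤ) - 15) :: ih (N / 8192))) fuel

/-- chain row of (s, v) -/
noncomputable def cE (s v : ℕ) : List (ℕ × ℤ) :=
  decRow c.maxlen (dig (13 * c.maxlen) (nth 0 c.K s) v)

/-- reflection of a root computed from the packed tables -/
noncomputable def reflFast (i s : ℕ) : ℕ :=
  cond (Nat.beq s (c.cS i)) (c.negC (c.cS i))
    (cond (Nat.beq s (c.negC (c.cS i))) (c.cS i)
      (if 0 < c.cA i s then
        (((c.cE (c.negC (c.cS i)) s)[(c.cA i s).toNat - 1]?).map Prod.fst).getD s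
      else if c.cA i s < 0 then
        (((c.cE (c.cS i) s)[(-c.cA i s).toNat - 1]?).map Prod.fst).getD s
      else s))

/-- expected image of a chain row under the i-th reflection -/
noncomputable def mapRow (i : ℕ) (es : Bool) (L : List (ℕ × ℤ)) : Bool → List (ℕ × ℤ) :=
  List.rec (fun _ => []) (fun a _ ih σ =>
    (fun σ' : Bool =>
      (c.cR i a.1, cond (xor σ' (c.cN i a.1)) (-a.2) a.2) :: ih σ') (xor σ es)) L

/-- packed weights along a chain row -/
noncomputable def wtRow (s : ℕ) (L : List (ℕ × ℤ)) : ℤ → Bool :=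
  List.rec (fun _ => true) (fun a _ ih acc =>
    decide (c.cP a.1 = acc + c.cP s) && ih (acc + c.cP s)) L

/-! ### Checks -/

/-- Tables of indices. -/
noncomputable def okShape : Bool :=
  Nat.beq D.nroots c.n && Nat.beq D.rank c.l && Nat.ble (Nat.add c.n c.l) 512 && Nat.blt 0 c.l &&
  Nat.ble c.n 256 && Nat.beq (Nat.mul 2 (c.n / 2)) c.n &&
  Nat.beq D.negIdx.toList.length c.n && allIdx (fun s x => Nat.beq x (c.negC s)) D.negIdx.toList 0 &&
  Nat.beq D.simpleIdx.toList.length c.l &&
    allIdx (fun i x => Nat.beq x (c.cS i) && Nat.blt x c.n && Nat.ble (c.n / 2) x) D.simpleIdx.toList 0 &&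
  Nat.beq D.cartanSR.toList.length c.l &&
    allIdx (fun j row => Nat.beq row.toList.length c.n &&
      allIdx (fun s x => decide (x = c.cA j s) && decide (-15 ≤ x) && decide (x ≤ 15)) row.toList 0)
      D.cartanSR.toList 0 &&
  Nat.beq D.coroot.toList.length c.n &&
    allIdx (fun s row => Nat.beq row.toList.length c.l &&
      allIdx (fun j x => decide (x = c.cC s j)) row.toList 0 &&
      ((allMem (fun x => decide (0 ≤ x)) row.toList) == Nat.ble (c.n / 2) s) &&
      ((allMem (fun x => decide (x ≤ 0)) row.toList) == Nat.blt s (c.n / 2)))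
      D.coroot.toList 0

/-- The chain table. -/
noncomputable def okChain : Bool :=
  Nat.beq D.chain.toList.length c.n &&
  allIdx (fun s row =>
    (fun L : List (ℕ × Array (ℕ × ℤ)) =>
      incFrom Prod.fst L 0 &&
      Nat.beq (packAt (13 * c.maxlen) Prod.fst (fun e => encRow e.2.toList) L) (nth 0 c.K s) &&
      allMem (fun e => Nat.blt e.1 c.n && !Nat.beq e.1 s && !Nat.beq e.1 (c.negC s) &&
        Nat.ble e.2.toList.length c.maxlen &&
        allMem (fun a => fitItem a && Nat.blt a.1 c.n) e.2.toList &&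
        c.wtRow s e.2.toList (c.cP e.1) &&
        (Nat.ble e.2.toList.length 2 ||
          (fun k : ℕ => decide (D.chainM k s 2 % 3 = 0) && decide (D.chainM k e.1 2 % 3 = 0))
            ((e.2.toList.headD (0, 0)).1))) L) row.toList)
    D.chain.toList 0

/-- Roots. -/
noncomputable def okRoots : Bool :=
  allRange c.n fun s =>
    decide (c.cP s = packZ 256 ((List.range c.l).map fun j => c.cA j s)) &&
    decide (c.cpair s s = 2) &&
    decide (sumTo c.l (fun j => (nth [] c.bezout s).getD j 0 * c.cC s j) = 1) &&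
    (!Nat.blt (s + 1) c.n || decide (c.cpsi s < c.cpsi (s + 1))) &&
    allRange c.l (fun j => decide (c.cA j (c.negC s) = -c.cA j s) &&
      decide (c.cC (c.negC s) j = -c.cC s j))

/-- The i-th reflection. -/
noncomputable def okRefl (i : ℕ) : Bool :=
  decide (c.cA i (c.cS i) = 2) &&
  allRange c.l (fun j => decide (c.cC (c.cS i) j = cond (Nat.beq j i) 1 0)) &&
  c.cN i (c.cS i) &&
  allRange c.n fun s =>
    (fun r : ℕ =>
      Nat.beq (c.reflFast i s) r && Nat.blt r c.n &&
      Nat.beq (c.cR i r) s && Nat.beq (c.cR i (c.negC s)) (c.negC r) &&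
      (Nat.blt s (c.n / 2) || Nat.beq s (c.cS i) || Nat.ble (c.n / 2) r) &&
      allRange c.l (fun j =>
        decide (c.cA j r = c.cA j s - c.cA i s * c.cA j (c.cS i)) &&
        decide (c.cC r j = c.cC s j - cond (Nat.beq j i) (c.cpair s (c.cS i)) 0)) &&
      (c.cN i (c.negC s) == c.cN i s) &&
      (xor (c.cN i s) (c.cN i r) == Nat.beq ((c.cA i s).natAbs % 2) 1))
      (c.cR i s)

/-- Equivariance of the chain table under the i-th reflection. -/
noncomputable def okChainRefl (i : ℕ) : Bool :=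
  allIdx (fun s row =>
    (fun (K' : ℕ) (es : Bool) =>
      allMem (fun e : ℕ × Array (ℕ × ℤ) =>
        Nat.beq (dig (13 * c.maxlen) K' (c.cR i e.1))
          (encRow (c.mapRow i es e.2.toList (c.cN i e.1)))) row.toList)
      (nth 0 c.K (c.cR i s)) (c.cN i s))
    D.chain.toList 0

/-- The representative computations. -/
noncomputable def okReps : Bool :=
  allRange c.n fun r =>
    (allRange c.l fun i => Nat.ble (c.cR i r) r) == false ||
      (addCheck D r && allRange c.n fun s =>
        Nat.beq s r || Nat.beq s (c.negC r) ||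
        (allRange c.l (fun i => !Nat.beq (c.cR i r) r || Nat.ble (c.cR i s) s) == false) ||
        commCheck D r s)

/-- The i-th Weyl element. -/
noncomputable def okN (i : ℕ) : Bool := nCheck D (c.eta i) i

end Cert

end Cfsg.Agent.Lie
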