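import Cfsg.Agent.Lib.Lie.XMat

/-!
Boolean checks of the defining relations of a Chevalley datum and their meaning.
-/

set_option autoImplicit false

namespace Cfsg.Agent.Lie

open Cfsg.Lie

/-- Exchange the two variables. -/
def toU (L : List Tm) : List Tm := L.map fun m => ⟨m.row, m.col, m.b, m.a, m.c⟩

/-- Substitute t + u for t (terms free of u). -/
def sumVar (L : List Tm) : List Tm :=
  L.flatMap fun m => (List.range (m.a + 1)).map fun j =>
    ⟨m.row, m.col, j, m.a - j, m.c * (m.a.choose j : ℤ)⟩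

/-- Substitute e t^a u^b for t (terms free of u). -/
def substVar (a b : ℕ) (e : ℤ) (L : List Tm) : List Tm :=
  L.map fun m => ⟨m.row, m.col, a * m.a, b * m.a, m.c * e ^ m.a⟩

/-- (1 + A)(1 + B) = 1 + uMul A B. -/
def uMul (N : ℕ) (A B : List Tm) : List Tm := A ++ B ++ mulL N A B

/-- (1 + A₁)(1 + A₂)⋯ = 1 + uProd [A₁, A₂, …]. -/
def uProd (N : ℕ) : List (List Tm) → List Tm
  | [] => []
  | [A] => A
  | A :: B :: L => uMul N A (uProd N (B :: L))

variable (D : ChevalleyDatum)

/-- x_r(t) x_r(u) = x_r(t + u). -/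
def addCheck (r : ℕ) : Bool :=
  eqL (uMul (D.rank + D.nroots) (ent D r) (toU (ent D r))) (sumVar (ent D r))

/-- The commutator word as term lists. -/
def commL (r s : ℕ) : List (List Tm) :=
  (D.commTerms r s).map fun c =>
    substVar c.2.2.1 c.2.2.2 (c.2.1 * (-1) ^ c.2.2.1) (ent D c.1)

/-- x_s(u) x_r(t) = x_r(t) x_s(u) ∏ (commutator word). -/
def commCheck (r s : ℕ) : Bool :=
  eqL (uMul (D.rank + D.nroots) (toU (ent D s)) (ent D r))
    (uMul (D.rank + D.nroots) (uMul (D.rank + D.nroots) (ent D r) (toU (ent D s)))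
      (uProd (D.rank + D.nroots) (commL D r s)))

end Cfsg.Agent.Lie
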