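import Mathlib
import Cfsg.Prelude.Def_CaseTheorems
import Cfsg.Prelude.Def_Local
import Cfsg.Agent.Lib.Fusion.PConstrained
import Cfsg.Agent.Lib.Solv.HallHigman
import Cfsg.Agent.Lib.Solv.PGroupPhi
import Cfsg.Agent.S0256

/-!
Constrained groups whose core has sectional rank at most four.
-/

set_option autoImplicit false
set_option linter.style.haveILetI false

namespace Cfsg.Agent.Lie.ConstrainedEight

open scoped commutatorElement

universe u

theorem eq_one_of_ne_zero : ∀ x : ZMod 2, x ≠ 0 → x = 1 := by decide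

/-- automorphisms of an elementary abelian 2-group of order at most 16 -/
theorem embed_aut {V : Type u} [AddCommGroup V] [Module (ZMod 2) V] [Finite V] (h : Nat.card V ≤ 16) :
    ∃ f : (V ≃ₗ[ZMod 2] V) →* ↥(alternatingGroup (Fin 8)), Function.Injective f := by
  haveI : Fact (Nat.Prime 2) := ⟨Nat.prime_two⟩
  haveI : Module.Finite (ZMod 2) V := Module.Finite.of_finite
  have hk : Module.finrank (ZMod 2) V ≤ 4 := by
    by_contra hlt
    have h1 := Module.natCard_eq_pow_finrank (K := ZMod 2) (V := V)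
    rw [Nat.card_zmod] at h1
    have : 2 ^ 5 ≤ Nat.card V := h1 ▸ Nat.pow_le_pow_right (by norm_num) (by omega)
    omega
  set W := Fin (4 - Module.finrank (ZMod 2) V) → ZMod 2
  have hd : Module.finrank (ZMod 2) (V × W) = Module.finrank (ZMod 2) (Fin 4 → ZMod 2) := by
    rw [Module.finrank_prod, Module.finrank_fin_fun, Module.finrank_fin_fun]
    omega
  set e := LinearEquiv.ofFinrankEq (V × W) (Fin 4 → ZMod 2) hd
  let φ : (V ≃ₗ[ZMod 2] V) →* ((Fin 4 → ZMod 2) ≃ₗ[ZMod 2] (Fin 4 → ZMod 2)) :=
    { toFun := fun a => e.symm.trans ((a.prodCongr (LinearEquiv.refl (ZMod 2) W)).trans e)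
      map_one' := by ext x; simp
      map_mul' := fun a b => by ext x; simp }
  have hφ : Function.Injective φ := by
    intro a b hab
    ext v
    have := DFunLike.congr_fun hab (e (v, 0))
    simpa [φ] using this
  let t : ((Fin 4 → ZMod 2) ≃ₗ[ZMod 2] (Fin 4 → ZMod 2)) ≃* GL (Fin 4) (ZMod 2) :=
    ((LinearMap.GeneralLinearGroup.generalLinearEquiv (ZMod 2) (Fin 4 → ZMod 2)).symm).trans
      Matrix.GeneralLinearGroup.toLin.symm
  have hone : ∀ x : ZMod 2, x ≠ 0 → x = 1 := fun x hx => eq_one_of_ne_zero x hx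
  have hdet : ∀ g : GL (Fin 4) (ZMod 2), Matrix.det (g : Matrix (Fin 4) (Fin 4) (ZMod 2)) = 1 := fun g =>
    hone _ ((Matrix.isUnit_iff_isUnit_det _).1 g.isUnit).ne_zero
  let s : GL (Fin 4) (ZMod 2) →* Matrix.SpecialLinearGroup (Fin 4) (ZMod 2) :=
    { toFun := fun g => ⟨g, hdet g⟩
      map_one' := rfl
      map_mul' := fun a b => rfl }
  have hs : Function.Injective s := fun a b hab => Units.ext (congrArg Subtype.val hab)
  let π : Matrix.SpecialLinearGroup (Fin 4) (ZMod 2) →* Matrix.ProjectiveSpecialLinearGroup (Fin 4) (ZMod 2) :=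
    QuotientGroup.mk' _
  have hπ : Function.Injective π := by
    refine (injective_iff_map_eq_one π).2 fun A hA => ?_
    have hA' : A ∈ Subgroup.center (Matrix.SpecialLinearGroup (Fin 4) (ZMod 2)) := (QuotientGroup.eq_one_iff A).1 hA
    obtain ⟨r, hr, hA'⟩ := Matrix.SpecialLinearGroup.mem_center_iff.1 hA'
    have hr1 : r = 1 := hone r (fun e => by rw [e] at hr; simp at hr)
    refine Subtype.ext ?_
    rw [← hA', hr1, map_one]
    rfl
  obtain ⟨E⟩ := Cfsg.Agent.S0256.result (F := ZMod 2) (ZMod.card 2)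
  exact ⟨(E.toMonoidHom.comp (π.comp (s.comp t.toMonoidHom))).comp φ,
    ((E.injective.comp (hπ.comp (hs.comp t.injective)))).comp hφ⟩

theorem embed_quotient {X : Type u} [Group X] [Finite X] (hc : Cfsg.IsPConstrained 2 X) (hO : Cfsg.oddCore X = ⊥)
    (h4 : Cfsg.SectionalPRankLE 2 4 ↥(Cfsg.pCore 2 X)) :
    ∃ f : X ⧸ Cfsg.pCore 2 X →* ↥(alternatingGroup (Fin 8)), Function.Injective f := by
  haveI : Fact (Nat.Prime 2) := ⟨Nat.prime_two⟩
  set Q := Cfsg.pCore 2 X with hQ
  have hQp : IsPGroup 2 Q := Solv.pCore_isPGroup 2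
  have hcent := (Fusion.isPConstrained_iff_of_core_eq_bot (p := 2) (G := X) hO).1 hc
  set V := Q ⧸ frattini Q
  have hcomm : ∀ a b : V, a * b = b * a :=
    Solv.quotient_mul_comm _ (Solv.commutatorElement_mem_frattini hQp)
  letI : CommGroup V := { (inferInstance : Group V) with mul_comm := hcomm }
  have hsq : ∀ a : V, a ^ 2 = 1 := by
    intro a
    induction a using QuotientGroup.induction_on with | _ a
    exact (QuotientGroup.eq_one_iff (a ^ 2)).2 (Solv.pow_mem_frattini hQp a)
  have hcard : Nat.card V ≤ 2 ^ 4 := by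
    let e : (⊤ : Subgroup Q) ≃* Q := Subgroup.topEquiv
    haveI : ((frattini Q).comap e.toMonoidHom).Normal := inferInstance
    have hr := h4 ⊤ ((frattini Q).comap e.toMonoidHom)
    let E : ((⊤ : Subgroup Q) ⧸ (frattini Q).comap e.toMonoidHom) ≃* V :=
      QuotientGroup.congr _ _ e (Subgroup.map_comap_eq_self_of_surjective e.surjective _)
    have := hr ⊤ ⟨⟨fun a b => Subtype.ext (E.injective (by
      rw [Subgroup.coe_mul, Subgroup.coe_mul, map_mul, map_mul, hcomm]))⟩⟩
      fun a _ => E.injective (by rw [map_pow, map_one, hsq])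
    rwa [Subgroup.card_top, Nat.card_congr E.toEquiv] at this
  letI : Module (ZMod 2) (Additive V) := AddCommGroup.zmodModule fun a => by
    rw [two_nsmul]
    exact (show Additive.toMul a * Additive.toMul a = 1 by rw [← sq]; exact hsq _)
  have hmap : ∀ x : X, (frattini Q).map (MulAut.conjNormal x).toMonoidHom = frattini Q := fun x =>
    Subgroup.characteristic_iff_map_eq.1 inferInstance _
  let ρ : X →* MulAut V :=
    { toFun := fun x => QuotientGroup.congr _ _ (MulAut.conjNormal x) (hmap x)
      map_one' := by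
        ext a
        induction a using QuotientGroup.induction_on with | _ a
        simp [V, QuotientGroup.congr]
      map_mul' := fun x y => by
        ext a
        induction a using QuotientGroup.induction_on with | _ a
        simp [V, QuotientGroup.congr] }
  let L : MulAut V →* (Additive V ≃ₗ[ZMod 2] Additive V) :=
    { toFun := fun a => { a.toAdditive with map_smul' := ZMod.map_smul a.toAdditive.toAddMonoidHom }
      map_one' := rfl
      map_mul' := fun a b => rfl }
  have hL : Function.Injective L := fun a b h => MulEquiv.ext fun v => DFunLike.congr_fun h (Additive.ofMul v)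
  have hρapp : ∀ (x : X) (a : Q), ρ x (QuotientGroup.mk a) = QuotientGroup.mk (MulAut.conjNormal x a) := fun x a => rfl
  have hle : Q ≤ ρ.ker := by
    intro q hq
    rw [MonoidHom.mem_ker]
    ext a
    induction a using QuotientGroup.induction_on with | _ a
    rw [hρapp, MulAut.one_apply]
    have : MulAut.conjNormal q a = (⟨q, hq⟩ : Q) * a * (⟨q, hq⟩ : Q)⁻¹ := Subtype.ext (by simp)
    rw [this, QuotientGroup.mk_mul, QuotientGroup.mk_mul, hcomm (QuotientGroup.mk _), QuotientGroup.mk_inv,
      mul_inv_cancel_right]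
  have hker : ρ.ker ≤ Q := by
    refine Fusion.le_pCore (fun k => ?_)
    obtain ⟨n, m, hm, hnm⟩ := Nat.exists_eq_pow_mul_and_not_dvd (orderOf_pos (k : X)).ne' 2 (by norm_num)
    set g := (k : X) ^ 2 ^ n
    have hg : orderOf g = m := by
      rw [orderOf_pow_of_dvd (by positivity) (hnm ▸ dvd_mul_right _ _), hnm, Nat.mul_div_cancel_left _ (by positivity)]
    have hgk : g ∈ ρ.ker := pow_mem k.2 _
    have hco : (orderOf g).Coprime 2 := hg ▸ (Nat.prime_two.coprime_iff_not_dvd.2 hm).symm
    have hgc : g ∈ Subgroup.centralizer (Q : Set X) := by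
      refine Solv.centralizes_of_frattini Q hQp g ?_ hco fun x hx => ?_
      · rw [Subgroup.normalizer_eq_top]; trivial
      · have h1 : (QuotientGroup.mk (MulAut.conjNormal g ⟨x, hx⟩) : V) = QuotientGroup.mk ⟨x, hx⟩ := by
          rw [← hρapp, MonoidHom.mem_ker.1 hgk]; rfl
        refine ⟨⟨x, hx⟩ * (MulAut.conjNormal g ⟨x, hx⟩)⁻¹, ?_, by simp [commutatorElement_def, mul_assoc]⟩
        refine (QuotientGroup.eq_one_iff _).1 ?_
        rw [QuotientGroup.mk_mul, QuotientGroup.mk_inv, h1, mul_inv_cancel]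
    obtain ⟨j, hj⟩ := hQp ⟨g, hcent hgc⟩
    have hj' : g ^ 2 ^ j = 1 := congrArg Subtype.val hj
    have : m = 1 := hg ▸ Nat.eq_one_of_dvd_coprimes (hco.pow_right j) dvd_rfl (orderOf_dvd_of_pow_eq_one hj')
    exact ⟨n, Subtype.ext (by
      rw [Subgroup.coe_pow, OneMemClass.coe_one]
      exact orderOf_eq_one_iff.1 (hg.trans this))⟩
  obtain ⟨F, hF⟩ := embed_aut (V := Additive V) (hcard.trans (by norm_num))
  refine ⟨(F.comp L).comp (QuotientGroup.lift Q ρ hle), (hF.comp hL).comp ?_⟩
  rw [injective_iff_map_eq_one]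
  intro a ha
  induction a using QuotientGroup.induction_on with | _ a
  exact (QuotientGroup.eq_one_iff a).2 (hker ha)

end Cfsg.Agent.Lie.ConstrainedEight
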