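import Mathlib
import Cfsg.Prelude.Def_KGroupFacts

/-!
A criterion for the order of the outer automorphism group: an element generating a Sylow subgroup of prime order, an
element normalising it with one coset of conjugators, and the possible images of a second generator centralising the
latter.
-/

set_option autoImplicit false

namespace Cfsg.Agent.Lie.OutCriterion

variable {G : Type*} [Group G] [Finite G]

/-- The hypotheses. -/
structure Frame (G : Type*) [Group G] where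
  /-- the element of prime order -/
  x : G
  /-- the normalising element -/
  n : G
  /-- the second generator -/
  y : G
  /-- the prime -/
  p : ℕ
  prime : p.Prime
  once : ¬ p ^ 2 ∣ Nat.card G
  order : orderOf x = p
  /-- the action of the normalising element -/
  r : ℕ
  norm : n * x = x ^ r * n
  gen : Subgroup.closure {x, y} = ⊤
  cosets : ∀ g : G, g * x = x ^ r * g → ∃ i, g = x ^ i * n
  /-- the other representative of the classes of powers -/
  c : ℕ
  /-- its inverse -/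
  d : ℕ
  c_inv : c * d % p = 1
  classes : ∀ i < p, i ≠ 0 → ∃ m : Fin p, i * r ^ (m : ℕ) % p = 1 ∨ i * r ^ (m : ℕ) % p = c
  shift : ∀ i < p, ∃ a : Fin p, ((a : ℕ) + i) % p = (a : ℕ) * r % p

variable (F : Frame G)

theorem norm_pow (m i : ℕ) : F.n ^ m * F.x ^ i * (F.n ^ m)⁻¹ = F.x ^ (i * F.r ^ m) := by
  induction m generalizing i with
  | zero => simp
  | succ m ih =>
    rw [pow_succ, mul_inv_rev, show F.n ^ m * F.n * F.x ^ i * (F.n⁻¹ * (F.n ^ m)⁻¹) =
      F.n ^ m * (F.n * F.x ^ i * F.n⁻¹) * (F.n ^ m)⁻¹ by group, ← conj_pow, mul_inv_eq_iff_eq_mul.2 F.norm,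
      ← pow_mul, ih]
    congr 1
    ring

theorem conj_sylow {a : G} (ha : orderOf a = F.p) : ∃ (g : G) (i : ℕ), i < F.p ∧ g * a * g⁻¹ = F.x ^ i := by
  haveI : Fact F.p.Prime := ⟨F.prime⟩
  have key : ∀ c : G, orderOf c = F.p → ∃ S : Sylow F.p G, (S : Subgroup G) = Subgroup.zpowers c := by
    intro c hc
    have hcard : Nat.card (Subgroup.zpowers c) = F.p ^ 1 := by rw [Nat.card_zpowers, hc, pow_one]
    obtain ⟨S, hS⟩ := (IsPGroup.of_card hcard).exists_le_sylow
    obtain ⟨m, hm⟩ := S.isPGroup'.exists_card_eq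
    refine ⟨S, (Subgroup.eq_of_le_of_card_ge hS ?_).symm⟩
    rw [hcard, hm]
    refine Nat.pow_le_pow_right F.prime.pos ?_
    by_contra hgt
    exact F.once ((pow_dvd_pow F.p (by omega : 2 ≤ m)).trans (hm ▸ Subgroup.card_subgroup_dvd_card _))
  obtain ⟨SA, hA⟩ := key a ha
  obtain ⟨SB, hB⟩ := key F.x F.order
  obtain ⟨g, hg⟩ := MulAction.exists_smul_eq G SA SB
  classical
  have hm : g * a * g⁻¹ ∈ Subgroup.zpowers F.x := by
    rw [← hB, ← hg, Sylow.coe_subgroup_smul, Subgroup.mem_pointwise_smul_iff_inv_smul_mem, hA]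
    show (MulAut.conj g)⁻¹ (g * a * g⁻¹) ∈ _
    rw [MulAut.conj_inv_apply, show g⁻¹ * (g * a * g⁻¹) * g = a by group]
    exact Subgroup.mem_zpowers a
  obtain ⟨i, hi, e⟩ := (mem_zpowers_iff_mem_range_orderOf.1 hm) |> Finset.mem_image.1
  rw [F.order, Finset.mem_range] at hi
  exact ⟨g, i, hi, e.symm⟩

/-- Every automorphism can be moved to fix the normalising element and the first generator up to inversion. -/
theorem aut_norm (α : MulAut G) : ∃ g : G, (MulAut.conj g * α) F.n = F.n ∧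
    ((MulAut.conj g * α) F.x = F.x ∨ (MulAut.conj g * α) F.x = F.x ^ F.c) := by
  have hxp : F.x ^ F.p = 1 := F.order ▸ pow_orderOf_eq_one F.x
  obtain ⟨h, i, hi, e⟩ := conj_sylow F (a := α F.x) (by rw [MulEquiv.orderOf_eq, F.order])
  have hi0 : i ≠ 0 := by
    rintro rfl
    rw [pow_zero, conj_eq_one_iff] at e
    have := F.order
    rw [← MulEquiv.orderOf_eq α, e, orderOf_one] at this
    exact F.prime.one_lt.ne this
  obtain ⟨m, hm⟩ := F.classes i hi hi0
  obtain ⟨β, hβ⟩ : ∃ β : MulAut G, β = MulAut.conj (F.n ^ (m : ℕ) * h) * α := ⟨_, rfl⟩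
  have hb : β F.x = F.x ∨ β F.x = F.x ^ F.c := by
    have e' : β F.x = F.x ^ (i * F.r ^ (m : ℕ)) := by
      rw [hβ, MulAut.mul_apply, MulAut.conj_apply, show F.n ^ (m : ℕ) * h * α F.x * (F.n ^ (m : ℕ) * h)⁻¹ =
        F.n ^ (m : ℕ) * (h * α F.x * h⁻¹) * (F.n ^ (m : ℕ))⁻¹ by group, e, norm_pow]
    rw [e', pow_eq_pow_mod _ hxp]
    rcases hm with hm | hm <;> rw [hm]
    · exact Or.inl (pow_one _)
    · exact Or.inr rfl
  have hnorm : β F.n * F.x = F.x ^ F.r * β F.n := by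
    have e2 := congrArg β F.norm
    rw [map_mul, map_mul, map_pow] at e2
    rcases hb with hb | hb
    · rwa [hb] at e2
    · rw [hb] at e2
      have hd : (F.x ^ F.c) ^ F.d = F.x := by
        rw [← pow_mul, pow_eq_pow_mod _ hxp, F.c_inv, pow_one]
      have e3 : β F.n * F.x ^ F.c * (β F.n)⁻¹ = (F.x ^ F.c) ^ F.r := mul_inv_eq_iff_eq_mul.2 e2
      have e4 := congrArg (· ^ F.d) e3
      simp only [conj_pow, hd] at e4
      rw [← pow_mul, mul_comm F.r, pow_mul, hd] at e4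
      exact mul_inv_eq_iff_eq_mul.1 e4
  obtain ⟨j, hj⟩ := F.cosets _ hnorm
  obtain ⟨a, ha⟩ := F.shift (j % F.p) (Nat.mod_lt _ F.prime.pos)
  refine ⟨F.x ^ (a : ℕ) * (F.n ^ (m : ℕ) * h), ?_⟩
  rw [map_mul, mul_assoc, ← hβ, MulAut.mul_apply, MulAut.mul_apply, MulAut.conj_apply, MulAut.conj_apply, hj]
  refine ⟨?_, ?_⟩
  · have hn : F.n * F.x ^ (a : ℕ) * F.n⁻¹ = F.x ^ ((a : ℕ) * F.r) := by
      have := norm_pow F 1 a
      rwa [pow_one, pow_one] at this
    have hinv : F.n * (F.x ^ (a : ℕ))⁻¹ = (F.x ^ ((a : ℕ) * F.r))⁻¹ * F.n := by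
      rw [← hn]; group
    have hexp : F.x ^ ((a : ℕ) + j) = F.x ^ ((a : ℕ) * F.r) := by
      rw [pow_eq_pow_mod _ hxp, ← Nat.add_mod_mod, ha, ← pow_eq_pow_mod _ hxp]
    rw [mul_assoc, mul_assoc, hinv, ← mul_assoc, ← mul_assoc, ← pow_add, hexp, mul_inv_cancel, one_mul]
  · rcases hb with hb | hb <;> rw [hb]
    · exact Or.inl (by group)
    · exact Or.inr (by group)

theorem aut_ext {α β : MulAut G} (h1 : α F.x = β F.x) (h2 : α F.y = β F.y) : α = β := by
  have : α.toMonoidHom = β.toMonoidHom := MonoidHom.eq_of_eqOn_dense F.gen (by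
    rintro _ (rfl | rfl)
    exacts [h1, h2])
  exact MulEquiv.ext fun x => DFunLike.congr_fun this x

omit [Finite G] in
theorem conj_mem (g : G) : MulAut.conj g ∈ Cfsg.Inn G := ⟨g, rfl⟩

/-- Only inner automorphisms. -/
theorem card_eq_one (h : ∀ β : MulAut G, β F.n = F.n → (β F.x = F.x ∨ β F.x = F.x ^ F.c) →
    β F.x = F.x ∧ β F.y = F.y) : Nat.card (Cfsg.Out G) = 1 := by
  have htop : Cfsg.Inn G = ⊤ := top_le_iff.1 fun α _ => by
    obtain ⟨g, hn, hgx⟩ := aut_norm F α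
    obtain ⟨h1, h2⟩ := h _ hn hgx
    rw [eq_inv_of_mul_eq_one_right (aut_ext F (β := 1) h1 h2)]
    exact inv_mem (conj_mem g)
  show Nat.card (MulAut G ⧸ Cfsg.Inn G) = 1
  rw [← Subgroup.index_eq_card, htop, Subgroup.index_top]

/-- One further automorphism. -/
theorem card_eq_two {x' z : G} (θ : MulAut G) (hx : θ F.x = x') (hy : θ F.y = z) (hne : θ ∉ Cfsg.Inn G)
    (h : ∀ β : MulAut G, β F.n = F.n → (β F.x = F.x ∨ β F.x = F.x ^ F.c) →
      (β F.x = F.x ∧ β F.y = F.y) ∨ (β F.x = x' ∧ β F.y = z)) : Nat.card (Cfsg.Out G) = 2 := by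
  show Nat.card (MulAut G ⧸ Cfsg.Inn G) = 2
  rw [← Subgroup.index_eq_card, Subgroup.index_eq_two_iff]
  refine ⟨θ⁻¹, fun α => ?_⟩
  obtain ⟨g, hn, hgx⟩ := aut_norm F α
  rcases h _ hn hgx with ⟨h1, h2⟩ | ⟨h1, h2⟩
  · have hα : α ∈ Cfsg.Inn G := by
      rw [eq_inv_of_mul_eq_one_right (aut_ext F (β := 1) h1 h2)]
      exact inv_mem (conj_mem g)
    refine Or.inr ⟨hα, fun hm => hne ?_⟩
    exact inv_mem_iff.1 ((Subgroup.mul_mem_cancel_left _ hα).1 hm)
  · have hθ : MulAut.conj g * α = θ := aut_ext F (h1.trans hx.symm) (h2.trans hy.symm)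
    have hα : α * θ⁻¹ = (MulAut.conj g)⁻¹ := by rw [← hθ]; group
    refine Or.inl ⟨hα ▸ inv_mem (conj_mem g), fun hm => hne ?_⟩
    have := mul_mem (inv_mem (hα ▸ inv_mem (conj_mem g) : α * θ⁻¹ ∈ Cfsg.Inn G)) hm
    rwa [show (α * θ⁻¹)⁻¹ * α = θ by group] at this

/-- A permutation conjugating the image of the group into itself gives an automorphism. -/
theorem exists_aut {N : ℕ} (φ : G →* Equiv.Perm (Fin N)) (hφ : Function.Injective φ) (σ : Equiv.Perm (Fin N))
    {x' z : G} (h1 : σ * φ F.x = φ x' * σ) (h2 : σ * φ F.y = φ z * σ)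
    (hno : ∀ g : G, g * F.x = x' * g → g * F.y ≠ z * g) :
    ∃ θ : MulAut G, θ F.x = x' ∧ θ F.y = z ∧ θ ∉ Cfsg.Inn G := by
  obtain ⟨c, hc⟩ : ∃ c : G →* Equiv.Perm (Fin N), c = (MulAut.conj σ).toMonoidHom.comp φ := ⟨_, rfl⟩
  have k1 : c F.x = φ x' := by rw [hc]; show σ * φ F.x * σ⁻¹ = _; rw [h1, mul_inv_cancel_right]
  have k2 : c F.y = φ z := by rw [hc]; show σ * φ F.y * σ⁻¹ = _; rw [h2, mul_inv_cancel_right]
  have hr : ∀ x, c x ∈ φ.range := by
    intro x
    have hx : x ∈ φ.range.comap c := by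
      refine (Subgroup.closure_le _).2 ?_ (F.gen.ge (Subgroup.mem_top x))
      rintro _ (rfl | rfl)
      exacts [⟨_, k1.symm⟩, ⟨_, k2.symm⟩]
    exact hx
  let b : G →* G := (MonoidHom.ofInjective hφ).symm.toMonoidHom.comp (c.codRestrict φ.range hr)
  have hb : ∀ x, φ (b x) = c x := fun x =>
    congrArg Subtype.val ((MonoidHom.ofInjective hφ).apply_symm_apply ⟨c x, hr x⟩)
  have hinj : Function.Injective b := fun u v e => by
    have h := congrArg φ e
    rw [hb, hb, hc] at h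
    exact hφ ((MulAut.conj σ).injective h)
  refine ⟨MulEquiv.ofBijective b (Finite.injective_iff_bijective.1 hinj), hφ ((hb _).trans k1),
    hφ ((hb _).trans k2), ?_⟩
  rintro ⟨g, hg⟩
  have hgx : ∀ u, g * u * g⁻¹ = b u := fun u => DFunLike.congr_fun hg u
  refine hno g ?_ ?_
  · rw [← mul_inv_eq_iff_eq_mul, hgx]
    exact hφ ((hb _).trans k1)
  · rw [← mul_inv_eq_iff_eq_mul, hgx]
    exact hφ ((hb _).trans k2)

/-- The order of the outer automorphism group is an isomorphism invariant. -/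
theorem card_congr {H : Type*} [Group H] (e : H ≃* G) : Nat.card (Cfsg.Out H) = Nat.card (Cfsg.Out G) := by
  refine Nat.card_congr (QuotientGroup.congr _ _ (MulAut.congr e) ?_).toEquiv
  refine Subgroup.ext fun β => ⟨?_, ?_⟩
  · rintro ⟨_, ⟨g, rfl⟩, rfl⟩
    exact ⟨e g, MulEquiv.ext fun x => by simp [MulAut.congr]⟩
  · rintro ⟨g, rfl⟩
    exact ⟨_, ⟨e.symm g, rfl⟩, MulEquiv.ext fun x => by simp [MulAut.congr]⟩

end Cfsg.Agent.Lie.OutCriterion
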