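import Mathlib
import Cfsg.Agent.Lib.Lie.CentralInject

/-!
Permutations of at most 512 points packed in natural numbers, stabiliser chains with complete decomposition, and an
exhaustive search for the elements conjugating one permutation into another.
-/

set_option autoImplicit false

namespace Cfsg.Agent.Lie.PermNine

/-- The image of a point under a packed permutation. -/
def pg (p i : ℕ) : ℕ := (p >>> (9 * i)) % 512

/-- The product of two packed permutations. -/
def pmul (n p q : ℕ) : ℕ := (List.range' 0 n).foldr (fun k m => m * 512 + pg p (pg q k)) 0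

/-- The permutations of a straight-line program. -/
def slpP (n : ℕ) : List ℕ → List (ℕ × ℕ) → List ℕ
  | acc, [] => acc
  | acc, e :: es => slpP n (acc ++ [pmul n (acc.getD e.1 0) (acc.getD e.2 0)]) es

/-- The image of a point under a product of packed permutations. -/
def imgOf (us : List ℕ) (b : ℕ) : ℕ := us.foldr pg b

/-- A new image agrees with the earlier ones. -/
def consistent (pi sg : ℕ) (prev : List (ℕ × ℕ)) (b a : ℕ) : Bool :=
  prev.all fun z => (!Nat.beq (pg pi z.1) b || Nat.beq (pg sg z.2) a) &&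
    (!Nat.beq (pg pi b) z.1 || Nat.beq (pg sg a) z.2)

/-- The search along a chain. -/
def srch (pi sg : ℕ) (leaf : List ℕ → Bool) : List (ℕ × List ℕ) → List ℕ → List (ℕ × ℕ) → Bool
  | [], us, _ => leaf us
  | (b, ps) :: L, us, prev => ps.all fun u =>
      !consistent pi sg prev b (imgOf us (pg u b)) || srch pi sg leaf L (us ++ [u]) (prev ++ [(b, imgOf us (pg u b))])

/-- A list of levels is a chain. -/
def chainOK : List (ℕ × List ℕ) → List ℕ → Bool
  | [], _ => true
  | (b, ps) :: L, fixed => (ps.all (fun u => fixed.all fun c => Nat.beq (pg u c) c) &&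
      decide ((ps.map fun u => pg u b).Nodup)) && chainOK L (fixed ++ [b])

/-- The number of products along a chain. -/
def chainSize (L : List (ℕ × List ℕ)) : ℕ := (L.map fun l => l.2.length).prod

theorem foldr_digits (f : ℕ → ℕ) (hf : ∀ k, f k < 512) : ∀ (n s j : ℕ), j < n →
    pg ((List.range' s n).foldr (fun k m => m * 512 + f k) 0) j = f (s + j)
  | 0, s, j, h => absurd h (Nat.not_lt_zero j)
  | n + 1, s, j, h => by
    rw [List.range'_succ, List.foldr_cons]
    generalize hM : (List.range' (s + 1) n).foldr (fun k m => m * 512 + f k) 0 = M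
    cases j with
    | zero =>
      rw [pg, Nat.mul_zero, Nat.shiftRight_zero, Nat.add_zero]
      have := hf s
      omega
    | succ j =>
      have ih := foldr_digits f hf n (s + 1) j (by omega)
      rw [hM, pg] at ih
      rw [pg, show 9 * (j + 1) = 9 + 9 * j by ring, Nat.shiftRight_add,
        show (M * 512 + f s) >>> 9 = M by rw [Nat.shiftRight_eq_div_pow]; have := hf s; omega, ih]
      congr 1
      omega

theorem pg_pmul {n : ℕ} (p q : ℕ) {k : ℕ} (hk : k < n) : pg (pmul n p q) k = pg p (pg q k) := by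
  rw [pmul, foldr_digits (fun k => pg p (pg q k)) (fun _ => Nat.mod_lt _ (by norm_num)) n 0 k hk, Nat.zero_add]

variable {G : Type*} [Group G] {N : ℕ} (φ : G →* Equiv.Perm (Fin N))

/-- A packed permutation describes an element. -/
def Rep (g : G) (p : ℕ) : Prop := ∀ k : Fin N, (φ g k : ℕ) = pg p k

variable {φ}

theorem Rep.mul {g h : G} {p q : ℕ} (hg : Rep φ g p) (hh : Rep φ h q) : Rep φ (g * h) (pmul N p q) := fun k => by
  rw [map_mul, Equiv.Perm.mul_apply, hg, hh, pg_pmul p q k.2]

theorem slp_rep : ∀ (es : List (ℕ × ℕ)) (acc : List G) (pacc : List ℕ), acc.length = pacc.length →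
    (∀ j < acc.length, Rep φ (acc.getD j 1) (pacc.getD j 0)) →
    (∀ (i : ℕ) (hi : i < es.length), es[i].1 < acc.length + i ∧ es[i].2 < acc.length + i) →
    ∀ j < acc.length + es.length, Rep φ ((CentralTable.slpElt acc es).getD j 1) ((slpP N pacc es).getD j 0)
  | [], acc, pacc, _, h, _, j, hj => h j (by simpa using hj)
  | e :: es, acc, pacc, hl, h, ho, j, hj => by
    have h0 := ho 0 (by simp)
    simp only [List.getElem_cons_zero, Nat.add_zero] at h0
    refine slp_rep es _ _ (by simp [hl]) (fun i hi => ?_) (fun i hi => ?_) j ?_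
    · simp only [List.length_append, List.length_cons, List.length_nil] at hi
      rcases Nat.lt_or_ge i acc.length with hi' | hi'
      · rw [List.getD_append _ _ _ _ hi', List.getD_append _ _ _ _ (hl ▸ hi')]
        exact h i hi'
      · rw [List.getD_append_right _ _ _ _ hi', List.getD_append_right _ _ _ _ (hl ▸ hi'),
          show i - acc.length = 0 by omega, show i - pacc.length = 0 by omega]
        exact (h _ h0.1).mul (h _ h0.2)
    · have := ho (i + 1) (by simpa using hi)
      simp only [List.getElem_cons_succ, List.length_append, List.length_cons, List.length_nil] at this ⊢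
      omega
    · simp only [List.length_append, List.length_cons, List.length_nil] at hj ⊢
      omega

theorem Rep.img {g : G} {p : ℕ} (hg : Rep φ g p) {h : G} {us : List ℕ}
    (hh : ∀ k : Fin N, (φ h k : ℕ) = imgOf us k) (k : Fin N) : (φ (h * g) k : ℕ) = imgOf (us ++ [p]) k := by
  rw [map_mul, Equiv.Perm.mul_apply, hh, hg, imgOf, imgOf, List.foldr_append]
  rfl

variable (φ)

/-- The elements fixing the listed points. -/
def fixes (l : List ℕ) : Set G := {g | ∀ k : Fin N, (k : ℕ) ∈ l → φ g k = k}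

variable {φ}

theorem fixes_mul {l : List ℕ} {g h : G} (hg : g ∈ fixes φ l) (hh : h ∈ fixes φ l) : g * h ∈ fixes φ l :=
  fun k hk => by rw [map_mul, Equiv.Perm.mul_apply, hh k hk, hg k hk]

theorem one_le_fixes [Finite G] (l : List ℕ) : 1 ≤ (fixes φ l).ncard :=
  (Set.ncard_pos (Set.toFinite _)).2 ⟨1, fun k _ => by rw [map_one]; rfl⟩

/-- The conditions on a chain with representatives in a subset. -/
def Reps (K : Set G) (L : List (ℕ × List ℕ)) : Prop := ∀ l ∈ L, l.1 < N ∧ ∀ p ∈ l.2, ∃ u ∈ K, Rep φ u p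

theorem level_inj {fixed ps : List ℕ} {b : ℕ} (hb : b < N) (hfix : ∀ x ∈ ps, ∀ c ∈ fixed, pg x c = c)
    (hnd : (ps.map fun x => pg x b).Nodup) {u : Fin ps.length → G} (hu : ∀ i, Rep φ (u i) (ps[(i : ℕ)]'i.2)) :
    (∀ i, u i ∈ fixes φ fixed) ∧
    ∀ (i j : Fin ps.length) (y z : G), y ∈ fixes φ (fixed ++ [b]) → z ∈ fixes φ (fixed ++ [b]) →
      u i * y = u j * z → i = j ∧ y = z := by
  refine ⟨fun i k hk => Fin.ext ?_, fun i j y z hy hz e => ?_⟩
  · rw [hu]; exact hfix _ (List.getElem_mem _) k hk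
  · have e2 := congrArg Fin.val (Equiv.congr_fun (congrArg φ e) ⟨b, hb⟩)
    rw [map_mul, map_mul, Equiv.Perm.mul_apply, Equiv.Perm.mul_apply,
      hy ⟨b, hb⟩ (List.mem_append_right _ List.mem_cons_self),
      hz ⟨b, hb⟩ (List.mem_append_right _ List.mem_cons_self), hu, hu] at e2
    have hij : i = j := Fin.ext ((hnd.getElem_inj_iff (hi := by simp) (hj := by simp)).1 (by simpa using e2))
    subst hij
    exact ⟨rfl, mul_left_cancel e⟩

/-- The map sending a representative and an element fixing one more point to their product. -/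
def levelMap {fixed ps : List ℕ} {b : ℕ} (u : Fin ps.length → G) (hu : ∀ i, u i ∈ fixes φ fixed)
    (z : Fin ps.length × fixes φ (fixed ++ [b])) : fixes φ fixed :=
  ⟨u z.1 * z.2.1, fixes_mul (hu z.1) fun k hk => z.2.2 k (List.mem_append_left _ hk)⟩

theorem level_facts {K : Set G} {fixed ps : List ℕ} {b : ℕ} {L : List (ℕ × List ℕ)}
    (h : chainOK ((b, ps) :: L) fixed = true) (hr : Reps (φ := φ) K ((b, ps) :: L)) :
    ∃ (u : Fin ps.length → G) (hu : ∀ i, u i ∈ fixes φ fixed), (∀ i, u i ∈ K ∧ Rep φ (u i) (ps[(i : ℕ)]'i.2)) ∧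
      Function.Injective (levelMap (b := b) u hu) := by
  simp only [chainOK, Bool.and_eq_true, List.all_eq_true, Nat.beq_eq, decide_eq_true_eq] at h
  obtain ⟨⟨hfix, hnd⟩, -⟩ := h
  obtain ⟨hb, hps⟩ := hr (b, ps) List.mem_cons_self
  choose u hu using fun i : Fin ps.length => hps (ps[(i : ℕ)]'i.2) (List.getElem_mem i.2)
  obtain ⟨h1, h2⟩ := level_inj hb hfix hnd fun i => (hu i).2
  refine ⟨u, h1, hu, ?_⟩
  rintro ⟨i, y⟩ ⟨j, z⟩ e
  obtain ⟨rfl, e'⟩ := h2 i j y z y.2 z.2 (congrArg Subtype.val e)
  exact Prod.ext rfl (Subtype.ext e')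

theorem chain_le [Finite G] {K : Set G} : ∀ (L : List (ℕ × List ℕ)) (fixed : List ℕ), chainOK L fixed = true →
    Reps (φ := φ) K L → chainSize L * (fixes φ (fixed ++ L.map Prod.fst)).ncard ≤ (fixes φ fixed).ncard
  | [], fixed, _, _ => by simp [chainSize]
  | (b, ps) :: L, fixed, h, hr => by
    obtain ⟨u, hu, -, hf⟩ := level_facts h hr
    simp only [chainOK, Bool.and_eq_true] at h
    have ih := chain_le L (fixed ++ [b]) h.2 fun l hl => hr l (List.mem_cons_of_mem _ hl)
    have key := Nat.card_le_card_of_injective _ hf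
    rw [Nat.card_prod, Nat.card_coe_set_eq, Nat.card_coe_set_eq, Nat.card_eq_fintype_card, Fintype.card_fin] at key
    calc chainSize ((b, ps) :: L) * (fixes φ (fixed ++ ((b, ps) :: L).map Prod.fst)).ncard
        = ps.length * (chainSize L * (fixes φ ((fixed ++ [b]) ++ L.map Prod.fst)).ncard) := by
          simp [chainSize, List.append_assoc, mul_assoc]
      _ ≤ ps.length * (fixes φ (fixed ++ [b])).ncard := Nat.mul_le_mul_left _ ih
      _ ≤ _ := key

/-- In a chain of full size every element fixing the earlier points starts with a representative. -/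
theorem chain_step [Finite G] {K : Set G} {b : ℕ} {ps : List ℕ} {L : List (ℕ × List ℕ)} {fixed : List ℕ}
    (h : chainOK ((b, ps) :: L) fixed = true) (hr : Reps (φ := φ) K ((b, ps) :: L))
    (hc : (fixes φ fixed).ncard ≤ chainSize ((b, ps) :: L)) :
    (fixes φ (fixed ++ [b])).ncard ≤ chainSize L ∧
    ∀ g ∈ fixes φ fixed, ∃ p ∈ ps, ∃ u ∈ K, Rep φ u p ∧ u⁻¹ * g ∈ fixes φ (fixed ++ [b]) := by
  obtain ⟨u, hu, hK, hf⟩ := level_facts h hr
  simp only [chainOK, Bool.and_eq_true] at h
  have lo := chain_le L (fixed ++ [b]) h.2 fun l hl => hr l (List.mem_cons_of_mem _ hl)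
  have lo' : chainSize L ≤ (fixes φ (fixed ++ [b])).ncard :=
    le_trans (Nat.le_mul_of_pos_right _ (one_le_fixes _)) lo
  have hsize : chainSize ((b, ps) :: L) = ps.length * chainSize L := by simp [chainSize]
  have hle := Nat.card_le_card_of_injective _ hf
  rw [Nat.card_prod, Nat.card_coe_set_eq, Nat.card_coe_set_eq, Nat.card_eq_fintype_card, Fintype.card_fin] at hle
  have hpos : 0 < ps.length := by
    by_contra h0
    have := one_le_fixes (φ := φ) fixed
    rw [hsize, show ps.length = 0 by omega, zero_mul] at hc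
    omega
  have h1 : (fixes φ (fixed ++ [b])).ncard ≤ chainSize L :=
    Nat.le_of_mul_le_mul_left (hle.trans (hsize ▸ hc)) hpos
  refine ⟨h1, fun g hg => ?_⟩
  have hb' := hf.bijective_of_nat_card_le (by
    rw [Nat.card_prod, Nat.card_coe_set_eq, Nat.card_coe_set_eq, Nat.card_eq_fintype_card, Fintype.card_fin]
    exact (hsize ▸ hc).trans (Nat.mul_le_mul_left _ lo'))
  obtain ⟨⟨i, y⟩, e⟩ := hb'.2 ⟨g, hg⟩
  refine ⟨_, List.getElem_mem i.2, _, (hK i).1, (hK i).2, ?_⟩
  have e' : u i * y.1 = g := congrArg Subtype.val e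
  rw [← e', inv_mul_cancel_left]
  exact y.2

/-- Every element is a product of representatives. -/
theorem chain_mem [Finite G] (hφ : Function.Injective φ) {K : Subgroup G} {L : List (ℕ × List ℕ)}
    (h : chainOK L [] = true) (hr : Reps (φ := φ) (K : Set G) L) (hc : Nat.card G ≤ chainSize L) (g : G) : g ∈ K := by
  have e : fixes φ [] = Set.univ := Set.eq_univ_of_forall fun g k hk => absurd hk List.not_mem_nil
  suffices H : ∀ (L : List (ℕ × List ℕ)) (fixed : List ℕ), chainOK L fixed = true → Reps (φ := φ) (K : Set G) L →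
      (fixes φ fixed).ncard ≤ chainSize L → ∀ g ∈ fixes φ fixed, g ∈ K from
    H L [] h hr (by rw [e, Set.ncard_univ]; exact hc) g (e ▸ Set.mem_univ g)
  intro L
  induction L with
  | nil =>
    intro fixed _ _ hc g hg
    rw [(Set.ncard_le_one (Set.toFinite _)).1 hc g hg 1 fun k _ => by rw [map_one]; rfl]
    exact one_mem K
  | cons l L ih =>
    obtain ⟨b, ps⟩ := l
    intro fixed h hr hc g hg
    obtain ⟨h1, h2⟩ := chain_step h hr hc
    obtain ⟨p, -, u, hu, -, hy⟩ := h2 g hg
    have := ih (fixed ++ [b]) (by simp only [chainOK, Bool.and_eq_true] at h; exact h.2)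
      (fun l hl => hr l (List.mem_cons_of_mem _ hl)) h1 _ hy
    simpa using mul_mem hu this

theorem srch_sound_aux [Finite G] {K : Set G} {pi sg : ℕ} {leaf : List ℕ → Bool} {g : G}
    (hg : ∀ k : Fin N, (φ g ⟨pg pi k % N, Nat.mod_lt _ k.pos⟩ : ℕ) = pg sg (φ g k) ∧ pg pi k < N) :
    ∀ (L : List (ℕ × List ℕ)) (fixed : List ℕ) (us : List ℕ) (prev : List (ℕ × ℕ)) (h : G),
      chainOK L fixed = true → Reps (φ := φ) K L → (fixes φ fixed).ncard ≤ chainSize L →
      (∀ k : Fin N, (φ h k : ℕ) = imgOf us k) → h⁻¹ * g ∈ fixes φ fixed →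
      (∀ z ∈ prev, ∃ k : Fin N, (k : ℕ) = z.1 ∧ (φ g k : ℕ) = z.2) →
      srch pi sg leaf L us prev = true →
      ∃ us', leaf us' = true ∧ ∀ k : Fin N, (φ g k : ℕ) = imgOf us' k
  | [], fixed, us, _, h, _, _, hc, hh, hm, _, hs => by
    refine ⟨us, hs, fun k => ?_⟩
    rw [show g = h from (inv_mul_eq_one.1 ((Set.ncard_le_one (Set.toFinite _)).1 hc _ hm 1
      fun k _ => by rw [map_one]; rfl)).symm]
    exact hh k
  | (b, ps) :: L, fixed, us, prev, h, hok, hr, hc, hh, hm, hp, hs => by
    obtain ⟨h1, h2⟩ := chain_step hok hr hc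
    obtain ⟨p, hpm, u, -, hu, hy⟩ := h2 _ hm
    obtain ⟨hb, -⟩ := hr (b, ps) List.mem_cons_self
    have hgb : (φ g ⟨b, hb⟩ : ℕ) = imgOf us (pg p b) := by
      have e := hy ⟨b, hb⟩ (List.mem_append_right _ List.mem_cons_self)
      rw [show g = h * u * (u⁻¹ * (h⁻¹ * g)) by group, map_mul, Equiv.Perm.mul_apply, e, hu.img hh, imgOf, imgOf,
        List.foldr_append]
      rfl
    simp only [srch, List.all_eq_true] at hs
    have hs' := hs p hpm
    rw [Bool.or_eq_true, Bool.not_eq_true'] at hs'
    have hcons : consistent pi sg prev b (imgOf us (pg p b)) = true := by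
      simp only [consistent, List.all_eq_true, Bool.and_eq_true, Bool.or_eq_true, Bool.not_eq_true',
        ← Bool.not_eq_true, Nat.beq_eq]
      intro z hz
      obtain ⟨k, hk, hkz⟩ := hp z hz
      refine ⟨?_, ?_⟩
      · rw [← hgb, ← hkz, ← hk]
        by_cases e : pg pi k = b
        · refine Or.inr ?_
          rw [← (hg k).1]
          congr 2
          exact Fin.ext (by simp [e, Nat.mod_eq_of_lt hb])
        · exact Or.inl e
      · rw [← hgb, ← hkz, ← hk]
        by_cases e : pg pi b = k
        · refine Or.inr ?_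
          rw [← (hg ⟨b, hb⟩).1]
          congr 2
          exact Fin.ext (by simp [e, Nat.mod_eq_of_lt k.2])
        · exact Or.inl e
    refine srch_sound_aux hg L (fixed ++ [b]) (us ++ [p]) _ (h * u) ?_ (fun l hl => hr l (List.mem_cons_of_mem _ hl))
      h1 (hu.img hh) ?_ ?_ (hs'.resolve_left (by rw [hcons]; decide))
    · simp only [chainOK, Bool.and_eq_true] at hok
      exact hok.2
    · rwa [mul_inv_rev, mul_assoc]
    · intro z hz
      rcases List.mem_append.1 hz with hz | hz
      · exact hp z hz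
      · rw [List.mem_singleton] at hz
        exact ⟨⟨b, hb⟩, by rw [hz], by rw [hz]; exact hgb⟩

/-- The search finds every element conjugating one packed permutation into another. -/
theorem srch_sound [Finite G] {K : Set G} {pi sg : ℕ} {leaf : List ℕ → Bool} {L : List (ℕ × List ℕ)}
    (hok : chainOK L [] = true) (hr : Reps (φ := φ) K L) (hc : Nat.card G ≤ chainSize L)
    (hs : srch pi sg leaf L [] [] = true) {g a c : G} (ha : Rep φ a pi) (hcc : Rep φ c sg) (e : g * a = c * g) :
    ∃ us, leaf us = true ∧ ∀ k : Fin N, (φ g k : ℕ) = imgOf us k := by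
  refine srch_sound_aux (g := g) (fun k => ?_) L [] [] [] 1 hok hr ?_ (fun k => ?_) ?_ (by simp) hs
  · have hlt : pg pi k < N := ha k ▸ (φ a k).2
    refine ⟨?_, hlt⟩
    rw [show (⟨pg pi k % N, Nat.mod_lt _ k.pos⟩ : Fin N) = φ a k from
      Fin.ext ((Nat.mod_eq_of_lt hlt).trans (ha k).symm), ← hcc, ← Equiv.Perm.mul_apply,
      ← Equiv.Perm.mul_apply, ← map_mul, ← map_mul, e]
  · exact le_trans (Set.ncard_le_ncard (Set.subset_univ _)) (by rwa [Set.ncard_univ])
  · rw [map_one]; rfl
  · exact fun k hk => absurd hk List.not_mem_nil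

end Cfsg.Agent.Lie.PermNine
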