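import Mathlib

/-!
Permutations given by tables: checked programs, stabiliser chains whose representatives are words in strong
generators, and a search along a chain for all elements conjugating one permutation into another in which forced
images are found by sifting.
-/

set_option autoImplicit false

namespace Cfsg.Agent.Lie.PermTable

/-- A field of twelve bits in blocks of 256. -/
def blk (l : List ℕ) (k : ℕ) : ℕ :=
  Nat.mod (Nat.shiftRight (l.getD (Nat.div k 256) 0) (Nat.mul 12 (Nat.mod k 256))) 4096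

/-- The image of a point under an entry of a table stored in groups of sixteen columns. -/
def look (tab : List (List (List ℕ))) (i k : ℕ) : ℕ := blk ((tab.getD (Nat.div i 16) []).getD (Nat.mod i 16) []) k

/-- Evaluates a number before it is used. -/
def force {α : Type} (k : ℕ) (f : ℕ → α) : α := Nat.rec (f 0) (fun n _ => f (Nat.succ n)) k

theorem force_eq {α : Type} (k : ℕ) (f : ℕ → α) : force k f = f k := by cases k <;> rfl

/-- The image of a point under a word, last letter first. -/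
def evw (S : ℕ → ℕ → ℕ) (w : List ℕ) (b : ℕ) : ℕ := w.foldr (fun x a => force a (S x)) b

theorem evw_cons (S : ℕ → ℕ → ℕ) (x : ℕ) (w : List ℕ) (b : ℕ) : evw S (x :: w) b = S x (evw S w b) :=
  force_eq _ _

/-- The inverse of a word: letters come in pairs. -/
def invw (w : List ℕ) : List ℕ := (w.map fun x => bif x % 2 == 0 then x + 1 else x - 1).reverse

/-- A level of a chain. -/
structure Lvl where
  /-- the point -/
  b : ℕ
  /-- the length of the orbit -/
  k : ℕ
  /-- words of representatives in groups of 64 -/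
  wd : List (List (List ℕ))
  /-- positions of points -/
  pos : List ℕ

/-- The word of a position. -/
def Lvl.word (L : Lvl) (i : ℕ) : List ℕ := (L.wd.getD (i / 64) []).getD (i % 64) []

/-- A list of levels is a chain. -/
def chainOK (S : ℕ → ℕ → ℕ) (N ns : ℕ) : List Lvl → List ℕ → Bool
  | [], _ => true
  | L :: Ls, fixed => (Nat.blt L.b N && (List.range L.k).all fun i =>
      ((L.word i).all (fun x => Nat.blt x ns) && fixed.all fun c => Nat.beq (evw S (L.word i) c) c) &&
        Nat.beq (blk L.pos (evw S (L.word i) L.b)) i) && chainOK S N ns Ls (fixed ++ [L.b])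

/-- The number of products along a chain. -/
def chainSize (Ls : List Lvl) : ℕ := (Ls.map Lvl.k).prod

/-- The search along a chain. -/
def srch (S : ℕ → ℕ → ℕ) (pi sg : ℕ → ℕ) (leaf : List ℕ → Bool) : List Lvl → List ℕ → List (ℕ × ℕ) → Bool
  | [], us, _ => leaf us
  | L :: Ls, us, prev =>
    match prev.find? fun z => Nat.beq (pi z.1) L.b with
    | some z =>
      bif Nat.blt (blk L.pos (evw S (invw us) (sg z.2))) L.k &&
          Nat.beq (evw S (L.word (blk L.pos (evw S (invw us) (sg z.2)))) L.b) (evw S (invw us) (sg z.2)) then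
        srch S pi sg leaf Ls (us ++ L.word (blk L.pos (evw S (invw us) (sg z.2)))) (prev ++ [(L.b, sg z.2)])
      else true
    | none => (List.range L.k).all fun i =>
        srch S pi sg leaf Ls (us ++ L.word i) (prev ++ [(L.b, evw S us (evw S (L.word i) L.b))])

/-- A step of a program. -/
def stepOK (T : ℕ → ℕ → ℕ) (N s : ℕ) (ops : List (ℕ × ℕ)) (i : ℕ) : Bool :=
  (Nat.blt (ops.getD i (0, 0)).1 (s + i) && Nat.blt (ops.getD i (0, 0)).2 (s + i)) &&
    force (s + i) fun j => force (ops.getD i (0, 0)).1 fun a => force (ops.getD i (0, 0)).2 fun b =>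
      (List.range N).all fun k => Nat.beq (T j k) (force (T b k) (T a))

variable {G : Type*} [Group G] {N : ℕ} (φ : G →* Equiv.Perm (Fin N))

/-- A function describes an element. -/
def Rep (g : G) (f : ℕ → ℕ) : Prop := ∀ k : Fin N, (φ g k : ℕ) = f k

/-- The elements fixing the listed points. -/
def fixes (l : List ℕ) : Set G := {g | ∀ k : Fin N, (k : ℕ) ∈ l → φ g k = k}

variable {φ}

theorem Rep.mul {g h : G} {f f' : ℕ → ℕ} (hg : Rep φ g f) (hh : Rep φ h f') : Rep φ (g * h) fun k => f (f' k) :=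
  fun k => by rw [map_mul, Equiv.Perm.mul_apply, hg, hh]

/-- The elements of a checked program. -/
theorem prog_mem {T : ℕ → ℕ → ℕ} {K : Subgroup G} {s : ℕ} {ops : List (ℕ × ℕ)}
    (h0 : ∀ i < s, ∃ u ∈ K, Rep φ u (T i)) (h : ∀ i < ops.length, stepOK T N s ops i = true) :
    ∀ i < s + ops.length, ∃ u ∈ K, Rep φ u (T i) := by
  intro i
  induction i using Nat.strong_induction_on with
  | _ i ih =>
    intro hi
    rcases Nat.lt_or_ge i s with hs | hs
    · exact h0 i hs
    · obtain ⟨j, rfl⟩ := Nat.exists_eq_add_of_le hs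
      have hj := h j (by omega)
      simp only [stepOK, force_eq, Bool.and_eq_true, Nat.blt_eq, List.all_eq_true, List.mem_range, Nat.beq_eq] at hj
      obtain ⟨⟨ha, hb⟩, he⟩ := hj
      obtain ⟨u, hu, ru⟩ := ih _ ha (ha.trans hi)
      obtain ⟨v, hv, rv⟩ := ih _ hb (hb.trans hi)
      exact ⟨u * v, mul_mem hu hv, fun k => by rw [(ru.mul rv) k]; exact (he k k.2).symm⟩

variable {S : ℕ → ℕ → ℕ} {ns : ℕ} {K : Subgroup G}

theorem word_rep (hS : ∀ x < ns, ∃ u ∈ K, Rep φ u (S x)) :
    ∀ w : List ℕ, (∀ x ∈ w, x < ns) → ∃ u ∈ K, Rep φ u (evw S w)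
  | [], _ => ⟨1, one_mem K, fun k => by rw [map_one]; rfl⟩
  | x :: w, hw => by
    obtain ⟨u, hu, ru⟩ := hS x (hw x List.mem_cons_self)
    obtain ⟨v, hv, rv⟩ := word_rep hS w fun y hy => hw y (List.mem_cons_of_mem _ hy)
    exact ⟨u * v, mul_mem hu hv, fun k => by rw [evw_cons]; exact (ru.mul rv) k⟩

theorem fixes_mul {l : List ℕ} {g h : G} (hg : g ∈ fixes φ l) (hh : h ∈ fixes φ l) : g * h ∈ fixes φ l :=
  fun k hk => by rw [map_mul, Equiv.Perm.mul_apply, hh k hk, hg k hk]

theorem one_le_fixes [Finite G] (l : List ℕ) : 1 ≤ (fixes φ l).ncard :=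
  (Set.ncard_pos (Set.toFinite _)).2 ⟨1, fun k _ => by rw [map_one]; rfl⟩

/-- The representatives of a level and the elements fixing one more point multiply injectively. -/
theorem level_facts (hS : ∀ x < ns, ∃ u ∈ K, Rep φ u (S x)) {L : Lvl} {Ls : List Lvl} {fixed : List ℕ}
    (h : chainOK S N ns (L :: Ls) fixed = true) :
    ∃ (u : Fin L.k → G) (hu : ∀ i, u i ∈ fixes φ fixed), (∀ i : Fin L.k, u i ∈ K ∧ Rep φ (u i) (evw S (L.word i))) ∧
      Function.Injective fun z : Fin L.k × fixes φ (fixed ++ [L.b]) =>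
        (⟨u z.1 * z.2.1, fixes_mul (hu z.1) fun k hk => z.2.2 k (List.mem_append_left _ hk)⟩ : fixes φ fixed) := by
  simp only [chainOK, Bool.and_eq_true, List.all_eq_true, Nat.beq_eq, Nat.blt_eq, List.mem_range] at h
  obtain ⟨⟨hb, hw⟩, -⟩ := h
  choose u hu using fun i : Fin L.k => word_rep hS (L.word i) (hw i i.2).1.1
  refine ⟨u, fun i k hk => Fin.ext ?_, hu, ?_⟩
  · rw [(hu i).2]
    exact (hw i i.2).1.2 k hk
  · rintro ⟨i, y⟩ ⟨j, z⟩ e
    have e1 : u i * y.1 = u j * z.1 := congrArg Subtype.val e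
    have e2 := congrArg Fin.val (Equiv.congr_fun (congrArg φ e1) ⟨L.b, hb⟩)
    rw [map_mul, map_mul, Equiv.Perm.mul_apply, Equiv.Perm.mul_apply,
      y.2 ⟨L.b, hb⟩ (List.mem_append_right _ List.mem_cons_self),
      z.2 ⟨L.b, hb⟩ (List.mem_append_right _ List.mem_cons_self), (hu i).2, (hu j).2] at e2
    have hij : i = j := Fin.ext (by rw [← (hw i i.2).2, ← (hw j j.2).2, e2])
    subst hij
    exact Prod.ext rfl (Subtype.ext (mul_left_cancel e1))

theorem chain_le [Finite G] (hS : ∀ x < ns, ∃ u ∈ K, Rep φ u (S x)) : ∀ (Ls : List Lvl) (fixed : List ℕ),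
    chainOK S N ns Ls fixed = true →
      chainSize Ls * (fixes φ (fixed ++ Ls.map Lvl.b)).ncard ≤ (fixes φ fixed).ncard
  | [], fixed, _ => by simp [chainSize]
  | L :: Ls, fixed, h => by
    obtain ⟨u, hu, -, hf⟩ := level_facts hS h
    simp only [chainOK, Bool.and_eq_true] at h
    have ih := chain_le hS Ls (fixed ++ [L.b]) h.2
    have key := Nat.card_le_card_of_injective _ hf
    rw [Nat.card_prod, Nat.card_coe_set_eq, Nat.card_coe_set_eq, Nat.card_eq_fintype_card, Fintype.card_fin] at key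
    calc chainSize (L :: Ls) * (fixes φ (fixed ++ (L :: Ls).map Lvl.b)).ncard
        = L.k * (chainSize Ls * (fixes φ ((fixed ++ [L.b]) ++ Ls.map Lvl.b)).ncard) := by
          simp [chainSize, List.append_assoc, mul_assoc]
      _ ≤ L.k * (fixes φ (fixed ++ [L.b])).ncard := Nat.mul_le_mul_left _ ih
      _ ≤ _ := key

/-- In a chain of full size every element fixing the earlier points starts with a representative. -/
theorem chain_step [Finite G] (hS : ∀ x < ns, ∃ u ∈ K, Rep φ u (S x)) {L : Lvl} {Ls : List Lvl} {fixed : List ℕ}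
    (h : chainOK S N ns (L :: Ls) fixed = true) (hc : (fixes φ fixed).ncard ≤ chainSize (L :: Ls)) :
    (fixes φ (fixed ++ [L.b])).ncard ≤ chainSize Ls ∧
    ∀ g ∈ fixes φ fixed, ∃ i < L.k, ∃ u ∈ K, Rep φ u (evw S (L.word i)) ∧ u⁻¹ * g ∈ fixes φ (fixed ++ [L.b]) := by
  obtain ⟨u, hu, hK, hf⟩ := level_facts hS h
  simp only [chainOK, Bool.and_eq_true] at h
  have lo : chainSize Ls ≤ (fixes φ (fixed ++ [L.b])).ncard :=
    le_trans (Nat.le_mul_of_pos_right _ (one_le_fixes _)) (chain_le hS Ls (fixed ++ [L.b]) h.2)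
  have hsize : chainSize (L :: Ls) = L.k * chainSize Ls := by simp [chainSize]
  have hle := Nat.card_le_card_of_injective _ hf
  rw [Nat.card_prod, Nat.card_coe_set_eq, Nat.card_coe_set_eq, Nat.card_eq_fintype_card, Fintype.card_fin] at hle
  have hpos : 0 < L.k := by
    by_contra h0
    have := one_le_fixes (φ := φ) fixed
    rw [hsize, show L.k = 0 by omega, zero_mul] at hc
    omega
  refine ⟨Nat.le_of_mul_le_mul_left (hle.trans (hsize ▸ hc)) hpos, fun g hg => ?_⟩
  have hb := hf.bijective_of_nat_card_le (by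
    rw [Nat.card_prod, Nat.card_coe_set_eq, Nat.card_coe_set_eq, Nat.card_eq_fintype_card, Fintype.card_fin]
    exact (hsize ▸ hc).trans (Nat.mul_le_mul_left _ lo))
  obtain ⟨⟨i, y⟩, e⟩ := hb.2 ⟨g, hg⟩
  refine ⟨i, i.2, u i, (hK i).1, (hK i).2, ?_⟩
  have e' : u i * y.1 = g := congrArg Subtype.val e
  rw [← e', inv_mul_cancel_left]
  exact y.2

theorem fixes_nil : fixes φ [] = Set.univ := Set.eq_univ_of_forall fun _ _ hk => absurd hk List.not_mem_nil

/-- In a chain of full size every element is a product of representatives. -/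
theorem chain_mem [Finite G] (hφ : Function.Injective φ) (hS : ∀ x < ns, ∃ u ∈ K, Rep φ u (S x)) {Ls : List Lvl}
    (h : chainOK S N ns Ls [] = true) (hc : Nat.card G ≤ chainSize Ls) (g : G) : g ∈ K := by
  suffices H : ∀ (Ls : List Lvl) (fixed : List ℕ), chainOK S N ns Ls fixed = true →
      (fixes φ fixed).ncard ≤ chainSize Ls → ∀ g ∈ fixes φ fixed, g ∈ K from
    H Ls [] h (by rw [fixes_nil, Set.ncard_univ]; exact hc) g (fixes_nil (φ := φ) ▸ Set.mem_univ g)
  intro Ls
  induction Ls with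
  | nil =>
    intro fixed _ hc g hg
    rw [(Set.ncard_le_one (Set.toFinite _)).1 hc g hg 1 fun k _ => by rw [map_one]; rfl]
    exact one_mem K
  | cons L Ls ih =>
    intro fixed h hc g hg
    obtain ⟨h1, h2⟩ := chain_step hS h hc
    obtain ⟨i, -, u, hu, -, hy⟩ := h2 g hg
    have := ih (fixed ++ [L.b]) (by simp only [chainOK, Bool.and_eq_true] at h; exact h.2) h1 _ hy
    simpa using mul_mem hu this

theorem evw_append (S : ℕ → ℕ → ℕ) (v w : List ℕ) (b : ℕ) : evw S (v ++ w) b = evw S v (evw S w b) :=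
  List.foldr_append ..

/-- Pairs of letters are inverse to each other. -/
def PairInv (S : ℕ → ℕ → ℕ) (N ns : ℕ) : Prop :=
  ∀ x < ns, ∀ k < N, S (bif x % 2 == 0 then x + 1 else x - 1) (S x k) = k

theorem evw_invw (hS : ∀ x < ns, ∃ u ∈ K, Rep φ u (S x)) (hp : PairInv S N ns) :
    ∀ w : List ℕ, (∀ x ∈ w, x < ns) → ∀ k : Fin N, evw S (invw w) (evw S w k) = k
  | [], _, k => rfl
  | x :: w, hw, k => by
    obtain ⟨v, -, rv⟩ := word_rep hS w fun y hy => hw y (List.mem_cons_of_mem _ hy)
    rw [invw, List.map_cons, List.reverse_cons, evw_append]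
    rw [evw_cons S x w, evw_cons S _ [], show ∀ b, evw S [] b = b from fun _ => rfl]
    rw [hp x (hw x List.mem_cons_self) _ (rv k ▸ (φ v k).2)]
    exact evw_invw hS hp w (fun y hy => hw y (List.mem_cons_of_mem _ hy)) k

theorem srch_sound_aux [Finite G] (hS : ∀ x < ns, ∃ u ∈ K, Rep φ u (S x)) (hp : PairInv S N ns) {pi sg : ℕ → ℕ}
    {leaf : List ℕ → Bool} {a c g : G} (ha : Rep φ a pi) (hc' : Rep φ c sg) (e : g * a = c * g) :
    ∀ (Ls : List Lvl) (fixed us : List ℕ) (prev : List (ℕ × ℕ)) (h : G),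
      chainOK S N ns Ls fixed = true → (fixes φ fixed).ncard ≤ chainSize Ls → (∀ x ∈ us, x < ns) →
      Rep φ h (evw S us) → h⁻¹ * g ∈ fixes φ fixed →
      (∀ z ∈ prev, ∃ k : Fin N, (k : ℕ) = z.1 ∧ (φ g k : ℕ) = z.2) →
      srch S pi sg leaf Ls us prev = true →
      ∃ us', leaf us' = true ∧ (∀ x ∈ us', x < ns) ∧ Rep φ g (evw S us')
  | [], fixed, us, _, h, _, hc, hus, hh, hm, _, hs => by
    refine ⟨us, hs, hus, ?_⟩
    rw [show g = h from (inv_mul_eq_one.1 ((Set.ncard_le_one (Set.toFinite _)).1 hc _ hm 1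
      fun k _ => by rw [map_one]; rfl)).symm]
    exact hh
  | L :: Ls, fixed, us, prev, h, hok, hc, hus, hh, hm, hprev, hs => by
    obtain ⟨h1, h2⟩ := chain_step hS hok hc
    obtain ⟨i, hi, u, -, hu, hy⟩ := h2 _ hm
    simp only [chainOK, Bool.and_eq_true, List.all_eq_true, Nat.beq_eq, Nat.blt_eq, List.mem_range] at hok
    obtain ⟨⟨hb, hwd⟩, hok'⟩ := hok
    have hgb : (φ g ⟨L.b, hb⟩ : ℕ) = evw S us (evw S (L.word i) L.b) := by
      have e' := hy ⟨L.b, hb⟩ (List.mem_append_right _ List.mem_cons_self)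
      rw [show g = h * u * (u⁻¹ * (h⁻¹ * g)) by group, map_mul, Equiv.Perm.mul_apply, e', map_mul,
        Equiv.Perm.mul_apply, hh, hu]
    have hus' : ∀ x ∈ us ++ L.word i, x < ns := fun x hx =>
      (List.mem_append.1 hx).elim (hus x) fun hx => (hwd i hi).1.1 x hx
    have hh' : Rep φ (h * u) (evw S (us ++ L.word i)) := fun k => by rw [(hh.mul hu) k, evw_append]
    have hm' : (h * u)⁻¹ * g ∈ fixes φ (fixed ++ [L.b]) := by rwa [mul_inv_rev, mul_assoc]
    have hprev' : ∀ v, v = (φ g ⟨L.b, hb⟩ : ℕ) → ∀ z ∈ prev ++ [(L.b, v)],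
        ∃ k : Fin N, (k : ℕ) = z.1 ∧ (φ g k : ℕ) = z.2 := by
      intro v hv z hz
      rcases List.mem_append.1 hz with hz | hz
      · exact hprev z hz
      · rw [List.mem_singleton] at hz
        exact ⟨⟨L.b, hb⟩, by rw [hz], by rw [hz, hv]⟩
    rw [srch] at hs
    split at hs
    · rename_i z hz
      obtain ⟨k, hk, hkz⟩ := hprev z (List.mem_of_find?_eq_some hz)
      have hzb : pi z.1 = L.b := Nat.eq_of_beq_eq_true (List.find?_some hz :)
      have hak : φ a k = ⟨L.b, hb⟩ := Fin.ext (by rw [ha, hk, hzb])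
      have hsg : sg z.2 = evw S us (evw S (L.word i) L.b) := by
        rw [← hgb, ← hak, ← Equiv.Perm.mul_apply, ← map_mul, e, map_mul, Equiv.Perm.mul_apply, hc', hkz]
      have hinv : evw S (invw us) (sg z.2) = evw S (L.word i) L.b := by
        rw [hsg]
        have hlt : evw S (L.word i) L.b < N := (hu ⟨L.b, hb⟩) ▸ (φ u ⟨L.b, hb⟩).2
        exact evw_invw hS hp us hus ⟨_, hlt⟩
      rw [hinv, (hwd i hi).2, show Nat.blt i L.k = true by rw [Nat.blt_eq]; exact hi, Nat.beq_refl] at hs
      exact srch_sound_aux hS hp ha hc' e Ls _ _ _ (h * u) hok' h1 hus' hh' hm'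
        (hprev' _ (by rw [hgb, hsg])) hs
    · exact srch_sound_aux hS hp ha hc' e Ls _ _ _ (h * u) hok' h1 hus' hh' hm' (hprev' _ hgb.symm)
        (List.all_eq_true.1 hs i (List.mem_range.2 hi))

/-- The search finds every element conjugating one permutation into another. -/
theorem srch_sound [Finite G] (hS : ∀ x < ns, ∃ u ∈ K, Rep φ u (S x)) (hp : PairInv S N ns) {pi sg : ℕ → ℕ}
    {leaf : List ℕ → Bool} {Ls : List Lvl} (hok : chainOK S N ns Ls [] = true) (hc : Nat.card G ≤ chainSize Ls)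
    (hs : srch S pi sg leaf Ls [] [] = true) {g a c : G} (ha : Rep φ a pi) (hc' : Rep φ c sg) (e : g * a = c * g) :
    ∃ us, leaf us = true ∧ (∀ x ∈ us, x < ns) ∧ Rep φ g (evw S us) :=
  srch_sound_aux hS hp ha hc' e Ls [] [] [] 1 hok (by rw [fixes_nil, Set.ncard_univ]; exact hc) (by simp)
    (fun k => by rw [map_one]; rfl) (by rw [fixes_nil]; exact Set.mem_univ _) (by simp) hs

/-- The search may be split over the first orbit. -/
theorem srch_first {pi sg : ℕ → ℕ} {leaf : List ℕ → Bool} {L : Lvl} {Ls : List Lvl} (c n : ℕ) (hn : L.k ≤ c * n)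
    (h : ∀ j < n, (List.range' (c * j) c).all (fun i => !Nat.blt i L.k ||
      srch S pi sg leaf Ls (L.word i) [(L.b, evw S (L.word i) L.b)]) = true) :
    srch S pi sg leaf (L :: Ls) [] [] = true := by
  simp only [srch, List.find?_nil, List.all_eq_true, List.mem_range, List.nil_append]
  intro i hi
  have hc : 0 < c := by
    by_contra hc
    rw [show c = 0 by omega, zero_mul] at hn
    omega
  have hj : i / c < n := (Nat.div_lt_iff_lt_mul hc).2 (by rw [mul_comm]; omega)
  have h1 := Nat.mod_lt i hc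
  have h2 := Nat.div_add_mod i c
  have := List.all_eq_true.1 (h _ hj) i (List.mem_range'_1.2 ⟨by omega, by omega⟩)
  rw [show Nat.blt i L.k = true by rw [Nat.blt_eq]; exact hi, Bool.not_true, Bool.false_or] at this
  exact this

end Cfsg.Agent.Lie.PermTable
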