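import Cfsg.Agent.Lib.Lie.CentralLocal
import Cfsg.Agent.Lib.Solv.Universal
import Cfsg.Agent.Lib.Lie.CentralTorsion
import Cfsg.Prelude.Def_KGroupFacts

/-!
Schur multipliers from one stem extension and bounds for the parts of all stem kernels: in a perfect group a
stem extension whose kernel is as large as any stem kernel covers every stem extension.
-/

set_option autoImplicit false

namespace Cfsg.Agent.Lie.CoverUniversal

open Cfsg.Agent.Lie
open scoped commutatorElement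

universe u

/-- A stem extension of a perfect group is perfect. -/
theorem perfect_of_stem {E G : Type*} [Group E] [Group G] (hperf : commutator G = ⊤) {π : E →* G}
    (hπ : Cfsg.IsStemExtension π) : commutator E = ⊤ := by
  refine top_le_iff.1 fun x _ => ?_
  have hx : π x ∈ (commutator E).map π := by
    rw [commutator_def, Subgroup.map_commutator, ← MonoidHom.range_eq_map, MonoidHom.range_eq_top.2 hπ.1,
      ← commutator_def, hperf]
    trivial
  obtain ⟨y, hy, e⟩ := hx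
  have h : y⁻¹ * x ∈ commutator E := hπ.2.2 (by rw [MonoidHom.mem_ker, map_mul, map_inv, e, inv_mul_cancel])
  simpa using mul_mem hy h

/-- A stem extension with the largest kernel gives the multiplier. -/
theorem hasSchur_of {G : Type u} [Group G] [Finite G] (hperf : commutator G = ⊤) {A : Type*} [CommGroup A]
    [Finite A]
    (hex : ∃ (E : Type u) (_ : Group E) (_ : Finite E) (π : E →* G),
      Cfsg.IsStemExtension π ∧ Nonempty (π.ker ≃* A))
    (hle : ∀ (Γ : Type u) [Group Γ] [Finite Γ] (σ : Γ →* G), Cfsg.IsStemExtension σ → Nat.card σ.ker ≤ Nat.card A) :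
    Cfsg.HasSchurMultiplier G A := by
  refine ⟨hex, fun Γ _ _ σ hσ => ?_⟩
  obtain ⟨E, _, _, π, hπ, ⟨e⟩⟩ := hex
  obtain ⟨D, _, _, ψ, φ, hD, hψ, hcomm, hc⟩ := Solv.exists_common_cover (Group.isPerfect_def.2 hperf)
    (Group.isPerfect_def.2 (perfect_of_stem hperf hπ)) π hπ.1 hπ.2.1 σ hσ.1 hσ.2.1
  have hτ : Cfsg.IsStemExtension (π.comp ψ) :=
    ⟨hπ.1.comp hψ, hc, by rw [Group.IsPerfect.commutator_eq_top]; exact le_top⟩
  have hcard := hle D (π.comp ψ) hτ
  rw [← Nat.card_congr e.toEquiv] at hcard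
  have hDE : Nat.card D ≤ Nat.card E := by
    rw [← Subgroup.card_mul_index (π.comp ψ).ker, ← Subgroup.card_mul_index π.ker, Subgroup.index_ker,
      Subgroup.index_ker, MonoidHom.range_eq_top.2 hτ.1, MonoidHom.range_eq_top.2 hπ.1]
    exact Nat.mul_le_mul_right _ hcard
  have hbij : Function.Bijective ψ := hψ.bijective_of_nat_card_le hDE
  obtain ⟨f, hfψ⟩ : ∃ f : E →* Γ, ∀ d, f (ψ d) = φ d :=
    ⟨φ.comp (MulEquiv.ofBijective ψ hbij).symm.toMonoidHom, fun d =>
      congrArg φ ((MulEquiv.ofBijective ψ hbij).symm_apply_apply d)⟩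
  have hσf : ∀ x, σ (f x) = π x := fun x => by
    obtain ⟨d, rfl⟩ := hψ x
    rw [hfψ]
    exact (DFunLike.congr_fun hcomm d).symm
  have hrange : commutator Γ ≤ f.range := by
    rw [commutator_def, Subgroup.commutator_le]
    intro a _ b _
    obtain ⟨x, hx⟩ := hπ.1 (σ a)
    obtain ⟨y, hy⟩ := hπ.1 (σ b)
    obtain ⟨z, hz, rfl⟩ := CentralTable.exists_central hσ.2.1 (x := a) (y := f x) (by rw [hσf, hx])
    obtain ⟨w, hw, rfl⟩ := CentralTable.exists_central hσ.2.1 (x := b) (y := f y) (by rw [hσf, hy])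
    refine ⟨⁅x, y⁆, ?_⟩
    rw [map_commutatorElement, commutatorElement_def, commutatorElement_def, mul_inv_rev, mul_inv_rev]
    symm
    calc f x * z * (f y * w) * (z⁻¹ * (f x)⁻¹) * (w⁻¹ * (f y)⁻¹)
        = f x * (z * (f y * w) * z⁻¹) * (f x)⁻¹ * (w⁻¹ * (f y)⁻¹) := by group
      _ = f x * (f y * w) * (f x)⁻¹ * (w⁻¹ * (f y)⁻¹) := by rw [hz, mul_inv_cancel_right]
      _ = f x * f y * (w * (f x)⁻¹ * w⁻¹) * (f y)⁻¹ := by group
      _ = f x * f y * (f x)⁻¹ * (f y)⁻¹ := by rw [hw, mul_inv_cancel_right]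
  let g : π.ker →* σ.ker :=
    (f.comp π.ker.subtype).codRestrict σ.ker fun x => (hσf x).trans x.2
  refine ⟨g.comp e.symm.toMonoidHom, fun k => ?_⟩
  obtain ⟨x, hx⟩ := hrange (hσ.2.2 k.2)
  have hxk : x ∈ π.ker := by rw [MonoidHom.mem_ker, ← hσf, hx]; exact k.2
  exact ⟨e ⟨x, hxk⟩, Subtype.ext (by
    show f ((e.symm (e ⟨x, hxk⟩) : π.ker) : E) = (k : Γ)
    rw [e.symm_apply_apply, hx])⟩

/-- The order of a group kills every stem kernel. -/
theorem pow_card_eq_one_of_stem {Γ G : Type*} [Group Γ] [Group G] [Finite Γ] [Finite G] {σ : Γ →* G}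
    (hσ : Cfsg.IsStemExtension σ) (z : σ.ker) : z ^ Nat.card G = 1 := by
  obtain ⟨k, hk, hkz⟩ := CentralCoded.pow_index_mem_commutator hσ.1 hσ.2.1 hσ.2.2 (⊥ : Subgroup G) z
  have h : commutator ((⊥ : Subgroup G).comap σ) ≤ ⊥ := by
    rw [commutator_def, Subgroup.commutator_le]
    intro a _ b _
    rw [Subgroup.mem_bot, commutatorElement_eq_one_iff_mul_comm]
    exact Subtype.ext (Subgroup.mem_center_iff.1 (hσ.2.1 (b.2 : σ (b : Γ) = 1)) a)
  rw [Subgroup.mem_bot.1 (h hk), Subgroup.index_bot] at hkz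
  exact Subtype.ext (by rw [SubgroupClass.coe_pow, ← hkz]; rfl)

/-- The part of a stem kernel at a prime is bounded by the kernels of that exponent. -/
theorem part_le {G : Type u} [Group G] [Finite G] {q e m B : ℕ} (hq : q.Prime) (hG : Nat.card G = q ^ e * m)
    (hm : ¬ q ∣ m)
    (hB : ∀ (Δ : Type u) [Group Δ] [Finite Δ] (τ : Δ →* G), Cfsg.IsStemExtension τ →
      (∀ z : τ.ker, z ^ (q ^ e) = 1) → Nat.card τ.ker ≤ B)
    {Γ : Type u} [Group Γ] [Finite Γ] {σ : Γ →* G} (hσ : Cfsg.IsStemExtension σ) :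
    q ^ (Nat.card σ.ker).factorization q ≤ B := by
  haveI : Fact q.Prime := ⟨hq⟩
  letI : CommGroup σ.ker := { (inferInstance : Group σ.ker) with
    mul_comm := fun a b => Subtype.ext (Subgroup.mem_center_iff.1 (hσ.2.1 b.2) a) }
  obtain ⟨N, hN⟩ : ∃ N, N = ((powMonoidHom (q ^ e) : σ.ker →* σ.ker).range).map σ.ker.subtype := ⟨_, rfl⟩
  have hNK : N ≤ σ.ker := hN ▸ Subgroup.map_subtype_le _
  haveI : N.Normal := ⟨fun n hn g => by
    rwa [Subgroup.mem_center_iff.1 (hσ.2.1 (hNK hn)) g, mul_inv_cancel_right]⟩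
  obtain ⟨τ, hτ⟩ : ∃ τ : Γ ⧸ N →* G, ∀ x : Γ, τ x = σ x :=
    ⟨QuotientGroup.lift N σ hNK, fun x => rfl⟩
  have hker : ∀ z : τ.ker, ∃ k : σ.ker, ((k : Γ) : Γ ⧸ N) = z := fun z => by
    obtain ⟨x, hx⟩ := QuotientGroup.mk_surjective (z : Γ ⧸ N)
    exact ⟨⟨x, MonoidHom.mem_ker.2 (by rw [← hτ, hx]; exact z.2)⟩, hx⟩
  have hst : Cfsg.IsStemExtension τ := by
    refine ⟨fun g => ?_, fun z hz => ?_, fun z hz => ?_⟩
    · obtain ⟨x, rfl⟩ := hσ.1 g
      exact ⟨x, hτ x⟩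
    · obtain ⟨k, hk⟩ := hker ⟨z, hz⟩
      refine Subgroup.mem_center_iff.2 fun y => ?_
      obtain ⟨y, rfl⟩ := QuotientGroup.mk_surjective y
      rw [← show ((k : Γ) : Γ ⧸ N) = z from hk, ← QuotientGroup.mk_mul, ← QuotientGroup.mk_mul,
        Subgroup.mem_center_iff.1 (hσ.2.1 k.2) y]
    · obtain ⟨k, hk⟩ := hker ⟨z, hz⟩
      rw [← show ((k : Γ) : Γ ⧸ N) = z from hk]
      have h := Subgroup.mem_map_of_mem (QuotientGroup.mk' N) (hσ.2.2 k.2)
      rw [commutator_def, Subgroup.map_commutator] at h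
      exact Subgroup.commutator_mono le_top le_top h
  have hexp : ∀ z : τ.ker, z ^ (q ^ e) = 1 := fun z => by
    obtain ⟨k, hk⟩ := hker z
    refine Subtype.ext ?_
    rw [SubgroupClass.coe_pow, ← hk, ← QuotientGroup.mk_pow]
    exact (QuotientGroup.eq_one_iff _).2 (hN ▸ ⟨k ^ (q ^ e), ⟨k, rfl⟩, by simp⟩)
  refine le_trans ?_ (hB _ τ hst hexp)
  obtain ⟨P⟩ : Nonempty (Sylow q σ.ker) := inferInstance
  rw [← P.card_eq_multiplicity]
  refine Nat.card_le_card_of_injective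
    (fun x : P => (⟨((x : σ.ker) : Γ), MonoidHom.mem_ker.2 (by rw [hτ]; exact (x : σ.ker).2)⟩ : τ.ker)) ?_
  intro a b hab
  have h1 : (((a : σ.ker) : Γ))⁻¹ * ((b : σ.ker) : Γ) ∈ N := QuotientGroup.eq.1 (congrArg Subtype.val hab)
  obtain ⟨w, ⟨y, rfl⟩, hw⟩ := hN ▸ h1
  have hc : (a⁻¹ * b : P).1 = y ^ (q ^ e) := Subtype.ext hw.symm
  have hpm : ((a⁻¹ * b : P) : σ.ker) ^ m = 1 := by
    rw [hc, ← pow_mul, ← hG, pow_card_eq_one_of_stem hσ y]
  obtain ⟨r, hr⟩ := P.isPGroup' (a⁻¹ * b)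
  have hr' : ((a⁻¹ * b : P) : σ.ker) ^ (q ^ r) = 1 := by rw [← SubgroupClass.coe_pow, hr]; rfl
  have h := pow_gcd_eq_one.2 ⟨hpm, hr'⟩
  rw [Nat.Coprime.gcd_eq_one (((hq.coprime_iff_not_dvd.2 hm).symm).pow_right r), pow_one] at h
  exact inv_mul_eq_one.1 (Subtype.ext h)

/-- A number without primes other than two is the product of its parts. -/
theorem eq_two_parts {n p q : ℕ} (hn : n ≠ 0) (hp : p.Prime) (hq : q.Prime) (hpq : p ≠ q)
    (h : ∀ r : ℕ, r.Prime → r ∣ n → r = p ∨ r = q) :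
    n = p ^ n.factorization p * q ^ n.factorization q := by
  refine Nat.eq_of_factorization_eq hn (mul_ne_zero (pow_ne_zero _ hp.ne_zero) (pow_ne_zero _ hq.ne_zero))
    fun r => ?_
  rw [Nat.factorization_mul (pow_ne_zero _ hp.ne_zero) (pow_ne_zero _ hq.ne_zero), hp.factorization_pow,
    hq.factorization_pow, Finsupp.add_apply, Finsupp.single_apply, Finsupp.single_apply]
  by_cases h1 : p = r
  · subst h1
    rw [if_pos rfl, if_neg (Ne.symm hpq), add_zero]
  by_cases h2 : q = r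
  · subst h2
    rw [if_neg h1, if_pos rfl, zero_add]
  rw [if_neg h1, if_neg h2, add_zero]
  by_contra hr
  have hr' := Finsupp.mem_support_iff.2 hr
  rw [Nat.support_factorization, Nat.mem_primeFactors] at hr'
  rcases h r hr'.1 hr'.2.1 with e | e
  exacts [h1 e.symm, h2 e.symm]

end Cfsg.Agent.Lie.CoverUniversal
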