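import Cfsg.Agent.Lib.Lie.GolayCover
import Cfsg.Agent.Lib.Lie.CentralTorsion

/-!
Multipliers with parts at two and three from cocycles, commuting pairs and bounds of the two parts.
-/

set_option autoImplicit false

namespace Cfsg.Agent.Lie.CoverAssemble

open Cfsg Cfsg.Agent.Lie CoverCocycle

/-- The product of two cocycles. -/
def prod {G A B : Type*} [Mul G] [Add A] [Add B] (c : Cocycle G A) (d : Cocycle G B) : Cocycle G (A × B) where
  f a b := (c.f a b, d.f a b)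
  isCocycle a b l := Prod.ext (c.isCocycle a b l) (d.isCocycle a b l)

/-- A subgroup of a product with coprime factors is everything when both projections are. -/
theorem span_three {B : Type*} [AddCommGroup B] (h4 : ∀ b : B, (4 : ℕ) • b = 0)
    (S : AddSubgroup (ZMod 3 × B)) {x : ZMod 3 × B} (hx : x ∈ S) (hx1 : x.1 ≠ 0)
    (h2 : ∀ b : B, ∃ y ∈ S, y.2 = b) : S = ⊤ := by
  refine top_le_iff.1 fun z _ => ?_
  obtain ⟨y, hy, hy2⟩ := h2 z.2
  have h94 : ∀ b : B, (9 : ℕ) • b = b := fun b => by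
    rw [show (9 : ℕ) = 1 + (4 + 4) from rfl, add_nsmul, add_nsmul, h4, add_zero, add_zero, one_nsmul]
  have h9 : ∀ a : ZMod 3, (9 : ℕ) • a = 0 := by decide
  have h3 : ∀ a b : ZMod 3, a ≠ 0 → ∃ i : Fin 3, (i : ℕ) • ((4 : ℕ) • a) = b := by decide
  obtain ⟨i, hi⟩ := h3 x.1 z.1 hx1
  have e : z = (i : ℕ) • ((4 : ℕ) • x) + (9 : ℕ) • y := by
    refine Prod.ext ?_ ?_
    · rw [Prod.fst_add, Prod.smul_fst, Prod.smul_fst, Prod.smul_fst, hi, h9, add_zero]
    · rw [Prod.snd_add, Prod.smul_snd, Prod.smul_snd, Prod.smul_snd, h4, nsmul_zero, zero_add, h94, hy2]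
  rw [e]
  exact add_mem (nsmul_mem (nsmul_mem hx _) _) (nsmul_mem hy _)

/-- The same with the even factor first. -/
theorem span_four {B : Type*} [AddCommGroup B] (h3 : ∀ b : B, (3 : ℕ) • b = 0)
    (S : AddSubgroup (ZMod 4 × B)) {x : ZMod 4 × B} (hx : x ∈ S) (hx1 : x.1 = 1)
    (h2 : ∀ b : B, ∃ y ∈ S, y.2 = b) : S = ⊤ := by
  refine top_le_iff.1 fun z _ => ?_
  obtain ⟨y, hy, hy2⟩ := h2 z.2
  have h43 : ∀ b : B, (4 : ℕ) • b = b := fun b => by
    rw [show (4 : ℕ) = 1 + 3 from rfl, add_nsmul, h3, add_zero, one_nsmul]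
  have h4 : ∀ a : ZMod 4, (4 : ℕ) • a = 0 := by decide
  have h1 : ∀ b : ZMod 4, ∃ i : Fin 4, (i : ℕ) • ((3 : ℕ) • (1 : ZMod 4)) = b := by decide
  obtain ⟨i, hi⟩ := h1 z.1
  have e : z = (i : ℕ) • ((3 : ℕ) • x) + (4 : ℕ) • y := by
    refine Prod.ext ?_ ?_
    · rw [Prod.fst_add, Prod.smul_fst, Prod.smul_fst, Prod.smul_fst, hx1, hi, h4, add_zero]
    · rw [Prod.snd_add, Prod.smul_snd, Prod.smul_snd, Prod.smul_snd, h3, nsmul_zero, zero_add, h43, hy2]
  rw [e]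
  exact add_mem (nsmul_mem (nsmul_mem hx _) _) (nsmul_mem hy _)

universe u

/-- The multiplier of a perfect group whose other primes divide the order once. -/
theorem hasSchur {G : Type u} [Group G] [Finite G] (hperf : commutator G = ⊤) {A : Type} [AddCommGroup A]
    [Finite A] (c : Cocycle G A) (hc : Cfsg.IsStemExtension (proj c))
    (hrest : ∀ q : ℕ, q.Prime → q ^ 2 ∣ Nat.card G → q = 2 ∨ q = 3) {B2 B3 : ℕ}
    (h2 : ∀ (Γ : Type u) [Group Γ] [Finite Γ] (σ : Γ →* G), Cfsg.IsStemExtension σ →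
      2 ^ (Nat.card σ.ker).factorization 2 ≤ B2)
    (h3 : ∀ (Γ : Type u) [Group Γ] [Finite Γ] (σ : Γ →* G), Cfsg.IsStemExtension σ →
      3 ^ (Nat.card σ.ker).factorization 3 ≤ B3)
    (hA : B2 * B3 ≤ Nat.card A) : Cfsg.HasSchurMultiplier G (Multiplicative A) := by
  refine CoverUniversal.hasSchur_of hperf ⟨Ext c, inferInstance, inferInstance, proj c, hc, ⟨kerEquiv c⟩⟩
    fun Γ _ _ σ hσ => ?_
  rw [Nat.card_congr (Multiplicative.toAdd (α := A)), CoverUniversal.eq_two_parts Nat.card_pos.ne' Nat.prime_two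
    Nat.prime_three (by norm_num) (fun r hr hd => ?_)]
  · exact (Nat.mul_le_mul (h2 Γ σ hσ) (h3 Γ σ hσ)).trans hA
  by_contra hne
  haveI : Fact r.Prime := ⟨hr⟩
  obtain ⟨z, hz⟩ := exists_prime_orderOf_dvd_card' r hd
  have h1 : z = 1 := CentralTable.ker_no_torsion hσ hr (fun h => hne (hrest r hr h)) z (hz ▸ pow_orderOf_eq_one z)
  rw [h1, orderOf_one] at hz
  exact hr.one_lt.ne hz

end Cfsg.Agent.Lie.CoverAssemble
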