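import Cfsg.Agent.Lib.Lie.CentralLocal

/-!
Central extensions by corestricted cocycles. A cocycle on a tabulated subgroup is valid as soon as left and right
translations on the sheets commute; summed over a set with transversal elements it gives a cocycle on the group.
The extension is a stem extension when commutators of lifts of commuting pairs span the kernel.
-/

set_option autoImplicit false

namespace Cfsg.Agent.Lie.CoverCocycle

open Cfsg.Agent.Lie
open scoped commutatorElement

/-- A two-cocycle with values in an abelian group with trivial action. -/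
def IsCocycle {G A : Type*} [Mul G] [Add A] (f : G → G → A) : Prop :=
  ∀ a b c, f a b + f (a * b) c = f b c + f a (b * c)

theorem IsCocycle.add {G A : Type*} [Mul G] [AddCommSemigroup A] {f f' : G → G → A} (h : IsCocycle f)
    (h' : IsCocycle f') : IsCocycle fun a b => f a b + f' a b := fun a b c => by
  show f a b + f' a b + (f (a * b) c + f' (a * b) c) = f b c + f' b c + (f a (b * c) + f' a (b * c))
  rw [add_add_add_comm, h a b c, h' a b c, add_add_add_comm]

theorem IsCocycle.map {G A B : Type*} [Mul G] [AddZeroClass A] [AddZeroClass B] (φ : A →+ B) {f : G → G → A}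
    (h : IsCocycle f) : IsCocycle fun a b => φ (f a b) := fun a b c => by
  show φ (f a b) + φ (f (a * b) c) = φ (f b c) + φ (f a (b * c))
  rw [← map_add, ← map_add, h]

/-- A cocycle. -/
structure Cocycle (G A : Type*) [Mul G] [Add A] where
  /-- the function -/
  f : G → G → A
  isCocycle : IsCocycle f

/-- The extension of a cocycle. -/
@[ext]
structure Ext {G A : Type*} [Group G] [AddCommGroup A] (c : Cocycle G A) where
  /-- the image -/
  fst : G
  /-- the coordinate in the kernel -/
  snd : A

section Ext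

variable {G A : Type*} [Group G] [AddCommGroup A] (c : Cocycle G A)

theorem cocycle_one_left (g : G) : c.f 1 g = c.f 1 1 := by
  have h := c.isCocycle 1 1 g
  rw [one_mul, one_mul] at h
  exact (add_right_cancel h).symm

instance : Mul (Ext c) := ⟨fun p q => ⟨p.fst * q.fst, p.snd + q.snd + c.f p.fst q.fst⟩⟩

instance : One (Ext c) := ⟨⟨1, -c.f 1 1⟩⟩

instance : Inv (Ext c) := ⟨fun p => ⟨p.fst⁻¹, -p.snd - c.f p.fst⁻¹ p.fst - c.f 1 1⟩⟩

theorem fst_mul (p q : Ext c) : (p * q).fst = p.fst * q.fst := rfl

theorem snd_mul (p q : Ext c) : (p * q).snd = p.snd + q.snd + c.f p.fst q.fst := rfl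

instance : Group (Ext c) :=
  Group.ofLeftAxioms
    (fun p q r => by
      refine Ext.ext (mul_assoc _ _ _) ?_
      simp only [snd_mul, fst_mul]
      have h := c.isCocycle p.fst q.fst r.fst
      calc p.snd + q.snd + c.f p.fst q.fst + r.snd + c.f (p.fst * q.fst) r.fst
          = p.snd + q.snd + r.snd + (c.f p.fst q.fst + c.f (p.fst * q.fst) r.fst) := by abel
        _ = p.snd + q.snd + r.snd + (c.f q.fst r.fst + c.f p.fst (q.fst * r.fst)) := by rw [h]
        _ = _ := by abel)
    (fun p => by
      refine Ext.ext (one_mul _) ?_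
      show -c.f 1 1 + p.snd + c.f 1 p.fst = p.snd
      rw [cocycle_one_left c p.fst]; abel)
    (fun p => by
      refine Ext.ext (inv_mul_cancel _) ?_
      show -p.snd - c.f p.fst⁻¹ p.fst - c.f 1 1 + p.snd + c.f p.fst⁻¹ p.fst = -c.f 1 1
      abel)

/-- The projection. -/
def proj : Ext c →* G where
  toFun p := p.fst
  map_one' := rfl
  map_mul' _ _ := rfl

theorem proj_surjective : Function.Surjective (proj c) := fun g => ⟨⟨g, 0⟩, rfl⟩

instance [Finite G] [Finite A] : Finite (Ext c) :=
  Finite.of_injective (fun p : Ext c => (p.fst, p.snd)) fun p q h => by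
    simp only [Prod.mk.injEq] at h
    exact Ext.ext h.1 h.2

theorem cocycle_one_right (g : G) : c.f g 1 = c.f 1 1 := by
  have h := c.isCocycle g 1 1
  rw [mul_one, mul_one] at h
  exact add_right_cancel h

theorem ker_central : (proj c).ker ≤ Subgroup.center (Ext c) := by
  intro p hp
  have hp1 : p.fst = 1 := hp
  refine Subgroup.mem_center_iff.2 fun q => Ext.ext ?_ ?_
  · rw [fst_mul, fst_mul, hp1, one_mul, mul_one]
  · rw [snd_mul, snd_mul, hp1, cocycle_one_right c q.fst, cocycle_one_left c q.fst]
    abel

/-- The kernel. -/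
def kerEquiv : (proj c).ker ≃* Multiplicative A where
  toFun p := Multiplicative.ofAdd (p.1.snd + c.f 1 1)
  invFun a := ⟨⟨1, Multiplicative.toAdd a - c.f 1 1⟩, rfl⟩
  left_inv p := Subtype.ext (Ext.ext (MonoidHom.mem_ker.1 p.2).symm (by
    show p.1.snd + c.f 1 1 - c.f 1 1 = p.1.snd
    abel))
  right_inv a := by
    show Multiplicative.ofAdd (Multiplicative.toAdd a - c.f 1 1 + c.f 1 1) = a
    rw [sub_add_cancel, ofAdd_toAdd]
  map_mul' p q := by
    have hp : p.1.fst = 1 := p.2
    have hq : q.1.fst = 1 := q.2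
    show Multiplicative.ofAdd ((p.1 * q.1).snd + c.f 1 1) =
      Multiplicative.ofAdd (p.1.snd + c.f 1 1) * Multiplicative.ofAdd (q.1.snd + c.f 1 1)
    rw [← ofAdd_add, snd_mul, hp, hq]
    congr 1
    abel

/-- The commutator of the lifts of commuting elements. -/
theorem commutator_lift {g h : G} (e : g * h = h * g) :
    (⟨1, c.f g h - c.f h g - c.f 1 1⟩ : Ext c) ∈ commutator (Ext c) := by
  have he : (⟨g, 0⟩ : Ext c) * ⟨h, 0⟩ = ⟨1, c.f g h - c.f h g - c.f 1 1⟩ * (⟨h, 0⟩ * ⟨g, 0⟩) := by
    refine Ext.ext ?_ ?_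
    · rw [fst_mul, fst_mul, fst_mul, one_mul, e]
    · simp only [snd_mul, fst_mul, cocycle_one_left]
      abel
  rw [show (⟨1, c.f g h - c.f h g - c.f 1 1⟩ : Ext c) = ⁅(⟨g, 0⟩ : Ext c), ⟨h, 0⟩⁆ by
    rw [commutatorElement_def, mul_assoc (_ * _), ← mul_inv_rev, eq_mul_inv_iff_mul_eq, ← he]]
  exact Subgroup.commutator_mem_commutator (Subgroup.mem_top _) (Subgroup.mem_top _)

/-- The extension is a stem extension when commuting pairs give values spanning the kernel. -/
theorem stem {ι : Type*} (a b : ι → G) (hab : ∀ i, a i * b i = b i * a i)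
    (hspan : AddSubgroup.closure (Set.range fun i => c.f (a i) (b i) - c.f (b i) (a i)) = ⊤) :
    Cfsg.IsStemExtension (proj c) := by
  refine ⟨proj_surjective c, ker_central c, fun p hp => ?_⟩
  let S : AddSubgroup A :=
    { carrier := {v | (⟨1, v - c.f 1 1⟩ : Ext c) ∈ commutator (Ext c)}
      zero_mem' := by
        show (⟨1, 0 - c.f 1 1⟩ : Ext c) ∈ commutator (Ext c)
        rw [show (⟨1, 0 - c.f 1 1⟩ : Ext c) = 1 from Ext.ext rfl (zero_sub _)]
        exact one_mem _
      add_mem' := fun {u v} hu hv => by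
        show (⟨1, u + v - c.f 1 1⟩ : Ext c) ∈ commutator (Ext c)
        rw [show (⟨1, u + v - c.f 1 1⟩ : Ext c) = ⟨1, u - c.f 1 1⟩ * ⟨1, v - c.f 1 1⟩ from
          Ext.ext (one_mul 1).symm (by
            show u + v - c.f 1 1 = u - c.f 1 1 + (v - c.f 1 1) + c.f 1 1
            abel)]
        exact mul_mem hu hv
      neg_mem' := fun {u} hu => by
        show (⟨1, -u - c.f 1 1⟩ : Ext c) ∈ commutator (Ext c)
        rw [show (⟨1, -u - c.f 1 1⟩ : Ext c) = (⟨1, u - c.f 1 1⟩ : Ext c)⁻¹ from
          eq_inv_of_mul_eq_one_left (Ext.ext (one_mul 1) (by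
            show -u - c.f 1 1 + (u - c.f 1 1) + c.f 1 1 = -c.f 1 1
            abel))]
        exact inv_mem hu }
  have hS : AddSubgroup.closure (Set.range fun i => c.f (a i) (b i) - c.f (b i) (a i)) ≤ S := by
    refine (AddSubgroup.closure_le _).2 ?_
    rintro _ ⟨i, rfl⟩
    exact commutator_lift c (hab i)
  have h : (⟨1, p.snd + c.f 1 1 - c.f 1 1⟩ : Ext c) ∈ commutator (Ext c) :=
    hS (hspan ▸ AddSubgroup.mem_top (p.snd + c.f 1 1))
  rwa [show (⟨1, p.snd + c.f 1 1 - c.f 1 1⟩ : Ext c) = p from
    Ext.ext (MonoidHom.mem_ker.1 hp).symm (add_sub_cancel_right _ _)] at h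

end Ext

/-- Sheets over a table: the end and the value of a word. -/
def walk (C : CentralLocal.Cert) (val : ℕ → ℕ) : ℕ → List ℕ → ℕ × ℕ
  | i, [] => (i, 0)
  | i, s :: w =>
    match walk C val (C.step i s) w with
    | (e, v) => (e, val (C.edge i s) + v)

/-- Left translation by a generator commutes with the right translations at an element. -/
def leftOK (C : CentralLocal.Cert) (val : ℕ → ℕ) (n i : ℕ) : Bool :=
  (List.range C.k).all fun s => (List.range C.k).all fun t =>
    match walk C val 0 (s :: C.wd i), walk C val 0 (s :: C.wd (C.step i t)) with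
    | (e, v), (e', v') => Nat.beq e' (C.step e t) &&
      Nat.beq ((v' + val (C.edge i t)) % n) ((v + val (C.edge e t)) % n)

/-- The words of the elements lead to them with value zero. -/
def treeOK (C : CentralLocal.Cert) (val : ℕ → ℕ) (n i : ℕ) : Bool :=
  match walk C val 0 (C.wd i) with
  | (e, v) => Nat.beq e i && (Nat.beq (v % n) 0 && C.letters (C.wd i))

/-- The product in the table. -/
def mI (C : CentralLocal.Cert) (i j : ℕ) : ℕ := C.endp i (C.wd j)

/-- The cocycle value. -/
def cI (C : CentralLocal.Cert) (val : ℕ → ℕ) (n i j : ℕ) : ZMod n := ((walk C val i (C.wd j)).2 : ZMod n)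

section Table

variable (C : CentralLocal.Cert) (val : ℕ → ℕ) (n : ℕ)

theorem walk_fst : ∀ (w : List ℕ) (i : ℕ), (walk C val i w).1 = C.endp i w
  | [], _ => rfl
  | s :: w, i => by rw [walk, CentralLocal.Cert.endp, ← walk_fst w (C.step i s)]

/-- The value of a word. -/
def pv (i : ℕ) (w : List ℕ) : ZMod n := ((walk C val i w).2 : ZMod n)

theorem pv_cons (i s : ℕ) (w : List ℕ) :
    pv C val n i (s :: w) = (val (C.edge i s) : ZMod n) + pv C val n (C.step i s) w := by
  rw [pv, pv, walk, Nat.cast_add]

theorem endp_append : ∀ (v w : List ℕ) (i : ℕ), C.endp i (v ++ w) = C.endp (C.endp i v) w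
  | [], _, _ => rfl
  | s :: v, w, i => endp_append v w (C.step i s)

theorem pv_append : ∀ (v w : List ℕ) (i : ℕ),
    pv C val n i (v ++ w) = pv C val n i v + pv C val n (C.endp i v) w
  | [], w, i => by simp [pv, walk, CentralLocal.Cert.endp]
  | s :: v, w, i => by
    rw [List.cons_append, pv_cons, pv_cons, pv_append v w, add_assoc]
    rfl

variable (hstep : ∀ i < C.N, ∀ s < C.k, C.step i s < C.N) (hnpos : 0 < C.N)
  (hw0 : C.wd 0 = []) (hL : ∀ i < C.N, leftOK C val n i = true) (hT : ∀ i < C.N, treeOK C val n i = true)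

include hstep in
theorem endp_lt : ∀ (w : List ℕ), C.letters w = true → ∀ i < C.N, C.endp i w < C.N
  | [], _, _, hi => hi
  | s :: w, hw, i, hi => by
    simp only [CentralLocal.Cert.letters, List.all_cons, Bool.and_eq_true, Nat.blt_eq] at hw
    exact endp_lt w hw.2 _ (hstep i hi s hw.1)

include hT in
theorem tree_spec {i : ℕ} (hi : i < C.N) :
    C.endp 0 (C.wd i) = i ∧ pv C val n 0 (C.wd i) = 0 ∧ C.letters (C.wd i) = true := by
  have h := hT i hi
  unfold treeOK at h
  simp only [Bool.and_eq_true, Nat.beq_eq] at h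
  refine ⟨(walk_fst C val _ _).symm.trans h.1, ?_, h.2.2⟩
  rw [pv, ← ZMod.natCast_mod, h.2.1, Nat.cast_zero]

/-- Left translation by a generator. -/
def left (s : ℕ) (p : ℕ × ZMod n) : ℕ × ZMod n :=
  (C.endp 0 (s :: C.wd p.1), pv C val n 0 (s :: C.wd p.1) + p.2)

/-- Right translation by a word. -/
def right (w : List ℕ) (p : ℕ × ZMod n) : ℕ × ZMod n := (C.endp p.1 w, p.2 + pv C val n p.1 w)

include hstep hL in
theorem left_right {s : ℕ} (hs : s < C.k) : ∀ (w : List ℕ), C.letters w = true → ∀ i < C.N, ∀ a : ZMod n,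
    left C val n s (right C val n w (i, a)) = right C val n w (left C val n s (i, a))
  | [], _, i, _, a => by simp [right, left, pv, walk, CentralLocal.Cert.endp]
  | t :: w, hw, i, hi, a => by
    simp only [CentralLocal.Cert.letters, List.all_cons, Bool.and_eq_true, Nat.blt_eq] at hw
    have hb := hL i hi
    unfold leftOK at hb
    simp only [List.all_eq_true, List.mem_range, Bool.and_eq_true, Nat.beq_eq] at hb
    obtain ⟨h1, h2⟩ := hb s hs t hw.1
    simp only [walk_fst] at h1 h2
    have he : C.endp 0 (s :: C.wd (C.step i t)) = C.step (C.endp 0 (s :: C.wd i)) t := h1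
    have hv : pv C val n 0 (s :: C.wd (C.step i t)) + (val (C.edge i t) : ZMod n) =
        pv C val n 0 (s :: C.wd i) + (val (C.edge (C.endp 0 (s :: C.wd i)) t) : ZMod n) := by
      rw [pv, pv, ← Nat.cast_add, ← Nat.cast_add]
      exact (ZMod.natCast_eq_natCast_iff' _ _ _).2 h2
    have e1 : right C val n (t :: w) (i, a) = right C val n w (C.step i t, a + (val (C.edge i t) : ZMod n)) := by
      simp only [right, pv_cons, CentralLocal.Cert.endp, add_assoc]
    have e2 : ∀ p : ℕ × ZMod n, right C val n (t :: w) p =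
        right C val n w (C.step p.1 t, p.2 + (val (C.edge p.1 t) : ZMod n)) := fun p => by
      simp only [right, pv_cons, CentralLocal.Cert.endp, add_assoc]
    rw [e1, left_right hs w hw.2 _ (hstep i hi t hw.1), e2]
    congr 1
    refine Prod.ext he ?_
    simp only [left]
    rw [← add_assoc, add_comm (pv C val n 0 (s :: C.wd (C.step i t))) a, add_assoc, hv]
    abel

include hstep hnpos hw0 hT hL in
/-- Words with equal effect on the base act equally everywhere. -/
theorem right_eq {u u' : List ℕ} (hu : C.letters u = true) (hu' : C.letters u' = true) {δ : ZMod n}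
    (h : ∀ a, right C val n u (0, a) = ((right C val n u' (0, a)).1, (right C val n u' (0, a)).2 + δ)) :
    ∀ (w : List ℕ), C.letters w = true → ∀ a, right C val n u (right C val n w (0, a)) =
      ((right C val n u' (right C val n w (0, a))).1, (right C val n u' (right C val n w (0, a))).2 + δ)
  | [], _, a => by
    have : right C val n [] ((0 : ℕ), a) = (0, a) := by simp [right, pv, walk, CentralLocal.Cert.endp]
    rw [this]
    exact h a
  | s :: w, hw, a => by
    simp only [CentralLocal.Cert.letters, List.all_cons, Bool.and_eq_true, Nat.blt_eq] at hw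
    have hb : right C val n (s :: w) (0, a) = left C val n s (right C val n w (0, a)) := by
      rw [left_right C val n hstep hL hw.1 w hw.2 0 hnpos a]
      simp only [right, left, hw0, pv_cons, CentralLocal.Cert.endp]
      refine Prod.ext rfl ?_
      simp only [pv, walk, Nat.cast_add, Nat.cast_zero, add_zero]
      abel
    have hi : (right C val n w (0, a)).1 < C.N := endp_lt C hstep w hw.2 0 hnpos
    have key : ∀ v, C.letters v = true → right C val n v (left C val n s (right C val n w (0, a))) =
        left C val n s (right C val n v (right C val n w (0, a))) := fun v hv =>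
      (left_right C val n hstep hL hw.1 v hv _ hi _).symm
    rw [hb, key u hu, key u' hu', right_eq hu hu' h w hw.2 a]
    simp only [left]
    rw [add_assoc]

include hstep hnpos hw0 hT hL in
/-- The table gives a monoid law and a cocycle. -/
theorem table_cocycle {i j l : ℕ} (hi : i < C.N) (hj : j < C.N) (hl : l < C.N) :
    mI C (mI C i j) l = mI C i (mI C j l) ∧
      cI C val n i j + cI C val n (mI C i j) l = cI C val n j l + cI C val n i (mI C j l) := by
  obtain ⟨hei, hvi, hwi⟩ := tree_spec C val n hT hi
  obtain ⟨hej, hvj, hwj⟩ := tree_spec C val n hT hj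
  obtain ⟨-, -, hwl⟩ := tree_spec C val n hT hl
  have hjl : mI C j l < C.N := endp_lt C hstep _ hwl j hj
  obtain ⟨hem, hvm, hwm⟩ := tree_spec C val n hT hjl
  have hu : C.letters (C.wd j ++ C.wd l) = true := by
    rw [CentralLocal.Cert.letters, List.all_append, Bool.and_eq_true]
    exact ⟨hwj, hwl⟩
  have key := right_eq C val n hstep hnpos hw0 hL hT hu hwm (δ := cI C val n j l) (fun a => by
    simp only [right, endp_append, pv_append, hej, hem, hvj, hvm, zero_add, add_zero]
    rfl) (C.wd i) hwi 0
  simp only [right, hei, hvi, zero_add, endp_append, pv_append, Prod.mk.injEq] at key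
  refine ⟨key.1, ?_⟩
  rw [show cI C val n i j + cI C val n (mI C i j) l =
    pv C val n i (C.wd j) + pv C val n (C.endp i (C.wd j)) (C.wd l) from rfl, key.2]
  exact add_comm _ _

end Table

/-- A cocycle on a subgroup, read on elements of the group. -/
structure Local (G A : Type*) [Group G] [AddCommGroup A] where
  /-- the subgroup -/
  H : Subgroup G
  /-- the function -/
  c : G → G → A
  cocycle : ∀ a ∈ H, ∀ b ∈ H, ∀ l ∈ H, c a b + c (a * b) l = c b l + c a (b * l)

section Sum

variable {G A Ω : Type*} [Group G] [AddCommGroup A] [Fintype Ω] [MulAction G Ω]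

/-- The factor of an element at a point. -/
def fac (rep : Ω → G) (g : G) (x : Ω) : G := (rep (g • x))⁻¹ * g * rep x

/-- The corestriction. -/
def cor (D : Local G A) (rep : Ω → G) (hrep : ∀ g x, fac rep g x ∈ D.H) : Cocycle G A where
  f g h := ∑ x : Ω, D.c (fac rep g (h • x)) (fac rep h x)
  isCocycle := by
    intro a b c
    have hmul : ∀ (g h : G) (x : Ω), fac rep (g * h) x = fac rep g (h • x) * fac rep h x := fun g h x => by
      simp only [fac, mul_smul]
      group
    have e : ∑ x : Ω, D.c (fac rep a (b • x)) (fac rep b x) =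
        ∑ x : Ω, D.c (fac rep a (b • c • x)) (fac rep b (c • x)) :=
      (Equiv.sum_comp (MulAction.toPerm c) fun x => D.c (fac rep a (b • x)) (fac rep b x)).symm
    show ∑ x : Ω, D.c (fac rep a (b • x)) (fac rep b x) + ∑ x : Ω, D.c (fac rep (a * b) (c • x)) (fac rep c x) =
      ∑ x : Ω, D.c (fac rep b (c • x)) (fac rep c x) + ∑ x : Ω, D.c (fac rep a ((b * c) • x)) (fac rep (b * c) x)
    rw [e, ← Finset.sum_add_distrib, ← Finset.sum_add_distrib]
    refine Finset.sum_congr rfl fun x _ => ?_
    rw [hmul, hmul, mul_smul]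
    exact D.cocycle _ (hrep _ _) _ (hrep _ _) _ (hrep _ _)

end Sum

end Cfsg.Agent.Lie.CoverCocycle
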