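import Cfsg.Agent.Lib.Lie.CentralBound
import Cfsg.Agent.Lib.Lie.CoverCocycle

/-!
Cocycles of a tabulated subgroup summed over its cosets, and their values on commuting pairs read from
coset tables of single elements.
-/

set_option autoImplicit false

namespace Cfsg.Agent.Lie.CoverTable

open Cfsg.Agent.Lie CoverCocycle
open Cfsg.Agent.Lie.CentralLocal (ev)

variable {C : CentralLocal.Cert} {G : Type*} [Group G] (D : CentralBound.Data C G)

/-- The table read in the group itself. -/
def idSetup : CentralLocal.Setup C G G where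
  σ := MonoidHom.id G
  central := fun z hz => by
    rw [show z = 1 from hz]
    exact one_mem _
  exponent := fun z => Subtype.ext (by
    rw [SubgroupClass.coe_pow, show (z : G) = 1 from z.2, one_pow, OneMemClass.coe_one])
  code := D.code
  x := D.gen
  code_step := D.code_step
  code_one := D.code_one
  code_inj := D.code_inj
  valid := D.valid

/-- The element with a number. -/
def el (i : ℕ) : G := ev D.gen (C.wd i)

/-- The tabulated subgroup. -/
def sub : Subgroup G := Subgroup.closure (D.gen '' {s | s < C.k})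

theorem el_code {i : ℕ} (hi : i < C.N) : D.code (el D i) = C.elt.get i := (idSetup D).code_t i hi

theorem el_one : el D 0 = 1 := (idSetup D).base.1

theorem el_inj {i j : ℕ} (hi : i < C.N) (hj : j < C.N) (h : el D i = el D j) : i = j :=
  (idSetup D).elt_inj D.ord_ok i hi j hj (by rw [← el_code D hi, ← el_code D hj, h])

include D in
theorem wd_letters {i : ℕ} (hi : i < C.N) : C.letters (C.wd i) = true := by
  induction i using Nat.strong_induction_on with
  | _ i ih =>
    rcases Nat.eq_zero_or_pos i with rfl | h0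
    · have h := D.valid.tree 0 D.valid.npos
      simp only [CentralLocal.Cert.treeCheck, show Nat.beq 0 0 = true from rfl, cond_true, Bool.and_eq_true,
        List.isEmpty_iff] at h
      rw [h.1]; rfl
    have h := D.valid.tree i hi
    rw [CentralLocal.Cert.treeCheck, show Nat.beq i 0 = false by rw [← Bool.not_eq_true, Nat.beq_eq]; omega] at h
    simp only [cond_false, Bool.and_eq_true, Nat.blt_eq, beq_iff_eq, Nat.beq_eq] at h
    have hp := ih _ h.1 (h.1.trans hi)
    rw [h.2.2.1, CentralLocal.Cert.letters, List.all_append, Bool.and_eq_true]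
    exact ⟨hp, by simp [Nat.blt_eq, h.2.1]⟩

theorem el_mul {i j : ℕ} (hi : i < C.N) (hj : j < C.N) : mI C i j < C.N ∧ el D i * el D j = el D (mI C i j) :=
  (idSetup D).code_walk (C.wd j) hi (wd_letters D hj)

theorem el_mem {i : ℕ} (hi : i < C.N) : el D i ∈ sub D :=
  Subgroup.list_prod_mem _ fun y hy => by
    obtain ⟨s, hs, rfl⟩ := List.mem_map.1 hy
    exact Subgroup.subset_closure ⟨s, Nat.blt_eq.mp (List.all_eq_true.1 (wd_letters D hi) s hs), rfl⟩

theorem exists_el [Finite G] {g : G} (hg : g ∈ sub D) : ∃ i, i < C.N ∧ el D i = g := by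
  have hg' : g ∈ Submonoid.closure (D.gen '' {s | s < C.k}) := by
    have : g ∈ (sub D).toSubmonoid := hg
    rwa [sub, Subgroup.closure_toSubmonoid_of_finite] at this
  clear hg
  induction hg' using Submonoid.closure_induction_right with
  | one => exact ⟨0, D.valid.npos, el_one D⟩
  | mul_right g hg y hy ih =>
    obtain ⟨s, hs, rfl⟩ := hy
    obtain ⟨i, hi, rfl⟩ := ih
    exact ⟨C.step i s, (idSetup D).step_lt hi hs, ((idSetup D).step_image hi hs).symm⟩

theorem card_sub [Finite G] : Nat.card (sub D) = C.N := (idSetup D).card_image D.ord_ok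

open Classical in
/-- The number of an element of the subgroup. -/
noncomputable def num (g : G) : ℕ := if h : ∃ i, i < C.N ∧ el D i = g then h.choose else 0

theorem num_el {i : ℕ} (hi : i < C.N) : num D (el D i) = i := by
  have h : ∃ j, j < C.N ∧ el D j = el D i := ⟨i, hi, rfl⟩
  rw [num, dif_pos h]
  exact el_inj D h.choose_spec.1 hi h.choose_spec.2

/-- The cocycle of the table. -/
noncomputable def loc [Finite G] (val : ℕ → ℕ) (n : ℕ) (hL : ∀ i < C.N, leftOK C val n i = true)
    (hT : ∀ i < C.N, treeOK C val n i = true) : Local G (ZMod n) where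
  H := sub D
  c a b := cI C val n (num D a) (num D b)
  cocycle := by
    intro a ha b hb l hl
    obtain ⟨i, hi, rfl⟩ := exists_el D ha
    obtain ⟨j, hj, rfl⟩ := exists_el D hb
    obtain ⟨m, hm, rfl⟩ := exists_el D hl
    rw [(el_mul D hi hj).2, (el_mul D hj hm).2]
    simp only [num_el D hi, num_el D hj, num_el D hm, num_el D (el_mul D hi hj).1, num_el D (el_mul D hj hm).1]
    have hw0 : C.wd 0 = [] := by
      have h := D.valid.tree 0 D.valid.npos
      simp only [CentralLocal.Cert.treeCheck, show Nat.beq 0 0 = true from rfl, cond_true, Bool.and_eq_true,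
        List.isEmpty_iff] at h
      exact h.1
    exact (table_cocycle C val n (fun i hi s hs => (idSetup D).step_lt hi hs) D.valid.npos hw0 hL hT hi hj hm).2

/-- The action of an element on the listed cosets. -/
def Moves (n : ℕ) (T : ℕ → G) (x : G) (p η : ℕ → ℕ) : Prop :=
  ∀ j < n, p j < n ∧ η j < C.N ∧ x * T j = T (p j) * el D (η j)

/-- A list of all cosets. -/
structure Cos where
  /-- their number -/
  n : ℕ
  npos : 0 < n
  /-- representatives -/
  T : ℕ → G
  T_zero : T 0 = 1
  card : Nat.card G = C.N * n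
  moves : ∃ S : Set G, Subgroup.closure S = ⊤ ∧ ∀ x ∈ S, ∃ p η, Moves D n T x p η

variable {D} [Finite G] (K : Cos D)

theorem Cos.surj : Function.Surjective fun j : Fin K.n => (K.T j : G ⧸ sub D) := by
  obtain ⟨S, hS, hmv⟩ := K.moves
  have h : ∀ g ∈ Submonoid.closure S, ∀ j < K.n, ∃ i, i < K.n ∧ (K.T i : G ⧸ sub D) = ((g * K.T j : G) : G ⧸ sub D) := by
    intro g hg
    induction hg using Submonoid.closure_induction with
    | mem x hx =>
      intro j hj
      obtain ⟨p, η, h⟩ := hmv x hx
      obtain ⟨h1, h2, h3⟩ := h j hj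
      refine ⟨p j, h1, ?_⟩
      rw [h3, QuotientGroup.mk_mul_of_mem _ (el_mem D h2)]
    | one => intro j hj; exact ⟨j, hj, by rw [one_mul]⟩
    | mul a b _ _ iha ihb =>
      intro j hj
      obtain ⟨i, hi, e⟩ := ihb j hj
      obtain ⟨i', hi', e'⟩ := iha i hi
      exact ⟨i', hi', by rw [e', ← smul_eq_mul a, ← MulAction.Quotient.smul_coe, e,
        MulAction.Quotient.smul_coe, smul_eq_mul, mul_assoc]⟩
  intro x
  obtain ⟨g, rfl⟩ := QuotientGroup.mk_surjective x
  obtain ⟨i, hi, e⟩ := h g (by
    rw [← Subgroup.closure_toSubmonoid_of_finite, hS]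
    trivial) 0 K.npos
  exact ⟨⟨i, hi⟩, by rw [K.T_zero, mul_one] at e; exact e⟩

theorem Cos.bij : Function.Bijective fun j : Fin K.n => (K.T j : G ⧸ sub D) := by
  refine K.surj.bijective_of_nat_card_le ?_
  have h := Subgroup.card_mul_index (sub D)
  rw [card_sub, K.card] at h
  rw [Nat.card_fin, show Nat.card (G ⧸ sub D) = (sub D).index from rfl,
    Nat.eq_of_mul_eq_mul_left D.valid.npos h]

/-- The cosets as numbers. -/
noncomputable def Cos.equiv : Fin K.n ≃ G ⧸ sub D := Equiv.ofBijective _ K.bij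

/-- The chosen representative. -/
noncomputable def Cos.rep (x : G ⧸ sub D) : G := K.T (K.equiv.symm x)

theorem Cos.rep_mk (x : G ⧸ sub D) : (K.rep x : G ⧸ sub D) = x := K.equiv.apply_symm_apply x

theorem Cos.fac_mem (g : G) (x : G ⧸ sub D) : fac K.rep g x ∈ sub D := by
  rw [fac, mul_assoc]
  refine QuotientGroup.eq.1 ?_
  conv_lhs => rw [K.rep_mk, ← K.rep_mk x, MulAction.Quotient.smul_coe, smul_eq_mul]

theorem Cos.fac_eq {h : G} {p η : ℕ → ℕ} (hm : Moves D K.n K.T h p η) (j : Fin K.n) :
    h • K.equiv j = K.equiv ⟨p j, (hm j j.2).1⟩ ∧ fac K.rep h (K.equiv j) = el D (η j) := by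
  obtain ⟨h1, h2, h3⟩ := hm j j.2
  have e : h • K.equiv j = K.equiv ⟨p j, h1⟩ := by
    show h • (K.T j : G ⧸ sub D) = (K.T (p j) : G ⧸ sub D)
    rw [MulAction.Quotient.smul_coe, smul_eq_mul, h3, QuotientGroup.mk_mul_of_mem _ (el_mem D h2)]
  refine ⟨e, ?_⟩
  rw [fac, e, Cos.rep, Cos.rep, K.equiv.symm_apply_apply, K.equiv.symm_apply_apply, mul_assoc, h3,
    inv_mul_cancel_left]

variable (val : ℕ → ℕ) (n : ℕ) (hL : ∀ i < C.N, leftOK C val n i = true)
  (hT : ∀ i < C.N, treeOK C val n i = true)

/-- The cocycle on the group. -/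
noncomputable def Cos.cocycle : Cocycle G (ZMod n) :=
  haveI : Fintype (G ⧸ sub D) := Fintype.ofFinite _
  cor (loc D val n hL hT) K.rep K.fac_mem

/-- The value on two elements, before reduction. -/
def evalSum (C : CentralLocal.Cert) (val : ℕ → ℕ) (N : ℕ) (ηg ph ηh : ℕ → ℕ) : ℕ :=
  (List.range N).foldr (fun j a => (walk C val (ηg (ph j)) (C.wd (ηh j))).2 + a) 0

theorem Cos.cocycle_eval {g h : G} {pg ηg ph ηh : ℕ → ℕ} (hg : Moves D K.n K.T g pg ηg)
    (hh : Moves D K.n K.T h ph ηh) :
    (K.cocycle val n hL hT).f g h = (evalSum C val K.n ηg ph ηh : ZMod n) := by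
  letI : Fintype (G ⧸ sub D) := Fintype.ofFinite _
  have hsum : ∀ l : List ℕ, (((l.foldr (fun j a => (walk C val (ηg (ph j)) (C.wd (ηh j))).2 + a) 0) : ℕ) : ZMod n) =
      (l.map fun j => cI C val n (ηg (ph j)) (ηh j)).sum := fun l => by
    induction l with
    | nil => simp
    | cons a l ih => rw [List.foldr_cons, Nat.cast_add, ih, List.map_cons, List.sum_cons]; rfl
  rw [evalSum, hsum]
  show ∑ x : G ⧸ sub D, cI C val n (num D (fac K.rep g (h • x))) (num D (fac K.rep h x)) =
    ((List.range K.n).map fun j => cI C val n (ηg (ph j)) (ηh j)).sum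
  rw [← Equiv.sum_comp K.equiv]
  show _ = ∑ j ∈ Finset.range K.n, cI C val n (ηg (ph j)) (ηh j)
  rw [← Fin.sum_univ_eq_sum_range (fun j => cI C val n (ηg (ph j)) (ηh j))]
  refine Finset.sum_congr rfl fun j _ => ?_
  obtain ⟨e, e'⟩ := K.fac_eq hh j
  rw [e', e, (K.fac_eq hg ⟨ph j, (hh j j.2).1⟩).2]
  rw [num_el D (hg (ph j) (hh j j.2).1).2.1, num_el D (hh j j.2).2.1]

end Cfsg.Agent.Lie.CoverTable
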