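import Cfsg.Agent.Lib.Lie.Steinberg

/-!
A group over GL generated by elements with additivity and the commutator formula carries torus relations.
-/

set_option autoImplicit false

namespace Cfsg.Agent.Lie

open Cfsg.Lie Matrix
open scoped MatrixGroups commutatorElement

variable {D : ChevalleyDatum} {F : Type*} [Field F]

namespace Facts

variable (hF : Facts D) {Γ : Type*} [Group Γ] (S : CommSys hF F Γ) (p : Γ →* GL D.Idx F)
  (hp : ∀ r t, p (S.x r t) = hF.xg r t)

include hp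

theorem cov_prodOver (L : List ℕ) (t : ℕ → F) : p (S.prodOver L t) = (hF.sys F).prodOver L t := by
  rw [CommSys.prodOver, CommSys.prodOver, map_list_prod, List.map_map]
  congr 1
  exact List.map_congr_left fun r _ => hp r _

theorem cov_inj_pos {L : List ℕ} (hL : ClosedList D L) {g g' : Γ}
    (hg : g ∈ S.US L) (hg' : g' ∈ S.US L) (h : p g = p g') : g = g' := by
  obtain ⟨t, rfl⟩ := S.exists_prodOver hL hg
  obtain ⟨t', rfl⟩ := S.exists_prodOver hL hg'
  rw [hF.cov_prodOver S p hp, hF.cov_prodOver S p hp] at h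
  exact S.prodOver_congr fun r hr => hF.prodOver_inj hL h r hr

theorem cov_inj_neg {L : List ℕ} (hL : NegList D L) {g g' : Γ}
    (hg : g ∈ S.US L) (hg' : g' ∈ S.US L) (h : p g = p g') : g = g' := by
  obtain ⟨t, rfl⟩ := S.exists_prodOver_neg hL hg
  obtain ⟨t', rfl⟩ := S.exists_prodOver_neg hL hg'
  rw [hF.cov_prodOver S p hp, hF.cov_prodOver S p hp] at h
  exact S.prodOver_congr fun r hr => hF.prodOver_inj_neg hL h r hr

/-- Transport of the relation `g x_s g⁻¹ = x_{π s}(φ_s t)` from GL to a group over it. -/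
theorem cov_transport (hH : StHyp D) (i : Fin D.rank) (g : Γ)
    (hg : g ∈ Subgroup.closure
      (Set.range (S.x (D.simple i.val)) ∪ Set.range (S.x (D.neg (D.simple i.val)))))
    (π : ℕ → ℕ) (φ : ℕ → F) (hπlt : ∀ s, s < D.nroots → π s < D.nroots)
    (hπinj : ∀ r s, r < D.nroots → s < D.nroots → π r = π s → r = s)
    (hπneg : ∀ s, s < D.nroots → π (D.neg s) = D.neg (π s))
    (hπpos : ∀ s, s ∈ TorusSys.posNe D i → π s ∈ TorusSys.posNe D i)
    (hπn : ∀ s, s ∈ negNe D i → π s ∈ negNe D i)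
    (himg : ∀ s, s < D.nroots → ∀ t, p g * hF.xg s t * (p g)⁻¹ = hF.xg (π s) (φ s * t))
    (hword : ∀ r s, r < D.nroots → s < D.nroots → ∀ t u, D.commWord F (π r) (π s) (φ r * t) (φ s * u) =
      (D.commWord F r s t u).map fun p => (π p.1, φ p.1 * p.2)) :
    ∀ s, s < D.nroots → ∀ t, g * S.x s t * g⁻¹ = S.x (π s) (φ s * t) := by
  obtain ⟨hA, hA', l, hl⟩ := hH
  have hα := hF.simple_lt i.val i.isLt
  have hge := hF.simple_ge i.val i.isLt
  have hnα : D.neg (D.simple i.val) < D.nroots / 2 := by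
    have := hF.neg_eq _ hα
    have := hF.even
    omega
  have hnormP : g ∈ Subgroup.normalizer (S.US (TorusSys.posNe D i) : Set (Γ)) := by
    refine (Subgroup.closure_le _).2 ?_ hg
    rintro _ (⟨t, rfl⟩ | ⟨t, rfl⟩)
    · refine S.x_normalizes hα (fun s hs => ?_) t
      obtain ⟨h1, h2, h3⟩ := TorusSys.mem_posNe.1 hs
      exact ⟨h2, by omega, fun _ c hc => TorusSys.mem_posNe.2
        (hF.term_avoid hl i.isLt hα h2 (Or.inl rfl) h1 h3 hc)⟩
    · refine S.x_normalizes (hF.neg_lt hα) (fun s hs => ?_) t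
      obtain ⟨h1, h2, h3⟩ := TorusSys.mem_posNe.1 hs
      exact ⟨h2, by rw [hF.neg_neg hα]; exact h3, fun _ c hc => TorusSys.mem_posNe.2
        (hF.term_avoid hl i.isLt (hF.neg_lt hα) h2 (Or.inr (Or.inl rfl)) h1 h3 hc)⟩
  have hnormN : g ∈ Subgroup.normalizer (S.US (negNe D i) : Set (Γ)) := by
    refine (Subgroup.closure_le _).2 ?_ hg
    rintro _ (⟨t, rfl⟩ | ⟨t, rfl⟩)
    · refine S.x_normalizes hα (fun s hs => ?_) t
      obtain ⟨h1, h2⟩ := mem_negNe.1 hs
      exact ⟨by omega, h2, fun _ c hc => mem_negNe.2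
        (hF.term_avoid_neg hl i.isLt hα (by omega) (Or.inl rfl) h1 h2 hc)⟩
    · refine S.x_normalizes (hF.neg_lt hα) (fun s hs => ?_) t
      obtain ⟨h1, h2⟩ := mem_negNe.1 hs
      exact ⟨by omega, by rw [hF.neg_neg hα]; omega, fun _ c hc => mem_negNe.2
        (hF.term_avoid_neg hl i.isLt (hF.neg_lt hα) (by omega) (Or.inr (Or.inl rfl)) h1 h2 hc)⟩
  have hgen : ∀ s, s < D.nroots → s ≠ D.simple i.val → s ≠ D.neg (D.simple i.val) → ∀ t,
      g * S.x s t * g⁻¹ = S.x (π s) (φ s * t) := by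
    intro s hs h1 h2 t
    have hpe : p (g * S.x s t * g⁻¹) = p (S.x (π s) (φ s * t)) := by
      rw [map_mul, map_mul, map_inv, hp, hp, himg s hs]
    by_cases hpos : D.nroots / 2 ≤ s
    · have hsL : s ∈ TorusSys.posNe D i := TorusSys.mem_posNe.2 ⟨hpos, hs, h1⟩
      exact hF.cov_inj_pos S p hp (TorusSys.closed_posNe (hF := hF) i)
        ((Subgroup.mem_normalizer_iff.1 hnormP _).1 (S.x_mem_US hsL t))
        (S.x_mem_US (hπpos s hsL) _) hpe
    · have hsL : s ∈ negNe D i := mem_negNe.2 ⟨not_le.1 hpos, h2⟩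
      exact hF.cov_inj_neg S p hp (hF.negList_negNe hl i)
        ((Subgroup.mem_normalizer_iff.1 hnormN _).1 (S.x_mem_US hsL t))
        (S.x_mem_US (hπn s hsL) _) hpe
  have hspec : ∀ a e, okAlpha D a e = true → (a = D.simple i.val ∨ a = D.neg (D.simple i.val)) →
      ∀ t, g * S.x a t * g⁻¹ = S.x (π a) (φ a * t) := by
    intro a e he ha v
    obtain ⟨r, s⟩ := e
    simp only [okAlpha, Bool.and_eq_true, decide_eq_true_eq, bne_iff_ne, beq_iff_eq] at he
    obtain ⟨⟨⟨⟨⟨⟨⟨⟨⟨hr, hs⟩, hr1⟩, hr2⟩, hs1⟩, hs2⟩, hne1⟩, hne2⟩, hlen⟩, hall⟩ := he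
    rw [List.all_eq_true] at hall
    have hoff : ∀ k, k ≠ a → k ≠ D.neg a → k ≠ D.simple i.val ∧ k ≠ D.neg (D.simple i.val) := by
      intro k k1 k2
      rcases ha with rfl | rfl
      · exact ⟨k1, k2⟩
      · rw [hF.neg_neg hα] at k2; exact ⟨k2, k1⟩
    obtain ⟨c, hc, hca⟩ : ∃ c ∈ D.commTerms r s, c.1 = a := by
      obtain ⟨c, hc⟩ := List.exists_mem_of_length_pos (l := (D.commTerms r s).filter fun c => c.1 == a)
        (by omega)
      rw [List.mem_filter, beq_iff_eq] at hc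
      exact ⟨c, hc⟩
    have hc' := hall c hc
    rw [if_pos (by simp [hca])] at hc'
    simp only [Bool.and_eq_true, Bool.or_eq_true, beq_iff_eq] at hc'
    obtain ⟨hC, hij⟩ := hc'
    have hCne : (c.2.1 : F) ≠ 0 := by
      rcases Int.natAbs_eq c.2.1 with h' | h' <;> rw [h', hC] <;> simp
    obtain ⟨t, u, htu⟩ : ∃ t u : F, (c.2.1 : F) * (-t) ^ c.2.2.1 * u ^ c.2.2.2 = v := by
      rcases hij with h | h
      · exact ⟨-(v / c.2.1), 1, by rw [h, _root_.neg_neg, pow_one, one_pow, mul_one, mul_div_cancel₀ _ hCne]⟩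
      · exact ⟨-1, v / c.2.1, by rw [h, _root_.neg_neg, one_pow, mul_one, pow_one, mul_div_cancel₀ _ hCne]⟩
    obtain ⟨r3, r4⟩ := hoff r hr1 hr2
    obtain ⟨s3, s4⟩ := hoff s hs1 hs2
    have h0 := congrArg (fun z => g * z * g⁻¹) (S.x_comm r s hr hs hne1 hne2 t u)
    have hconj : ∀ a b : Γ, g * (a * b) * g⁻¹ = g * a * g⁻¹ * (g * b * g⁻¹) :=
      fun a b => by group
    rw [hconj, hconj, hconj, hgen s hs s3 s4, hgen r hr r3 r4] at h0
    have h1 := S.x_comm (π r) (π s) (hπlt r hr) (hπlt s hs)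
      (fun h => hne1 (hπinj s r hs hr h))
      (fun h => hne2 (hπinj s _ hs (hF.neg_lt hr) (h.trans (hπneg r hr).symm))) (φ r * t) (φ s * u)
    rw [h1, mul_right_inj, hword r s hr hs, List.map_map,
      show ∀ z, g * z * g⁻¹ = (MulAut.conj g).toMonoidHom z from fun z => rfl, map_list_prod,
      List.map_map, ChevalleyDatum.commWord, List.map_map, List.map_map] at h0
    have hm := middle_eq _ _ (fun c => c.1 == a) (D.commTerms r s) h0.symm (fun d hd hda => ?_) hlen c hc
      (by simp [hca])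
    · simp only [Function.comp_apply, hca, htu] at hm
      exact hm
    · have hd' := hall d hd
      rw [if_neg (by simpa using hda)] at hd'
      obtain ⟨d1, d2⟩ := hoff d.1 (by simpa using hda) (by simpa using hd')
      simp only [Function.comp_apply]
      exact hgen d.1 (hF.commTerms_lt hr hs d hd) d1 d2 _
  intro s hs t
  by_cases h1 : s = D.simple i.val
  · obtain ⟨e, he⟩ := hA i.val i.isLt
    exact h1 ▸ hspec _ e he (Or.inl rfl) t
  by_cases h2 : s = D.neg (D.simple i.val)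
  · obtain ⟨e, he⟩ := hA' i.val i.isLt
    exact h2 ▸ hspec _ e he (Or.inr rfl) t
  exact hgen s hs h1 h2 t

theorem cov_nElt (r : ℕ) (t : F) : p (nElt D S.x r t) = hF.ng r t := by
  simp only [nElt, map_mul, hp, hF.ng_eq]

omit hp in
theorem cov_nElt_mem (i : ℕ) (t : F) : nElt D S.x (D.simple i) t ∈ Subgroup.closure
    (Set.range (S.x (D.simple i)) ∪ Set.range (S.x (D.neg (D.simple i)))) :=
  mul_mem (mul_mem (Subgroup.subset_closure (Or.inl ⟨t, rfl⟩))
    (Subgroup.subset_closure (Or.inr ⟨_, rfl⟩))) (Subgroup.subset_closure (Or.inl ⟨t, rfl⟩))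

/-- The system with torus relations. -/
noncomputable def covT (hH : StHyp D) : TorusSys hF F Γ where
  toCommSys := S
  n_conj i hi s hs t := by
    show nElt D (S.x) (D.simple i) 1 * S.x s t * (nElt D (S.x) (D.simple i) 1)⁻¹ =
      S.x _ _
    refine hF.cov_transport S p hp hH ⟨i, hi⟩ _ (hF.cov_nElt_mem S i 1) (D.reflectRoot i) (fun r => hF.sgn F i r)
      (hF.refl_lt i hi) ?_ (hF.refl_neg i hi)
      (fun r hr => TorusSys.refl_posNe (hF := hF) ⟨i, hi⟩ hr) ?_ ?_ ?_ s hs t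
    · intro a b ha hb h
      exact hF.refl_inj hi ha hb h
    · intro r hr
      obtain ⟨h1, h2⟩ := mem_negNe.1 hr
      have hr' : r < D.nroots := by omega
      have hm : D.neg r ∈ TorusSys.posNe D ⟨i, hi⟩ := TorusSys.mem_posNe.2
        ⟨(hF.neg_ge_iff hr').2 h1, hF.neg_lt hr', fun h => h2 (by rw [← h, hF.neg_neg hr'])⟩
      obtain ⟨a, b, c⟩ := TorusSys.mem_posNe.1 (TorusSys.refl_posNe (hF := hF) ⟨i, hi⟩ hm)
      rw [hF.refl_neg i hi r hr'] at a c
      exact mem_negNe.2 ⟨(hF.neg_ge_iff (hF.refl_lt i hi r hr')).1 a,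
        fun h => c (by rw [h, hF.neg_neg (hF.simple_lt i hi)])⟩
    · intro r hr v
      rw [hF.cov_nElt S p hp]
      exact hF.ng_conj i hi r hr v
    · intro r q hr hq v w
      have h := hF.commWord_refl (F := F) hi hr hq (hF.sgn F i r * v) (hF.sgn F i q * w)
      rw [← mul_assoc, ← mul_assoc, hF.sgn_mul_self hi hr, hF.sgn_mul_self hi hq, one_mul, one_mul] at h
      exact h.symm
  h_conj i hi c hc s hs t := by
    show (nElt D (S.x) (D.simple i) c * nElt D (S.x) (D.simple i) (-1)) * S.x s t *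
      (nElt D (S.x) (D.simple i) c * nElt D (S.x) (D.simple i) (-1))⁻¹ = S.x s _
    refine hF.cov_transport S p hp hH ⟨i, hi⟩ _ (mul_mem (hF.cov_nElt_mem S i c) (hF.cov_nElt_mem S i (-1))) id
      (fun r => c ^ D.cartan i r) (fun _ h => h) (fun _ _ _ _ h => h) (fun _ _ => rfl)
      (fun _ h => h) (fun _ h => h) ?_ ?_ s hs t
    · intro r hr v
      rw [map_mul, hF.cov_nElt S p hp, hF.cov_nElt S p hp, ← hF.hg_eq]
      have e : (hF.tsys F).h (D.simple i) c = hF.hg (D.simple i) c := hF.tsys_h _ _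
      rw [← e]
      exact (hF.tsys F).h_conj i hi c hc r hr v
    · intro r q hr hq v w
      simp only [id_eq, ChevalleyDatum.commWord, List.map_map]
      refine List.map_congr_left fun d hd => ?_
      simp only [Function.comp_apply, Prod.mk.injEq, true_and]
      rw [(hF.commTerms_psi hr hq hd).2.2 i hi, zpow_add₀ hc, mul_comm (d.2.2.1 : ℤ),
        mul_comm (d.2.2.2 : ℤ), _root_.zpow_mul, _root_.zpow_mul, zpow_natCast, zpow_natCast,
        show -(c ^ D.cartan i r * v) = c ^ D.cartan i r * -v by ring, mul_pow, mul_pow]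
      ring

end Facts

end Cfsg.Agent.Lie
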