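import Cfsg.Agent.Lib.Lie.WeylCount
import Cfsg.Agent.Lib.Lie.FactsB2

/-! The Weyl group of type B2: presentation and length generating function. -/

set_option autoImplicit false
set_option maxRecDepth 100000

namespace Cfsg.Agent.Lie

open Cfsg.Lie

/-- Orbit data, part. -/
def orbitB2_1p0 : List (List ℤ × ℕ × List ℕ) := [([0, 1], 0, [0, 1]),
    ([2, -1], 1, [2, 0]),
    ([-2, 1], 2, [1, 3]),
    ([0, -1], 3, [3, 2])]

/-- Orbit data. -/
def orbitB2_1 : OrbitStep where
  node := 1
  orbit := orbitB2_1p0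

/-- Orbit data, part. -/
def orbitB2_0p0 : List (List ℤ × ℕ × List ℕ) := [([1, 0], 0, [1]),
    ([-1, 1], 1, [0])]

/-- Orbit data. -/
def orbitB2_0 : OrbitStep where
  node := 0
  orbit := orbitB2_0p0

/-- The orbit chain of type B2. -/
def orbitChainB2 : List OrbitStep := [orbitB2_1, orbitB2_0]

theorem okCorootB2 : Facts.okCoroot chevB2 = true := by decide +kernel

/-- Reflection columns. -/
def colsB2 : List (List ℤ) := [[2, -1], [-2, 2]]

theorem okColsB2 : okCols chevB2 colsB2 = true := by decide +kernel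

theorem okOrbitsB2 : okChainW chevB2 colsB2 (List.range chevB2.rank) orbitChainB2 = true := by decide +kernel

theorem polyB2 : polyEqb (chainPoly orbitChainB2) (polyProd (([2, 4] : List ℕ).map polyGeom)) = true := by decide +kernel

/-- The Coxeter matrix entries. -/
def coxFunB2 (i j : ℕ) : ℕ := if h : i < 2 ∧ j < 2 then (CoxeterMatrix.B 2 : CoxeterMatrix (Fin 2)).M ⟨i, h.1⟩ ⟨j, h.2⟩ else 1

theorem okOrdersB2 : okOrders chevB2 coxFunB2 = true := by decide +kernel

theorem coxeterB2 :
    (∀ i j, (factsB2.refSys.s i * factsB2.refSys.s j) ^ (CoxeterMatrix.B 2 : CoxeterMatrix (Fin chevB2.rank)) i j = 1) ∧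
      ∀ i j (r : ℕ), (factsB2.refSys.s i * factsB2.refSys.s j) ^ r = 1 → (CoxeterMatrix.B 2 : CoxeterMatrix (Fin chevB2.rank)) i j ∣ r :=
  factsB2.orders_of_check _ coxFunB2 (fun i j => by
    unfold coxFunB2
    rw [dif_pos (⟨i.isLt, j.isLt⟩ : i.val < 2 ∧ j.val < 2)]
    exact rfl) okOrdersB2

/-- The Weyl group of type B2 is the Coxeter group. -/
noncomputable def weylEquivB2 : (CoxeterMatrix.B 2 : CoxeterMatrix (Fin chevB2.rank)).Group ≃* factsB2.weyl :=
  factsB2.refSys.coxeterEquiv _ coxeterB2.1 coxeterB2.2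

theorem lenSumB2 (q : ℕ) : factsB2.lenSum (List.range chevB2.rank) q =
    ((([2, 4] : List ℕ).map fun d => ∑ k ∈ Finset.range d, q ^ k)).prod := by
  rw [factsB2.lenSum_chain okCorootB2 okColsB2 orbitChainB2 _ okOrbitsB2 (fun j hj => List.mem_range.1 hj) q, polyEqb_sound q _ _ polyB2, polyEval_prod, List.map_map]
  simp only [Function.comp_def, polyEval_geom]

end Cfsg.Agent.Lie
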