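import Cfsg.Agent.Lib.Lie.WeylCount
import Cfsg.Agent.Lib.Lie.FactsD4

/-! The Weyl group of type D4: presentation and length generating function. -/

set_option autoImplicit false
set_option maxRecDepth 100000

namespace Cfsg.Agent.Lie

open Cfsg.Lie

/-- Orbit data, part. -/
def orbitD4_3p0 : List (List ℤ × ℕ × List ℕ) := [([0, 0, 0, 1], 0, [0, 0, 0, 1]),
    ([0, 1, 0, -1], 1, [1, 2, 1, 0]),
    ([1, -1, 1, 0], 2, [3, 1, 4, 2]),
    ([-1, 0, 1, 0], 3, [2, 3, 5, 3]),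
    ([1, 0, -1, 0], 3, [5, 4, 2, 4]),
    ([-1, 1, -1, 0], 4, [4, 6, 3, 5]),
    ([0, -1, 0, 1], 5, [6, 5, 6, 7]),
    ([0, 0, 0, -1], 6, [7, 7, 7, 6])]

/-- Orbit data. -/
def orbitD4_3 : OrbitStep where
  node := 3
  orbit := orbitD4_3p0

/-- Orbit data, part. -/
def orbitD4_2p0 : List (List ℤ × ℕ × List ℕ) := [([0, 0, 1, 0], 0, [0, 0, 1]),
    ([0, 1, -1, 0], 1, [1, 2, 0]),
    ([1, -1, 0, 1], 2, [3, 1, 2]),
    ([-1, 0, 0, 1], 3, [2, 3, 3])]

/-- Orbit data. -/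
def orbitD4_2 : OrbitStep where
  node := 2
  orbit := orbitD4_2p0

/-- Orbit data, part. -/
def orbitD4_1p0 : List (List ℤ × ℕ × List ℕ) := [([0, 1, 0, 0], 0, [0, 1]),
    ([1, -1, 1, 1], 1, [2, 0]),
    ([-1, 0, 1, 1], 2, [1, 2])]

/-- Orbit data. -/
def orbitD4_1 : OrbitStep where
  node := 1
  orbit := orbitD4_1p0

/-- Orbit data, part. -/
def orbitD4_0p0 : List (List ℤ × ℕ × List ℕ) := [([1, 0, 0, 0], 0, [1]),
    ([-1, 1, 0, 0], 1, [0])]

/-- Orbit data. -/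
def orbitD4_0 : OrbitStep where
  node := 0
  orbit := orbitD4_0p0

/-- The orbit chain of type D4. -/
def orbitChainD4 : List OrbitStep := [orbitD4_3, orbitD4_2, orbitD4_1, orbitD4_0]

theorem okCorootD4 : Facts.okCoroot chevD4 = true := by decide +kernel

/-- Reflection columns. -/
def colsD4 : List (List ℤ) := [[2, -1, 0, 0], [-1, 2, -1, -1], [0, -1, 2, 0], [0, -1, 0, 2]]

theorem okColsD4 : okCols chevD4 colsD4 = true := by decide +kernel

theorem okOrbitsD4 : okChainW chevD4 colsD4 (List.range chevD4.rank) orbitChainD4 = true := by decide +kernel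

theorem polyD4 : polyEqb (chainPoly orbitChainD4) (polyProd (([2, 4, 4, 6] : List ℕ).map polyGeom)) = true := by decide +kernel

/-- The Coxeter matrix entries. -/
def coxFunD4 (i j : ℕ) : ℕ := if h : i < 4 ∧ j < 4 then (Cfsg.Lie.coxeterD4 : CoxeterMatrix (Fin 4)).M ⟨i, h.1⟩ ⟨j, h.2⟩ else 1

theorem okOrdersD4 : okOrders chevD4 coxFunD4 = true := by decide +kernel

theorem coxeterD4 :
    (∀ i j, (factsD4.refSys.s i * factsD4.refSys.s j) ^ (Cfsg.Lie.coxeterD4 : CoxeterMatrix (Fin chevD4.rank)) i j = 1) ∧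
      ∀ i j (r : ℕ), (factsD4.refSys.s i * factsD4.refSys.s j) ^ r = 1 → (Cfsg.Lie.coxeterD4 : CoxeterMatrix (Fin chevD4.rank)) i j ∣ r :=
  factsD4.orders_of_check _ coxFunD4 (fun i j => by
    unfold coxFunD4
    rw [dif_pos (⟨i.isLt, j.isLt⟩ : i.val < 4 ∧ j.val < 4)]
    exact rfl) okOrdersD4

/-- The Weyl group of type D4 is the Coxeter group. -/
noncomputable def weylEquivD4 : (Cfsg.Lie.coxeterD4 : CoxeterMatrix (Fin chevD4.rank)).Group ≃* factsD4.weyl :=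
  factsD4.refSys.coxeterEquiv _ coxeterD4.1 coxeterD4.2

theorem lenSumD4 (q : ℕ) : factsD4.lenSum (List.range chevD4.rank) q =
    ((([2, 4, 4, 6] : List ℕ).map fun d => ∑ k ∈ Finset.range d, q ^ k)).prod := by
  rw [factsD4.lenSum_chain okCorootD4 okColsD4 orbitChainD4 _ okOrbitsD4 (fun j hj => List.mem_range.1 hj) q, polyEqb_sound q _ _ polyD4, polyEval_prod, List.map_map]
  simp only [Function.comp_def, polyEval_geom]

end Cfsg.Agent.Lie
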