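import Cfsg.Agent.Lib.Lie.WeylG2
import Cfsg.Agent.Lib.Lie.WeylB2
import Cfsg.Agent.Lib.Lie.WeylD4
import Cfsg.Agent.Lib.Lie.WeylF4
import Cfsg.Agent.Lib.Lie.WeylE6
import Cfsg.Agent.Lib.Lie.WeylE7
import Cfsg.Agent.Lib.Lie.WeylE8

/-!
The order of a Coxeter element.
-/

set_option autoImplicit false

namespace Cfsg.Agent.Lie

open Cfsg.Lie

/-- The Coxeter word repeated r times, acting on a weight vector, by literal columns. -/
def coxIter (cols : List (List ℤ)) : ℕ → List ℤ → List ℤ
  | 0, x => x
  | r + 1, x => (List.range cols.length).foldr (fun i y => reflW (cols.getD i []) i y) (coxIter cols r x)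

/-- The Coxeter element has order h. -/
def okCox (cols : List (List ℤ)) (h : ℕ) : Bool :=
  decide (0 < h) && cols.all (fun a => coxIter cols h a == a) &&
    (List.range h).all fun r => r == 0 || cols.any fun a => !(coxIter cols r a == a)

/-- The word of r repetitions of all generators. -/
def coxWord (l : ℕ) : ℕ → List (Fin l)
  | 0 => []
  | r + 1 => List.finRange l ++ coxWord l r

theorem pr_coxWord {D : ChevalleyDatum} (hF : Facts D) :
    ∀ r, hF.refSys.pr (coxWord D.rank r) = hF.refSys.pr (List.finRange D.rank) ^ r
  | 0 => rfl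
  | r + 1 => by rw [coxWord, RefSystem.pr_append, pr_coxWord hF r, pow_succ']

theorem actWord_coxWord {D : ChevalleyDatum} {cols : List (List ℤ)}
    (hcols : Facts.okCoroot D = true → okCols D cols = true) (h0 : Facts.okCoroot D = true) :
    ∀ r x, actWord D ((coxWord D.rank r).map Fin.val) x = coxIter cols r x := by
  have hc : cols = (List.range D.rank).map fun i => wList D (D.simple i) := by
    simpa [okCols] using hcols h0
  intro r
  induction r with
  | zero => intro x; rfl
  | succ r ih =>
    intro x
    rw [coxWord, List.map_append, actWord, List.foldr_append,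
      show List.foldr (actW D) x _ = coxIter cols r x from ih x, coxIter,
      List.map_coe_finRange_eq_range, hc]
    simp only [List.length_map, List.length_range]
    generalize coxIter _ r x = y
    have : ∀ L : List ℕ, (∀ i ∈ L, i < D.rank) → L.foldr (actW D) y =
        L.foldr (fun i y => reflW (((List.range D.rank).map fun i => wList D (D.simple i)).getD i []) i y) y := by
      intro L hL
      induction L with
      | nil => rfl
      | cons i L ih' =>
        rw [List.foldr_cons, List.foldr_cons, ih' fun k hk => hL k (List.mem_cons_of_mem _ hk)]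
        simp [actW, List.getElem?_eq_getElem, hL i (by simp)]
    exact this _ fun i hi => List.mem_range.1 hi

theorem orderOf_coxeter {D : ChevalleyDatum} (hF : Facts D) {cols : List (List ℤ)}
    (h0 : Facts.okCoroot D = true) (hcols : okCols D cols = true) {h : ℕ}
    (hok : okCox cols h = true) (M : CoxeterMatrix (Fin D.rank))
    (hM : ∀ i j, (hF.refSys.s i * hF.refSys.s j) ^ M i j = 1)
    (hmin : ∀ i j (r : ℕ), (hF.refSys.s i * hF.refSys.s j) ^ r = 1 → M i j ∣ r) :
    orderOf ((List.finRange D.rank).map M.simple).prod = h := by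
  rw [← orderOf_injective (hF.refSys.coxeterEquiv M hM hmin).toMonoidHom
    (hF.refSys.coxeterEquiv M hM hmin).injective]
  show orderOf (hF.refSys.toW M hM (RefSystem.mpr M (List.finRange D.rank))) = h
  rw [RefSystem.toW_mpr]
  have hc : cols = (List.range D.rank).map fun i => wList D (D.simple i) := by
    simpa [okCols] using hcols
  simp only [okCox, Bool.and_eq_true, decide_eq_true_eq, List.all_eq_true, beq_iff_eq,
    Bool.or_eq_true, List.mem_range, List.any_eq_true, Bool.not_eq_true', beq_eq_false_iff_ne] at hok
  have key : ∀ r, (hF.refSys.pr (List.finRange D.rank) ^ r = 1 ↔ ∀ a ∈ cols, coxIter cols r a = a) := by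
    intro r
    rw [← pr_coxWord hF r]
    constructor
    · intro he a ha
      rw [hc, List.mem_map] at ha
      obtain ⟨m, hm, rfl⟩ := ha
      rw [← actWord_coxWord (fun _ => hcols) h0,
        ← hF.wList_pr _ ⟨D.simple m, hF.simple_lt m (List.mem_range.1 hm)⟩, he, one_smul]
    · intro hall
      refine hF.eq_one_of_fix_simple _ fun m => Fin.ext (hF.wList_inj (Fin.isLt _) (Fin.isLt _) ?_)
      rw [hF.wList_pr, actWord_coxWord (fun _ => hcols) h0]
      exact hall _ (by rw [hc]; exact List.mem_map.2 ⟨m.val, List.mem_range.2 m.isLt, rfl⟩)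
  rw [orderOf_eq_iff hok.1.1]
  refine ⟨(key h).2 hok.1.2, fun r hr hr0 he => ?_⟩
  rcases hok.2 r hr with h' | ⟨a, ha, hne⟩
  · omega
  · exact hne ((key r).1 he a ha)

theorem card_coxeter {D : ChevalleyDatum} (hF : Facts D) (M : CoxeterMatrix (Fin D.rank))
    (e : M.Group ≃* hF.weyl) {degs : List ℕ}
    (h : ∀ q, hF.lenSum (List.range D.rank) q =
      (degs.map fun d => ∑ k ∈ Finset.range d, q ^ k).prod) :
    Nat.card M.Group = degs.prod := by
  rw [Nat.card_congr e.toEquiv, hF.card_weyl, h 1]
  congr 1
  conv_rhs => rw [← List.map_id degs]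
  exact List.map_congr_left fun d _ => by simp

theorem okCoxG2 : okCox colsG2 6 = true := by decide +kernel
theorem okCoxB2 : okCox colsB2 4 = true := by decide +kernel
theorem okCoxD4 : okCox colsD4 6 = true := by decide +kernel
theorem okCoxF4 : okCox colsF4 12 = true := by decide +kernel
theorem okCoxE6 : okCox colsE6 12 = true := by decide +kernel
theorem okCoxE7 : okCox colsE7 18 = true := by decide +kernel
theorem okCoxE8 : okCox colsE8 30 = true := by decide +kernel

end Cfsg.Agent.Lie
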