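import Mathlib

/-!
A group generated by involutions acting on a finite set of roots with positivity has the
Coxeter presentation, and its length function counts inversions.
-/

set_option autoImplicit false

namespace Cfsg.Agent.Lie

/-- Involutions acting on signed roots. -/
structure RefSystem (B W Φ : Type*) [Group W] [MulAction W Φ] where
  s : B → W
  P : Finset Φ
  α : B → Φ
  neg : Φ → Φ
  sq : ∀ i, s i * s i = 1
  gen : Subgroup.closure (Set.range s) = ⊤
  α_mem : ∀ i, α i ∈ P
  neg_mem : ∀ x, neg x ∈ P ↔ x ∉ P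
  neg_neg : ∀ x, neg (neg x) = x
  s_neg : ∀ i x, s i • neg x = neg (s i • x)
  s_α : ∀ i, s i • α i = neg (α i)
  perm : ∀ i x, x ∈ P → x ≠ α i → s i • x ∈ P
  conj : ∀ (w : W) (i j : B), w • α j = α i → w * s j * w⁻¹ = s i

namespace RefSystem

variable {B W Φ : Type*} [Group W] [MulAction W Φ] [DecidableEq Φ] (R : RefSystem B W Φ)

/-- Product of a word. -/
def pr (ω : List B) : W := (ω.map R.s).prod

@[simp] theorem pr_nil : R.pr [] = 1 := rfl

theorem pr_cons (i : B) (ω : List B) : R.pr (i :: ω) = R.s i * R.pr ω := by simp [pr]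

theorem pr_append (ω ω' : List B) : R.pr (ω ++ ω') = R.pr ω * R.pr ω' := by simp [pr]

theorem pr_singleton (i : B) : R.pr [i] = R.s i := by simp [pr]

theorem s_inv (i : B) : (R.s i)⁻¹ = R.s i := inv_eq_of_mul_eq_one_right (R.sq i)

theorem pr_reverse (ω : List B) : R.pr ω.reverse = (R.pr ω)⁻¹ := by
  induction ω with
  | nil => simp
  | cons i ω ih =>
    rw [List.reverse_cons, pr_append, ih, pr_singleton, pr_cons, mul_inv_rev, s_inv]

theorem exists_word (w : W) : ∃ ω, R.pr ω = w := by
  have : w ∈ Subgroup.closure (Set.range R.s) := R.gen ▸ Subgroup.mem_top w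
  induction this using Subgroup.closure_induction with
  | mem x hx => obtain ⟨i, rfl⟩ := hx; exact ⟨[i], R.pr_singleton i⟩
  | one => exact ⟨[], rfl⟩
  | mul a b _ _ ha hb =>
    obtain ⟨u, rfl⟩ := ha
    obtain ⟨v, rfl⟩ := hb
    exact ⟨u ++ v, R.pr_append u v⟩
  | inv a _ ha =>
    obtain ⟨u, rfl⟩ := ha
    exact ⟨u.reverse, R.pr_reverse u⟩

theorem smul_neg (w : W) (x : Φ) : w • R.neg x = R.neg (w • x) := by
  obtain ⟨ω, rfl⟩ := R.exists_word w
  induction ω generalizing x with
  | nil => simp
  | cons i ω ih => rw [pr_cons, mul_smul, mul_smul, ih, R.s_neg]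

/-- Inversions. -/
def inv (w : W) : Finset Φ := R.P.filter fun x => w • x ∉ R.P

/-- Length. -/
def len (w : W) : ℕ := (R.inv w).card

theorem mem_inv {w : W} {x : Φ} : x ∈ R.inv w ↔ x ∈ R.P ∧ w • x ∉ R.P := Finset.mem_filter

theorem inv_one : R.inv (1 : W) = ∅ := by
  ext x
  simp [mem_inv]

theorem len_one : R.len (1 : W) = 0 := by simp [len, inv_one]

theorem len_mul_s_of_mem {w : W} {j : B} (h : w • R.α j ∈ R.P) :
    R.len (w * R.s j) = R.len w + 1 := by
  have hset : R.inv (w * R.s j) = insert (R.α j) ((R.inv w).image fun x => R.s j • x) := by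
    ext x
    simp only [mem_inv, Finset.mem_insert, Finset.mem_image, mul_smul]
    constructor
    · rintro ⟨hx, hw⟩
      by_cases hxα : x = R.α j
      · exact Or.inl hxα
      · exact Or.inr ⟨R.s j • x, ⟨R.perm j x hx hxα, hw⟩, by rw [← mul_smul, R.sq, one_smul]⟩
    · rintro (rfl | ⟨y, ⟨hy, hw⟩, rfl⟩)
      · refine ⟨R.α_mem j, ?_⟩
        rw [R.s_α, R.smul_neg, R.neg_mem]
        exact not_not.2 h
      · have hyα : y ≠ R.α j := fun hy' => hw (hy' ▸ h)
        exact ⟨R.perm j y hy hyα, by rwa [← mul_smul (R.s j), R.sq, one_smul]⟩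
  have hnot : R.α j ∉ (R.inv w).image fun x => R.s j • x := by
    simp only [Finset.mem_image, mem_inv, not_exists, not_and, and_imp]
    intro y hy _ hyeq
    have : y = R.neg (R.α j) := by rw [← R.s_α j, ← hyeq, ← mul_smul, R.sq, one_smul]
    rw [this, R.neg_mem] at hy
    exact hy (R.α_mem j)
  rw [len, hset, Finset.card_insert_of_notMem hnot,
    Finset.card_image_of_injective _ (MulAction.injective (R.s j)), len]

theorem len_mul_s_of_not_mem {w : W} {j : B} (h : w • R.α j ∉ R.P) :
    R.len (w * R.s j) + 1 = R.len w := by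
  have h' : (w * R.s j) • R.α j ∈ R.P := by
    rw [mul_smul, R.s_α, R.smul_neg, R.neg_mem]
    exact h
  have := R.len_mul_s_of_mem h'
  rw [mul_assoc, R.sq, mul_one] at this
  omega

theorem len_pr_le (ω : List B) : R.len (R.pr ω) ≤ ω.length := by
  induction ω using List.reverseRecOn with
  | nil => simp [len_one]
  | append_singleton ω j ih =>
    rw [pr_append, pr_singleton, List.length_append, List.length_singleton]
    by_cases h : R.pr ω • R.α j ∈ R.P
    · rw [R.len_mul_s_of_mem h]; omega
    · have := R.len_mul_s_of_not_mem h; omega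

theorem len_parity (ω : List B) : R.len (R.pr ω) % 2 = ω.length % 2 := by
  induction ω using List.reverseRecOn with
  | nil => simp [len_one]
  | append_singleton ω j ih =>
    rw [pr_append, pr_singleton, List.length_append, List.length_singleton]
    by_cases h : R.pr ω • R.α j ∈ R.P
    · rw [R.len_mul_s_of_mem h]; omega
    · have := R.len_mul_s_of_not_mem h; omega

/-- Exchange. -/
theorem exchange : ∀ (ω : List B) (j : B), R.pr ω • R.α j ∉ R.P →
    ∃ A i C, ω = A ++ i :: C ∧ R.pr C * R.s j = R.s i * R.pr C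
  | [], j, h => absurd (by simpa using R.α_mem j) h
  | i :: ω, j, h => by
    by_cases hx : R.pr ω • R.α j ∈ R.P
    · refine ⟨[], i, ω, rfl, ?_⟩
      have hxi : R.pr ω • R.α j = R.α i := by
        by_contra hne
        rw [pr_cons, mul_smul] at h
        exact h (R.perm i _ hx hne)
      rw [← R.conj _ i j hxi, inv_mul_cancel_right]
    · obtain ⟨A, k, C, rfl, hk⟩ := exchange ω j hx
      exact ⟨i :: A, k, C, rfl, hk⟩

/-- Deletion. -/
theorem deletion {ω : List B} (h : R.len (R.pr ω) < ω.length) :
    ∃ A i Mid j C, ω = A ++ i :: (Mid ++ j :: C) ∧ R.pr (i :: Mid) = R.pr (Mid ++ [j]) := by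
  induction ω using List.reverseRecOn with
  | nil => simp at h
  | append_singleton ω j ih =>
    by_cases hlt : R.len (R.pr ω) < ω.length
    · obtain ⟨A, i, Mid, k, C, rfl, hk⟩ := ih hlt
      exact ⟨A, i, Mid, k, C ++ [j], by simp, hk⟩
    · rw [pr_append, pr_singleton, List.length_append, List.length_singleton] at h
      have hneg : R.pr ω • R.α j ∉ R.P := by
        intro hpos
        rw [R.len_mul_s_of_mem hpos] at h
        omega
      obtain ⟨A, i, C, rfl, hi⟩ := R.exchange ω j hneg
      exact ⟨A, i, C, j, [], by simp, by rw [pr_cons, pr_append, pr_singleton, hi]⟩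

/-- Exchange, recording the root. -/
theorem exchange' : ∀ (ω : List B) (j : B), R.pr ω • R.α j ∉ R.P →
    ∃ A i C, ω = A ++ i :: C ∧ R.pr C • R.α j = R.α i
  | [], j, h => absurd (by simpa using R.α_mem j) h
  | i :: ω, j, h => by
    by_cases hx : R.pr ω • R.α j ∈ R.P
    · refine ⟨[], i, ω, rfl, ?_⟩
      by_contra hne
      rw [pr_cons, mul_smul] at h
      exact h (R.perm i _ hx hne)
    · obtain ⟨A, k, C, rfl, hk⟩ := exchange' ω j hx
      exact ⟨i :: A, k, C, rfl, hk⟩

/-- Deletion, recording the root. -/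
theorem deletion' {ω : List B} (h : R.len (R.pr ω) < ω.length) :
    ∃ A i Mid j C, ω = A ++ i :: (Mid ++ j :: C) ∧ R.pr Mid • R.α j = R.α i := by
  induction ω using List.reverseRecOn with
  | nil => simp at h
  | append_singleton ω j ih =>
    by_cases hlt : R.len (R.pr ω) < ω.length
    · obtain ⟨A, i, Mid, k, C, rfl, hk⟩ := ih hlt
      exact ⟨A, i, Mid, k, C ++ [j], by simp, hk⟩
    · rw [pr_append, pr_singleton, List.length_append, List.length_singleton] at h
      have hneg : R.pr ω • R.α j ∉ R.P := by
        intro hpos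
        rw [R.len_mul_s_of_mem hpos] at h
        omega
      obtain ⟨A, i, C, rfl, hi⟩ := R.exchange' ω j hneg
      exact ⟨A, i, C, j, [], by simp, hi⟩

/-- A word of length above its inversion count can be shortened with the same product. -/
theorem pr_shorten {A Mid C : List B} {i j : B} (h : R.pr Mid • R.α j = R.α i) :
    R.pr (A ++ i :: (Mid ++ j :: C)) = R.pr (A ++ (Mid ++ C)) := by
  have hc := R.conj _ i j h
  have hmid : R.pr Mid * R.s j = R.s i * R.pr Mid := by rw [← hc, inv_mul_cancel_right]
  have key : R.s i * (R.pr Mid * (R.s j * R.pr C)) = R.pr Mid * R.pr C := by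
    rw [← mul_assoc (R.pr Mid), hmid, ← mul_assoc (R.s i), ← mul_assoc, R.sq, one_mul]
  simp only [pr_append, pr_cons, key]

/-- Every element has a word whose length is its inversion count. -/
theorem exists_reduced (w : W) : ∃ ω, R.pr ω = w ∧ ω.length = R.len w := by
  obtain ⟨ω, hω⟩ := R.exists_word w
  induction hn : ω.length using Nat.strong_induction_on generalizing ω with
  | _ n ih =>
    subst hn
    rcases (R.len_pr_le ω).lt_or_eq with hlt | heq
    · obtain ⟨A, i, Mid, j, C, rfl, hd⟩ := R.deletion hlt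
      refine ih _ ?_ (A ++ (Mid ++ C)) ?_ rfl
      · simp
      · rw [← hω]
        have key : R.pr Mid = R.pr (i :: Mid) * R.s j := by
          rw [hd, pr_append, pr_singleton, mul_assoc, R.sq, mul_one]
        have key' : R.pr Mid * R.pr C = R.s i * (R.pr Mid * (R.s j * R.pr C)) := by
          conv_lhs => rw [key]
          simp only [pr_cons, mul_assoc]
        simp only [pr_append, pr_cons, key']
    · exact ⟨ω, hω, by rw [← heq, hω]⟩

theorem eq_one_of_len_eq_zero {w : W} (h : R.len w = 0) : w = 1 := by
  obtain ⟨ω, hω, hlen⟩ := R.exists_reduced w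
  rw [h, List.length_eq_zero_iff] at hlen
  rw [← hω, hlen, pr_nil]

variable (M : CoxeterMatrix B)

/-- Product of a word in the presented group. -/
def mpr (ω : List B) : M.Group := (ω.map M.simple).prod

theorem mpr_nil : mpr M ([] : List B) = 1 := rfl

theorem mpr_cons (i : B) (ω : List B) : mpr M (i :: ω) = M.simple i * mpr M ω := by simp [mpr]

theorem mpr_append (ω ω' : List B) : mpr M (ω ++ ω') = mpr M ω * mpr M ω' := by simp [mpr]

theorem simple_sq (i : B) : M.simple i * M.simple i = 1 := by
  have := M.toCoxeterSystem.simple_mul_simple_self i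
  rwa [M.toCoxeterSystem_simple] at this

theorem simple_inv (i : B) : (M.simple i)⁻¹ = M.simple i := inv_eq_of_mul_eq_one_right (simple_sq M i)

theorem mpr_reverse (ω : List B) : mpr M ω.reverse = (mpr M ω)⁻¹ := by
  induction ω with
  | nil => simp [mpr]
  | cons i ω ih =>
    rw [List.reverse_cons, mpr_append, ih, mpr_cons M i ω, mul_inv_rev, simple_inv]
    simp [mpr]

/-- f a, …, f (a+n−1). -/
def seg (f : ℕ → B) (a n : ℕ) : List B := (List.range n).map fun k => f (a + k)

theorem seg_add (f : ℕ → B) (a m n : ℕ) : seg f a (m + n) = seg f a m ++ seg f (a + m) n := by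
  simp [seg, List.range_add, List.map_map, Function.comp_def, add_assoc]

theorem seg_one (f : ℕ → B) (a : ℕ) : seg f a 1 = [f a] := by simp [seg]

theorem seg_succ (f : ℕ → B) (a n : ℕ) : seg f a (n + 1) = f a :: seg f (a + 1) n := by
  rw [Nat.add_comm, seg_add, seg_one]; rfl

theorem seg_succ' (f : ℕ → B) (a n : ℕ) : seg f a (n + 1) = seg f a n ++ [f (a + n)] := by
  rw [seg_add, seg_one]

theorem length_seg (f : ℕ → B) (a n : ℕ) : (seg f a n).length = n := by simp [seg]

theorem seg_congr {f g : ℕ → B} {a b n : ℕ} (h : ∀ k < n, f (a + k) = g (b + k)) :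
    seg f a n = seg g b n :=
  List.map_congr_left fun k hk => h k (List.mem_range.1 hk)

theorem exists_periodic (ω : List B) (d : B) (hω : ω ≠ []) :
    ∃ f : ℕ → B, (∀ k, f (k + ω.length) = f k) ∧ seg f 0 ω.length = ω := by
  refine ⟨fun k => ω.getD (k % ω.length) d, fun k => by simp, ?_⟩
  refine List.ext_getElem (by simp [seg]) fun k h1 h2 => ?_
  simp [seg, Nat.mod_eq_of_lt h2, List.getElem?_eq_getElem h2]

variable (hM : ∀ i j, (R.s i * R.s j) ^ M i j = 1)
  (hmin : ∀ i j (r : ℕ), (R.s i * R.s j) ^ r = 1 → M i j ∣ r)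

/-- The presented group maps onto W. -/
def toW : M.Group →* W := M.toCoxeterSystem.lift ⟨R.s, hM⟩

theorem toW_simple (i : B) : R.toW M hM (M.simple i) = R.s i := by
  have := M.toCoxeterSystem.lift_apply_simple (f := R.s) hM i
  rwa [M.toCoxeterSystem_simple] at this

theorem toW_mpr (ω : List B) : R.toW M hM (mpr M ω) = R.pr ω := by
  induction ω with
  | nil => simp [mpr]
  | cons i ω ih => rw [mpr_cons M i ω, map_mul, toW_simple, ih, pr_cons]

include hM hmin in
theorem s_injective : Function.Injective R.s := by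
  intro i j h
  have h1 : (R.s i * R.s j) ^ 1 = 1 := by rw [pow_one, h, R.sq]
  have := hmin i j 1 h1
  by_contra hne
  exact M.off_diagonal i j hne (Nat.eq_one_of_dvd_one this)

/-- One reduction step. -/
theorem step {r : ℕ} (hr : 1 ≤ r)
    (IH : ∀ r' < r, ∀ ω : List B, ω.length = 2 * r' → R.pr ω = 1 → mpr M ω = 1)
    (hM : ∀ i j, (R.s i * R.s j) ^ M i j = 1)
    (f : ℕ → B) (hf : R.pr (seg f 0 (2 * r)) = 1) :
    mpr M (seg f 0 (2 * r)) = 1 ∨ R.pr (seg f 1 r) = R.pr (seg f 0 r) := by
  have hsplit : seg f 0 (2 * r) = seg f 0 (r + 1) ++ seg f (r + 1) (r - 1) := by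
    rw [show 2 * r = (r + 1) + (r - 1) by omega, seg_add, Nat.zero_add]
  have hhead : R.len (R.pr (seg f 0 (r + 1))) < (seg f 0 (r + 1)).length := by
    rw [hsplit, pr_append] at hf
    rw [eq_inv_of_mul_eq_one_left hf, ← pr_reverse, length_seg]
    have := R.len_pr_le (seg f (r + 1) (r - 1)).reverse
    rw [List.length_reverse, length_seg] at this
    omega
  obtain ⟨A, i, Mid, j, C, hω, hd⟩ := R.deletion hhead
  have hlen : A.length + Mid.length + C.length + 2 = r + 1 := by
    have := congrArg List.length hω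
    simp only [length_seg, List.length_append, List.length_cons] at this
    omega
  by_cases hshort : Mid.length + 1 < r
  · left
    have hrel : mpr M (i :: (Mid ++ [j]) ++ Mid.reverse) = 1 := by
      refine IH (Mid.length + 1) hshort _ (by simp; omega) ?_
      rw [pr_append, pr_reverse, mul_inv_eq_one, pr_cons, ← pr_singleton R i, pr_append]
      rw [← mul_assoc, ← pr_append R [i] Mid]
      show R.pr (i :: Mid) * R.pr [j] = R.pr Mid
      rw [hd, pr_append, mul_assoc, pr_singleton, R.sq, mul_one]
    have hMid : mpr M (i :: (Mid ++ [j])) = mpr M Mid := by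
      rwa [mpr_append, mpr_reverse, mul_inv_eq_one] at hrel
    have hkey : mpr M (seg f 0 (2 * r)) = mpr M (A ++ Mid ++ C ++ seg f (r + 1) (r - 1)) := by
      rw [hsplit, hω, show A ++ i :: (Mid ++ j :: C) = A ++ (i :: (Mid ++ [j])) ++ C by simp]
      simp only [mpr_append, hMid]
    rw [hkey]
    refine IH (r - 1) (by omega) _ (by simp [length_seg]; omega) ?_
    rw [← R.toW_mpr M hM, ← hkey, R.toW_mpr M hM, hf]
  · right
    have hA : A = [] := List.eq_nil_of_length_eq_zero (by omega)
    have hC : C = [] := List.eq_nil_of_length_eq_zero (by omega)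
    subst hA hC
    obtain ⟨h1, h2⟩ : i = f 0 ∧ seg f 1 r = Mid ++ [j] := by
      rw [seg_succ] at hω
      simpa [eq_comm] using hω
    obtain ⟨q, rfl⟩ : ∃ q, r = q + 1 := ⟨r - 1, by omega⟩
    rw [h2, ← hd, seg_succ, ← h1]
    congr 2
    rw [seg_succ'] at h2
    have := (List.append_inj' h2 (by simp)).1
    simpa using this.symm

theorem mpr_rotate (f : ℕ → B) (r : ℕ) (hper : ∀ k, f (k + 2 * r) = f k) :
    mpr M (seg f 1 (2 * r)) = (M.simple (f 0))⁻¹ * mpr M (seg f 0 (2 * r)) * M.simple (f 0) := by
  have h1 : seg f 0 (2 * r + 1) = seg f 0 (2 * r) ++ [f 0] := by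
    rw [seg_succ', Nat.zero_add, ← hper 0, Nat.zero_add]
  have h2 := congrArg (mpr M) ((seg_succ f 0 (2 * r)).symm.trans h1)
  rw [mpr_cons M, mpr_append] at h2
  rw [mul_assoc, show mpr M [f 0] = M.simple (f 0) by simp [mpr]] at *
  rw [← h2, inv_mul_cancel_left]

include hM in
theorem pr_rotate (f : ℕ → B) (r : ℕ) (hper : ∀ k, f (k + 2 * r) = f k)
    (hf : R.pr (seg f 0 (2 * r)) = 1) : R.pr (seg f 1 (2 * r)) = 1 := by
  rw [← R.toW_mpr M hM, mpr_rotate M f r hper, map_mul, map_mul, R.toW_mpr M hM, hf, mul_one,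
    ← map_mul, inv_mul_cancel, map_one]

include hM hmin in
/-- A relation of even length holds in the presented group. -/
theorem rel_holds : ∀ (r : ℕ) (ω : List B), ω.length = 2 * r → R.pr ω = 1 → mpr M ω = 1 := by
  intro r
  induction r using Nat.strong_induction_on with
  | _ r IH =>
    intro ω hlen hω
    rcases Nat.eq_zero_or_pos r with rfl | hr
    · rw [List.eq_nil_of_length_eq_zero hlen]; rfl
    have hne : ω ≠ [] := fun h => by simp [h] at hlen; omega
    obtain ⟨f, hper, hseg⟩ := exists_periodic ω (ω.head hne) hne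
    rw [hlen] at hper hseg
    rw [← hseg] at hω ⊢
    by_contra hfail
    -- every rotation fails
    have hall : ∀ k, R.pr (seg f k (2 * r)) = 1 ∧ mpr M (seg f k (2 * r)) ≠ 1 := by
      intro k
      induction k with
      | zero => exact ⟨hω, hfail⟩
      | succ k ih =>
        have hp : ∀ m, f (k + (m + 2 * r)) = f (k + m) := fun m => by rw [← add_assoc, hper]
        have e : ∀ a, seg (fun m => f (k + m)) a (2 * r) = seg f (k + a) (2 * r) := fun a =>
          seg_congr fun m _ => by simp [add_assoc]
        have h1 := R.pr_rotate M hM (fun m => f (k + m)) r hp (by rw [e]; exact ih.1)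
        have h2 := mpr_rotate M (fun m => f (k + m)) r hp
        rw [e] at h1
        rw [e, e, Nat.add_zero] at h2
        refine ⟨h1, fun h => ih.2 ?_⟩
        rw [h] at h2
        have := congrArg (fun g => M.simple (f k) * g * (M.simple (f k))⁻¹) h2
        simpa [mul_assoc] using this.symm
    have hEq : ∀ k, R.pr (seg f (k + 1) r) = R.pr (seg f k r) := by
      intro k
      have e : ∀ a n, seg (fun m => f (k + m)) a n = seg f (k + a) n := fun a n =>
        seg_congr fun m _ => by simp [add_assoc]
      have := R.step M hr IH hM (fun m => f (k + m)) (by rw [e]; exact (hall k).1)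
      rw [e, e, e, Nat.add_zero] at this
      exact this.resolve_left (hall k).2
    have hinj := R.s_injective M hM hmin
    rcases Nat.eq_or_lt_of_le hr with hr1 | hr2
    · have h1 := hEq 0
      rw [← hr1] at h1
      simp only [seg_one, pr_singleton] at h1
      refine hfail ?_
      rw [← hr1]
      show mpr M (seg f 0 2) = 1
      rw [seg_succ, seg_one, hinj h1]
      simp [mpr, simple_sq M]
    -- r ≥ 2
    have htwo : ∀ k, f (k + 2) = f k := by
      intro k
      obtain ⟨q, rfl⟩ : ∃ q, r = q + 2 := ⟨r - 2, by omega⟩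
      -- the derived relation
      set ω' : List B := f (k + 2) :: (seg f (k + 1) (q + 2) ++ f (k + (q + 3)) ::
        (seg f (k + 3) q).reverse) with hω'
      have hlen' : ω'.length = 2 * (q + 2) := by
        simp [hω', length_seg]; omega
      have hrel : R.pr ω' = 1 := by
        have h1 := hEq (k + 1)
        rw [show k + 1 + 1 = k + 2 from rfl, seg_succ' f (k + 2), seg_succ f (k + 2), pr_append,
          pr_cons, pr_singleton] at h1
        rw [hω', pr_cons, pr_append, pr_cons, pr_reverse, ← h1,
          show k + 2 + (q + 1) = k + (q + 3) by omega, show k + 2 + 1 = k + 3 from rfl]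
        simp only [mul_assoc]
        rw [← mul_assoc (R.s (f (k + (q + 3)))), R.sq, one_mul, mul_inv_cancel, mul_one, R.sq]
      obtain ⟨g, gper, gseg⟩ := exists_periodic ω' (f k) (by simp [hω'])
      rw [hlen'] at gper gseg
      have e1 : seg g 0 (q + 3) = f (k + 2) :: seg f (k + 1) (q + 2) := by
        have h := congrArg (List.take (q + 3)) gseg
        rw [show 2 * (q + 2) = (q + 3) + (q + 1) by omega, seg_add, List.take_left' (length_seg _ _ _),
          hω', show f (k + 2) :: (seg f (k + 1) (q + 2) ++ f (k + (q + 3)) :: (seg f (k + 3) q).reverse) =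
            (f (k + 2) :: seg f (k + 1) (q + 2)) ++ f (k + (q + 3)) :: (seg f (k + 3) q).reverse from rfl,
          List.take_left' (by simp [length_seg])] at h
        exact h
      rcases R.step M hr IH hM g (by rw [gseg]; exact hrel) with hgood | hgeq
      · -- then a shorter relation holds, contradiction
        exfalso
        rw [gseg, hω', mpr_cons M, mpr_append, mpr_cons M, mpr_reverse] at hgood
        have hq : mpr M (seg f (k + 1) (q + 2)) = mpr M (seg f (k + 2) (q + 2)) := by
          have hb : mpr M (seg f (k + 1) (q + 2)) * (M.simple (f (k + (q + 3))) *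
              (mpr M (seg f (k + 3) q))⁻¹) = M.simple (f (k + 2)) := by
            rw [eq_inv_of_mul_eq_one_right hgood, simple_inv]
          rw [seg_succ' f (k + 2), seg_succ f (k + 2), mpr_append, mpr_cons M,
            show k + 2 + (q + 1) = k + (q + 3) by omega, show k + 2 + 1 = k + 3 from rfl, ← hb]
          simp [mpr, simple_sq M, mul_assoc]
        obtain ⟨hW, hF⟩ := hall (k + 1)
        have key : mpr M (seg f (k + 1) (2 * (q + 2))) =
            mpr M (seg f (k + 2) (q + 1) ++ seg f (k + 1 + (q + 3)) (q + 1)) := by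
          rw [show 2 * (q + 2) = (q + 3) + (q + 1) by omega, seg_add, mpr_append, mpr_append,
            seg_succ' f (k + 1), mpr_append, hq, seg_succ' f (k + 2) (q + 1), mpr_append,
            show k + 2 + (q + 1) = k + 1 + (q + 2) by omega]
          simp [mpr, mul_assoc, simple_sq M]
        refine hF (key.trans (IH (q + 1) (by omega) _ (by simp [length_seg]; omega) ?_))
        rw [← R.toW_mpr M hM, ← key, R.toW_mpr M hM, hW]
      · -- compare
        have a1 : seg g 1 (q + 2) = seg f (k + 1) (q + 2) := by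
          rw [seg_succ] at e1
          exact (List.cons.inj e1).2
        have a0 : seg g 0 (q + 2) = f (k + 2) :: seg f (k + 1) (q + 1) := by
          rw [seg_succ' g 0, seg_succ' f (k + 1), ← List.cons_append] at e1
          exact (List.append_inj' e1 (by simp)).1
        rw [a1, a0, hEq k, seg_succ, pr_cons, pr_cons] at hgeq
        exact (hinj (mul_right_cancel hgeq)).symm
    -- alternating word
    refine hfail ?_
    have hev : ∀ m, f (2 * m) = f 0 ∧ f (2 * m + 1) = f 1 := by
      intro m
      induction m with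
      | zero => exact ⟨rfl, rfl⟩
      | succ m ih =>
        exact ⟨by rw [show 2 * (m + 1) = 2 * m + 2 by ring, htwo, ih.1],
          by rw [show 2 * (m + 1) + 1 = (2 * m + 1) + 2 by ring, htwo, ih.2]⟩
    have hpow : ∀ m, mpr M (seg f 0 (2 * m)) = (M.simple (f 0) * M.simple (f 1)) ^ m ∧
        R.pr (seg f 0 (2 * m)) = (R.s (f 0) * R.s (f 1)) ^ m := by
      intro m
      induction m with
      | zero => simp [seg, mpr]
      | succ m ih =>
        rw [show 2 * (m + 1) = 2 * m + 2 by ring, seg_add, mpr_append, pr_append, ih.1, ih.2,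
          pow_succ, pow_succ, seg_succ, seg_one, Nat.zero_add, (hev m).1, (hev m).2]
        simp [mpr, pr]
    obtain ⟨c, hc⟩ := hmin (f 0) (f 1) r (by rw [← (hpow r).2]; exact hω)
    have hpres : (M.simple (f 0) * M.simple (f 1)) ^ M (f 0) (f 1) = 1 := by
      have := M.toCoxeterSystem.simple_mul_simple_pow (f 0) (f 1)
      rwa [M.toCoxeterSystem_simple] at this
    rw [(hpow r).1, hc, pow_mul, hpres, one_pow]

include hM hmin in
theorem toW_bijective : Function.Bijective (R.toW M hM) := by
  constructor
  · rw [injective_iff_map_eq_one]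
    intro g hg
    obtain ⟨ω, rfl⟩ : ∃ ω, mpr M ω = g := by
      obtain ⟨ω, hω⟩ := M.toCoxeterSystem.wordProd_surjective g
      refine ⟨ω, ?_⟩
      rw [← hω, CoxeterSystem.wordProd, M.toCoxeterSystem_simple]
      rfl
    rw [R.toW_mpr M hM] at hg
    have hp := R.len_parity ω
    rw [hg, R.len_one] at hp
    exact R.rel_holds M hM hmin (ω.length / 2) ω (by omega) hg
  · intro w
    obtain ⟨ω, rfl⟩ := R.exists_word w
    exact ⟨mpr M ω, R.toW_mpr M hM ω⟩

/-- The isomorphism with the presented group. -/
noncomputable def coxeterEquiv : M.Group ≃* W :=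
  MulEquiv.ofBijective (R.toW M hM) (R.toW_bijective M hM hmin)

end RefSystem

end Cfsg.Agent.Lie
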