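import Cfsg.Agent.Lib.Solv.CIT.OrdersFive
import Cfsg.Agent.Lib.Classical.LinBasic
import Cfsg.Agent.Lib.Spor.SpFourPoints
import Cfsg.Prelude.Def_Transfer

/-!
# Critical groups for the element orders of the alternating group of degree six
-/

set_option autoImplicit false
set_option linter.style.haveILetI false
set_option maxRecDepth 100000

namespace Cfsg.Agent.Lie.CritFive

open Cfsg Subgroup
open Cfsg.Agent.Spor.SpFour (F4)
open Cfsg.Agent.Solv.CITGroups

local notation "S2" => Matrix.SpecialLinearGroup (Fin 2) F4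
local notation "S3" => Matrix.SpecialLinearGroup (Fin 3) F4

universe u

/-- A determinant-one two by two matrix over four elements. -/
def mk2 (a b c d : F4) (h : a * d - b * c = 1 := by decide) : S2 :=
  ⟨!![a, b; c, d], by rw [Matrix.det_fin_two_of]; exact h⟩

/-- Upper unitriangular. -/
def aM : S2 := mk2 1 1 0 1
/-- Diagonal of order three. -/
def xM : S2 := mk2 .w 0 0 .v
/-- The antidiagonal involution. -/
def sM : S2 := mk2 0 1 1 0
/-- A conjugator. -/
def hM : S2 := mk2 1 0 1 1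

theorem mk2_facts :
    sM * sM = 1 ∧ sM ≠ 1 ∧ aM ≠ 1 ∧ xM ≠ 1 ∧ xM ^ 3 = 1 ∧ hM * sM * hM⁻¹ = aM ∧ sM * xM * sM⁻¹ = xM⁻¹ ∧
    (aM * xM) ^ 3 = 1 ∧ aM * xM ≠ 1 ∧ (aM * sM) ^ 3 = 1 ∧ aM * sM ≠ 1 := by
  decide +kernel

theorem bruhat : ∀ e ∈ [1, aM, xM * aM * xM⁻¹, aM * (xM * aM * xM⁻¹)], ∀ i ∈ [0, 1, 2],
    (e * xM ^ i = 1 → e = 1 ∧ i = 0) ∧
    ∀ e' ∈ [1, aM, xM * aM * xM⁻¹, aM * (xM * aM * xM⁻¹)], e * xM ^ i * sM * e' ≠ 1 := by
  decide +kernel

theorem transvections : ∀ i j : Fin 2, ∀ h : i ≠ j, ∀ c : F4,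
    Matrix.SpecialLinearGroup.transvection h c ∈
      [1, aM, xM * aM * xM⁻¹, aM * (xM * aM * xM⁻¹), sM * aM * sM⁻¹, sM * (xM * aM * xM⁻¹) * sM⁻¹,
        sM * (aM * (xM * aM * xM⁻¹)) * sM⁻¹] := by
  intro i j h c
  revert h c
  revert i j
  decide +kernel

theorem generated (H : Subgroup S2) (ha : aM ∈ H) (hx : xM ∈ H) (hs : sM ∈ H) : H = ⊤ := by
  rw [eq_top_iff, ← Classical.sl_closure_transvections (F := F4) (ι := Fin 2), closure_le]
  rintro g ⟨i, j, hij, c, rfl⟩
  have hb := H.mul_mem (H.mul_mem hx ha) (H.inv_mem hx)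
  have hab := H.mul_mem ha hb
  have hc := transvections i j hij c
  simp only [List.mem_cons, List.not_mem_nil, or_false] at hc
  rcases hc with e | e | e | e | e | e | e <;> rw [e]
  · exact one_mem H
  · exact ha
  · exact hb
  · exact hab
  · exact H.mul_mem (H.mul_mem hs ha) (H.inv_mem hs)
  · exact H.mul_mem (H.mul_mem hs hb) (H.inv_mem hs)
  · exact H.mul_mem (H.mul_mem hs hab) (H.inv_mem hs)

theorem sl_two_four_iso : Nonempty (alternatingGroup (Fin 5) ≃* S2) := by
  classical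
  let π : S2 →* Matrix.ProjectiveSpecialLinearGroup (Fin 2) F4 := QuotientGroup.mk' _
  have hroot : ∀ r : F4, r ^ 2 = 1 → r = 1 := by decide +kernel
  have hπ : Function.Injective π := by
    refine (injective_iff_map_eq_one π).2 fun A hA => ?_
    have hA' : A ∈ Subgroup.center S2 := (QuotientGroup.eq_one_iff A).1 hA
    obtain ⟨r, hr, hA'⟩ := Matrix.SpecialLinearGroup.mem_center_iff.1 hA'
    refine Subtype.ext ?_
    rw [← hA', hroot r (by simpa using hr), map_one]
    rfl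
  haveI : IsSimpleGroup (Matrix.ProjectiveSpecialLinearGroup (Fin 2) F4) :=
    Matrix.ProjectiveSpecialLinearGroup.rank_two_simple (by rw [Nat.card_eq_fintype_card, F4.card])
  have hc := Classical.Dickson.card_psl F4
  rw [F4.card] at hc
  norm_num at hc
  obtain ⟨e⟩ := Lie.simple_sixty (G := Matrix.ProjectiveSpecialLinearGroup (Fin 2) F4)
    (Nat.card_eq_fintype_card.trans hc)
  exact ⟨e.symm.trans (MulEquiv.ofBijective π ⟨hπ, QuotientGroup.mk'_surjective _⟩).symm⟩

variable {G : Type u} [Group G] [Finite G]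

theorem pow_three_of_image (h : OrdFive.Le5 G) {H : Type*} [Group H] (ρ : G →* H) {x : G}
    (h3 : ρ x ^ 3 = 1) (h1 : ρ x ≠ 1) : x ^ 3 = 1 := by
  haveI : Fact (Nat.Prime 3) := ⟨Nat.prime_three⟩
  have hd := orderOf_map_dvd ρ x
  rw [orderOf_eq_prime h3 h1] at hd
  have := h x
  have := orderOf_pos x
  obtain ⟨c, hc⟩ := hd
  rw [← show orderOf x = 3 by omega, pow_orderOf_eq_one]

theorem fpf (h : OrdFive.Le5 G) {x w : G} (hx : orderOf x = 3) (hw : w ^ 2 = 1) (hc : Commute x w) : w = 1 := by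
  by_contra hne
  haveI : Fact (Nat.Prime 2) := ⟨Nat.prime_two⟩
  have := h (x * w)
  rw [hc.orderOf_mul_eq_mul_orderOf_of_coprime (by rw [hx, orderOf_eq_prime hw hne]; norm_num), hx,
    orderOf_eq_prime hw hne] at this
  omega

/-- The affine group as a set of matrices. -/
def affSet : Set S3 :=
  {M | (M : Matrix (Fin 3) (Fin 3) F4) 2 0 = 0 ∧ (M : Matrix (Fin 3) (Fin 3) F4) 2 1 = 0 ∧
    (M : Matrix (Fin 3) (Fin 3) F4) 2 2 = 1}

theorem affSet_mul {A B : S3} (hA : A ∈ affSet) (hB : B ∈ affSet) : A * B ∈ affSet := by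
  obtain ⟨a0, a1, a2⟩ := hA
  obtain ⟨b0, b1, b2⟩ := hB
  refine ⟨?_, ?_, ?_⟩ <;>
    simp [Matrix.SpecialLinearGroup.coe_mul, Matrix.mul_apply, Fin.sum_univ_three, a0, a1, a2, b0, b1, b2]

theorem closure_affSet {M : S3} (hM : M ∈ Subgroup.closure affSet) : M ∈ affSet := by
  classical
  let T : Submonoid S3 :=
    { carrier := affSet
      one_mem' := by refine ⟨?_, ?_, ?_⟩ <;> simp
      mul_mem' := affSet_mul }
  let H : Subgroup S3 :=
    { T with
      inv_mem' := fun {A} hA => by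
        have e : A⁻¹ = A ^ (orderOf A - 1) := inv_eq_of_mul_eq_one_right (by
          rw [← pow_succ', Nat.sub_add_cancel (orderOf_pos A), pow_orderOf_eq_one])
        exact e ▸ T.pow_mem hA _ }
  exact (closure_le H).2 (fun A hA => hA) hM

/-- Block of an affine matrix. -/
def blk (M : S3) (hM : M ∈ affSet) : S2 :=
  ⟨!![(M : Matrix (Fin 3) (Fin 3) F4) 0 0, (M : Matrix (Fin 3) (Fin 3) F4) 0 1;
      (M : Matrix (Fin 3) (Fin 3) F4) 1 0, (M : Matrix (Fin 3) (Fin 3) F4) 1 1], by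
    have := M.det_coe
    rw [Matrix.det_fin_three, hM.1, hM.2.1, hM.2.2] at this
    rw [Matrix.det_fin_two_of]
    simpa using this⟩

/-- Translation part. -/
def vec (M : S3) : Fin 2 → F4 :=
  ![(M : Matrix (Fin 3) (Fin 3) F4) 0 2, (M : Matrix (Fin 3) (Fin 3) F4) 1 2]

theorem blk_vec_mul {A B : S3} (hA : A ∈ affSet) (hB : B ∈ affSet) :
    blk (A * B) (affSet_mul hA hB) = blk A hA * blk B hB ∧
      vec (A * B) = Matrix.mulVec (blk A hA : Matrix (Fin 2) (Fin 2) F4) (vec B) + vec A := by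
  obtain ⟨b0, b1, b2⟩ := id hB
  constructor
  · refine Subtype.ext ?_
    show _ = (blk A hA : Matrix (Fin 2) (Fin 2) F4) * (blk B hB : Matrix (Fin 2) (Fin 2) F4)
    ext i j
    fin_cases i <;> fin_cases j <;>
      simp [blk, Matrix.SpecialLinearGroup.coe_mul, Matrix.mul_apply, Fin.sum_univ_three, Fin.sum_univ_two, b0, b1] <;>
      ring
  · funext i
    fin_cases i <;>
      simp [vec, blk, Matrix.mulVec, dotProduct, Matrix.SpecialLinearGroup.coe_mul, Matrix.mul_apply,
        Fin.sum_univ_three, Fin.sum_univ_two, b2] <;> ring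

theorem affine_iso (h : OrdFive.Le5 G) (N : Subgroup G) [N.Normal] (hN1 : N ≠ ⊥)
    (hc : ∀ p ∈ N, ∀ q ∈ N, p * q = q * p) (h2 : ∀ q ∈ N, q * q = 1)
    (hmin : ∀ M : Subgroup G, M.Normal → M ≤ N → M ≠ ⊥ → M = N)
    (e : G ⧸ N ≃* alternatingGroup (Fin 5)) : Nonempty (G ≃* ↥(Subgroup.closure affSet)) := by
  classical
  obtain ⟨e'⟩ := sl_two_four_iso
  let ρ : G →* S2 := (e.trans e').toMonoidHom.comp (QuotientGroup.mk' N)
  have hρs : Function.Surjective ρ := (e.trans e').surjective.comp (QuotientGroup.mk'_surjective N)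
  have hker : ∀ x, ρ x = 1 ↔ x ∈ N := fun x => by
    show (e.trans e') (QuotientGroup.mk' N x) = 1 ↔ _
    rw [MulEquiv.map_eq_one_iff]
    exact QuotientGroup.eq_one_iff x
  have hthree : ∀ x, ρ x ^ 3 = 1 → ρ x ≠ 1 → x ^ 3 = 1 := fun x h3 h1 => pow_three_of_image h ρ h3 h1
  obtain ⟨f1, f2, f3, f4, f5, f6, f7, f8, f9, f10, f11⟩ := mk2_facts
  have hcj : ∀ y, ∀ q ∈ N, y * q * y⁻¹ ∈ N := fun y q hq => Subgroup.Normal.conj_mem inferInstance q hq y
  -- norms
  have hnorm : ∀ y, ρ y ^ 3 = 1 → ρ y ≠ 1 → ∀ w ∈ N, w * (y * w * y⁻¹) * (y * (y * w * y⁻¹) * y⁻¹) = 1 := by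
    intro y h3 h1 w hw
    have hy := hthree y h3 h1
    have hw1 : ρ w = 1 := (hker w).2 hw
    have hwy := hthree (w * y) (by rw [map_mul, hw1, one_mul, h3]) (by rw [map_mul, hw1, one_mul]; exact h1)
    calc w * (y * w * y⁻¹) * (y * (y * w * y⁻¹) * y⁻¹)
        = w * y * (w * y) * (w * y) * (y * y * y)⁻¹ := by group
      _ = 1 := by rw [← pow_three', ← pow_three', hy, hwy, inv_one, one_mul]
  obtain ⟨x, hx⟩ := hρs xM
  have hx3 : x ^ 3 = 1 := hthree x (by rw [hx]; exact f5) (by rw [hx]; exact f4)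
  haveI : Fact (Nat.Prime 3) := ⟨Nat.prime_three⟩
  have hxo : orderOf x = 3 := orderOf_eq_prime hx3 fun e1 => f4 (by rw [← hx, e1, map_one])
  have hfix : ∀ w ∈ N, Commute x w → w = 1 := fun w hw hcw => fpf h hxo (by rw [pow_two]; exact h2 w hw) hcw
  -- an involution inverting
  obtain ⟨s₀, hs₀⟩ := hρs sM
  obtain ⟨s, hs, hsx⟩ : ∃ s, ρ s = sM ∧ s * x * s⁻¹ = x⁻¹ := by
    let φ : N → N := fun n => ⟨(n : G) * (x⁻¹ * (n : G)⁻¹ * x),
      mul_mem n.2 (by simpa using hcj x⁻¹ _ (inv_mem n.2))⟩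
    have hφ : Function.Injective φ := by
      intro n m hnm
      have h1 : (n : G) * x⁻¹ * (n : G)⁻¹ = (m : G) * x⁻¹ * (m : G)⁻¹ := by
        have h2 : (n : G) * (x⁻¹ * (n : G)⁻¹ * x) = (m : G) * (x⁻¹ * (m : G)⁻¹ * x) := congrArg Subtype.val hnm
        have h3 := congrArg (fun z => z * x⁻¹) h2
        simpa [mul_assoc] using h3
      have h4 : Commute x ((m : G)⁻¹ * n) := by
        have h5 : (m : G)⁻¹ * n * x⁻¹ = x⁻¹ * ((m : G)⁻¹ * n) := by
          have := congrArg (fun z => (m : G)⁻¹ * z * n) h1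
          simpa [mul_assoc] using this
        exact (Commute.inv_left_iff.1 (show Commute x⁻¹ ((m : G)⁻¹ * n) from h5.symm))
      exact Subtype.ext (inv_mul_eq_one.1 (hfix _ (mul_mem (inv_mem m.2) n.2) h4)).symm
    have hk : s₀ * x * s₀⁻¹ * x ∈ N := (hker _).1 (by
      rw [map_mul, map_mul, map_mul, map_inv, hs₀, hx, f7, inv_mul_cancel])
    obtain ⟨n, hn⟩ := (Finite.injective_iff_surjective.1 hφ) ⟨_, hk⟩
    refine ⟨(n : G)⁻¹ * s₀, by rw [map_mul, map_inv, (hker _).2 n.2, inv_one, one_mul, hs₀], ?_⟩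
    have h1 : (n : G) * (x⁻¹ * (n : G)⁻¹ * x) = s₀ * x * s₀⁻¹ * x := congrArg Subtype.val hn
    calc (n : G)⁻¹ * s₀ * x * ((n : G)⁻¹ * s₀)⁻¹ = (n : G)⁻¹ * (s₀ * x * s₀⁻¹ * x) * x⁻¹ * n := by group
      _ = (n : G)⁻¹ * ((n : G) * (x⁻¹ * (n : G)⁻¹ * x)) * x⁻¹ * n := by rw [h1]
      _ = x⁻¹ := by group
  have hs2 : s * s = 1 := by
    refine hfix _ ((hker _).1 (by rw [map_mul, hs, f1])) ?_
    have h1 : s * s * x * (s * s)⁻¹ = x := by
      calc s * s * x * (s * s)⁻¹ = s * (s * x * s⁻¹) * s⁻¹ := by group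
        _ = s * x⁻¹ * s⁻¹ := by rw [hsx]
        _ = (s * x * s⁻¹)⁻¹ := by group
        _ = x := by rw [hsx, inv_inv]
    exact (mul_inv_eq_iff_eq_mul.1 h1).symm
  have hsinv : s⁻¹ = s := inv_eq_of_mul_eq_one_right hs2
  obtain ⟨g, hg⟩ := hρs hM
  set a := g * s * g⁻¹ with ha'
  have ha : ρ a = aM := by rw [ha', map_mul, map_mul, map_inv, hg, hs, f6]
  have ha2 : a * a = 1 := by rw [ha', show g * s * g⁻¹ * (g * s * g⁻¹) = g * (s * s) * g⁻¹ by group, hs2]; group
  set b := x * a * x⁻¹ with hb'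
  have hb2 : b * b = 1 := by rw [hb', show x * a * x⁻¹ * (x * a * x⁻¹) = x * (a * a) * x⁻¹ by group, ha2]; group
  have hab3 : a * b * (x * b * x⁻¹) = 1 := by
    have h1 := hthree (a * x) (by rw [map_mul, ha, hx]; exact f8) (by rw [map_mul, ha, hx]; exact f9)
    calc a * b * (x * b * x⁻¹) = a * x * (a * x) * (a * x) * (x * x * x)⁻¹ := by rw [hb']; group
      _ = 1 := by rw [← pow_three', ← pow_three', h1, hx3, inv_one, one_mul]
  set c' := x * b * x⁻¹ with hc'
  have hc2 : c' * c' = 1 := by rw [hc', show x * b * x⁻¹ * (x * b * x⁻¹) = x * (b * b) * x⁻¹ by group, hb2]; group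
  have hceq : c' = a * b := by
    rw [← inv_eq_of_mul_eq_one_right hc2]
    exact inv_eq_of_mul_eq_one_left hab3
  have hba : b * a = a * b := by
    calc b * a = (a * b)⁻¹ := by rw [mul_inv_rev, inv_eq_of_mul_eq_one_right hb2, inv_eq_of_mul_eq_one_right ha2]
      _ = c'⁻¹ := by rw [hceq]
      _ = a * b := by rw [inv_eq_of_mul_eq_one_right hc2, hceq]
  have hxab : x * (a * b) * x⁻¹ = a := by
    rw [← hceq, hc', hb', show x * (x * (x * a * x⁻¹) * x⁻¹) * x⁻¹ = (x * x * x) * a * (x * x * x)⁻¹ by group,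
      ← pow_three', hx3]
    group
  -- the sixty element complement
  set E : List G := [1, a, b, a * b] with hE
  have hEmul : ∀ p ∈ E, ∀ q ∈ E, p * q ∈ E := by
    intro p hp q hq
    simp only [hE, List.mem_cons, List.not_mem_nil, or_false] at hp hq ⊢
    have k1 : a * (a * b) = b := by rw [← mul_assoc, ha2, one_mul]
    have k2 : a * b * b = a := by rw [mul_assoc, hb2, mul_one]
    have k3 : a * b * a = b := by rw [mul_assoc, hba, k1]
    have k4 : b * (a * b) = a := by rw [← mul_assoc, hba, k2]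
    have k5 : a * b * (a * b) = 1 := by rw [mul_assoc, k4, ha2]
    rcases hp with e1 | e1 | e1 | e1 <;> rcases hq with e2 | e2 | e2 | e2 <;>
      rw [e1, e2] <;> simp only [one_mul, mul_one, ha2, hb2, hba, k1, k2, k3, k4, k5, true_or, or_true]
  have hEx : ∀ p ∈ E, x * p * x⁻¹ ∈ E := by
    intro p hp
    simp only [hE, List.mem_cons, List.not_mem_nil, or_false] at hp ⊢
    rcases hp with rfl | rfl | rfl | rfl
    · left; group
    · right; right; left; rw [hb']
    · right; right; right; rw [← hceq, hc']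
    · right; left; exact hxab
  have hExn : ∀ (i : ℕ), ∀ p ∈ E, x ^ i * p * (x ^ i)⁻¹ ∈ E := by
    intro i
    induction i with
    | zero => intro p hp; simpa using hp
    | succ i ih =>
      intro p hp
      rw [pow_succ', show x * x ^ i * p * (x * x ^ i)⁻¹ = x * (x ^ i * p * (x ^ i)⁻¹) * x⁻¹ by group]
      exact hEx _ (ih p hp)
  have hxmod : ∀ i : ℕ, ∃ j ∈ [0, 1, 2], x ^ i = x ^ j := fun i => ⟨i % 3, by
    have := Nat.mod_lt i (by norm_num : 3 > 0)
    simp only [List.mem_cons, List.not_mem_nil, or_false]; omega, by rw [← hxo, pow_mod_orderOf]⟩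
  have hsxi : ∀ i : ℕ, s * x ^ i = x ^ (2 * i) * s := by
    intro i
    have h1 : (s * x * s⁻¹) ^ i = s * x ^ i * s⁻¹ := conj_pow
    rw [hsx, hsinv] at h1
    have h3 : x⁻¹ = x ^ 2 := inv_eq_of_mul_eq_one_right (by rw [← pow_succ']; exact hx3)
    rw [h3, ← pow_mul] at h1
    rw [h1, mul_assoc, hs2, mul_one]
  let InK : G → Prop := fun y => (∃ p ∈ E, ∃ i : ℕ, y = p * x ^ i) ∨ (∃ p ∈ E, ∃ i : ℕ, ∃ q ∈ E, y = p * x ^ i * s * q)
  have hsas : s * a * s = a * s * a := by
    have h1 := hthree (a * s) (by rw [map_mul, ha, hs]; exact f10) (by rw [map_mul, ha, hs]; exact f11)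
    calc s * a * s = a⁻¹ * (a * s * (a * s) * (a * s)) * s⁻¹ * a⁻¹ := by group
      _ = a⁻¹ * s⁻¹ * a⁻¹ := by rw [← pow_three', h1]; group
      _ = a * s * a := by rw [inv_eq_of_mul_eq_one_right ha2, hsinv]
  have hXinv : ∀ i : ℕ, (x ^ i)⁻¹ = x ^ (2 * i) := fun i => inv_eq_of_mul_eq_one_right (by
    rw [← pow_add, show i + 2 * i = 3 * i by ring, pow_mul, hx3, one_pow])
  have hses : ∀ p ∈ E, s * p * s = 1 ∨ ∃ q ∈ E, ∃ i : ℕ, ∃ r ∈ E, s * p * s = q * x ^ i * s * r := by
    have hgen : ∀ i : ℕ, ∃ q ∈ E, s * (x ^ i * a * (x ^ i)⁻¹) * s = q * x ^ i * s * q := by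
      intro i
      refine ⟨x ^ (2 * i) * a * (x ^ (2 * i))⁻¹, hExn _ a (by simp [hE]), ?_⟩
      rw [← hXinv, inv_inv]
      have hX : s * x ^ i * s = (x ^ i)⁻¹ := by rw [hsxi, mul_assoc, hs2, mul_one, hXinv]
      have hX3 : x ^ i * x ^ i * x ^ i = 1 := by
        rw [← pow_add, ← pow_add, show i + i + i = 3 * i by ring, pow_mul, hx3, one_pow]
      set X := x ^ i
      have hsX : s * X⁻¹ = X * s := by
        rw [← hX]
        calc s * (s * X * s) = (s * s) * (X * s) := by group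
          _ = _ := by rw [hs2, one_mul]
      calc s * (X * a * X⁻¹) * s = (s * X * s) * (s * a * s) * (s * X * s)⁻¹ := by
            simp only [mul_inv_rev, hsinv, mul_assoc]
            simp [← mul_assoc, hs2]
        _ = X⁻¹ * a * s * a * X := by rw [hX, hsas, inv_inv]; group
        _ = X⁻¹ * a * ((X * X * X) * s) * a * X := by rw [hX3, one_mul]
        _ = X⁻¹ * a * (X * X * (s * X⁻¹)) * a * X := by rw [hsX]; group
        _ = _ := by group
    intro p hp
    simp only [hE, List.mem_cons, List.not_mem_nil, or_false] at hp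
    rcases hp with e1 | e1 | e1 | e1
    · left; rw [e1, mul_one, hs2]
    all_goals right
    · obtain ⟨q, hq, hq'⟩ := hgen 0
      exact ⟨q, hq, 0, q, hq, by rw [e1]; simpa using hq'⟩
    · obtain ⟨q, hq, hq'⟩ := hgen 1
      exact ⟨q, hq, 1, q, hq, by rw [e1, hb']; simpa using hq'⟩
    · obtain ⟨q, hq, hq'⟩ := hgen 2
      refine ⟨q, hq, 2, q, hq, ?_⟩
      rw [e1, ← hceq, hc', hb', ← hq']
      simp [pow_two, mul_assoc]
  have hconjE : ∀ (i : ℕ), ∀ p ∈ E, (x ^ i)⁻¹ * p * x ^ i ∈ E := fun i p hp => by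
    have := hExn (2 * i) p hp
    rwa [← hXinv, inv_inv] at this
  have hK : ∀ y ∈ Subgroup.closure ({a, x, s} : Set G), InK y := by
    intro y hy
    rw [← Subgroup.mem_toSubmonoid, Subgroup.closure_toSubmonoid_of_finite] at hy
    induction hy using Submonoid.closure_induction_left with
    | one => exact Or.inl ⟨1, by simp [hE], 0, by simp⟩
    | mul_left u hu y _ ih =>
      rcases hu with e | e | e <;> rw [e]
      · rcases ih with ⟨p, hp, i, rfl⟩ | ⟨p, hp, i, q, hq, rfl⟩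
        · exact Or.inl ⟨_, hEmul a (by simp [hE]) p hp, i, by group⟩
        · exact Or.inr ⟨_, hEmul a (by simp [hE]) p hp, i, q, hq, by group⟩
      · rcases ih with ⟨p, hp, i, rfl⟩ | ⟨p, hp, i, q, hq, rfl⟩
        · exact Or.inl ⟨_, hEx p hp, i + 1, by rw [pow_succ']; group⟩
        · exact Or.inr ⟨_, hEx p hp, i + 1, q, hq, by rw [pow_succ']; group⟩
      · rcases ih with ⟨p, hp, i, rfl⟩ | ⟨p, hp, i, q, hq, rfl⟩
        · refine Or.inr ⟨1, by simp [hE], 2 * i, _, hconjE i p hp, ?_⟩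
          calc s * (p * x ^ i) = (s * x ^ i) * ((x ^ i)⁻¹ * p * x ^ i) := by group
            _ = _ := by rw [hsxi, one_mul]
        · have h1 : s * (p * x ^ i * s * q) = (s * p * s) * x ^ (2 * i) * q := by
            calc s * (p * x ^ i * s * q) = s * p * (x ^ i * s) * q := by group
              _ = s * p * (s * (x ^ i)⁻¹) * q * 1 := by
                rw [hXinv, hsxi, mul_one, show 2 * (2 * i) = 3 * i + i by ring, pow_add, pow_mul, hx3, one_pow,
                  one_mul]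
              _ = _ := by rw [hXinv, mul_one]; group
          rcases hses p hp with h0 | ⟨q₁, hq₁, j, r, hr, h0⟩
          · refine Or.inl ⟨x ^ (2 * i) * q * (x ^ (2 * i))⁻¹, hExn _ q hq, 2 * i, ?_⟩
            rw [h1, h0]; group
          · refine Or.inr ⟨q₁, hq₁, j + 2 * (2 * i), _, hEmul _ (hconjE (2 * i) r hr) q hq, ?_⟩
            rw [h1, h0, pow_add, ← mul_assoc q₁, mul_assoc (q₁ * x ^ j) (x ^ (2 * (2 * i))) s, ← hsxi]
            group
  set K := Subgroup.closure ({a, x, s} : Set G) with hKdef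
  have hKtriv : ∀ y ∈ K, ρ y = 1 → y = 1 := by
    intro y hy hy1
    have hρE : ∀ p ∈ E, ρ p ∈ [1, aM, xM * aM * xM⁻¹, aM * (xM * aM * xM⁻¹)] ∧ (ρ p = 1 → p = 1) := by
      intro p hp
      simp only [hE, List.mem_cons, List.not_mem_nil, or_false] at hp
      have g1 : aM ≠ 1 ∧ xM * aM * xM⁻¹ ≠ 1 ∧ aM * (xM * aM * xM⁻¹) ≠ 1 := by decide +kernel
      rcases hp with e1 | e1 | e1 | e1 <;>
        simp only [e1, hb', map_one, map_mul, map_inv, ha, hx] <;>
        simp [g1.1, g1.2.1, g1.2.2]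
    rcases hK y hy with ⟨p, hp, i, rfl⟩ | ⟨p, hp, i, q, hq, rfl⟩
    · obtain ⟨j, hj, hij⟩ := hxmod i
      rw [hij] at hy1 ⊢
      rw [map_mul, map_pow, hx] at hy1
      obtain ⟨h1, h0⟩ := (bruhat _ (hρE p hp).1 j hj).1 hy1
      rw [(hρE p hp).2 h1, h0, pow_zero, mul_one]
    · obtain ⟨j, hj, hij⟩ := hxmod i
      rw [hij, map_mul, map_mul, map_mul, map_pow, hx, hs] at hy1
      exact absurd hy1 ((bruhat _ (hρE p hp).1 j hj).2 _ (hρE q hq).1)
  have hKtop : K.map ρ = ⊤ := generated _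
    ⟨a, subset_closure (by simp), ha⟩ ⟨x, subset_closure (by simp), hx⟩ ⟨s, subset_closure (by simp), hs⟩
  let ρK : K →* S2 := ρ.comp K.subtype
  have hρK : Function.Bijective ρK := by
    refine ⟨(injective_iff_map_eq_one ρK).2 fun y hy => Subtype.ext (hKtriv y y.2 hy), fun A => ?_⟩
    obtain ⟨y, hy, hyA⟩ := hKtop.ge (mem_top A)
    exact ⟨⟨y, hy⟩, hyA⟩
  let κ : S2 →* G := K.subtype.comp (MulEquiv.ofBijective ρK hρK).symm.toMonoidHom
  have hρκ : ∀ A, ρ (κ A) = A := fun A => (MulEquiv.ofBijective ρK hρK).apply_symm_apply A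
  have hκ : ∀ y (hy : y ∈ K), κ (ρ y) = y := fun y hy =>
    congrArg Subtype.val ((MulEquiv.ofBijective ρK hρK).symm_apply_apply ⟨y, hy⟩)
  have hκa : κ aM = a := ha ▸ hκ a (subset_closure (by simp))
  have hκx : κ xM = x := hx ▸ hκ x (subset_closure (by simp))
  have hκs : κ sM = s := hs ▸ hκ s (subset_closure (by simp))
  -- fixed points of an involution
  have hab : ∀ w ∈ N, Commute a w → Commute (x⁻¹ * a * x) w := by
    intro w hw hAw
    have e1 := hnorm (x * a) (by rw [map_mul, hx, ha]; decide +kernel) (by rw [map_mul, hx, ha]; decide +kernel) w hw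
    have e2 := hnorm x (by rw [hx]; exact f5) (by rw [hx]; exact f4) w hw
    have hga : x * a * w * (x * a)⁻¹ = x * w * x⁻¹ := by rw [mul_assoc x a w, hAw.eq]; group
    rw [hga] at e1
    have e3 := mul_left_cancel (e1.trans e2.symm)
    have e4 : a * (x * w * x⁻¹) = x * w * x⁻¹ * a := by
      have := congrArg (fun z => x⁻¹ * z * x * a) e3
      simpa [mul_assoc] using this
    show x⁻¹ * a * x * w = w * (x⁻¹ * a * x)
    calc x⁻¹ * a * x * w = x⁻¹ * (a * (x * w * x⁻¹)) * x := by group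
      _ = x⁻¹ * (x * w * x⁻¹ * a) * x := by rw [e4]
      _ = w * (x⁻¹ * a * x) := by group
  have hxC : ∀ w ∈ N, Commute a w → Commute a (x * w * x⁻¹) := by
    intro w hw hAw
    have h1 := (hab w hw hAw).map (MulAut.conj x).toMonoidHom
    have e0 : x * (x⁻¹ * a * x) * x⁻¹ = a := by group
    simpa [e0] using h1
  have hTid : ∀ w ∈ N, Commute a w → a * (s * w * s⁻¹) * a⁻¹ = w * (s * w * s⁻¹) := by
    intro w hw hAw
    have e1 := hnorm (a * s) (by rw [map_mul, ha, hs]; exact f10) (by rw [map_mul, ha, hs]; exact f11) w hw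
    set m := a * s * w * (a * s)⁻¹ with hm
    have hm2 : a * s * m * (a * s)⁻¹ = s * w * s⁻¹ := by
      have h2 : s * a * s * w * (s * a * s)⁻¹ = m := by
        rw [hsas, hm]
        calc a * s * a * w * (a * s * a)⁻¹ = a * s * (a * w * a⁻¹) * (a * s)⁻¹ := by group
          _ = _ := by rw [hAw.eq, mul_inv_cancel_right]
      calc a * s * m * (a * s)⁻¹ = a * s * (a * s * w * (a * s)⁻¹) * (a * s)⁻¹ := by rw [hm]
        _ = a * (s * a * s * w * (s * a * s)⁻¹) * a⁻¹ := by group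
        _ = a * m * a⁻¹ := by rw [h2]
        _ = (a * a) * (s * w * s⁻¹) * (a * a)⁻¹ := by rw [hm]; group
        _ = s * w * s⁻¹ := by rw [ha2]; group
    rw [hm2] at e1
    have hN' : s * w * s⁻¹ ∈ N := hcj s w hw
    have hmN : m ∈ N := hcj _ w hw
    have e3 : m = w * (s * w * s⁻¹) := by
      calc m = w * w * m * ((s * w * s⁻¹) * (s * w * s⁻¹)) := by rw [h2 w hw, h2 _ hN', one_mul, mul_one]
        _ = w * (w * m * (s * w * s⁻¹)) * (s * w * s⁻¹) := by group
        _ = _ := by rw [e1, mul_one]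
    rw [← e3, hm]; group
  -- a fixed point
  obtain ⟨c, hcN, hc1, hac⟩ : ∃ c ∈ N, c ≠ 1 ∧ Commute a c := by
    obtain ⟨w, hw, hw1⟩ := N.bot_or_exists_ne_one.resolve_left hN1
    by_cases hwa : Commute a w
    · exact ⟨w, hw, hw1, hwa⟩
    refine ⟨w * (a * w * a⁻¹), mul_mem hw (hcj a w hw), fun e1 => hwa ?_, ?_⟩
    · have : a * w * a⁻¹ = w := by
        rw [← inv_eq_of_mul_eq_one_right e1, inv_eq_of_mul_eq_one_right (h2 w hw)]
      exact mul_inv_eq_iff_eq_mul.1 this
    · have e1 : a * (w * (a * w * a⁻¹)) * a⁻¹ = w * (a * w * a⁻¹) := by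
        calc a * (w * (a * w * a⁻¹)) * a⁻¹ = (a * w * a⁻¹) * ((a * a) * w * (a * a)⁻¹) := by group
          _ = _ := by rw [ha2, inv_one, one_mul, mul_one, hc _ (hcj a w hw) w hw]
      exact mul_inv_eq_iff_eq_mul.1 e1
  set d := x * c * x⁻¹ with hd
  have hdN : d ∈ N := hcj x c hcN
  have had : Commute a d := hxC c hcN hac
  have hcdN : c * d ∈ N := mul_mem hcN hdN
  have hd1 : d ≠ 1 := fun e1 => hc1 (conj_eq_one_iff.1 e1)
  have hcd : c * d ≠ 1 := fun e1 => hc1 (hfix c hcN (mul_inv_eq_iff_eq_mul.1 (by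
    show d = c
    rw [← inv_eq_of_mul_eq_one_right e1, inv_eq_of_mul_eq_one_right (h2 c hcN)])))
  have hxd : x * d * x⁻¹ = c * d := by
    have e2 := hnorm x (by rw [hx]; exact f5) (by rw [hx]; exact f4) c hcN
    rw [← hd] at e2
    rw [← inv_eq_of_mul_eq_one_right e2, inv_eq_of_mul_eq_one_right (h2 _ hcdN)]
  -- coordinates
  let φ : F4 → G := fun t => match t with
    | .o => 1
    | .i => c
    | .w => d
    | .v => c * d
  have hφN : ∀ t, φ t ∈ N := fun t => by cases t <;> first | exact one_mem N | exact hcN | exact hdN | exact hcdN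
  have hdc : d * c = c * d := hc d hdN c hcN
  have hφadd : ∀ t t', φ (t + t') = φ t * φ t' := by
    intro t t'
    have hcc := h2 c hcN
    have hdd := h2 d hdN
    have k1 : c * (c * d) = d := by rw [← mul_assoc, hcc, one_mul]
    have k2 : c * d * c = d := by rw [mul_assoc, hdc, k1]
    have k3 : c * d * d = c := by rw [mul_assoc, hdd, mul_one]
    have k4 : d * (c * d) = c := by rw [← mul_assoc, hdc, k3]
    have k5 : c * d * (c * d) = 1 := h2 _ hcdN
    cases t <;> cases t' <;>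
      simp only [φ, show ∀ p q : F4, p + q = F4.add p q from fun _ _ => rfl, F4.add, one_mul, mul_one, hcc, hdd, hdc,
        k1, k2, k3, k4, k5]
  have hφa : ∀ t, Commute a (φ t) := fun t => by
    cases t <;> first | exact Commute.one_right a | exact hac | exact had | exact hac.mul_right had
  have hφx : ∀ t, x * φ t * x⁻¹ = φ (F4.w * t) := by
    intro t
    cases t <;> simp only [φ, show ∀ p q : F4, p * q = F4.mul p q from fun _ _ => rfl, F4.mul]
    · group
    · exact hd.symm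
    · exact hxd
    · rw [show x * (c * d) * x⁻¹ = (x * c * x⁻¹) * (x * d * x⁻¹) by group, ← hd, hxd, ← mul_assoc, hdc,
        mul_assoc, h2 d hdN, mul_one]
  have hφ1 : ∀ t, φ t = 1 → t = 0 := fun t => by
    cases t <;> intro e1
    · rfl
    · exact absurd e1 hc1
    · exact absurd e1 hd1
    · exact absurd e1 hcd
  let n : (Fin 2 → F4) → G := fun v => φ (v 0) * (s * φ (v 1) * s⁻¹)
  have hnN : ∀ v, n v ∈ N := fun v => mul_mem (hφN _) (hcj s _ (hφN _))
  have hnadd : ∀ v w, n (v + w) = n v * n w := by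
    intro v w
    simp only [n, Pi.add_apply, hφadd]
    have := hc _ (hφN (w 0)) _ (hcj s _ (hφN (v 1)))
    calc φ (v 0) * φ (w 0) * (s * (φ (v 1) * φ (w 1)) * s⁻¹)
        = φ (v 0) * (φ (w 0) * (s * φ (v 1) * s⁻¹)) * (s * φ (w 1) * s⁻¹) := by group
      _ = _ := by rw [this]; group
  have hequiv : ∀ A : S2, ∀ v, κ A * n v * (κ A)⁻¹ = n (Matrix.mulVec (A : Matrix (Fin 2) (Fin 2) F4) v) := by
    let T : Submonoid S2 :=
      { carrier := {A | ∀ v, κ A * n v * (κ A)⁻¹ = n (Matrix.mulVec (A : Matrix (Fin 2) (Fin 2) F4) v)}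
        one_mem' := fun v => by simp
        mul_mem' := fun {A B} hA hB v => by
          rw [map_mul, Matrix.SpecialLinearGroup.coe_mul, ← Matrix.mulVec_mulVec,
            show κ A * κ B * n v * (κ A * κ B)⁻¹ = κ A * (κ B * n v * (κ B)⁻¹) * (κ A)⁻¹ by group, hB v]
          exact hA _ }
    let H : Subgroup S2 :=
      { T with
        inv_mem' := fun {A} hA => by
          have e1 : A⁻¹ = A ^ (orderOf A - 1) := inv_eq_of_mul_eq_one_right (by
            rw [← pow_succ', Nat.sub_add_cancel (orderOf_pos A), pow_orderOf_eq_one])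
          exact e1 ▸ T.pow_mem hA _ }
    suffices H = ⊤ from fun A => this.ge (mem_top A)
    refine generated H (fun v => ?_) (fun v => ?_) (fun v => ?_)
    · rw [hκa]
      have hv : Matrix.mulVec (aM : Matrix (Fin 2) (Fin 2) F4) v = ![v 0 + v 1, v 1] := by
        funext i; fin_cases i <;> simp [aM, mk2, Matrix.mulVec, dotProduct, Fin.sum_univ_two]
      rw [hv]
      show a * (φ (v 0) * (s * φ (v 1) * s⁻¹)) * a⁻¹ = φ (v 0 + v 1) * (s * φ (v 1) * s⁻¹)
      rw [hφadd, show a * (φ (v 0) * (s * φ (v 1) * s⁻¹)) * a⁻¹ =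
        (a * φ (v 0) * a⁻¹) * (a * (s * φ (v 1) * s⁻¹) * a⁻¹) by group, (hφa (v 0)).eq, mul_inv_cancel_right,
        hTid _ (hφN _) (hφa _)]
      simp only [mul_assoc]
    · rw [hκx]
      have hv : Matrix.mulVec (xM : Matrix (Fin 2) (Fin 2) F4) v = ![F4.w * v 0, F4.v * v 1] := by
        funext i; fin_cases i <;> simp [xM, mk2, Matrix.mulVec, dotProduct, Fin.sum_univ_two]
      rw [hv]
      show x * (φ (v 0) * (s * φ (v 1) * s⁻¹)) * x⁻¹ = φ (F4.w * v 0) * (s * φ (F4.v * v 1) * s⁻¹)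
      have h5 : x * s = s * x⁻¹ := by
        rw [← hsx, hsinv, show s * (s * x * s) = (s * s) * (x * s) by group, hs2, one_mul]
      have h6 : x * (s * φ (v 1) * s⁻¹) * x⁻¹ = s * φ (F4.v * v 1) * s⁻¹ := by
        have e7 : F4.v * v 1 = F4.w * (F4.w * v 1) := by
          rw [← mul_assoc]; rfl
        rw [e7, ← hφx, ← hφx]
        have h8 : x⁻¹ = x * x := inv_eq_of_mul_eq_one_right (by rw [← mul_assoc, ← pow_three', hx3])
        calc x * (s * φ (v 1) * s⁻¹) * x⁻¹ = (x * s) * φ (v 1) * (x * s)⁻¹ := by group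
          _ = s * (x * x * φ (v 1) * (x * x)⁻¹) * s⁻¹ := by rw [h5, h8]; group
          _ = _ := by group
      rw [show x * (φ (v 0) * (s * φ (v 1) * s⁻¹)) * x⁻¹ =
        (x * φ (v 0) * x⁻¹) * (x * (s * φ (v 1) * s⁻¹) * x⁻¹) by group, h6, hφx]
    · rw [hκs]
      have hv : Matrix.mulVec (sM : Matrix (Fin 2) (Fin 2) F4) v = ![v 1, v 0] := by
        funext i; fin_cases i <;> simp [sM, mk2, Matrix.mulVec, dotProduct, Fin.sum_univ_two]
      rw [hv]
      show s * (φ (v 0) * (s * φ (v 1) * s⁻¹)) * s⁻¹ = φ (v 1) * (s * φ (v 0) * s⁻¹)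
      rw [show s * (φ (v 0) * (s * φ (v 1) * s⁻¹)) * s⁻¹ = (s * φ (v 0) * s⁻¹) * ((s * s) * φ (v 1) * (s * s)⁻¹)
        by group, hs2, inv_one, one_mul, mul_one]
      exact hc _ (hcj s _ (hφN _)) _ (hφN _)
  have hn0 : n 0 = 1 := by
    show (1 : G) * (s * 1 * s⁻¹) = 1
    group
  have hn1 : ∀ v, n v = 1 → v = 0 := by
    intro v hv
    have hneg : ∀ z ∈ N, z⁻¹ = z := fun z hz => inv_eq_of_mul_eq_one_right (h2 z hz)
    have e1 : φ (v 0) = s * φ (v 1) * s⁻¹ := by
      rw [← hneg _ (hcj s _ (hφN (v 1)))]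
      exact eq_inv_of_mul_eq_one_left hv
    have hA0 := hφa (v 0)
    have h8 : Commute (a * s) (φ (v 1)) := by
      have h9 := hTid _ (hφN (v 1)) (hφa _)
      rw [← e1] at h9
      rw [hA0.eq, mul_inv_cancel_right] at h9
      have : φ (v 1) = 1 := mul_right_cancel (h9.symm.trans (one_mul _).symm)
      rw [this]; exact Commute.one_right _
    have e3 : φ (v 1) = 1 := by
      refine fpf h ?_ (by rw [pow_two]; exact h2 _ (hφN _)) h8
      exact orderOf_eq_prime (hthree _ (by rw [map_mul, ha, hs]; exact f10) (by rw [map_mul, ha, hs]; exact f11))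
        fun e4 => f11 (by rw [← ha, ← hs, ← map_mul, e4, map_one])
    rw [e3] at e1
    have e5 : φ (v 0) = 1 := by rw [e1]; group
    funext i
    fin_cases i
    · exact hφ1 _ e5
    · exact hφ1 _ e3
  -- the translations are everything
  let R : Subgroup G :=
    { carrier := Set.range n
      one_mem' := ⟨0, hn0⟩
      mul_mem' := by rintro _ _ ⟨v, rfl⟩ ⟨w, rfl⟩; exact ⟨v + w, hnadd v w⟩
      inv_mem' := by
        rintro _ ⟨v, rfl⟩
        exact ⟨v, (inv_eq_of_mul_eq_one_right (h2 _ (hnN v))).symm⟩ }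
  have hdecomp : ∀ y : G, ∃ A, y * (κ A)⁻¹ ∈ N := fun y => ⟨ρ y, (hker _).1 (by
    rw [map_mul, map_inv, hρκ, mul_inv_cancel])⟩
  have hR : R = N := by
    refine hmin R ⟨?_⟩ (by rintro _ ⟨v, rfl⟩; exact hnN v) ?_
    · rintro _ ⟨v, rfl⟩ y
      obtain ⟨A, hA⟩ := hdecomp y
      refine ⟨Matrix.mulVec (A : Matrix (Fin 2) (Fin 2) F4) v, ?_⟩
      rw [← hequiv]
      have h9 := hc _ hA _ (hcj (κ A) _ (hnN v))
      calc κ A * n v * (κ A)⁻¹ = κ A * n v * (κ A)⁻¹ * (y * (κ A)⁻¹) * (y * (κ A)⁻¹)⁻¹ := by group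
        _ = (y * (κ A)⁻¹) * (κ A * n v * (κ A)⁻¹) * (y * (κ A)⁻¹)⁻¹ := by rw [h9]
        _ = y * n v * y⁻¹ := by group
    · intro e1
      have hm : n (fun _ => F4.i) ∈ R := ⟨fun _ => F4.i, rfl⟩
      rw [e1, mem_bot] at hm
      have h9 := congrFun (hn1 (fun _ => F4.i) hm) 0
      exact absurd h9 (show ¬ (F4.i = (0 : F4)) by decide)
  -- the isomorphism
  let T0 := Subgroup.closure affSet
  let μ : T0 →* G :=
    { toFun := fun M => n (vec (M : S3)) * κ (blk (M : S3) (closure_affSet M.2))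
      map_one' := by
        have h1 : blk (1 : S3) (closure_affSet (one_mem T0)) = 1 := by
          refine Subtype.ext (Matrix.ext fun i j => ?_)
          fin_cases i <;> fin_cases j <;> simp [blk]
        have h3 : vec (1 : S3) = 0 := by funext i; fin_cases i <;> simp [vec]
        show n (vec (1 : S3)) * κ (blk (1 : S3) _) = 1
        rw [h1, h3, hn0, map_one, mul_one]
      map_mul' := fun A B => by
        obtain ⟨h1, h3⟩ := blk_vec_mul (closure_affSet A.2) (closure_affSet B.2)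
        show n (vec ((A : S3) * B)) * κ (blk ((A : S3) * B) _) = _
        rw [h1, h3, map_mul, hnadd, ← hequiv, hc _ (hcj (κ _) _ (hnN _)) _ (hnN _)]
        group }
  have hμ : Function.Bijective μ := by
    refine ⟨(injective_iff_map_eq_one μ).2 fun M hM => ?_, fun y => ?_⟩
    · have hA : blk (M : S3) (closure_affSet M.2) = 1 := by
        have := congrArg ρ hM
        rwa [map_one, show μ M = n (vec (M : S3)) * κ (blk (M : S3) (closure_affSet M.2)) from rfl, map_mul,
          (hker _).2 (hnN _), one_mul, hρκ] at this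
      have hv : vec (M : S3) = 0 := hn1 _ (by
        rwa [show μ M = n (vec (M : S3)) * κ (blk (M : S3) (closure_affSet M.2)) from rfl, hA, map_one, mul_one] at hM)
      obtain ⟨m0, m1, m2⟩ := closure_affSet M.2
      have q0 := congrFun hv 0
      have q1 := congrFun hv 1
      have hA' := congrArg (fun B : S2 => (B : Matrix (Fin 2) (Fin 2) F4)) hA
      have q2 := congrFun (congrFun hA' 0) 0
      have q3 := congrFun (congrFun hA' 0) 1
      have q4 := congrFun (congrFun hA' 1) 0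
      have q5 := congrFun (congrFun hA' 1) 1
      simp [vec, blk] at q0 q1 q2 q3 q4 q5
      refine Subtype.ext (Subtype.ext (Matrix.ext fun i j => ?_))
      fin_cases i <;> fin_cases j <;> simp [m0, m1, m2, q0, q1, q2, q3, q4, q5]
    · obtain ⟨A, hA⟩ := hdecomp y
      obtain ⟨v, hv⟩ := hR.ge hA
      let M : S3 := ⟨!![(A : Matrix (Fin 2) (Fin 2) F4) 0 0, (A : Matrix (Fin 2) (Fin 2) F4) 0 1, v 0;
        (A : Matrix (Fin 2) (Fin 2) F4) 1 0, (A : Matrix (Fin 2) (Fin 2) F4) 1 1, v 1; 0, 0, 1], by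
          have := A.det_coe
          rw [Matrix.det_fin_two] at this
          rw [Matrix.det_fin_three]
          simpa using this⟩
      have hM : M ∈ T0 := subset_closure ⟨rfl, rfl, rfl⟩
      refine ⟨⟨M, hM⟩, ?_⟩
      have h1 : blk M (closure_affSet hM) = A := by
        refine Subtype.ext (Matrix.ext fun i j => ?_)
        fin_cases i <;> fin_cases j <;> simp [blk, M]
      have h3 : vec M = v := by funext i; fin_cases i <;> simp [vec, M]
      show n (vec M) * κ (blk M _) = y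
      rw [h1, h3, hv, inv_mul_cancel_right]
  exact ⟨(MulEquiv.ofBijective μ hμ).symm⟩

/-- The spectrum of a quotient of the whole group. -/
theorem critical_structure (h : Set.range (orderOf : G → ℕ) = ({1, 2, 3, 4, 5} : Set ℕ))
    (hcrit : ∀ M : Subgroup G, ∀ _ : M.Normal, M ≠ ⊥ →
      Set.range (orderOf : (G ⧸ M) → ℕ) ≠ ({1, 2, 3, 4, 5} : Set ℕ)) :
    Nonempty (G ≃* alternatingGroup (Fin 6)) ∨ Nonempty (G ≃* ↥(Subgroup.closure affSet)) := by
  classical
  have hle : OrdFive.Le5 G := fun g => by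
    have hg : orderOf g ∈ Set.range (orderOf : G → ℕ) := ⟨g, rfl⟩
    rw [h] at hg
    simp only [Set.mem_insert_iff, Set.mem_singleton_iff] at hg
    omega
  have hex : ∀ k ∈ ({1, 2, 3, 4, 5} : Set ℕ), ∃ g : G, orderOf g = k := fun k hk => by
    rw [← h] at hk; exact hk
  rcases OrdFive.structure_theorem hle (hex 2 (by simp)) (hex 3 (by simp)) (hex 5 (by simp)) with
    h6 | ⟨N, hN, ⟨hcom, hexp⟩, ⟨e⟩⟩
  · exact Or.inl h6
  haveI := hN
  refine Or.inr (affine_iso hle N ?_ (fun p hp q hq => congrArg Subtype.val (hcom.is_comm.comm ⟨p, hp⟩ ⟨q, hq⟩))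
    (fun q hq => by rw [← pow_two]; exact hexp q hq) ?_ e)
  · rintro rfl
    obtain ⟨g, hg⟩ := hex 4 (by simp)
    have h4 : orderOf (e (QuotientGroup.mk g)) = 4 := by
      rw [MulEquiv.orderOf_eq]
      exact (orderOf_injective (QuotientGroup.quotientBot (G := G)).symm.toMonoidHom
        (QuotientGroup.quotientBot (G := G)).symm.injective g).trans hg
    have hA5 : ∀ z : alternatingGroup (Fin 5), z ^ 4 = 1 → z ^ 2 = 1 := by decide +kernel
    have h5 := hA5 _ (h4 ▸ pow_orderOf_eq_one (e (QuotientGroup.mk g)))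
    have := orderOf_dvd_of_pow_eq_one h5
    rw [h4] at this
    norm_num at this
  intro M hM hMN hM1
  by_contra hne
  haveI := hM
  refine hcrit M hM hM1 (Set.eq_of_subset_of_subset ?_ ?_)
  · rintro _ ⟨q, rfl⟩
    obtain ⟨g, rfl⟩ := QuotientGroup.mk'_surjective M q
    have hd := orderOf_map_dvd (QuotientGroup.mk' M) g
    have := Nat.le_of_dvd (orderOf_pos g) hd
    have := hle g
    have := orderOf_pos (QuotientGroup.mk' M g)
    simp only [Set.mem_insert_iff, Set.mem_singleton_iff]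
    omega
  have hquot : OrdFive.Le5 (G ⧸ M) := hle.quotient M
  let θ : G ⧸ M →* alternatingGroup (Fin 5) := e.toMonoidHom.comp (QuotientGroup.map M N (MonoidHom.id G) hMN)
  have hθ : Function.Surjective θ := e.surjective.comp fun y => by
    obtain ⟨g, rfl⟩ := QuotientGroup.mk'_surjective N y
    exact ⟨QuotientGroup.mk g, rfl⟩
  obtain ⟨z, hzN, hzM⟩ : ∃ z ∈ N, z ∉ M := by
    by_contra h'
    push Not at h'
    exact hne (le_antisymm hMN h')
  set z' : G ⧸ M := QuotientGroup.mk z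
  have hz1 : z' ≠ 1 := fun e1 => hzM ((QuotientGroup.eq_one_iff z).1 e1)
  have hzk : θ z' = 1 := by
    show e (QuotientGroup.mk z) = 1
    rw [(QuotientGroup.eq_one_iff z).2 hzN, map_one]
  have hzk' : ∀ w : G ⧸ M, θ w = 1 → w * w = 1 := by
    intro w hw
    obtain ⟨g, rfl⟩ := QuotientGroup.mk'_surjective M w
    have hgN : g ∈ N := (QuotientGroup.eq_one_iff g).1 ((MulEquiv.map_eq_one_iff e).1 hw)
    rw [← map_mul, ← pow_two, hexp g hgN, map_one]
  -- preimages of elements of order three and five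
  have hlift : ∀ p : ℕ, p.Prime → p = 3 ∨ p = 5 → ∃ w : G ⧸ M, orderOf w = p := by
    intro p hp hp35
    haveI := Fact.mk hp
    obtain ⟨u, hu⟩ := exists_prime_orderOf_dvd_card' (G := alternatingGroup (Fin 5)) p (by
      rw [nat_card_alternatingGroup, Nat.card_fin]
      rcases hp35 with rfl | rfl <;> decide)
    obtain ⟨w, hw⟩ := hθ u
    refine ⟨w, ?_⟩
    have hd := orderOf_map_dvd θ w
    rw [hw, hu] at hd
    have := hquot w
    obtain ⟨k, hk⟩ := hd
    have := orderOf_pos w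
    rcases hp35 with rfl | rfl <;> omega
  have h4 : ∃ w : G ⧸ M, orderOf w = 4 := by
    by_contra hno
    push Not at hno
    have hsq : ∀ w : G ⧸ M, θ w * θ w = 1 → θ w ≠ 1 → w * w = 1 := by
      intro w hw hw1
      have hd := orderOf_map_dvd θ w
      rw [orderOf_eq_prime (p := 2) (by rw [pow_two]; exact hw) hw1] at hd
      rcases OrdFive.cases_order hquot w with e1 | e1 | e1 | e1 | e1
      · rw [e1] at hd; norm_num at hd
      · rw [← pow_two, ← e1, pow_orderOf_eq_one]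
      · rw [e1] at hd; norm_num at hd
      · exact absurd e1 (hno w)
      · rw [e1] at hd; norm_num at hd
    have hcomm : ∀ w : G ⧸ M, θ w * θ w = 1 → θ w ≠ 1 → Commute w z' := by
      intro w hw hw1
      have h1 := hsq w hw hw1
      have h3 := hsq (w * z') (by rw [map_mul, hzk, mul_one]; exact hw) (by rw [map_mul, hzk, mul_one]; exact hw1)
      have h4 := hzk' z' hzk
      show w * z' = z' * w
      rw [← inv_eq_of_mul_eq_one_right h3, mul_inv_rev, inv_eq_of_mul_eq_one_right h4,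
        inv_eq_of_mul_eq_one_right h1]
    obtain ⟨u, v, hu, hu1, hv, hv1, huv, huv1⟩ : ∃ u v : alternatingGroup (Fin 5),
        u * u = 1 ∧ u ≠ 1 ∧ v * v = 1 ∧ v ≠ 1 ∧ (u * v) ^ 3 = 1 ∧ u * v ≠ 1 := by decide +kernel
    obtain ⟨u', rfl⟩ := hθ u
    obtain ⟨v', rfl⟩ := hθ v
    have hc3 : Commute (u' * v') z' := (hcomm u' hu hu1).mul_left (hcomm v' hv hv1)
    haveI : Fact (Nat.Prime 3) := ⟨Nat.prime_three⟩
    have ho : orderOf (u' * v') = 3 := orderOf_eq_prime
      (pow_three_of_image hquot θ (by rw [map_mul]; exact huv) (by rw [map_mul]; exact huv1))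
      fun e1 => huv1 (by rw [← map_mul, e1, map_one])
    exact hz1 (fpf hquot ho (by rw [pow_two]; exact hzk' z' hzk) hc3)
  intro k hk
  simp only [Set.mem_insert_iff, Set.mem_singleton_iff] at hk
  rcases hk with rfl | rfl | rfl | rfl | rfl
  · exact ⟨1, orderOf_one⟩
  · obtain ⟨w, hw⟩ := h4
    exact ⟨w ^ 2, by rw [orderOf_pow_of_dvd (by norm_num) (hw ▸ by norm_num), hw]⟩
  · exact hlift 3 Nat.prime_three (Or.inl rfl)
  · exact h4
  · exact hlift 5 Nat.prime_five (Or.inr rfl)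

end Cfsg.Agent.Lie.CritFive
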