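import Mathlib

/-!
The minimal Frobenius groups with exactly the element orders `1`, `p`, `q`.
-/

set_option autoImplicit false

namespace Cfsg.Agent.Lie.CritPair

variable (p q : ℕ) [hp : Fact p.Prime] [hq : Fact q.Prime]

/-- The dimension of the kernel. -/
noncomputable def dimK : ℕ := orderOf (q : ZMod p) + if orderOf (q : ZMod p) = 0 then 1 else 0

theorem dimK_pos : 0 < dimK p q := by
  unfold dimK; split_ifs with h <;> omega

theorem dvd_iff {i : ℕ} (hne : p ≠ q) (hi : (q : ZMod p) ^ i = 1) : dimK p q ∣ i := by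
  have h0 : orderOf (q : ZMod p) ≠ 0 := by
    have hq0 : (q : ZMod p) ≠ 0 := by
      rw [Ne, ZMod.natCast_eq_zero_iff]
      exact fun h => hne ((Nat.prime_dvd_prime_iff_eq hp.out hq.out).1 h)
    rw [Ne, orderOf_eq_zero_iff, not_not, isOfFinOrder_iff_pow_eq_one]
    exact ⟨p - 1, Nat.sub_pos_of_lt hp.out.one_lt, ZMod.pow_card_sub_one_eq_one hq0⟩
  rw [dimK, if_neg h0, add_zero]
  exact orderOf_dvd_of_pow_eq_one hi

/-- The kernel field. -/
abbrev K : Type := GaloisField q (dimK p q)

theorem card_K : Nat.card (K p q) = q ^ dimK p q :=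
  GaloisField.card q (dimK p q) (dimK_pos p q).ne'

open Classical in
/-- A generator of the complement. -/
noncomputable def unitP : (K p q)ˣ :=
  if h : ∃ z : (K p q)ˣ, orderOf z = p then h.choose else 1

theorem orderOf_unitP (hne : p ≠ q) : orderOf (unitP p q) = p := by
  have h : ∃ z : (K p q)ˣ, orderOf z = p := by
    refine exists_prime_orderOf_dvd_card' p ?_
    rw [Nat.card_units, card_K]
    have h1 : (q : ZMod p) ^ dimK p q = 1 := by
      unfold dimK
      split_ifs with h
      · exfalso
        have hq0 : (q : ZMod p) ≠ 0 := by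
          rw [Ne, ZMod.natCast_eq_zero_iff]
          exact fun e => hne ((Nat.prime_dvd_prime_iff_eq hp.out hq.out).1 e)
        exact (orderOf_eq_zero_iff.1 h) (isOfFinOrder_iff_pow_eq_one.2
          ⟨p - 1, Nat.sub_pos_of_lt hp.out.one_lt, ZMod.pow_card_sub_one_eq_one hq0⟩)
      · rw [add_zero, pow_orderOf_eq_one]
    rw [← ZMod.natCast_eq_zero_iff, Nat.cast_sub (Nat.one_le_pow _ _ hq.out.pos), Nat.cast_pow, h1,
      Nat.cast_one, sub_self]
  rw [unitP, dif_pos h]
  exact h.choose_spec

/-- The complement. -/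
abbrev C : Type := ↥(Subgroup.zpowers (unitP p q))

/-- Multiplication by a unit as an automorphism of the additive group. -/
noncomputable def act : C p q →* MulAut (Multiplicative (K p q)) where
  toFun u :=
    { toFun := fun v => Multiplicative.ofAdd (((u : (K p q)ˣ) : K p q) * Multiplicative.toAdd v)
      invFun := fun v => Multiplicative.ofAdd (((u : (K p q)ˣ)⁻¹ : (K p q)ˣ) * Multiplicative.toAdd v)
      left_inv := fun v => by simp [← mul_assoc]
      right_inv := fun v => by simp [← mul_assoc]
      map_mul' := fun v w => by simp [mul_add] }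
  map_one' := MulEquiv.ext fun v => by simp
  map_mul' a b := MulEquiv.ext fun v => by simp [mul_assoc]

/-- The Frobenius group. -/
abbrev B : Type := Multiplicative (K p q) ⋊[act p q] C p q

instance : Finite (K p q) := Nat.finite_of_card_ne_zero (by rw [card_K]; exact pow_ne_zero _ hq.out.ne_zero)

instance : Finite (B p q) := Finite.of_equiv _ SemidirectProduct.equivProd.symm

variable {p q}

theorem card_B (hne : p ≠ q) : Nat.card (B p q) = q ^ dimK p q * p := by
  rw [SemidirectProduct.card, Nat.card_congr Multiplicative.toAdd, card_K, Nat.card_zpowers,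
    orderOf_unitP p q hne]

/-- The coordinate in the kernel. -/
noncomputable def vc (x : B p q) : K p q := Multiplicative.toAdd x.left

theorem vc_mul (x y : B p q) : vc (x * y) = vc x + ((x.right : (K p q)ˣ) : K p q) * vc y := by
  simp [vc, SemidirectProduct.mul_left, act]

theorem ext' {x y : B p q} (h1 : vc x = vc y) (h2 : x.right = y.right) : x = y :=
  SemidirectProduct.ext (Multiplicative.toAdd.injective h1) h2

theorem one_vc : vc (1 : B p q) = 0 := rfl

theorem vc_inl (v : K p q) : vc (SemidirectProduct.inl (Multiplicative.ofAdd v) : B p q) = v := rfl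

theorem right_pow (x : B p q) : ∀ n : ℕ, (x ^ n).right = x.right ^ n := fun n =>
  map_pow (SemidirectProduct.rightHom (φ := act p q)) x n

theorem vc_pow (x : B p q) : ∀ n : ℕ,
    vc (x ^ n) = (∑ i ∈ Finset.range n, ((x.right : (K p q)ˣ) : K p q) ^ i) * vc x := by
  intro n
  induction n with
  | zero => simp [one_vc]
  | succ n ih => rw [pow_succ', vc_mul, ih, geom_sum_succ, add_mul, one_mul, mul_assoc, add_comm]

theorem orderOf_cases (hne : p ≠ q) (x : B p q) :
    (x.right ≠ 1 ∧ orderOf x = p) ∨ (x.right = 1 ∧ vc x ≠ 0 ∧ orderOf x = q) ∨ x = 1 := by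
  by_cases hu : x.right = 1
  · right
    by_cases hv : vc x = 0
    · exact Or.inr (ext' (hv.trans one_vc.symm) hu)
    · refine Or.inl ⟨hu, hv, orderOf_eq_prime (ext' ?_ ?_) fun e => hv (by rw [e]; rfl)⟩
      · rw [vc_pow, hu, one_vc]; simp
      · rw [right_pow, hu, one_pow]; rfl
  · left
    refine ⟨hu, orderOf_eq_prime (ext' ?_ ?_) fun e => hu (by rw [e]; rfl)⟩
    · have hp1 : ((x.right : (K p q)ˣ) : K p q) ^ p = 1 := by
        have h : x.right ^ p = 1 := by
          have : Nat.card (C p q) = p := by rw [Nat.card_zpowers, orderOf_unitP p q hne]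
          exact orderOf_dvd_iff_pow_eq_one.1 ((orderOf_dvd_natCard x.right).trans (dvd_of_eq this))
        have := congrArg (fun u : C p q => ((u : (K p q)ˣ) : K p q)) h
        simpa using this
      have hne1 : ((x.right : (K p q)ˣ) : K p q) - 1 ≠ 0 := fun e =>
        hu (Subtype.ext (Units.ext (sub_eq_zero.1 e)))
      rw [vc_pow, (mul_eq_zero.1 (by rw [geom_sum_mul, hp1, sub_self] :
        (∑ i ∈ Finset.range p, ((x.right : (K p q)ˣ) : K p q) ^ i) * (((x.right : (K p q)ˣ) : K p q) - 1) = 0)).resolve_right hne1, zero_mul]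
      rfl
    · rw [right_pow]
      have : Nat.card (C p q) = p := by rw [Nat.card_zpowers, orderOf_unitP p q hne]
      exact orderOf_dvd_iff_pow_eq_one.1 ((orderOf_dvd_natCard x.right).trans (dvd_of_eq this))

theorem range_orderOf (hne : p ≠ q) : Set.range (orderOf : B p q → ℕ) = {1, p, q} := by
  ext m
  constructor
  · rintro ⟨x, rfl⟩
    rcases orderOf_cases hne x with ⟨_, h⟩ | ⟨_, _, h⟩ | h
    · simp [h]
    · simp [h]
    · simp [h]
  · rintro (rfl | rfl | rfl)
    · exact ⟨1, orderOf_one⟩
    · exact exists_prime_orderOf_dvd_card' m (by rw [card_B hne]; exact dvd_mul_left _ _)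
    · exact exists_prime_orderOf_dvd_card' m (by
        rw [card_B hne]; exact Dvd.dvd.mul_right (dvd_pow_self _ (dimK_pos p m).ne') _)

/-- An additive subgroup invariant under the generator and nonzero is everything. -/
theorem eq_top_of_invariant (hne : p ≠ q) (W : AddSubgroup (K p q)) (hW : W ≠ ⊥)
    (hinv : ∀ w ∈ W, (unitP p q : K p q) * w ∈ W) : W = ⊤ := by
  classical
  let R : Subfield (K p q) :=
    { carrier := {c | ∀ w ∈ W, c * w ∈ W}
      mul_mem' := fun {a b} ha hb w hw => by rw [mul_assoc]; exact ha _ (hb _ hw)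
      one_mem' := fun w hw => by rwa [one_mul]
      add_mem' := fun {a b} ha hb w hw => by rw [add_mul]; exact add_mem (ha _ hw) (hb _ hw)
      zero_mem' := fun w _ => by rw [zero_mul]; exact zero_mem W
      neg_mem' := fun {a} ha w hw => by rw [neg_mul]; exact neg_mem (ha _ hw)
      inv_mem' := fun a ha w hw => by
        by_cases h0 : a = 0
        · simp [h0]
        · let f : W → W := fun v => ⟨a * v, ha v v.2⟩
          have hf : Function.Injective f := fun u v e =>
            Subtype.ext (mul_left_cancel₀ h0 (congrArg Subtype.val e))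
          obtain ⟨v, hv⟩ := Finite.surjective_of_injective hf ⟨w, hw⟩
          have hv' : a * (v : K p q) = w := congrArg Subtype.val hv
          rw [← hv', inv_mul_cancel_left₀ h0]
          exact v.2 }
  haveI : Fintype R := Fintype.ofFinite R
  let v : Rˣ := Units.mk0 (⟨(unitP p q : K p q), hinv⟩ : R) fun e =>
    (unitP p q).ne_zero (by simpa using congrArg (fun r : R => (r : K p q)) e)
  have hov : orderOf v = p := by
    rw [← orderOf_units,
      ← orderOf_injective R.subtype.toMonoidHom Subtype.val_injective ((v : Rˣ) : R)]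
    show orderOf (unitP p q : K p q) = p
    rw [orderOf_units, orderOf_unitP p q hne]
  haveI : CharP R q := (RingHom.charP_iff R.subtype Subtype.val_injective q).2 inferInstance
  obtain ⟨i, -, hi⟩ := FiniteField.card R q
  have hdvd : p ∣ q ^ (i : ℕ) - 1 := by
    have := orderOf_dvd_natCard v
    rwa [hov, Nat.card_units, Nat.card_eq_fintype_card, hi] at this
  have hk : dimK p q ∣ (i : ℕ) := dvd_iff p q hne (by
    rw [← ZMod.natCast_eq_zero_iff, Nat.cast_sub (Nat.one_le_pow _ _ hq.out.pos), Nat.cast_pow,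
      Nat.cast_one, sub_eq_zero] at hdvd
    exact hdvd)
  have hRle : Nat.card R ≤ Nat.card (K p q) := Nat.card_le_card_of_injective _ Subtype.val_injective
  have hRtop : ∀ c : K p q, c ∈ R := by
    have h1 : Nat.card (K p q) ≤ Nat.card R := by
      rw [card_K, Nat.card_eq_fintype_card, hi]
      exact Nat.pow_le_pow_right hq.out.pos (Nat.le_of_dvd i.pos hk)
    have hb := (Nat.bijective_iff_injective_and_card (fun r : R => (r : K p q))).2
      ⟨Subtype.val_injective, le_antisymm hRle h1⟩
    intro c
    obtain ⟨r, rfl⟩ := hb.2 c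
    exact r.2
  obtain ⟨w, hw, hw0⟩ := (AddSubgroup.ne_bot_iff_exists_ne_zero.1 hW).elim fun w hw =>
    (⟨(w : K p q), w.2, fun e => hw (Subtype.ext e)⟩ : ∃ w, w ∈ W ∧ w ≠ 0)
  refine eq_top_iff.2 fun c _ => ?_
  have := hRtop (c / w) w hw
  rwa [div_mul_cancel₀ _ hw0] at this

/-- A subgroup of order divisible by both primes is everything. -/
theorem eq_top_of_dvd (hne : p ≠ q) (H : Subgroup (B p q)) (hpH : p ∣ Nat.card H)
    (hqH : q ∣ Nat.card H) : H = ⊤ := by
  obtain ⟨x, hx⟩ := exists_prime_orderOf_dvd_card' p hpH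
  obtain ⟨y, hy⟩ := exists_prime_orderOf_dvd_card' q hqH
  rw [← Subgroup.orderOf_coe] at hx hy
  have hxr : (x : B p q).right ≠ 1 := by
    rcases orderOf_cases hne (x : B p q) with ⟨h, _⟩ | ⟨_, _, h⟩ | h
    · exact h
    · exact absurd (hx.symm.trans h) hne
    · rw [h, orderOf_one] at hx; exact absurd hx.symm hp.out.one_lt.ne'
  have hgen : ∀ u : C p q, u ∈ Subgroup.zpowers (x : B p q).right := by
    intro u
    have hc : Nat.card (C p q) = p := by rw [Nat.card_zpowers, orderOf_unitP p q hne]
    exact mem_zpowers_of_prime_card hc hxr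
  let W : AddSubgroup (K p q) :=
    { carrier := {v | (SemidirectProduct.inl (Multiplicative.ofAdd v) : B p q) ∈ H}
      zero_mem' := by simp
      add_mem' := fun {a b} ha hb => by
        simp only [Set.mem_setOf_eq, ofAdd_add, map_mul]; exact mul_mem ha hb
      neg_mem' := fun {a} ha => by simp only [Set.mem_setOf_eq, ofAdd_neg, map_inv]; exact inv_mem ha }
  have hWinv : ∀ u : C p q, ∀ v ∈ W, ((u : (K p q)ˣ) : K p q) * v ∈ W := by
    intro u v hv
    obtain ⟨n, rfl⟩ := Subgroup.mem_zpowers_iff.1 (hgen u)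
    show (SemidirectProduct.inl _ : B p q) ∈ H
    have key : ∀ (z : B p q), z ∈ H → (SemidirectProduct.inl (Multiplicative.ofAdd
        (((z.right : (K p q)ˣ) : K p q) * v)) : B p q) ∈ H := by
      intro z hz
      have e : (SemidirectProduct.inl (Multiplicative.ofAdd (((z.right : (K p q)ˣ) : K p q) * v)) : B p q) =
          z * SemidirectProduct.inl (Multiplicative.ofAdd v) * z⁻¹ := by
        rw [eq_mul_inv_iff_mul_eq]
        refine ext' ?_ ?_
        · rw [vc_mul, vc_mul]; simp [vc]; ring
        · simp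
      rw [e]; exact mul_mem (mul_mem hz hv) (inv_mem hz)
    have := key _ (zpow_mem x.2 n)
    rwa [show ((x : B p q) ^ n).right = (x : B p q).right ^ n from
      map_zpow (SemidirectProduct.rightHom (φ := act p q)) _ n] at this
  have hWtop : W = ⊤ := by
    refine eq_top_of_invariant hne W ?_ fun w hw => hWinv ⟨unitP p q, Subgroup.mem_zpowers _⟩ w hw
    rcases orderOf_cases hne (y : B p q) with ⟨_, h⟩ | ⟨hr, hv, _⟩ | h
    · exact absurd (h.symm.trans hy) hne
    · intro e
      have : vc (y : B p q) ∈ W := by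
        show (SemidirectProduct.inl (Multiplicative.ofAdd (vc (y : B p q))) : B p q) ∈ H
        convert y.2 using 1
        exact ext' (by simp [vc]) (by simp [hr])
      rw [e, AddSubgroup.mem_bot] at this
      exact hv this
    · rw [h, orderOf_one] at hy; exact absurd hy.symm hq.out.one_lt.ne'
  refine eq_top_iff.2 fun g _ => ?_
  obtain ⟨n, hn⟩ := Subgroup.mem_zpowers_iff.1 (hgen g.right)
  have e : g = SemidirectProduct.inl (Multiplicative.ofAdd (vc g - vc ((x : B p q) ^ n))) * (x : B p q) ^ n := by
    refine ext' ?_ ?_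
    · rw [vc_mul, vc_inl, SemidirectProduct.right_inl]; simp
    · rw [SemidirectProduct.mul_right, SemidirectProduct.right_inl, one_mul, ← hn]
      exact (map_zpow (SemidirectProduct.rightHom (φ := act p q)) _ n).symm
  rw [e]
  exact mul_mem (show vc g - vc ((x : B p q) ^ n) ∈ W from hWtop ▸ AddSubgroup.mem_top _) (zpow_mem x.2 n)

theorem center_trivial (hne : p ≠ q) (x : B p q) (hx : ∀ b, x * b = b * x) : x = 1 := by
  obtain ⟨z, hz⟩ : ∃ z : C p q, z = ⟨unitP p q, Subgroup.mem_zpowers _⟩ := ⟨_, rfl⟩
  have hz1 : ((z : (K p q)ˣ) : K p q) ≠ 1 := fun e => hp.out.one_lt.ne' (by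
    rw [← orderOf_unitP p q hne, orderOf_eq_one_iff]
    subst hz
    exact Units.ext e)
  have h1 := congrArg vc (hx (SemidirectProduct.inr z))
  rw [vc_mul, vc_mul] at h1
  have hv : vc x = 0 := by
    have h0 : vc (SemidirectProduct.inr z : B p q) = 0 := by simp [vc]
    rw [h0, mul_zero, add_zero, zero_add, SemidirectProduct.right_inr] at h1
    by_contra hv
    exact hz1 (mul_right_cancel₀ hv (h1.symm.trans (one_mul _).symm))
  have h2 := congrArg vc (hx (SemidirectProduct.inl (Multiplicative.ofAdd (1 : K p q))))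
  rw [vc_mul, vc_mul, hv] at h2
  simp [vc] at h2
  exact ext' (hv.trans one_vc.symm) h2

/-- A nontrivial normal subgroup contains the kernel. -/
theorem dvd_normal (hne : p ≠ q) (N : Subgroup (B p q)) [hN : N.Normal] (hN1 : N ≠ ⊥) :
    q ^ dimK p q ∣ Nat.card N := by
  obtain ⟨⟨x, hxN⟩, hx1⟩ := Subgroup.ne_bot_iff_exists_ne_one.1 hN1
  let W : AddSubgroup (K p q) :=
    { carrier := {v | (SemidirectProduct.inl (Multiplicative.ofAdd v) : B p q) ∈ N}
      zero_mem' := by simp
      add_mem' := fun {a b} ha hb => by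
        simp only [Set.mem_setOf_eq, ofAdd_add, map_mul]; exact mul_mem ha hb
      neg_mem' := fun {a} ha => by simp only [Set.mem_setOf_eq, ofAdd_neg, map_inv]; exact inv_mem ha }
  have hinv : ∀ w ∈ W, (unitP p q : K p q) * w ∈ W := by
    intro w hw
    set z : B p q := SemidirectProduct.inr ⟨unitP p q, Subgroup.mem_zpowers _⟩
    show (SemidirectProduct.inl _ : B p q) ∈ N
    convert hN.conj_mem _ hw z using 1
    rw [eq_mul_inv_iff_mul_eq]
    refine ext' ?_ ?_
    · rw [vc_mul, vc_mul]; simp [vc, z]
    · simp [z]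
  have hW : W ≠ ⊥ := by
    intro e
    by_cases hr : x.right = 1
    · have hxW : vc x ∈ W := by
        show (SemidirectProduct.inl (Multiplicative.ofAdd (vc x)) : B p q) ∈ N
        convert hxN using 1
        exact ext' (by simp [vc]) (by simp [hr])
      rw [e, AddSubgroup.mem_bot] at hxW
      exact hx1 (Subtype.ext (ext' (hxW.trans one_vc.symm) hr))
    · set w : B p q := SemidirectProduct.inl (Multiplicative.ofAdd (1 : K p q))
      have hc : x * w * x⁻¹ * w⁻¹ ∈ N := by
        rw [show x * w * x⁻¹ * w⁻¹ = x * (w * x⁻¹ * w⁻¹) by group]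
        exact mul_mem hxN (hN.conj_mem _ (inv_mem hxN) w)
      have hW' : ((x.right : (K p q)ˣ) : K p q) - 1 ∈ W := by
        show (SemidirectProduct.inl _ : B p q) ∈ N
        convert hc using 1
        rw [eq_mul_inv_iff_mul_eq, eq_mul_inv_iff_mul_eq]
        refine ext' ?_ ?_
        · rw [vc_mul, vc_mul, vc_mul, vc_inl, SemidirectProduct.right_inl]
          simp only [w, vc_inl, SemidirectProduct.right_inl]
          simp [add_comm]
        · simp [w]
      rw [e, AddSubgroup.mem_bot, sub_eq_zero] at hW'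
      exact hr (Subtype.ext (Units.ext hW'))
  have hle : ∀ v, (SemidirectProduct.inl (Multiplicative.ofAdd v) : B p q) ∈ N := fun v =>
    (show v ∈ W from eq_top_of_invariant hne W hW hinv ▸ AddSubgroup.mem_top v)
  have h := Subgroup.card_dvd_of_le (show (SemidirectProduct.inl : Multiplicative (K p q) →* B p q).range ≤ N by
    rintro _ ⟨v, rfl⟩; exact hle (Multiplicative.toAdd v))
  rwa [← Nat.card_congr (MonoidHom.ofInjective SemidirectProduct.inl_injective).toEquiv,
    Nat.card_congr Multiplicative.toAdd, card_K] at h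

end Cfsg.Agent.Lie.CritPair
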