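import Cfsg.Agent.Lib.Lie.InvPairs
import Cfsg.Agent.Lib.Char.ZStar
import Cfsg.Agent.Lib.Solv.PConj
import Cfsg.Agent.Lib.Fusion.Cores
import Cfsg.Agent.Lib.Lead.PGV.TwoConf

/-!
# An odd prime whose Sylow subgroups of a point stabilizer fix exactly two points
-/

set_option autoImplicit false
set_option linter.unusedSectionVars false
set_option linter.style.haveILetI false

namespace Cfsg.Agent.Lie.CyclicCapPair

open InvPairs Cfsg
open scoped Pointwise

universe u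

variable {Q : Type u} {Ω : Type*} [Group Q] [Finite Q] [MulAction Q Ω] [Finite Ω]

/-- The hypotheses. -/
structure PairSys (J : Set Q) (T : Ω → Subgroup Q) : Prop where
  sys : InvSys (Ω := Ω) J
  Tfix : ∀ x, ∀ t ∈ T x, t • x = x
  Tnorm : ∀ x, ∀ h : Q, h • x = x → ∀ t ∈ T x, h * t * h⁻¹ ∈ T x
  T2 : ∀ x, IsPGroup 2 (T x)
  Tabs : ∀ x, ∀ g : Q, g • x = x → (∃ k, orderOf g = 2 ^ k) → g ∈ T x
  Tcyc : ∀ x y, x ≠ y → IsCyclic ↥(T x ⊓ MulAction.stabilizer Q y)
  Tcent : ∀ x, ∃ a ∈ J, a • x = x ∧ ∀ t ∈ T x, Commute a t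
  core : oddCore Q = ⊥

variable {J : Set Q} {T : Ω → Subgroup Q} (h : PairSys J T)
include h

/-- Two-point stabilizers. -/
local notation "D[" x ", " y "]" => MulAction.stabilizer Q x ⊓ MulAction.stabilizer Q y

theorem relIndex_inf_odd (x y : Ω) :
    Odd ((T x ⊓ MulAction.stabilizer Q y).relIndex D[x, y]) := by
  haveI : Fact (Nat.Prime 2) := ⟨Nat.prime_two⟩
  set D := D[x, y]
  set S : Sylow 2 D := default
  have hle : (S : Subgroup D) ≤ (T x ⊓ MulAction.stabilizer Q y).subgroupOf D := by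
    intro s hs
    obtain ⟨k, hk⟩ := IsPGroup.iff_orderOf.1 S.2 ⟨s, hs⟩
    rw [Subgroup.orderOf_mk] at hk
    refine ⟨h.Tabs x _ s.2.1 ⟨k, ?_⟩, s.2.2⟩
    show orderOf (s : Q) = 2 ^ k
    rw [Subgroup.orderOf_coe]; exact hk
  refine Nat.not_even_iff_odd.1 fun he => ?_
  exact S.not_dvd_index ((even_iff_two_dvd.1 he).trans (Subgroup.index_dvd_of_le hle))

/-- The number of members fixing a point. -/
noncomputable def num (J : Set Q) (x : Ω) : ℕ := Nat.card {t : Q // t ∈ J ∧ t • x = x}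

theorem num_eq (x y : Ω) : num J x = num J y := card_fixers_eq h.sys x y

/-- The number of fixers divides the index in a two-point stabilizer of anything centralizing one. -/
theorem num_dvd_relIndex {x y : Ω} (hyx : y ≠ x) {a : Q} (ha : a ∈ J) (hax : a • x = x)
    (R : Subgroup Q) (hR : ∀ r ∈ R, Commute r a) :
    num J x ∣ R.relIndex D[x, y] := by
  set D := D[x, y]
  let X := {t : Q // t ∈ J ∧ t • x = x}
  letI : MulAction D X :=
    { smul := fun d t => ⟨(d : Q) * t.1 * (d : Q)⁻¹, h.sys.conj _ t.2.1 _, by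
        have hd : (d : Q) • x = x := d.2.1
        rw [mul_smul, mul_smul, inv_smul_eq_iff.2 hd.symm, t.2.2, hd]⟩
      one_smul := fun t => Subtype.ext (by show (1 : Q) * t.1 * (1 : Q)⁻¹ = t.1; group)
      mul_smul := fun d e t => Subtype.ext (by
        show (d : Q) * (e : Q) * t.1 * ((d : Q) * (e : Q))⁻¹ =
          (d : Q) * ((e : Q) * t.1 * (e : Q)⁻¹) * (d : Q)⁻¹
        group) }
  let a' : X := ⟨a, ha, hax⟩
  have htr : MulAction.IsPretransitive D X := ⟨fun b c => by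
    obtain ⟨d, hdx, hdy, hd⟩ := pair_transitive h.sys hyx b.2.1 b.2.2 c.2.1 c.2.2
    exact ⟨⟨d, hdx, hdy⟩, Subtype.ext hd⟩⟩
  have hst : (MulAction.stabilizer D a').index = num J x :=
    MulAction.index_stabilizer_of_transitive D a'
  rw [← hst]
  refine Subgroup.index_dvd_of_le fun d hd => ?_
  refine MulAction.mem_stabilizer_iff.2 (Subtype.ext ?_)
  exact mul_inv_eq_iff_eq_mul.2 (hR d hd).eq

theorem num_odd (x : Ω) : Odd (num J x) := by
  obtain ⟨y, hy⟩ := h.sys.other x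
  obtain ⟨a, ha, hax, hat⟩ := h.Tcent x
  exact (relIndex_inf_odd h x y).of_dvd_nat
    (num_dvd_relIndex h hy ha hax _ fun t ht => (hat t ht.1).symm)

theorem num_ne_one (x : Ω) : num J x ≠ 1 := by
  intro h1
  obtain ⟨a, ha, hax⟩ := exists_ne_conj h.sys x
  have huniq : ∀ z : Ω, ∀ s t : Q, s ∈ J → t ∈ J → s • z = z → t • z = z → s = t := by
    intro z s t hs ht hsz htz
    have hz : num J z = 1 := (num_eq h z x).trans h1
    obtain ⟨hss, -⟩ := Nat.card_eq_one_iff_unique.1 hz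
    exact congrArg Subtype.val (hss.elim ⟨s, hs, hsz⟩ ⟨t, ht, htz⟩)
  have hodd : Cfsg.Agent.Char.OddInvol a := by
    refine ⟨sq_one (h.sys.ord a ha), fun e => by simpa [e] using h.sys.ord a ha, fun g => ?_⟩
    have hb := h.sys.conj a ha g
    by_cases hbx : (g * a * g⁻¹) • x = x
    · rw [← huniq x a _ ha hb hax hbx, sq_one (h.sys.ord a ha), orderOf_one]
      exact odd_one
    · exact odd_of_fixed_ne h.sys ha hb hax hbx
  have hc := Cfsg.Agent.Char.zStar_central hodd h.core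
  obtain ⟨y, hy⟩ := h.sys.other x
  obtain ⟨g, hg⟩ := h.sys.trans x y
  refine hy (h.sys.uniq a ha _ _ ?_ hax)
  rw [← hg, smul_smul, hc g, mul_smul, hax]

/-- A subgroup of the stabilizer of `x` of order prime to two meets `T x` trivially. -/
theorem eq_one_of_mem {p : ℕ} [Fact p.Prime] (hp2 : p ≠ 2) {R : Subgroup Q} (hR : IsPGroup p R)
    {x : Ω} {c : Q} (hcR : c ∈ R) (hcT : c ∈ T x) : c = 1 := by
  obtain ⟨i, hi⟩ := IsPGroup.iff_orderOf.1 hR ⟨c, hcR⟩
  obtain ⟨k, hk⟩ := IsPGroup.iff_orderOf.1 (h.T2 x) ⟨c, hcT⟩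
  rw [Subgroup.orderOf_mk] at hi hk
  have hp : p.Prime := Fact.out
  have h1 : Nat.Coprime (p ^ i) (2 ^ k) :=
    Nat.Coprime.pow _ _ ((Nat.coprime_primes hp Nat.prime_two).2 hp2)
  rw [← hi, ← hk, Nat.coprime_self] at h1
  exact orderOf_eq_one_iff.1 h1

/-- An element of odd prime-power order in a two-point stabilizer centralizes the 2-part. -/
theorem commute_inf {p : ℕ} [Fact p.Prime] (hp2 : p ≠ 2) {x y : Ω} (hxy : x ≠ y) {r : Q}
    (hr : ∃ k, orderOf r = p ^ k) (hrx : r • x = x) (hry : r • y = y) :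
    ∀ t ∈ T x ⊓ MulAction.stabilizer Q y, Commute r t := by
  haveI : Fact (Nat.Prime 2) := ⟨Nat.prime_two⟩
  set C := T x ⊓ MulAction.stabilizer Q y
  have hC2 : IsPGroup 2 C := (h.T2 x).to_le inf_le_left
  have hrC : ∀ z ∈ C, r * z * r⁻¹ ∈ C := fun z hz =>
    ⟨h.Tnorm x r hrx z hz.1, mul_mem (mul_mem (MulAction.mem_stabilizer_iff.2 hry) hz.2)
      (inv_mem (MulAction.mem_stabilizer_iff.2 hry) : r⁻¹ ∈ MulAction.stabilizer Q y)⟩
  have hrN : r ∈ Subgroup.normalizer (C : Set Q) := by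
    refine Subgroup.mem_normalizer_iff.2 fun z => ⟨hrC z, fun hz => ?_⟩
    have hrx' : r⁻¹ • x = x := inv_smul_eq_iff.2 hrx.symm
    have hry' : r⁻¹ ∈ MulAction.stabilizer Q y := inv_mem hry
    have h1 := h.Tnorm x r⁻¹ hrx' _ hz.1
    have h2 : r⁻¹ * (r * z * r⁻¹) * r⁻¹⁻¹ ∈ MulAction.stabilizer Q y :=
      mul_mem (mul_mem hry' hz.2) (inv_mem hry')
    rw [show r⁻¹ * (r * z * r⁻¹) * r⁻¹⁻¹ = z by group] at h1 h2
    exact ⟨h1, h2⟩
  intro t ht
  by_cases hC1 : C = ⊥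
  · rw [hC1, Subgroup.mem_bot] at ht; rw [ht]; exact Commute.one_right r
  obtain ⟨i, hi⟩ := hr
  have hco : (orderOf r).Coprime 2 := by
    rw [hi]; exact Nat.Coprime.pow_left _ ((Nat.coprime_primes Fact.out Nat.prime_two).2 hp2)
  -- the involution of `C` is fixed
  have hdvd : 2 ∣ Nat.card C := by
    obtain ⟨n, hn⟩ := IsPGroup.iff_card.1 hC2
    rcases n with _ | n
    · exact absurd (Subgroup.card_eq_one.1 (by simpa using hn)) hC1
    · rw [hn, pow_succ]; exact dvd_mul_left _ _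
  obtain ⟨⟨z, hz⟩, hz2⟩ := exists_prime_orderOf_dvd_card' 2 hdvd
  rw [Subgroup.orderOf_mk] at hz2
  have hz1 : r * z * r⁻¹ = z := by
    by_contra hne
    have hz' : orderOf (r * z * r⁻¹) = 2 :=
      (orderOf_injective (MulAut.conj r).toMonoidHom (MulAut.conj r).injective z).trans hz2
    haveI : IsCyclic C := h.Tcyc x y hxy
    haveI : Fintype C := Fintype.ofFinite _
    have hu := (IsCyclic.card_orderOf_eq_totient (α := C) (d := 2) (by rwa [← Nat.card_eq_fintype_card]))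
    rw [Nat.totient_two, Finset.card_eq_one] at hu
    obtain ⟨w, hw⟩ := hu
    have m1 : (⟨z, hz⟩ : C) ∈ ({w} : Finset C) := by
      rw [← hw]; simp [hz2]
    have m2 : (⟨_, hrC z hz⟩ : C) ∈ ({w} : Finset C) := by
      rw [← hw]; simp [hz']
    rw [Finset.mem_singleton] at m1 m2
    exact hne (congrArg Subtype.val (m2.trans m1.symm))
  exact Cfsg.Agent.Solv.centralizes_cyclic hC2 (h.Tcyc x y hxy) hrN hco hz
    (fun e => by rw [e, orderOf_one] at hz2; omega) (mul_inv_eq_iff_eq_mul.1 hz1) t ht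

/-- The main statement. -/
theorem exists_prime_pair [Nonempty Ω] :
    ∃ p : ℕ, p.Prime ∧ p ≠ 2 ∧ ∀ (x : Ω) (P : Sylow p ↥(MulAction.stabilizer Q x)),
      ∃ y, y ≠ x ∧ ∀ z : Ω,
        (∀ r ∈ (P : Subgroup ↥(MulAction.stabilizer Q x)).map (MulAction.stabilizer Q x).subtype,
          r • z = z) ↔ (z = x ∨ z = y) := by
  classical
  obtain ⟨x₁⟩ := ‹Nonempty Ω›
  set m := num J x₁ with hm
  have hm1 : m ≠ 1 := num_ne_one h x₁
  set p := m.minFac with hpdef
  have hp : p.Prime := Nat.minFac_prime hm1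
  have hpm : p ∣ m := Nat.minFac_dvd m
  have hp2 : p ≠ 2 := fun e => Nat.not_even_iff_odd.2 (num_odd h x₁) (even_iff_two_dvd.2 (e ▸ hpm))
  haveI : Fact p.Prime := ⟨hp⟩
  haveI : Fact (Nat.Prime 2) := ⟨Nat.prime_two⟩
  refine ⟨p, hp, hp2, ?_⟩
  let good : Subgroup Q → Prop := fun R => IsPGroup p R ∧
    ∃ x y : Ω, x ≠ y ∧ (∀ r ∈ R, r • x = x) ∧ (∀ r ∈ R, r • y = y)
  obtain ⟨y₁, hy₁⟩ := h.sys.other x₁
  have hbot : good ⊥ := ⟨IsPGroup.of_bot, x₁, y₁, hy₁.symm,
    fun r hr => by rw [Subgroup.mem_bot.1 hr, one_smul],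
    fun r hr => by rw [Subgroup.mem_bot.1 hr, one_smul]⟩
  haveI : Nonempty {R : Subgroup Q // good R} := ⟨⟨⊥, hbot⟩⟩
  obtain ⟨⟨R, hRgood⟩, hmax'⟩ := Finite.exists_max fun R : {R : Subgroup Q // good R} => Nat.card R.1
  have hmax : ∀ P, good P → Nat.card P ≤ Nat.card R := fun P hP => hmax' ⟨P, hP⟩
  clear hmax'
  obtain ⟨hRp, x₀, y₀, hxy₀, hRx₀, hRy₀⟩ := hRgood
  let F : Set Ω := {z | ∀ r ∈ R, r • z = z}
  have hx₀F : x₀ ∈ F := hRx₀
  have hy₀F : y₀ ∈ F := hRy₀
  have hRD : ∀ x y, x ∈ F → y ∈ F → R ≤ D[x, y] := fun x y hx hy r hr => ⟨hx r hr, hy r hr⟩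
  have hfixD : ∀ (x y : Ω) (P : Subgroup ↥(D[x, y])), ∀ r ∈ P.map (D[x, y]).subtype,
      r • x = x ∧ r • y = y := fun x y P r hr => Subgroup.map_subtype_le P hr
  have hRsyl : ∀ x y, x ∈ F → y ∈ F → x ≠ y → ¬ p ∣ R.relIndex D[x, y] := by
    intro x y hx hy hxy
    set D := D[x, y]
    have hRle : R ≤ D := hRD x y hx hy
    obtain ⟨P, hP⟩ := (hRp.comap_subtype (K := D)).exists_le_sylow
    have hgood : good ((P : Subgroup D).map D.subtype) :=
      ⟨P.2.map _, x, y, hxy, fun r hr => (hfixD x y P r hr).1, fun r hr => (hfixD x y P r hr).2⟩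
    have hle : Nat.card (P : Subgroup D) ≤ Nat.card (R.subgroupOf D) := by
      rw [Nat.card_congr (Subgroup.subgroupOfEquivOfLe hRle).toEquiv]
      refine (Subgroup.card_map_of_injective (K := (P : Subgroup D)) (f := D.subtype)
        D.subtype_injective).symm.le.trans ?_
      exact hmax _ hgood
    have e : R.subgroupOf D = P := Subgroup.eq_of_le_of_card_ge hP hle
    show ¬ p ∣ (R.subgroupOf D).index
    rw [e]; exact P.not_dvd_index
  -- no member centralizes `R`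
  have g1 : ∀ a ∈ J, (∀ r ∈ R, Commute r a) → False := by
    intro a ha hc
    obtain ⟨e, he⟩ := h.sys.fix a ha
    have heF : e ∈ F := fun r hr => commute_fix h.sys ha (hc r hr) he
    obtain ⟨y, hyF, hye⟩ : ∃ y ∈ F, y ≠ e := by
      by_cases h0 : x₀ = e
      · exact ⟨y₀, hy₀F, fun q => hxy₀ (h0.trans q.symm)⟩
      · exact ⟨x₀, hx₀F, h0⟩
    refine hRsyl e y heF hyF hye.symm ?_
    exact (hpm.trans (dvd_of_eq (num_eq h x₁ e))).trans (num_dvd_relIndex h hye ha he R hc)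
  set M := Subgroup.normalizer (R : Set Q) with hM
  have hMmem : ∀ g ∈ M, ∀ r ∈ R, g * r * g⁻¹ ∈ R := fun g hg r hr =>
    (Subgroup.mem_normalizer_iff.1 hg r).1 hr
  have hMF : ∀ g ∈ M, ∀ z ∈ F, g • z ∈ F := by
    intro g hg z hz r hr
    have h1 := hz _ (hMmem g⁻¹ (inv_mem hg) r hr)
    rw [inv_inv, mul_smul, mul_smul, inv_smul_eq_iff] at h1
    exact h1
  -- the fixed point of a normalizing member lies outside `F`
  have g2 : ∀ a ∈ J, a ∈ M → ∀ z ∈ F, a • z ≠ z := by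
    intro a ha haM z hz haz
    refine g1 a ha fun r hr => ?_
    have haT : a ∈ T z := h.Tabs z a haz ⟨1, by rw [h.sys.ord a ha, pow_one]⟩
    have hc1 : r * a * r⁻¹ * a⁻¹ ∈ T z := mul_mem (h.Tnorm z r (hz r hr) a haT) (inv_mem haT)
    have hc2 : r * a * r⁻¹ * a⁻¹ ∈ R := by
      rw [show r * a * r⁻¹ * a⁻¹ = r * (a * r⁻¹ * a⁻¹) by group]
      exact mul_mem hr (hMmem a haM _ (inv_mem hr))
    have h1 := eq_one_of_mem h hp2 hRp hc2 hc1
    exact mul_inv_eq_iff_eq_mul.1 (mul_inv_eq_one.1 h1)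
  -- commuting normalizing members coincide
  have g3 : ∀ a ∈ J, a ∈ M → ∀ b ∈ J, b ∈ M → Commute a b → a = b := by
    intro a ha haM b hb hbM hab
    by_contra hne
    obtain ⟨e, he⟩ := h.sys.fix a ha
    have hc := h.sys.mul a ha b hb hab hne
    have hbe : b • e = e := commute_fix h.sys ha hab.symm he
    have hce : (a * b) • e = e := by rw [mul_smul, hbe, he]
    let aut : ∀ g : Q, g ∈ M → MulAut ↥R := fun g hg =>
      { toFun := fun r => ⟨g * r.1 * g⁻¹, hMmem g hg _ r.2⟩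
        invFun := fun r => ⟨g⁻¹ * r.1 * g, by
          have := hMmem g⁻¹ (inv_mem hg) _ r.2; rwa [inv_inv] at this⟩
        left_inv := fun r => Subtype.ext (by show g⁻¹ * (g * r.1 * g⁻¹) * g = r.1; group)
        right_inv := fun r => Subtype.ext (by show g * (g⁻¹ * r.1 * g) * g⁻¹ = r.1; group)
        map_mul' := fun r s => Subtype.ext (by
          show g * (r.1 * s.1) * g⁻¹ = g * r.1 * g⁻¹ * (g * s.1 * g⁻¹); group) }
    have hsq : ∀ (g : Q) (hg : g ∈ M), g * g = 1 → aut g hg * aut g hg = 1 := by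
      intro g hg hgg
      refine MulEquiv.ext fun r => Subtype.ext ?_
      show g * (g * r.1 * g⁻¹) * g⁻¹ = r.1
      calc g * (g * r.1 * g⁻¹) * g⁻¹ = (g * g) * r.1 * (g * g)⁻¹ := by group
        _ = r.1 := by rw [hgg]; group
    have hcomm : Commute (aut a haM) (aut b hbM) := by
      refine MulEquiv.ext fun r => Subtype.ext ?_
      show a * (b * r.1 * b⁻¹) * a⁻¹ = b * (a * r.1 * a⁻¹) * b⁻¹
      calc a * (b * r.1 * b⁻¹) * a⁻¹ = (a * b) * r.1 * (a * b)⁻¹ := by group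
        _ = (b * a) * r.1 * (b * a)⁻¹ := by rw [hab.eq]
        _ = b * (a * r.1 * a⁻¹) * b⁻¹ := by group
    have hodd : Odd (Nat.card ↥R) := by
      obtain ⟨n, hn⟩ := IsPGroup.iff_card.1 hRp
      rw [hn]; exact (hp.odd_of_ne_two hp2).pow
    have hall : ∀ r : ↥R, r ∈ (MulAction.stabilizer Q e).subgroupOf R := fun r =>
      PGV.four_generation hodd (aut a haM) (aut b hbM)
        (hsq a haM (sq_one (h.sys.ord a ha))) (hsq b hbM (sq_one (h.sys.ord b hb))) hcomm _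
        (fun x hx => commute_fix h.sys ha
          (show Commute (x : Q) a from (mul_inv_eq_iff_eq_mul.1 (congrArg Subtype.val hx)).symm) he)
        (fun x hx => commute_fix h.sys hb
          (show Commute (x : Q) b from (mul_inv_eq_iff_eq_mul.1 (congrArg Subtype.val hx)).symm) hbe)
        (fun x hx => commute_fix h.sys hc (show Commute (x : Q) (a * b) by
          have h1 : a * (b * (x : Q) * b⁻¹) * a⁻¹ = x := congrArg Subtype.val hx
          have h2 : (a * b) * (x : Q) * (a * b)⁻¹ = x := by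
            rw [← h1]; conv_lhs => rw [h1]
            rw [show (a * b) * (x : Q) * (a * b)⁻¹ = a * (b * (x : Q) * b⁻¹) * a⁻¹ by group, h1]
          exact (mul_inv_eq_iff_eq_mul.1 h2).symm) hce) r
    exact g2 a ha haM e (fun r hr => hall ⟨r, hr⟩) he
  -- products of normalizing members lie in the odd core of `M`
  have gZ : ∀ a ∈ J, a ∈ M → ∀ b ∈ J, b ∈ M →
      a * b ∈ (oddCore ↥M).map M.subtype := by
    intro a ha haM b hb hbM
    have hoddp : ∀ c ∈ J, c ∈ M → ∀ d ∈ J, d ∈ M → Odd (orderOf (c * d)) := by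
      intro c hc hcM d hd hdM
      refine Nat.not_even_iff_odd.1 fun hev => ?_
      obtain ⟨w, hw, hwz, hwc, hwd⟩ := exists_mem_of_even h.sys hc hd hev
      have hwM : w ∈ M := (Subgroup.zpowers_le.2 (mul_mem hcM hdM)) hwz
      have e1 := g3 w hw hwM c hc hcM hwc
      have e2 := g3 w hw hwM d hd hdM hwd
      rw [← e1, ← e2, sq_one (h.sys.ord w hw), orderOf_one] at hev
      exact Nat.not_even_one hev
    obtain ⟨i, hi, hiab, hicl, -⟩ := exists_middle h.sys ha hb (hoddp a ha haM b hb hbM)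
    have hiM : i ∈ M := (Subgroup.closure_le M).2 (by
      rintro z (rfl | rfl) <;> assumption) hicl
    have hodd : Cfsg.Agent.Char.OddInvol (⟨a, haM⟩ : ↥M) := by
      refine ⟨Subtype.ext (sq_one (h.sys.ord a ha)), fun e => ?_, fun g => ?_⟩
      · have := congrArg Subtype.val e
        simp only [OneMemClass.coe_one] at this
        have h2 := h.sys.ord a ha
        rw [this, orderOf_one] at h2; omega
      · rw [← Subgroup.orderOf_coe]
        exact hoddp a ha haM _ (h.sys.conj a ha g.1) (mul_mem (mul_mem g.2 haM) (inv_mem g.2))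
    refine ⟨_, Cfsg.Agent.Char.zStar hodd ⟨i, hiM⟩, ?_⟩
    show a * i * a⁻¹ * i⁻¹ = a * b
    rw [← hiab, inv_self (h.sys.ord a ha)]; group
  -- every pair in `F` is swapped inside `M`
  have g4 : ∀ x y, x ∈ F → y ∈ F → x ≠ y → ∃ a ∈ J, a ∈ M ∧ a • x = y := by
    intro x y hx hy hxy
    set D := D[x, y] with hDdef
    haveI : Nonempty {i : Q // i ∈ J ∧ i • x = y} := by
      haveI : Nonempty {t : Q // t ∈ J ∧ t • x = x} := by
        obtain ⟨a, ha, hax⟩ := exists_ne_conj h.sys x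
        exact ⟨⟨a, ha, hax⟩⟩
      exact (Nat.card_pos_iff.1 ((card_swappers h.sys hxy).symm ▸ Nat.card_pos)).1
    obtain ⟨i, hi, hix⟩ := ‹Nonempty {i : Q // i ∈ J ∧ i • x = y}›
    have hiy : i • y = x := swap_back h.sys hi hix
    have hi2 := sq_one (h.sys.ord i hi)
    have hiD : ∀ d ∈ D, i * d * i⁻¹ ∈ D := by
      intro d hd
      have hii : i⁻¹ = i := inv_self (h.sys.ord i hi)
      constructor
      · show (i * d * i⁻¹) • x = x
        rw [hii, mul_smul, mul_smul, hix, (show d • y = y from hd.2), hiy]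
      · show (i * d * i⁻¹) • y = y
        rw [hii, mul_smul, mul_smul, hiy, (show d • x = x from hd.1), hix]
    let φ : MulAut ↥D :=
      { toFun := fun r => ⟨i * r.1 * i⁻¹, hiD _ r.2⟩
        invFun := fun r => ⟨i * r.1 * i⁻¹, hiD _ r.2⟩
        left_inv := fun r => Subtype.ext (by
          show i * (i * r.1 * i⁻¹) * i⁻¹ = r.1
          calc i * (i * r.1 * i⁻¹) * i⁻¹ = (i * i) * r.1 * (i * i)⁻¹ := by group
            _ = r.1 := by rw [hi2]; group)
        right_inv := fun r => Subtype.ext (by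
          show i * (i * r.1 * i⁻¹) * i⁻¹ = r.1
          calc i * (i * r.1 * i⁻¹) * i⁻¹ = (i * i) * r.1 * (i * i)⁻¹ := by group
            _ = r.1 := by rw [hi2]; group)
        map_mul' := fun r s => Subtype.ext (by
          show i * (r.1 * s.1) * i⁻¹ = i * r.1 * i⁻¹ * (i * s.1 * i⁻¹); group) }
    have hRle : R ≤ D := hRD x y hx hy
    obtain ⟨P₀, hP₀⟩ : ∃ P₀ : Sylow p D, (P₀ : Subgroup D) = R.subgroupOf D := by
      obtain ⟨P, hP⟩ := (hRp.comap_subtype (K := D)).exists_le_sylow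
      refine ⟨P, (Subgroup.eq_of_le_of_card_ge hP ?_).symm⟩
      show Nat.card (P : Subgroup D) ≤ Nat.card (R.subgroupOf D)
      rw [Nat.card_congr (Subgroup.subgroupOfEquivOfLe hRle).toEquiv]
      refine (Subgroup.card_map_of_injective (K := (P : Subgroup D)) (f := D.subtype)
        D.subtype_injective).symm.le.trans ?_
      exact hmax _ ⟨P.2.map _, x, y, hxy, fun r hr => (hfixD x y P r hr).1,
        fun r hr => (hfixD x y P r hr).2⟩
    have hoddS : Odd (Nat.card (Sylow p D)) := by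
      rw [Sylow.card_eq_index_normalizer P₀]
      refine (relIndex_inf_odd h x y).of_dvd_nat (Subgroup.index_dvd_of_le ?_)
      intro d hd
      have hd' : ((d : Q)) ∈ T x ⊓ MulAction.stabilizer Q y := hd
      refine Subgroup.mem_normalizer_iff.2 fun r => ?_
      rw [hP₀]
      constructor
      · intro hr
        show (d : Q) * r.1 * (d : Q)⁻¹ ∈ R
        have hcr := commute_inf h hp2 hxy (by
          obtain ⟨k, hk⟩ := IsPGroup.iff_orderOf.1 hRp ⟨r.1, (hr : r.1 ∈ R)⟩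
          exact ⟨k, (Subgroup.orderOf_mk _ _).symm.trans hk⟩) (hx _ hr) (hy _ hr) _ hd'
        have e : (d : Q) * r.1 * (d : Q)⁻¹ = r.1 := mul_inv_eq_iff_eq_mul.2 hcr.eq.symm
        rw [e]; exact hr
      · intro hr
        have hr' : (d : Q) * r.1 * (d : Q)⁻¹ ∈ R := hr
        have hcr := commute_inf h hp2 hxy (by
          obtain ⟨k, hk⟩ := IsPGroup.iff_orderOf.1 hRp ⟨_, hr'⟩
          rw [Subgroup.orderOf_mk] at hk; exact ⟨k, hk⟩) (hx _ hr') (hy _ hr') _ hd'
        show r.1 ∈ R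
        have e : r.1 = (d : Q) * r.1 * (d : Q)⁻¹ := by
          have h1 := hcr.eq
          calc r.1 = (d : Q)⁻¹ * ((d : Q) * r.1 * (d : Q)⁻¹ * (d : Q)) := by group
            _ = (d : Q) * r.1 * (d : Q)⁻¹ := by rw [h1]; group
        rw [e]; exact hr'
    haveI : Fintype (Sylow p D) := Fintype.ofFinite _
    let σ : Equiv.Perm (Sylow p D) := MulAction.toPerm φ
    have hσ : σ ^ 2 ^ 1 = 1 := by
      refine Equiv.ext fun P => ?_
      rw [pow_one, pow_two]
      show φ • φ • P = P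
      rw [smul_smul, show φ * φ = 1 from MulEquiv.ext fun r => φ.left_inv r, one_smul]
    obtain ⟨P₁, hP₁⟩ := Equiv.Perm.exists_fixed_point_of_prime (p := 2)
      (by rw [← Nat.card_eq_fintype_card, ← even_iff_two_dvd, Nat.not_even_iff_odd]; exact hoddS) hσ
    have hP₁' : φ • P₁ = P₁ := hP₁
    obtain ⟨d, hd⟩ := MulAction.exists_smul_eq D P₀ P₁
    have hdfix : ∀ r : D, r ∈ (P₁ : Subgroup D) ↔ (d : Q)⁻¹ * r.1 * (d : Q) ∈ R := by
      intro r
      rw [← hd, Sylow.coe_subgroup_smul, Subgroup.mem_pointwise_smul_iff_inv_smul_mem, hP₀,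
        Subgroup.mem_subgroupOf]
      simp
    have hφmem : ∀ r : D, r ∈ (P₁ : Subgroup D) → φ r ∈ (P₁ : Subgroup D) := by
      intro r hr
      conv_lhs => rw [← hP₁']
      exact Subgroup.smul_mem_pointwise_smul r φ _ hr
    set i' := (d : Q)⁻¹ * i * (d : Q) with hi'
    have hi'J : i' ∈ J := by
      have := h.sys.conj i hi (d : Q)⁻¹
      rwa [inv_inv] at this
    have hi'R : ∀ r ∈ R, i' * r * i'⁻¹ ∈ R := by
      intro r hr
      have h1 : (⟨(d : Q) * r * (d : Q)⁻¹, mul_mem (mul_mem d.2 (hRle hr)) (inv_mem d.2)⟩ : D) ∈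
          (P₁ : Subgroup D) := (hdfix _).2 (by
            show (d : Q)⁻¹ * ((d : Q) * r * (d : Q)⁻¹) * (d : Q) ∈ R
            rw [show (d : Q)⁻¹ * ((d : Q) * r * (d : Q)⁻¹) * (d : Q) = r by group]; exact hr)
      have h2 : (d : Q)⁻¹ * (i * ((d : Q) * r * (d : Q)⁻¹) * i⁻¹) * (d : Q) ∈ R :=
        (hdfix _).1 (hφmem _ h1)
      rw [hi']
      rw [show (d : Q)⁻¹ * i * (d : Q) * r * ((d : Q)⁻¹ * i * (d : Q))⁻¹ =
        (d : Q)⁻¹ * (i * ((d : Q) * r * (d : Q)⁻¹) * i⁻¹) * (d : Q) by group]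
      exact h2
    refine ⟨i', hi'J, Subgroup.mem_normalizer_iff.2 fun r => ⟨hi'R r, fun hr => ?_⟩, ?_⟩
    · have hr' := hi'R _ hr
      have hs := sq_one (h.sys.ord i' hi'J)
      rwa [show i' * (i' * r * i'⁻¹) * i'⁻¹ = (i' * i') * r * (i' * i')⁻¹ by group, hs, one_mul,
        inv_one, mul_one] at hr'
    · rw [hi', mul_smul, mul_smul, show (d : Q) • x = x from d.2.1, hix]
      exact inv_smul_eq_iff.2 (show y = (d : Q) • y from (d.2.2).symm)
  -- `F` has just two points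
  have g5 : ∀ z ∈ F, z = x₀ ∨ z = y₀ := by
    intro z hz
    by_contra hzne
    push Not at hzne
    set O := (oddCore ↥M).map M.subtype with hO
    have hOM : O ≤ M := Subgroup.map_subtype_le _
    have hOodd : Odd (Nat.card O) := by
      rw [hO, Subgroup.card_map_of_injective M.subtype_injective]
      exact Nat.coprime_two_right.1 (Fusion.card_pPrimeCore_coprime 2 ↥M)
    have hOn : ∀ g ∈ M, ∀ o ∈ O, g * o * g⁻¹ ∈ O := by
      rintro g hg _ ⟨o, ho, rfl⟩
      haveI : (oddCore ↥M).Normal := Solv.pPrimeCore_normal 2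
      exact ⟨⟨g, hg⟩ * o * ⟨g, hg⟩⁻¹, ‹(oddCore ↥M).Normal›.conj_mem o ho _, rfl⟩
    obtain ⟨a, ha, haM, hax⟩ := g4 x₀ y₀ hx₀F hy₀F hxy₀
    obtain ⟨b, hb, hbM, hby⟩ := g4 y₀ z hy₀F hz (Ne.symm hzne.2)
    obtain ⟨c, hc, hcM, hcx⟩ := g4 x₀ z hx₀F hz (Ne.symm hzne.1)
    -- `x₀` and `y₀` lie in one orbit
    have ho₁ : ∃ o ∈ O, o • x₀ = y₀ := by
      refine ⟨(a * c) * (b * a), mul_mem (gZ a ha haM c hc hcM) (gZ b hb hbM a ha haM), ?_⟩
      rw [mul_smul, mul_smul b, hax, hby, mul_smul, swap_back h.sys hc hcx, hax]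
    obtain ⟨o₀, ho₀, ho₀x⟩ := ho₁
    let B := MulAction.orbit O x₀
    have hBF : ∀ w ∈ B, w ∈ F := by
      rintro _ ⟨o, rfl⟩
      exact hMF _ (hOM o.2) _ hx₀F
    have haB : ∀ w ∈ B, a • w ∈ B := by
      rintro _ ⟨o, rfl⟩
      refine ⟨⟨(a * o.1 * a⁻¹) * o₀, mul_mem (hOn a haM _ o.2) ho₀⟩, ?_⟩
      show ((a * o.1 * a⁻¹) * o₀) • x₀ = a • o.1 • x₀
      rw [mul_smul, ho₀x, ← hax, mul_smul, mul_smul, inv_smul_smul]
    have hBodd : Odd (Nat.card B) := by
      refine hOodd.of_dvd_nat ?_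
      rw [Nat.card_coe_set_eq, ← MulAction.index_stabilizer]
      exact Subgroup.index_dvd_card _
    haveI : Fintype B := Fintype.ofFinite _
    let σ : Equiv.Perm B := Function.Involutive.toPerm
      (fun w : B => (⟨a • w.1, haB _ w.2⟩ : B)) (fun w => Subtype.ext (by
        show a • a • w.1 = w.1
        rw [smul_smul, sq_one (h.sys.ord a ha), one_smul]))
    have hσ : σ ^ 2 ^ 1 = 1 := by
      refine Equiv.ext fun w => Subtype.ext ?_
      rw [pow_one, pow_two]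
      show a • a • w.1 = w.1
      rw [smul_smul, sq_one (h.sys.ord a ha), one_smul]
    obtain ⟨w, hw⟩ := Equiv.Perm.exists_fixed_point_of_prime (p := 2)
      (by rw [← Nat.card_eq_fintype_card, ← even_iff_two_dvd, Nat.not_even_iff_odd]; exact hBodd) hσ
    exact g2 a ha haM w.1 (hBF _ w.2) (congrArg Subtype.val hw)
  -- `R` is a Sylow subgroup of the stabilizer of `x₀`
  intro x P
  set H₀ := MulAction.stabilizer Q x₀
  have hRH : R ≤ H₀ := hRx₀
  obtain ⟨P₀, hP₀⟩ := (hRp.comap_subtype (K := H₀)).exists_le_sylow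
  replace hP₀ : R.subgroupOf H₀ ≤ P₀ := hP₀
  have hP₀eq : (P₀ : Subgroup H₀) = R.subgroupOf H₀ := by
    by_contra hne
    have hlt : R.subgroupOf H₀ < P₀ := lt_of_le_of_ne hP₀ (Ne.symm hne)
    haveI : Group.IsNilpotent ↥(P₀ : Subgroup H₀) := P₀.2.isNilpotent
    have hlt' : (R.subgroupOf H₀).subgroupOf (P₀ : Subgroup H₀) < ⊤ := by
      refine lt_of_le_of_ne le_top fun e => hne (le_antisymm ?_ hP₀)
      rwa [Subgroup.subgroupOf_eq_top] at e
    obtain ⟨g, hgN, hgR⟩ := SetLike.exists_of_lt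
      (Group.normalizerCondition_of_isNilpotent (G := ↥(P₀ : Subgroup H₀)) _ hlt')
    set g₀ : Q := ((g : H₀) : Q) with hg₀
    have hgM : g₀ ∈ M := by
      refine Subgroup.mem_normalizer_iff.2 fun r => ?_
      constructor
      · intro hr
        exact (Subgroup.mem_normalizer_iff.1 hgN ⟨⟨r, hRH hr⟩, hP₀ hr⟩).1 hr
      · intro hr
        have h1 : g₀⁻¹ * (g₀ * r * g₀⁻¹) * g₀⁻¹⁻¹ ∈ R :=
          (Subgroup.mem_normalizer_iff.1 (inv_mem hgN) ⟨⟨_, hRH hr⟩, hP₀ hr⟩).1 hr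
        rwa [show g₀⁻¹ * (g₀ * r * g₀⁻¹) * g₀⁻¹⁻¹ = r by group] at h1
    have hgx : g₀ • x₀ = x₀ := (g : H₀).2
    have hgy : g₀ • y₀ = y₀ := by
      rcases g5 _ (hMF g₀ hgM _ hy₀F) with e | e
      · exact absurd ((smul_left_cancel g₀ (hgx.trans e.symm))) hxy₀
      · exact e
    set R' := R ⊔ Subgroup.zpowers g₀
    have hR'le : R' ≤ (P₀ : Subgroup H₀).map H₀.subtype := sup_le
      (fun r hr => ⟨⟨r, hRH hr⟩, hP₀ hr, rfl⟩) (Subgroup.zpowers_le.2 ⟨(g : H₀), g.2, rfl⟩)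
    have hR'D : R' ≤ D[x₀, y₀] := sup_le (hRD _ _ hx₀F hy₀F) (Subgroup.zpowers_le.2 ⟨hgx, hgy⟩)
    have hgood : good R' := ⟨(P₀.2.map _).to_le hR'le, x₀, y₀, hxy₀,
      fun r hr => (hR'D hr).1, fun r hr => (hR'D hr).2⟩
    have e : R = R' := Subgroup.eq_of_le_of_card_ge le_sup_left (hmax _ hgood)
    refine hgR ?_
    show g₀ ∈ R
    rw [e]
    exact Subgroup.mem_sup_right (Subgroup.mem_zpowers g₀)
  -- transport to `x` and `P`
  obtain ⟨k, hk⟩ := h.sys.trans x₀ x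
  let H := MulAction.stabilizer Q x
  have hmapH : H₀.map (MulAut.conj k).toMonoidHom = MulAction.stabilizer Q x := by
    rw [← MulAction.stabilizer_smul_eq_stabilizer_map_conj, hk]
  set R₁ := R.map (MulAut.conj k).toMonoidHom with hR₁
  have hR₁H : R₁ ≤ H := (Subgroup.map_mono hRH).trans hmapH.le
  have hcardP : Nat.card (P : Subgroup H) = Nat.card (R₁.subgroupOf H) := by
    rw [Sylow.card_eq_multiplicity, Nat.card_congr (Subgroup.subgroupOfEquivOfLe hR₁H).toEquiv,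
      hR₁, Subgroup.card_map_of_injective (MulAut.conj k).injective,
      ← Nat.card_congr (Subgroup.subgroupOfEquivOfLe hRH).toEquiv, ← hP₀eq,
      Sylow.card_eq_multiplicity, ← hmapH, Subgroup.card_map_of_injective (MulAut.conj k).injective]
  obtain ⟨P₁, hP₁⟩ := ((hRp.map (MulAut.conj k).toMonoidHom).comap_subtype (K := H)).exists_le_sylow
  have hP₁eq : R₁.subgroupOf H = P₁ := Subgroup.eq_of_le_of_card_ge hP₁ (by
    rw [← hcardP, Sylow.card_eq_multiplicity, Sylow.card_eq_multiplicity])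
  obtain ⟨l, hl⟩ := MulAction.exists_smul_eq H P₁ P
  set q : Q := (l : Q) * k with hq
  have hqx : q • x₀ = x := by rw [hq, mul_smul, hk]; exact l.2
  have hmem : ∀ r : Q, r ∈ (P : Subgroup H).map H.subtype ↔ q⁻¹ * r * q ∈ R := by
    intro r
    constructor
    · rintro ⟨s, hs, rfl⟩
      rw [← hl, Sylow.coe_subgroup_smul] at hs
      change s ∈ MulAut.conj l • (P₁ : Subgroup H) at hs
      rw [Subgroup.mem_pointwise_smul_iff_inv_smul_mem, ← hP₁eq, Subgroup.mem_subgroupOf] at hs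
      obtain ⟨r₀, hr₀, e⟩ := hs
      have e' : k * r₀ * k⁻¹ = (l : Q)⁻¹ * (s : Q) * (l : Q) := by simpa using e
      have : q⁻¹ * (s : Q) * q = r₀ := by
        rw [hq, show ((l : Q) * k)⁻¹ * (s : Q) * ((l : Q) * k) =
          k⁻¹ * ((l : Q)⁻¹ * (s : Q) * (l : Q)) * k by group, ← e']
        group
      show q⁻¹ * (s : Q) * q ∈ R
      rw [this]; exact hr₀
    · intro hr
      have h1 : k * (q⁻¹ * r * q) * k⁻¹ ∈ R₁ := ⟨_, hr, rfl⟩
      have e : r = (l : Q) * (k * (q⁻¹ * r * q) * k⁻¹) * (l : Q)⁻¹ := by rw [hq]; group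
      refine ⟨⟨r, by rw [e]; exact mul_mem (mul_mem l.2 (hR₁H h1)) (inv_mem l.2)⟩, ?_, rfl⟩
      rw [← hl, Sylow.coe_subgroup_smul]
      show _ ∈ MulAut.conj l • (P₁ : Subgroup H)
      rw [Subgroup.mem_pointwise_smul_iff_inv_smul_mem, ← hP₁eq, Subgroup.mem_subgroupOf]
      convert h1 using 1
      simp [hq, mul_assoc]
  refine ⟨q • y₀, fun e => hxy₀ (smul_left_cancel q (hqx.trans e.symm)), fun z => ⟨fun hz => ?_, ?_⟩⟩
  · have hzF : q⁻¹ • z ∈ F := by
      intro r hr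
      have h1 := hz _ ((hmem (q * r * q⁻¹)).2 (by
        rw [show q⁻¹ * (q * r * q⁻¹) * q = r by group]; exact hr))
      rw [mul_smul, mul_smul] at h1
      rw [eq_inv_smul_iff]; exact h1
    rcases g5 _ hzF with e | e
    · left; rw [inv_smul_eq_iff] at e; rw [e, hqx]
    · right; rwa [inv_smul_eq_iff] at e
  · rintro (e | e) r hr
    · rw [e, ← hqx]
      have h1 := hx₀F _ ((hmem r).1 hr)
      rwa [mul_smul, mul_smul, inv_smul_eq_iff] at h1
    · rw [e]
      have h1 := hy₀F _ ((hmem r).1 hr)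
      rwa [mul_smul, mul_smul, inv_smul_eq_iff] at h1

end Cfsg.Agent.Lie.CyclicCapPair
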