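import Cfsg.Agent.Lib.Fusion.NormalFour

/-!
# Two-groups with a central element of order four
-/

set_option autoImplicit false
set_option linter.style.haveILetI false

namespace Cfsg.Agent.Lie.CyclicCapTwoGroup

/-- In a finite cyclic group the subgroups are determined by their orders. -/
theorem mem_zpowers_of_pow {A : Type*} [Group A] [Finite A] [IsCyclic A] {x y : A}
    (h : x ^ orderOf y = 1) : x ∈ Subgroup.zpowers y := by
  classical
  haveI : Fintype A := Fintype.ofFinite A
  have hcard : ((Finset.range (orderOf y)).image (y ^ ·)).card = orderOf y := by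
    rw [Finset.card_image_of_injOn, Finset.card_range]
    rw [Finset.coe_range]
    exact pow_injOn_Iio_orderOf
  have e := Finset.eq_of_subset_of_card_le
    (s := (Finset.range (orderOf y)).image (y ^ ·))
    (t := Finset.univ.filter fun z : A => z ^ orderOf y = 1)
    (fun z hz => by
      obtain ⟨i, -, rfl⟩ := Finset.mem_image.1 hz
      refine Finset.mem_filter.2 ⟨Finset.mem_univ _, ?_⟩
      rw [← pow_mul, mul_comm, pow_mul, pow_orderOf_eq_one, one_pow])
    (by rw [hcard]; exact IsCyclic.card_pow_eq_one_le (orderOf_pos y))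
  have hx : x ∈ (Finset.range (orderOf y)).image (y ^ ·) := e ▸ Finset.mem_filter.2 ⟨Finset.mem_univ _, h⟩
  obtain ⟨i, -, rfl⟩ := Finset.mem_image.1 hx
  exact Subgroup.pow_mem _ (Subgroup.mem_zpowers y) i

variable {X : Type*} [Group X] [Finite X] (hX : IsPGroup 2 X) {p0 : X}
  (hp0 : p0 ∈ Subgroup.center X) (h4 : orderOf p0 = 4)
include hX hp0 h4

omit [Finite X] hX hp0 in
theorem sq_ne_one : p0 ^ 2 ≠ 1 := fun e => by
  have := orderOf_dvd_of_pow_eq_one e
  rw [h4] at this; omega

/-- A unique involution forces cyclicity. -/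
theorem isCyclic_of_unique (hu : ∀ v : X, orderOf v = 2 → v = p0 ^ 2) : IsCyclic X := by
  haveI : Fact (Nat.Prime 2) := ⟨Nat.prime_two⟩
  have huo : Cfsg.Agent.Solv.UniqueOrderP 2 X := by
    intro x y hx hy hy1
    by_cases hx1 : x = 1
    · rw [hx1]; exact one_mem _
    rw [hu x (orderOf_eq_prime hx hx1), hu y (orderOf_eq_prime hy hy1)]
    exact Subgroup.mem_zpowers _
  rcases Cfsg.Agent.Solv.cyclic_or_quaternion hX huo with h | ⟨-, n, ⟨φ⟩⟩
  · exact h
  rcases Nat.eq_zero_or_pos n with rfl | hn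
  · haveI : IsCyclic (QuaternionGroup (2 ^ 0)) := by
      rw [pow_zero]; exact QuaternionGroup.quaternionGroup_one_isCyclic
    exact isCyclic_of_surjective φ.symm φ.symm.surjective
  exfalso
  set N := 2 ^ n with hN
  have hN2 : 2 ≤ N := by
    rw [hN]; exact le_trans (by norm_num) (Nat.pow_le_pow_right two_pos hn)
  haveI : NeZero N := ⟨by omega⟩
  have hc : ∀ q, φ p0 * q = q * φ p0 := fun q => by
    have h1 := congrArg φ (Subgroup.mem_center_iff.1 hp0 (φ.symm q))
    rw [map_mul, map_mul, MulEquiv.apply_symm_apply] at h1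
    exact h1.symm
  cases hq : φ p0 with
  | a i =>
    have h1 := hc (QuaternionGroup.xa 0)
    rw [hq, QuaternionGroup.a_mul_xa, QuaternionGroup.xa_mul_a] at h1
    simp only [zero_sub, zero_add, QuaternionGroup.xa.injEq] at h1
    have h2 : φ (p0 ^ 2) = 1 := by
      rw [map_pow, hq, pow_two, QuaternionGroup.a_mul_a, QuaternionGroup.one_def]
      congr 1
      nth_rw 2 [← h1]
      exact add_neg_cancel i
    exact sq_ne_one h4 (φ.injective (h2.trans (map_one φ).symm))
  | xa i =>
    have h1 := hc (QuaternionGroup.a 1)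
    rw [hq, QuaternionGroup.a_mul_xa, QuaternionGroup.xa_mul_a] at h1
    simp only [QuaternionGroup.xa.injEq] at h1
    have h2 : ((2 : ℕ) : ZMod (2 * N)) = 0 := by push_cast; linear_combination h1
    rw [ZMod.natCast_eq_zero_iff] at h2
    have := Nat.le_of_dvd two_pos h2
    omega

/-- A second involution gives one that is central modulo the central involution. -/
theorem exists_central_mod {u : X} (hu : orderOf u = 2) (huj : u ≠ p0 ^ 2) :
    ∃ v : X, orderOf v = 2 ∧ v ≠ p0 ^ 2 ∧ ∀ x : X, x * v * x⁻¹ = v ∨ x * v * x⁻¹ = v * p0 ^ 2 := by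
  classical
  haveI : Fact (Nat.Prime 2) := ⟨Nat.prime_two⟩
  set j := p0 ^ 2 with hj
  have hjc : j ∈ Subgroup.center X := pow_mem hp0 2
  have hjo : orderOf j = 2 := by rw [hj, orderOf_pow, h4]; rfl
  have hj2 : j ^ 2 = 1 := by rw [← hjo, pow_orderOf_eq_one]
  have hj1 : j ≠ 1 := sq_ne_one h4
  have hjconj : ∀ x : X, x * j * x⁻¹ = j := fun x => by
    rw [Subgroup.mem_center_iff.1 hjc x, mul_inv_cancel_right]
  obtain ⟨A, hAn, hAab, hAC⟩ := Solv.exists_maximal_abelian_normal hX
  have hZA : Subgroup.center X ≤ A := hAC ▸ Subgroup.center_le_centralizer _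
  by_cases hA : ∃ v ∈ A, orderOf v = 2 ∧ v ≠ j
  · obtain ⟨v, hvA, hv2, hvj⟩ := hA
    let W : Subgroup X :=
      { carrier := {a | a ∈ A ∧ a ^ 2 = 1}
        one_mem' := ⟨one_mem A, one_pow 2⟩
        mul_mem' := fun {a b} ha hb => ⟨mul_mem ha.1 hb.1, by
          rw [Commute.mul_pow (hAab a ha.1 b hb.1), ha.2, hb.2, one_mul]⟩
        inv_mem' := fun {a} ha => ⟨inv_mem ha.1, by rw [inv_pow, ha.2, inv_one]⟩ }
    haveI : W.Normal := ⟨fun a ha g => ⟨hAn.conj_mem a ha.1 g, by rw [conj_pow, ha.2]; group⟩⟩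
    have hW : Cfsg.IsElementaryAbelian 2 W :=
      ⟨⟨⟨fun a b => Subtype.ext (hAab a a.2.1 b b.2.1)⟩⟩, fun a ha => ha.2⟩
    have hvW : v ∈ W := ⟨hvA, by rw [← hv2, pow_orderOf_eq_one]⟩
    have hjW : j ∈ W := ⟨hZA hjc, hj2⟩
    have hv1 : v ≠ 1 := fun e => by rw [e, orderOf_one] at hv2; omega
    have hW4 : 4 ≤ Nat.card W := by
      let g : Fin 4 → W := ![1, ⟨v, hvW⟩, ⟨j, hjW⟩, ⟨v * j, mul_mem hvW hjW⟩]
      have hvj1 : v * j ≠ 1 := fun h => hvj (by
        rw [eq_inv_of_mul_eq_one_left h]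
        exact inv_eq_of_mul_eq_one_right (by rw [← pow_two, hj2]))
      have hg : Function.Injective g := by
        intro i k hik
        have h' := congrArg Subtype.val hik
        fin_cases i <;> fin_cases k <;> simp [g] at h' ⊢ <;>
          first
            | exact absurd h' hv1 | exact absurd h'.symm hv1 | exact absurd h' hj1 | exact absurd h'.symm hj1
            | exact absurd h' hvj | exact absurd h'.symm hvj | exact absurd h' hvj1 | exact absurd h'.symm hvj1
      have := Nat.card_le_card_of_injective g hg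
      rwa [Nat.card_fin] at this
    obtain ⟨V, -, hVn, hVe, hV4⟩ := Fusion.normal_four_le hX W hW hW4
    haveI : Nontrivial V := Finite.one_lt_card_iff_nontrivial.1 (by omega)
    by_cases hjV : j ∈ V
    · obtain ⟨w, hwV, hw⟩ : ∃ w ∈ V, w ∉ Subgroup.zpowers j := SetLike.not_le_iff_exists.1 fun h => by
        have := Subgroup.card_le_of_le h
        rw [Nat.card_zpowers, hjo, hV4] at this; omega
      have hw1 : w ≠ 1 := fun e => hw (e ▸ one_mem _)
      have hwj : w ≠ j := fun e => hw (e ▸ Subgroup.mem_zpowers _)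
      refine ⟨w, orderOf_eq_prime (hVe.2 w hwV) hw1, hwj, fun x => ?_⟩
      by_contra hne
      push Not at hne
      set w' := x * w * x⁻¹ with hw'
      have hw'1 : w' ≠ 1 := fun e => hw1 (conj_eq_one_iff.1 e)
      have hw'j : w' ≠ j := fun e => hwj (mul_left_cancel (mul_right_cancel (e.trans (hjconj x).symm)))
      have hwj1 : w * j ≠ 1 := fun h => hwj (by
        rw [eq_inv_of_mul_eq_one_left h]
        exact inv_eq_of_mul_eq_one_right (by rw [← pow_two, hj2]))
      let g : Fin 5 → V := ![1, ⟨w, hwV⟩, ⟨j, hjV⟩, ⟨w * j, mul_mem hwV hjV⟩,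
        ⟨w', hVn.conj_mem w hwV x⟩]
      have hg : Function.Injective g := by
        intro i k hik
        have h' := congrArg Subtype.val hik
        fin_cases i <;> fin_cases k <;> simp [g] at h' ⊢ <;>
          first
            | exact absurd h' hw1 | exact absurd h'.symm hw1 | exact absurd h' hj1 | exact absurd h'.symm hj1
            | exact absurd h' hwj | exact absurd h'.symm hwj | exact absurd h' hwj1 | exact absurd h'.symm hwj1
            | exact absurd h' hw'1 | exact absurd h'.symm hw'1 | exact absurd h' hw'j | exact absurd h'.symm hw'j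
            | exact absurd h' hne.1 | exact absurd h'.symm hne.1 | exact absurd h' hne.2 | exact absurd h'.symm hne.2
      have := Nat.card_le_card_of_injective g hg
      rw [Nat.card_fin, hV4] at this
      omega
    · obtain ⟨z, hzV, hzc, hz1⟩ := Perm.exists_ne_one_center hX V
      refine ⟨z, orderOf_eq_prime (hVe.2 z hzV) hz1, fun e => hjV (e ▸ hzV), fun x => Or.inl ?_⟩
      rw [Subgroup.mem_center_iff.1 hzc x, mul_inv_cancel_right]
  push Not at hA
  refine ⟨u, hu, huj, fun x => ?_⟩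
  have huA : u ∉ A := fun h => huj (hA u h hu)
  have huinv : u⁻¹ = u := inv_eq_of_mul_eq_one_right (by rw [← pow_two, ← hu, pow_orderOf_eq_one])
  have huA' : ∀ v : X, v ^ 2 = 1 → v ∈ A → v = 1 ∨ v = j := fun v hv hvA => by
    by_cases hv1 : v = 1
    · exact Or.inl hv1
    · exact Or.inr (hA v hvA (orderOf_eq_prime hv hv1))
  obtain ⟨⟨a, haA⟩, -, hgen⟩ := Solv.abelian_cyclic_of_unique (hX.to_subgroup A)
    (fun x y hx hy hy1 => by
      by_cases hx1 : x = 1
      · rw [hx1]; exact one_mem _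
      · have e : x = y := Subtype.ext (by
          rcases huA' x.1 (congrArg Subtype.val hx) x.2 with h | h
          · exact absurd (Subtype.ext h) hx1
          rcases huA' y.1 (congrArg Subtype.val hy) y.2 with h' | h'
          · exact absurd (Subtype.ext h') hy1
          rw [h, h'])
        rw [e]; exact Subgroup.mem_zpowers y) ⊤ (fun x _ y _ => Subtype.ext (hAab x x.2 y y.2))
  have hAcyc : ∀ y ∈ A, ∃ i : ℤ, a ^ i = y := fun y hy => by
    obtain ⟨i, hi⟩ := Subgroup.mem_zpowers_iff.1 (hgen.le (Subgroup.mem_top (⟨y, hy⟩ : A)))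
    exact ⟨i, congrArg Subtype.val hi⟩
  set u' := x * u * x⁻¹ with hu'
  obtain ⟨r, hr⟩ := hAcyc _ (hAn.conj_mem a haA u)
  obtain ⟨s, hs⟩ := hAcyc _ (hAn.conj_mem a haA x⁻¹)
  have hu'a : u' * a * u'⁻¹ = a ^ r := by
    have h1 : x * a ^ s * x⁻¹ = a := by rw [hs]; group
    calc u' * a * u'⁻¹ = x * (u * (x⁻¹ * a * x⁻¹⁻¹) * u⁻¹) * x⁻¹ := by rw [hu']; group
      _ = x * (u * a * u⁻¹) ^ s * x⁻¹ := by rw [← hs, conj_zpow]
      _ = x * (a ^ s) ^ r * x⁻¹ := by rw [← hr, ← zpow_mul, ← zpow_mul, mul_comm]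
      _ = a ^ r := by rw [← conj_zpow, h1]
  have hmem : u⁻¹ * u' ∈ A := by
    rw [← hAC, Subgroup.mem_centralizer_iff]
    intro b hb
    obtain ⟨i, rfl⟩ := hAcyc b hb
    refine (Commute.zpow_left (show Commute a (u⁻¹ * u') from ?_) i).eq
    refine (mul_inv_eq_iff_eq_mul.1 ?_).symm
    calc u⁻¹ * u' * a * (u⁻¹ * u')⁻¹ = u⁻¹ * (u' * a * u'⁻¹) * u := by group
      _ = u⁻¹ * (u * a * u⁻¹) * u := by rw [hu'a, hr]
      _ = a := by group
  set a' := u⁻¹ * u' with ha'
  have hu'2 : u' * u' = 1 := by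
    rw [hu', show x * u * x⁻¹ * (x * u * x⁻¹) = x * (u * u) * x⁻¹ by group]
    nth_rw 1 [← huinv]
    group
  have hinv : u * a' * u⁻¹ = a'⁻¹ := by
    rw [ha', mul_inv_rev, inv_inv, inv_eq_of_mul_eq_one_right hu'2]
    group
    rw [zpow_neg_one, huinv]
  have ha'2 : a' ^ 2 = 1 := by
    obtain ⟨k, hk⟩ := IsPGroup.iff_orderOf.1 hX a'
    by_contra hne
    have hk2 : 2 ≤ k := by
      by_contra hlt
      refine hne ?_
      rw [← orderOf_dvd_iff_pow_eq_one, hk]
      calc 2 ^ k ∣ 2 ^ 1 := pow_dvd_pow 2 (by omega)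
        _ = 2 := pow_one 2
    set q := a' ^ 2 ^ (k - 2) with hq
    have hqo : orderOf q = 4 := by
      rw [hq, orderOf_pow, hk, Nat.gcd_eq_right (pow_dvd_pow 2 (by omega)), Nat.pow_div (by omega) two_pos,
        show k - (k - 2) = 2 by omega]
      norm_num
    have hqA : q ∈ A := pow_mem hmem _
    haveI : IsCyclic A := ⟨⟨⟨a, haA⟩, fun y => hgen.le (Subgroup.mem_top y)⟩⟩
    have hqc : q ∈ Subgroup.center X := by
      have h1 : (⟨q, hqA⟩ : A) ∈ Subgroup.zpowers (⟨p0, hZA hp0⟩ : A) := mem_zpowers_of_pow (by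
        refine Subtype.ext ?_
        rw [Subgroup.orderOf_mk, h4, ← hqo]
        exact pow_orderOf_eq_one q)
      obtain ⟨i, hi⟩ := Subgroup.mem_zpowers_iff.1 h1
      rw [show q = p0 ^ i from (congrArg Subtype.val hi).symm]
      exact zpow_mem hp0 i
    have h2 : u * q * u⁻¹ = q⁻¹ := by rw [hq, ← conj_pow, hinv, inv_pow]
    rw [Subgroup.mem_center_iff.1 hqc u, mul_inv_cancel_right] at h2
    have h3 : q ^ 2 = 1 := by rw [pow_two]; nth_rw 1 [h2]; exact inv_mul_cancel q
    have := orderOf_dvd_of_pow_eq_one h3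
    rw [hqo] at this; omega
  rcases huA' a' ha'2 hmem with h | h
  · left
    exact (inv_mul_eq_one.1 h).symm
  · right
    exact inv_mul_eq_iff_eq_mul.1 h

end Cfsg.Agent.Lie.CyclicCapTwoGroup
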