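import Cfsg.Agent.Lib.Lie.CyclicCapPair
import Cfsg.Agent.Lib.Lie.CyclicCapTwoGroup
import Cfsg.Agent.Lib.Fusion.DihedralFours
import Cfsg.Agent.Lib.Fusion.PLayerBasics
import Cfsg.Agent.Lib.Solv.ClassPow

/-!
# Solvable normal subgroups when Sylow 2-intersections are cyclic
-/

set_option autoImplicit false
set_option linter.unusedSectionVars false
set_option linter.style.haveILetI false

namespace Cfsg.Agent.Lie.CyclicCapTop

open Cfsg
open scoped Pointwise

universe u

variable {G : Type u} [Group G] [Finite G]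
  (hFT : ∀ (H : Type u) [Group H] [Finite H], Odd (Nat.card H) → Group.IsSolvable H)
  (hO : oddCore G = ⊥) (hns : ¬ Group.IsSolvable G)
  (hC : ∀ S T : Sylow 2 G, S ≠ T → IsCyclic ↥((S : Subgroup G) ⊓ (T : Subgroup G)))

theorem mem_sylow_of_fix {g : G} {S : Sylow 2 G} (hg : g • S = S) (h2 : ∃ k, orderOf g = 2 ^ k) :
    g ∈ S := by
  haveI : Fact (Nat.Prime 2) := ⟨Nat.prime_two⟩
  have hp : IsPGroup 2 (Subgroup.zpowers g) := by
    obtain ⟨k, hk⟩ := h2
    exact IsPGroup.of_card (n := k) (by rw [Nat.card_zpowers, hk])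
  have hle : Subgroup.zpowers g ≤ Subgroup.normalizer ((S : Subgroup G) : Set G) :=
    Subgroup.zpowers_le.2 (Sylow.smul_eq_iff_mem_normalizer.1 hg)
  exact ((le_inf le_rfl hle).trans ((hp.inf_normalizer_sylow S).le.trans inf_le_right))
    (Subgroup.mem_zpowers g)

theorem smul_sylow_of_mem {g : G} {S : Sylow 2 G} (hg : g ∈ S) : g • S = S :=
  Sylow.smul_eq_iff_mem_normalizer.2 (Subgroup.le_normalizer hg)

/-- Split off the two-part. -/
theorem exists_two_parts (g : G) :
    ∃ a m : ℕ, Odd m ∧ (∃ k, orderOf (g ^ m) = 2 ^ k) ∧ (orderOf (g ^ 2 ^ a)).Coprime 2 ∧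
      orderOf g = 2 ^ a * m := by
  obtain ⟨a, m, hm, e⟩ := Nat.exists_eq_two_pow_mul_odd (orderOf_pos g).ne'
  refine ⟨a, m, hm, ⟨a, ?_⟩, ?_, e⟩
  · rw [orderOf_pow' g hm.pos.ne', e, Nat.gcd_eq_right (dvd_mul_left m _), Nat.mul_div_cancel _ hm.pos]
  · rw [orderOf_pow' g (pow_ne_zero _ two_ne_zero), e, Nat.gcd_eq_right (dvd_mul_right _ m),
      Nat.mul_div_cancel_left _ (pow_pos two_pos a)]
    exact Nat.coprime_two_right.2 hm

include hFT hns in
theorem exists_two_sylows (S : Sylow 2 G) : ∃ T : Sylow 2 G, T ≠ S := by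
  haveI : Fact (Nat.Prime 2) := ⟨Nat.prime_two⟩
  by_contra h
  push Not at h
  haveI : Subsingleton (Sylow 2 G) := ⟨fun a b => (h a).trans (h b).symm⟩
  haveI := Sylow.normal_of_subsingleton S
  refine hns (Solv.isSolvable_of_normal_quotient (S : Subgroup G) (Solv.isSolvable_of_isPGroup S.2)
    (hFT _ ?_))
  rw [← Subgroup.index_eq_card]
  refine Nat.not_even_iff_odd.1 fun he => ?_
  exact S.not_dvd_index (even_iff_two_dvd.1 he)

include hFT hns hC in
theorem isCyclic_pCore : IsCyclic ↥(pCore 2 G) := by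
  haveI : Fact (Nat.Prime 2) := ⟨Nat.prime_two⟩
  obtain ⟨T, hT⟩ := exists_two_sylows hFT hns (default : Sylow 2 G)
  haveI := hC _ _ hT
  exact isCyclic_of_injective
    (Subgroup.inclusion (le_inf (Fusion.pCore_le_sylow T) (Fusion.pCore_le_sylow default)))
    (Subgroup.inclusion_injective _)

include hFT hns hC in
theorem two_pow_mem_centralizer (g : G) :
    ∃ a : ℕ, g ^ 2 ^ a ∈ Subgroup.centralizer ((pCore 2 G : Subgroup G) : Set G) := by
  haveI : Fact (Nat.Prime 2) := ⟨Nat.prime_two⟩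
  obtain ⟨a, m, -, -, hco, -⟩ := exists_two_parts g
  refine ⟨a, Subgroup.mem_centralizer_iff.2 fun z hz => ?_⟩
  set P := pCore 2 G
  haveI hPn : P.Normal := Solv.pCore_normal 2
  by_cases hP1 : P = ⊥
  · have hz1 : z = 1 := by simpa [hP1] using hz
    rw [hz1, one_mul, mul_one]
  have hPc := isCyclic_pCore hFT hns hC
  have hP2 : IsPGroup 2 P := Solv.pCore_isPGroup 2
  obtain ⟨n, hn⟩ := IsPGroup.iff_card.1 hP2
  have hdvd : 2 ∣ Nat.card P := by
    rcases n with _ | n
    · exact absurd (Subgroup.card_eq_one.1 (by simpa using hn)) hP1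
    · rw [hn, pow_succ]; exact dvd_mul_left _ _
  obtain ⟨⟨t, ht⟩, ht2⟩ := exists_prime_orderOf_dvd_card' 2 hdvd
  set c := g ^ 2 ^ a
  have hct : c * t * c⁻¹ = t := by
    have h1 : (⟨c * t * c⁻¹, hPn.conj_mem t ht c⟩ : P) ∈ Subgroup.zpowers (⟨t, ht⟩ : P) :=
      CyclicCapTwoGroup.mem_zpowers_of_pow (by
        rw [ht2]
        refine Subtype.ext ?_
        show (c * t * c⁻¹) ^ 2 = 1
        rw [conj_pow, show t ^ 2 = 1 from (congrArg Subtype.val (ht2 ▸ pow_orderOf_eq_one (⟨t, ht⟩ : P))),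
          mul_one, mul_inv_cancel])
    obtain ⟨i, hi⟩ := Subgroup.mem_zpowers_iff.1 h1
    have hi' : t ^ i = c * t * c⁻¹ := congrArg Subtype.val hi
    rw [Subgroup.orderOf_mk] at ht2
    rcases Int.even_or_odd i with ⟨l, hl⟩ | ⟨l, hl⟩
    · exfalso
      rw [hl, ← two_mul, zpow_mul, show t ^ (2 : ℤ) = 1 by
        rw [zpow_ofNat, ← ht2, pow_orderOf_eq_one], one_zpow] at hi'
      have : t = 1 := conj_eq_one_iff.1 hi'.symm
      rw [this, orderOf_one] at ht2; omega
    · rw [← hi', hl, zpow_add, zpow_mul, show t ^ (2 : ℤ) = 1 by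
        rw [zpow_ofNat, ← ht2, pow_orderOf_eq_one], one_zpow, one_mul, zpow_one]
  refine (Solv.centralizes_cyclic hP2 hPc ?_ hco ht ?_ (mul_inv_eq_iff_eq_mul.1 hct) z hz).symm
  · refine Subgroup.mem_normalizer_iff.2 fun w => ⟨fun hw => hPn.conj_mem w hw c, fun hw => ?_⟩
    have := hPn.conj_mem _ hw c⁻¹
    rwa [show c⁻¹ * (c * w * c⁻¹) * c⁻¹⁻¹ = w by group] at this
  · intro e
    rw [Subgroup.orderOf_mk, e, orderOf_one] at ht2; omega

include hFT hO hns hC in
theorem le_pCore_of_solvable (N : Subgroup G) [hNn : N.Normal] (hN : Group.IsSolvable N) :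
    N ≤ pCore 2 G := by
  haveI : Fact (Nat.Prime 2) := ⟨Nat.prime_two⟩
  haveI := Solv.pPrimeCore_normal (G := ↥N) 2
  have hON : pPrimeCore 2 ↥N = ⊥ := by
    have hn : ((pPrimeCore 2 ↥N).map N.subtype).Normal :=
      Solv.map_subtype_normal_of_characteristic N _
    have h1 : (pPrimeCore 2 ↥N).map N.subtype ≤ oddCore G :=
      Fusion.le_pPrimeCore (by
        rw [Subgroup.card_map_of_injective N.subtype_injective]
        exact Fusion.card_pPrimeCore_coprime 2 ↥N)
    rw [hO, le_bot_iff, Subgroup.map_eq_bot_iff_of_injective _ N.subtype_injective] at h1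
    exact h1
  have hF : (fittingSubgroup ↥N).map N.subtype ≤ pCore 2 G := by
    rw [Fusion.fitting_eq_pCore hON]
    haveI : ((pCore 2 ↥N).map N.subtype).Normal := by
      haveI : (pCore 2 ↥N).Characteristic :=
        Subgroup.characteristic_iff_map_eq.2 fun e => Fusion.map_pCore_equiv e
      exact Solv.map_subtype_normal_of_characteristic N _
    exact Fusion.le_pCore ((Solv.pCore_isPGroup 2).map _)
  have hcent : ∀ n ∈ N, n ∈ Subgroup.centralizer ((pCore 2 G : Subgroup G) : Set G) → n ∈ pCore 2 G := by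
    intro n hn hc
    refine hF ⟨⟨n, hn⟩, Solv.centralizer_fitting_le hN (Subgroup.mem_centralizer_iff.2 fun f hf => ?_), rfl⟩
    exact Subtype.ext (Subgroup.mem_centralizer_iff.1 hc _ (hF ⟨f, hf, rfl⟩))
  have h2 : IsPGroup 2 N := by
    rintro ⟨n, hn⟩
    obtain ⟨a, ha⟩ := two_pow_mem_centralizer hFT hns hC n
    obtain ⟨b, hb⟩ := Solv.pCore_isPGroup (G := G) 2 ⟨_, hcent _ (pow_mem hn _) ha⟩
    refine ⟨a + b, Subtype.ext ?_⟩
    show n ^ 2 ^ (a + b) = 1
    rw [pow_add, pow_mul]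
    exact congrArg Subtype.val hb
  exact Fusion.le_pCore h2

include hFT hO hns hC in
theorem pCore_le_center : pCore 2 G ≤ Subgroup.center G := by
  haveI : Fact (Nat.Prime 2) := ⟨Nat.prime_two⟩
  set P := pCore 2 G with hP
  haveI hPn : P.Normal := Solv.pCore_normal 2
  by_contra hnc
  have hP2 : IsPGroup 2 P := Solv.pCore_isPGroup 2
  haveI hPc : IsCyclic P := isCyclic_pCore hFT hns hC
  obtain ⟨gen, hgen⟩ := IsCyclic.exists_generator (α := P)
  obtain ⟨n, hn⟩ := IsPGroup.iff_orderOf.1 hP2 gen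
  have hn2 : 2 ≤ n := by
    by_contra hlt
    refine hnc fun z hz => Subgroup.mem_center_iff.2 fun g => ?_
    obtain ⟨i, hi⟩ := Subgroup.mem_zpowers_iff.1 (hgen ⟨z, hz⟩)
    have h2 : (gen : G) ^ 2 = 1 := by
      have : orderOf (gen : G) ∣ 2 := by
        rw [Subgroup.orderOf_coe, hn]
        calc 2 ^ n ∣ 2 ^ 1 := pow_dvd_pow 2 (by omega)
          _ = 2 := pow_one 2
      exact orderOf_dvd_iff_pow_eq_one.1 this
    have hfix : g * (gen : G) * g⁻¹ = gen := by
      by_cases h1 : (gen : G) = 1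
      · rw [h1, mul_one, mul_inv_cancel]
      obtain ⟨l, hl⟩ := Subgroup.mem_zpowers_iff.1 (hgen ⟨_, hPn.conj_mem _ gen.2 g⟩)
      have hl' : (gen : G) ^ l = g * gen * g⁻¹ := congrArg Subtype.val hl
      rcases Int.even_or_odd l with ⟨k, hk⟩ | ⟨k, hk⟩
      · exfalso
        rw [hk, ← two_mul, zpow_mul, zpow_ofNat, h2, one_zpow] at hl'
        exact h1 (conj_eq_one_iff.1 hl'.symm)
      · rw [← hl', hk, zpow_add, zpow_mul, zpow_ofNat, h2, one_zpow, one_mul, zpow_one]
    have hz' : (gen : G) ^ i = z := congrArg Subtype.val hi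
    rw [← hz']
    exact (Commute.zpow_right (show Commute g (gen : G) from mul_inv_eq_iff_eq_mul.1 hfix) i).eq
  -- an element of order four and the involution
  set p0 : P := gen ^ 2 ^ (n - 2) with hp0
  have hp04 : orderOf p0 = 4 := by
    rw [hp0, orderOf_pow, hn, Nat.gcd_eq_right (pow_dvd_pow 2 (by omega)), Nat.pow_div (by omega) two_pos,
      show n - (n - 2) = 2 by omega]
    norm_num
  set j : G := (p0 : G) ^ 2 with hjd
  have hjP : j ∈ P := pow_mem p0.2 2
  have hp04' : orderOf (p0 : G) = 4 := by rw [Subgroup.orderOf_coe, hp04]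
  have hjo : orderOf j = 2 := by rw [hjd, orderOf_pow, hp04']; rfl
  have hjuniq : ∀ z ∈ P, orderOf z = 2 → z = j := by
    intro z hz hz2
    have h1 : (⟨z, hz⟩ : P) ∈ Subgroup.zpowers (⟨j, hjP⟩ : P) := CyclicCapTwoGroup.mem_zpowers_of_pow (by
      refine Subtype.ext ?_
      rw [Subgroup.orderOf_mk, hjo, ← hz2]
      exact pow_orderOf_eq_one z)
    obtain ⟨i, hi⟩ := Subgroup.mem_zpowers_iff.1 h1
    have hi' : j ^ i = z := congrArg Subtype.val hi
    rcases Int.even_or_odd i with ⟨l, hl⟩ | ⟨l, hl⟩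
    · exfalso
      rw [hl, ← two_mul, zpow_mul, zpow_ofNat, show j ^ 2 = 1 by rw [← hjo, pow_orderOf_eq_one],
        one_zpow] at hi'
      rw [← hi', orderOf_one] at hz2; omega
    · rw [← hi', hl, zpow_add, zpow_mul, zpow_ofNat, show j ^ 2 = 1 by rw [← hjo, pow_orderOf_eq_one],
        one_zpow, one_mul, zpow_one]
  set K := Subgroup.centralizer (P : Set G) with hK
  haveI hKn : K.Normal := by rw [hK]; infer_instance
  have hPK : P ≤ K := fun z hz => Subgroup.mem_centralizer_iff.2 fun w hw => by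
    letI : CommGroup P := IsCyclic.commGroup
    exact congrArg Subtype.val (mul_comm (⟨w, hw⟩ : P) ⟨z, hz⟩)
  have hcomm : ∀ k ∈ K, ∀ z ∈ P, k * z = z * k := fun k hk z hz =>
    (Subgroup.mem_centralizer_iff.1 hk z hz).symm
  have hquot2 : IsPGroup 2 (G ⧸ K) := by
    intro q
    induction q using QuotientGroup.induction_on with
    | H g =>
      obtain ⟨a, ha⟩ := two_pow_mem_centralizer hFT hns hC g
      exact ⟨a, by rw [← QuotientGroup.mk_pow, QuotientGroup.eq_one_iff]; exact ha⟩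
  have hKns : ¬ Group.IsSolvable K := fun h =>
    hns (Solv.isSolvable_of_normal_quotient K h (Solv.isSolvable_of_isPGroup hquot2))
  have hPS : ∀ S : Sylow 2 G, P ≤ S := fun S => Fusion.pCore_le_sylow S
  -- a Sylow intersection has one involution
  have hone : ∀ S T : Sylow 2 G, S ≠ T → ∀ z ∈ (S : Subgroup G) ⊓ (T : Subgroup G), orderOf z = 2 → z = j := by
    intro S T hST z hz hz2
    haveI := hC S T hST
    have hjI : j ∈ (S : Subgroup G) ⊓ (T : Subgroup G) := ⟨hPS S hjP, hPS T hjP⟩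
    have h1 : (⟨z, hz⟩ : ↥((S : Subgroup G) ⊓ (T : Subgroup G))) ∈ Subgroup.zpowers ⟨j, hjI⟩ :=
      CyclicCapTwoGroup.mem_zpowers_of_pow (by
        refine Subtype.ext ?_
        rw [Subgroup.orderOf_mk, hjo]
        exact orderOf_dvd_iff_pow_eq_one.1 (dvd_of_eq hz2))
    obtain ⟨i, hi⟩ := Subgroup.mem_zpowers_iff.1 h1
    have hzP : z ∈ P := by
      rw [show z = j ^ i from (congrArg Subtype.val hi).symm]
      exact zpow_mem hjP i
    exact hjuniq z hzP hz2
  -- elements outside `K` fix at most one Sylow subgroup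
  have hout : ∀ (S T : Sylow 2 G), S ≠ T → ∀ g : G, g • S = S → g • T = T → g ∈ K := by
    intro S T hST g hgS hgT
    obtain ⟨a, m, hm, h2, -, -⟩ := exists_two_parts g
    obtain ⟨b, hb⟩ := two_pow_mem_centralizer hFT hns hC g
    have hgm : g ^ m ∈ (S : Subgroup G) ⊓ (T : Subgroup G) :=
      ⟨mem_sylow_of_fix (MulAction.mem_stabilizer_iff.1 (pow_mem (MulAction.mem_stabilizer_iff.2 hgS) m)) h2,
       mem_sylow_of_fix (MulAction.mem_stabilizer_iff.1 (pow_mem (MulAction.mem_stabilizer_iff.2 hgT) m)) h2⟩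
    have hgmK : g ^ m ∈ K := by
      haveI := hC S T hST
      letI : CommGroup ↥((S : Subgroup G) ⊓ (T : Subgroup G)) := IsCyclic.commGroup
      refine Subgroup.mem_centralizer_iff.2 fun z hz => ?_
      exact congrArg Subtype.val (mul_comm
        (⟨z, hPS S hz, hPS T hz⟩ : ↥((S : Subgroup G) ⊓ (T : Subgroup G))) ⟨_, hgm⟩)
    have h1 : (QuotientGroup.mk g : G ⧸ K) ^ m = 1 := by
      rw [← QuotientGroup.mk_pow, QuotientGroup.eq_one_iff]; exact hgmK
    have h2' : (QuotientGroup.mk g : G ⧸ K) ^ 2 ^ b = 1 := by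
      rw [← QuotientGroup.mk_pow, QuotientGroup.eq_one_iff]; exact hb
    rw [← QuotientGroup.eq_one_iff, ← pow_one (QuotientGroup.mk g : G ⧸ K),
      ← show Nat.gcd m (2 ^ b) = 1 from (Nat.coprime_two_right.2 hm).pow_right b]
    exact pow_gcd_eq_one.2 ⟨h1, h2'⟩
  -- `K` is transitive
  have hsup : ∀ S : Sylow 2 G, (S : Subgroup G) ⊔ K = ⊤ := by
    intro S
    rw [← Subgroup.index_eq_one]
    have d1 : ((S : Subgroup G) ⊔ K).index ∣ (S : Subgroup G).index := Subgroup.index_dvd_of_le le_sup_left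
    have d2 : ((S : Subgroup G) ⊔ K).index ∣ K.index := Subgroup.index_dvd_of_le le_sup_right
    obtain ⟨k, hk⟩ := IsPGroup.iff_card.1 hquot2
    rw [← Subgroup.index_eq_card] at hk
    rw [hk] at d2
    exact Nat.eq_one_of_dvd_coprimes
      ((Nat.prime_two.coprime_iff_not_dvd.2 S.not_dvd_index).symm.pow_right k) d1 d2
  have hsplit : ∀ (S : Sylow 2 G) (g : G), ∃ k ∈ K, ∃ s ∈ (S : Subgroup G), g = k * s := by
    intro S g
    have h : g ∈ ((K ⊔ (S : Subgroup G) : Subgroup G) : Set G) := by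
      rw [sup_comm, hsup S]; trivial
    rw [Subgroup.normal_mul] at h
    obtain ⟨k, hk, s, hs, rfl⟩ := h
    exact ⟨k, hk, s, hs, rfl⟩
  -- the permutation action of `K / P`
  let P' : Subgroup K := P.subgroupOf K
  haveI hP'n : P'.Normal := hPn.subgroupOf K
  let ρ : K →* Equiv.Perm (Sylow 2 G) := (MulAction.toPermHom G (Sylow 2 G)).comp K.subtype
  have hρ : P' ≤ ρ.ker := fun z hz => by
    refine Equiv.ext fun S => ?_
    exact smul_sylow_of_mem (hPS S hz)
  let ρ' : K ⧸ P' →* Equiv.Perm (Sylow 2 G) := QuotientGroup.lift P' ρ hρ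
  letI : MulAction (K ⧸ P') (Sylow 2 G) := MulAction.compHom _ ρ'
  let π : K →* K ⧸ P' := QuotientGroup.mk' P'
  have hπs : ∀ (k : K) (S : Sylow 2 G), π k • S = (k : G) • S := fun _ _ => rfl
  have hπeq : ∀ k : K, π k = 1 ↔ (k : G) ∈ P := fun k => QuotientGroup.eq_one_iff k
  let J : Set (K ⧸ P') := {q | ∃ k : K, orderOf (k : G) = 2 ∧ (k : G) ≠ j ∧ π k = q}
  let T : Sylow 2 G → Subgroup (K ⧸ P') := fun S => ((S : Subgroup G).subgroupOf K).map π
  have hcore : oddCore (K ⧸ P') = ⊥ := by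
    let M : Subgroup K := (oddCore (K ⧸ P')).comap π
    haveI : (oddCore (K ⧸ P')).Normal := Solv.pPrimeCore_normal 2
    haveI : M.Normal := Subgroup.Normal.comap inferInstance π
    have hPM : P' ≤ M := fun z hz => by
      show π z ∈ oddCore (K ⧸ P')
      rw [(hπeq z).2 hz]; exact one_mem _
    have hidx : Odd ((P'.subgroupOf M).index) := by
      have h1 : P'.relIndex M = Nat.card (oddCore (K ⧸ P')) := by
        have h2 := Subgroup.relIndex_ker (f := π) (K := M)
        rw [QuotientGroup.ker_mk'] at h2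
        rw [h2, Subgroup.map_comap_eq_self_of_surjective (QuotientGroup.mk'_surjective P')]
      show Odd (P'.relIndex M)
      rw [h1]
      exact Nat.coprime_two_right.1 (Fusion.card_pPrimeCore_coprime 2 _)
    have hp2 : IsPGroup 2 (P'.subgroupOf M) :=
      ((hP2.comap_subtype (K := K)).comap_subtype (K := M))
    let S0 : Sylow 2 M := hp2.toSylow (by
      rw [← even_iff_two_dvd, Nat.not_even_iff_odd]; exact hidx)
    have hS0c : IsCyclic (S0 : Subgroup M) := by
      show IsCyclic (P'.subgroupOf M)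
      exact isCyclic_of_injective
        ((Subgroup.subgroupOfEquivOfLe hPK).toMonoidHom.comp
          (Subgroup.subgroupOfEquivOfLe hPM).toMonoidHom)
        ((Subgroup.subgroupOfEquivOfLe hPK).injective.comp (Subgroup.subgroupOfEquivOfLe hPM).injective)
    obtain ⟨S1, N, hNn, hNc⟩ := Fusion.DihedralFours.hnpc_two_cyclic S0 hS0c
    have hNodd : (Nat.card N).Coprime 2 := by
      rw [Nat.coprime_two_right]
      refine Nat.not_even_iff_odd.1 fun he => ?_
      have : Nat.card N = (S1 : Subgroup M).index := hNc.index_eq_card.symm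
      exact S1.not_dvd_index (this ▸ even_iff_two_dvd.1 he)
    haveI := hNn
    have h1 : N ≤ oddCore ↥M := Fusion.le_pPrimeCore hNodd
    haveI : ((oddCore ↥M).map M.subtype).Normal := Solv.map_subtype_normal_of_characteristic M _
    have h2 : (oddCore ↥M).map M.subtype ≤ oddCore ↥K := Fusion.le_pPrimeCore (by
      rw [Subgroup.card_map_of_injective M.subtype_injective]
      exact Fusion.card_pPrimeCore_coprime 2 _)
    have h3 : oddCore ↥K = ⊥ := by
      haveI : ((oddCore ↥K).map K.subtype).Normal := Solv.map_subtype_normal_of_characteristic K _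
      have h4 : (oddCore ↥K).map K.subtype ≤ oddCore G := Fusion.le_pPrimeCore (by
        rw [Subgroup.card_map_of_injective K.subtype_injective]
        exact Fusion.card_pPrimeCore_coprime 2 _)
      rwa [hO, le_bot_iff, Subgroup.map_eq_bot_iff_of_injective _ K.subtype_injective] at h4
    rw [h3, le_bot_iff, Subgroup.map_eq_bot_iff_of_injective _ M.subtype_injective] at h2
    rw [h2, le_bot_iff] at h1
    have hS1 : (S1 : Subgroup M) = ⊤ := by rw [h1] at hNc; exact Subgroup.isComplement'_bot_left.1 hNc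
    have hM2 : IsPGroup 2 M := by
      intro z
      obtain ⟨k, hk⟩ := S1.2 ⟨z, hS1 ▸ Subgroup.mem_top z⟩
      exact ⟨k, congrArg Subtype.val hk⟩
    have hQ2 : IsPGroup 2 ↥(oddCore (K ⧸ P')) := by
      have := hM2.map π
      rwa [Subgroup.map_comap_eq_self_of_surjective (QuotientGroup.mk'_surjective P')] at this
    obtain ⟨k, hk⟩ := IsPGroup.iff_card.1 hQ2
    have hodd := Nat.coprime_two_right.1 (Fusion.card_pPrimeCore_coprime 2 (K ⧸ P'))
    refine Subgroup.card_eq_one.1 ?_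
    rcases k with _ | k
    · simpa using hk
    · exfalso
      rw [show Nat.card ↥(pPrimeCore 2 (K ⧸ P')) = 2 ^ (k + 1) from hk] at hodd
      simp [Nat.odd_iff, Nat.pow_mod] at hodd
  have hJne : J.Nonempty := by
    by_contra hJ
    obtain ⟨S⟩ : Nonempty (Sylow 2 K) := inferInstance
    have hp0K : (p0 : G) ∈ K := hPK p0.2
    have hp0S : (⟨(p0 : G), hp0K⟩ : K) ∈ S := by
      have : P' ≤ S := (Fusion.le_pCore (hP2.comap_subtype (K := K))).trans (Fusion.pCore_le_sylow S)
      exact this p0.2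
    refine hKns ?_
    have hcyc : IsCyclic (S : Subgroup K) := by
      refine CyclicCapTwoGroup.isCyclic_of_unique S.2 (p0 := ⟨_, hp0S⟩) ?_ ?_ ?_
      · refine Subgroup.mem_center_iff.2 fun s => Subtype.ext (Subtype.ext ?_)
        exact hcomm _ (s : K).2 _ p0.2
      · rw [Subgroup.orderOf_mk, Subgroup.orderOf_mk, hp04']
      · intro v hv
        refine Subtype.ext (Subtype.ext ?_)
        show ((v : K) : G) = j
        by_contra hne
        refine hJ ⟨_, (v : K), ?_, hne, rfl⟩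
        rw [Subgroup.orderOf_coe, Subgroup.orderOf_coe, hv]
    obtain ⟨S1, N, hNn, hNc⟩ := Fusion.DihedralFours.hnpc_two_cyclic S hcyc
    haveI := hNn
    refine Solv.isSolvable_of_normal_quotient N (hFT _ ?_) ?_
    · refine Nat.not_even_iff_odd.1 fun he => ?_
      have : Nat.card N = (S1 : Subgroup K).index := hNc.index_eq_card.symm
      exact S1.not_dvd_index (this ▸ even_iff_two_dvd.1 he)
    · have : IsPGroup 2 (K ⧸ N) := by
        obtain ⟨k, hk⟩ := IsPGroup.iff_card.1 S1.2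
        exact IsPGroup.of_card (n := k) (by rw [← Subgroup.index_eq_card, hNc.symm.index_eq_card, hk])
      exact Solv.isSolvable_of_isPGroup this
  have hsys : InvPairs.InvSys (Ω := Sylow 2 G) J := by
    refine ⟨?_, ?_, ?_, ?_, ?_, ?_, ?_, hJne⟩
    · rintro _ ⟨k, hk, hkj, rfl⟩
      refine orderOf_eq_prime ?_ fun e => hkj (hjuniq _ ((hπeq k).1 e) hk)
      rw [← map_pow, show k ^ 2 = 1 from Subtype.ext (by
        show (k : G) ^ 2 = 1; rw [← hk, pow_orderOf_eq_one]), map_one]
    · rintro _ ⟨k, hk, hkj, rfl⟩ g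
      obtain ⟨l, rfl⟩ := QuotientGroup.mk'_surjective P' g
      refine ⟨l * k * l⁻¹, ?_, fun e => hkj ?_, by rw [map_mul, map_mul, map_inv]⟩
      · show orderOf ((MulAut.conj (l : G)).toMonoidHom (k : G)) = 2
        rw [orderOf_injective _ (MulAut.conj (l : G)).injective]; exact hk
      · have hlj : (l : G) * j * (l : G)⁻¹ = j := by rw [hcomm _ l.2 j hjP, mul_inv_cancel_right]
        exact mul_left_cancel (mul_right_cancel (Eq.trans (show (l : G) * k * (l : G)⁻¹ = j from e) hlj.symm))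
    · rintro _ ⟨k, hk, hkj, rfl⟩
      obtain ⟨S, hS⟩ := (IsPGroup.of_card (n := 1) (show Nat.card (Subgroup.zpowers (k : G)) = 2 ^ 1 by
        rw [Nat.card_zpowers, hk, pow_one])).exists_le_sylow
      exact ⟨S, smul_sylow_of_mem (hS (Subgroup.mem_zpowers _))⟩
    · rintro _ ⟨k, hk, hkj, rfl⟩ x y hx hy
      by_contra hxy
      exact hkj (hone x y hxy _ ⟨mem_sylow_of_fix hx ⟨1, by rw [hk, pow_one]⟩,
        mem_sylow_of_fix hy ⟨1, by rw [hk, pow_one]⟩⟩ hk)
    · rintro _ ⟨u, hu, huj, rfl⟩ _ ⟨v, hv, hvj, rfl⟩ hab hne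
      have hu2 : (u : G) * u = 1 := by rw [← pow_two, ← hu, pow_orderOf_eq_one]
      have hv2 : (v : G) * v = 1 := by rw [← pow_two, ← hv, pow_orderOf_eq_one]
      have hui : (u : G)⁻¹ = u := inv_eq_of_mul_eq_one_right hu2
      have hvi : (v : G)⁻¹ = v := inv_eq_of_mul_eq_one_right hv2
      set c : G := (u : G) * v * ((u : G) * v) with hc
      have hcP : c ∈ P := by
        have h1 : π (u * v * (u * v)) = 1 := by
          rw [map_mul, map_mul]
          calc π u * π v * (π u * π v) = (π u * π u) * (π v * π v) := hab.symm.mul_mul_mul_comm _ _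
            _ = 1 := by
              rw [← map_mul, ← map_mul, show u * u = 1 from Subtype.ext hu2,
                show v * v = 1 from Subtype.ext hv2, map_one, mul_one]
        exact (hπeq _).1 h1
      have hc2 : c * c = 1 := by
        have h1 : (u : G) * c * (u : G)⁻¹ = c := by rw [hcomm _ u.2 c hcP, mul_inv_cancel_right]
        have h2 : (u : G) * c * (u : G)⁻¹ = c⁻¹ := by
          rw [hc, mul_inv_rev, mul_inv_rev, hui, hvi]
          calc (u : G) * (↑u * ↑v * (↑u * ↑v)) * ↑u = (↑u * ↑u) * ↑v * ↑u * ↑v * ↑u := by group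
            _ = _ := by rw [hu2]; group
        rw [h1] at h2
        nth_rw 1 [h2]
        exact inv_mul_cancel c
      have huvP : (u : G) * v ∉ P := fun h => hne (by
        have h1 : π (u * v) = 1 := (hπeq (u * v)).2 h
        rw [map_mul] at h1
        have h2 : π v * π v = 1 := by rw [← map_mul, show v * v = 1 from Subtype.ext hv2, map_one]
        exact mul_right_cancel (h1.trans h2.symm))
      obtain ⟨w, hwP, hw⟩ : ∃ w ∈ P, ((u : G) * v * w) * ((u : G) * v * w) = 1 := by
        by_cases hc1 : c = 1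
        · exact ⟨1, one_mem _, by rw [mul_one]; exact hc1⟩
        · refine ⟨p0, p0.2, ?_⟩
          have hcj : c = j := hjuniq c hcP (orderOf_eq_prime (by rw [pow_two]; exact hc2) hc1)
          have hcm : Commute ((u : G) * v) (p0 : G) := hcomm _ (mul_mem u.2 v.2) _ p0.2
          rw [hcm.symm.mul_mul_mul_comm, ← hc, hcj, ← pow_two, hjd, ← pow_add, show 2 + 2 = 4 from rfl, ← hp04',
            pow_orderOf_eq_one]
      have hwP' : (u : G) * v * w ∉ P := fun h => huvP (by
        have := mul_mem h (inv_mem hwP); rwa [mul_inv_cancel_right] at this)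
      refine ⟨u * v * ⟨w, hPK hwP⟩, orderOf_eq_prime (by rw [pow_two]; exact hw)
        (fun e => hwP' (by rw [show (u : G) * v * w = 1 from e]; exact one_mem _)),
        fun e => hwP' (by rw [show (u : G) * v * w = j from e]; exact hjP), ?_⟩
      rw [map_mul, map_mul, (hπeq ⟨w, hPK hwP⟩).2 hwP, mul_one]
    · intro x y
      obtain ⟨g, hg⟩ := MulAction.exists_smul_eq G x y
      obtain ⟨k, hk, s, hs, rfl⟩ := hsplit x g
      refine ⟨π ⟨k, hk⟩, ?_⟩
      rw [hπs, ← hg, mul_smul, smul_sylow_of_mem hs]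
    · exact fun x => exists_two_sylows hFT hns x
  have hpair : CyclicCapPair.PairSys J T := by
    refine ⟨hsys, ?_, ?_, ?_, ?_, ?_, ?_, hcore⟩
    · rintro x _ ⟨k, hk, rfl⟩
      exact smul_sylow_of_mem hk
    · rintro x q hq _ ⟨k, hk, rfl⟩
      obtain ⟨l, rfl⟩ := QuotientGroup.mk'_surjective P' q
      refine ⟨l * k * l⁻¹, ?_, by rw [map_mul, map_mul, map_inv]⟩
      exact ((Subgroup.mem_normalizer_iff.1 (Sylow.smul_eq_iff_mem_normalizer.1 hq)) (k : G)).1 hk
    · intro x
      exact (x.2.comap_subtype (K := K)).map π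
    · rintro x q hq ⟨i, hi⟩
      obtain ⟨l, rfl⟩ := QuotientGroup.mk'_surjective P' q
      obtain ⟨a, m, hm, ⟨b, hb⟩, -, -⟩ := exists_two_parts (l : G)
      have hlm : (l : G) ^ m ∈ x :=
        mem_sylow_of_fix (MulAction.mem_stabilizer_iff.1
          (pow_mem (MulAction.mem_stabilizer_iff.2 (show (l : G) • x = x from hq)) m)) ⟨b, hb⟩
      have h1 : π l ^ m ∈ T x := ⟨l ^ m, hlm, map_pow _ _ _⟩
      obtain ⟨c, hc⟩ : ∃ c : ℕ, (π l ^ m) ^ c = π l := by
        apply exists_pow_eq_self_of_coprime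
        rw [hi]
        exact Nat.Coprime.pow_right _ (Nat.coprime_two_right.2 hm)
      rw [← hc]
      exact pow_mem h1 c
    · intro x y hxy
      haveI := hC x y hxy
      let ι : ↥(((x : Subgroup G) ⊓ (y : Subgroup G)).subgroupOf K) →* ↥((x : Subgroup G) ⊓ (y : Subgroup G)) :=
        { toFun := fun z => ⟨_, z.2⟩, map_one' := rfl, map_mul' := fun _ _ => rfl }
      haveI : IsCyclic ↥(((x : Subgroup G) ⊓ (y : Subgroup G)).subgroupOf K) :=
        isCyclic_of_injective ι fun a b e => Subtype.ext (Subtype.ext (congrArg Subtype.val e :))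
      have hle : T x ⊓ MulAction.stabilizer (K ⧸ P') y ≤
          (((x : Subgroup G) ⊓ (y : Subgroup G)).subgroupOf K).map π := by
        rintro _ ⟨⟨k, hk, rfl⟩, hky⟩
        refine ⟨k, ⟨hk, mem_sylow_of_fix hky ?_⟩, rfl⟩
        obtain ⟨e, he⟩ := IsPGroup.iff_orderOf.1 x.2 ⟨(k : G), (hk : (k : G) ∈ (x : Subgroup G))⟩
        exact ⟨e, (Subgroup.orderOf_mk _ _).symm.trans he⟩
      haveI : IsCyclic ↥((((x : Subgroup G) ⊓ (y : Subgroup G)).subgroupOf K).map π) :=
        isCyclic_of_surjective (π.subgroupMap _) (π.subgroupMap_surjective _)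
      exact isCyclic_of_injective (Subgroup.inclusion hle) (Subgroup.inclusion_injective _)
    · intro x
      obtain ⟨a, ha, hax⟩ := InvPairs.exists_ne_conj hsys x
      obtain ⟨u, hu, huj, rfl⟩ := ha
      have hux : (u : G) ∈ x := mem_sylow_of_fix hax ⟨1, by rw [hu, pow_one]⟩
      let X : Subgroup G := (x : Subgroup G) ⊓ K
      have hX : IsPGroup 2 X := x.2.to_le inf_le_left
      let q0 : X := ⟨(p0 : G), hPS x p0.2, hPK p0.2⟩
      have hq0c : q0 ∈ Subgroup.center X :=
        Subgroup.mem_center_iff.2 fun z => Subtype.ext (hcomm _ z.2.2 _ p0.2)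
      have hq04 : orderOf q0 = 4 := (Subgroup.orderOf_mk _ _).trans hp04'
      obtain ⟨v, hv, hvj, hvc⟩ := CyclicCapTwoGroup.exists_central_mod hX hq0c hq04
        (u := (⟨(u : G), hux, u.2⟩ : X)) ((Subgroup.orderOf_mk _ _).trans hu)
        (fun e => huj (congrArg Subtype.val e))
      refine ⟨π ⟨(v : G), v.2.2⟩, ⟨_, ?_, fun e => hvj (Subtype.ext e), rfl⟩,
        smul_sylow_of_mem v.2.1, ?_⟩
      · show orderOf ((v : G)) = 2
        rw [Subgroup.orderOf_coe]; exact hv
      · rintro _ ⟨k, hk, rfl⟩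
        rcases hvc ⟨(k : G), hk, k.2⟩ with e | e
        · have e' : (k : G) * v * (k : G)⁻¹ = v := congrArg Subtype.val e
          refine (mul_inv_eq_iff_eq_mul.1 ?_).symm
          rw [← map_inv, ← map_mul, ← map_mul]
          exact congrArg π (Subtype.ext e')
        · have e' : (k : G) * v * (k : G)⁻¹ = v * j := congrArg Subtype.val e
          refine (mul_inv_eq_iff_eq_mul.1 ?_).symm
          rw [← map_inv, ← map_mul, ← map_mul,
            show k * ⟨(v : G), v.2.2⟩ * k⁻¹ = ⟨(v : G), v.2.2⟩ * (⟨j, hPK hjP⟩ : K) from Subtype.ext e',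
            map_mul, (hπeq ⟨j, hPK hjP⟩).2 hjP, mul_one]
  obtain ⟨p, hp, hp2, hmain⟩ := CyclicCapPair.exists_prime_pair hpair
  haveI : Fact p.Prime := ⟨hp⟩
  let x : Sylow 2 G := default
  obtain ⟨s, hsx, hsK⟩ : ∃ s ∈ (x : Subgroup G), s ∉ K := by
    by_contra h
    push Not at h
    have e := hsup x
    rw [sup_eq_right.2 h] at e
    refine hnc fun z hz => Subgroup.mem_center_iff.2 fun g => hcomm g (e ▸ Subgroup.mem_top g) z hz
  -- Frattini in the stabilizer of `x`
  let Nx : Subgroup G := MulAction.stabilizer G x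
  let N' : Subgroup Nx := K.subgroupOf Nx
  haveI : N'.Normal := hKn.subgroupOf Nx
  let ψ : N' →* MulAction.stabilizer (K ⧸ P') x :=
    { toFun := fun z => ⟨π ⟨((z : Nx) : G), z.2⟩, (z : Nx).2⟩
      map_one' := Subtype.ext (map_one π)
      map_mul' := fun a b => Subtype.ext (map_mul π ⟨((a : Nx) : G), a.2⟩ ⟨((b : Nx) : G), b.2⟩) }
  have hψ : Function.Surjective ψ := by
    rintro ⟨q, hq⟩
    obtain ⟨l, rfl⟩ := QuotientGroup.mk'_surjective P' q
    exact ⟨⟨⟨(l : G), hq⟩, l.2⟩, rfl⟩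
  let R : Sylow p N' := default
  obtain ⟨y, hyx, hfix⟩ := hmain x (R.mapSurjective hψ)
  have hfr := Sylow.normalizer_sup_eq_top R
  have hs : (⟨s, smul_sylow_of_mem hsx⟩ : Nx) ∈
      ((N' ⊔ Subgroup.normalizer ((R : Subgroup N').map N'.subtype : Set Nx) : Subgroup Nx) : Set Nx) := by
    rw [sup_comm, hfr]; trivial
  rw [Subgroup.normal_mul] at hs
  obtain ⟨k, hk, g, hg, hkg⟩ := hs
  have hgK : (g : G) ∉ K := fun h => hsK (by
    have e : s = (k : G) * (g : G) := (congrArg Subtype.val hkg).symm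
    rw [e]; exact mul_mem hk h)
  refine hgK (hout x y hyx.symm g g.2 ?_)
  have hgx : (g : G) • x = x := g.2
  have h1 : ∀ r ∈ ((R.mapSurjective hψ : Subgroup (MulAction.stabilizer (K ⧸ P') x))).map
      (MulAction.stabilizer (K ⧸ P') x).subtype, r • ((g : G) • y) = (g : G) • y := by
    rintro _ ⟨_, hr', rfl⟩
    rw [Sylow.coe_mapSurjective] at hr'
    obtain ⟨r, hr, rfl⟩ := hr'
    obtain ⟨r₁, hr₁, e₁⟩ :=
      (Subgroup.mem_normalizer_iff.1 (inv_mem hg) (r : Nx)).1 ⟨r, hr, rfl⟩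
    have h2 := (hfix y).2 (Or.inr rfl) _ (Subgroup.mem_map_of_mem _ (show ψ r₁ ∈
      ((R.mapSurjective hψ : Subgroup (MulAction.stabilizer (K ⧸ P') x))) by
        rw [Sylow.coe_mapSurjective]; exact Subgroup.mem_map_of_mem _ hr₁))
    change ((r₁ : Nx) : G) • y = y at h2
    have e' : ((r₁ : Nx) : G) = (g : G)⁻¹ * ((r : Nx) : G) * (g : G)⁻¹⁻¹ := congrArg Subtype.val e₁
    rw [e', inv_inv, mul_smul, mul_smul, inv_smul_eq_iff] at h2
    exact h2
  rcases (hfix _).1 h1 with e | e
  · exact absurd (smul_left_cancel (g : G) (e.trans hgx.symm)) hyx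
  · exact e

include hFT hO hns hC in
theorem main (N : Subgroup G) [N.Normal] (hN : Group.IsSolvable N) :
    IsCyclic N ∧ IsPGroup 2 N ∧ N ≤ Subgroup.center G := by
  haveI : Fact (Nat.Prime 2) := ⟨Nat.prime_two⟩
  have hle := le_pCore_of_solvable hFT hO hns hC N hN
  haveI := isCyclic_pCore hFT hns hC
  exact ⟨isCyclic_of_injective (Subgroup.inclusion hle) (Subgroup.inclusion_injective _),
    (Solv.pCore_isPGroup 2).to_le hle, hle.trans (pCore_le_center hFT hO hns hC)⟩

end Cfsg.Agent.Lie.CyclicCapTop
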