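import Mathlib

/-!
An elementary abelian two-group of order `2 ^ n` with an automorphism transitive on its nonzero elements
is the additive group of `GF(2 ^ n)`, the automorphism being a multiplication.
-/

set_option autoImplicit false

namespace Cfsg.Agent.Lie.CyclicField

theorem exists_coord_of {A : Type*} [AddCommGroup A] [Finite A] (n : ℕ) (hn : 1 ≤ n) (hcard : Nat.card A = 2 ^ n)
    (h2 : ∀ a : A, a + a = 0) (R : A ≃+ A)
    (htr : ∀ x y : A, x ≠ 0 → y ≠ 0 → ∃ k : ℕ, ((R : A → A)^[k]) x = y)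
    (L : Type*) [Field L] [Fintype L] (hL : Fintype.card L = 2 ^ n) :
    ∃ (κ : L ≃+ A) (ζ : L), ζ ≠ 0 ∧ (∀ a, R (κ a) = κ (ζ * a)) ∧
      ∀ l : L, l ≠ 0 → ∃ k : ℕ, ζ ^ k = l := by
  classical
  haveI : Nontrivial A := Finite.one_lt_card_iff_nontrivial.1 (by rw [hcard]; exact Nat.one_lt_two_pow (by omega))
  obtain ⟨c0, hc0⟩ := exists_ne (0 : A)
  let Re : AddMonoid.End A := R.toAddMonoidHom
  let K : Subring (AddMonoid.End A) := Subring.centralizer {Re}
  have hpow : ∀ (k : ℕ) (x : A), (Re ^ k : AddMonoid.End A) x = ((R : A → A)^[k]) x := by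
    intro k
    induction k with
    | zero => intro x; rfl
    | succ k ih => intro x; rw [pow_succ, Function.iterate_succ_apply]; exact ih (R x)
  have hK : ∀ (f : ↥K) (k : ℕ) (x : A), f.1 (((R : A → A)^[k]) x) = ((R : A → A)^[k]) (f.1 x) := by
    intro f k
    induction k with
    | zero => intro x; rfl
    | succ k ih =>
      intro x
      have h1 : f.1 (R x) = R (f.1 x) :=
        (DFunLike.congr_fun (Subring.mem_centralizer_iff.1 f.2 Re (Set.mem_singleton _)) x).symm
      rw [Function.iterate_succ_apply, Function.iterate_succ_apply, ih, h1]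
  have hext : ∀ f g : ↥K, f.1 c0 = g.1 c0 → f = g := by
    intro f g h
    refine Subtype.ext (AddMonoidHom.ext fun x => ?_)
    by_cases hx : x = 0
    · rw [hx]; exact (AddMonoidHom.map_zero f.1).trans (AddMonoidHom.map_zero g.1).symm
    · obtain ⟨k, rfl⟩ := htr c0 x hc0 hx
      show f.1 _ = g.1 _
      rw [hK, hK, h]
  have hmem : ∀ k : ℕ, (Re ^ k : AddMonoid.End A) ∈ K := fun k =>
    Subring.mem_centralizer_iff.2 fun g hg => by
      rw [Set.mem_singleton_iff.1 hg, ← pow_succ', ← pow_succ]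
  have hform : ∀ f : ↥K, f ≠ 0 → ∃ k : ℕ, f = ⟨Re ^ k, hmem k⟩ := by
    intro f hf
    have hne : f.1 c0 ≠ 0 := fun h => hf (hext f 0 h)
    obtain ⟨k, hk⟩ := htr c0 _ hc0 hne
    exact ⟨k, hext _ _ (by rw [← hk]; exact (hpow k c0).symm)⟩
  haveI : Nontrivial ↥K := ⟨⟨0, 1, fun h => hc0 (DFunLike.congr_fun (congrArg Subtype.val h) c0).symm⟩⟩
  have hcomm : ∀ f g : ↥K, f * g = g * f := by
    intro f g
    by_cases hf : f = 0
    · rw [hf, zero_mul, mul_zero]
    by_cases hg : g = 0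
    · rw [hg, zero_mul, mul_zero]
    obtain ⟨i, rfl⟩ := hform f hf
    obtain ⟨j, rfl⟩ := hform g hg
    exact Subtype.ext (by show Re ^ i * Re ^ j = Re ^ j * Re ^ i; rw [← pow_add, ← pow_add, add_comm])
  letI : CommRing ↥K := { (inferInstance : Ring ↥K) with mul_comm := hcomm }
  haveI : NoZeroDivisors ↥K := ⟨fun {f g} h => by
    by_contra hne
    rw [not_or] at hne
    obtain ⟨k, rfl⟩ := hform f hne.1
    refine hne.2 (hext g 0 ?_)
    have h1 : (Re ^ k : AddMonoid.End A) (g.1 c0) = 0 := DFunLike.congr_fun (congrArg Subtype.val h) c0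
    rw [hpow, ← iterate_map_zero R k] at h1
    exact (R.injective.iterate k) h1⟩
  haveI : IsDomain ↥K := NoZeroDivisors.to_isDomain _
  haveI : Finite (AddMonoid.End A) := Finite.of_injective (fun f : AddMonoid.End A => (f : A → A)) DFunLike.coe_injective
  letI : Field ↥K := (Finite.isDomain_to_isField ↥K).toField
  haveI : Fintype ↥K := Fintype.ofFinite _
  let ev : ↥K →+ A := AddMonoidHom.mk' (fun f => f.1 c0) fun f g => rfl
  have hev : Function.Bijective ev := by
    refine ⟨fun f g h => hext f g h, fun x => ?_⟩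
    by_cases hx : x = 0
    · exact ⟨0, hx.symm⟩
    · obtain ⟨k, rfl⟩ := htr c0 x hc0 hx
      exact ⟨⟨_, hmem k⟩, hpow k c0⟩
  have hKc : Fintype.card ↥K = Fintype.card L := by
    rw [← Nat.card_eq_fintype_card, Nat.card_congr (Equiv.ofBijective ev hev), hcard, hL]
  obtain ⟨e⟩ : Nonempty (↥K ≃+* L) := ⟨FiniteField.ringEquivOfCardEq hKc⟩
  let R1 : ↥K := ⟨Re ^ 1, hmem 1⟩
  let κ : L ≃+ A := e.symm.toAddEquiv.trans (AddEquiv.ofBijective ev hev)
  have hR1 : R1 ≠ 0 := fun h => hc0 (R.injective (by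
    rw [map_zero]
    exact (hpow 1 c0).symm.trans (DFunLike.congr_fun (congrArg Subtype.val h) c0)))
  refine ⟨κ, e R1, fun h => hR1 ((map_eq_zero e).1 h), fun a => ?_, fun l hl => ?_⟩
  · show R ((e.symm a).1 c0) = (e.symm (e R1 * a)).1 c0
    rw [map_mul, RingEquiv.symm_apply_apply]
    show _ = (Re ^ 1 : AddMonoid.End A) ((e.symm a).1 c0)
    rw [hpow]
    rfl
  · obtain ⟨k, hk⟩ := hform (e.symm l) (fun h => hl ((map_eq_zero e.symm).1 h))
    refine ⟨k, ?_⟩
    rw [← map_pow]
    refine e.symm.injective ?_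
    rw [RingEquiv.symm_apply_apply, hk]
    exact Subtype.ext (by show (Re ^ 1) ^ k = Re ^ k; rw [pow_one])

end Cfsg.Agent.Lie.CyclicField
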