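import Cfsg.Agent.Lib.Lie.Cert
import Cfsg.Prelude.Def_ChevB2

/-! Certificate for the datum of type B2. -/

set_option autoImplicit false

namespace Cfsg.Agent.Lie

/-- Packed tables of type B2. -/
def certB2 : Cert where
  n := 8
  l := 2
  maxlen := 2
  simples := [5, 4]
  R := [0x406020700050103, 0x705060304010200]
  etaBits := [0xff, 0x5a]
  A := [0x9424e93a0e, 0x845f2745f0]
  C := 0x8c651846307c20f73def
  P := 0x8000000000000000a00000000000001007fffffffffffffc0a00000000000001fe7fffffffffffff80a00000000000000fe7fffffffffffffc01fffffffffffffffe
  K := [0xe02000400400000000000000000000000000000000, 0x801b814000000000340e00100200000000011000000000000000, 0x7024018000d04000000000000070040040000000003400000000, 0x100500000000000000000000000e010000000000000, 0x401800000000000000000000003808000000, 0x11070000001c0ee060000000000000000440dc06e01, 0x341c000000803b8140011040000002009002, 0xe060004014000000]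
  wt := [33, 34]
  bezout := [[0, -1], [1, -1], [-1, 0], [0, -1], [0, 1], [1, 0], [1, 0], [0, 1]]

end Cfsg.Agent.Lie
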