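import Cfsg.Agent.Lib.Lie.Cert
import Cfsg.Prelude.Def_ChevD4

/-! Certificate for the datum of type D4. -/

set_option autoImplicit false

namespace Cfsg.Agent.Lie

/-- Packed tables of type D4. -/
def certD4 : Cert where
  n := 24
  l := 4
  maxlen := 1
  simples := [0x12, 0xe, 0xd, 0xc]
  R := [0x1711100f0e05161514130d0c0b0a04030201120908070600, 0x161715141213110d0c09100f08070e0b0a06040503020001, 0x1714131615120f0e11100a0c0b0d07060908050201040300, 0x17151613141210110e0f0d0b0c0a08090607050304010200]
  etaBits := [0x7c3e0, 0x887e11, 0x6324c6, 0x52994a]
  A := [0x846318c9ef7be10842318c5cf7bdf0, 0x8be108be118c9ef8c5cf7c22f8422f, 0x8462f7c2317be5083a317be118bdf0, 0x845f17c22f8be127422f8be117c5f0]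
  C := 0x8c6518c631846318c23184231842118c630846308c23084230846108c2107c21083e10841f07c1f083df07bdf08420f841ef7c1ef83def7bdef7bdcf
  P := 0x80000000000000402000000000100ff017fffffffffc0400060000000000ff00017fffffffffbfc0405ffffffffffffff028000000000403fffdffffffffff0100ff80000000003fc03fdfffffffffeff01ff8000000000007fc020000000001ffff007fffffffff8000401fffffffffffe01008000000000403f805ffffffffff00ff0180000000003fbfc05fffffffffeff0001800000000000003fa000000000100feff7fffffffffc03fffe0000000000feffff7fffffffffbfc03fdffffffffffffff00
  K := [0x38260110077030002008e037014004000000000000000000000000000000000000000000000, 0x7070001c16e0a000381a00a0000000002007002000000200000000000000000000000000000000, 0x807b830000000705381c00100500000020080008008000000e0000000000000000000000000000, 0x8083834000000705b8200000008028000001004000400400000070000000000000000000000000, 0x7088001c1ae0c00038240000000004014000000801c00800000000040000000000000000000000, 0x3845c20e0f70700000000000000000000000000000200900380140040000000000000000000, 0x809c0480000000000000000e0b705000201100700000000000000000001c02e000000000000000, 0x70a00020240000000001c18000000382a01200080300000000000000001c040008000000000000,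 0x70a80000010120000001c1a000000382c00100900040180000000000001c060000004000000000, 0x80b00000000008090000000e0d7060000000000804401c0000000000001c080000000001c00000, 0x4052026000000000201f00e00000000000000000001c0ee060000000000e027008000000000, 0x4054001013000000202000080700000000000000001c100007030000000e030003804000000, 0x202c00080a0000001011000403c0000000000000000e09000381c0000007020001c04000, 0x101680a8000000000808c0400000000000000000000704b8200000000003811c06000, 0x405c000000000404c0000000000001c20e0f000000000100b8050000000e050000000000e01, 0x1c2e00000040500000000000001c22000707000201800000040280000007028000001002, 0xe1700040540000000000000000e11000383a01a000000402c0000000003814001003, 0x80bc0580000000000000000000708383c00100d80600000000000000001c0ae04, 0x1c2ce1570a384c00000000000000000000000000001009804401e00c000, 0x1c2e0000000001c2ae140000001c24000000000201c000805c028001006, 0x10170000001c2c0007098000000e12000000201f00c0000002014e07, 0x80b8000000e16000384c000000709000202100d0000002016e08, 0x385c00000070ab850000000000384a022000806c030001009, 0x1c2d01580a384c001011708383e01c000]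
  wt := [8721, 9250, 4641, 4626]
  bezout := [[0, 0, 0, -1], [0, 0, 0, -1], [0, 0, -1, 0], [0, 0, 0, -1], [0, -1, 0, 0], [-1, 0, 0, 0], [0, 0, 0, -1], [0, 0, -1, 0], [0, 0, 0, -1], [0, -1, 0, 0], [0, 0, -1, 0], [0, 0, 0, -1], [0, 0, 0, 1], [0, 0, 1, 0], [0, 1, 0, 0], [0, 0, 0, 1], [0, 0, 1, 0], [0, 0, 0, 1], [1, 0, 0, 0], [0, 1, 0, 0], [0, 0, 0, 1], [0, 0, 1, 0], [0, 0, 0, 1], [0, 0, 0, 1]]

end Cfsg.Agent.Lie
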