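import Cfsg.Agent.Lib.Lie.Cert
import Cfsg.Prelude.Def_ChevG2

/-! Certificate for the datum of type G2. -/

set_option autoImplicit false

namespace Cfsg.Agent.Lie

/-- Packed tables of type G2. -/
def certG2 : Cert where
  n := 12
  l := 2
  maxlen := 3
  simples := [7, 6]
  R := [0xb060809040a010702030500, 0xa0b09070805060304020001]
  etaBits := [0x696, 0x969]
  A := [0x84e2f9366e8bdb0, 0x8be117c9d17c22f]
  C := 0x946319ca71846307c20f6bdae7bdcf
  P := 0x80000000000000401ffffffffffffff038000000000000000600000000000000ff7fffffffffffffc0a00000000000001fd7fffffffffffff80e00000000000000fe7fffffffffffffc05ffffffffffffffff800000000000003f5ffffffffffffff00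
  K := [0x38140000007018000001002000000000000000040040000000000000000000000000000000000000000000000000000000000, 0x1c0c00000000000000007020000000000000000200400000000000000008000000000000000000000000000000000000000000000000000, 0x700b811c11000801b81c00000000000024031040003001a0600000000000000000000000001201000000240000000000000000000000000000000, 0x702c01e0120000000000000c058838000000000000000180b00070140100000000000002400d02000000000000000030000000000000000000000, 0x100670440240012066840000000c0600000000000000000001c030028018000000000000300620400000030040000000000000000000, 0x201400000000000000000000000001007000000000000000000000000000000000000e03000000000000000000000000007000000000000, 0x402c00000000000000000000000002010000000000000000000000000000000000001c0800000000000000000000000000e01, 0x9050001814d09000000000100a804b8200000000000000000000000000240a000902c40dc0ae037010000000000, 0x9058000000000000482e2120000000001c16e09703800000120600000000000006033410000000000401a008e02, 0xc0b0000001814000000000000000000000018171080004829a0e0000000001c170088024029c0f003, 0x382c0000000000000000e090000000000000000401c0000000000000001005, 0x70500000000000000001c1200000040200000008030000000000]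
  wt := [33, 50]
  bezout := [[1, -1], [0, -1], [1, -1], [-1, 0], [-1, 0], [0, -1], [0, 1], [1, 0], [1, 0], [-1, 1], [0, 1], [1, 0]]

end Cfsg.Agent.Lie
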