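import Mathlib
import Cfsg.Prelude.Def_CaseTheorems
import Cfsg.Agent.Lib.Lie.Zassenhaus

/-!
Sylow subgroups in groups of degree eighteen whose point stabilisers normalise a 17-subgroup.
-/

set_option autoImplicit false

namespace Cfsg.Agent.Lie.DegreeEighteen

open MulAction
open Cfsg.Agent.Lie.Zassenhaus

universe u v

/-- Hypotheses: a faithful transitive group of degree 18, the point stabilisers normalise a subgroup of order 17. -/
structure Ctx (Q : Type u) (Ω : Type v) [Group Q] [MulAction Q Ω] : Prop where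
  card : Nat.card Ω = 18
  trans : IsPretransitive Q Ω
  stab : ∀ a : Ω, ∃ P : Subgroup Q, P ≠ ⊥ ∧ IsPGroup 17 P ∧ P ≤ stabilizer Q a ∧
    stabilizer Q a ≤ Subgroup.normalizer (P : Set Q)

variable {Q : Type u} {Ω : Type v} [Group Q] [Finite Q] [MulAction Q Ω] [FaithfulSMul Q Ω] [Finite Ω]

instance fact17 : Fact (Nat.Prime 17) := ⟨by norm_num⟩

theorem card_seventeen (C : Ctx Q Ω) {P : Subgroup Q} (hP : P ≠ ⊥) (hp : IsPGroup 17 P) :
    Nat.card P = 17 := by
  classical
  obtain ⟨k, hk⟩ := IsPGroup.iff_card.1 hp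
  haveI := Fintype.ofFinite Ω
  haveI : Nontrivial P := P.nontrivial_iff_ne_bot.2 hP
  have h1 : 1 < Nat.card P := Finite.one_lt_card
  have h2 : Nat.card P ∣ Nat.factorial 18 := by
    rw [← C.card, ← Nat.card_perm]
    exact Subgroup.card_dvd_of_injective ((MulAction.toPermHom Q Ω).comp P.subtype)
      (MulAction.toPerm_injective.comp Subtype.val_injective)
  rw [hk] at h1 h2 ⊢
  have : k = 1 := by
    rcases k with _ | _ | k
    · simp at h1
    · rfl
    · exact absurd (dvd_trans (pow_dvd_pow 17 (by omega : 2 ≤ k + 2)) h2) (by decide +kernel)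
  rw [this, pow_one]

theorem unique_fixed (C : Ctx Q Ω) {P : Subgroup Q} (hP : P ≠ ⊥) (hp : IsPGroup 17 P) :
    Nat.card (fixedPoints P Ω) = 1 := by
  classical
  have h1 : Nat.card Ω ≡ Nat.card (fixedPoints P Ω) [MOD 17] := hp.card_modEq_card_fixedPoints Ω
  have h2 : Nat.card (fixedPoints P Ω) ≤ 18 := C.card ▸ Finite.card_subtype_le _
  rw [C.card] at h1
  have h3 : Nat.card (fixedPoints P Ω) % 17 = 1 := by
    rw [← h1]
  have h4 : Nat.card (fixedPoints P Ω) = 1 ∨ Nat.card (fixedPoints P Ω) = 18 := by omega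
  refine h4.resolve_right fun h => hP ?_
  have hall : fixedPoints P Ω = Set.univ := by
    refine Set.eq_of_subset_of_ncard_le (Set.subset_univ _) ?_
    rw [Set.ncard_univ, C.card, ← Nat.card_coe_set_eq, h]
  refine (Subgroup.eq_bot_iff_forall P).2 fun g hg => eq_of_smul_eq_smul fun ω : Ω => ?_
  rw [one_smul]
  exact (hall.symm ▸ Set.mem_univ ω : ω ∈ fixedPoints P Ω) ⟨g, hg⟩

theorem orbit_rest (C : Ctx Q Ω) {P : Subgroup Q} (hP : P ≠ ⊥) (hp : IsPGroup 17 P) {a : Ω}
    (ha : P ≤ stabilizer Q a) {x y : Ω} (hx : x ≠ a) (hy : y ≠ a) : ∃ g ∈ P, g • x = y := by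
  classical
  have hfa : a ∈ fixedPoints P Ω := fun g => ha g.2
  have hsub : ∀ z, z ∈ fixedPoints P Ω → z = a := fun z hz => by
    obtain ⟨hs, -⟩ := Nat.card_eq_one_iff_unique.1 (unique_fixed C hP hp)
    exact congrArg Subtype.val (@Subsingleton.elim _ hs (⟨z, hz⟩ : fixedPoints P Ω) ⟨a, hfa⟩)
  have horb : ∀ z, z ≠ a → Nat.card (orbit P z) = 17 := fun z hz => by
    have hd : Nat.card (orbit P z) ∣ 17 := by
      rw [← card_seventeen C hP hp, Nat.card_congr (orbitEquivQuotientStabilizer P z)]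
      exact Subgroup.card_quotient_dvd_card _
    rcases (Nat.dvd_prime (by norm_num)).1 hd with h | h
    · refine absurd (hsub z fun g => ?_) hz
      obtain ⟨hs, -⟩ := Nat.card_eq_one_iff_unique.1 h
      exact congrArg Subtype.val
        (@Subsingleton.elim _ hs (⟨g • z, mem_orbit z g⟩ : orbit P z) ⟨z, mem_orbit_self z⟩)
    · exact h
  have hle : ∀ z, z ≠ a → orbit P z ⊆ {w | w ≠ a} := fun z hz w hw e => by
    obtain ⟨g, rfl⟩ := hw
    exact hz (MulAction.injective g (e.trans (hfa g).symm))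
  have heq : orbit P x = {w | w ≠ a} := by
    refine Set.eq_of_subset_of_ncard_le (hle x hx) ?_
    rw [← Nat.card_coe_set_eq (orbit P x), horb x hx]
    have : ({w | w ≠ a} : Set Ω) = Set.univ \ {a} := by ext w; simp
    rw [this, Set.ncard_sdiff (Set.subset_univ _), Set.ncard_univ, C.card, Set.ncard_singleton]
  obtain ⟨g, hg⟩ : y ∈ orbit P x := heq.symm ▸ hy
  exact ⟨g, g.2, hg⟩

theorem two_trans (C : Ctx Q Ω) : IsMultiplyPretransitive Q Ω 2 := by
  haveI := C.trans
  refine is_two_pretransitive_iff.2 fun {a b c d} hab hcd => ?_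
  obtain ⟨g, hg⟩ := exists_smul_eq Q a c
  obtain ⟨P, hP, hp, hPc, -⟩ := C.stab c
  have hgb : g • b ≠ c := fun h => hab (MulAction.injective g (hg.trans h.symm))
  obtain ⟨k, hk, hkb⟩ := orbit_rest C hP hp hPc hgb (Ne.symm hcd)
  exact ⟨k * g, by rw [mul_smul, hg]; exact hPc hk, by rw [mul_smul, hkb]⟩

theorem three_point (C : Ctx Q Ω) : ThreePoint Q Ω := by
  intro g a b c hab hbc hac ha hb hc
  obtain ⟨P, hP, hp, hPa, hPN⟩ := C.stab a
  obtain ⟨u, hu, huc⟩ := orbit_rest C hP hp hPa hab.symm hac.symm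
  have hgP := Subgroup.mem_normalizer_iff.1 (hPN ha)
  have hu1 : u ≠ 1 := fun h => hbc (by rw [← huc, h, one_smul])
  -- only the identity of `P` fixes `b`
  have hreg : ∀ k ∈ P, k • b = b → k = 1 := fun k hk hkb => by
    refine eq_of_smul_eq_smul fun ω : Ω => ?_
    rw [one_smul]
    by_cases hω : ω = a
    · rw [hω]; exact hPa hk
    obtain ⟨v, hv, rfl⟩ := orbit_rest C hP hp hPa hab.symm hω
    have hcomm : IsCyclic P := isCyclic_of_prime_card (card_seventeen C hP hp)
    letI := hcomm.commGroup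
    have e := congrArg Subtype.val (mul_comm (⟨k, hk⟩ : P) ⟨v, hv⟩)
    simp only [Subgroup.coe_mul] at e
    rw [smul_smul, e, mul_smul, hkb]
  have hgu : g * u * g⁻¹ = u := by
    have hmem : g * u * g⁻¹ ∈ P := (hgP u).1 hu
    have h1 : (g * u * g⁻¹) • b = c := by
      rw [mul_smul, mul_smul, inv_smul_eq_iff.2 hb.symm, huc, hc]
    have h2 := hreg (u⁻¹ * (g * u * g⁻¹)) (mul_mem (inv_mem hu) hmem)
      (by rw [mul_smul, h1, inv_smul_eq_iff, huc])
    exact (inv_mul_eq_one.1 h2).symm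
  refine eq_of_smul_eq_smul fun ω : Ω => ?_
  rw [one_smul]
  by_cases hω : ω = a
  · rw [hω]; exact ha
  obtain ⟨v, hv, rfl⟩ := orbit_rest C hP hp hPa hab.symm hω
  have hv' : v ∈ Subgroup.zpowers u := by
    have hz : Subgroup.zpowers (⟨u, hu⟩ : P) = ⊤ :=
      zpowers_eq_top_of_prime_card (card_seventeen C hP hp) (fun h => hu1 (congrArg Subtype.val h))
    obtain ⟨k, hk⟩ := Subgroup.mem_zpowers_iff.1 (hz ▸ Subgroup.mem_top (⟨v, hv⟩ : P))
    exact Subgroup.mem_zpowers_iff.2 ⟨k, congrArg Subtype.val hk⟩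
  obtain ⟨k, rfl⟩ := Subgroup.mem_zpowers_iff.1 hv'
  have hgk : g * u ^ k = u ^ k * g := (Commute.zpow_right (mul_inv_eq_iff_eq_mul.1 hgu) k).eq
  rw [smul_smul, hgk, mul_smul, hb]

theorem card_two_dvd (C : Ctx Q Ω) {a b : Ω} (hab : a ≠ b) :
    Nat.card ↥(stabilizer Q a ⊓ stabilizer Q b) ∣ 16 := by
  classical
  obtain ⟨P, hP, hp, hPa, hPN⟩ := C.stab a
  haveI hcyc : IsCyclic P := isCyclic_of_prime_card (card_seventeen C hP hp)
  let φ : ↥(stabilizer Q a ⊓ stabilizer Q b) →* MulAut P :=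
    (Subgroup.normalizerMonoidHom P).comp (Subgroup.inclusion (inf_le_left.trans hPN))
  have hφ : Function.Injective φ := by
    rw [injective_iff_map_eq_one]
    intro g hg
    refine Subtype.ext (eq_of_smul_eq_smul fun ω : Ω => ?_)
    show (g : Q) • ω = (1 : Q) • ω
    rw [one_smul]
    by_cases hω : ω = a
    · rw [hω]; exact g.2.1
    obtain ⟨v, hv, rfl⟩ := orbit_rest C hP hp hPa hab.symm hω
    have e : (g : Q) * v * (g : Q)⁻¹ = v := congrArg Subtype.val (DFunLike.congr_fun hg (⟨v, hv⟩ : P))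
    rw [smul_smul, mul_inv_eq_iff_eq_mul.1 e, mul_smul, g.2.2]
  have h1 := Subgroup.card_dvd_of_injective φ hφ
  rwa [IsCyclic.card_mulAut, card_seventeen C hP hp, Nat.totient_prime (by norm_num : Nat.Prime 17)] at h1

theorem card_stab (C : Ctx Q Ω) {a b : Ω} (hab : a ≠ b) :
    Nat.card (stabilizer Q a) = 17 * Nat.card ↥(stabilizer Q a ⊓ stabilizer Q b) := by
  classical
  obtain ⟨P, hP, hp, hPa, -⟩ := C.stab a
  have horb : orbit (stabilizer Q a) b = {w | w ≠ a} := by
    ext w
    constructor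
    · rintro ⟨g, rfl⟩ e
      exact hab (MulAction.injective (g : Q) (g.2.trans e.symm))
    · intro hw
      obtain ⟨k, hk, hkb⟩ := orbit_rest C hP hp hPa hab.symm hw
      exact ⟨⟨k, hPa hk⟩, hkb⟩
  have h1 : (stabilizer (stabilizer Q a) b).index = 17 := by
    rw [index_stabilizer, horb]
    have : ({w | w ≠ a} : Set Ω) = Set.univ \ {a} := by ext w; simp
    rw [this, Set.ncard_sdiff (Set.subset_univ _), Set.ncard_univ, C.card, Set.ncard_singleton]
  have h2 : Nat.card (stabilizer (stabilizer Q a) b) = Nat.card ↥(stabilizer Q a ⊓ stabilizer Q b) :=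
    Nat.card_congr
      { toFun := fun g => ⟨(g : Q), g.1.2, g.2⟩
        invFun := fun g => ⟨⟨g, g.2.1⟩, g.2.2⟩
        left_inv := fun _ => rfl
        right_inv := fun _ => rfl }
  rw [← (stabilizer (stabilizer Q a) b).card_mul_index, h1, h2, mul_comm]

theorem card_group (C : Ctx Q Ω) {a b : Ω} (hab : a ≠ b) :
    Nat.card Q = 306 * Nat.card ↥(stabilizer Q a ⊓ stabilizer Q b) := by
  haveI := C.trans
  rw [← (stabilizer Q a).card_mul_index, index_stabilizer_of_transitive, C.card, card_stab C hab]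
  ring

theorem free_three (C : Ctx Q Ω) {a : Ω} (x : Q) (hx : orderOf x = 3) : x • a ≠ a := by
  intro h
  haveI : Nontrivial Ω := Finite.one_lt_card_iff_nontrivial.1 (by rw [C.card]; norm_num)
  obtain ⟨b, hb⟩ := exists_ne a
  have h1 : 3 ∣ Nat.card (stabilizer Q a) := by
    rw [← hx, ← Subgroup.orderOf_mk x (show x ∈ stabilizer Q a from h)]
    exact orderOf_dvd_natCard _
  rw [card_stab C hb.symm] at h1
  rcases (Nat.Prime.dvd_mul (by norm_num)).1 h1 with h2 | h2
  · norm_num at h2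
  · exact absurd (h2.trans (card_two_dvd C hb.symm)) (by norm_num)

theorem centralizer_dvd (C : Ctx Q Ω) (x : Q) (hx : orderOf x = 3) :
    Nat.card (Subgroup.centralizer ({x} : Set Q)) ∣ 18 := by
  classical
  haveI := Fintype.ofFinite Ω
  have hfree : ∀ ω : Ω, stabilizer (Subgroup.centralizer ({x} : Set Q)) ω = ⊥ := fun ω => by
    refine (Subgroup.eq_bot_iff_forall _).2 fun g hg => Subtype.ext ?_
    have hc : ∀ i : ℕ, (g : Q) • x ^ i • ω = x ^ i • ω := fun i => by
      have e : Commute (g : Q) x := (Subgroup.mem_centralizer_singleton_iff.1 g.2)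
      rw [smul_smul, (e.pow_right i).eq, mul_smul, show (g : Q) • ω = ω from hg]
    have hx2 : orderOf (x ^ 2) = 3 := by
      rw [orderOf_pow' x (by norm_num), hx]
      decide
    refine three_point C (g : Q) ω (x • ω) ((x ^ 2) • ω) (free_three C x hx).symm ?_
      (free_three C _ hx2).symm hg (by simpa using hc 1) (hc 2)
    intro e
    rw [sq, mul_smul] at e
    exact free_three C x hx (MulAction.injective x e.symm)
  have h := Nat.card_congr
    ((selfEquivSigmaOrbits' (Subgroup.centralizer ({x} : Set Q)) Ω))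
  rw [C.card] at h
  haveI := Fintype.ofFinite (Quotient (orbitRel (Subgroup.centralizer ({x} : Set Q)) Ω))
  rw [h, Nat.card_sigma]
  refine Finset.dvd_sum fun q _ => ?_
  induction q using Quotient.inductionOn' with
  | h ω =>
    rw [orbitRel.Quotient.orbit_mk, Nat.card_congr (orbitEquivQuotientStabilizer _ ω), hfree ω,
      ← Subgroup.index_eq_card, Subgroup.index_bot]

theorem card_three (C : Ctx Q Ω) (R : Sylow 3 Q) : Nat.card (R : Subgroup Q) = 9 := by
  haveI : Nontrivial Ω := Finite.one_lt_card_iff_nontrivial.1 (by rw [C.card]; norm_num)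
  obtain ⟨a, b, hab⟩ := exists_pair_ne Ω
  rw [R.card_eq_multiplicity, card_group C hab]
  obtain ⟨k, hk, e⟩ := (Nat.dvd_prime_pow (by norm_num : Nat.Prime 2)).1
    (show Nat.card ↥(stabilizer Q a ⊓ stabilizer Q b) ∣ 2 ^ 4 from card_two_dvd C hab)
  rw [e]
  have h3 : (306 * 2 ^ k).factorization 3 = 2 := by
    rw [show 306 * 2 ^ k = 9 * (34 * 2 ^ k) by ring, Nat.factorization_mul (by norm_num) (by positivity)]
    simp only [Finsupp.coe_add, Pi.add_apply]
    rw [show (9 : ℕ) = 3 ^ 2 from rfl, Nat.Prime.factorization_pow (by norm_num), Finsupp.single_eq_same,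
      Nat.factorization_eq_zero_of_not_dvd]
    intro h
    rcases (Nat.Prime.dvd_mul (by norm_num)).1 h with h | h
    · norm_num at h
    · exact absurd ((Nat.prime_three).dvd_of_dvd_pow h) (by norm_num)
  rw [h3]; norm_num

theorem disjoint_three (C : Ctx Q Ω) (R R' : Sylow 3 Q) {x : Q} (hx : x ∈ (R : Subgroup Q))
    (hx' : x ∈ (R' : Subgroup Q)) (h3 : orderOf x = 3) : R = R' := by
  have hle : ∀ S : Sylow 3 Q, x ∈ (S : Subgroup Q) →
      (S : Subgroup Q) ≤ Subgroup.centralizer ({x} : Set Q) := fun S hS g hg => by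
    haveI : Fact (Nat.Prime 3) := ⟨Nat.prime_three⟩
    letI := IsPGroup.commGroupOfCardEqPrimeSq (p := 3) ((card_three C S).trans (by norm_num))
    rw [Subgroup.mem_centralizer_singleton_iff]
    exact congrArg Subtype.val (mul_comm (⟨g, hg⟩ : (S : Subgroup Q)) ⟨x, hS⟩)
  haveI : Fact (Nat.Prime 3) := ⟨Nat.prime_three⟩
  have key : ∀ S : Sylow 3 Q, x ∈ (S : Subgroup Q) →
      ((S : Subgroup Q).subgroupOf (Subgroup.centralizer ({x} : Set Q))).Normal := fun S hS => by
    have hc := centralizer_dvd C x h3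
    have hi := ((S : Subgroup Q).subgroupOf (Subgroup.centralizer ({x} : Set Q))).card_mul_index
    rw [Nat.card_congr (Subgroup.subgroupOfEquivOfLe (hle S hS)).toEquiv, card_three C S] at hi
    have h2 := Nat.le_of_dvd (by norm_num) hc
    rw [← hi] at h2
    rcases Nat.lt_or_ge ((S : Subgroup Q).subgroupOf (Subgroup.centralizer ({x} : Set Q))).index 2 with h | h
    · have := Nat.pos_of_ne_zero (Subgroup.index_ne_zero_of_finite
        (H := (S : Subgroup Q).subgroupOf (Subgroup.centralizer ({x} : Set Q))))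
      rw [Subgroup.index_eq_one.1 (show ((S : Subgroup Q).subgroupOf (Subgroup.centralizer ({x} : Set Q))).index = 1 by omega)]
      infer_instance
    · exact Subgroup.normal_of_index_eq_two (by omega)
  have hN := key R hx
  refine Sylow.ext ?_
  have hp' : IsPGroup 3 ↥((R' : Subgroup Q).subgroupOf (Subgroup.centralizer ({x} : Set Q))) :=
    R'.2.of_equiv (Subgroup.subgroupOfEquivOfLe (hle R' hx')).symm
  have hp : IsPGroup 3 ↥((R : Subgroup Q).subgroupOf (Subgroup.centralizer ({x} : Set Q))) :=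
    R.2.of_equiv (Subgroup.subgroupOfEquivOfLe (hle R hx)).symm
  have hsup := (hp.to_sup_of_normal_left hp').map (Subgroup.centralizer ({x} : Set Q)).subtype
  rw [Subgroup.map_sup, Subgroup.subgroupOf_map_subtype, Subgroup.subgroupOf_map_subtype,
    inf_eq_left.2 (hle R hx), inf_eq_left.2 (hle R' hx')] at hsup
  exact (R.3 hsup le_sup_left).symm.trans (R'.3 hsup le_sup_right)

theorem sylow_three_mod (C : Ctx Q Ω) : Nat.card (Sylow 3 Q) % 9 = 1 := by
  classical
  haveI : Fact (Nat.Prime 3) := ⟨Nat.prime_three⟩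
  obtain ⟨R⟩ : Nonempty (Sylow 3 Q) := inferInstance
  have hfree : ∀ S : Sylow 3 Q, S ≠ R → stabilizer (R : Subgroup Q) S = ⊥ := fun S hS => by
    by_contra hne
    obtain ⟨⟨g, hg⟩, hg1⟩ := (Subgroup.ne_bot_iff_exists_ne_one.1 hne)
    have hgN : (g : Q) ∈ Subgroup.normalizer ((S : Subgroup Q) : Set Q) := Sylow.smul_eq_iff_mem_normalizer.1 hg
    have hpg : IsPGroup 3 (stabilizer (R : Subgroup Q) S) := R.2.to_subgroup _
    haveI : Nontrivial (stabilizer (R : Subgroup Q) S) := ⟨⟨⟨g, hg⟩, 1, hg1⟩⟩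
    obtain ⟨k, hk, hcard⟩ := hpg.nontrivial_iff_card.1 inferInstance
    obtain ⟨y, hy⟩ := exists_prime_orderOf_dvd_card' (G := stabilizer (R : Subgroup Q) S) 3
      (hcard ▸ dvd_pow_self 3 (by omega))
    have hy3 : orderOf ((y : (R : Subgroup Q)) : Q) = 3 := by
      rw [Subgroup.orderOf_coe, Subgroup.orderOf_coe, hy]
    have hyN : ((y : (R : Subgroup Q)) : Q) ∈ Subgroup.normalizer ((S : Subgroup Q) : Set Q) :=
      Sylow.smul_eq_iff_mem_normalizer.1 y.2
    have hyS : ((y : (R : Subgroup Q)) : Q) ∈ (S : Subgroup Q) := by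
      have hp : IsPGroup 3 ↥(Subgroup.zpowers ((y : (R : Subgroup Q)) : Q)) :=
        IsPGroup.of_card (n := 1) (by rw [Nat.card_zpowers, hy3, pow_one])
      have hsup := S.2.to_sup_of_normal_left' hp (Subgroup.zpowers_le.2 hyN)
      exact S.3 hsup le_sup_left ▸ (le_sup_right : _ ≤ (S : Subgroup Q) ⊔ Subgroup.zpowers _)
        (Subgroup.mem_zpowers _)
    exact hS (disjoint_three C S R hyS (y : (R : Subgroup Q)).2 hy3)
  have h := Nat.card_congr (selfEquivSigmaOrbits' (R : Subgroup Q) (Sylow 3 Q))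
  haveI := Fintype.ofFinite (Quotient (orbitRel (R : Subgroup Q) (Sylow 3 Q)))
  rw [h, Nat.card_sigma, ← Finset.add_sum_erase _ _ (Finset.mem_univ (Quotient.mk'' R))]
  have h1 : Nat.card (orbitRel.Quotient.orbit (Quotient.mk'' R : orbitRel.Quotient (R : Subgroup Q) (Sylow 3 Q))) = 1 := by
    rw [orbitRel.Quotient.orbit_mk, Nat.card_congr (orbitEquivQuotientStabilizer _ R),
      show stabilizer (R : Subgroup Q) R = ⊤ from eq_top_iff.2 fun g _ =>
        Sylow.smul_eq_iff_mem_normalizer.2 (Subgroup.le_normalizer g.2),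
      ← Subgroup.index_eq_card, Subgroup.index_top]
  suffices hd : 9 ∣ ∑ q ∈ Finset.univ.erase (Quotient.mk'' R : Quotient (orbitRel (R : Subgroup Q) (Sylow 3 Q))),
      Nat.card (orbitRel.Quotient.orbit q) by
    rw [h1]
    obtain ⟨c, hc⟩ := hd
    rw [hc]
    omega
  refine Finset.dvd_sum fun q hq => ?_
  induction q using Quotient.inductionOn' with
  | h S =>
    have hS : S ≠ R := fun e => (Finset.mem_erase.1 hq).1 (congrArg _ e)
    rw [orbitRel.Quotient.orbit_mk, Nat.card_congr (orbitEquivQuotientStabilizer _ S), hfree S hS,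
      ← Subgroup.index_eq_card, Subgroup.index_bot, card_three C R]

end Cfsg.Agent.Lie.DegreeEighteen
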