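import Mathlib
import Cfsg.Prelude.Def_CaseTheorems
import Cfsg.Agent.Lib.Lie.DegreeEighteenLocal
import Cfsg.Agent.Lib.Lie.ZassenhausHalf
import Cfsg.Agent.Lib.Lie.SharpBasic
import Cfsg.Agent.Lib.Lie.SharpStructure
import Cfsg.Agent.Lib.Lie.SharpPGL

/-!
A transitive group of degree eighteen with few Sylow 3-subgroups is PSL(2,17) or PGL(2,17).
-/

set_option autoImplicit false

namespace Cfsg.Agent.Lie.DegreeEighteen

open MulAction
open Cfsg.Agent.Lie.Zassenhaus

universe u v

variable {Q : Type u} {Ω : Type v} [Group Q] [Finite Q] [MulAction Q Ω] [FaithfulSMul Q Ω] [Finite Ω]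

theorem seventeen_not_normal (C : Ctx Q Ω) {P : Subgroup Q} (hP : P ≠ ⊥) (hp : IsPGroup 17 P) :
    ¬ P.Normal := by
  intro hn
  haveI := C.trans
  have h1 := unique_fixed C hP hp
  obtain ⟨hs, ⟨⟨a, ha⟩⟩⟩ := Nat.card_eq_one_iff_unique.1 h1
  haveI : Nontrivial Ω := Finite.one_lt_card_iff_nontrivial.1 (by rw [C.card]; norm_num)
  obtain ⟨b, hb⟩ := exists_ne a
  obtain ⟨g, rfl⟩ := exists_smul_eq Q a b
  refine hb (congrArg Subtype.val (@Subsingleton.elim _ hs (⟨g • a, fun k => ?_⟩ : fixedPoints P Ω) ⟨a, ha⟩))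
  have hk := ha ⟨g⁻¹ * k * g, by simpa [mul_assoc] using hn.conj_mem k k.2 g⁻¹⟩
  rw [Subgroup.smul_def] at hk ⊢
  simp only [mul_smul] at hk
  exact inv_smul_eq_iff.1 hk

theorem three_not_normal (C : Ctx Q Ω) (R : Sylow 3 Q) : ¬ (R : Subgroup Q).Normal := by
  intro hn
  classical
  haveI : Nontrivial Ω := Finite.one_lt_card_iff_nontrivial.1 (by rw [C.card]; norm_num)
  obtain ⟨a, b, hab⟩ := exists_pair_ne Ω
  obtain ⟨P, hP, hp, hPa, -⟩ := C.stab a
  let φ : P →* MulAut (R : Subgroup Q) := (MulAut.conjNormal).comp P.subtype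
  letI : MulAction P (R : Subgroup Q) := MulAction.compHom _ φ
  have hfix := hp.card_modEq_card_fixedPoints (R : Subgroup Q)
  rw [card_three C R] at hfix
  have hle : Nat.card (fixedPoints P (R : Subgroup Q)) ≤ 9 := card_three C R ▸ Finite.card_subtype_le _
  have h9 : Nat.card (fixedPoints P (R : Subgroup Q)) = 9 := by
    unfold Nat.ModEq at hfix
    omega
  have hall : fixedPoints P (R : Subgroup Q) = Set.univ := by
    refine Set.eq_of_subset_of_ncard_le (Set.subset_univ _) ?_
    rw [Set.ncard_univ, card_three C R, ← Nat.card_coe_set_eq, h9]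
  haveI : Nontrivial (R : Subgroup Q) := Finite.one_lt_card_iff_nontrivial.1 (by rw [card_three C R]; norm_num)
  haveI : Fact (Nat.Prime 3) := ⟨Nat.prime_three⟩
  obtain ⟨x, hx⟩ := exists_prime_orderOf_dvd_card' (G := (R : Subgroup Q)) 3 (by rw [card_three C R]; norm_num)
  obtain ⟨hs, -⟩ := Nat.card_eq_one_iff_unique.1 (unique_fixed C hP hp)
  refine free_three C (a := a) (x : Q) (by rw [Subgroup.orderOf_coe]; exact hx) ?_
  refine congrArg Subtype.val (@Subsingleton.elim _ hs (⟨(x : Q) • a, fun k => ?_⟩ : fixedPoints P Ω)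
    ⟨a, fun k => hPa k.2⟩)
  have e : (k : Q) * (x : Q) * (k : Q)⁻¹ = x :=
    congrArg Subtype.val ((hall.symm ▸ Set.mem_univ x : x ∈ fixedPoints P (R : Subgroup Q)) k)
  show (k : Q) • (x : Q) • a = (x : Q) • a
  rw [smul_smul, mul_inv_eq_iff_eq_mul.1 e, mul_smul, show (k : Q) • a = a from hPa k.2]

theorem sylow_three (C : Ctx Q Ω) (h : Nat.card (Sylow 3 Q) ∣ 136) : Nat.card (Sylow 3 Q) = 136 := by
  classical
  haveI : Fact (Nat.Prime 3) := ⟨Nat.prime_three⟩
  have h1 := sylow_three_mod C
  have hne : Nat.card (Sylow 3 Q) ≠ 1 := fun e => by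
    obtain ⟨R⟩ : Nonempty (Sylow 3 Q) := inferInstance
    haveI : Subsingleton (Sylow 3 Q) := (Nat.card_eq_one_iff_unique.1 e).1
    exact three_not_normal C R (Sylow.normal_of_subsingleton R)
  have hmem := Nat.mem_divisors.2 ⟨h, (by norm_num : 136 ≠ 0)⟩
  rw [show Nat.divisors 136 = {1, 2, 4, 8, 17, 34, 68, 136} by decide +kernel] at hmem
  simp only [Finset.mem_insert, Finset.mem_singleton] at hmem
  omega

theorem two_card (C : Ctx Q Ω) (h : Nat.card (Sylow 3 Q) ∣ 136) {a b : Ω} (hab : a ≠ b) :
    Nat.card ↥(stabilizer Q a ⊓ stabilizer Q b) = 8 ∨ Nat.card ↥(stabilizer Q a ⊓ stabilizer Q b) = 16 := by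
  classical
  haveI : Fact (Nat.Prime 3) := ⟨Nat.prime_three⟩
  obtain ⟨R⟩ : Nonempty (Sylow 3 Q) := inferInstance
  have h3 := sylow_three C h
  have hN := (Subgroup.normalizer ((R : Subgroup Q) : Set Q)).card_mul_index
  rw [show (Subgroup.normalizer ((R : Subgroup Q) : Set Q)).index = 136 from R.card_eq_index_normalizer.symm.trans h3,
    card_group C hab] at hN
  have hd := card_two_dvd C hab
  have hmem := Nat.mem_divisors.2 ⟨hd, (by norm_num : 16 ≠ 0)⟩
  rw [show Nat.divisors 16 = {1, 2, 4, 8, 16} by decide +kernel] at hmem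
  simp only [Finset.mem_insert, Finset.mem_singleton] at hmem
  rcases hmem with e | e | e | e | e
  · omega
  · omega
  · exfalso
    -- then Burnside gives a normal complement of order 136
    have hNR : Subgroup.normalizer ((R : Subgroup Q) : Set Q) = (R : Subgroup Q) :=
      (Subgroup.eq_of_le_of_card_ge Subgroup.le_normalizer (by rw [card_three C R]; omega)).symm
    have hab' : Subgroup.normalizer ((R : Subgroup Q) : Set Q) ≤ Subgroup.centralizer ((R : Subgroup Q) : Set Q) := by
      rw [hNR]
      intro g hg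
      letI := IsPGroup.commGroupOfCardEqPrimeSq (p := 3) ((card_three C R).trans (by norm_num))
      exact Subgroup.mem_centralizer_iff.2 fun k hk =>
        congrArg Subtype.val (mul_comm (⟨k, hk⟩ : (R : Subgroup Q)) ⟨g, hg⟩)
    have hc := (MonoidHom.ker_transferSylow_isComplement' R hab').card_mul
    rw [card_three C R, card_group C hab, e] at hc
    set K := (MonoidHom.transferSylow R hab').ker with hK
    have hK136 : Nat.card K = 136 := by omega
    obtain ⟨P⟩ : Nonempty (Sylow 17 K) := inferInstance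
    have hn : Nat.card (Sylow 17 K) = 1 := by
      have h1 := card_sylow_modEq_one 17 K
      have h2 := P.card_dvd_index
      have h3 : Nat.card (P : Subgroup K) = 17 := by
        rw [P.card_eq_multiplicity, hK136, show (136 : ℕ) = 17 ^ 1 * 8 by norm_num,
          Nat.factorization_mul (by norm_num) (by norm_num)]
        simp only [Finsupp.coe_add, Pi.add_apply]
        rw [Nat.Prime.factorization_pow (by norm_num), Finsupp.single_eq_same,
          Nat.factorization_eq_zero_of_not_dvd (by norm_num : ¬ 17 ∣ 8)]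
        norm_num
      have h4 := (P : Subgroup K).card_mul_index
      rw [h3, hK136] at h4
      have h5 : Nat.card (Sylow 17 K) ≤ 8 := Nat.le_of_dvd (by norm_num) (by
        rwa [show (P : Subgroup K).index = 8 by omega] at h2)
      unfold Nat.ModEq at h1
      omega
    haveI : Subsingleton (Sylow 17 K) := (Nat.card_eq_one_iff_unique.1 hn).1
    haveI : (P : Subgroup K).Characteristic := Sylow.characteristic_of_subsingleton P
    have hne : (P : Subgroup K) ≠ ⊥ := P.ne_bot_of_dvd_card (by rw [hK136]; norm_num)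
    exact seventeen_not_normal C ((Subgroup.map_eq_bot_iff_of_injective _ K.subtype_injective).not.2 hne)
      (P.2.map K.subtype) inferInstance
  · exact Or.inl e
  · exact Or.inr e

theorem sylow_two (C : Ctx Q Ω) (h : Nat.card (Sylow 3 Q) ∣ 136) (hd : Nat.card (Sylow 2 Q) ∣ 153) :
    Nat.card (Sylow 2 Q) = 153 := by
  classical
  haveI := C.trans
  haveI : Fact (Nat.Prime 2) := ⟨Nat.prime_two⟩
  haveI : Nontrivial Ω := Finite.one_lt_card_iff_nontrivial.1 (by rw [C.card]; norm_num)
  obtain ⟨a₀, b₀, hab₀⟩ := exists_pair_ne Ω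
  have hm := two_card C h hab₀
  set D₀ := stabilizer Q a₀ ⊓ stabilizer Q b₀ with hD₀
  have hD₀p : IsPGroup 2 D₀ := by
    rcases hm with e | e
    · exact IsPGroup.of_card (n := 3) (e.trans (by norm_num))
    · exact IsPGroup.of_card (n := 4) (e.trans (by norm_num))
  obtain ⟨R, hR⟩ := hD₀p.exists_le_sylow
  have hRcard : Nat.card (R : Subgroup Q) = 2 * Nat.card D₀ := by
    rw [R.card_eq_multiplicity, card_group C hab₀]
    rcases hm with e | e <;> rw [e]
    · rw [show 306 * 8 = 2 ^ 4 * 153 by norm_num, Nat.factorization_mul (by norm_num) (by norm_num)]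
      simp only [Finsupp.coe_add, Pi.add_apply]
      rw [Nat.Prime.factorization_pow (by norm_num), Finsupp.single_eq_same,
        Nat.factorization_eq_zero_of_not_dvd (by norm_num : ¬ 2 ∣ 153)]
      norm_num
    · rw [show 306 * 16 = 2 ^ 5 * 153 by norm_num, Nat.factorization_mul (by norm_num) (by norm_num)]
      simp only [Finsupp.coe_add, Pi.add_apply]
      rw [Nat.Prime.factorization_pow (by norm_num), Finsupp.single_eq_same,
        Nat.factorization_eq_zero_of_not_dvd (by norm_num : ¬ 2 ∣ 153)]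
      norm_num
  by_contra hne
  set N := Subgroup.normalizer ((R : Subgroup Q) : Set Q) with hNdef
  have hN := N.card_mul_index
  rw [show N.index = Nat.card (Sylow 2 Q) from R.card_eq_index_normalizer.symm, card_group C hab₀] at hN
  have hyN : ∀ q : ℕ, q.Prime → q ∣ Nat.card N → ∃ y ∈ N, orderOf y = q := fun q hq hqN => by
    haveI := Fact.mk hq
    obtain ⟨y, hy⟩ := exists_prime_orderOf_dvd_card' (G := N) q hqN
    exact ⟨y, y.2, by rw [Subgroup.orderOf_coe, hy]⟩
  have hq : 3 ∣ Nat.card N ∨ 17 ∣ Nat.card N := by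
    have hmem := Nat.mem_divisors.2 ⟨hd, (by norm_num : 153 ≠ 0)⟩
    rw [show Nat.divisors 153 = {1, 3, 9, 17, 51, 153} by decide +kernel] at hmem
    simp only [Finset.mem_insert, Finset.mem_singleton] at hmem
    rcases hmem with e | e | e | e | e | e <;> rw [e] at hN <;> omega
  rcases hq with hq | hq
  · obtain ⟨y, hy, hy3⟩ := hyN 3 (by norm_num) hq
    have hyR := Subgroup.mem_normalizer_iff.1 hy
    have hpair : ∀ p : Ω, p = a₀ ∨ p = b₀ → y • p = a₀ ∨ y • p = b₀ := by
      intro p hp
      by_contra hno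
      push Not at hno
      let D₁ := D₀.map (MulAut.conj y).toMonoidHom
      have hD₁R : D₁ ≤ (R : Subgroup Q) := by
        rintro _ ⟨g, hg, rfl⟩
        exact (hyR g).1 (hR hg)
      have hlt : 1 < Nat.card (D₀ ⊓ D₁ : Subgroup Q) := by
        by_contra hh
        have h1 : (D₀ ⊓ D₁ : Subgroup Q) = ⊥ := (Subgroup.card_le_one_iff_eq_bot _).1 (by omega)
        have h2 : Nat.card D₀ * Nat.card D₁ ≤ Nat.card (R : Subgroup Q) := by
          rw [← Nat.card_prod]
          refine Nat.card_le_card_of_injective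
            (fun z : D₀ × D₁ => (⟨(z.1 : Q) * z.2, mul_mem (hR z.1.2) (hD₁R z.2.2)⟩ : (R : Subgroup Q))) ?_
          intro z w e
          exact Subgroup.mul_injective_of_disjoint (disjoint_iff.2 h1) (congrArg Subtype.val e)
        rw [hRcard, Subgroup.card_map_of_injective (MulAut.conj y).injective] at h2
        rcases hm with e | e <;> rw [e] at h2 <;> omega
      haveI := Finite.one_lt_card_iff_nontrivial.1 hlt
      obtain ⟨⟨g, hg₀, hg₁⟩, hg1⟩ := exists_ne (1 : (D₀ ⊓ D₁ : Subgroup Q))
      obtain ⟨k, hk, hkg⟩ := hg₁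
      have hgp : g • y • p = y • p := by
        rw [← hkg]
        show (y * k * y⁻¹) • y • p = y • p
        rw [mul_smul, mul_smul, inv_smul_smul]
        rcases hp with rfl | rfl
        · rw [show k • p = p from hk.1]
        · rw [show k • p = p from hk.2]
      exact hg1 (Subtype.ext (three_point C g a₀ b₀ (y • p) hab₀ (Ne.symm hno.2) (Ne.symm hno.1)
        hg₀.1 hg₀.2 hgp))
    have hy33 : y * (y * y) = 1 := by
      have := pow_orderOf_eq_one y
      rwa [hy3, pow_succ', pow_two] at this
    have h3a : y • y • y • a₀ = a₀ := by rw [smul_smul y, smul_smul, mul_assoc, hy33, one_smul]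
    rcases hpair a₀ (Or.inl rfl) with e | e
    · exact free_three C y hy3 e
    · rw [e] at h3a
      rcases hpair b₀ (Or.inr rfl) with e' | e'
      · rw [e', e] at h3a
        exact hab₀ h3a.symm
      · exact free_three C y hy3 e'
  · obtain ⟨y, hy, hy17⟩ := hyN 17 (by norm_num) hq
    have hP : IsPGroup 17 (Subgroup.zpowers y) := IsPGroup.of_card (n := 1) (by rw [Nat.card_zpowers, hy17, pow_one])
    have hP1 : Subgroup.zpowers y ≠ ⊥ := fun e => by
      rw [Subgroup.zpowers_eq_bot] at e
      rw [e, orderOf_one] at hy17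
      norm_num at hy17
    let φ : Subgroup.zpowers y →* MulAut (R : Subgroup Q) :=
      (Subgroup.normalizerMonoidHom (R : Subgroup Q)).comp (Subgroup.inclusion (Subgroup.zpowers_le.2 hy))
    letI : MulAction (Subgroup.zpowers y) (R : Subgroup Q) := MulAction.compHom _ φ
    have hfix := hP.card_modEq_card_fixedPoints (R : Subgroup Q)
    let Cy : Subgroup Q := (R : Subgroup Q) ⊓ Subgroup.centralizer (Subgroup.zpowers y : Set Q)
    have hCy : Nat.card (fixedPoints (Subgroup.zpowers y) (R : Subgroup Q)) = Nat.card Cy := Nat.card_congr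
      { toFun := fun x => ⟨(x.1 : Q), x.1.2, Subgroup.mem_centralizer_iff.2 fun g hg =>
          mul_inv_eq_iff_eq_mul.1 (congrArg Subtype.val (x.2 ⟨g, hg⟩))⟩
        invFun := fun x => ⟨⟨x.1, x.2.1⟩, fun g => Subtype.ext (mul_inv_eq_iff_eq_mul.2
          (Subgroup.mem_centralizer_iff.1 x.2.2 g g.2))⟩
        left_inv := fun _ => rfl
        right_inv := fun _ => rfl }
    rw [hCy, hRcard] at hfix
    obtain ⟨j, hj⟩ := IsPGroup.iff_card.1 (R.2.to_le (inf_le_left : Cy ≤ (R : Subgroup Q)))
    have hle : 2 ^ j ≤ 2 * Nat.card D₀ := hj ▸ hRcard ▸ Subgroup.card_le_of_le (inf_le_left : Cy ≤ (R : Subgroup Q))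
    rw [hj] at hfix
    unfold Nat.ModEq at hfix
    have hjle : j < 6 := (Nat.pow_lt_pow_iff_right (by norm_num : 1 < 2)).1 (by rcases hm with e | e <;> omega)
    have hfull : 2 ^ j = 2 * Nat.card D₀ := by
      interval_cases j <;> rcases hm with e | e <;> rw [e] at hfix hle ⊢ <;> omega
    have hCR : Cy = (R : Subgroup Q) := Subgroup.eq_of_le_of_card_ge inf_le_left (by rw [hj, hfull, hRcard])
    obtain ⟨hs, ⟨⟨a, ha⟩⟩⟩ := Nat.card_eq_one_iff_unique.1 (unique_fixed C hP1 hP)
    have hRa : (R : Subgroup Q) ≤ stabilizer Q a := fun r hr => by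
      refine congrArg Subtype.val (@Subsingleton.elim _ hs
        (⟨r • a, fun k => ?_⟩ : fixedPoints (Subgroup.zpowers y) Ω) ⟨a, ha⟩)
      show (k : Q) • r • a = r • a
      rw [smul_smul, Subgroup.mem_centralizer_iff.1 (hCR.symm ▸ hr : r ∈ Cy).2 k k.2, mul_smul,
        show (k : Q) • a = a from ha k]
    obtain ⟨b, hb⟩ := exists_ne a
    have h1 := Subgroup.card_dvd_of_le hRa
    rw [hRcard, card_stab C hb.symm] at h1
    have h2 := two_card C h hb.symm
    rcases hm with e | e <;> rcases h2 with e' | e' <;> rw [e, e'] at h1 <;> norm_num at h1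
    -- the orders of two-point stabilisers agree
    · have := card_group C hb.symm
      rw [card_group C hab₀] at this
      rw [e, e'] at this
      norm_num at this

theorem recognise (C : Ctx Q Ω) (h : Nat.card (Sylow 3 Q) ∣ 136) {F : Type*} [Field F] [Fintype F]
    (hF : Fintype.card F = 17) :
    Nonempty (Q ≃* Matrix.ProjectiveSpecialLinearGroup (Fin 2) F) ∨
      Nonempty (Q ≃* Matrix.ProjGenLinGroup (Fin 2) F) := by
  classical
  haveI := Fintype.ofFinite Ω
  haveI := C.trans
  haveI : Nontrivial Ω := Finite.one_lt_card_iff_nontrivial.1 (by rw [C.card]; norm_num)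
  obtain ⟨a, b, hab⟩ := exists_pair_ne Ω
  have hΩ : Fintype.card Ω = 18 := by rw [← Nat.card_eq_fintype_card, C.card]
  rcases two_card C h hab with e | e
  · left
    have hZ : Cfsg.IsZassenhausGroup Q Ω := by
      refine ⟨inferInstance, two_trans C, three_point C, ?_, ?_⟩
      · haveI := Finite.one_lt_card_iff_nontrivial.1 (show 1 < Nat.card ↥(stabilizer Q a ⊓ stabilizer Q b) by omega)
        obtain ⟨g, hg⟩ := exists_ne (1 : ↥(stabilizer Q a ⊓ stabilizer Q b))
        exact ⟨g, fun h' => hg (Subtype.ext h'), a, b, hab, g.2.1, g.2.2⟩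
      · intro N hNn hNt
        by_contra hno
        push Not at hno
        haveI := hNn
        haveI : Fact (Nat.Prime 3) := ⟨Nat.prime_three⟩
        have hN : Nat.card N = 18 := by
          rw [← (stabilizer N a).card_mul_index, index_stabilizer_of_transitive, C.card, hno a,
            Subgroup.card_bot, one_mul]
        obtain ⟨R⟩ : Nonempty (Sylow 3 N) := inferInstance
        have hR : Nat.card (R : Subgroup N) = 9 := by
          rw [R.card_eq_multiplicity, hN, show (18 : ℕ) = 3 ^ 2 * 2 by norm_num,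
            Nat.factorization_mul (by norm_num) (by norm_num)]
          simp only [Finsupp.coe_add, Pi.add_apply]
          rw [Nat.Prime.factorization_pow (by norm_num), Finsupp.single_eq_same,
            Nat.factorization_eq_zero_of_not_dvd (by norm_num : ¬ 3 ∣ 2)]
          norm_num
        have hi := (R : Subgroup N).card_mul_index
        rw [hR, hN] at hi
        haveI : (R : Subgroup N).Normal := Subgroup.normal_of_index_eq_two (by omega)
        haveI : (R : Subgroup N).Characteristic := Sylow.characteristic_of_normal R inferInstance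
        obtain ⟨S, hS⟩ := (R.2.map N.subtype).exists_le_sylow
        have hRS : (R : Subgroup N).map N.subtype = (S : Subgroup Q) :=
          Subgroup.eq_of_le_of_card_ge hS (by
            rw [card_three C S, Subgroup.card_map_of_injective N.subtype_injective, hR])
        exact three_not_normal C S (hRS ▸ inferInstance)
    obtain ⟨F', iF, iFF, -, hF', ⟨iso⟩⟩ := ZassenhausHalf.psl_of_half hZ hab (by rw [e]; decide) (by rw [e, hΩ])
    letI := iF
    letI := iFF
    exact ⟨iso.trans (Classical.Dickson.pslCongr (FiniteField.ringEquivOfCardEq (by rw [hF]; omega)))⟩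
  · right
    refine SharpCoords.with_coords (two_trans C) (three_point C) hab (by rw [e, hΩ]) (by omega) ?_
    intro p f hpp V _ _ _ _ ρ π t e' τ T z CC
    have h1 : p ^ f = 17 := by
      have := CC.card
      rw [CC.pf, hΩ] at this
      omega
    have hf : f = 1 := by
      rcases f with _ | _ | f
      · simp at h1
      · rfl
      · exfalso
        have hp17 : p ∣ 17 := h1 ▸ dvd_pow_self p (by omega)
        rcases (Nat.dvd_prime (by norm_num)).1 hp17 with rfl | rfl
        · simp at h1
        · have : (17 : ℕ) ^ 2 ≤ 17 ^ (f + 2) := Nat.pow_le_pow_right (by norm_num) (by omega)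
          omega
    obtain ⟨F', iF, iFF, hF', ⟨iso⟩⟩ := SharpPGL.pgl_of_comm (two_trans C) hab CC
      (SharpStructure.comm_odd_exponent CC (by rw [hf]; exact odd_one))
    letI := iF
    letI := iFF
    exact ⟨iso.trans (Classical.Dickson.pglCongr (FiniteField.ringEquivOfCardEq (by rw [hF', h1, hF])))⟩

end Cfsg.Agent.Lie.DegreeEighteen
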