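import Mathlib
import Cfsg.Agent.S0700

/-!
# Doubly transitive groups of degree twice an odd number
-/

set_option autoImplicit false

namespace Cfsg.Agent.Lie

open MulAction

/-- A group with order not divisible by four has an odd normal subgroup of index at most two. -/
theorem exists_odd_index_le_two {X : Type*} [Group X] [Finite X] (h4 : ¬ 4 ∣ Nat.card X) :
    ∃ N : Subgroup X, N.Normal ∧ ¬ 2 ∣ Nat.card N ∧ N.index ≤ 2 ∧ ∀ x : X, ¬ 2 ∣ orderOf x → x ∈ N := by
  haveI : Fact (Nat.Prime 2) := ⟨Nat.prime_two⟩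
  by_cases h2 : 2 ∣ Nat.card X
  swap
  · exact ⟨⊤, inferInstance, by rwa [Subgroup.card_top], by simp, fun x _ => Subgroup.mem_top x⟩
  obtain ⟨S⟩ : Nonempty (Sylow 2 X) := inferInstance
  have hS : Nat.card (S : Subgroup X) = 2 := by
    obtain ⟨k, hk⟩ := IsPGroup.iff_card.1 S.2
    rcases k with _ | _ | k
    · exfalso
      have := S.dvd_card_of_dvd_card h2
      rw [hk] at this
      norm_num at this
    · exact hk
    · exfalso
      refine h4 (dvd_trans ?_ (hk ▸ Subgroup.card_subgroup_dvd_card (S : Subgroup X)))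
      exact ⟨2 ^ k, by rw [pow_succ, pow_succ]; ring⟩
  have hc : IsCyclic (S : Subgroup X) := isCyclic_of_prime_card hS
  have hN := IsCyclic.normalizer_le_centralizer (P := S) ((Nat.minFac_eq_two_iff _).2 h2) hc
  set N := (MonoidHom.transferSylow S hN).ker with hNdef
  have hcomp : N.IsComplement' (S : Subgroup X) := MonoidHom.ker_transferSylow_isComplement' S hN
  have hodd : ¬ 2 ∣ Nat.card N := fun h => h4 (by
    have := hcomp.card_mul
    rw [hS] at this
    rw [← this]
    exact Nat.mul_dvd_mul h (dvd_refl 2))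
  have hidx : N.index = 2 := by rw [hcomp.symm.index_eq_card, hS]
  refine ⟨N, inferInstance, hodd, hidx.le, fun x hx => ?_⟩
  have h1 : x ^ 2 ∈ N := hidx ▸ Subgroup.pow_index_mem N x
  obtain ⟨k, hk⟩ := exists_pow_eq_self_of_coprime (Nat.prime_two.coprime_iff_not_dvd.2 hx)
  rw [← hk]
  exact pow_mem h1 k

section

variable {G : Type*} [Group G] [Finite G] {Ω : Type*} [Fintype Ω] [MulAction G Ω]

/-- A transitive normal subgroup of a two-transitive group of degree `2·odd` is two-transitive when the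
quotient of its point stabiliser by a Sylow two-subgroup gives no regular normal subgroup. -/
theorem normal_two_transitive (h2 : IsMultiplyPretransitive G Ω 2) (hn : Fintype.card Ω % 4 = 2)
    (M : Subgroup G) [hMn : M.Normal] (htr : IsPretransitive M Ω) : IsMultiplyPretransitive M Ω 2 := by
  classical
  haveI : Fact (Nat.Prime 2) := ⟨Nat.prime_two⟩
  haveI := htr
  have h2' := @is_two_pretransitive_iff G Ω _ _
  obtain ⟨a⟩ : Nonempty Ω := Fintype.card_pos_iff.1 (by omega)
  set H := stabilizer M a with hH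
  obtain ⟨T₀⟩ : Nonempty (Sylow 2 H) := inferInstance
  set T : Subgroup M := (T₀ : Subgroup H).map H.subtype with hT
  have hTH : T ≤ H := Subgroup.map_subtype_le _
  have hT2 : IsPGroup 2 T := T₀.2.map _
  have hTcard : Nat.card T = Nat.card (T₀ : Subgroup H) := Subgroup.card_map_of_injective H.subtype_injective
  set F : Set Ω := {b | ∀ t ∈ T, t • b = b} with hF
  have haF : a ∈ F := fun t ht => hTH ht
  have hidxH : H.index = Fintype.card Ω := by rw [hH, index_stabilizer_of_transitive, Nat.card_eq_fintype_card]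
  -- Sylow conjugacy inside a subgroup of the point stabiliser
  have hconj : ∀ (K : Subgroup M), K ≤ H → ∀ U V : Subgroup M, U ≤ K → V ≤ K → IsPGroup 2 U → IsPGroup 2 V →
      Nat.card U = Nat.card T → Nat.card V = Nat.card T → ∃ k ∈ K, ∀ u ∈ U, k * u * k⁻¹ ∈ V := by
    intro K hK U V hUK hVK hU hV hUc hVc
    have hmax : ∀ W : Subgroup M, IsPGroup 2 W → W ≤ K → Nat.card W ≤ Nat.card T := by
      intro W hW hWK
      obtain ⟨Q, hQ⟩ := (hW.comap_subtype (K := H)).exists_le_sylow
      have e : Nat.card (W.subgroupOf H) = Nat.card W :=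
        Nat.card_congr (Subgroup.subgroupOfEquivOfLe (hWK.trans hK)).toEquiv
      rw [hTcard, ← e, T₀.card_eq_multiplicity, ← Q.card_eq_multiplicity]
      exact Subgroup.card_le_of_le hQ
    obtain ⟨P, hP⟩ := (hU.comap_subtype (K := K)).exists_le_sylow
    obtain ⟨Q, hQ⟩ := (hV.comap_subtype (K := K)).exists_le_sylow
    have hQeq : (Q : Subgroup K).map K.subtype = V := by
      have hle : V ≤ (Q : Subgroup K).map K.subtype := fun v hv =>
        ⟨⟨v, hVK hv⟩, hQ (Subgroup.mem_subgroupOf.2 hv), rfl⟩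
      refine (Subgroup.eq_of_le_of_card_ge hle ?_).symm
      rw [hVc]
      exact hmax _ (Q.2.map _) (Subgroup.map_subtype_le _)
    obtain ⟨k, hk⟩ := MulAction.exists_smul_eq K P Q
    refine ⟨(k : M), k.2, fun u hu => ?_⟩
    have hm : k * ⟨u, hUK hu⟩ * k⁻¹ ∈ (Q : Subgroup K) := by rw [← hk]; exact ⟨_, hP hu, rfl⟩
    rw [← hQeq]
    exact ⟨_, hm, rfl⟩
  -- conjugation inside `M` by elements of `G`
  let cj : G → (M →* M) := fun g => (MulAut.conjNormal g : M ≃* M).toMonoidHom
  have hcj : ∀ g (x : M) (w : Ω), (cj g x) • (g • w) = g • (x • w) := by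
    intro g x w
    show ((MulAut.conjNormal g x : M) : G) • (g • w) = g • ((x : G) • w)
    rw [MulAut.conjNormal_apply, mul_smul, mul_smul, inv_smul_smul]
  -- the normaliser of `T` in `G`
  let Y : Set G := {g | ∀ t ∈ T, cj g t ∈ T}
  have hTinj : ∀ g ∈ Y, ∀ t ∈ T, ∃ s ∈ T, cj g s = t := by
    intro g hg t ht
    have hle : T.map (cj g) ≤ T := by rintro _ ⟨s, hs, rfl⟩; exact hg s hs
    have he := Subgroup.eq_of_le_of_card_ge hle (Subgroup.card_map_of_injective (MulAut.conjNormal g).injective).ge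
    rw [← he] at ht
    exact ht
  have hYF : ∀ g ∈ Y, ∀ w ∈ F, g • w ∈ F := by
    intro g hg w hw t ht
    obtain ⟨s, hs, rfl⟩ := hTinj g hg t ht
    rw [hcj, hw s hs]
  -- transitive on the other fixed points
  have hYa : ∀ b ∈ F, ∀ c ∈ F, b ≠ a → c ≠ a → ∃ g ∈ Y, g • a = a ∧ g • b = c := by
    intro b hb c hc hba hca
    obtain ⟨g, ga, gb⟩ := h2'.1 h2 (Ne.symm hba) (Ne.symm hca)
    set K : Subgroup M := stabilizer M a ⊓ stabilizer M c
    have hU : T.map (cj g) ≤ K := by
      rintro _ ⟨t, ht, rfl⟩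
      constructor
      · show cj g t • a = a
        calc cj g t • a = cj g t • (g • a) := by rw [ga]
          _ = a := by rw [hcj, show t • a = a from hTH ht, ga]
      · show cj g t • c = c
        calc cj g t • c = cj g t • (g • b) := by rw [gb]
          _ = c := by rw [hcj, hb t ht, gb]
    have hV : T ≤ K := fun t ht => ⟨hTH ht, hc t ht⟩
    obtain ⟨k, hk, hk'⟩ := hconj K inf_le_left _ T hU hV (hT2.map _) hT2
      (Subgroup.card_map_of_injective (MulAut.conjNormal g).injective) rfl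
    refine ⟨(k : G) * g, fun t ht => ?_, ?_, ?_⟩
    · have e : cj ((k : G) * g) t = k * cj g t * k⁻¹ := Subtype.ext (by
        show ((MulAut.conjNormal ((k : G) * g) t : M) : G) = (k : G) * (MulAut.conjNormal g t : M) * (k : G)⁻¹
        rw [MulAut.conjNormal_apply, MulAut.conjNormal_apply]; group)
      rw [e]
      exact hk' _ ⟨t, ht, rfl⟩
    · rw [mul_smul, ga]; exact hk.1
    · rw [mul_smul, gb]; exact hk.2
  -- `N_M(T)`
  set X := Subgroup.normalizer ((T : Subgroup M) : Set M) with hXdef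
  have hXF : ∀ x ∈ X, ∀ w ∈ F, x • w ∈ F := by
    intro x hx w hw t ht
    have hs : x⁻¹ * t * x ∈ T := (Subgroup.mem_normalizer_iff''.1 hx t).1 ht
    calc t • x • w = x • ((x⁻¹ * t * x) • w) := by rw [← mul_smul, ← mul_smul]; congr 1; group
      _ = x • w := by rw [hw _ hs]
  have hXtr : ∀ b ∈ F, ∃ x ∈ X, x • a = b := by
    intro b hb
    obtain ⟨x₀, hx₀⟩ := exists_smul_eq M a b
    have hU : T.map (MulAut.conj x₀⁻¹).toMonoidHom ≤ H := by
      rintro _ ⟨t, ht, rfl⟩
      show (x₀⁻¹ * t * x₀⁻¹⁻¹) • a = a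
      rw [inv_inv, mul_smul, mul_smul, hx₀, hb t ht, inv_smul_eq_iff, hx₀]
    obtain ⟨k, hk, hk'⟩ := hconj H le_rfl T _ hTH hU hT2 (hT2.map _) rfl
      (Subgroup.card_map_of_injective (MulAut.conj x₀⁻¹).injective)
    have hmem : ∀ t ∈ T, (x₀ * k) * t * (x₀ * k)⁻¹ ∈ T := by
      intro t ht
      obtain ⟨s, hs, he⟩ := hk' t ht
      have e : (x₀ * k) * t * (x₀ * k)⁻¹ = x₀ * (k * t * k⁻¹) * x₀⁻¹ := by group
      rw [e, ← he]
      simpa [mul_assoc] using hs
    refine ⟨x₀ * k, ?_, by rw [mul_smul, show k • a = a from hk, hx₀]⟩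
    rw [hXdef, Subgroup.mem_normalizer_iff]
    intro t
    refine ⟨hmem t, fun ht => ?_⟩
    have hle : T.map (MulAut.conj (x₀ * k)).toMonoidHom ≤ T := by rintro _ ⟨s, hs, rfl⟩; exact hmem s hs
    have he := Subgroup.eq_of_le_of_card_ge hle (Subgroup.card_map_of_injective (MulAut.conj (x₀ * k)).injective).ge
    rw [← he] at ht
    obtain ⟨s, hs, hse⟩ := ht
    simp only [MulEquiv.coe_toMonoidHom, MulAut.conj_apply] at hse
    rw [← mul_left_cancel (mul_right_cancel hse)]
    exact hs
  -- the action on the fixed points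
  letI : MulAction X F :=
    { smul := fun x w => ⟨(x : M) • (w : Ω), hXF x x.2 w w.2⟩
      one_smul := fun w => Subtype.ext (one_smul M (w : Ω))
      mul_smul := fun x y w => Subtype.ext (mul_smul (x : M) (y : M) (w : Ω)) }
  set ρ := toPermHom X F with hρ
  have h4 : ¬ 4 ∣ Nat.card ρ.range := by
    intro h
    have hk : (T.subgroupOf X) ≤ ρ.ker := fun t ht =>
      MonoidHom.mem_ker.2 (Equiv.ext fun w => Subtype.ext (w.2 _ (Subgroup.mem_subgroupOf.1 ht)))
    have hd : Nat.card ρ.range ∣ T.index := by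
      rw [← Subgroup.index_ker]
      refine (Subgroup.index_dvd_of_le hk).trans ?_
      exact Subgroup.relIndex_dvd_index_of_le (Subgroup.le_normalizer)
    have e := Subgroup.relIndex_mul_index hTH
    have hne : ¬ 2 ∣ T.relIndex H := by
      rw [Subgroup.relIndex, hT, Subgroup.subgroupOf, Subgroup.comap_map_eq_self_of_injective H.subtype_injective]
      exact Sylow.not_dvd_index T₀
    rw [← e, hidxH] at hd
    obtain ⟨j, hj⟩ := h.trans hd
    rcases Nat.even_or_odd (T.relIndex H) with h' | h'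
    · exact hne h'.two_dvd
    · obtain ⟨i, hi⟩ := h'
      obtain ⟨l, hl⟩ : ∃ l, Fintype.card Ω = 4 * l + 2 := ⟨Fintype.card Ω / 4, by omega⟩
      rw [hi, hl] at hj
      have : 2 * ((2 * i + 1) * (2 * l + 1)) = 4 * j := by rw [← hj]; ring
      have hodd : (2 * i + 1) * (2 * l + 1) % 2 = 1 := by
        rw [Nat.mul_mod]; simp
      omega
  obtain ⟨N, hNn, hNodd, hNidx, hNmem⟩ := exists_odd_index_le_two h4
  haveI : Fintype F := Fintype.ofFinite _
  have hFmod : Nat.card F % 2 = 0 := by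
    have h := hT2.card_modEq_card_fixedPoints Ω
    have he : fixedPoints T Ω = F := Set.ext fun w => ⟨fun h t ht => h ⟨t, ht⟩, fun h t => h t t.2⟩
    rw [he, Nat.card_eq_fintype_card (α := Ω)] at h
    unfold Nat.ModEq at h
    omega
  -- the odd part fixes everything
  have hNfix : ∀ r ∈ N, ∀ w : F, (r : Equiv.Perm F) w = w := by
    set O : Set F := Set.range fun r : N => (((r : ρ.range) : Equiv.Perm F)) ⟨a, haF⟩ with hO
    have hOdvd : Nat.card O ∣ Nat.card N := by
      have e : orbit N (⟨a, haF⟩ : F) = O := rfl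
      rw [← e, Nat.card_congr (orbitEquivQuotientStabilizer N (⟨a, haF⟩ : F))]
      exact ⟨_, Subgroup.card_eq_card_quotient_mul_card_subgroup _⟩
    -- conjugating the elements of `N`
    have hYN : ∀ g (hgY : g ∈ Y), g • a = a → ∀ r ∈ N, ∃ r' ∈ N, ∀ w : F,
        ((r' : Equiv.Perm F) ⟨g • (w : Ω), hYF g hgY w w.2⟩ : F) = ⟨g • (((r : Equiv.Perm F) w : F) : Ω),
          hYF g hgY _ ((r : Equiv.Perm F) w).2⟩ := by
      intro g hg _ r hr
      obtain ⟨x, hx⟩ := r.2
      obtain ⟨x₁, hx₁⟩ : ∃ x₁ : X, ρ x₁ = (r : Equiv.Perm F) ∧ ¬ 2 ∣ orderOf x₁ := by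
        obtain ⟨y, hy⟩ : ∃ y : X, ρ y = (r : Equiv.Perm F) := ⟨x, hx⟩
        have hro : ¬ 2 ∣ orderOf (r : Equiv.Perm F) := fun h => hNodd (h.trans (by
          rw [Subgroup.orderOf_coe, ← Subgroup.orderOf_mk r hr]; exact orderOf_dvd_natCard _))
        set o := orderOf y with ho
        obtain ⟨e, m, hm, hom⟩ := Nat.exists_eq_two_pow_mul_odd (orderOf_pos y).ne'
        obtain ⟨k, hk⟩ := exists_pow_eq_self_of_coprime (x := (r : Equiv.Perm F)) (n := 2 ^ e)
          (Nat.Coprime.pow_left _ (Nat.prime_two.coprime_iff_not_dvd.2 hro))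
        refine ⟨(y ^ 2 ^ e) ^ k, by rw [map_pow, map_pow, hy, hk], fun h => ?_⟩
        have h1 : orderOf ((y ^ 2 ^ e) ^ k) ∣ m := by
          refine (orderOf_pow_dvd k).trans (orderOf_dvd_of_pow_eq_one ?_)
          rw [← pow_mul, ← hom, pow_orderOf_eq_one]
        exact Nat.not_even_iff_odd.2 hm (even_iff_two_dvd.2 (h.trans h1))
      obtain ⟨hρx, hox⟩ := hx₁
      have hx2 : cj g (x₁ : M) ∈ X := by
        refine Subgroup.mem_normalizer_iff.2 ?_
        intro t
        constructor
        · intro ht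
          obtain ⟨s, hs, rfl⟩ := hTinj g hg t ht
          rw [← map_inv, ← map_mul, ← map_mul]
          exact hg _ ((Subgroup.mem_normalizer_iff.1 x₁.2 s).1 hs)
        · intro ht
          obtain ⟨s, hs, he⟩ := hTinj g hg _ ht
          have hs' := (Subgroup.mem_normalizer_iff''.1 x₁.2 s).1 hs
          have hfin := hg _ hs'
          rw [map_mul, map_mul, map_inv, he] at hfin
          convert hfin using 1
          group
      have hox2 : ¬ 2 ∣ orderOf (⟨_, hx2⟩ : X) := by
        rw [Subgroup.orderOf_mk]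
        show ¬ 2 ∣ orderOf ((MulAut.conjNormal g : M ≃* M) (x₁ : M))
        rwa [MulEquiv.orderOf_eq, Subgroup.orderOf_coe]
      refine ⟨⟨ρ ⟨_, hx2⟩, ⟨⟨_, hx2⟩, rfl⟩⟩, hNmem _ fun h => hox2 (h.trans ?_), fun w => Subtype.ext ?_⟩
      · exact orderOf_map_dvd ρ.rangeRestrict (⟨_, hx2⟩ : X)
      · rw [← hρx]
        show cj g (x₁ : M) • (g • (w : Ω)) = g • ((x₁ : M) • (w : Ω))
        exact hcj g _ _
    have hOsub : ∀ w ∈ O, (w : Ω) = a := by
      intro w hw
      by_contra hne
      have hall : ∀ c : F, (c : Ω) ≠ a → c ∈ O := by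
        intro c hc
        obtain ⟨g, hg, ga, gw⟩ := hYa w w.2 c c.2 hne hc
        obtain ⟨⟨r, hr⟩, rfl⟩ := hw
        obtain ⟨r', hr', he⟩ := hYN g hg ga r hr
        refine ⟨⟨r', hr'⟩, ?_⟩
        have := he ⟨a, haF⟩
        simp only [ga] at this
        show (r' : Equiv.Perm F) ⟨a, haF⟩ = c
        refine Subtype.ext ?_
        rw [this]
        exact gw
      have hOeq : O = Set.univ := by
        refine Set.eq_univ_of_forall fun c => ?_
        by_cases hc : (c : Ω) = a
        · exact ⟨1, Subtype.ext hc.symm⟩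
        · exact hall c hc
      rw [hOeq, Nat.card_congr (Equiv.Set.univ F)] at hOdvd
      exact hNodd (dvd_trans (Nat.dvd_of_mod_eq_zero hFmod) hOdvd)
    intro r hr w
    obtain ⟨x, hx, hxa⟩ := hXtr w w.2
    set s : ρ.range := ⟨ρ ⟨x, hx⟩, ⟨⟨x, hx⟩, rfl⟩⟩ with hs
    have hmem : s⁻¹ * r * s ∈ N := by simpa using hNn.conj_mem r hr s⁻¹
    have h1 : ((s⁻¹ * r * s : ρ.range) : Equiv.Perm F) ⟨a, haF⟩ = ⟨a, haF⟩ :=
      Subtype.ext (hOsub _ ⟨⟨_, hmem⟩, rfl⟩)
    have hsa : (s : Equiv.Perm F) ⟨a, haF⟩ = w := Subtype.ext hxa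
    simp only [Subgroup.coe_mul, InvMemClass.coe_inv, Equiv.Perm.mul_apply, hsa] at h1
    rw [Equiv.Perm.inv_eq_iff_eq] at h1
    rw [h1, hsa]
  -- so exactly two fixed points
  have hle : Nat.card F ≤ 2 := by
    let Φ : ρ.range ⧸ N → F := Quotient.lift (fun r : ρ.range => ((r : Equiv.Perm F)) ⟨a, haF⟩) (fun r s h => by
      replace h := QuotientGroup.leftRel_apply.1 h
      have := hNfix _ h ⟨a, haF⟩
      simp only [Subgroup.coe_mul, InvMemClass.coe_inv, Equiv.Perm.mul_apply] at this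
      rw [Equiv.Perm.inv_eq_iff_eq] at this
      exact this.symm)
    have hsurj : Function.Surjective Φ := fun w => by
      obtain ⟨x, hx, hxa⟩ := hXtr w w.2
      exact ⟨QuotientGroup.mk ⟨ρ ⟨x, hx⟩, ⟨⟨x, hx⟩, rfl⟩⟩, Subtype.ext hxa⟩
    exact (Nat.card_le_card_of_surjective Φ hsurj).trans (by rw [← Subgroup.index_eq_card]; exact hNidx)
  -- every suborbit has odd length
  have hd : ∀ b : Ω, b ≠ a → ∀ c : Ω, c ≠ a → Nat.card (orbit H b) = Nat.card (orbit H c) := by
    intro b hb c hc
    obtain ⟨g, ga, gb⟩ := h2'.1 h2 (Ne.symm hb) (Ne.symm hc)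
    have hmap : ∀ h : M, h ∈ H → cj g h ∈ H := fun h hh => by
      show cj g h • a = a
      calc cj g h • a = cj g h • (g • a) := by rw [ga]
        _ = a := by rw [hcj, show h • a = a from hh, ga]
    have hmap' : ∀ h : M, cj g h ∈ H → h ∈ H := fun h hh => by
      show h • a = a
      refine smul_left_cancel g ?_
      rw [← hcj, ga]
      exact hh
    refine Nat.card_congr ((Equiv.subtypeEquiv (MulAction.toPerm g) fun w => ?_))
    constructor
    · rintro ⟨⟨h, hh⟩, rfl⟩
      exact ⟨⟨cj g h, hmap h hh⟩, by show cj g h • c = g • (h • b); rw [← gb, hcj]⟩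
    · rintro ⟨⟨h, hh⟩, he⟩
      obtain ⟨h', rfl⟩ := (MulAut.conjNormal g : M ≃* M).surjective h
      refine ⟨⟨h', hmap' h' hh⟩, smul_left_cancel g ?_⟩
      show g • (h' • b) = g • w
      rw [← hcj, gb]
      exact he
  have hodd : ∀ b : Ω, b ≠ a → ¬ 2 ∣ Nat.card (orbit H b) := by
    intro b hb h2d
    have hdiv : 2 ∣ (Finset.univ.erase a).card := by
      rw [Finset.card_eq_sum_card_image (fun c : Ω => (orbit H c).toFinset) (Finset.univ.erase a)]
      refine Finset.dvd_sum fun O hO => ?_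
      obtain ⟨c, hc, rfl⟩ := Finset.mem_image.1 hO
      have hca := Finset.ne_of_mem_erase hc
      have hset : (Finset.univ.erase a).filter (fun x => (orbit H x).toFinset = (orbit H c).toFinset) =
          (orbit H c).toFinset := by
        ext x
        rw [Finset.mem_filter, Finset.mem_erase, Set.toFinset_inj, orbit_eq_iff, Set.mem_toFinset]
        refine ⟨fun h => h.2, fun hx => ⟨⟨?_, Finset.mem_univ _⟩, hx⟩⟩
        intro e
        obtain ⟨h, hh⟩ := hx
        refine hca ((smul_left_cancel (h : M) ?_))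
        exact (hh.trans e).trans (h.2 : (h : M) • a = a).symm
      rw [hset, Set.toFinset_card, ← Nat.card_eq_fintype_card, ← hd b hb c hca]
      exact h2d
    rw [Finset.card_erase_of_mem (Finset.mem_univ a), Finset.card_univ] at hdiv
    omega
  -- each suborbit meets the fixed points
  have hmeet : ∀ b : Ω, b ≠ a → ∃ h : M, h ∈ H ∧ h • b ∈ F ∧ h • b ≠ a := by
    intro b hb
    haveI : Fintype (orbit H b) := Fintype.ofFinite _
    have h1 : ¬ 2 ∣ Nat.card (orbit H b) := hodd b hb
    obtain ⟨w, hw⟩ := (T₀.2).nonempty_fixed_point_of_prime_not_dvd_card (orbit H b) h1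
    obtain ⟨h, hh⟩ := w.2
    refine ⟨h, h.2, ?_, fun e => hb (smul_left_cancel (h : M) (e.trans (h.2 : (h : M) • a = a).symm))⟩
    intro t ht
    obtain ⟨t₀, ht₀, rfl⟩ := ht
    have := congrArg Subtype.val (hw ⟨t₀, ht₀⟩)
    show (t₀ : M) • ((h : M) • b) = (h : M) • b
    have hh' : (h : M) • b = (w : Ω) := hh
    rw [hh']
    exact this
  have hHtr : ∀ b c : Ω, b ≠ a → c ≠ a → ∃ h ∈ H, h • b = c := by
    intro b c hb hc
    obtain ⟨h, hh, hbF, hba⟩ := hmeet b hb
    obtain ⟨k, hk, hcF, hca⟩ := hmeet c hc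
    have he : h • b = k • c := by
      by_contra hne
      have h3 : ({a, h • b, k • c} : Set Ω) ⊆ F := by
        rintro w (rfl | rfl | rfl)
        exacts [haF, hbF, hcF]
      have h4' := Set.ncard_le_ncard h3 (Set.toFinite _)
      rw [Set.ncard_insert_of_notMem (by
        rintro (e | e)
        · exact hba e.symm
        · exact hca e.symm), Set.ncard_pair hne, ← Nat.card_coe_set_eq] at h4'
      omega
    exact ⟨k⁻¹ * h, mul_mem (inv_mem hk) hh, by rw [mul_smul, he, inv_smul_smul]⟩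
  rw [is_two_pretransitive_iff]
  intro x y u v hxy huv
  obtain ⟨p, hp⟩ := exists_smul_eq M x a
  obtain ⟨r, hr⟩ := exists_smul_eq M u a
  obtain ⟨h, hh, he⟩ := hHtr (p • y) (r • v) (fun e => hxy (smul_left_cancel p (hp.trans e.symm)))
    (fun e => huv (smul_left_cancel r (hr.trans e.symm)))
  refine ⟨r⁻¹ * h * p, ?_, ?_⟩
  · rw [mul_smul, mul_smul, hp, show h • a = a from hh, inv_smul_eq_iff, hr]
  · rw [mul_smul, mul_smul, he, inv_smul_smul]

/-- **Degree twice an odd number.** -/
theorem socle_two_mod_four [FaithfulSMul G Ω] (h2 : IsMultiplyPretransitive G Ω 2)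
    (hn : Fintype.card Ω % 4 = 2) (hn2 : 2 < Fintype.card Ω) :
    ∃ M : Subgroup G, M.Normal ∧ M ≠ ⊥ ∧ (∀ N : Subgroup G, N.Normal → N ≠ ⊥ → M ≤ N) ∧
      IsSimpleGroup M ∧ IsMultiplyPretransitive M Ω 2 ∧ Subgroup.centralizer (M : Set G) = ⊥ := by
  classical
  let φ := toPermHom G Ω
  have hφ : Function.Injective φ := toPerm_injective
  let e : G ≃* φ.range := MonoidHom.ofInjective hφ
  haveI : Nontrivial G := by
    obtain ⟨a, b, hab⟩ := Fintype.exists_pair_of_one_lt_card (by omega : 1 < Fintype.card Ω)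
    obtain ⟨g, hg, -⟩ := (is_two_pretransitive_iff (G := G) (α := Ω)).1 h2 hab hab.symm
    exact ⟨g, 1, fun h => hab (by rw [← hg, h, one_smul])⟩
  obtain ⟨M, hMmin, hM⟩ : ∃ M : Subgroup G, (M.Normal ∧ M ≠ ⊥) ∧
      ∀ K : Subgroup G, K.Normal → K ≤ M → K = ⊥ ∨ K = M := by
    obtain ⟨M, hM, hmin⟩ := Set.Finite.exists_minimal
      (Set.toFinite {K : Subgroup G | K.Normal ∧ K ≠ ⊥}) ⟨⊤, inferInstance, top_ne_bot⟩
    refine ⟨M, hM, fun K hK hle => ?_⟩
    by_cases hb : K = ⊥
    · exact Or.inl hb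
    · exact Or.inr (le_antisymm hle (hmin ⟨hK, hb⟩ hle))
  obtain ⟨hMn, hMne⟩ := hMmin
  haveI := hMn
  set N : Subgroup φ.range := M.map e.toMonoidHom with hN
  haveI : N.Normal := hMn.map _ e.surjective
  have hsm : ∀ (g : G) (w : Ω), (e g : Equiv.Perm Ω) w = g • w := fun _ _ => rfl
  have h2r : IsMultiplyPretransitive φ.range Ω 2 := by
    rw [is_two_pretransitive_iff]
    intro a b c d hab hcd
    obtain ⟨g, h1, h1'⟩ := (is_two_pretransitive_iff (G := G) (α := Ω)).1 h2 hab hcd
    exact ⟨e g, h1, h1'⟩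
  have hNne : N ≠ ⊥ := fun h => hMne ((Subgroup.map_eq_bot_iff_of_injective _ e.injective).1 h)
  have hNmin : ∀ K : Subgroup φ.range, K.Normal → K ≤ N → K = ⊥ ∨ K = N := by
    intro K hK hle
    have hK' : (K.comap e.toMonoidHom).Normal := hK.comap _
    have hle' : K.comap e.toMonoidHom ≤ M := fun g hg => by
      obtain ⟨m, hm, he⟩ := hle hg
      exact e.injective he ▸ hm
    have hKe : K = (K.comap e.toMonoidHom).map e.toMonoidHom :=
      (Subgroup.map_comap_eq_self_of_surjective e.surjective K).symm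
    rcases hM _ hK' hle' with h | h
    · left; rw [hKe, h, Subgroup.map_bot]
    · right; rw [hKe, h]
  let eM : M ≃* N := M.equivMapOfInjective e.toMonoidHom e.injective
  have heM : ∀ (m : M) (w : Ω), eM m • w = m • w := fun _ _ => rfl
  rcases Cfsg.Agent.S0700.result φ.range h2r N hNne hNmin with ⟨hab, ⟨p, hp, hexp⟩, hreg⟩ | ⟨hs, hprim⟩
  · exfalso
    haveI : Fact p.Prime := ⟨hp⟩
    have hpg : IsPGroup p N := fun x => ⟨1, Subtype.ext (by simpa using hexp x x.2)⟩
    obtain ⟨k, hk⟩ := IsPGroup.iff_card.1 hpg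
    -- `M` is transitive: an orbit is a block
    obtain ⟨m, hm, hm1⟩ : ∃ m ∈ M, m ≠ 1 := by
      by_contra h
      push Not at h
      exact hMne ((Subgroup.eq_bot_iff_forall M).2 h)
    obtain ⟨a, ha⟩ : ∃ a : Ω, m • a ≠ a := by
      by_contra h
      push Not at h
      exact hm1 (FaithfulSMul.eq_of_smul_eq_smul (α := Ω) fun w => by rw [h w, one_smul])
    have horb : ∀ b : Ω, ∃ n ∈ M, n • a = b := by
      intro b
      by_cases hb : b = a
      · exact ⟨1, one_mem M, by rw [hb, one_smul]⟩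
      obtain ⟨g, ga, gb⟩ := (is_two_pretransitive_iff (G := G) (α := Ω)).1 h2 (Ne.symm ha) (Ne.symm hb)
      refine ⟨g * m * g⁻¹, hMn.conj_mem m hm g, ?_⟩
      rw [mul_smul, mul_smul, inv_smul_eq_iff.2 ga.symm, gb]
    haveI : IsPretransitive N Ω := ⟨fun x y => by
      obtain ⟨n, hn, hn'⟩ := horb x
      obtain ⟨l, hl, hl'⟩ := horb y
      refine ⟨eM ⟨l * n⁻¹, mul_mem hl (inv_mem hn)⟩, ?_⟩
      rw [heM]
      show (l * n⁻¹) • x = y
      rw [mul_smul, inv_smul_eq_iff.2 hn'.symm, hl']⟩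
    have hc := index_stabilizer_of_transitive (G := N) a
    rw [hreg a, Subgroup.index_bot, hk, Nat.card_eq_fintype_card] at hc
    rw [← hc] at hn hn2
    rcases Nat.lt_or_ge k 2 with h | h
    · rcases k with _ | _ | k
      · simp at hn2
      · rw [pow_one] at hn hn2
        rcases hp.eq_two_or_odd with h' | h' <;> omega
      · omega
    · obtain ⟨j, rfl⟩ := Nat.exists_eq_add_of_le h
      rcases hp.eq_two_or_odd with h' | h'
      · subst h'; rw [pow_add] at hn; omega
      · have := Nat.pow_mod p (2 + j) 2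
        rw [h', one_pow] at this
        omega
  · haveI : IsSimpleGroup M := eM.isSimpleGroup_congr.2 hs
    haveI hMtr : IsPretransitive M Ω := ⟨fun x y => by
      obtain ⟨n, hn⟩ := hprim.toIsPretransitive.exists_smul_eq x y
      exact ⟨eM.symm n, by rw [← heM, MulEquiv.apply_symm_apply, hn]⟩⟩
    have hC : Subgroup.centralizer (M : Set G) = ⊥ := by
      set C := Subgroup.centralizer (M : Set G) with hCdef
      haveI : C.Normal := Subgroup.normal_centralizer
      by_contra hCne
      obtain ⟨c, hc, hc1⟩ : ∃ c ∈ C, c ≠ 1 := by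
        by_contra h
        push Not at h
        exact hCne ((Subgroup.eq_bot_iff_forall C).2 h)
      obtain ⟨a, ha⟩ : ∃ a : Ω, c • a ≠ a := by
        by_contra h
        push Not at h
        exact hc1 (FaithfulSMul.eq_of_smul_eq_smul (α := Ω) fun w => by rw [h w, one_smul])
      -- point stabilisers in `M` are trivial
      have hfree : stabilizer M a = ⊥ := by
        rw [Subgroup.eq_bot_iff_forall]
        intro m hm
        refine Subtype.ext (FaithfulSMul.eq_of_smul_eq_smul (α := Ω) fun w => ?_)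
        obtain ⟨c', hc', rfl⟩ : ∃ c' ∈ C, c' • a = w := by
          by_cases hw : w = a
          · exact ⟨1, one_mem C, by rw [hw, one_smul]⟩
          obtain ⟨g, ga, gb⟩ := (is_two_pretransitive_iff (G := G) (α := Ω)).1 h2 (Ne.symm ha) (Ne.symm hw)
          exact ⟨g * c * g⁻¹, Subgroup.Normal.conj_mem inferInstance c hc g,
            by rw [mul_smul, mul_smul, inv_smul_eq_iff.2 ga.symm, gb]⟩
        have e := Subgroup.mem_centralizer_iff.1 hc' (m : G) m.2
        rw [OneMemClass.coe_one, one_smul, ← mul_smul, e, mul_smul, show (m : G) • a = a from hm]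
      have hcardM : Nat.card M = Fintype.card Ω := by
        rw [← Subgroup.index_bot, ← hfree, index_stabilizer_of_transitive, Nat.card_eq_fintype_card]
      haveI : Nontrivial Ω := Fintype.one_lt_card_iff_nontrivial.1 (by omega)
      have hcoat : IsCoatom (stabilizer N a) := IsPreprimitive.isCoatom_stabilizer_of_isPreprimitive N a
      have hfreeN : stabilizer N a = ⊥ := by
        rw [Subgroup.eq_bot_iff_forall]
        intro x hx
        obtain ⟨m, rfl⟩ := eM.surjective x
        have : m ∈ stabilizer M a := by rw [mem_stabilizer_iff, ← heM]; exact hx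
        rw [hfree, Subgroup.mem_bot] at this
        rw [this, map_one]
      rw [hfreeN] at hcoat
      haveI : Nontrivial M := IsSimpleGroup.toNontrivial
      obtain ⟨x, hx⟩ := exists_ne (1 : M)
      have htop : Subgroup.zpowers (eM x) = ⊤ := (hcoat.2 _ (bot_lt_iff_ne_bot.2 fun h => hx (eM.injective (by
        rw [Subgroup.zpowers_eq_bot.1 h, map_one]))))
      have hcy : IsCyclic M := ⟨x, fun y => by
        obtain ⟨i, hi⟩ := Subgroup.mem_zpowers_iff.1 (htop ▸ Subgroup.mem_top (eM y) : eM y ∈ Subgroup.zpowers (eM x))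
        exact ⟨i, eM.injective (by rw [← hi, map_zpow])⟩⟩
      have hpr : (Nat.card M).Prime := by
        letI := hcy.commGroup
        exact IsSimpleGroup.prime_card
      rw [hcardM] at hpr
      rcases hpr.eq_two_or_odd with h' | h' <;> omega
    refine ⟨M, hMn, hMne, fun K hK hKne => ?_, inferInstance, normal_two_transitive h2 hn M hMtr, hC⟩
    haveI := hK
    rcases hM (M ⊓ K) inferInstance inf_le_left with h | h
    · exfalso
      refine hKne (le_bot_iff.1 ?_)
      rw [← hC]
      intro k hk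
      refine Subgroup.mem_centralizer_iff.2 fun m hm => ?_
      exact Subgroup.commute_of_normal_of_disjoint M K hMn hK (disjoint_iff.2 h) m k hm hk
    · exact h ▸ inf_le_right

end

end Cfsg.Agent.Lie
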