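import Mathlib
import Cfsg.Agent.Lib.Perm.DerangementRank

/-!
The index of the subgroup generated by the derangements.
-/

set_option autoImplicit false
set_option linter.style.haveILetI false
set_option linter.unusedSectionVars false

namespace Cfsg.Agent.Lie.DerangementIndex

open MulAction

variable {G Ω : Type*} [Group G] [Finite G] [MulAction G Ω] [Finite Ω]

/-- The subgroup generated by derangements. -/
abbrev D (G Ω : Type*) [Group G] [MulAction G Ω] : Subgroup G :=
  Subgroup.closure {g : G | ∀ ω : Ω, g • ω ≠ ω}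

instance normal_D : (D G Ω).Normal := by
  refine ⟨fun n hn g => ?_⟩
  induction hn using Subgroup.closure_induction with
  | mem x hx =>
    refine Subgroup.subset_closure fun ω hω => hx (g⁻¹ • ω) ?_
    rw [mul_smul, mul_smul] at hω
    exact eq_inv_smul_iff.2 hω
  | one => simp
  | mul x y _ _ hx hy =>
    rw [show g * (x * y) * g⁻¹ = (g * x * g⁻¹) * (g * y * g⁻¹) by group]
    exact mul_mem hx hy
  | inv x _ hx =>
    rw [show g * x⁻¹ * g⁻¹ = (g * x * g⁻¹)⁻¹ by group]
    exact inv_mem hx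

theorem relIndex_stabilizer (htr : IsPretransitive G Ω) (α : Ω) :
    ((D G Ω).subgroupOf (stabilizer G α)).index = (D G Ω).index := by
  haveI := htr
  haveI : IsPretransitive (D G Ω) Ω := (Perm.DerangementRank.derangement_counts htr).1
  have hsup : stabilizer G α ⊔ D G Ω = ⊤ := by
    rw [eq_top_iff]
    intro g _
    obtain ⟨d, hd⟩ := MulAction.exists_smul_eq (D G Ω) (g • α) α
    rw [show g = ((d⁻¹ : D G Ω) : G) * ((d : G) * g) by simp]
    refine mul_mem (Subgroup.mem_sup_right (d⁻¹ : D G Ω).2) (Subgroup.mem_sup_left ?_)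
    rw [mem_stabilizer_iff, mul_smul]
    exact hd
  show (D G Ω).relIndex (stabilizer G α) = _
  rw [← Subgroup.relIndex_sup_right (stabilizer G α) (D G Ω), hsup, Subgroup.relIndex_top_right]

theorem two_point_le (htr : IsPretransitive G Ω) {α β : Ω} (h : β ≠ α) (g : G)
    (ha : g • α = α) (hb : g • β = β) : g ∈ D G Ω := by
  refine (Perm.DerangementRank.derangement_counts htr).2.1 g fun h1 => h ?_
  haveI := (Nat.card_eq_one_iff_unique.1 h1).1
  exact congrArg Subtype.val (Subsingleton.elim (⟨β, hb⟩ : fixedBy Ω g) ⟨α, ha⟩)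

theorem index_dvd_card (htr : IsPretransitive G Ω) (α : Ω) (S : Set Ω) (hα : α ∉ S)
    (hinv : ∀ g : G, g • α = α → ∀ β ∈ S, g • β ∈ S) : (D G Ω).index ∣ Nat.card S := by
  let K := stabilizer G α
  let X : SubMulAction K Ω := { carrier := S, smul_mem' := fun g β hβ => hinv (g : G) g.2 β hβ }
  have hcard : Nat.card S = Nat.card X := rfl
  haveI := Fintype.ofFinite (orbitRel.Quotient K X)
  rw [hcard, Nat.card_congr (selfEquivSigmaOrbits K X), Nat.card_sigma]
  refine Finset.dvd_sum fun q _ => ?_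
  rw [← relIndex_stabilizer htr α, show Nat.card (orbit K q.out) = (stabilizer K q.out).index from
    (index_stabilizer K q.out).symm]
  refine Subgroup.index_dvd_of_le fun g hg => ?_
  rw [Subgroup.mem_subgroupOf]
  refine two_point_le htr (α := α) (β := (q.out : Ω)) (fun h => hα ?_) g g.2 ?_
  · exact h ▸ q.out.2
  · exact congrArg Subtype.val hg

theorem index_dvd (htr : IsPretransitive G Ω) (hΩ : 2 ≤ Nat.card Ω) :
    (D G Ω).index ∣ Nat.card Ω - 1 := by
  haveI : Nonempty Ω := (Nat.card_pos_iff.1 (by omega)).1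
  obtain ⟨α⟩ := (inferInstance : Nonempty Ω)
  have h := index_dvd_card htr α {α}ᶜ (fun h => h rfl) fun g hg β hβ h => hβ <| by
    rw [Set.mem_singleton_iff] at h ⊢
    exact MulAction.injective g (h.trans hg.symm)
  rwa [Nat.card_coe_set_eq, Set.ncard_compl, Set.ncard_singleton] at h

theorem isPrimePow_of_index_eq [FaithfulSMul G Ω] (htr : IsPretransitive G Ω) (hΩ : 2 ≤ Nat.card Ω)
    (heq : (D G Ω).index = Nat.card Ω - 1) : IsPrimePow (Nat.card Ω) := by
  haveI := htr
  haveI hDt : IsPretransitive (D G Ω) Ω := (Perm.DerangementRank.derangement_counts htr).1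
  haveI : Nonempty Ω := (Nat.card_pos_iff.1 (by omega)).1
  obtain ⟨α⟩ := (inferInstance : Nonempty Ω)
  let K := stabilizer G α
  have key : ∀ β : Ω, β ≠ α → (∀ d ∈ D G Ω, d • α = α → d • β = β) ∧
      ∀ γ : Ω, γ ≠ α → ∃ g : G, g • α = α ∧ g • β = γ := by
    intro β hβ
    have hle : stabilizer K β ≤ (D G Ω).subgroupOf K := fun g hg =>
      two_point_le htr hβ g g.2 hg
    have hsub : orbit K β ⊆ ({α}ᶜ : Set Ω) := by
      rintro _ ⟨g, rfl⟩ h
      exact hβ (MulAction.injective (g : G) (h.trans (g.2 : (g : G) • α = α).symm))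
    have hpos : 0 < (stabilizer K β).index := Nat.pos_of_ne_zero Subgroup.index_ne_zero_of_finite
    have h1 := Nat.le_of_dvd hpos (Subgroup.index_dvd_of_le hle)
    rw [relIndex_stabilizer htr α, heq] at h1
    have h2 : (stabilizer K β).index ≤ Nat.card Ω - 1 := by
      rw [index_stabilizer]
      refine (Set.ncard_le_ncard hsub).trans ?_
      rw [Set.ncard_compl, Set.ncard_singleton]
    have h3 : (stabilizer K β).index = ((D G Ω).subgroupOf K).index := by
      rw [relIndex_stabilizer htr α, heq]; omega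
    refine ⟨fun d hd hdα => ?_, fun γ hγ => ?_⟩
    · have h5 := Subgroup.relIndex_mul_index hle
      have h6 : (stabilizer K β).relIndex ((D G Ω).subgroupOf K) = 1 := by
        rw [← h3] at h5
        exact (Nat.mul_eq_right hpos.ne').1 h5
      exact Subgroup.relIndex_eq_one.1 h6 (show (⟨d, hdα⟩ : K) ∈ (D G Ω).subgroupOf K from hd)
    · have h7 : orbit K β = ({α}ᶜ : Set Ω) := Set.eq_of_subset_of_ncard_le hsub (by
        rw [Set.ncard_compl, Set.ncard_singleton, ← index_stabilizer, h3, relIndex_stabilizer htr α, heq])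
      obtain ⟨g, hg⟩ := h7.ge (show γ ∈ ({α}ᶜ : Set Ω) from hγ)
      exact ⟨g, g.2, hg⟩
  have hreg : ∀ d ∈ D G Ω, d • α = α → d = 1 := fun d hd hdα => eq_of_smul_eq_smul fun ω : Ω => by
    rw [one_smul]
    rcases eq_or_ne ω α with rfl | hω
    · exact hdα
    · exact (key ω hω).1 d hd hdα
  have hcard : Nat.card (D G Ω) = Nat.card Ω := by
    refine Nat.card_congr (Equiv.ofBijective (fun d : D G Ω => (d : G) • α) ⟨fun a b hab => ?_, fun ω => ?_⟩)
    · have := hreg _ (mul_mem (inv_mem b.2) a.2) (by rw [mul_smul]; exact inv_smul_eq_iff.2 hab)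
      exact Subtype.ext (inv_mul_eq_one.1 this).symm
    · exact MulAction.exists_smul_eq (D G Ω) α ω
  set p := (Nat.card (D G Ω)).minFac with hp
  have hpp : p.Prime := Nat.minFac_prime (by omega)
  haveI := Fact.mk hpp
  obtain ⟨⟨e, he⟩, heo⟩ := exists_prime_orderOf_dvd_card' p (Nat.minFac_dvd (Nat.card (D G Ω)))
  rw [Subgroup.orderOf_mk] at heo
  have he1 : e ≠ 1 := fun h => by
    rw [h, orderOf_one] at heo
    exact hpp.one_lt.ne heo
  have hpG : IsPGroup p (D G Ω) := by
    rintro ⟨d, hd⟩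
    refine ⟨1, Subtype.ext ?_⟩
    rw [pow_one, Subgroup.coe_pow, Subgroup.coe_one]
    rcases eq_or_ne d 1 with rfl | hd1
    · exact one_pow p
    obtain ⟨g, hg, hge⟩ := (key (d • α) fun h => hd1 (hreg d hd h)).2 (e • α) fun h => he1 (hreg e he h)
    have hc : g * d * g⁻¹ = e := by
      have h8 := hreg _ (mul_mem (inv_mem he) (normal_D.conj_mem d hd g)) (by
        rw [mul_smul, mul_smul, mul_smul, inv_smul_eq_iff, inv_smul_eq_iff.2 hg.symm, hge])
      exact (inv_mul_eq_one.1 h8).symm
    have h9 : g * d ^ p * g⁻¹ = 1 := by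
      rw [← conj_pow, hc, ← heo, pow_orderOf_eq_one]
    simpa [mul_inv_eq_one] using h9
  obtain ⟨k, hk⟩ := hpG.exists_card_eq
  rw [hcard] at hk
  refine (isPrimePow_nat_iff _).2 ⟨p, k, hpp, Nat.pos_of_ne_zero ?_, hk.symm⟩
  rintro rfl
  rw [pow_zero] at hk
  omega

end Cfsg.Agent.Lie.DerangementIndex
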