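import Cfsg.Agent.Lib.Lie.LiftCerts

/-! Checks of the certificates. -/

set_option autoImplicit false
set_option linter.style.longLine false
set_option maxHeartbeats 1000000
set_option maxRecDepth 100000

namespace Cfsg.Agent.Lie

open Cfsg.Lie

theorem okZeroE6 : okZeroBase chevE6 [] [] zeroCertE6 = true := by decide +kernel
theorem okShapeE6 : okShapeBase chevE6 = true := by decide +kernel
theorem okAgreeE6 : okAgreeBase chevE6 agreeCertE6 = true := by decide +kernel

end Cfsg.Agent.Lie
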