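import Cfsg.Agent.Lib.Lie.LiftCerts

/-! Checks of the certificates. -/

set_option autoImplicit false
set_option linter.style.longLine false
set_option maxHeartbeats 1000000
set_option maxRecDepth 100000

namespace Cfsg.Agent.Lie

open Cfsg.Lie

theorem okZeroE7 : okZeroBase chevE7 [] [] zeroCertE7 = true := by decide +kernel
theorem okShapeE7 : okShapeBase chevE7 = true := by decide +kernel
theorem okAgreeE7 : okAgreeBase chevE7 agreeCertE7 = true := by decide +kernel

end Cfsg.Agent.Lie
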