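import Cfsg.Agent.Lib.Lie.LiftCerts

/-! Checks of the certificates. -/

set_option autoImplicit false
set_option linter.style.longLine false
set_option maxHeartbeats 1000000
set_option maxRecDepth 100000

namespace Cfsg.Agent.Lie

open Cfsg.Lie

theorem okZeroE8 : okZeroBase chevE8 [] [] zeroCertE8 = true := by decide +kernel
theorem okShapeE8 : okShapeBase chevE8 = true := by decide +kernel
theorem okAgreeE8 : okAgreeBase chevE8 agreeCertE8 = true := by decide +kernel

end Cfsg.Agent.Lie
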