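import Cfsg.Agent.Lib.Lie.LiftCertSmall
import Cfsg.Agent.Lib.Lie.LiftCertE6
import Cfsg.Agent.Lib.Lie.LiftCertE7
import Cfsg.Agent.Lib.Lie.LiftCertE8

/-!
Every central extension of a Chevalley group contains lifts of the root elements with additivity and the
commutator formula.
-/

set_option autoImplicit false
set_option linter.unusedSectionVars false

namespace Cfsg.Agent.Lie

open Cfsg.Lie
open Cfsg.Agent.Small.SchurLifts

variable {D : ChevalleyDatum} {F : Type*} [Field F]

/-- Lifts of the root elements satisfying additivity and the commutator formula. -/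
def HasLift (hF : Facts D) {Γ : Type*} [Group Γ] (C : Central Γ ↥(D.group F)) : Prop :=
  ∃ S : CommSys hF F Γ, ∀ r t, C.π (S.x r t) = hF.xq r t

theorem all_dom {P : ℕ → Bool} {r : ℕ} (hr : r < D.nroots) (hdom : DomRoot D r)
    (h : ((List.range D.nroots).all fun r =>
      !(List.range D.rank).all (fun i => decide (D.reflectRoot i r ≤ r)) || P r) = true) : P r = true := by
  simp only [List.all_eq_true, List.mem_range, Bool.or_eq_true, Bool.not_eq_true'] at h
  refine (h r hr).resolve_left fun h' => ?_
  rw [List.all_eq_false] at h'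
  obtain ⟨i, hi, hle⟩ := h'
  exact hle (decide_eq_true (hdom i (List.mem_range.1 hi)))

theorem all_stab {r s : ℕ} (hstab : StabMax D r s) :
    ((List.range D.rank).all fun i => D.reflectRoot i r != r || decide (D.reflectRoot i s ≤ s)) = true := by
  simp only [List.all_eq_true, List.mem_range, Bool.or_eq_true, bne_iff_ne, decide_eq_true_eq]
  exact fun i hi => (Classical.em (D.reflectRoot i r = r)).elim (fun h => Or.inr (hstab i hi h)) Or.inl

namespace Facts

variable (hF : Facts D) {Γ : Type*} [Group Γ] {C : Central Γ ↥(D.group F)}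

theorem zp_of_base {J skip : List ℕ} (hJ : ∀ j ∈ J, ∃ k : Fˣ, k ^ j ≠ 1)
    {cert : List ((ℕ × ℕ) × (List ℤ × (ℕ × ℕ) × List (ℕ × List ℤ)))}
    (hc : okZeroBase D J skip cert = true) (hskip : ∀ r ∈ skip, r < D.nroots → hF.Zp C r r) :
    ∀ r s, r < D.nroots → s < D.nroots → s ≠ D.neg r →
      (s = r ∨ D.commTerms r s = []) → hF.Zp C r s := by
  refine hF.zp_all fun r hr hdom s hs h2 h0 => ?_
  have h := all_dom hr hdom hc
  simp only [List.all_eq_true, List.mem_range, Bool.or_eq_true, beq_iff_eq, Bool.not_eq_true',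
    Bool.or_eq_false_iff, Bool.and_eq_true, List.contains_iff_mem, List.any_eq_true] at h
  rcases h s hs with ((h' | h') | h') | ⟨q, -, -, hq⟩
  · exact absurd h' h2
  · exfalso
    rcases h0 with e | ⟨e, hst⟩
    · exact (beq_eq_false_iff_ne.1 h'.1) e
    · rw [e] at h'
      simp only [List.isEmpty_nil, Bool.true_and] at h'
      rw [all_stab hst] at h'
      exact absurd h'.2 (by decide)
  · exact h'.1 ▸ hskip r h'.2 hr
  · exact hF.zp_of_okZero hJ hr hs h2 (h0.imp id And.left) hq

theorem hasLift_torus {J skip : List ℕ} (hJ : ∀ j ∈ J, ∃ k : Fˣ, k ^ j ≠ 1)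
    {zc : List ((ℕ × ℕ) × (List ℤ × (ℕ × ℕ) × List (ℕ × List ℤ)))} (hz : okZeroBase D J skip zc = true)
    {pc : List ((ℕ × ℕ) × (List ℕ × List ℕ × List ℤ))} (hp : okPairBase D J pc = true)
    {rc : List (ℕ × List ℤ)} (hr : okRegBase D J rc = true)
    (hskip : ∀ r ∈ skip, r < D.nroots → hF.Zp C r r) : HasLift hF C := by
  have h : hF.TorHyp C :=
    { reg := hF.reg_all hJ fun r hr' hdom => by
        have h := all_dom hr' hdom hr
        simp only [List.any_eq_true, Bool.and_eq_true, decide_eq_true_eq] at h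
        obtain ⟨q, -, -, hq⟩ := h
        exact ⟨_, hq⟩
      zero := hF.zp_of_base hJ hz hskip }
  have hcomm := hF.r2T_all (hF.yLift h) J hJ h.zero pc fun r hr' hdom s hs h1 h2 hstab hne => by
    have h := all_dom hr' hdom hp
    simp only [List.all_eq_true, List.mem_range, Bool.or_eq_true, beq_iff_eq, Bool.not_eq_true',
      List.isEmpty_iff] at h
    rcases h s hs with (((h' | h') | h') | h') | h'
    · exact absurd h' h1
    · exact absurd h' h2
    · exact absurd ((all_stab hstab).symm.trans h') (by decide)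
    · exact absurd h' hne
    · exact h'
  exact ⟨{ x := hF.yT h
           x_out := fun r t hr' => dif_neg (not_lt.2 hr')
           x_add := hF.yT_add h
           x_comm := fun r s hr' hs h1 h2 => hcomm r s hr' hs h1 h2 }, hF.π_yT h⟩

theorem simplyHyp_of_base {J : List ℕ} (hJ : ∀ j ∈ J, ∃ k : Fˣ, k ^ j ≠ 1)
    {zc : List ((ℕ × ℕ) × (List ℤ × (ℕ × ℕ) × List (ℕ × List ℤ)))} (hz : okZeroBase D J [] zc = true)
    (hs : okShapeBase D = true) : SimplyHyp hF C where
  zero := hF.zp_of_base hJ hz (fun r hr => absurd hr List.not_mem_nil)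
  shape := hF.shape_all fun r hr hdom s hs' h1 h2 hstab => by
    have h := all_dom hr hdom hs
    simp only [List.all_eq_true, List.mem_range, Bool.or_eq_true, beq_iff_eq, Bool.not_eq_true'] at h
    rcases h s hs' with ((h' | h') | h') | h'
    · exact absurd h' h1
    · exact absurd h' h2
    · exact absurd ((all_stab hstab).symm.trans h') (by decide)
    · exact h'

theorem allAgree_of_base (h : SimplyHyp hF C) {cert : List (ℕ × (ℕ × ℕ) × List (ℕ × ℕ × ℕ × ℕ × ℕ))}
    (hc : okAgreeBase D cert = true) : ∀ k, k < D.nroots → hF.AllAgree C k :=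
  hF.allAgree h cert fun _ hk hdom => all_dom hk hdom hc

theorem hasLift_simply (h : SimplyHyp hF C) {cert : List (ℕ × (ℕ × ℕ) × List (ℕ × ℕ × ℕ × ℕ × ℕ))}
    (hc : okAgreeBase D cert = true) : HasLift hF C := by
  have ha := hF.allAgree_of_base h hc
  exact ⟨{ x := hF.yS ha
           x_out := fun r t hr => dif_neg (not_lt.2 hr)
           x_add := hF.yS_add ha h
           x_comm := fun r s hr hs h1 h2 => hF.yS_comm ha h hr hs h1 h2 }, hF.π_yS ha h⟩

end Facts

theorem exists_pow_ne_one {s : Finset F} {j : ℕ} (hj : 0 < j) (hs : j + 1 < s.card) :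
    ∃ k : Fˣ, k ^ j ≠ 1 := by
  classical
  by_contra hc
  simp only [not_exists, not_not] at hc
  have hsub : s.erase 0 ⊆ (Polynomial.nthRoots j (1 : F)).toFinset := by
    intro x hx
    rw [Finset.mem_erase] at hx
    rw [Multiset.mem_toFinset, Polynomial.mem_nthRoots hj]
    have := congrArg Units.val (hc (Units.mk0 x hx.1))
    simpa using this
  have h1 := Finset.card_le_card hsub
  have h2 := (Polynomial.nthRoots j (1 : F)).toFinset_card_le
  have h3 := Polynomial.card_nthRoots j (1 : F)
  have h4 := Finset.pred_card_le_card_erase (a := (0 : F)) (s := s)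
  omega

variable {Γ : Type*} [Group Γ]

theorem hasLift_E6 (hF : Facts chevE6) (C : Central Γ ↥(chevE6.group F)) : HasLift hF C :=
  hF.hasLift_simply (hF.simplyHyp_of_base (fun _ h => absurd h List.not_mem_nil) okZeroE6 okShapeE6) okAgreeE6

theorem hasLift_E7 (hF : Facts chevE7) (C : Central Γ ↥(chevE7.group F)) : HasLift hF C :=
  hF.hasLift_simply (hF.simplyHyp_of_base (fun _ h => absurd h List.not_mem_nil) okZeroE7 okShapeE7) okAgreeE7

theorem hasLift_E8 (hF : Facts chevE8) (C : Central Γ ↥(chevE8.group F)) : HasLift hF C :=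
  hF.hasLift_simply (hF.simplyHyp_of_base (fun _ h => absurd h List.not_mem_nil) okZeroE8 okShapeE8) okAgreeE8

theorem hasLift_F4 (hF : Facts chevF4) (hK : ∃ s : Finset F, 2 < s.card)
    (C : Central Γ ↥(chevF4.group F)) : HasLift hF C := by
  obtain ⟨s, hs⟩ := hK
  refine hF.hasLift_torus (fun j hj => ?_) okZeroF4 okPairF4 okRegF4 (fun r hr => absurd hr List.not_mem_nil)
  rw [List.mem_singleton] at hj
  subst hj
  exact exists_pow_ne_one one_pos hs

theorem hasLift_D4 (hF : Facts chevD4) (hK : ∃ s : Finset F, 3 < s.card)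
    (C : Central Γ ↥(chevD4.group F)) : HasLift hF C := by
  obtain ⟨s, hs⟩ := hK
  refine hF.hasLift_simply (hF.simplyHyp_of_base (J := [1, 2]) (fun j hj => ?_) okZeroD4 okShapeD4) okAgreeD4
  simp only [List.mem_cons, List.not_mem_nil, or_false] at hj
  rcases hj with rfl | rfl <;> exact exists_pow_ne_one (s := s) (by norm_num) (by omega)

theorem hasLift_B2 (hF : Facts chevB2) (hK : ∃ s : Finset F, 4 < s.card)
    (C : Central Γ ↥(chevB2.group F)) : HasLift hF C := by
  obtain ⟨s, hs⟩ := id hK
  refine hF.hasLift_torus (fun j hj => ?_) okZeroB2 okPairB2 okRegB2 (fun r hr _ => ?_)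
  · simp only [List.mem_cons, List.not_mem_nil, or_false] at hj
    rcases hj with rfl | rfl <;> exact exists_pow_ne_one (s := s) (by norm_num) (by omega)
  · rw [List.mem_singleton] at hr
    subst hr
    exact hF.zp_self (by decide) hK (fun i => if i = 1 then 1 else 0) (by decide +kernel)

theorem hasLift_G2 (hF : Facts chevG2) (hK : ∃ s : Finset F, 4 < s.card)
    (C : Central Γ ↥(chevG2.group F)) : HasLift hF C := by
  obtain ⟨s, hs⟩ := id hK
  refine hF.hasLift_torus (fun j hj => ?_) okZeroG2 okPairG2 okRegG2 (fun r hr _ => ?_)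
  · simp only [List.mem_cons, List.not_mem_nil, or_false] at hj
    rcases hj with rfl | rfl | rfl <;> exact exists_pow_ne_one (s := s) (by norm_num) (by omega)
  · rw [List.mem_singleton] at hr
    subst hr
    exact hF.zp_self (by decide) hK (fun i => if i = 0 then 1 else 0) (by decide +kernel)

end Cfsg.Agent.Lie
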