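import Cfsg.Agent.Lib.Lie.CTGroup
import Cfsg.Agent.Lib.Lie.CTFast
import Cfsg.Agent.Lib.Lie.TorusCard

/-!
A monomial representation of the presented group given by packed tables on rank two subsystems, and the
order of the centre of the presented group.
-/

set_option autoImplicit false
set_option linter.style.haveILetI false

namespace Cfsg.Agent.Lie

open Cfsg.Lie

/-- Rows with at most one entry: the column plus one (zero for none) and the value. -/
abbrev Mono : Type := ℕ → ℕ × ℤ

/-- An entry. -/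
def mEnt (f : Mono) (a b : ℕ) : ℤ := if (f a).1 = b + 1 then (f a).2 else 0

/-- The product. -/
def mComp (f g : Mono) : Mono := fun a =>
  if (f a).1 = 0 then (0, 0) else ((g ((f a).1 - 1)).1, (f a).2 * (g ((f a).1 - 1)).2)

/-- The matrix. -/
def mMat (N : ℕ) (f : Mono) : Matrix (Fin N) (Fin N) ℤ := fun a b => mEnt f a b

/-- Columns in range. -/
def mBound (N : ℕ) (f : Mono) : Prop := ∀ a < N, (f a).1 ≤ N

theorem mMat_mul {N : ℕ} {f g : Mono} (hf : mBound N f) : mMat N f * mMat N g = mMat N (mComp f g) := by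
  funext a c
  simp only [Matrix.mul_apply, mMat]
  by_cases h : (f a).1 = 0
  · rw [Finset.sum_eq_zero fun b _ => by simp [mEnt, h]]
    simp [mEnt, mComp, h]
  · have hb := hf a a.isLt
    rw [Finset.sum_eq_single (⟨(f a).1 - 1, by omega⟩ : Fin N)]
    · simp only [mEnt, mComp, if_neg h]
      rw [if_pos (show (f a).1 = (f a).1 - 1 + 1 by omega)]
      split_ifs <;> simp
    · intro b _ hne
      rw [mEnt, if_neg, zero_mul]
      intro e
      exact hne (Fin.ext (by simp; omega))
    · simp

theorem mComp_bound {N : ℕ} {f g : Mono} (hf : mBound N f) (hg : mBound N g) : mBound N (mComp f g) := by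
  intro a ha
  unfold mComp
  split_ifs with h
  · exact Nat.zero_le _
  · exact hg _ (by have := hf a ha; omega)

/-- A check of f = g + k h. -/
def okLin (N : ℕ) (f g h : Mono) (k : ℤ) : Bool :=
  (List.range N).all fun a => [(f a).1, (g a).1, (h a).1].all fun c =>
    c == 0 || mEnt f a (c - 1) == mEnt g a (c - 1) + k * mEnt h a (c - 1)

theorem mMat_lin {N : ℕ} {f g h : Mono} {k : ℤ} (hok : okLin N f g h k = true) :
    mMat N f = mMat N g + k • mMat N h := by
  funext a b
  simp only [okLin, List.all_eq_true, List.mem_range, Bool.or_eq_true, beq_iff_eq] at hok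
  simp only [Matrix.add_apply, Matrix.smul_apply, mMat, smul_eq_mul]
  by_cases hc : (b : ℕ) + 1 ∈ [(f a).1, (g a).1, (h a).1]
  · rcases hok a a.isLt _ hc with h0 | h0
    · omega
    · simpa using h0
  · simp only [List.mem_cons, List.not_mem_nil, or_false, not_or] at hc
    simp [mEnt, Ne.symm hc.1, Ne.symm hc.2.1, Ne.symm hc.2.2]

/-- The zero operator. -/
def mZero : Mono := fun _ => (0, 0)

theorem mMat_zero (N : ℕ) : mMat N mZero = 0 := by funext a b; simp [mMat, mEnt, mZero]

/-- A table entry. -/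
def mTab (T : List ℕ) (r : ℕ) : Mono := fun a =>
  let x := ctByte (T.getD r 0) a
  (x % 128, if x < 128 then 1 else -1)

/-- A diagonal projection. -/
def okProj (N : ℕ) (f : Mono) : Bool :=
  (List.range N).all fun a => (f a).1 == 0 || ((f a).1 == a + 1 && (f a).2 == 1)

theorem mMat_proj {N : ℕ} {f : Mono} (h : okProj N f = true) :
    mMat N f = Matrix.diagonal fun a : Fin N => if (f a).1 = 0 then 0 else 1 := by
  funext a b
  simp only [okProj, List.all_eq_true, List.mem_range, Bool.or_eq_true, Bool.and_eq_true, beq_iff_eq] at h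
  simp only [mMat, mEnt, Matrix.diagonal]
  rcases h a a.isLt with h0 | ⟨h1, h2⟩
  · simp [h0]
  · by_cases hab : a = b
    · subst hab; simp [h1, h2]
    · have : ¬ (a : ℕ) = b := fun e => hab (Fin.ext e)
      simp [h1, hab, this]

section Checks

variable (D : ChevalleyDatum) (N : ℕ) (T : List ℕ)

/-- The roots of a rank two subsystem. -/
def subList (i j : ℕ) : List ℕ := (List.range D.nroots).filter fun r => ctSub D i j r

/-- Ranges. -/
def okMinBound : Bool := (List.range D.nroots).all fun r => (List.range N).all fun a => decide ((mTab T r a).1 ≤ N)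

/-- Squares and triple products. -/
def okMinRoot (i j : ℕ) : Bool := (subList D i j).all fun r =>
  okLin N (mComp (mTab T r) (mTab T r)) mZero mZero 0 &&
    okLin N (mComp (mComp (mTab T r) (mTab T (D.neg r))) (mTab T r)) (mTab T r) mZero 0

/-- Commutators. -/
def okMinComm (i j : ℕ) : Bool := (subList D i j).all fun r => (subList D i j).all fun s =>
  s == r || s == D.neg r ||
    match D.commTerms r s with
    | [] => okLin N (mComp (mTab T s) (mTab T r)) (mComp (mTab T r) (mTab T s)) mZero 0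
    | [c] => c.2.2.1 == 1 && c.2.2.2 == 1 &&
        okLin N (mComp (mTab T s) (mTab T r)) (mComp (mTab T r) (mTab T s)) (mTab T c.1) (-c.2.1) &&
        okLin N (mComp (mTab T r) (mTab T c.1)) mZero mZero 0 &&
        okLin N (mComp (mTab T s) (mTab T c.1)) mZero mZero 0
    | _ => false

/-- The weight. -/
def minWt (i a : ℕ) : ℤ :=
  (if ((mComp (mTab T (D.simple i)) (mTab T (D.neg (D.simple i)))) a).1 = 0 then 0 else 1) -
    (if ((mComp (mTab T (D.neg (D.simple i))) (mTab T (D.simple i))) a).1 = 0 then 0 else 1)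

/-- The fundamental coroots act diagonally. -/
def okMinDiag (i : ℕ) : Bool :=
  okProj N (mComp (mTab T (D.simple i)) (mTab T (D.neg (D.simple i)))) &&
    okProj N (mComp (mTab T (D.neg (D.simple i))) (mTab T (D.simple i))) &&
    (List.range N).all fun a => ((mComp (mTab T (D.simple i)) (mTab T (D.neg (D.simple i)))) a).1 == 0 ||
      ((mComp (mTab T (D.neg (D.simple i))) (mTab T (D.simple i))) a).1 == 0

/-- The weights span. -/
def okMinInv (V : List (List ℤ)) : Bool :=
  (List.range D.rank).all fun i => (List.range D.rank).all fun j =>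
    ((List.range N).map fun a => (V.getD i []).getD a 0 * minWt D T j a).sum == if j = i then 1 else 0

end Checks

/-- All certificates. -/
structure MinRep (D : ChevalleyDatum) : Prop where
  full : CTFull D
  ex : ∃ (N : ℕ) (T : List ℕ) (V : List (List ℤ)), okMinBound D N T = true ∧
    (∀ i, i < D.rank → ∀ j, j < D.rank → okMinRoot D N T i j = true ∧ okMinComm D N T i j = true) ∧
    (∀ i, i < D.rank → okMinDiag D N T i = true) ∧ okMinInv D N T V = true

section Ring

variable {F R : Type*} [Field F] [Ring R] [Algebra F R]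

theorem rank_one_n {E G : R} (hE : E * E = 0) (hEGE : E * G * E = E) (t s : F) (hts : t * s = -1) :
    (1 + t • E) * (1 + s • G) * (1 + t • E) = (1 - E * G - G * E) + t • E + s • G := by
  simp only [mul_add, add_mul, one_mul, mul_one, smul_mul_assoc, mul_smul_comm, smul_smul, hE, smul_zero, hEGE,
    smul_add, add_zero, show s * t = -1 by rw [mul_comm]; exact hts, hts, neg_one_smul, mul_neg, mul_one]
  simp only [show t * (t * s) = -t by rw [hts]; ring, neg_smul, neg_one_mul, mul_neg, smul_neg, neg_mul, hEGE]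
  abel

theorem rank_one_h {E G : R} (hE : E * E = 0) (hG : G * G = 0) (hEGE : E * G * E = E) (hGEG : G * E * G = G)
    (t : F) (ht : t ≠ 0) :
    ((1 + t • E) * (1 + (-t⁻¹) • G) * (1 + t • E)) * ((1 + (-1 : F) • E) * (1 + (1 : F) • G) * (1 + (-1 : F) • E)) =
      (1 - E * G - G * E) + t • (E * G) + t⁻¹ • (G * E) := by
  rw [rank_one_n hE hEGE t (-t⁻¹) (by field_simp), rank_one_n hE hEGE (-1 : F) 1 (by ring)]
  obtain ⟨P, hP⟩ : ∃ P : R, P = 1 - E * G - G * E := ⟨_, rfl⟩
  have e1 : E * P = 0 := by rw [hP, mul_sub, mul_sub, mul_one, ← mul_assoc, hE, zero_mul, ← mul_assoc, hEGE]; abel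
  have e2 : P * E = 0 := by rw [hP, sub_mul, sub_mul, one_mul, hEGE, mul_assoc, hE, mul_zero]; abel
  have e3 : G * P = 0 := by rw [hP, mul_sub, mul_sub, mul_one, ← mul_assoc, hGEG, ← mul_assoc, hG, zero_mul]; abel
  have e4 : P * G = 0 := by rw [hP, sub_mul, sub_mul, one_mul, hGEG, mul_assoc, hG, mul_zero]; abel
  have e5 : P * P = P := by
    nth_rewrite 1 [hP]
    rw [sub_mul, sub_mul, one_mul, mul_assoc, mul_assoc, e3, e1, mul_zero, mul_zero, sub_zero, sub_zero]
  rw [← hP]
  simp only [mul_add, add_mul, smul_mul_assoc, mul_smul_comm, smul_smul, e1, e2, e3, e4, e5, hE, hG, smul_zero,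
    add_zero, zero_add, neg_one_smul, one_smul, mul_neg, neg_mul, neg_smul, neg_neg, neg_zero, mul_one, smul_neg]
  abel

theorem comm_ident {A B C : R} {k : F} (hBA : B * A = A * B + (-k) • C) (hAC : A * C = 0) (hBC : B * C = 0)
    (t u : F) : (1 + u • B) * (1 + t • A) = (1 + t • A) * (1 + u • B) * (1 + (k * (-t) * u) • C) := by
  simp only [mul_add, add_mul, one_mul, mul_one, smul_mul_assoc, mul_smul_comm, smul_smul, hBA, smul_add, mul_assoc,
    hBC, hAC, mul_zero, zero_mul, smul_zero, add_zero, zero_add]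
  rw [show k * (-t * u) = t * (u * -k) by ring, mul_comm u t]
  abel

theorem comm_ident0 {A B : R} (hBA : B * A = A * B) (t u : F) :
    (1 + u • B) * (1 + t • A) = (1 + t • A) * (1 + u • B) := by
  simp only [mul_add, add_mul, one_mul, mul_one, smul_mul_assoc, mul_smul_comm, smul_smul, smul_add, hBA]
  rw [mul_comm u t]
  abel

end Ring

/-- The root matrices over the field. -/
def minMat (N : ℕ) (T : List ℕ) (F : Type*) [Field F] (r : ℕ) : Matrix (Fin N) (Fin N) F :=
  (mMat N (mTab T r)).map (Int.castRingHom F)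

open Classical in
/-- The representation given by a table, with the values on rank two root elements. -/
theorem exists_rep_tab {D : ChevalleyDatum} (hC : CTFull D) (hF : Facts D) (F : Type*) [Field F] {N : ℕ}
    {T : List ℕ} (hb : okMinBound D N T = true)
    (hpair : ∀ i, i < D.rank → ∀ j, j < D.rank → okMinRoot D N T i j = true ∧ okMinComm D N T i j = true)
    (hdiag : ∀ i, i < D.rank → okMinDiag D N T i = true) :
    ∃ ρ : D.SteinbergGroup F →* (Matrix (Fin N) (Fin N) F)ˣ,
      (∀ i j r t, D.InRankTwoSub i j r →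
        (ρ (D.stGen F r t) : Matrix (Fin N) (Fin N) F) = 1 + t • minMat N T F r) ∧
      (∀ M : Subgroup (Matrix (Fin N) (Fin N) F)ˣ,
        (∀ i j r t, D.InRankTwoSub i j r → ρ (D.stGen F r t) ∈ M) → ρ.range ≤ M) ∧
      ∀ (i : Fin D.rank) (u : Fˣ), (ρ ((nElt D (D.stGen F) (D.simple i.val) (u : F)) *
        nElt D (D.stGen F) (D.simple i.val) (-1)) : Matrix (Fin N) (Fin N) F) =
          Matrix.diagonal fun a => ((u ^ minWt D T i.val a.val : Fˣ) : F) := by
  simp only [okMinBound, List.all_eq_true, List.mem_range, decide_eq_true_eq] at hb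
  obtain ⟨cast, hcast⟩ : ∃ cast : Matrix (Fin N) (Fin N) ℤ →+* Matrix (Fin N) (Fin N) F,
      cast = (Int.castRingHom F).mapMatrix := ⟨_, rfl⟩
  have hsmul : ∀ (k : ℤ) (A : Matrix (Fin N) (Fin N) ℤ), cast (k • A) = (k : F) • cast A := fun k A => by
    rw [map_zsmul, Int.cast_smul_eq_zsmul]
  obtain ⟨E, hE⟩ : ∃ E : ℕ → Matrix (Fin N) (Fin N) F, E = fun r => cast (mMat N (mTab T r)) := ⟨_, rfl⟩
  have hbd : ∀ r, r < D.nroots → mBound N (mTab T r) := fun r hr a ha => hb r hr a ha
  have hmem : ∀ {i j r : ℕ}, D.InRankTwoSub i j r → r ∈ subList D i j := fun {i j r} h =>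
    List.mem_filter.2 ⟨List.mem_range.2 h.1, ctSub_iff.2 h⟩
  have hsq : ∀ {i j r : ℕ}, D.InRankTwoSub i j r → E r * E r = 0 ∧ E r * E (D.neg r) * E r = E r := by
    intro i j r h
    have h' := (hpair i h.2.1 j h.2.2.1).1
    simp only [okMinRoot, List.all_eq_true, Bool.and_eq_true] at h'
    obtain ⟨h1, h2⟩ := h' r (hmem h)
    have hn := hbd _ (hF.neg_lt h.1)
    subst hE
    constructor
    · rw [← map_mul, mMat_mul (hbd r h.1), mMat_lin h1, mMat_zero, zero_smul, add_zero, map_zero]
    · rw [← map_mul, ← map_mul, mMat_mul (hbd r h.1), mMat_mul (mComp_bound (hbd r h.1) hn), mMat_lin h2,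
        zero_smul, add_zero]
  obtain ⟨ψ, hψ⟩ : ∃ ψ : Fin D.nroots × F → (Matrix (Fin N) (Fin N) F)ˣ,
      ∀ p : Fin D.nroots × F, (∀ i j, D.InRankTwoSub i j p.1.val → (ψ p : Matrix (Fin N) (Fin N) F) = 1 + p.2 • E p.1.val) ∧
        ((∀ i j, ¬ D.InRankTwoSub i j p.1.val) → ψ p = 1) := by
    have : ∀ p : Fin D.nroots × F, ∃ v : (Matrix (Fin N) (Fin N) F)ˣ,
        (∀ i j, D.InRankTwoSub i j p.1.val → (v : Matrix (Fin N) (Fin N) F) = 1 + p.2 • E p.1.val) ∧
        ((∀ i j, ¬ D.InRankTwoSub i j p.1.val) → v = 1) := by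
      intro p
      by_cases h : ∃ i j, D.InRankTwoSub i j p.1.val
      · obtain ⟨i, j, h⟩ := h
        have h0 := (hsq h).1
        refine ⟨⟨1 + p.2 • E p.1.val, 1 + (-p.2) • E p.1.val, ?_, ?_⟩, fun _ _ _ => rfl, fun h' => absurd h (h' i j)⟩ <;>
          simp [mul_add, add_mul, h0]
      · exact ⟨1, fun i j h' => absurd ⟨i, j, h'⟩ h, fun _ => rfl⟩
    choose ψ hψ using this
    exact ⟨ψ, hψ⟩
  have hX : ∀ {i j r : ℕ}, D.InRankTwoSub i j r → ∀ t : F,
      (FreeGroup.lift ψ (D.stX r t) : Matrix (Fin N) (Fin N) F) = 1 + t • E r := by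
    intro i j r h t
    rw [ChevalleyDatum.stX, dif_pos h.1, FreeGroup.lift_apply_of]
    exact (hψ (⟨r, h.1⟩, t)).1 i j h
  have hH : ∀ {i j r : ℕ}, D.InRankTwoSub i j r → ∀ t : F, t ≠ 0 →
      (FreeGroup.lift ψ (D.stH r t) : Matrix (Fin N) (Fin N) F) =
        (1 - E r * E (D.neg r) - E (D.neg r) * E r) + t • (E r * E (D.neg r)) + t⁻¹ • (E (D.neg r) * E r) := by
    intro i j r h t ht
    have hn := hF.sub_neg h
    have h2 := hsq hn
    rw [hF.neg_neg h.1] at h2
    rw [ChevalleyDatum.stH, ChevalleyDatum.stWord]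
    simp only [ChevalleyDatum.hWord, ChevalleyDatum.nWord, List.cons_append, List.nil_append, List.map_cons,
      List.map_nil, List.prod_cons, List.prod_nil, map_mul, Units.val_mul, hX h, hX hn, map_one, Units.val_one, mul_one]
    rw [← rank_one_h (hsq h).1 h2.1 (hsq h).2 h2.2 t ht]
    simp only [inv_neg, inv_one, neg_neg, mul_assoc]
  have hmul : ∀ {i j r : ℕ}, D.InRankTwoSub i j r → ∀ t u : F, t ≠ 0 → u ≠ 0 →
      FreeGroup.lift ψ (D.stH r t) * FreeGroup.lift ψ (D.stH r u) = FreeGroup.lift ψ (D.stH r (t * u)) := by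
    intro i j r h t u ht hu
    obtain ⟨h1, h2⟩ := hsq h
    have h34 := hsq (hF.sub_neg h)
    rw [hF.neg_neg h.1] at h34
    obtain ⟨h3, h4⟩ := h34
    refine Units.ext ?_
    rw [Units.val_mul, hH h t ht, hH h u hu, hH h _ (mul_ne_zero ht hu)]
    generalize E (D.neg r) = G at h2 h3 h4
    generalize E r = A at h1 h2 h4
    have p1 : A * G * (A * G) = A * G := by rw [← mul_assoc, h2]
    have p2 : G * A * (G * A) = G * A := by rw [← mul_assoc, h4]
    have p3 : A * G * (G * A) = 0 := by rw [mul_assoc, ← mul_assoc G G, h3, zero_mul, mul_zero]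
    have p4 : G * A * (A * G) = 0 := by rw [mul_assoc, ← mul_assoc A A, h1, zero_mul, mul_zero]
    generalize A * G = P at p1 p3 p4
    generalize G * A = Q at p2 p3 p4
    simp only [mul_add, add_mul, mul_sub, sub_mul, one_mul, mul_one, smul_mul_assoc, mul_smul_comm, p1, p2, p3,
      p4, smul_zero, smul_sub, smul_add, smul_smul, sub_zero, mul_inv_rev]
    rw [mul_comm u⁻¹ t⁻¹, mul_comm u t]
    abel
  have hrels : ∀ g ∈ D.curtisTitsRels F, FreeGroup.lift ψ g = 1 := by
    rintro g (((⟨r, t, hr, h, rfl⟩ | ⟨i, j, r, t, u, h, rfl⟩) | ⟨i, j, r, s, t, u, h, h', h1, h2, rfl⟩) |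
      ⟨i, j, r, t, u, h, ht, hu, rfl⟩)
    · rw [ChevalleyDatum.stX, dif_pos hr, FreeGroup.lift_apply_of]
      exact (hψ (⟨r, hr⟩, t)).2 h
    · rw [map_mul, map_mul, map_inv, mul_inv_eq_one]
      refine Units.ext ?_
      rw [Units.val_mul, hX h, hX h, hX h]
      simp [mul_add, add_mul, add_smul, (hsq h).1, add_assoc]
    · have hc := (hpair i h.2.1 j h.2.2.1).2
      simp only [okMinComm, List.all_eq_true, Bool.or_eq_true, beq_iff_eq] at hc
      rcases hc r (hmem h) s (hmem h') with (hc | hc) | hc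
      · exact absurd hc h1
      · exact absurd hc h2
      have key : FreeGroup.lift ψ (D.stX s u) * FreeGroup.lift ψ (D.stX r t) =
          FreeGroup.lift ψ (D.stX r t) * FreeGroup.lift ψ (D.stX s u) * FreeGroup.lift ψ (D.stWord (D.commWord F r s t u)) := by
        refine Units.ext ?_
        obtain ⟨l, hl⟩ := hC.cert.hyp.1.2.2
        rw [ChevalleyDatum.commWord]
        rcases hL : D.commTerms r s with _ | ⟨c, _ | ⟨c', L⟩⟩
        · rw [hL] at hc
          simp only at hc
          rw [List.map_nil, ChevalleyDatum.stWord, List.map_nil, List.prod_nil, map_one, mul_one, Units.val_mul,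
            Units.val_mul, hX h, hX h']
          refine comm_ident0 ?_ t u
          subst hE
          rw [← map_mul, ← map_mul, mMat_mul (hbd s h'.1), mMat_mul (hbd r h.1), mMat_lin hc, zero_smul, add_zero]
        · rw [hL] at hc
          simp only [Bool.and_eq_true, beq_iff_eq] at hc
          obtain ⟨⟨⟨⟨c1, c2⟩, c3⟩, c4⟩, c5⟩ := hc
          have hcs : D.InRankTwoSub i j c.1 := hF.sub_term hl h h' (by rw [hL]; exact List.mem_cons_self)
          rw [List.map_cons, List.map_nil, ChevalleyDatum.stWord, List.map_cons, List.map_nil, List.prod_cons,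
            List.prod_nil, mul_one, Units.val_mul, Units.val_mul, Units.val_mul, hX h, hX h', hX hcs, c1, c2,
            pow_one, pow_one]
          subst hE
          refine comm_ident ?_ ?_ ?_ t u
          · rw [← map_mul, ← map_mul, mMat_mul (hbd s h'.1), mMat_mul (hbd r h.1), mMat_lin c3, map_add, hsmul,
              Int.cast_neg]
          · rw [← map_mul, mMat_mul (hbd r h.1), mMat_lin c4, mMat_zero, zero_smul, add_zero, map_zero]
          · rw [← map_mul, mMat_mul (hbd s h'.1), mMat_lin c5, mMat_zero, zero_smul, add_zero, map_zero]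
        · rw [hL] at hc; simp at hc
      simp only [map_mul, map_inv]
      rw [mul_inv_eq_one, mul_assoc (_ * _), key]
      group
    · rw [map_mul, map_mul, map_inv, mul_inv_eq_one]
      exact hmul h t u ht hu
  obtain ⟨e, he⟩ := ct_equiv hF F hC
  have hgen : ∀ {i j r : ℕ}, D.InRankTwoSub i j r → ∀ t,
      PresentedGroup.toGroup hrels (e.symm (D.stGen F r t)) = FreeGroup.lift ψ (D.stX r t) := by
    intro i j r h t
    rw [← he i j r t h, e.symm_apply_apply]
    rfl
  refine ⟨(PresentedGroup.toGroup hrels).comp e.symm.toMonoidHom, ?_, ?_, ?_⟩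
  · intro i j r t h
    refine (congrArg Units.val (hgen h t)).trans ?_
    rw [hX h, hE, hcast]
    rfl
  · intro M hM
    rintro _ ⟨g, rfl⟩
    have : ∀ x, PresentedGroup.toGroup hrels x ∈ M := by
      have hle : (⊤ : Subgroup (D.CurtisTitsGroup F)) ≤ M.comap (PresentedGroup.toGroup hrels) := by
        rw [← PresentedGroup.closure_range_of (D.curtisTitsRels F)]
        refine (Subgroup.closure_le _).2 ?_
        rintro _ ⟨⟨r, t⟩, rfl⟩
        rw [SetLike.mem_coe, Subgroup.mem_comap, PresentedGroup.toGroup.of]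
        by_cases h : ∃ i j, D.InRankTwoSub i j r.val
        · obtain ⟨i, j, h⟩ := h
          have h' := hgen h t
          rw [ChevalleyDatum.stX, dif_pos r.isLt, FreeGroup.lift_apply_of] at h'
          exact h' ▸ hM i j r t h
        · rw [(hψ (r, t)).2 fun i j h' => h ⟨i, j, h'⟩]
          exact one_mem M
      exact fun x => hle (Subgroup.mem_top x)
    exact this (e.symm g)
  · intro i u
    have hi := hF.sub_simple i.isLt i.isLt
    have hn := hF.sub_neg hi
    have e1 : ((PresentedGroup.toGroup hrels).comp e.symm.toMonoidHom) ((nElt D (D.stGen F) (D.simple i.val) (u : F)) *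
        nElt D (D.stGen F) (D.simple i.val) (-1)) = FreeGroup.lift ψ (D.stH (D.simple i.val) (u : F)) := by
      rw [ChevalleyDatum.stH, ChevalleyDatum.stWord]
      simp [nElt, ChevalleyDatum.hWord, ChevalleyDatum.nWord, hgen hi, hgen hn, mul_assoc]
    rw [e1, hH hi _ u.ne_zero]
    have hd := hdiag i.val i.isLt
    simp only [okMinDiag, Bool.and_eq_true, List.all_eq_true, List.mem_range, Bool.or_eq_true, beq_iff_eq] at hd
    obtain ⟨⟨d1, d2⟩, d3⟩ := hd
    subst hE
    rw [← map_mul, ← map_mul, mMat_mul (hbd _ hi.1), mMat_mul (hbd _ hn.1), mMat_proj d1, mMat_proj d2, hcast]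
    funext a b
    by_cases hab : a = b
    · subst hab
      simp only [RingHom.mapMatrix_apply, Matrix.add_apply, Matrix.sub_apply, Matrix.smul_apply, Matrix.one_apply_eq,
        Matrix.map_apply, Matrix.diagonal_apply_eq, smul_eq_mul, Units.val_zpow_eq_zpow_val, minWt]
      rcases d3 a a.isLt with h | h <;> simp [h] <;> split_ifs <;> simp
    · simp [Matrix.one_apply_ne hab, Matrix.diagonal_apply_ne _ hab]

open Classical in
theorem MinRep.exists_rep {D : ChevalleyDatum} (hM : MinRep D) (hF : Facts D) (F : Type*) [Field F] :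
    ∃ (N : ℕ) (μ : Fin D.rank → Fin N → ℤ) (ρ : D.SteinbergGroup F →* (Matrix (Fin N) (Fin N) F)ˣ),
      (∀ c : Fin D.rank → Fˣ, (∀ a, ∏ i, c i ^ μ i a = 1) → c = 1) ∧
      ∀ (i : Fin D.rank) (u : Fˣ), (ρ ((nElt D (D.stGen F) (D.simple i.val) (u : F)) *
        nElt D (D.stGen F) (D.simple i.val) (-1)) : Matrix (Fin N) (Fin N) F) =
          Matrix.diagonal fun a => ((u ^ μ i a : Fˣ) : F) := by
  obtain ⟨N, T, V, hb, hpair, hdiag, hinv⟩ := hM.ex
  obtain ⟨ρ, -, -, hρ⟩ := exists_rep_tab hM.full hF F hb hpair hdiag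
  refine ⟨N, fun i a => minWt D T i.val a.val, ρ, ?_, hρ⟩
  intro c hc
  funext i
  simp only [okMinInv, List.all_eq_true, List.mem_range, beq_iff_eq] at hinv
  have hsum : ∀ j : Fin D.rank, ∑ a : Fin N, (V.getD i []).getD a.val 0 * minWt D T j.val a.val = if j = i then 1 else 0 := by
    intro j
    have h := hinv i i.isLt j j.isLt
    rw [← List.sum_toFinset _ List.nodup_range, List.toFinset_range, ← Fin.sum_univ_eq_sum_range] at h
    rw [h]
    simp [Fin.ext_iff]
  have h0 : ∀ a : Fin N, ∑ j, minWt D T j.val a.val • Additive.ofMul (c j) = 0 := by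
    intro a
    have := congrArg Additive.ofMul (hc a)
    rwa [ofMul_prod, ofMul_one] at this
  have hi : Additive.ofMul (c i) = 0 := by
    calc Additive.ofMul (c i) = ∑ j : Fin D.rank, (if j = i then (1 : ℤ) else 0) • Additive.ofMul (c j) := by simp
      _ = ∑ j, ∑ a : Fin N, (V.getD i []).getD a.val 0 • minWt D T j.val a.val • Additive.ofMul (c j) := by
        refine Finset.sum_congr rfl fun j _ => ?_
        rw [← hsum j]
        exact (Finset.sum_smul (R := ℤ) (M := Additive Fˣ)).trans
          (Finset.sum_congr rfl fun a _ => mul_smul _ _ _)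
      _ = 0 := by
        rw [Finset.sum_comm]
        refine Finset.sum_eq_zero fun a _ => ?_
        exact (Finset.smul_sum (M := ℤ) (N := Additive Fˣ)).symm.trans ((congrArg _ (h0 a)).trans (smul_zero _))
  exact Additive.ofMul.injective hi

namespace Facts

variable {D : ChevalleyDatum} (hF : Facts D) (hH : StHyp D) {F : Type*} [Field F]

/-- The torus of the presented group as a homomorphism. -/
theorem exists_st_torus : ∃ ψ : (Fin D.rank → Fˣ) →* D.SteinbergGroup F,
    (∀ j u, ψ (Pi.mulSingle j u) = (hF.stT hH F).h (D.simple j.val) (u : F)) ∧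
    (∀ c, hF.proj F (ψ c) = torus D F c) ∧ hF.H0 (F := F) hH ≤ ψ.range := by
  set S := hF.stT hH F with hS
  have hsum : ∀ a b : Fˣ, ∀ j : Fin D.rank,
      S.h (D.simple j.val) (a : F) * S.h (D.simple j.val) (b : F) = S.h (D.simple j.val) ((a * b : Fˣ) : F) := by
    intro a b j
    have h := st_rel (F := F) (D := D)
      (Or.inr ⟨D.simple j.val, (a : F), (b : F), hF.simple_lt j.val j.isLt, a.ne_zero, b.ne_zero, rfl⟩)
    rw [map_mul, map_mul, map_inv, mul_inv_eq_one, mk_stH, mk_stH, mk_stH] at h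
    rw [Units.val_mul]
    exact h
  let hh : (j : Fin D.rank) → Fˣ →* D.SteinbergGroup F := fun j =>
    MonoidHom.mk' (fun u => S.h (D.simple j.val) (u : F)) fun a b => (hsum a b j).symm
  have hcomm : Pairwise fun i j => ∀ x y, Commute (hh i x) (hh j y) := by
    intro i j _ x y
    show S.h (D.simple i.val) (x : F) * S.h (D.simple j.val) (y : F) =
      S.h (D.simple j.val) (y : F) * S.h (D.simple i.val) (x : F)
    set e := (x : F) ^ D.cartan i.val (D.simple j.val) with he
    have h1 := hF.h_conj_n (F := F) hH x.ne_zero j ((y : F)) (j := i)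
    have h2 := hF.h_conj_n (F := F) hH x.ne_zero j (-1 : F) (j := i)
    have hu : e ≠ 0 := zpow_ne_zero _ x.ne_zero
    rw [← mul_inv_eq_iff_eq_mul]
    simp only [← hS] at h1 h2
    have h3 : S.h (D.simple i.val) (x : F) * S.h (D.simple j.val) (y : F) * (S.h (D.simple i.val) (x : F))⁻¹ =
        S.n (D.simple j.val) (e * y) * S.n (D.simple j.val) (e * -1) := by
      rw [← h1, ← h2, show S.h (D.simple j.val) (y : F) = S.n (D.simple j.val) (y : F) * S.n (D.simple j.val) (-1) from rfl]
      group
    rw [h3, mul_neg, mul_one, TorusSys.n_mul_n]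
    have h4 := hsum (Units.mk0 e hu) y j
    rw [Units.val_mk0, Units.val_mul, Units.val_mk0] at h4
    have h5 : S.h (D.simple j.val) e * S.h (D.simple j.val) (y : F) =
        S.h (D.simple j.val) (y : F) * S.h (D.simple j.val) e := by
      have h6 := hsum y (Units.mk0 e hu) j
      rw [Units.val_mk0, Units.val_mul, Units.val_mk0] at h6
      rw [h4, h6, mul_comm e]
    rw [← h4, h5, mul_inv_cancel_right]
  refine ⟨MonoidHom.noncommPiCoprod hh hcomm, fun j u => by rw [MonoidHom.noncommPiCoprod_mulSingle]; rfl, ?_, ?_⟩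
  · intro c
    have : (hF.proj F).comp (MonoidHom.noncommPiCoprod hh hcomm) = torus D F := by
      refine MonoidHom.pi_ext fun j u => ?_
      rw [MonoidHom.comp_apply, MonoidHom.noncommPiCoprod_mulSingle, torus_single hF]
      exact hF.proj_h hH _ _
    exact DFunLike.congr_fun this c
  · refine (Subgroup.closure_le _).2 ?_
    rintro _ ⟨i, t, ht, rfl⟩
    exact ⟨Pi.mulSingle i (Units.mk0 t ht), by rw [MonoidHom.noncommPiCoprod_mulSingle]; rfl⟩

end Facts

/-- The order of the centre of the presented group. -/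
theorem card_center_of_rep {D : ChevalleyDatum} (hM : MinRep D) (hF : Facts D) {F : Type*} [Field F] [Fintype F]
    {d : ℕ} (K : KerCert (cartanSys D) (k := 1) ![d]) :
    Nat.card (Subgroup.center (D.SteinbergGroup F)) = Nat.gcd d (Fintype.card F - 1) := by
  classical
  have hH := hM.full.cert.hyp.1
  obtain ⟨ψ, hψ1, hψ2, hψ3⟩ := hF.exists_st_torus hH (F := F)
  obtain ⟨N, μ, ρ, hμ, hρ⟩ := hM.exists_rep hF F
  have hinj : Function.Injective ψ := by
    refine (injective_iff_map_eq_one _).2 fun c hc => hμ c fun a => ?_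
    obtain ⟨g, hg⟩ : ∃ g : (Fin D.rank → Fˣ) →* (Matrix (Fin N) (Fin N) F)ˣ,
        ∀ c, (g c : Matrix (Fin N) (Fin N) F) = Matrix.diagonal fun a => ((∏ i, c i ^ μ i a : Fˣ) : F) := by
      refine ⟨(Units.map (Matrix.diagonalRingHom (Fin N) F).toMonoidHom).comp
        (MulEquiv.piUnits.symm.toMonoidHom.comp (MonoidHom.mk' (fun c a => ∏ i, c i ^ μ i a) fun c c' => ?_)),
        fun c => rfl⟩
      funext a
      simp [mul_zpow, Finset.prod_mul_distrib]
    have hcomp : ρ.comp ψ = g := by
      refine MonoidHom.pi_ext fun j u => Units.ext ?_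
      rw [MonoidHom.comp_apply, hψ1, hg]
      refine (hρ j u).trans ?_
      congr 1
      funext a
      rw [Finset.prod_eq_single j]
      · rw [Pi.mulSingle_eq_same]
      · intro b _ hb; rw [Pi.mulSingle_eq_of_ne hb, one_zpow]
      · simp
    have h1 := DFunLike.congr_fun hcomp c
    rw [MonoidHom.comp_apply, hc, map_one] at h1
    have h2 := congrArg (fun v : (Matrix (Fin N) (Fin N) F)ˣ => (v : Matrix (Fin N) (Fin N) F) a a) h1
    simp only [Units.val_one, Matrix.one_apply_eq, hg, Matrix.diagonal_apply_eq] at h2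
    exact Units.ext h2.symm
  have hker : (hF.proj F).ker = (torus D F).ker.map ψ := by
    ext z
    constructor
    · intro hz
      obtain ⟨c, rfl⟩ := hψ3 (hF.H_le_H0 hH (hF.ker_le_H hH hz))
      exact ⟨c, by rw [MonoidHom.mem_ker, hψ2] at hz; exact hz, rfl⟩
    · rintro ⟨c, hc, rfl⟩
      rw [MonoidHom.mem_ker, hψ2]
      exact hc
  rw [← hF.ker_eq_center hH hH.2.2, hker, ← Nat.card_congr ((torus D F).ker.equivMapOfInjective ψ hinj).toEquiv]
  have hiff : ∀ c : Fin D.rank → Fˣ, c ∈ (torus D F).ker ↔ ∀ s, ∑ m, cartanSys D s m • Additive.ofMul (c m) = 0 := by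
    intro c
    rw [MonoidHom.mem_ker, coe_torus_eq_one, hF.torChar_eq_one_iff]
    refine forall_congr' fun s => ?_
    rw [← (Additive.ofMul (α := Fˣ)).injective.eq_iff, torChar, ofMul_prod, ofMul_one]
    rfl
  have e0 : ↥(torus D F).ker ≃ {c : Fin D.rank → Additive Fˣ // ∀ s, ∑ m, cartanSys D s m • c m = 0} :=
    (Equiv.piCongrRight fun _ => Additive.ofMul).subtypeEquiv hiff
  rw [Nat.card_congr (e0.trans K.equiv), Nat.card_pi, Fin.prod_univ_one,
    ← Fintype.card_units, ← Nat.card_eq_fintype_card, Nat.gcd_comm, ← IsCyclic.card_powMonoidHom_ker Fˣ d]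
  exact Nat.card_congr (Additive.toMul.subtypeEquiv fun z => by
    simp [MonoidHom.mem_ker, ← ofMul_pow]
    exact Iff.rfl)

end Cfsg.Agent.Lie
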