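import Cfsg.Agent.Lib.Lie.CoverTransport
import Cfsg.Agent.Lib.Lie.LiftMain
import Cfsg.Agent.Lib.Lie.MinusculeRep
import Cfsg.Agent.Lib.Small.SteinbergSL2
import Cfsg.Prelude.Def_KGroupFacts

/-!
Over a finite field, lifts with additivity and the commutator formula satisfy all of Steinberg's relations,
so every stem extension of a Chevalley group is an image of the presented group.
-/

set_option autoImplicit false
set_option linter.unusedSectionVars false

namespace Cfsg.Agent.Lie

open Cfsg.Lie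
open scoped commutatorElement MatrixGroups
open Cfsg.Agent.Small.SchurLifts

variable {D : ChevalleyDatum} {F : Type*} [Field F]

namespace TorusSys

variable {hF : Facts D} {Γ : Type*} [Group Γ] (S : TorusSys hF F Γ)

theorem n_conj_simple (i : Fin D.rank) {t : F} (ht : t ≠ 0) {s : ℕ} (hs : s < D.nroots) (u : F) :
    S.n (D.simple i.val) t * S.x s u * (S.n (D.simple i.val) t)⁻¹ =
      S.x (D.reflectRoot i.val s) (t ^ D.cartan i.val (D.reflectRoot i.val s) * (hF.sgn F i.val s * u)) := by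
  rw [S.n_eq_h_mul, show ∀ a b c : Γ, a * b * c * (a * b)⁻¹ = a * (b * c * b⁻¹) * a⁻¹ from
    fun a b c => by group]
  rw [show S.n (D.simple i.val) 1 * S.x s u * (S.n (D.simple i.val) 1)⁻¹ = _ from S.nS_conj i hs u]
  exact S.h_conj i.val i.isLt t ht _ (hF.refl_lt i.val i.isLt s hs) _

theorem n_neg_eq (i : Fin D.rank) {t : F} (ht : t ≠ 0) :
    nElt D S.x (D.neg (D.simple i.val)) t = S.n (D.simple i.val) (-t⁻¹) := by
  have hα := hF.simple_lt i.val i.isLt
  have hne : (-t⁻¹ : F) ≠ 0 := neg_ne_zero.2 (inv_ne_zero ht)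
  have hsg : hF.sgn F i.val (D.simple i.val) = -1 := by
    simp [Facts.sgn, hF.eta_simple i.val i.isLt]
  have hsg' : hF.sgn F i.val (D.neg (D.simple i.val)) = -1 := by
    simp [Facts.sgn, hF.eta_neg i.val i.isLt _ hα, hF.eta_simple i.val i.isLt]
  set g := S.n (D.simple i.val) (-t⁻¹) with hg
  have h1 : g * S.x (D.simple i.val) (-t⁻¹) * g⁻¹ = S.x (D.neg (D.simple i.val)) t := by
    rw [hg, S.n_conj_simple i hne hα, Facts.refl_simple, hsg, hF.cartan_neg i.val i.isLt _ hα,
      hF.cartan_simple i.val i.isLt]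
    congr 1
    rw [_root_.zpow_neg, _root_.zpow_two]
    field_simp
  have h2 : g * S.x (D.neg (D.simple i.val)) t * g⁻¹ = S.x (D.simple i.val) (-t⁻¹) := by
    rw [hg, S.n_conj_simple i hne (hF.neg_lt hα), hF.refl_neg i.val i.isLt _ hα, Facts.refl_simple,
      hF.neg_neg hα, hsg', hF.cartan_simple i.val i.isLt]
    congr 1
    rw [_root_.zpow_two]
    field_simp
  have e : nElt D S.x (D.neg (D.simple i.val)) t =
      g * (S.x (D.simple i.val) (-t⁻¹) * S.x (D.neg (D.simple i.val)) t * S.x (D.simple i.val) (-t⁻¹)) * g⁻¹ := by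
    rw [← conj_mul, ← conj_mul, h1, h2, nElt, hF.neg_neg hα]
  have hg' : g = S.x (D.simple i.val) (-t⁻¹) * S.x (D.neg (D.simple i.val)) t *
      S.x (D.simple i.val) (-t⁻¹) := by
    rw [hg, TorusSys.n, nElt, inv_neg, inv_inv, _root_.neg_neg]
  rw [e, ← hg', mul_inv_cancel_right]

/-- Multiplicativity of h for the fundamental roots over a finite field. -/
theorem h_mul_simple [Finite F] (i : Fin D.rank) {t u : F} (ht : t ≠ 0) (hu : u ≠ 0) :
    S.h (D.simple i.val) (t * u) = S.h (D.simple i.val) t * S.h (D.simple i.val) u := by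
  have hα := hF.simple_lt i.val i.isLt
  have hnα := hF.neg_lt hα
  set K := Subgroup.closure (Set.range (S.x (D.simple i.val)) ∪ Set.range (S.x (D.neg (D.simple i.val)))) with hK
  have hc2 := hF.cartan_simple i.val i.isLt
  have hc2' : D.cartan i.val (D.neg (D.simple i.val)) = -2 := by
    rw [hF.cartan_neg i.val i.isLt _ hα, hc2]
  have hsg : hF.sgn F i.val (D.simple i.val) = -1 := by
    simp [Facts.sgn, hF.eta_simple i.val i.isLt]
  have hsg' : hF.sgn F i.val (D.neg (D.simple i.val)) = -1 := by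
    simp [Facts.sgn, hF.eta_neg i.val i.isLt _ hα, hF.eta_simple i.val i.isLt]
  let R : Cfsg.Agent.Small.SteinbergSL2.Rels F K :=
    { x := fun v => ⟨S.x (D.simple i.val) v, Subgroup.subset_closure (Or.inl ⟨v, rfl⟩)⟩
      y := fun v => ⟨S.x (D.neg (D.simple i.val)) v, Subgroup.subset_closure (Or.inr ⟨v, rfl⟩)⟩
      xadd := fun a b => Subtype.ext (S.x_add _ a b).symm
      yadd := fun a b => Subtype.ext (S.x_add _ a b).symm
      wx := fun a b ha => Subtype.ext (by
        show S.n (D.simple i.val) a * S.x (D.simple i.val) b * (S.n (D.simple i.val) a)⁻¹ = S.x _ _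
        rw [S.n_conj_simple i ha hα, Facts.refl_simple, hsg, hc2']
        congr 1
        rw [_root_.zpow_neg, _root_.zpow_two]
        field_simp)
      wy := fun a b ha => Subtype.ext (by
        show S.x (D.neg (D.simple i.val)) a * S.x (D.simple i.val) (-a⁻¹) * S.x (D.neg (D.simple i.val)) a *
          S.x (D.neg (D.simple i.val)) b * (S.x (D.neg (D.simple i.val)) a * S.x (D.simple i.val) (-a⁻¹) *
            S.x (D.neg (D.simple i.val)) a)⁻¹ = S.x (D.simple i.val) _
        have e : S.x (D.neg (D.simple i.val)) a * S.x (D.simple i.val) (-a⁻¹) *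
            S.x (D.neg (D.simple i.val)) a = S.n (D.simple i.val) (-a⁻¹) := by
          rw [← S.n_neg_eq i ha, nElt, hF.neg_neg hα]
        rw [e, S.n_conj_simple i (neg_ne_zero.2 (inv_ne_zero ha)) hnα, hF.refl_neg i.val i.isLt _ hα,
          Facts.refl_simple, hF.neg_neg hα, hsg', hc2]
        congr 1
        rw [_root_.zpow_two]
        field_simp) }
  have hgen : Subgroup.closure (Set.range R.x ∪ Set.range R.y) = ⊤ := by
    refine (Subgroup.closure_closure_coe_preimage (k :=
      Set.range (S.x (D.simple i.val)) ∪ Set.range (S.x (D.neg (D.simple i.val))))).symm.trans ?_ |>.symm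
    congr 1
    ext z
    simp only [Set.mem_preimage, Set.mem_union, Set.mem_range]
    constructor
    · rintro (⟨v, hv⟩ | ⟨v, hv⟩)
      · exact Or.inl ⟨v, Subtype.ext hv⟩
      · exact Or.inr ⟨v, Subtype.ext hv⟩
    · rintro (⟨v, hv⟩ | ⟨v, hv⟩)
      · exact Or.inl ⟨v, congrArg Subtype.val hv⟩
      · exact Or.inr ⟨v, congrArg Subtype.val hv⟩
  have hh : ∀ v : F, ((R.h v : K) : Γ) = S.h (D.simple i.val) v := fun v => by
    rw [Cfsg.Agent.Small.SteinbergSL2.Rels.h, TorusSys.h, S.n_neg]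
    rfl
  rw [← hh, ← hh, ← hh, ← Subgroup.coe_mul, R.h_mul hgen ht hu]

/-- Multiplicativity of h for every root. -/
theorem h_mul_root [Finite F] : ∀ r, r < D.nroots → ∀ t u : F, t ≠ 0 → u ≠ 0 →
    S.h r (t * u) = S.h r t * S.h r u := by
  refine hF.simple_induction _ (fun i hi t u ht hu => S.h_mul_simple ⟨i, hi⟩ ht hu)
    (fun i hi r hr ih => ?_)
  set g := S.nS ⟨i, hi⟩ with hg
  set σ := hF.sgn F i r with hσ
  have hσ2 : σ * σ = 1 := hF.sgn_mul_self hi hr
  have hσ0 : σ ≠ 0 := left_ne_zero_of_mul_eq_one hσ2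
  let f : F → Γ := fun v => g * S.h r v * g⁻¹
  have hf : ∀ v, f v = S.h (D.reflectRoot i r) (σ * v) * (S.h (D.reflectRoot i r) σ)⁻¹ := fun v =>
    S.nS_conj_h ⟨i, hi⟩ hr v
  have hfm : ∀ a b, a ≠ 0 → b ≠ 0 → f (a * b) = f a * f b := fun a b ha hb => by
    simp only [f, ih a b ha hb]; group
  have h1 : S.h (D.reflectRoot i r) σ = f σ := by
    have h2 := hf σ
    rw [hσ2, S.h_one, one_mul] at h2
    have h3 := hfm σ σ hσ0 hσ0
    rw [hσ2, show f 1 = 1 by simp [f, S.h_one]] at h3
    rw [← inv_inv (S.h (D.reflectRoot i r) σ), ← h2, inv_eq_of_mul_eq_one_left h3.symm]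
  have hkey : ∀ v, v ≠ 0 → S.h (D.reflectRoot i r) v = f v := fun v hv => by
    have h2 := hf (σ * v)
    rw [← mul_assoc, hσ2, one_mul, h1] at h2
    rw [← inv_mul_cancel_right (S.h (D.reflectRoot i r) v) (f σ)]
    rw [show S.h (D.reflectRoot i r) v * (f σ)⁻¹ = f (σ * v) from h2.symm, ← hfm _ _ (mul_ne_zero hσ0 hv) hσ0,
      mul_right_comm, hσ2, one_mul]
  intro t u ht hu
  rw [hkey _ (mul_ne_zero ht hu), hkey t ht, hkey u hu, hfm t u ht hu]

end TorusSys

namespace Facts

variable (hF : Facts D)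

/-- The homomorphism from the presented group defined by lifts. -/
theorem exists_hom [Finite F] (hH : StHyp D) {Γ : Type*} [Group Γ] (S : CommSys hF F Γ)
    (p : Γ →* GL D.Idx F) (hp : ∀ r t, p (S.x r t) = hF.xg r t) :
    ∃ ρ : D.SteinbergGroup F →* Γ, ∀ r t, ρ (D.stGen F r t) = S.x r t := by
  set f : Fin D.nroots × F → Γ := fun q => S.x q.1.val q.2 with hf
  have hX : ∀ r t, FreeGroup.lift f (D.stX r t) = S.x r t := by
    intro r t
    unfold ChevalleyDatum.stX
    split_ifs with h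
    · simp [hf]
    · simp [S.x_out r t (not_lt.1 h)]
  have hW : ∀ w : List (ℕ × F), FreeGroup.lift f (D.stWord w) = (w.map fun q => S.x q.1 q.2).prod := by
    intro w
    rw [ChevalleyDatum.stWord, map_list_prod, List.map_map]
    congr 1
    exact List.map_congr_left fun q _ => hX _ _
  set T := hF.covT S p hp hH with hT
  have hh : ∀ r t, FreeGroup.lift f (D.stH r t) = T.h r t := fun r t => by
    rw [ChevalleyDatum.stH, hW]
    simp [ChevalleyDatum.hWord, ChevalleyDatum.nWord, TorusSys.h, TorusSys.n, nElt, mul_assoc, hT]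
    rfl
  have hrels : ∀ g ∈ D.steinbergRels F, FreeGroup.lift f g = 1 := by
    rintro g ((⟨r, t, u, hr, rfl⟩ | ⟨r, s, t, u, hr, hs, h1, h2, rfl⟩) | ⟨r, t, u, hr, ht, hu, rfl⟩)
    · rw [map_mul, map_mul, map_inv, hX, hX, hX, S.x_add, mul_inv_cancel]
    · simp only [map_mul, map_inv, hX, hW]
      rw [mul_inv_eq_one, mul_assoc (_ * _), S.x_comm r s hr hs h1 h2 t u]
      group
    · rw [map_mul, map_mul, map_inv, hh, hh, hh, mul_inv_eq_one, T.h_mul_root r hr t u ht hu]
  refine ⟨PresentedGroup.toGroup hrels, fun r t => ?_⟩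
  by_cases hr : r < D.nroots
  · rw [ChevalleyDatum.stGen, ChevalleyDatum.stX, dif_pos hr]
    exact PresentedGroup.toGroup.of hrels
  · rw [stGen_out (not_lt.1 hr), map_one, S.x_out r t (not_lt.1 hr)]

/-- The projection of the presented group onto the Chevalley group. -/
noncomputable def projQ (F : Type*) [Field F] : D.SteinbergGroup F →* ↥(D.group F) :=
  (hF.proj F).codRestrict (D.group F) fun g => by
    have hle : (⊤ : Subgroup (D.SteinbergGroup F)) ≤ (D.group F).comap (hF.proj F) := by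
      rw [← PresentedGroup.closure_range_of (D.steinbergRels F)]
      refine (Subgroup.closure_le _).2 ?_
      rintro _ ⟨⟨r, t⟩, rfl⟩
      have e : PresentedGroup.of (rels := D.steinbergRels F) (r, t) = D.stGen F r.val t := by
        rw [ChevalleyDatum.stGen, ChevalleyDatum.stX, dif_pos r.isLt]
        rfl
      rw [SetLike.mem_coe, Subgroup.mem_comap, e, hF.proj_x]
      exact hF.xg_mem_group _ _
    exact hle (Subgroup.mem_top g)

theorem projQ_x (r : ℕ) (t : F) : hF.projQ F (D.stGen F r t) = hF.xq r t :=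
  Subtype.ext (hF.proj_x r t)

theorem projQ_ker : (hF.projQ F).ker = (hF.proj F).ker := by
  ext z
  rw [MonoidHom.mem_ker, MonoidHom.mem_ker, ← OneMemClass.coe_eq_one]
  rfl

theorem projQ_surjective : Function.Surjective (hF.projQ F) := by
  intro q
  have hle : D.group F ≤ (hF.proj F).range := by
    rw [hF.group_eq]
    refine (Subgroup.closure_le _).2 ?_
    rintro _ ⟨⟨r, t⟩, rfl⟩
    exact ⟨_, hF.proj_x r t⟩
  obtain ⟨g, hg⟩ := hle q.2
  exact ⟨g, Subtype.ext hg⟩

/-- Every stem extension is an image of the presented group. -/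
theorem stem_hom [Finite F] (hH : StHyp D) {Γ : Type*} [Group Γ] (σ : Γ →* ↥(D.group F))
    (hσ : Cfsg.IsStemExtension σ)
    (hlift : ∀ C : Central Γ ↥(D.group F), HasLift hF C) :
    ∃ ρ : D.SteinbergGroup F →* Γ, Function.Surjective ρ ∧ σ.comp ρ = hF.projQ F := by
  obtain ⟨hsurj, hcent, hcomm⟩ := hσ
  obtain ⟨S, hS⟩ := hlift ⟨σ, hsurj, hcent⟩
  have hS' : ∀ r t, σ (S.x r t) = hF.xq r t := hS
  obtain ⟨ρ, hρ⟩ := hF.exists_hom hH S ((D.group F).subtype.comp σ) fun r t =>
    congrArg Subtype.val (hS' r t)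
  have hcomp : σ.comp ρ = hF.projQ F := by
    refine PresentedGroup.ext fun ⟨r, t⟩ => ?_
    have e : PresentedGroup.of (rels := D.steinbergRels F) (r, t) = D.stGen F r.val t := by
      rw [ChevalleyDatum.stGen, ChevalleyDatum.stX, dif_pos r.isLt]
      rfl
    rw [MonoidHom.comp_apply, e, hρ, hS', hF.projQ_x]
  refine ⟨ρ, ?_, hcomp⟩
  have hmod : ∀ g : Γ, ∃ a, ∃ z ∈ Subgroup.center Γ, g = ρ a * z := fun g => by
    obtain ⟨a, ha⟩ := hF.projQ_surjective (σ g)
    refine ⟨a, (ρ a)⁻¹ * g, hcent ?_, (mul_inv_cancel_left _ _).symm⟩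
    rw [MonoidHom.mem_ker, map_mul, map_inv, ← MonoidHom.comp_apply, hcomp, ha, inv_mul_cancel]
  have hle : commutator Γ ≤ ρ.range := by
    rw [commutator_def, Subgroup.commutator_le]
    intro x _ y _
    obtain ⟨a, z, hz, rfl⟩ := hmod x
    obtain ⟨b, w, hw, rfl⟩ := hmod y
    let C : Central Γ ↥(D.group F) := ⟨σ, hsurj, hcent⟩
    have hz' : ∀ {g z : Γ}, z ∈ Subgroup.center Γ → ∀ h : Γ, ⁅g * z, h⁆ = ⁅g, h⁆ := fun {g z} hz h => by
      rw [commutatorElement_def, commutatorElement_def, mul_assoc g z h,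
        ← Subgroup.mem_center_iff.1 hz h]
      group
    rw [hz' hz, ← commutatorElement_inv, hz' hw, commutatorElement_inv, ← map_commutatorElement]
    exact ⟨_, rfl⟩
  intro g
  obtain ⟨a, ha⟩ := hF.projQ_surjective (σ g)
  have hk : (ρ a)⁻¹ * g ∈ σ.ker := by
    rw [MonoidHom.mem_ker, map_mul, map_inv, ← MonoidHom.comp_apply, hcomp, ha, inv_mul_cancel]
  obtain ⟨b, hb⟩ := hle (hcomm hk)
  exact ⟨a * b, by rw [map_mul, hb, mul_inv_cancel_left]⟩

/-- The kernel of a stem extension is the image of the kernel of the projection. -/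
theorem stem_ker [Finite F] (hH : StHyp D) {Γ : Type*} [Group Γ] (σ : Γ →* ↥(D.group F))
    (hσ : Cfsg.IsStemExtension σ)
    (hlift : ∀ C : Central Γ ↥(D.group F), HasLift hF C) :
    ∃ ρ : D.SteinbergGroup F →* Γ, σ.ker = (hF.proj F).ker.map ρ := by
  obtain ⟨ρ, hsurj, hcomp⟩ := hF.stem_hom hH σ hσ hlift
  refine ⟨ρ, ?_⟩
  rw [← hF.projQ_ker, ← hcomp, ← MonoidHom.comap_ker, Subgroup.map_comap_eq_self_of_surjective hsurj]

include hF in
theorem finite_steinberg [Finite F] (hH : StHyp D) : Finite (D.SteinbergGroup F) := by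
  obtain ⟨ψ, -, -, hψ⟩ := hF.exists_st_torus hH (F := F)
  have hle : (hF.proj F).ker ≤ ψ.range := (hF.ker_le_H hH).trans ((hF.H_le_H0 hH).trans hψ)
  have hfin : Finite ↥ψ.range := Finite.of_surjective ψ.rangeRestrict ψ.rangeRestrict_surjective
  have : Finite ↥(hF.proj F).ker := Finite.of_injective _ (Subgroup.inclusion_injective hle)
  have : Finite ↥(hF.proj F).range := inferInstance
  have : Finite (D.SteinbergGroup F ⧸ (hF.proj F).ker) :=
    Finite.of_equiv _ (QuotientGroup.quotientKerEquivRange (hF.proj F)).toEquiv.symm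
  exact Finite.of_subgroup_quotient (hF.proj F).ker

theorem ker_eq_bot [Finite F] (hH : StHyp D) (K : KerCert (cartanSys D) (k := 0) ![]) :
    (hF.proj F).ker = ⊥ := by
  rw [Subgroup.eq_bot_iff_forall]
  intro g hg
  refine hF.H0_torus hH (hF.H_le_H0 hH (hF.ker_le_H hH hg)) ?_ hg
  refine (injective_iff_map_eq_one _).2 fun c hc => ?_
  rw [coe_torus_eq_one, hF.torChar_eq_one_iff] at hc
  have h : ∀ s, ∑ m, cartanSys D s m • Additive.ofMul (c m) = 0 := fun s => by
    have := congrArg Additive.ofMul (hc s)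
    rw [torChar, ofMul_prod, ofMul_one] at this
    exact this
  funext m
  have hsub : Subsingleton ((a : Fin 0) → {z : Additive Fˣ // ((![] : Fin 0 → ℕ) a) • z = 0}) := inferInstance
  have e := K.equiv.injective (a₁ := ⟨fun m => Additive.ofMul (c m), h⟩) (a₂ := ⟨0, by simp⟩)
    (Subsingleton.elim _ _)
  exact Additive.ofMul.injective (congrFun (congrArg Subtype.val e) m)

end Facts

end Cfsg.Agent.Lie
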