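import Cfsg.Agent.Lib.Lie.MinusculeRep
import Cfsg.Agent.Lib.Lie.MinusculeTables
import Cfsg.Agent.Lib.Lie.CTCertE6
import Cfsg.Agent.Lib.Lie.CTCertE7

/-!
The minuscule representations of E6 and E7 checked on rank two subsystems.
-/

set_option autoImplicit false
set_option Elab.async false
set_option maxRecDepth 100000
set_option maxHeartbeats 0

namespace Cfsg.Agent.Lie

open Cfsg.Lie

theorem minRepE6 : MinRep chevE6 :=
  ⟨ctFullE6, 27, minTabE6, minInvE6, by decide +kernel, by decide +kernel, by decide +kernel, by decide +kernel⟩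

theorem minRepE7 : MinRep chevE7 :=
  ⟨ctFullE7, 56, minTabE7, minInvE7, by decide +kernel, by decide +kernel, by decide +kernel, by decide +kernel⟩

end Cfsg.Agent.Lie
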