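import Mathlib
import Cfsg.Agent.Lib.Small.AltOrders
import Cfsg.Agent.Lib.Lead.SemiSpec
import Cfsg.Agent.Lib.Lie.FibrePower

/-!
The symmetric group of degree 8 and `2⁶ ⋊ A₈` have the same element orders.
-/

set_option autoImplicit false
set_option maxRecDepth 100000

namespace Cfsg.Agent.Lie.EightHeart

open Small.AltOrders

/-- The common set of element orders. -/
def orders : Finset ℕ := {1, 2, 3, 4, 5, 6, 7, 8, 10, 12, 15}

theorem types_eight : ∀ p ∈ types 4 8, p.1 ∈ orders ∧ (p.2 = 0 → p.1 ∈ [1, 2, 3, 4, 5, 6, 7, 15]) := by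
  decide +kernel

theorem card_le_four {σ : Equiv.Perm (Fin 8)} : Multiset.card σ.cycleType ≤ 4 ∧ σ.cycleType.sum ≤ 8 := by
  have hs : σ.cycleType.sum ≤ 8 := by simpa using Equiv.Perm.sum_cycleType_le σ
  have h := Multiset.card_nsmul_le_sum (fun a => Equiv.Perm.two_le_of_mem_cycleType (σ := σ) (n := a))
  rw [smul_eq_mul] at h
  exact ⟨by omega, hs⟩

theorem spectrum_S8 : Set.range (orderOf : Equiv.Perm (Fin 8) → ℕ) = orders := by
  apply Set.Subset.antisymm
  · rintro _ ⟨g, rfl⟩
    have h := (types_eight _ (types_spec 4 8 g.cycleType card_le_four.1 card_le_four.2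
      fun a => Equiv.Perm.two_le_of_mem_cycleType)).1
    rwa [Finset.mem_coe, ← Equiv.Perm.lcm_cycleType]
  · have mk : ∀ m : Multiset ℕ, m.sum ≤ 8 → (∀ a ∈ m, 2 ≤ a) →
        ∀ k, m.lcm = k → k ∈ Set.range (orderOf : Equiv.Perm (Fin 8) → ℕ) := by
      intro m h1 h2 k hk
      obtain ⟨g, hg⟩ := (Equiv.Perm.exists_with_cycleType_iff (Fin 8) (m := m)).mpr ⟨by simpa using h1, h2⟩
      exact ⟨g, (Equiv.Perm.lcm_cycleType g).symm.trans ((congrArg Multiset.lcm hg).trans hk)⟩
    intro k hk
    simp only [orders, Finset.coe_insert, Finset.coe_singleton, Set.mem_insert_iff, Set.mem_singleton_iff] at hk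
    rcases hk with rfl | rfl | rfl | rfl | rfl | rfl | rfl | rfl | rfl | rfl | rfl
    · exact mk 0 (by decide) (by decide) _ (by decide)
    · exact mk {2} (by decide) (by decide) _ (by decide)
    · exact mk {3} (by decide) (by decide) _ (by decide)
    · exact mk {4} (by decide) (by decide) _ (by decide)
    · exact mk {5} (by decide) (by decide) _ (by decide)
    · exact mk {6} (by decide) (by decide) _ (by decide)
    · exact mk {7} (by decide) (by decide) _ (by decide)
    · exact mk {8} (by decide) (by decide) _ (by decide)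
    · exact mk {5, 2} (by decide) (by decide) _ (by decide)
    · exact mk {4, 3} (by decide) (by decide) _ (by decide)
    · exact mk {5, 3} (by decide) (by decide) _ (by decide)

/-- The heart of the permutation module, normalised to vanish at the last point. -/
def heart : AddSubgroup (Fin 8 → ZMod 2) where
  carrier := {f | f 7 = 0 ∧ ∑ i, f i = 0}
  zero_mem' := ⟨rfl, by simp⟩
  add_mem' {f g} hf hg := ⟨by simp [hf.1, hg.1], by simp [Finset.sum_add_distrib, hf.2, hg.2]⟩
  neg_mem' {f} hf := ⟨by simp [hf.1], by simp [hf.2]⟩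

/-- Move and renormalise. -/
def actFn (σ : Equiv.Perm (Fin 8)) (f : Fin 8 → ZMod 2) : Fin 8 → ZMod 2 :=
  fun i => f (σ⁻¹ i) - f (σ⁻¹ 7)

theorem actFn_mem (σ : Equiv.Perm (Fin 8)) {f : Fin 8 → ZMod 2} (hf : f ∈ heart) : actFn σ f ∈ heart :=
  ⟨sub_self _, by
    simp only [actFn, Finset.sum_sub_distrib, Finset.sum_const, Finset.card_univ, Fintype.card_fin]
    rw [Equiv.sum_comp σ⁻¹ f, hf.2]
    simp [show (8 : ZMod 2) = 0 by decide]⟩

instance : DistribMulAction (alternatingGroup (Fin 8)) heart where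
  smul σ v := ⟨actFn σ v, actFn_mem _ v.2⟩
  one_smul v := Subtype.ext (funext fun i => by
    show actFn ((1 : alternatingGroup (Fin 8)) : Equiv.Perm (Fin 8)) v i = v.1 i
    simp [actFn, v.2.1])
  mul_smul σ τ v := Subtype.ext (funext fun i => by
    show actFn ((σ * τ : alternatingGroup (Fin 8)) : Equiv.Perm (Fin 8)) v i = actFn σ (actFn τ v) i
    simp [actFn, mul_inv_rev])
  smul_zero σ := Subtype.ext (funext fun i => by
    show actFn (σ : Equiv.Perm (Fin 8)) 0 i = 0
    simp [actFn])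
  smul_add σ v w := Subtype.ext (funext fun i => by
    show actFn (σ : Equiv.Perm (Fin 8)) (v.1 + w.1) i = actFn σ v.1 i + actFn σ w.1 i
    simp only [actFn, Pi.add_apply]
    abel)

instance : Nontrivial heart :=
  ⟨⟨fun i => if i = 0 ∨ i = 1 then 1 else 0, by decide, by decide⟩, 0, fun h =>
    absurd (congrFun (congrArg Subtype.val h) 0) (by decide)⟩

theorem two_nsmul_eq (v : heart) : 2 • v = 0 :=
  Subtype.ext (funext fun i => by
    show 2 • v.1 i = 0
    rw [two_nsmul]; exact CharTwo.add_self_eq_zero _)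

/-- A permutation whose invariant even sets are trivial. -/
def Rigid (r : Equiv.Perm (Fin 8)) : Prop :=
  ∀ f : Fin 8 → ZMod 2, (∀ i, f (r i) = f i) → ∑ i, f i = 0 → ∀ i, f i = f 7

instance (r : Equiv.Perm (Fin 8)) : Decidable (Rigid r) := inferInstanceAs (Decidable (∀ f, _))

/-- A seven-cycle. -/
def r7 : Equiv.Perm (Fin 8) :=
  Equiv.swap 0 1 * Equiv.swap 1 2 * Equiv.swap 2 3 * Equiv.swap 3 4 * Equiv.swap 4 5 * Equiv.swap 5 6

/-- A five-cycle times a three-cycle. -/
def r15 : Equiv.Perm (Fin 8) :=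
  Equiv.swap 0 1 * Equiv.swap 1 2 * Equiv.swap 2 3 * Equiv.swap 3 4 * (Equiv.swap 5 6 * Equiv.swap 6 7)

theorem rigid_r7 : Rigid r7 := by decide +kernel

theorem rigid_r15 : Rigid r15 := by decide +kernel

theorem orderOf_r7 : orderOf r7 = 7 := by
  refine (orderOf_eq_iff (by norm_num)).2 ⟨by decide +kernel, ?_⟩
  intro m hm hpos
  interval_cases m <;> decide +kernel

theorem orderOf_r15 : orderOf r15 = 15 := by
  refine orderOf_eq_of_pow_and_pow_div_prime (by norm_num) (by decide +kernel) fun p hp hd => ?_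
  have := Nat.le_of_dvd (by norm_num) hd
  interval_cases p <;> first | decide +kernel | (exfalso; exact absurd hp (by norm_num))

theorem sum_zero_of_two_le {m : Multiset ℕ} (h2 : ∀ a ∈ m, 2 ≤ a) (h : m.sum ≤ 1) : m = 0 := by
  by_contra hm
  obtain ⟨a, ha⟩ := Multiset.exists_mem_of_ne_zero hm
  have := Multiset.le_sum_of_mem ha
  have := h2 a ha
  omega

theorem cycleType_seven {σ : Equiv.Perm (Fin 8)} (h : orderOf σ = 7) : σ.cycleType = {7} := by
  obtain ⟨-, hs⟩ := card_le_four (σ := σ)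
  rw [← Equiv.Perm.lcm_cycleType] at h
  obtain ⟨a, ha, h7⟩ := prime_dvd_lcm (by norm_num : Nat.Prime 7) (m := σ.cycleType) (by rw [h])
  have h2 := fun a => Equiv.Perm.two_le_of_mem_cycleType (σ := σ) (n := a)
  have ha2 := h2 a ha
  have hle := (Multiset.le_sum_of_mem ha).trans hs
  obtain rfl : a = 7 := by obtain ⟨c, rfl⟩ := h7; omega
  rw [← Multiset.cons_erase ha] at hs ⊢
  rw [Multiset.sum_cons] at hs
  rw [sum_zero_of_two_le (fun b hb => h2 b (Multiset.mem_of_mem_erase hb)) (by omega)]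
  rfl

theorem cycleType_fifteen {σ : Equiv.Perm (Fin 8)} (h : orderOf σ = 15) : σ.cycleType = {5, 3} := by
  obtain ⟨-, hs⟩ := card_le_four (σ := σ)
  rw [← Equiv.Perm.lcm_cycleType] at h
  have h2 := fun a => Equiv.Perm.two_le_of_mem_cycleType (σ := σ) (n := a)
  obtain ⟨a, ha, h5⟩ := prime_dvd_lcm (by norm_num : Nat.Prime 5) (m := σ.cycleType) (by rw [h]; norm_num)
  obtain ⟨b, hb, h3⟩ := prime_dvd_lcm (by norm_num : Nat.Prime 3) (m := σ.cycleType) (by rw [h]; norm_num)
  have ha15 : a ∣ 15 := h ▸ Multiset.dvd_lcm ha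
  have hb15 : b ∣ 15 := h ▸ Multiset.dvd_lcm hb
  have hla := (Multiset.le_sum_of_mem ha).trans hs
  have hlb := (Multiset.le_sum_of_mem hb).trans hs
  obtain rfl : a = 5 := by have := h2 a ha; interval_cases a <;> omega
  obtain rfl : b = 3 := by have := h2 b hb; interval_cases b <;> omega
  have hb' : 3 ∈ σ.cycleType.erase 5 := (Multiset.mem_erase_of_ne (by norm_num)).2 hb
  rw [← Multiset.cons_erase ha, ← Multiset.cons_erase hb'] at hs ⊢
  rw [Multiset.sum_cons, Multiset.sum_cons] at hs
  rw [sum_zero_of_two_le (fun b hb => h2 b (Multiset.mem_of_mem_erase (Multiset.mem_of_mem_erase hb))) (by omega)]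
  rfl

theorem rigid_of_order {σ : Equiv.Perm (Fin 8)} (h : orderOf σ = 7 ∨ orderOf σ = 15) : Rigid σ := by
  obtain ⟨r, hr, he⟩ : ∃ r, Rigid r ∧ r.cycleType = σ.cycleType := by
    rcases h with h | h
    · exact ⟨r7, rigid_r7, (cycleType_seven orderOf_r7).trans (cycleType_seven h).symm⟩
    · exact ⟨r15, rigid_r15, (cycleType_fifteen orderOf_r15).trans (cycleType_fifteen h).symm⟩
  obtain ⟨c, rfl⟩ := isConj_iff.1 (Equiv.Perm.isConj_iff_cycleType_eq.2 he)
  intro f hf hsum i
  have hc := hr (f ∘ c) (fun j => by simpa using hf (c j)) (by simpa [Equiv.sum_comp c f] using hsum)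
  have e : ∀ j, f j = f (c 7) := fun j => by simpa using hc (c⁻¹ j)
  exact (e i).trans (e 7).symm

/-- Elements of order 7 and 15 fix no nonzero vector. -/
theorem fpf {h : alternatingGroup (Fin 8)} (ho : orderOf h = 7 ∨ orderOf h = 15) (v : heart)
    (hv : h • v = v) : v = 0 := by
  have hσ : orderOf (h : Equiv.Perm (Fin 8)) = 7 ∨ orderOf (h : Equiv.Perm (Fin 8)) = 15 := by
    rwa [Subgroup.orderOf_coe]
  set σ := (h : Equiv.Perm (Fin 8))
  set c := v.1 (σ⁻¹ 7)
  have e : ∀ j, v.1 (σ⁻¹ j) = v.1 j + c := fun j => by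
    have := congrFun (congrArg Subtype.val hv) j
    change v.1 (σ⁻¹ j) - c = v.1 j at this
    rw [← this, sub_add_cancel]
  have hk : ∀ (n : ℕ) j, v.1 ((σ⁻¹ ^ n) j) = v.1 j + n • c := by
    intro n
    induction n with
    | zero => intro j; simp
    | succ n ih => intro j; rw [pow_succ', Equiv.Perm.mul_apply, e, ih, succ_nsmul, add_assoc]
  have hc0 : c = 0 := by
    have := hk (orderOf σ) 7
    rw [inv_pow, pow_orderOf_eq_one, inv_one, Equiv.Perm.one_apply] at this
    have h' := left_eq_add.1 this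
    rcases hσ with h'' | h'' <;> rw [h''] at h' <;> generalize c = x at h' ⊢ <;> revert x <;> decide
  have hinv : ∀ j, v.1 (σ j) = v.1 j := fun j => by
    have := e (σ j)
    simpa [hc0] using this.symm
  exact Subtype.ext (funext fun i => (rigid_of_order hσ v.1 hinv v.2.2 i).trans v.2.1)

theorem orderOf_alt (h : alternatingGroup (Fin 8)) : orderOf h ∈ [1, 2, 3, 4, 5, 6, 7, 15] := by
  obtain ⟨hev, -, hl, h2⟩ := cycleType_facts h
  rw [hl]
  exact (types_eight _ (types_spec 4 8 _ card_le_four.1 card_le_four.2 h2)).2 hev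

/-- Indicator vector of two points. -/
def pairVec (a b : Fin 8) (h : (fun i => if i = a ∨ i = b then (1 : ZMod 2) else 0) ∈ heart) : heart := ⟨_, h⟩

theorem exists_witness : ∀ n ∈ [4, 5, 6], ∃ h : alternatingGroup (Fin 8), orderOf h = n ∧ ∃ v : heart,
    ∑ i ∈ Finset.range n, (h ^ i) • v ≠ 0 := by
  have key : ∀ (σ : Equiv.Perm (Fin 8)) (hσ : σ ∈ alternatingGroup (Fin 8)) (n : ℕ) (v : heart), 0 < n →
      σ ^ n = 1 → (∀ m < n, 0 < m → σ ^ m ≠ 1) →
      (∃ j : Fin 8, ∑ i ∈ Finset.range n, actFn (σ ^ i) v.1 j ≠ 0) →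
      ∃ h : alternatingGroup (Fin 8), orderOf h = n ∧ ∃ v : heart, ∑ i ∈ Finset.range n, (h ^ i) • v ≠ 0 := by
    intro σ hσ n v hn h1 h2 ⟨j, hj⟩
    refine ⟨⟨σ, hσ⟩, ?_, v, fun e => hj ?_⟩
    · rw [← Subgroup.orderOf_coe]
      exact (orderOf_eq_iff hn).2 ⟨h1, h2⟩
    · have := congrFun (congrArg Subtype.val e) j
      rw [AddSubgroup.val_finsetSum, Finset.sum_apply] at this
      exact this
  intro n hn
  simp only [List.mem_cons, List.not_mem_nil, or_false] at hn
  rcases hn with rfl | rfl | rfl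
  · refine key (Equiv.swap 0 1 * Equiv.swap 1 2 * Equiv.swap 2 3 * Equiv.swap 4 5) (by rw [Equiv.Perm.mem_alternatingGroup]; decide +kernel) 4
      (pairVec 3 6 ⟨by decide, by decide⟩) (by norm_num) (by decide +kernel) ?_ (by decide +kernel)
    intro m hm hpos
    interval_cases m <;> decide +kernel
  · refine key (Equiv.swap 0 1 * Equiv.swap 1 2 * Equiv.swap 2 3 * Equiv.swap 3 4) (by rw [Equiv.Perm.mem_alternatingGroup]; decide +kernel) 5
      (pairVec 5 6 ⟨by decide, by decide⟩) (by norm_num) (by decide +kernel) ?_ (by decide +kernel)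
    intro m hm hpos
    interval_cases m <;> decide +kernel
  · refine key (Equiv.swap 0 1 * Equiv.swap 1 2 * Equiv.swap 3 4 * Equiv.swap 5 6) (by rw [Equiv.Perm.mem_alternatingGroup]; decide +kernel) 6
      (pairVec 4 6 ⟨by decide, by decide⟩) (by norm_num) (by decide +kernel) ?_ (by decide +kernel)
    intro m hm hpos
    interval_cases m <;> decide +kernel

theorem spectrum_semi : Set.range (orderOf : SemiSpec.Semi (alternatingGroup (Fin 8)) heart → ℕ) = orders := by
  ext m
  rw [Finset.mem_coe]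
  constructor
  · rintro ⟨x, rfl⟩
    have hd : ∀ n ∈ [7, 8, 10, 12, 15], ∀ d ∈ n.divisors, d ∈ orders := by decide
    have key : ∀ n ∈ [7, 8, 10, 12, 15], orderOf x ∣ n → orderOf x ∈ orders := fun n hn h =>
      hd n hn _ (Nat.mem_divisors.2 ⟨h, fun e => by subst e; simp at hn⟩)
    have h2 := SemiSpec.orderOf_dvd_mul two_nsmul_eq x
    have h := orderOf_alt x.right
    simp only [List.mem_cons, List.not_mem_nil, or_false] at h
    rcases h with h | h | h | h | h | h | h | h
    all_goals rw [h] at h2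
    · exact key 8 (by decide) (h2.trans (by norm_num))
    · exact key 8 (by decide) (h2.trans (by norm_num))
    · exact key 12 (by decide) (h2.trans (by norm_num))
    · exact key 8 (by decide) h2
    · exact key 10 (by decide) h2
    · exact key 12 (by decide) h2
    · exact key 7 (by decide) (by rw [SemiSpec.orderOf_eq_of_fpf x (fpf (Or.inl h)), h])
    · exact key 15 (by decide) (by rw [SemiSpec.orderOf_eq_of_fpf x (fpf (Or.inr h)), h])
  · intro hm
    have top : ∀ n ∈ [7, 8, 10, 12, 15], ∃ x : SemiSpec.Semi (alternatingGroup (Fin 8)) heart, orderOf x = n := by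
      intro n hn
      simp only [List.mem_cons, List.not_mem_nil, or_false] at hn
      have dbl : ∀ k ∈ [4, 5, 6], ∃ x : SemiSpec.Semi (alternatingGroup (Fin 8)) heart, orderOf x = 2 * k := by
        intro k hk
        obtain ⟨h, ho, v, hv⟩ := exists_witness k hk
        subst ho
        exact ⟨_, SemiSpec.orderOf_el Nat.prime_two two_nsmul_eq v h hv⟩
      rcases hn with rfl | rfl | rfl | rfl | rfl
      · exact ⟨_, (SemiSpec.orderOf_el_zero (V := heart) (⟨r7, by rw [Equiv.Perm.mem_alternatingGroup]; decide +kernel⟩ : alternatingGroup (Fin 8))).trans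
          ((Subgroup.orderOf_mk r7 _).trans orderOf_r7)⟩
      · exact dbl 4 (by decide)
      · exact dbl 5 (by decide)
      · exact dbl 6 (by decide)
      · exact ⟨_, (SemiSpec.orderOf_el_zero (V := heart) (⟨r15, by rw [Equiv.Perm.mem_alternatingGroup]; decide +kernel⟩ : alternatingGroup (Fin 8))).trans
          ((Subgroup.orderOf_mk r15 _).trans orderOf_r15)⟩
    have hd : ∀ m ∈ orders, ∃ n ∈ [7, 8, 10, 12, 15], m ∣ n := by decide
    obtain ⟨n, hn, hmn⟩ := hd m hm
    obtain ⟨x, hx⟩ := top n hn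
    have hn0 : orderOf x ≠ 0 := by rw [hx]; rintro rfl; simp at hn
    exact ⟨x ^ (orderOf x / m), orderOf_pow_orderOf_div hn0 (hx.symm ▸ hmn)⟩

/-- Arbitrarily large groups with these element orders. -/
theorem exists_large (N : ℕ) : ∃ (H : Type) (_ : Group H) (_ : Fintype H), N < Fintype.card H ∧
    Set.range (orderOf : H → ℕ) = orders := by
  haveI : Finite (SemiSpec.Semi (alternatingGroup (Fin 8)) heart) := SemiSpec.finite_semi _ _
  haveI := SemiSpec.base_normal (alternatingGroup (Fin 8)) heart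
  rw [← spectrum_semi]
  exact exists_large_isospectral (SemiSpec.base (alternatingGroup (Fin 8)) heart)
    (SemiSpec.base_ne_bot _ _) Nat.prime_two (SemiSpec.base_pow _ _ two_nsmul_eq) N

end Cfsg.Agent.Lie.EightHeart
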