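import Cfsg.Agent.Lib.Lie.Sparse
import Cfsg.Prelude.Def_ChevStructure

/-!
The matrices x_r(t) of a Chevalley datum as `1 +` a sparse term list.
-/

set_option autoImplicit false

namespace Cfsg.Agent.Lie

open Cfsg.Lie

variable (D : ChevalleyDatum)

/-- Coordinates of the datum as numbers below rank + nroots. -/
def idxEquiv : D.Idx ≃ Fin (D.rank + D.nroots) := finSumFinEquiv

/-- Entries coming from the column of `h_{p_i}`. -/
def entCartan (r : ℕ) : List Tm :=
  ((List.range D.rank).map fun i =>
    (⟨D.rank + r, i, 1, 0, -(D.cartanSR.getD i #[]).getD r 0⟩ : Tm)).filter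
      fun m => decide (m.c ≠ 0)

/-- Entries coming from the column of `e_{-r}`. -/
def entOpp (r : ℕ) : List Tm :=
  if D.negIdx.getD r 0 ≠ r ∧ D.negIdx.getD r 0 < D.nroots then
    (((List.range D.rank).map fun i =>
      (⟨i, D.rank + D.negIdx.getD r 0, 1, 0, (D.coroot.getD r #[]).getD i 0⟩ : Tm)).filter
        fun m => decide (m.c ≠ 0)) ++
    [⟨D.rank + r, D.rank + D.negIdx.getD r 0, 2, 0, -1⟩]
  else []

/-- Entries coming from the chain table. -/
def entChain (r : ℕ) : List Tm :=
  (fun nr : ℕ =>
    (D.chain.getD r #[]).toList.flatMap fun e =>
      if e.1 ≠ r ∧ e.1 ≠ nr ∧ e.1 < D.nroots then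
        (e.2.toList.zipIdx.filter fun q => Nat.blt q.1.1 D.nroots).map fun q =>
          (⟨D.rank + q.1.1, D.rank + e.1, q.2 + 1, 0, q.1.2⟩ : Tm)
      else []) (D.negIdx.getD r 0)

/-- The terms of x_r(t) − 1 in the first variable. -/
def ent (r : ℕ) : List Tm :=
  if r < D.nroots then entCartan D r ++ (entOpp D r ++ entChain D r) else []

variable (F : Type*) [Field F]

/-- Value of a term list in the coordinates of the datum. -/
noncomputable abbrev ev (t u : F) (L : List Tm) : Matrix D.Idx D.Idx F := evL (idxEquiv D) t u L

theorem idx_inl (i : Fin D.rank) : (idxEquiv D (Sum.inl i) : ℕ) = i := by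
  simp [idxEquiv]

theorem idx_inr (s : Fin D.nroots) : (idxEquiv D (Sum.inr s) : ℕ) = D.rank + s := by
  simp [idxEquiv]

theorem tm_ev_apply (t u : F) (m : Tm) (p q : D.Idx) :
    m.ev (idxEquiv D) t u p q =
      if (idxEquiv D p : ℕ) = m.row ∧ (idxEquiv D q : ℕ) = m.col then
        (m.c : F) * t ^ m.a * u ^ m.b else 0 := by
  simp [Tm.ev, matUnit_apply]

theorem evL_apply (t u : F) (L : List Tm) (p q : D.Idx) :
    evL (idxEquiv D) t u L p q = (L.map fun m => m.ev (idxEquiv D) t u p q).sum := by
  induction L with
  | nil => simp
  | cons x L ih => simp [ih]

theorem sum_eq_zero_of {α : Type*} {M : Type*} [AddCommMonoid M] (L : List α) (f : α → M)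
    (h : ∀ x ∈ L, f x = 0) : (L.map f).sum = 0 := by
  induction L with
  | nil => simp
  | cons x L ih => simp [h x (by simp), ih (fun y hy => h y (List.mem_cons_of_mem _ hy))]

theorem sum_filter_ne_zero (L : List Tm) (f : Tm → F) (h : ∀ m, m.c = 0 → f m = 0) :
    ((L.filter fun m => decide (m.c ≠ 0)).map f).sum = (L.map f).sum := by
  induction L with
  | nil => simp
  | cons x L ih =>
    simp only [List.filter_cons, List.map_cons, List.sum_cons]
    by_cases hx : x.c = 0
    · rw [if_neg (by simp [hx]), ih, h x hx, zero_add]
    · rw [if_pos (by simp [hx]), List.map_cons, List.sum_cons, ih]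

theorem sum_range_ite {n : ℕ} (g : ℕ → F) (i : ℕ) (hi : i < n) :
    ((List.range n).map fun j => if i = j then g j else 0).sum = g i := by
  induction n with
  | zero => omega
  | succ n ih =>
    rw [List.range_succ, List.map_append, List.sum_append]
    by_cases h : i = n
    · subst h
      rw [sum_eq_zero_of _ _ (fun j hj => if_neg (by simp at hj; omega))]
      simp
    · simp [ih (by omega), h]

theorem entCartan_apply (r : ℕ) (t u : F) (p q : D.Idx) :
    evL (idxEquiv D) t u (entCartan D r) p q =
      match q with
      | Sum.inl i => if (idxEquiv D p : ℕ) = D.rank + r then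
          -(((D.cartanSR.getD i.val #[]).getD r 0 : ℤ) : F) * t else 0
      | Sum.inr _ => 0 := by
  rw [evL_apply, entCartan, sum_filter_ne_zero F _ _ (fun m hm => by simp [tm_ev_apply, hm]),
    List.map_map]
  cases q with
  | inl i =>
    simp only [Function.comp_def, tm_ev_apply, idx_inl]
    by_cases hp : (idxEquiv D p : ℕ) = D.rank + r
    · simp only [hp, true_and, if_true]
      rw [sum_range_ite F _ _ i.isLt]
      simp
    · simp [hp]
  | inr s =>
    apply sum_eq_zero_of
    intro j hj
    have : D.rank + (s : ℕ) ≠ j := by simp at hj; omega
    simp [tm_ev_apply, idx_inr, this]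

theorem entOpp_apply (r : ℕ) (t u : F) (p q : D.Idx) :
    evL (idxEquiv D) t u (entOpp D r) p q =
      match q with
      | Sum.inl _ => 0
      | Sum.inr s => if s.val = D.negIdx.getD r 0 ∧ s.val ≠ r then
          (match p with
          | Sum.inl i => (((D.coroot.getD r #[]).getD i.val 0 : ℤ) : F) * t
          | Sum.inr v => if v.val = r then -(t ^ 2) else 0)
          else 0 := by
  unfold entOpp
  generalize D.negIdx.getD r 0 = nr
  generalize hco : (D.coroot.getD r #[]) = co
  split_ifs with hg
  · rw [evL_append]
    simp only [Matrix.add_apply, evL_apply, List.map_cons, List.map_nil, List.sum_cons,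
      List.sum_nil, add_zero]
    rw [sum_filter_ne_zero F _ _ (fun m hm => by simp [tm_ev_apply, hm]), List.map_map]
    simp only [Function.comp_def, tm_ev_apply]
    cases q with
    | inl i =>
      have : (i : ℕ) ≠ D.rank + nr := by have := i.isLt; omega
      simp [idx_inl, this]
    | inr s =>
      simp only [idx_inr, Nat.add_left_cancel_iff]
      by_cases hs : s.val = nr
      · have hsr : s.val ≠ r := hs ▸ hg.1
        simp only [hs, and_true, true_and]
        rw [if_pos hg.1]
        cases p with
        | inl i =>
          have : (i : ℕ) ≠ D.rank + r := by have := i.isLt; omega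
          simp only [idx_inl, this, if_false, add_zero]
          rw [sum_range_ite F _ _ i.isLt]
          simp
        | inr v =>
          have h0 : ((List.range D.rank).map fun j => if (idxEquiv D (Sum.inr v) : ℕ) = j then
              (((co.getD j 0 : ℤ) : F) * t ^ 1 * u ^ 0) else 0).sum = 0 := by
            apply sum_eq_zero_of
            intro j hj
            have : D.rank + (v : ℕ) ≠ j := by simp at hj; omega
            simp [idx_inr, this]
          simp only [idx_inr] at h0
          simp only [idx_inr, h0, Nat.add_left_cancel_iff, zero_add]
          split_ifs <;> simp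
      · simp [hs]
  · simp only [evL_nil, Matrix.zero_apply]
    cases q with
    | inl i => rfl
    | inr s =>
      dsimp only
      rw [if_neg]
      rintro ⟨h1, h2⟩
      exact hg ⟨h1 ▸ h2, h1 ▸ s.isLt⟩

theorem chainCoeff_sum (r s v : ℕ) (t : F) :
    ((D.chainCoeff r s v).map fun km => ((km.2 : ℤ) : F) * t ^ km.1).sum =
      (((D.chain.getD r #[]).toList.map fun e => if e.1 = s then
        ((e.2.toList.zipIdx).map fun q => if q.1.1 = v then
          ((q.1.2 : ℤ) : F) * t ^ (q.2 + 1) else 0).sum else 0)).sum := by
  unfold ChevalleyDatum.chainCoeff
  generalize (D.chain.getD r #[]).toList = L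
  induction L with
  | nil => simp
  | cons e L ih =>
    by_cases he : e.1 = s
    · simp only [List.filter_cons_of_pos, he, decide_true, List.flatMap_cons, List.map_append,
        List.sum_append, ih, List.map_cons, List.sum_cons, if_true]
      congr 1
      generalize e.2.toList.zipIdx = L'
      induction L' with
      | nil => simp
      | cons q L' ih' =>
        by_cases hq : q.1.1 = v <;> simp [List.filter_cons, hq] <;> simpa using ih'
    · simp [he, ih]

theorem entChain_apply (r : ℕ) (t u : F) (p q : D.Idx) :
    evL (idxEquiv D) t u (entChain D r) p q =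
      match q, p with
      | Sum.inr s, Sum.inr v => if s.val = r ∨ s.val = D.negIdx.getD r 0 then 0 else
          ((D.chainCoeff r s.val v.val).map fun km => ((km.2 : ℤ) : F) * t ^ km.1).sum
      | _, _ => 0 := by
  unfold entChain
  rw [evL_flatMap]
  cases q with
  | inl i =>
    generalize (D.chain.getD r #[]).toList = L
    induction L with
    | nil => simp
    | cons e L ih =>
      simp only [List.map_cons, List.sum_cons, Matrix.add_apply, ih, add_zero]
      split_ifs
      · rw [evL_apply, List.map_map]
        apply sum_eq_zero_of
        intro x _
        have : (i : ℕ) ≠ D.rank + e.1 := by have := i.isLt; omega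
        simp [tm_ev_apply, idx_inl, this]
      · simp
  | inr s =>
    cases p with
    | inl i =>
      generalize (D.chain.getD r #[]).toList = L
      induction L with
      | nil => simp
      | cons e L ih =>
        simp only [List.map_cons, List.sum_cons, Matrix.add_apply, ih, add_zero]
        split_ifs
        · rw [evL_apply, List.map_map]
          apply sum_eq_zero_of
          intro x _
          have : (i : ℕ) ≠ D.rank + x.1.1 := by have := i.isLt; omega
          simp [tm_ev_apply, idx_inl, this]
        · simp
    | inr v =>
      dsimp only
      by_cases hs : s.val = r ∨ s.val = D.negIdx.getD r 0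
      · rw [if_pos hs]
        generalize (D.chain.getD r #[]).toList = L
        induction L with
        | nil => simp
        | cons e L ih =>
          simp only [List.map_cons, List.sum_cons, Matrix.add_apply, ih, add_zero]
          split_ifs with he
          · rw [evL_apply, List.map_map]
            apply sum_eq_zero_of
            intro x _
            have : (s : ℕ) ≠ e.1 := by rcases hs with h | h <;> rw [h] <;> [exact he.1.symm; exact he.2.1.symm]
            simp [tm_ev_apply, idx_inr, this]
          · simp
      · rw [if_neg hs, chainCoeff_sum]
        generalize (D.chain.getD r #[]).toList = L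
        induction L with
        | nil => simp
        | cons e L ih =>
          simp only [List.map_cons, List.sum_cons, Matrix.add_apply, ih]
          congr 1
          by_cases he : e.1 = s.val
          · rw [if_pos he, if_pos ⟨by omega, by omega, he ▸ s.isLt⟩, evL_apply, List.map_map]
            generalize e.2.toList.zipIdx = L'
            clear ih
            induction L' with
            | nil => simp
            | cons x L' ih' =>
              by_cases hx : x.1.1 < D.nroots
              · simp only [List.map_cons, List.sum_cons, ← ih', List.filter_cons_of_pos,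
                  nblt, hx, decide_true]
                congr 1
                simp [tm_ev_apply, idx_inr, he, eq_comm]
              · have : x.1.1 ≠ v.val := fun h => hx (h ▸ v.isLt)
                simp only [List.map_cons, List.sum_cons, this, if_false, zero_add, ← ih',
                  nblt, hx, decide_false, Bool.false_eq_true, not_false_eq_true,
                  List.filter_cons_of_neg]
          · rw [if_neg he]
            split_ifs with hc
            · rw [evL_apply, List.map_map]
              apply sum_eq_zero_of
              intro x _
              simp [tm_ev_apply, idx_inr, Ne.symm he]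
            · simp

/-- `x_r(t) = 1 + ent r` evaluated at `t`. -/
theorem x_eq (r : ℕ) (t u : F) : D.x F r t = 1 + ev D F t u (ent D r) := by
  unfold ent ChevalleyDatum.x
  by_cases hr : r < D.nroots
  · rw [dif_pos hr, if_pos hr]
    ext p q
    simp only [ev, evL_append, Matrix.add_apply, entCartan_apply, entOpp_apply, entChain_apply]
    simp only [ChevalleyDatum.xMat, Matrix.of_apply]
    generalize D.negIdx.getD r 0 = nr
    cases q with
    | inl i =>
      cases p with
      | inl j => simp [ChevalleyDatum.xMat, Matrix.one_apply, idx_inl, show (j : ℕ) ≠ D.rank + r by have := j.isLt; omega]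
      | inr v => simp [ChevalleyDatum.xMat, Matrix.one_apply, idx_inr, Fin.ext_iff]
    | inr s =>
      by_cases h1 : s.val = r
      · have : s = ⟨r, hr⟩ := Fin.ext h1
        cases p with
        | inl j => simp [ChevalleyDatum.xMat, Matrix.one_apply, this]
        | inr v => simp [ChevalleyDatum.xMat, Matrix.one_apply, this]
      · by_cases h2 : s.val = nr
        · cases p with
          | inl j => simp [ChevalleyDatum.xMat, Matrix.one_apply, Fin.ext_iff, h2, h2 ▸ h1]
          | inr v =>
            simp only [ChevalleyDatum.xMat, Matrix.one_apply, Matrix.of_apply, Fin.ext_iff,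
              Sum.inr.injEq, h2, h2 ▸ h1, ne_eq, not_false_eq_true, and_self, if_true, if_false,
              false_or, zero_add, add_zero]
            by_cases hv : v.val = nr
            · simp [hv, h2 ▸ h1]
            · simp [hv]
        · cases p with
          | inl j => simp [ChevalleyDatum.xMat, Matrix.one_apply, Fin.ext_iff, h1, h2]
          | inr v => simp [ChevalleyDatum.xMat, Matrix.one_apply, Fin.ext_iff, h1, h2]
  · rw [dif_neg hr, if_neg hr]
    simp [ev]

end Cfsg.Agent.Lie
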