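import Cfsg.Agent.Lib.Lie.Checks
import Cfsg.Prelude.Def_ChevAutomorphisms

/-!
The combinatorial facts about a Chevalley datum on which the structure theory rests.
-/

set_option autoImplicit false

namespace Cfsg.Agent.Lie

open Cfsg.Lie

variable (D : ChevalleyDatum)

/-- Coefficient of the coroot h_r on the j-th fundamental coroot. -/
def co (r j : ℕ) : ℤ := (D.coroot.getD r #[]).getD j 0

theorem pairing_eq (r s : ℕ) :
    D.pairing r s = ∑ j ∈ Finset.range D.rank, co D r j * D.cartan j s := by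
  unfold ChevalleyDatum.pairing co
  induction D.rank with
  | zero => simp
  | succ k ih => rw [List.range_succ, List.map_append, List.sum_append, Finset.sum_range_succ, ih]; simp

/-- A linear functional on weights, evaluated at a root. -/
def psiOf (w : ℕ → ℤ) (s : ℕ) : ℤ := ∑ j ∈ Finset.range D.rank, w j * D.cartan j s

/-- Use t for the first variable and 1/t for the second: cancel. -/
def redL (L : List Tm) : List Tm := L.map fun m => ⟨m.row, m.col, m.a - m.b, m.b - m.a, m.c⟩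

/-- The expected terms of n_i(t) − 1. -/
def nTerms (eta : ℕ → ℤ) (i : ℕ) : List Tm :=
  ((List.range D.rank).map fun j => (⟨i, j, 0, 0, -D.cartan j (D.simple i)⟩ : Tm)) ++
    (List.range D.nroots).flatMap fun s =>
      [⟨D.rank + D.reflectRoot i s, D.rank + s, (-D.cartan i s).toNat, (D.cartan i s).toNat, eta s⟩,
       ⟨D.rank + s, D.rank + s, 0, 0, -1⟩]

/-- n_i(t) = x_i(t) x_{-i}(-1/t) x_i(t) has the expected terms. -/
def nCheck (eta : ℕ → ℤ) (i : ℕ) : Bool :=
  eqL
    (redL (uProd (D.rank + D.nroots)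
      [ent D (D.simple i), substVar 0 1 (-1) (ent D (D.neg (D.simple i))), ent D (D.simple i)]))
    (redL (nTerms D eta i))

/-- Everything needed about a datum. -/
structure Facts where
  wt : ℕ → ℤ
  eta : ℕ → ℕ → ℤ
  size_le : D.rank + D.nroots ≤ 512
  even : 2 * (D.nroots / 2) = D.nroots
  neg_eq : ∀ s, s < D.nroots → D.neg s = D.nroots - 1 - s
  pos_iff : ∀ s, s < D.nroots → ((∀ c ∈ (D.coroot.getD s #[]).toList, 0 ≤ c) ↔ D.nroots / 2 ≤ s)
  nonpos_iff : ∀ s, s < D.nroots → ((∀ c ∈ (D.coroot.getD s #[]).toList, c ≤ 0) ↔ s < D.nroots / 2)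
  psi_step : ∀ s, s + 1 < D.nroots → psiOf D wt s < psiOf D wt (s + 1)
  simple_lt : ∀ i, i < D.rank → D.simple i < D.nroots
  simple_ge : ∀ i, i < D.rank → D.nroots / 2 ≤ D.simple i
  cartan_simple : ∀ i, i < D.rank → D.cartan i (D.simple i) = 2
  co_simple : ∀ i, i < D.rank → ∀ j, j < D.rank → co D (D.simple i) j = if j = i then 1 else 0
  cartan_neg : ∀ j, j < D.rank → ∀ s, s < D.nroots → D.cartan j (D.neg s) = -D.cartan j s
  co_neg : ∀ s, s < D.nroots → ∀ j, j < D.rank → co D (D.neg s) j = -co D s j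
  pairing_self : ∀ s, s < D.nroots → D.pairing s s = 2
  co_primitive : ∀ s, s < D.nroots → ∃ d : ℕ → ℤ, ∑ j ∈ Finset.range D.rank, d j * co D s j = 1
  refl_lt : ∀ i, i < D.rank → ∀ s, s < D.nroots → D.reflectRoot i s < D.nroots
  refl_refl : ∀ i, i < D.rank → ∀ s, s < D.nroots → D.reflectRoot i (D.reflectRoot i s) = s
  refl_neg : ∀ i, i < D.rank → ∀ s, s < D.nroots →
    D.reflectRoot i (D.neg s) = D.neg (D.reflectRoot i s)
  refl_pos : ∀ i, i < D.rank → ∀ s, s < D.nroots → D.nroots / 2 ≤ s → s ≠ D.simple i →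
    D.nroots / 2 ≤ D.reflectRoot i s
  cartan_refl : ∀ i, i < D.rank → ∀ s, s < D.nroots → ∀ j, j < D.rank →
    D.cartan j (D.reflectRoot i s) = D.cartan j s - D.cartan i s * D.cartan j (D.simple i)
  co_refl : ∀ i, i < D.rank → ∀ s, s < D.nroots → ∀ j, j < D.rank →
    co D (D.reflectRoot i s) j = co D s j - if j = i then D.pairing s (D.simple i) else 0
  eta_sign : ∀ i, i < D.rank → ∀ s, s < D.nroots → eta i s = 1 ∨ eta i s = -1
  eta_neg : ∀ i, i < D.rank → ∀ s, s < D.nroots → eta i (D.neg s) = eta i s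
  eta_simple : ∀ i, i < D.rank → eta i (D.simple i) = -1
  eta_refl : ∀ i, i < D.rank → ∀ s, s < D.nroots →
    eta i s * eta i (D.reflectRoot i s) = (-1) ^ (D.cartan i s).natAbs
  chain_ne : ∀ s, s < D.nroots → ∀ v, D.chainEntry s v ≠ [] →
    v < D.nroots ∧ v ≠ s ∧ v ≠ D.neg s
  chain_lt : ∀ s, s < D.nroots → ∀ v, ∀ e ∈ D.chainEntry s v, e.1 < D.nroots
  chain_coeff : ∀ s, s < D.nroots → ∀ v u, D.chainCoeff s v u =
    ((D.chainEntry s v).zipIdx.filter fun q => q.1.1 = u).map fun q => (q.2 + 1, q.1.2)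
  chain_refl : ∀ i, i < D.rank → ∀ s, s < D.nroots → ∀ v, v < D.nroots →
    D.chainEntry (D.reflectRoot i s) (D.reflectRoot i v) =
      (D.chainEntry s v).zipIdx.map fun q =>
        (D.reflectRoot i q.1.1, q.1.2 * (eta i s ^ (q.2 + 1) * eta i v * eta i q.1.1))
  chain_cartan : ∀ s, s < D.nroots → ∀ v, ∀ q ∈ (D.chainEntry s v).zipIdx, ∀ j, j < D.rank →
    D.cartan j q.1.1 = D.cartan j v + (q.2 + 1 : ℕ) * D.cartan j s
  chain_div : ∀ s, s < D.nroots → ∀ v, ∀ k, D.chainRoot s v 1 = some k →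
    3 ≤ (D.chainEntry s v).length → 3 ∣ D.chainM k s 2 ∧ 3 ∣ D.chainM k v 2
  n_check : ∀ i, i < D.rank → nCheck D (eta i) i = true
  add_reps : ∀ r, r < D.nroots → (∀ i, i < D.rank → D.reflectRoot i r ≤ r) → addCheck D r = true
  comm_reps : ∀ r, r < D.nroots → ∀ s, s < D.nroots → s ≠ r → s ≠ D.neg r →
    (∀ i, i < D.rank → D.reflectRoot i r ≤ r) →
    (∀ i, i < D.rank → D.reflectRoot i r = r → D.reflectRoot i s ≤ s) → commCheck D r s = true

namespace Facts

variable {D} (hF : Facts D)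

/-- The height functional. -/
abbrev psi (s : ℕ) : ℤ := psiOf D hF.wt s

include hF in
theorem isPosRoot_iff (s : ℕ) : D.IsPosRoot s ↔ D.nroots / 2 ≤ s ∧ s < D.nroots :=
  ⟨fun h => ⟨(hF.pos_iff s h.1).1 h.2, h.1⟩, fun h => ⟨h.2, (hF.pos_iff s h.2).2 h.1⟩⟩

include hF in
theorem isNegRoot_iff (s : ℕ) : D.IsNegRoot s ↔ s < D.nroots / 2 := by
  constructor
  · exact fun h => (hF.nonpos_iff s h.1).1 h.2
  · intro h
    have : s < D.nroots := by omega
    exact ⟨this, (hF.nonpos_iff s this).2 h⟩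

include hF in
theorem neg_lt {s : ℕ} (hs : s < D.nroots) : D.neg s < D.nroots := by
  rw [hF.neg_eq s hs]; omega

include hF in
theorem neg_neg {s : ℕ} (hs : s < D.nroots) : D.neg (D.neg s) = s := by
  rw [hF.neg_eq _ (hF.neg_lt hs), hF.neg_eq s hs]; omega

include hF in
theorem neg_ne_self {s : ℕ} (hs : s < D.nroots) : D.neg s ≠ s := by
  rw [hF.neg_eq s hs]
  have := hF.even
  omega

include hF in
theorem neg_ge_iff {s : ℕ} (hs : s < D.nroots) :
    D.nroots / 2 ≤ D.neg s ↔ s < D.nroots / 2 := by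
  rw [hF.neg_eq s hs]
  have := hF.even
  omega

theorem refl_simple (i : ℕ) : D.reflectRoot i (D.simple i) = D.neg (D.simple i) := by
  simp [ChevalleyDatum.reflectRoot]

theorem psi_lt {r s : ℕ} (h : r < s) (hs : s < D.nroots) : hF.psi r < hF.psi s := by
  induction s with
  | zero => omega
  | succ s ih =>
    have h1 := hF.psi_step s hs
    rcases Nat.lt_succ_iff_lt_or_eq.1 h with h2 | h2
    · exact (ih h2 (by omega)).trans h1
    · exact h2 ▸ h1

theorem psi_neg {s : ℕ} (hs : s < D.nroots) : hF.psi (D.neg s) = -hF.psi s := by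
  simp only [psiOf, ← Finset.sum_neg_distrib]
  refine Finset.sum_congr rfl fun j hj => ?_
  rw [hF.cartan_neg j (Finset.mem_range.1 hj) s hs]
  ring

theorem psi_pos {s : ℕ} (hs : s < D.nroots) (hp : D.nroots / 2 ≤ s) : 0 < hF.psi s := by
  have h1 : D.neg s < s := by
    rw [hF.neg_eq s hs]
    have := hF.even
    omega
  have := hF.psi_lt h1 hs
  rw [hF.psi_neg hs] at this
  omega

theorem psi_chain {s v : ℕ} (hs : s < D.nroots) {q : (ℕ × ℤ) × ℕ}
    (hq : q ∈ (D.chainEntry s v).zipIdx) :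
    hF.psi q.1.1 = hF.psi v + (q.2 + 1 : ℕ) * hF.psi s := by
  simp only [psiOf, Finset.mul_sum, ← Finset.sum_add_distrib]
  refine Finset.sum_congr rfl fun j hj => ?_
  rw [hF.chain_cartan s hs v q hq j (Finset.mem_range.1 hj)]
  ring

end Facts

end Cfsg.Agent.Lie
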