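import Mathlib

/-!
Central elements of Sylow subgroups of nilpotent groups are central.
-/

set_option autoImplicit false

namespace Cfsg.Agent.Lie.NilpotentCenter

theorem central_of_sylow {H : Type*} [Group H] [Finite H] [Group.IsNilpotent H] {p : ℕ} [Fact p.Prime]
    (P : Sylow p H) (i : Subgroup.center (P : Subgroup H)) (z : H) :
    z * ((i : (P : Subgroup H)) : H) = ((i : (P : Subgroup H)) : H) * z := by
  classical
  have hn : ∀ (q : ℕ) [Fact q.Prime] (Q : Sylow q H), (Q : Subgroup H).Normal := fun q _ Q =>
    Q.normal_of_normalizerCondition normalizerCondition_of_isNilpotent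
  let K : Subgroup H := Subgroup.centralizer {((i : (P : Subgroup H)) : H)}
  have hle : ∀ (q : ℕ) [Fact q.Prime] (Q : Sylow q H), (Q : Subgroup H) ≤ K := by
    intro q hq Q y hy
    refine Subgroup.mem_centralizer_singleton_iff.2 ?_
    by_cases hqp : q = p
    · subst hqp
      haveI := Sylow.unique_of_normal P (hn q P)
      have hQP : Q = P := Subsingleton.elim Q P
      subst hQP
      exact congrArg Subtype.val (Subgroup.mem_center_iff.1 i.2 ⟨y, hy⟩)
    · exact ((Subgroup.commute_of_normal_of_disjoint _ _ (hn q Q) (hn p P)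
        (IsPGroup.disjoint_of_ne q p hqp _ _ Q.2 P.2)) y _ hy (i : (P : Subgroup H)).2).eq
  have hK : K = ⊤ := by
    rw [← Subgroup.card_eq_iff_eq_top]
    refine Nat.dvd_antisymm (Subgroup.card_subgroup_dvd_card K)
      ((Nat.factorization_le_iff_dvd Nat.card_pos.ne' Nat.card_pos.ne').1 fun q => ?_)
    by_cases hq : q.Prime
    · haveI := Fact.mk hq
      refine (hq.pow_dvd_iff_le_factorization Nat.card_pos.ne').1 ?_
      rw [← (default : Sylow q H).card_eq_multiplicity]
      exact Subgroup.card_dvd_of_le (hle q default)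
    · rw [Nat.factorization_eq_zero_of_not_prime _ hq]
      exact Nat.zero_le _
  exact Subgroup.mem_centralizer_singleton_iff.1 (show z ∈ K by rw [hK]; exact Subgroup.mem_top z)

end Cfsg.Agent.Lie.NilpotentCenter
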