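import Mathlib
import Cfsg.Agent.Lib.Lie.ZassenhausCount

/-!
In a Zassenhaus group with two-point stabiliser of odd order `e`, at least `e` classes avoid the elements
with exactly one fixed point.
-/

set_option autoImplicit false
set_option linter.style.haveILetI false

namespace Cfsg.Agent.Lie.ZassenhausClasses

open MulAction
open Cfsg.Agent.Lie.Zassenhaus
open Cfsg.Agent.Lie.ZassenhausCount

universe u v

variable {G : Type u} {Ω : Type v} [Group G] [MulAction G Ω] [Fintype Ω] [DecidableEq Ω]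

theorem nfix_conj (k g : G) : nfix (Ω := Ω) (k * g * k⁻¹) = nfix (Ω := Ω) g := by
  refine Finset.card_equiv (MulAction.toPerm k⁻¹) fun c => ?_
  simp [mul_smul, eq_inv_smul_iff]

variable [Fintype G] [DecidableEq G] {a b : Ω} {h e : ℕ}

theorem card_invols_fix (C : OddCtx G Ω a b h e) (p : Ω) :
    (invols.filter fun x : G => x • p = p).card = if Even h then e else 0 := by
  have hI : ∀ x ∈ (invols : Finset G), nfix (Ω := Ω) x = if Even h then 1 else 0 := fun x hx =>
    nfix_invol C (Finset.mem_filter.1 hx).2.1 (Finset.mem_filter.1 hx).2.2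
  have hsum : ∑ c : Ω, (invols.filter fun x : G => x • c = c).card =
      (invols : Finset G).card * (if Even h then 1 else 0) := by
    refine ((Finset.sum_card_bipartiteAbove_eq_sum_card_bipartiteBelow (fun (x : G) (c : Ω) => x • c = c)
      (s := (invols : Finset G)) (t := Finset.univ)).symm).trans ?_
    exact (Finset.sum_congr rfl hI).trans (by rw [Finset.sum_const, smul_eq_mul])
  haveI := C.h2
  haveI : IsPretransitive G Ω := isPretransitive_of_is_two_pretransitive
  have hconst : ∀ c : Ω, (invols.filter fun x : G => x • c = c).card =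
      (invols.filter fun x : G => x • p = p).card := by
    intro c
    obtain ⟨k, hk⟩ := MulAction.exists_smul_eq G p c
    refine (Finset.card_equiv (MulAut.conj k).toEquiv fun x => ?_).symm
    simp only [invols, Finset.mem_filter, Finset.mem_univ, true_and, MulEquiv.toEquiv_eq_coe,
      EquivLike.coe_coe, MulAut.conj_apply]
    rw [← hk, ne_eq, ne_eq, show k * x * k⁻¹ * (k * x * k⁻¹) = k * (x * x) * k⁻¹ by group, conj_eq_one_iff,
      conj_eq_one_iff, mul_smul, mul_smul, inv_smul_smul, smul_left_cancel_iff]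
  rw [Finset.sum_congr rfl (fun c _ => hconst c), Finset.sum_const, Finset.card_univ, C.card, smul_eq_mul,
    card_invols C] at hsum
  refine Nat.eq_of_mul_eq_mul_left (show 0 < h + 1 by omega) (hsum.trans ?_)
  split_ifs <;> ring

theorem classes_avoiding (C : OddCtx G Ω a b h e) (hlt : 2 * e < h - 1) (H : Set G)
    (hH : ∀ g ∈ H, g = 1 ∨ nfix (Ω := Ω) g = 1) :
    e ≤ Nat.card {K : ConjClasses G // ∀ g : G, ConjClasses.mk g = K → g ∉ H} := by
  classical
  haveI : Fintype (ConjClasses G) := Fintype.ofFinite _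
  have h1pt : nfix (Ω := Ω) (1 : G) = h + 1 := by rw [nfix_one, C.card]
  have h2le := C.two
  -- classes of the two-point stabiliser
  obtain ⟨Es, hEs⟩ : ∃ Es : Finset G, Es =
      (Finset.univ.filter fun g : G => g • a = a ∧ g • b = b).erase 1 := ⟨_, rfl⟩
  have hEcard : Es.card = e - 1 := by
    rw [hEs, Finset.card_erase_of_mem (by simp), card_fix_pair C C.ab]
  have hE2 : ∀ g ∈ Es, nfix (Ω := Ω) g = 2 := by
    intro g hg
    rw [hEs, Finset.mem_erase, Finset.mem_filter] at hg
    have h1 := nfix_le (Ω := Ω) C.h3 hg.1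
    have h2 : ({a, b} : Finset Ω).card ≤ nfix (Ω := Ω) g := Finset.card_le_card fun c hc => by
      rw [Finset.mem_insert, Finset.mem_singleton] at hc
      rcases hc with rfl | rfl <;> simp [hg.2.2.1, hg.2.2.2]
    rw [Finset.card_pair C.ab] at h2
    omega
  have himg : Es.card ≤ 2 * (Es.image ConjClasses.mk).card := by
    refine Finset.card_le_mul_card_image _ _ fun K hK => ?_
    obtain ⟨x, hx, rfl⟩ := Finset.mem_image.1 hK
    refine le_trans (Finset.card_le_card (t := {x, x⁻¹}) fun y hy => ?_) Finset.card_le_two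
    rw [Finset.mem_filter, ConjClasses.mk_eq_mk_iff_isConj] at hy
    obtain ⟨g, hg⟩ := isConj_iff.1 hy.2.symm
    have hy1 := hy.1
    rw [hEs, Finset.mem_erase, Finset.mem_filter] at hy1 hx
    have hxm : x ∈ stabilizer G a ⊓ stabilizer G b := ⟨hx.2.2.1, hx.2.2.2⟩
    rw [Finset.mem_insert, Finset.mem_singleton, ← hg]
    rcases ZassenhausOdd.fix_or_swap C.h3 C.ab g hxm hx.1 (by rw [hg]; exact ⟨hy1.2.2.1, hy1.2.2.2⟩) with hh | hh
    · refine Or.inl ?_
      rw [C.comm g ⟨hh.1, hh.2⟩ x hxm, mul_inv_cancel_right]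
    · exact Or.inr ((C.swap g hh.1 hh.2).2 x hxm)
  -- fixed point free classes
  obtain ⟨Kf, hKf⟩ : ∃ Kf : Finset (ConjClasses G), Kf =
      Finset.univ.filter fun K => ∃ g : G, ConjClasses.mk g = K ∧ nfix (Ω := Ω) g = 0 := ⟨_, rfl⟩
  have hdisj : Disjoint (Es.image ConjClasses.mk) Kf := by
    rw [Finset.disjoint_left]
    intro K hK hK'
    obtain ⟨x, hx, rfl⟩ := Finset.mem_image.1 hK
    rw [hKf, Finset.mem_filter] at hK'
    obtain ⟨-, g, hg, hg0⟩ := hK'
    obtain ⟨k, rfl⟩ := isConj_iff.1 (ConjClasses.mk_eq_mk_iff_isConj.1 hg)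
    exact absurd (hE2 _ hx) (by rw [nfix_conj, hg0]; omega)
  have hsub : (Es.image ConjClasses.mk ∪ Kf).card ≤
      Nat.card {K : ConjClasses G // ∀ g : G, ConjClasses.mk g = K → g ∉ H} := by
    rw [Nat.card_eq_fintype_card, Fintype.card_subtype]
    refine Finset.card_le_card fun K hK => ?_
    have hn : ∃ g : G, ConjClasses.mk g = K ∧ (nfix (Ω := Ω) g = 0 ∨ nfix (Ω := Ω) g = 2) := by
      rcases Finset.mem_union.1 hK with hK | hK
      · obtain ⟨x, hx, rfl⟩ := Finset.mem_image.1 hK
        exact ⟨x, rfl, Or.inr (hE2 x hx)⟩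
      · rw [hKf, Finset.mem_filter] at hK
        obtain ⟨g, hg, hg0⟩ := hK.2
        exact ⟨g, hg, Or.inl hg0⟩
    obtain ⟨g, rfl, hn⟩ := hn
    rw [Finset.mem_filter]
    refine ⟨Finset.mem_univ _, fun g' hg' hmem => ?_⟩
    obtain ⟨k, rfl⟩ := isConj_iff.1 (ConjClasses.mk_eq_mk_iff_isConj.1 hg')
    rw [nfix_conj] at hn
    rcases hH g' hmem with rfl | h1
    · rw [h1pt] at hn; omega
    · omega
  rw [Finset.card_union_of_disjoint hdisj] at hsub
  suffices hk : e + 1 ≤ 2 * Kf.card by
    obtain ⟨j, rfl⟩ := C.eodd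
    omega
  -- pairs of involutions
  obtain ⟨P, hP⟩ : ∃ P : Finset (G × G), P = (invols : Finset G) ×ˢ (invols : Finset G) := ⟨_, rfl⟩
  have hPmem : ∀ q ∈ P, (q.1 ≠ 1 ∧ q.1 * q.1 = 1) ∧ (q.2 ≠ 1 ∧ q.2 * q.2 = 1) := fun q hq => by
    simpa [hP, invols] using hq
  have hinvert : ∀ q ∈ P, q.1 * (q.1 * q.2) * q.1⁻¹ = (q.1 * q.2)⁻¹ := fun q hq => by
    obtain ⟨⟨-, hx⟩, -, hy⟩ := hPmem q hq
    rw [mul_inv_rev, inv_eq_of_mul_eq_one_right hy, inv_eq_of_mul_eq_one_right hx, ← mul_assoc q.1 q.1, hx, one_mul]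
  have hperm : ∀ q ∈ P, ∀ c : Ω, (q.1 * q.2) • c = c → (q.1 * q.2) • q.1 • c = q.1 • c := fun q hq c hc => by
    obtain ⟨⟨-, hx⟩, -⟩ := hPmem q hq
    have h1 := hinvert q hq
    have h2 : q.1 * q.2 * q.1 = q.1 * (q.1 * q.2)⁻¹ := by
      rw [← h1, inv_eq_of_mul_eq_one_right hx]
      simp only [← mul_assoc, hx, one_mul]
    rw [smul_smul, h2, mul_smul, inv_smul_eq_iff.2 hc.symm]
  have hA := (P.filter fun q => q.1 * q.2 = 1).card
  have b1 : (P.filter fun q => q.1 * q.2 = 1).card ≤ (invols : Finset G).card := by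
    refine Finset.card_le_card_of_injOn Prod.fst (fun q hq => ?_) fun q hq q' hq' hqq => ?_
    · have hq1 := hPmem q (Finset.mem_filter.1 hq).1
      simp [invols, hq1.1.1, hq1.1.2]
    · have e1 := (Finset.mem_filter.1 hq).2
      have e2 := (Finset.mem_filter.1 hq').2
      refine Prod.ext hqq (mul_left_cancel (a := q.1) (e1.trans ?_))
      rw [hqq]; exact e2.symm
  have b2 : (P.filter fun q => q.1 * q.2 ≠ 1 ∧ nfix (Ω := Ω) (q.1 * q.2) = 2).card ≤
      e * (Finset.univ.filter fun g : G => g ≠ 1 ∧ nfix (Ω := Ω) g = 2).card := by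
    refine Finset.card_le_mul_card_image_of_maps_to (f := fun q => q.1 * q.2)
      (fun q hq => by simpa using (Finset.mem_filter.1 hq).2) _ fun z hz => ?_
    obtain ⟨-, hz1, hz2⟩ := Finset.mem_filter.1 hz
    obtain ⟨p, p', hpp, hfix⟩ := Finset.card_eq_two.1 hz2
    have hfix' : ∀ c : Ω, z • c = c ↔ c = p ∨ c = p' := fun c => by
      simpa using Finset.ext_iff.1 hfix c
    rw [← card_swap C hpp]
    refine Finset.card_le_card_of_injOn Prod.fst (fun q hq => ?_) fun q hq q' hq' hqq => ?_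
    · obtain ⟨hq1, hqz⟩ := Finset.mem_filter.1 hq
      have hq' := (Finset.mem_filter.1 hq1).1
      obtain ⟨⟨hx1, hxx⟩, -⟩ := hPmem q hq'
      change q.1 * q.2 = z at hqz
      have hm : ∀ c : Ω, z • c = c → q.1 • c = p ∨ q.1 • c = p' := fun c hc => by
        have := hperm q hq' c (by rw [hqz]; exact hc)
        rw [hqz] at this
        exact (hfix' _).1 this
      simp only [Finset.mem_coe, Finset.mem_filter, invols, Finset.mem_univ, true_and]
      refine ⟨⟨hx1, hxx⟩, ?_⟩
      rcases hm p ((hfix' p).2 (Or.inl rfl)) with hp | hp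
      · exfalso
        have hp' : q.1 • p' = p' := by
          rcases hm p' ((hfix' p').2 (Or.inr rfl)) with h' | h'
          · exact absurd (MulAction.injective q.1 (h'.trans hp.symm)) hpp.symm
          · exact h'
        have := nfix_invol C hx1 hxx
        have h2 : ({p, p'} : Finset Ω).card ≤ nfix (Ω := Ω) q.1 := Finset.card_le_card fun c hc => by
          rw [Finset.mem_insert, Finset.mem_singleton] at hc
          rcases hc with rfl | rfl <;> simp [hp, hp']
        rw [Finset.card_pair hpp] at h2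
        split_ifs at this <;> omega
      · exact hp
    · have e1 := (Finset.mem_filter.1 hq).2
      have e2 := (Finset.mem_filter.1 hq').2
      refine Prod.ext hqq (mul_left_cancel (a := q.1) (e1.trans ?_))
      rw [hqq]; exact e2.symm
  have b3 : (P.filter fun q => q.1 * q.2 ≠ 1 ∧ nfix (Ω := Ω) (q.1 * q.2) = 1).card ≤
      (h + 1) * ((if Even h then e else 0) * ((if Even h then e else 0) - 1)) := by
    calc _ ≤ ((Finset.univ : Finset Ω).biUnion fun p => (invols.filter fun x : G => x • p = p).offDiag).card := by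
          refine Finset.card_le_card fun q hq => ?_
          obtain ⟨hq', hne, hn1⟩ := Finset.mem_filter.1 hq
          obtain ⟨p, hp⟩ := Finset.card_eq_one.1 hn1
          have hfix' : ∀ c : Ω, (q.1 * q.2) • c = c ↔ c = p := fun c => by
            simpa using Finset.ext_iff.1 hp c
          obtain ⟨⟨hx1, hxx⟩, hy1, hyy⟩ := hPmem q hq'
          have hx : q.1 • p = p := (hfix' _).1 (hperm q hq' p ((hfix' p).2 rfl))
          have hy : q.2 • p = p := by
            have := (hfix' p).2 rfl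
            rw [mul_smul] at this
            exact MulAction.injective q.1 (this.trans hx.symm)
          rw [Finset.mem_biUnion]
          refine ⟨p, Finset.mem_univ _, Finset.mem_offDiag.2 ⟨?_, ?_, fun heq => hne ?_⟩⟩
          · simp [invols, hx1, hxx, hx]
          · simp [invols, hy1, hyy, hy]
          · rw [heq, hyy]
      _ ≤ ∑ p : Ω, (invols.filter fun x : G => x • p = p).offDiag.card := Finset.card_biUnion_le
      _ = _ := by
          rw [Finset.sum_congr rfl (fun p _ => by rw [Finset.offDiag_card, card_invols_fix C p, ← Nat.mul_sub_one]),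
            Finset.sum_const, Finset.card_univ, C.card, smul_eq_mul]
  have b0 : (P.filter fun q => nfix (Ω := Ω) (q.1 * q.2) = 0).card ≤ Fintype.card G * Kf.card := by
    refine Finset.card_le_mul_card_image_of_maps_to (f := fun q => ConjClasses.mk (q.1 * q.2))
      (fun q hq => by rw [hKf, Finset.mem_filter]; exact ⟨Finset.mem_univ _, _, rfl, (Finset.mem_filter.1 hq).2⟩)
      _ fun K _ => ?_
    obtain ⟨z0, rfl⟩ := ConjClasses.mk_surjective K
    obtain ⟨cj, hcj⟩ : ∃ cj : G → G, ∀ z : G, IsConj z0 z → cj z * z0 * (cj z)⁻¹ = z :=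
      ⟨fun z => if hz : IsConj z0 z then (isConj_iff.1 hz).choose else 1, fun z hz => by
        simp only [dif_pos hz]; exact (isConj_iff.1 hz).choose_spec⟩
    obtain ⟨iv, hiv⟩ : ∃ iv : G → G, ∀ z : G, (∃ x, x * z * x⁻¹ = z⁻¹) → iv z * z * (iv z)⁻¹ = z⁻¹ :=
      ⟨fun z => if hz : ∃ x, x * z * x⁻¹ = z⁻¹ then hz.choose else 1, fun z hz => by
        simp only [dif_pos hz]; exact hz.choose_spec⟩
    have key : ∀ q ∈ (P.filter fun q => nfix (Ω := Ω) (q.1 * q.2) = 0).filter
        (fun q => ConjClasses.mk (q.1 * q.2) = ConjClasses.mk z0),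
        ((iv (q.1 * q.2))⁻¹ * q.1 * cj (q.1 * q.2)) * z0 * ((iv (q.1 * q.2))⁻¹ * q.1 * cj (q.1 * q.2))⁻¹ =
          q.1 * q.2 := by
      intro q hq
      obtain ⟨hq1, hqz⟩ := Finset.mem_filter.1 hq
      have hq' := (Finset.mem_filter.1 hq1).1
      have e1 := hinvert q hq'
      have e2 := hiv _ ⟨_, e1⟩
      have e3 := hcj _ (ConjClasses.mk_eq_mk_iff_isConj.1 hqz).symm
      generalize q.1 * q.2 = z at e1 e2 e3 ⊢
      generalize iv z = i at e2 ⊢
      generalize cj z = k at e3 ⊢
      calc i⁻¹ * q.1 * k * z0 * (i⁻¹ * q.1 * k)⁻¹ = i⁻¹ * (q.1 * (k * z0 * k⁻¹) * q.1⁻¹) * i := by group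
        _ = i⁻¹ * (i * z * i⁻¹) * i := by rw [e3, e1, e2]
        _ = z := by group
    rw [← Finset.card_univ]
    refine Finset.card_le_card_of_injOn (fun q => (iv (q.1 * q.2))⁻¹ * q.1 * cj (q.1 * q.2))
      (fun q _ => Finset.mem_univ _) fun q hq q' hq' hqq => ?_
    have e1 := key q hq
    have e2 := key q' hq'
    simp only at hqq
    rw [hqq, e2] at e1
    rw [e1] at hqq
    have hx : q.1 = q'.1 := mul_left_cancel (mul_right_cancel hqq)
    refine Prod.ext hx (mul_left_cancel (a := q.1) ?_)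
    rw [← e1, hx]
  have hcover : P.card ≤ (P.filter fun q => q.1 * q.2 = 1).card +
      (P.filter fun q => q.1 * q.2 ≠ 1 ∧ nfix (Ω := Ω) (q.1 * q.2) = 2).card +
      (P.filter fun q => q.1 * q.2 ≠ 1 ∧ nfix (Ω := Ω) (q.1 * q.2) = 1).card +
      (P.filter fun q => nfix (Ω := Ω) (q.1 * q.2) = 0).card := by
    refine le_trans (Finset.card_le_card (t := _ ∪ _ ∪ _ ∪ _) fun q hq => ?_)
      (le_trans (Finset.card_union_le _ _) (Nat.add_le_add_right
        (le_trans (Finset.card_union_le _ _) (Nat.add_le_add_right (Finset.card_union_le _ _) _)) _))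
    simp only [Finset.mem_union, Finset.mem_filter, hq, true_and]
    by_cases h1 : q.1 * q.2 = 1
    · simp [h1]
    · have := nfix_le (Ω := Ω) C.h3 h1
      simp [h1]
      omega
  rw [hP, Finset.card_product, ← hP] at hcover
  rw [card_group C] at b0
  have hA2 := (card_nfix C).1
  obtain ⟨j, hj⟩ := C.eodd
  by_contra hk
  have hk' : Kf.card ≤ j := by omega
  have hNv := card_invols C
  obtain ⟨d, hd⟩ : ∃ d, h = 2 * e + 2 + d := ⟨h - 2 * e - 2, by omega⟩
  have hb0 : (P.filter fun q => nfix (Ω := Ω) (q.1 * q.2) = 0).card ≤ (h + 1) * h * e * j :=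
    b0.trans (Nat.mul_le_mul_left _ hk')
  generalize (P.filter fun q => q.1 * q.2 = 1).card = B1 at *
  generalize (P.filter fun q => q.1 * q.2 ≠ 1 ∧ nfix (Ω := Ω) (q.1 * q.2) = 2).card = B2 at *
  generalize (P.filter fun q => q.1 * q.2 ≠ 1 ∧ nfix (Ω := Ω) (q.1 * q.2) = 1).card = B3 at *
  generalize (P.filter fun q => nfix (Ω := Ω) (q.1 * q.2) = 0).card = B0 at *
  generalize (Finset.univ.filter fun g : G => g ≠ 1 ∧ nfix (Ω := Ω) g = 2).card = A2 at *
  generalize (invols : Finset G).card = N at *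
  subst hj
  rw [show 2 * j + 1 - 1 = 2 * j by omega] at hA2
  have hA2' : A2 = (h + 1) * h * j := by nlinarith
  subst hA2'
  by_cases hev : Even h
  · rw [if_pos hev] at hNv b3
    rw [show 2 * j + 1 - 1 = 2 * j by omega] at b3
    subst hNv
    have hpos : 0 < (2 * j + 1) * (h + 1) * h := by
      have : 0 < h := by omega
      positivity
    nlinarith
  · rw [if_neg hev] at hNv b3
    subst hNv
    have hpos : 0 < (2 * j + 1) * h * (2 * j + 2) := by
      have : 0 < h := by omega
      positivity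
    have hbig : (2 * j + 1) * h * (2 * (2 * j + 1) + 2) ≤ (2 * j + 1) * h * h :=
      Nat.mul_le_mul_left _ (by omega)
    simp at b3
    nlinarith

end Cfsg.Agent.Lie.ZassenhausClasses
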