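import Mathlib
import Cfsg.Agent.Lib.Lie.Tits
import Cfsg.Agent.Lib.Lie.FeitHigmanAlg

/-!
The theorem of Feit and Higman for finite groups with a Tits system of rank two.
-/

set_option autoImplicit false
set_option linter.style.haveILetI false

namespace Cfsg.Agent.Lie.FeitHigman

open Cfsg.Agent.Lie.Tits

section Dihedral

variable {W : Type*} [Group W] {x y : W}

theorem alt_zpow (hx : x * x = 1) (n : ℕ) :
    alt x y (2 * n) = (x * y) ^ (n : ℤ) ∧ alt x y (2 * n + 1) = (x * y) ^ (n : ℤ) * x := by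
  rw [alt_even, alt_odd, zpow_natCast]
  exact ⟨rfl, rfl⟩

theorem alt_zpow' (hx : x * x = 1) (hy : y * y = 1) (n : ℕ) :
    alt y x (2 * n) = (x * y) ^ (-(n : ℤ)) ∧ alt y x (2 * n + 1) = (x * y) ^ (-((n : ℤ) + 1)) * x := by
  have e : y * x = (x * y)⁻¹ := by
    rw [mul_inv_rev, inv_eq_of_mul_eq_one_right hx, inv_eq_of_mul_eq_one_right hy]
  rw [alt_even, alt_odd, e, zpow_neg, zpow_neg, zpow_natCast, inv_pow]
  refine ⟨rfl, ?_⟩
  rw [← Nat.cast_succ, zpow_natCast, ← inv_pow (x * y) (n + 1), pow_succ, ← inv_pow, mul_assoc, ← e, mul_assoc, hx,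
    mul_one]

theorem not_mem_zpowers (hx : x * x = 1) (hy : y * y = 1) (hx1 : x ≠ 1) (hy1 : y ≠ 1) (hxy : x ≠ y) :
    x ∉ Subgroup.zpowers (x * y) := by
  intro h
  obtain ⟨k, hk⟩ := Subgroup.mem_zpowers_iff.1 h
  have hc : Commute (x * y) x := by
    have := Commute.zpow_self (x * y) k
    rw [hk] at this
    exact this.symm
  have hxy' : x * y = y * x := by
    have h1 : x * y * x = x * (x * y) := hc.eq
    rw [← mul_assoc, hx, one_mul] at h1
    calc x * y = x * y * (x * x) := by rw [hx, mul_one]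
      _ = (x * y * x) * x := by group
      _ = y * x := by rw [h1]
  have hsq : (x * y) * (x * y) = 1 := by
    calc (x * y) * (x * y) = x * y * (y * x) := by nth_rewrite 2 [hxy']; rfl
      _ = x * (y * y) * x := by group
      _ = 1 := by rw [hy, mul_one, hx]
  rcases Int.even_or_odd' k with ⟨j, rfl | rfl⟩
  · rw [zpow_mul, zpow_two, hsq, one_zpow] at hk
    exact hx1 hk.symm
  · rw [zpow_add, zpow_mul, zpow_two, hsq, one_zpow, one_mul, zpow_one] at hk
    exact hy1 (mul_left_cancel (hk.trans (mul_one x).symm))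

theorem orderOf_ge (hy : y * y = 1) (hxy : x ≠ y) [Finite W] : 2 ≤ orderOf (x * y) := by
  by_contra h
  have h0 := orderOf_pos (x * y)
  have h1 : x * y = 1 := orderOf_eq_one_iff.1 (by omega)
  exact hxy (mul_right_cancel (h1.trans hy.symm))

theorem card_eq (hx : x * x = 1) (hy : y * y = 1) (hx1 : x ≠ 1) (hy1 : y ≠ 1) (hxy : x ≠ y)
    (hgen : ∀ w : W, ∃ k, w = alt x y k ∨ w = alt y x k) : Nat.card W = 2 * orderOf (x * y) := by
  have hnot := not_mem_zpowers hx hy hx1 hy1 hxy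
  have hindex : (Subgroup.zpowers (x * y)).index = 2 := by
    rw [Subgroup.index_eq_two_iff]
    refine ⟨x, fun b => ?_⟩
    have hb : b ∈ Subgroup.zpowers (x * y) ∨ b * x ∈ Subgroup.zpowers (x * y) := by
      obtain ⟨k, hk⟩ := hgen b
      rcases Nat.even_or_odd' k with ⟨n, rfl | rfl⟩ <;> rcases hk with rfl | rfl
      · exact Or.inl (by rw [(alt_zpow hx n).1]; exact Subgroup.zpow_mem_zpowers _ _)
      · exact Or.inl (by rw [(alt_zpow' hx hy n).1]; exact Subgroup.zpow_mem_zpowers _ _)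
      · exact Or.inr (by rw [(alt_zpow hx n).2, mul_assoc, hx, mul_one]; exact Subgroup.zpow_mem_zpowers _ _)
      · exact Or.inr (by rw [(alt_zpow' hx hy n).2, mul_assoc, hx, mul_one]; exact Subgroup.zpow_mem_zpowers _ _)
    rcases hb with hb | hb
    · exact Or.inr ⟨hb, fun h => hnot (by simpa using mul_mem (inv_mem hb) h)⟩
    · exact Or.inl ⟨hb, fun h => hnot (by simpa using mul_mem (inv_mem h) hb)⟩
  rw [← Subgroup.card_mul_index (Subgroup.zpowers (x * y)), hindex, Nat.card_zpowers, mul_comm]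

theorem alt_braid (hx : x * x = 1) (hy : y * y = 1) :
    alt x y (orderOf (x * y)) = alt y x (orderOf (x * y)) := by
  obtain ⟨n, hn⟩ := Nat.even_or_odd' (orderOf (x * y))
  rcases hn with hn | hn
  · rw [hn, (alt_zpow hx n).1, (alt_zpow' hx hy n).1, zpow_eq_zpow_iff_modEq,
      Int.modEq_iff_dvd, hn]
    exact ⟨-1, by push_cast; ring⟩
  · rw [hn, (alt_zpow hx n).2, (alt_zpow' hx hy n).2, mul_left_inj, zpow_eq_zpow_iff_modEq,
      Int.modEq_iff_dvd, hn]
    exact ⟨-1, by push_cast; ring⟩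

theorem alt_distinct (hx : x * x = 1) (hy : y * y = 1) (hx1 : x ≠ 1) (hy1 : y ≠ 1) (hxy : x ≠ y) {i k : ℕ} (hki : k < i)
    (hi : i ≤ orderOf (x * y)) : alt x y i ≠ alt x y k ∧ alt x y i ≠ alt y x k := by
  have hnot := not_mem_zpowers hx hy hx1 hy1 hxy
  have hpar : ∀ a b : ℤ, (x * y) ^ a ≠ (x * y) ^ b * x := fun a b h =>
    hnot (Subgroup.mem_zpowers_iff.2 ⟨-b + a, by rw [zpow_add, h, zpow_neg, inv_mul_cancel_left]⟩)
  have hdvd : ∀ a b : ℤ, (x * y) ^ a = (x * y) ^ b → 0 < a - b → a - b < orderOf (x * y) → False := by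
    intro a b h h0 h1
    rw [zpow_eq_zpow_iff_modEq, Int.modEq_iff_dvd, ← dvd_neg, neg_sub] at h
    exact absurd (Int.le_of_dvd h0 h) (by omega)
  rcases Nat.even_or_odd' i with ⟨n, rfl | rfl⟩ <;> rcases Nat.even_or_odd' k with ⟨l, rfl | rfl⟩
  · rw [(alt_zpow hx n).1, (alt_zpow hx l).1, (alt_zpow' hx hy l).1]
    exact ⟨fun h => hdvd _ _ h (by omega) (by omega), fun h => hdvd _ _ h (by omega) (by omega)⟩
  · rw [(alt_zpow hx n).1, (alt_zpow hx l).2, (alt_zpow' hx hy l).2]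
    exact ⟨hpar _ _, hpar _ _⟩
  · rw [(alt_zpow hx n).2, (alt_zpow hx l).1, (alt_zpow' hx hy l).1]
    exact ⟨(hpar _ _).symm, (hpar _ _).symm⟩
  · rw [(alt_zpow hx n).2, (alt_zpow hx l).2, (alt_zpow' hx hy l).2]
    exact ⟨fun h => hdvd _ _ (mul_right_cancel h) (by omega) (by omega),
      fun h => hdvd _ _ (mul_right_cancel h) (by omega) (by omega)⟩

end Dihedral

section Tits

variable {G : Type*} [Group G] {P : Cfsg.BNPair G}

theorem DC_inv_S {s g : G} (hs : s ∈ P.S) (hg : g ∈ DC P s) : g⁻¹ ∈ DC P s := by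
  rw [DC_congr (S_inv hs)]
  exact DC_inv hg

theorem DC_S_mul {s g₁ g₂ : G} (hs : s ∈ P.S) (h₁ : g₁ ∈ DC P s) (h₂ : g₂ ∈ DC P s) :
    g₁⁻¹ * g₂ ∈ P.B ∨ g₁⁻¹ * g₂ ∈ DC P s := by
  obtain ⟨b, hb, b', hb', he⟩ := DoubleCoset.mem_doubleCoset.1 (DC_inv_S hs h₁)
  rw [he, show b * s * b' * g₂ = b * (s * b' * g₂) by group]
  rcases left_mul_DC hs (S_N hs) hb' h₂ with h | h
  · exact Or.inl (mul_mem hb ((mem_DC_iff_B (P.sq_mem s hs)).1 h))
  · exact Or.inr (DC_mul_left hb h)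

theorem not_B_of_DC {s g : G} (hs : s ∈ P.S) (hg : g ∈ DC P s) : g ∉ P.B := by
  intro h
  obtain ⟨b, hb, b', hb', rfl⟩ := DoubleCoset.mem_doubleCoset.1 hg
  refine S_not_B hs ?_
  simpa [mul_assoc] using mul_mem (mul_mem (inv_mem hb) h) (inv_mem hb')

variable [Fintype (G ⧸ P.B)]

open Classical in
/-- The matrix of a double coset. -/
noncomputable def T (P : Cfsg.BNPair G) (n : G) : Matrix (G ⧸ P.B) (G ⧸ P.B) ℝ :=
  fun x y => if (x.out)⁻¹ * y.out ∈ DC P n then 1 else 0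

open Classical in
theorem T_congr {n k : G} (h : Cong P n k) : T P n = T P k := by
  ext x y; simp [T, DC_congr h]

open Classical in
theorem T_one : T P 1 = 1 := by
  ext x y
  rw [T, Matrix.one_apply]
  refine if_congr ?_ rfl rfl
  rw [mem_DC_iff_B (one_mem _), ← QuotientGroup.eq, QuotientGroup.out_eq', QuotientGroup.out_eq']

open Classical in
theorem T_apply_mk (n : G) (g k : G) :
    T P n (g : G ⧸ P.B) (k : G ⧸ P.B) = if g⁻¹ * k ∈ DC P n then 1 else 0 := by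
  obtain ⟨b, hb⟩ := QuotientGroup.mk_out_eq_mul P.B g
  obtain ⟨b', hb'⟩ := QuotientGroup.mk_out_eq_mul P.B k
  rw [T, hb, hb']
  refine if_congr ⟨fun h => ?_, fun h => ?_⟩ rfl rfl
  · have := DC_mul b.2 (inv_mem b'.2) h
    simpa [mul_assoc] using this
  · have := DC_mul (inv_mem b.2) b'.2 h
    simpa [mul_assoc] using this

open Classical in
theorem T_mul_apply (n k : G) (x y : G ⧸ P.B) :
    (T P n * T P k) x y =
      ((Finset.univ.filter fun z : G ⧸ P.B => (x.out)⁻¹ * z.out ∈ DC P n ∧ (z.out)⁻¹ * y.out ∈ DC P k).card : ℝ) := by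
  simp only [Matrix.mul_apply, T]
  rw [Finset.card_filter, Nat.cast_sum]
  refine Finset.sum_congr rfl fun z _ => ?_
  rw [ite_and]
  split_ifs <;> simp

open Classical in
theorem T_mul {s n : G} (hs : s ∈ P.S) (hn : n ∈ P.N) (hl : len P n ≤ len P (s * n)) :
    T P s * T P n = T P (s * n) := by
  ext x y
  rw [T_mul_apply]
  have hfwd : ∀ g₁ g₂ : G, g₁ ∈ DC P s → g₂ ∈ DC P n → g₁ * g₂ ∈ DC P (s * n) := by
    intro g₁ g₂ h₁ h₂
    obtain ⟨b, hb, b', hb', rfl⟩ := DoubleCoset.mem_doubleCoset.1 h₁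
    obtain ⟨c, hc, c', hc', rfl⟩ := DoubleCoset.mem_doubleCoset.1 h₂
    rw [show b * s * b' * (c * n * c') = b * (s * (b' * c) * n) * c' by group]
    exact DC_mul hb hc' (left_mul_of_le hs hn (mul_mem hb' hc) hl)
  show _ = if (x.out)⁻¹ * y.out ∈ DC P (s * n) then (1 : ℝ) else 0
  split_ifs with hxy
  · rw [Nat.cast_eq_one, Finset.card_eq_one]
    obtain ⟨b, hb, b', hb', he⟩ := DoubleCoset.mem_doubleCoset.1 hxy
    obtain ⟨z, hz⟩ : ∃ z : G ⧸ P.B, z = ((x.out * (b * s) : G) : G ⧸ P.B) := ⟨_, rfl⟩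
    obtain ⟨c, hc⟩ := QuotientGroup.mk_out_eq_mul P.B (x.out * (b * s))
    rw [← hz] at hc
    have hz1 : (x.out)⁻¹ * z.out ∈ DC P s := by
      rw [hc, show (x.out)⁻¹ * (x.out * (b * s) * c) = b * s * c by group]
      exact DoubleCoset.mem_doubleCoset.2 ⟨b, hb, c, c.2, rfl⟩
    have hz2 : (z.out)⁻¹ * y.out ∈ DC P n := by
      rw [hc, show (x.out * (b * s) * (c : G))⁻¹ * y.out = (c : G)⁻¹ * (s⁻¹ * b⁻¹ * ((x.out)⁻¹ * y.out)) by group,
        he, show (c : G)⁻¹ * (s⁻¹ * b⁻¹ * (b * (s * n) * b')) = (c : G)⁻¹ * n * b' by group]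
      exact DoubleCoset.mem_doubleCoset.2 ⟨_, inv_mem c.2, b', hb', rfl⟩
    refine ⟨z, Finset.eq_singleton_iff_unique_mem.2 ⟨by simp [hz1, hz2], fun w hw => ?_⟩⟩
    simp only [Finset.mem_filter, Finset.mem_univ, true_and] at hw
    have h12 := DC_S_mul hs hw.1 hz1
    rw [show ((x.out)⁻¹ * w.out)⁻¹ * ((x.out)⁻¹ * z.out) = (w.out)⁻¹ * z.out by group] at h12
    rcases h12 with h12 | h12
    · rw [← QuotientGroup.out_eq' w, ← QuotientGroup.out_eq' z, QuotientGroup.eq]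
      exact h12
    · exfalso
      have h3 := hfwd _ _ h12 hz2
      rw [show (w.out)⁻¹ * z.out * ((z.out)⁻¹ * y.out) = (w.out)⁻¹ * y.out by group] at h3
      exact len_mul_ne hs hn (len_congr (Cong_of_mem (mul_mem (S_N hs) hn) hn h3 hw.2))
  · rw [Nat.cast_eq_zero, Finset.card_eq_zero, Finset.filter_eq_empty_iff]
    rintro z - ⟨h1, h2⟩
    exact hxy (by
      have := hfwd _ _ h1 h2
      rwa [show (x.out)⁻¹ * z.out * ((z.out)⁻¹ * y.out) = (x.out)⁻¹ * y.out by group] at this)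

open Classical in
/-- The number of cosets in a double coset. -/
noncomputable def qval (P : Cfsg.BNPair G) [Fintype (G ⧸ P.B)] (s : G) : ℕ :=
  (Finset.univ.filter fun z : G ⧸ P.B => z.out ∈ DC P s).card

open Classical in
theorem card_nbr {s : G} (x : G ⧸ P.B) :
    (Finset.univ.filter fun z : G ⧸ P.B => (x.out)⁻¹ * z.out ∈ DC P s).card = qval P s := by
  refine Finset.card_equiv (MulAction.toPerm (x.out)⁻¹) fun z => ?_
  simp only [Finset.mem_filter, Finset.mem_univ, true_and, MulAction.toPerm_apply]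
  nth_rewrite 2 [← QuotientGroup.out_eq' z]
  rw [MulAction.Quotient.smul_mk, smul_eq_mul]
  obtain ⟨b, hb⟩ := QuotientGroup.mk_out_eq_mul P.B ((x.out)⁻¹ * z.out)
  rw [hb]
  exact ⟨fun h => DC_mul_right b.2 h, fun h => by simpa using DC_mul_right (inv_mem b.2) h⟩

open Classical in
theorem T_sq {s : G} (hs : s ∈ P.S) :
    T P s * T P s = (qval P s : ℝ) • (1 : Matrix (G ⧸ P.B) (G ⧸ P.B) ℝ) + ((qval P s : ℝ) - 1) • T P s := by
  ext x y
  rw [T_mul_apply, Matrix.add_apply, Matrix.smul_apply, Matrix.smul_apply, Matrix.one_apply, smul_eq_mul, smul_eq_mul]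
  show _ = _ + _ * (if (x.out)⁻¹ * y.out ∈ DC P s then (1 : ℝ) else 0)
  have hsymm : ∀ a b : G, a⁻¹ * b ∈ DC P s → b⁻¹ * a ∈ DC P s := fun a b h => by
    simpa using DC_inv_S hs h
  have hcomm : ∀ a b c : G, a⁻¹ * b ∈ DC P s → a⁻¹ * c ∈ DC P s → b⁻¹ * c ∈ P.B ∨ b⁻¹ * c ∈ DC P s := by
    intro a b c h1 h2
    have := DC_S_mul hs h1 h2
    rwa [show (a⁻¹ * b)⁻¹ * (a⁻¹ * c) = b⁻¹ * c by group] at this
  by_cases hxy : x = y
  · subst hxy
    rw [if_pos rfl, if_neg (fun h => not_B_of_DC hs h (by simp)), mul_one, mul_zero, add_zero, ← card_nbr x]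
    congr 2
    ext z
    simp only [Finset.mem_filter, Finset.mem_univ, true_and]
    exact ⟨fun h => h.1, fun h => ⟨h, hsymm _ _ h⟩⟩
  rw [if_neg hxy, mul_zero, zero_add]
  split_ifs with h
  · rw [mul_one, ← card_nbr x]
    have : (Finset.univ.filter fun z : G ⧸ P.B => (x.out)⁻¹ * z.out ∈ DC P s ∧ (z.out)⁻¹ * y.out ∈ DC P s) =
        (Finset.univ.filter fun z : G ⧸ P.B => (x.out)⁻¹ * z.out ∈ DC P s).erase y := by
      ext z
      simp only [Finset.mem_filter, Finset.mem_univ, true_and, Finset.mem_erase]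
      refine ⟨fun hz => ⟨fun hzy => not_B_of_DC hs hz.2 (by simp [hzy]), hz.1⟩, fun hz => ⟨hz.2, ?_⟩⟩
      rcases hcomm _ _ _ hz.2 h with h' | h'
      · refine absurd ?_ hz.1
        rw [← QuotientGroup.out_eq' z, ← QuotientGroup.out_eq' y, QuotientGroup.eq]
        exact h'
      · exact h'
    have hmem : y ∈ Finset.univ.filter fun z : G ⧸ P.B => (x.out)⁻¹ * z.out ∈ DC P s := by simp [h]
    rw [this, Finset.card_erase_of_mem hmem, Nat.cast_sub (Finset.card_pos.2 ⟨y, hmem⟩), Nat.cast_one]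
  · rw [mul_zero, Nat.cast_eq_zero, Finset.card_eq_zero, Finset.filter_eq_empty_iff]
    rintro z - ⟨h1, h2⟩
    rcases hcomm _ _ _ (hsymm _ _ h1) h2 with h' | h'
    · refine hxy ?_
      rw [← QuotientGroup.out_eq' x, ← QuotientGroup.out_eq' y, QuotientGroup.eq]
      exact h'
    · exact h h'

open Classical in
theorem two_le_qval {s : G} (hs : s ∈ P.S) : 2 ≤ qval P s := by
  obtain ⟨b, hb, hbs⟩ := exists_flip hs
  have hmem : ∀ g : G, g ∈ DC P s → (g : G ⧸ P.B) ∈ Finset.univ.filter fun z : G ⧸ P.B => z.out ∈ DC P s := by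
    intro g hg
    obtain ⟨c, hc⟩ := QuotientGroup.mk_out_eq_mul P.B g
    simp only [Finset.mem_filter, Finset.mem_univ, true_and, hc]
    exact DC_mul_right c.2 hg
  refine Finset.one_lt_card.2 ⟨_, hmem s (self_mem_DC s), _, hmem (b * s) (DC_mul_left hb (self_mem_DC s)),
    fun h => ?_⟩
  rw [QuotientGroup.eq] at h
  refine not_B_of_DC hs hbs ?_
  rw [show s * b * s = (s * s) * (s⁻¹ * (b * s)) by group]
  exact mul_mem (P.sq_mem s hs) h

open Classical in
theorem T_mulVec {s : G} : (T P s).mulVec (fun _ => (1 : ℝ)) = (qval P s : ℝ) • (fun _ => (1 : ℝ)) := by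
  funext x
  simp only [Matrix.mulVec, dotProduct, T, mul_one, Pi.smul_apply, smul_eq_mul]
  rw [← card_nbr x, Finset.card_filter, Nat.cast_sum]
  exact Finset.sum_congr rfl fun z _ => by split_ifs <;> simp

theorem H_normal (P : Cfsg.BNPair G) : ((H P).subgroupOf P.N).Normal :=
  ⟨fun n hn g => by
    rw [Subgroup.mem_subgroupOf] at hn ⊢
    exact H_conj g.2 hn⟩

open Classical in
/-- Feit–Higman. -/
theorem weyl_card [Finite G] {s t : G} (hS : P.S = {s, t}) (hst : s ≠ t) :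
    ((P.B ⊓ P.N).subgroupOf P.N).index ∈ ({4, 6, 8, 12, 16} : Set ℕ) := by
  have hs : s ∈ P.S := by rw [hS]; simp
  have ht : t ∈ P.S := by rw [hS]; simp
  haveI := H_normal P
  obtain ⟨π, hπ⟩ : ∃ π : ↥P.N →* ↥P.N ⧸ (H P).subgroupOf P.N, π = QuotientGroup.mk' _ := ⟨_, rfl⟩
  have hπs : Function.Surjective π := by rw [hπ]; exact QuotientGroup.mk'_surjective _
  have hcong : ∀ a b : ↥P.N, π a = π b ↔ Cong P (a : G) b := fun a b => by
    rw [hπ]
    exact QuotientGroup.eq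
  obtain ⟨x, hx⟩ : ∃ x, x = π ⟨s, S_N hs⟩ := ⟨_, rfl⟩
  obtain ⟨y, hy⟩ : ∃ y, y = π ⟨t, S_N ht⟩ := ⟨_, rfl⟩
  have hone : ∀ a : ↥P.N, π a = 1 ↔ (a : G) ∈ H P := fun a => by
    rw [← map_one π, hcong]
    exact ⟨fun h => by simpa [Cong] using inv_mem h, fun h => by simpa [Cong] using inv_mem h⟩
  have hxx : x * x = 1 := by rw [hx, ← map_mul, hone]; exact S_sq hs
  have hyy : y * y = 1 := by rw [hy, ← map_mul, hone]; exact S_sq ht
  have hy1 : y ≠ 1 := by rw [hy, ne_eq, hone]; exact S_not_H ht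
  have hx1 : x ≠ 1 := by rw [hx, ne_eq, hone]; exact S_not_H hs
  have hxy : x ≠ y := by
    rw [hx, hy, ne_eq, hcong]
    exact fun h => hst (P.inj s hs t ht h.1)
  -- words
  have hword : ∀ ω : List G, IsWord P ω → ∃ (hN : ω.prod ∈ P.N) (k : ℕ), k ≤ ω.length ∧
      (π ⟨ω.prod, hN⟩ = alt x y k ∨ π ⟨ω.prod, hN⟩ = alt y x k) := by
    intro ω
    induction ω with
    | nil => exact fun _ => ⟨one_mem _, 0, le_rfl, Or.inl (map_one π)⟩
    | cons g ω ih =>
      intro hω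
      obtain ⟨hN, k, hk, hval⟩ := ih fun z hz => hω z (List.mem_cons_of_mem _ hz)
      have hg := hω g List.mem_cons_self
      have hmem : (g :: ω).prod ∈ P.N := word_N hω
      refine ⟨hmem, ?_⟩
      rw [show (⟨(g :: ω).prod, hmem⟩ : ↥P.N) = ⟨g, S_N hg⟩ * ⟨ω.prod, hN⟩ from
        Subtype.ext List.prod_cons, map_mul]
      have step : ∀ a b : ↥P.N ⧸ (H P).subgroupOf P.N, a * a = 1 →
          (π ⟨ω.prod, hN⟩ = alt a b k ∨ π ⟨ω.prod, hN⟩ = alt b a k) →
          ∃ j ≤ (g :: ω).length, a * π ⟨ω.prod, hN⟩ = alt a b j ∨ a * π ⟨ω.prod, hN⟩ = alt b a j := by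
        intro a b haa hv
        rw [List.length_cons]
        rcases hv with hv | hv
        · cases k with
          | zero => exact ⟨1, by omega, Or.inl (by rw [hv]; rfl)⟩
          | succ k => exact ⟨k, by omega, Or.inr (by rw [hv, alt, ← mul_assoc, haa, one_mul])⟩
        · exact ⟨k + 1, by omega, Or.inl (by rw [hv]; rfl)⟩
      rw [hS] at hg
      rcases hg with hg' | hg'
      · subst hg'
        rw [show (π ⟨g, S_N hs⟩) = x from hx.symm]
        exact step x y hxx hval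
      · rw [Set.mem_singleton_iff] at hg'
        subst hg'
        rw [show (π ⟨g, S_N ht⟩) = y from hy.symm]
        obtain ⟨j, hj, hv⟩ := step y x hyy hval.symm
        exact ⟨j, hj, hv.symm⟩
  have hgen : ∀ w, ∃ k, w = alt x y k ∨ w = alt y x k := by
    intro w
    obtain ⟨a, rfl⟩ := hπs w
    obtain ⟨ω, hω, -, hc⟩ := exists_reduced a.2
    obtain ⟨hN, k, -, hv⟩ := hword ω hω
    rw [(hcong a ⟨ω.prod, hN⟩).2 hc.symm]
    exact ⟨k, hv⟩
  have hcard := card_eq hxx hyy hx1 hy1 hxy hgen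
  have hindex : ((P.B ⊓ P.N).subgroupOf P.N).index = 2 * orderOf (x * y) := by
    rw [Subgroup.index_eq_card]; exact hcard
  obtain ⟨m, hm⟩ : ∃ m, m = orderOf (x * y) := ⟨_, rfl⟩
  rw [hindex, ← hm]
  have hm2 : 2 ≤ m := hm ▸ orderOf_ge hyy hxy
  -- alternating elements of N
  have haltN : ∀ {a b : G}, a ∈ P.S → b ∈ P.S → ∀ i, alt a b i ∈ P.N := fun ha hb i =>
    alt_rel (fun g (_ : G) => g ∈ P.N) (one_mem _) (fun _ _ _ _ h h' => mul_mem h h') (S_N ha) (S_N hb)
      (x' := 1) (y' := 1) i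
  have hπalt : ∀ {a b : G} (ha : a ∈ P.S) (hb : b ∈ P.S) (i : ℕ),
      π ⟨alt a b i, haltN ha hb i⟩ = alt (π ⟨a, S_N ha⟩) (π ⟨b, S_N hb⟩) i := by
    intro a b ha hb i
    rw [← alt_map π]
    congr 1
    exact Subtype.ext (alt_map P.N.subtype ⟨a, S_N ha⟩ ⟨b, S_N hb⟩ i).symm
  have hlen_le : ∀ {a b : G}, a ∈ P.S → b ∈ P.S → ∀ i, len P (alt a b i) ≤ i := by
    intro a b ha hb i
    induction i generalizing a b with
    | zero => exact (len_of_mem_H (one_mem _)).le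
    | succ i ih => exact (len_mul_le ha (haltN hb ha i)).trans (Nat.add_le_add_right (ih hb ha) 1)
  have hord : orderOf (y * x) = orderOf (x * y) := by
    rw [show y * x = (x * y)⁻¹ by rw [mul_inv_rev, inv_eq_of_mul_eq_one_right hxx, inv_eq_of_mul_eq_one_right hyy],
      orderOf_inv]
  have hlen_ge : ∀ i ≤ m, i ≤ len P (alt s t i) ∧ i ≤ len P (alt t s i) := by
    intro i hi
    constructor
    · by_contra hlt
      obtain ⟨ω, hω, hl, hc⟩ := exists_reduced (haltN hs ht i)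
      obtain ⟨hN, k, hk, hv⟩ := hword ω hω
      rw [(hcong ⟨ω.prod, hN⟩ ⟨alt s t i, haltN hs ht i⟩).2 hc, hπalt hs ht, ← hx, ← hy] at hv
      have := alt_distinct hxx hyy hx1 hy1 hxy (i := i) (k := k) (by omega) (hm ▸ hi)
      tauto
    · by_contra hlt
      obtain ⟨ω, hω, hl, hc⟩ := exists_reduced (haltN ht hs i)
      obtain ⟨hN, k, hk, hv⟩ := hword ω hω
      rw [(hcong ⟨ω.prod, hN⟩ ⟨alt t s i, haltN ht hs i⟩).2 hc, hπalt ht hs, ← hx, ← hy] at hv
      have := alt_distinct hyy hxx hy1 hx1 hxy.symm (i := i) (k := k) (by omega) (hord ▸ hm ▸ hi)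
      tauto
  haveI : Fintype (G ⧸ P.B) := Fintype.ofFinite _
  have hT : ∀ i ≤ m, T P (alt s t i) = alt (T P s) (T P t) i ∧ T P (alt t s i) = alt (T P t) (T P s) i := by
    intro i
    induction i with
    | zero => exact fun _ => ⟨T_one, T_one⟩
    | succ i ih =>
      intro hi
      obtain ⟨h1, h2⟩ := ih (by omega)
      have g1 := (hlen_ge (i + 1) hi).1
      have g2 := (hlen_ge (i + 1) hi).2
      have l1 := hlen_le hs ht i
      have l2 := hlen_le ht hs i
      simp only [alt] at g1 g2 ⊢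
      exact ⟨by rw [← T_mul hs (haltN ht hs i) (by omega), h2],
        by rw [← T_mul ht (haltN hs ht i) (by omega), h1]⟩
  have hbrG : Cong P (alt s t m) (alt t s m) := by
    refine (hcong ⟨_, haltN hs ht m⟩ ⟨_, haltN ht hs m⟩).1 ?_
    rw [hπalt hs ht, hπalt ht hs, ← hx, ← hy, hm]
    exact alt_braid hxx hyy
  have hbr : alt (T P s) (T P t) m = alt (T P t) (T P s) m := by
    rw [← (hT m le_rfl).1, ← (hT m le_rfl).2, T_congr hbrG]
  have htr0 : ∀ n ∈ P.N, 1 ≤ len P n → (T P n).trace = 0 := by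
    intro n hn hl
    refine Finset.sum_eq_zero fun z _ => ?_
    show (if (z.out)⁻¹ * z.out ∈ DC P n then (1 : ℝ) else 0) = 0
    rw [if_neg]
    intro h
    rw [inv_mul_cancel] at h
    have := len_congr (Cong_of_mem hn (one_mem _) h (self_mem_DC (1 : G)))
    rw [len_of_mem_H (one_mem (H P))] at this
    omega
  have htr : ∀ i, 1 ≤ i → i ≤ m → (alt (T P s) (T P t) i).trace = 0 ∧ (alt (T P t) (T P s) i).trace = 0 := by
    intro i h1 h2
    rw [← (hT i h2).1, ← (hT i h2).2]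
    exact ⟨htr0 _ (haltN hs ht i) (le_trans h1 (hlen_ge i h2).1),
      htr0 _ (haltN ht hs i) (le_trans h1 (hlen_ge i h2).2)⟩
  have hodd : Odd m → qval P s = qval P t := by
    rintro ⟨k, hk⟩
    have hsum : ∀ a b : G, (alt (T P a) (T P b) m).mulVec (fun _ => (1 : ℝ)) =
        alt (qval P a : ℝ) (qval P b : ℝ) m • (fun _ => (1 : ℝ)) := fun a b =>
      alt_rel (fun (M : Matrix (G ⧸ P.B) (G ⧸ P.B) ℝ) (c : ℝ) => M.mulVec (fun _ => (1 : ℝ)) = c • fun _ => (1 : ℝ)) (by simp)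
        (fun M M' c c' h h' => by rw [← Matrix.mulVec_mulVec, h', Matrix.mulVec_smul, h, smul_smul, mul_comm])
        T_mulVec T_mulVec m
    have h := congrArg (fun v => v ((1 : G) : G ⧸ P.B)) ((hsum s t).symm.trans (hbr ▸ hsum t s))
    simp only [Pi.smul_apply, smul_eq_mul, mul_one, hk, alt_odd] at h
    rw [mul_comm (qval P t : ℝ) (qval P s : ℝ)] at h
    refine Nat.cast_injective (R := ℝ) (mul_left_cancel₀ (pow_ne_zero _ ?_) h)
    have := two_le_qval hs
    have := two_le_qval ht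
    exact mul_ne_zero (by exact_mod_cast (by omega : qval P s ≠ 0)) (by exact_mod_cast (by omega : qval P t ≠ 0))
  haveI : Nonempty (G ⧸ P.B) := ⟨((1 : G) : G ⧸ P.B)⟩
  rcases constraint (two_le_qval hs) (two_le_qval ht) hm2 (T_sq hs) (T_sq ht) hbr htr hodd with
    h | h | h | h | h <;> simp [h]

end Tits

end Cfsg.Agent.Lie.FeitHigman
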