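import Mathlib

/-!
Frobenius groups `E ⋊ ⟨c⟩` inside the affine line over a finite field, and their element orders.
-/

set_option autoImplicit false
set_option linter.style.haveILetI false

namespace Cfsg.Agent.Lie.FieldFrobenius

variable {E : Type*} [Field E]

/-- Multiplication by a unit. -/
def act (C : Subgroup Eˣ) : C →* MulAut (Multiplicative E) where
  toFun c :=
    { toFun := fun x => Multiplicative.ofAdd (((c : Eˣ) : E) * x.toAdd)
      invFun := fun x => Multiplicative.ofAdd (((c⁻¹ : C) : Eˣ) * x.toAdd : E)
      left_inv := fun x => by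
        apply Multiplicative.toAdd.injective
        simp [← mul_assoc]
      right_inv := fun x => by
        apply Multiplicative.toAdd.injective
        simp [← mul_assoc]
      map_mul' := fun x y => by
        apply Multiplicative.toAdd.injective
        simp [mul_add] }
  map_one' := by
    ext x
    apply Multiplicative.toAdd.injective
    simp
  map_mul' c d := by
    ext x
    apply Multiplicative.toAdd.injective
    simp [mul_assoc]

/-- The group `E ⋊ C`. -/
abbrev Grp (C : Subgroup Eˣ) : Type _ := SemidirectProduct (Multiplicative E) C (act C)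

instance (C : Subgroup Eˣ) [Finite E] : Finite (Grp C) :=
  Finite.of_equiv _ SemidirectProduct.equivProd.symm

theorem solvable (C : Subgroup Eˣ) : Group.IsSolvable (Grp C) :=
  Group.isSolvable_of_ker_le_range (SemidirectProduct.inl (φ := act C)) SemidirectProduct.rightHom
    (by rw [SemidirectProduct.range_inl_eq_ker_rightHom])

theorem pow_formula {C : Subgroup Eˣ} (x : Grp C) (k : ℕ) :
    (x ^ k).left.toAdd = (∑ i ∈ Finset.range k, ((x.right : Eˣ) : E) ^ i) * x.left.toAdd := by
  induction k with
  | zero => simp
  | succ k ih =>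
    rw [pow_succ', SemidirectProduct.mul_left, toAdd_mul, geom_sum_succ]
    show x.left.toAdd + ((x.right : Eˣ) : E) * (x ^ k).left.toAdd = _
    rw [ih]
    ring

theorem orderOf_dvd (p : ℕ) [CharP E p] {C : Subgroup Eˣ} (x : Grp C) :
    orderOf x ∣ p ∨ orderOf x ∣ Nat.card C := by
  by_cases hc : x.right = 1
  · left
    refine orderOf_dvd_of_pow_eq_one (SemidirectProduct.ext ?_ ?_)
    · apply Multiplicative.toAdd.injective
      rw [pow_formula, hc]
      simp [CharP.cast_eq_zero]
    · rw [show (x ^ p).right = x.right ^ p from map_pow SemidirectProduct.rightHom x p, hc]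
      simp
  · right
    refine orderOf_dvd_of_pow_eq_one (SemidirectProduct.ext ?_ ?_)
    · apply Multiplicative.toAdd.injective
      rw [pow_formula]
      have hne : ((x.right : Eˣ) : E) ≠ 1 := fun h => hc (Subtype.ext (Units.ext h))
      have h0 : ((x.right : Eˣ) : E) ^ Nat.card C = 1 := by
        rw [← Units.val_pow_eq_pow_val, ← Subgroup.coe_pow, pow_card_eq_one']
        simp
      rw [geom_sum_eq hne, h0]
      simp
    · rw [show (x ^ Nat.card C).right = x.right ^ Nat.card C from map_pow SemidirectProduct.rightHom x _,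
        pow_card_eq_one']
      simp

theorem order_exists (p : ℕ) [Fact p.Prime] [CharP E p] [Finite E] (c : Eˣ) {d : ℕ}
    (hd : d ∣ p ∨ d ∣ orderOf c) : ∃ x : Grp (Subgroup.zpowers c), orderOf x = d := by
  rcases hd with h | h
  · rcases (Nat.dvd_prime Fact.out).1 h with rfl | rfl
    · exact ⟨1, orderOf_one⟩
    · refine ⟨SemidirectProduct.inl (Multiplicative.ofAdd (1 : E)), ?_⟩
      rw [orderOf_injective _ SemidirectProduct.inl_injective]
      refine orderOf_eq_prime ?_ ?_
      · apply Multiplicative.toAdd.injective
        simp [CharP.cast_eq_zero]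
      · intro h
        exact one_ne_zero (congrArg Multiplicative.toAdd h)
  · have h' : d ∣ orderOf (⟨c, Subgroup.mem_zpowers c⟩ : Subgroup.zpowers c) := by rwa [Subgroup.orderOf_mk]
    refine ⟨SemidirectProduct.inr ((⟨c, Subgroup.mem_zpowers c⟩ : Subgroup.zpowers c) ^
      (orderOf (⟨c, Subgroup.mem_zpowers c⟩ : Subgroup.zpowers c) / d)), ?_⟩
    rw [orderOf_injective _ SemidirectProduct.inr_injective]
    exact orderOf_pow_orderOf_div (orderOf_pos _).ne' h'

/-- A finite field has units of every order dividing `card - 1`. -/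
theorem exists_unit [Finite E] {d : ℕ} (hd : d ∣ Nat.card E - 1) : ∃ c : Eˣ, orderOf c = d := by
  obtain ⟨g, hg⟩ := IsCyclic.exists_ofOrder_eq_natCard (α := Eˣ)
  rw [Nat.card_units] at hg
  have h := orderOf_pow_orderOf_div (orderOf_pos g).ne' (hg.symm ▸ hd)
  exact ⟨_, h⟩

end Cfsg.Agent.Lie.FieldFrobenius
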