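import Cfsg.Agent.Lib.Lie.TwistG2S
import Cfsg.Agent.Lib.Lie.TwistG2W

/-!
The 3-subgroups of the twisted groups of type ²G₂.
-/

set_option autoImplicit false
set_option maxRecDepth 4000

namespace Cfsg.Agent.Lie.G2

open Cfsg.Lie Matrix Twist
open scoped MatrixGroups Pointwise

variable {K : Type*} [Field K] [Fintype K] {m : ℕ} (S : Setup K m)

include S

theorem Setup.N3_cube (t u v : K) :
    N3 (posRel S.h3) m t u v * N3 (posRel S.h3) m t u v * N3 (posRel S.h3) m t u v =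
      N3 (posRel S.h3) m 0 0 (-((t ^ 3 ^ m) ^ 3 * t * t)) := by
  rw [S.N3_mul, S.N3_mul]
  congr 1
  · linear_combination t * S.h3
  · linear_combination (u - (t ^ 3 ^ m) ^ 3 * t) * S.h3
  · linear_combination (v - t * u - (t ^ 3 ^ m) ^ 3 * t * t + (t ^ 3 ^ m) ^ 3 * t * t) * S.h3

theorem Setup.card_order_three :
    Nat.card {u : ↥(chevG2.posUnipotent K ⊓ twistedG2 K (3 ^ m)) // orderOf u = 3} =
      (3 ^ (2 * m + 1)) ^ 2 - 1 := by
  classical
  haveI : Fact (Nat.Prime 3) := ⟨Nat.prime_three⟩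
  have hU : ∀ t u v : K, N3 (posRel S.h3) m t u v ∈ chevG2.posUnipotent K ⊓ twistedG2 K (3 ^ m) := fun t u v =>
    (S.mem_U_iff _).2 ⟨t, u, v, by rw [← S.wg_U, factsG2.coe_wg]⟩
  have hord : ∀ t u v : K, orderOf (⟨_, hU t u v⟩ : ↥(chevG2.posUnipotent K ⊓ twistedG2 K (3 ^ m))) = 3 ↔
      t = 0 ∧ ¬(u = 0 ∧ v = 0) := fun t u v => by
    rw [orderOf_eq_prime_iff, ← Subtype.coe_ne_coe, Subtype.ext_iff, SubgroupClass.coe_pow, pow_three,
      ← mul_assoc, S.N3_cube, OneMemClass.coe_one, ← S.N3_zero]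
    constructor
    · rintro ⟨h1, h2⟩
      have h := (S.N3_inj h1).2.2
      have ht : t = 0 := by
        rcases mul_eq_zero.1 (neg_eq_zero.1 h) with h' | h'
        · rcases mul_eq_zero.1 h' with h'' | h''
          · exact eq_zero_of_pow_eq_zero (eq_zero_of_pow_eq_zero h'')
          · exact h''
        · exact h'
      exact ⟨ht, fun ⟨hu, hv⟩ => h2 (by rw [ht, hu, hv])⟩
    · rintro ⟨rfl, h2⟩
      exact ⟨by simp, fun h => h2 (S.N3_inj h).2⟩
  have e : Nat.card {p : K × K // p ≠ 0} = Nat.card (K × K) - 1 := by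
    rw [Nat.card_eq_fintype_card, Nat.card_eq_fintype_card, Fintype.card_subtype_compl,
      Fintype.card_subtype_eq]
  rw [pow_two, ← S.hK, ← Nat.card_prod, ← e]
  refine (Nat.card_eq_of_bijective (fun p : {p : K × K // p ≠ 0} =>
    (⟨⟨_, hU 0 p.1.1 p.1.2⟩, (hord 0 _ _).2 ⟨rfl, fun h => p.2 (Prod.ext h.1 h.2)⟩⟩ :
      {u : ↥(chevG2.posUnipotent K ⊓ twistedG2 K (3 ^ m)) // orderOf u = 3})) ⟨fun p q h => ?_, fun x => ?_⟩).symm
  · have h' := S.N3_inj (congrArg (fun x => x.1.1) h)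
    exact Subtype.ext (Prod.ext h'.2.1 h'.2.2)
  · obtain ⟨⟨g, hg⟩, hx⟩ := x
    obtain ⟨t, u, v, h⟩ := (S.mem_U_iff g).1 hg
    obtain rfl : g = N3 (posRel S.h3) m t u v := Units.ext (by rw [h, ← S.wg_U, factsG2.coe_wg])
    obtain ⟨rfl, h0⟩ := (hord t u v).1 hx
    exact ⟨⟨(u, v), fun h => h0 (by simpa using h)⟩, rfl⟩

/-- Conjugates of the positive unipotent subgroup meet it trivially or lie in it. -/
theorem Setup.TI {h : GL chevG2.Idx K} (hh : h ∈ twistedG2 K (3 ^ m)) :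
    (∀ y ∈ (factsG2.tsys K).U, h * y * h⁻¹ ∈ (factsG2.tsys K).U) ∨
      ∀ y ∈ (factsG2.tsys K).U, h * y * h⁻¹ ∈ (factsG2.tsys K).U → y = 1 := by
  obtain ⟨ω₀, hω₀⟩ := List.exists_mem_of_ne_nil Os (by decide +kernel)
  have hone : ∀ ω ∈ Os, ω = ω₀ := fun ω hω => by
    simp only [Os, List.map_cons, List.map_nil, List.mem_singleton] at hω hω₀
    rw [hω, hω₀]
  obtain ⟨w, hw, u, hu, -, a, ha, -, v, hv, -, rfl⟩ := S.data.decomp hh
  have hU : (factsG2.tsys K).US (orbL chevG2 (ω₀.map Fin.val)) = (factsG2.tsys K).U := by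
    have hm := List.mem_map_of_mem (f := fun ω => orbL chevG2 (ω.map Fin.val)) hω₀
    rw [orbLs, List.mem_singleton] at hm
    rw [hm]; rfl
  have hvU : v ∈ (factsG2.tsys K).U :=
    CommSys.US_mono _ (fun r hr => Facts.mem_posL.2 ((TorusSys.closed_invList w).mem_pos r hr)) hv
  have hcase : w = 1 ∨ w = S.T.wO ω₀ := by
    refine S.T.piFix_induction S.hOs (P := fun w => w = 1 ∨ w = S.T.wO ω₀) (Or.inl rfl) ?_ w hw
    rintro ω hω z - - - - (rfl | rfl)
    · exact Or.inr (by rw [one_mul, hone ω hω])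
    · exact Or.inl (by rw [hone ω hω]; exact S.T.wO_sq S.hOs hω₀)
  rcases hcase with rfl | rfl
  · refine Or.inl fun y hy => ?_
    have hn : a * (factsG2.tsys K).nW 1 ∈ (factsG2.tsys K).H := mul_mem ha (factsG2.tsys K).nW_one
    have h1 := (factsG2.tsys K).H_conj_US hn (fun r hr => (Facts.mem_posL.1 hr).2)
      (mul_mem (mul_mem hvU hy) (inv_mem hvU))
    rw [show u * (a * (factsG2.tsys K).nW 1) * v * y * (u * (a * (factsG2.tsys K).nW 1) * v)⁻¹ =
      u * (a * (factsG2.tsys K).nW 1 * (v * y * v⁻¹) * (a * (factsG2.tsys K).nW 1)⁻¹) * u⁻¹ by group]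
    exact mul_mem (mul_mem hu h1) (inv_mem hu)
  · refine Or.inr fun y hy hyU => ?_
    set n := a * (factsG2.tsys K).nW (S.T.wO ω₀) with hn
    have h1 : n * (v * y * v⁻¹) * n⁻¹ ∈ (factsG2.tsys K).US (Twist.negL chevG2 ω₀) :=
      (S.data.neg_orbit_subgroup hω₀ ha).1 _ (hU ▸ mul_mem (mul_mem hvU hy) (inv_mem hvU))
    have h2 : n * (v * y * v⁻¹) * n⁻¹ ∈ (factsG2.tsys K).U := by
      rw [show n * (v * y * v⁻¹) * n⁻¹ = u⁻¹ * (u * n * v * y * (u * n * v)⁻¹) * u by group]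
      exact mul_mem (mul_mem (inv_mem hu) hyU) hu
    have h3 := factsG2.B_inter_V ((factsG2.tsys K).U_le_B h2) (Twist.negL_le_negUnipotent h1)
    rw [conj_eq_one_iff, conj_eq_one_iff] at h3
    exact h3

theorem Setup.sylow_TI (P Q : Sylow 3 ↥(twistedG2 K (3 ^ m))) (hPQ : P ≠ Q) :
    (P : Subgroup ↥(twistedG2 K (3 ^ m))) ⊓ (Q : Subgroup ↥(twistedG2 K (3 ^ m))) = ⊥ := by
  haveI : Fact (Nat.Prime 3) := ⟨Nat.prime_three⟩
  set U1 := (chevG2.posUnipotent K).subgroupOf (twistedG2 K (3 ^ m)) with hU1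
  have hcard : Nat.card ↥U1 = (3 ^ (2 * m + 1)) ^ 3 := by
    rw [hU1, ← Subgroup.inf_subgroupOf_right, ← S.card_U]
    exact Nat.card_congr (Subgroup.subgroupOfEquivOfLe inf_le_right).toEquiv
  have hp : IsPGroup 3 ↥U1 := IsPGroup.of_card (n := (2 * m + 1) * 3) (by rw [hcard, pow_mul])
  have hidx : ¬ 3 ∣ U1.index := by
    have h := U1.card_mul_index
    rw [hcard, S.card_group, mul_assoc, Nat.mul_left_cancel_iff (by positivity)] at h
    rw [h]
    intro hd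
    rcases (Nat.Prime.dvd_mul Nat.prime_three).1 hd with hd' | hd'
    · have : 3 ∣ 3 ^ (2 * m + 1) := dvd_pow_self 3 (by omega)
      have : 1 ≤ 3 ^ (2 * m + 1) := Nat.one_le_pow _ _ (by norm_num)
      omega
    · have : 3 ∣ (3 ^ (2 * m + 1)) ^ 3 := dvd_pow (dvd_pow_self 3 (by omega)) (by norm_num)
      omega
  let P0 : Sylow 3 ↥(twistedG2 K (3 ^ m)) := hp.toSylow hidx
  obtain ⟨g, rfl⟩ := MulAction.exists_smul_eq ↥(twistedG2 K (3 ^ m)) P0 P
  obtain ⟨g', rfl⟩ := MulAction.exists_smul_eq ↥(twistedG2 K (3 ^ m)) P0 Q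
  have hmem : ∀ (g x : ↥(twistedG2 K (3 ^ m))), x ∈ ((g • P0 : Sylow 3 ↥(twistedG2 K (3 ^ m))) : Subgroup _) ↔
      ((g⁻¹ * x * g : ↥(twistedG2 K (3 ^ m))) : GL chevG2.Idx K) ∈ (factsG2.tsys K).U := fun g x => by
    rw [Sylow.coe_subgroup_smul, Subgroup.mem_pointwise_smul_iff_inv_smul_mem]
    simp [P0, hU1, Subgroup.mem_subgroupOf, factsG2.tsys_U, MulAut.smul_def]
  rw [Subgroup.eq_bot_iff_forall]
  intro x hx
  obtain ⟨hx1, hx2⟩ := Subgroup.mem_inf.1 hx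
  rw [hmem] at hx1 hx2
  rcases S.TI (h := ((g⁻¹ * g' : ↥(twistedG2 K (3 ^ m))) : GL chevG2.Idx K)) (g⁻¹ * g').2 with hn | ht
  · refine absurd ?_ hPQ
    refine Sylow.ext (Subgroup.eq_of_le_of_card_ge (fun z hz => ?_) ?_).symm
    · rw [hmem] at hz ⊢
      have := hn _ hz
      simp only [Subgroup.coe_mul, Subgroup.coe_inv] at this ⊢
      simpa [mul_assoc] using this
    · rw [Sylow.card_eq_multiplicity, Sylow.card_eq_multiplicity]
  · have hy : ((g'⁻¹ * x * g' : ↥(twistedG2 K (3 ^ m))) : GL chevG2.Idx K) = 1 := by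
      refine ht _ hx2 ?_
      simp only [Subgroup.coe_mul, Subgroup.coe_inv] at hx1 ⊢
      simpa [mul_assoc] using hx1
    rw [OneMemClass.coe_eq_one] at hy
    rw [show x = g' * (g'⁻¹ * x * g') * g'⁻¹ by group, hy]
    group

end Cfsg.Agent.Lie.G2
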