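import Mathlib
import Cfsg.Agent.Lib.Lie.CyclicRegularField

/-!
A two-group with an involutory automorphism whose fixed points form an elementary abelian group on which a
commuting automorphism is transitive.
-/

set_option autoImplicit false

namespace Cfsg.Agent.Lie.FixedLayer

universe u

/-- The hypotheses. -/
structure Data (Q : Type u) [Group Q] (n : ℕ) where
  /-- the involution -/
  α : MulAut Q
  /-- the transitive automorphism -/
  ρ : MulAut Q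
  invol : ∀ x, α (α x) = x
  comm : ∀ x, α (ρ x) = ρ (α x)
  card_fix : Nat.card {x : Q // α x = x} = 2 ^ n
  fix_sq : ∀ x, α x = x → x * x = 1
  trans : ∀ x y, α x = x → α y = y → x ≠ 1 → y ≠ 1 → ∃ k : ℕ, (ρ ^ k) x = y
  rho_pow : ∀ x, (ρ ^ (2 ^ n - 1)) x = x

variable {Q : Type u} [Group Q] {n : ℕ} (d : Data Q n)

/-- the fixed subgroup -/
def Data.C : Subgroup Q := MonoidHom.eqLocus d.α.toMonoidHom (MonoidHom.id Q)

/-- displacement -/
def Data.dl (x : Q) : Q := x⁻¹ * d.α x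

theorem Data.mem_C {x : Q} : x ∈ d.C ↔ d.α x = x := Iff.rfl

theorem Data.dl_eq_one {x : Q} : d.dl x = 1 ↔ x ∈ d.C := by
  rw [Data.dl, inv_mul_eq_one, d.mem_C]; exact eq_comm

theorem Data.alpha_dl (x : Q) : d.α (d.dl x) = (d.dl x)⁻¹ := by
  rw [Data.dl, map_mul, map_inv, d.invol, mul_inv_rev, inv_inv]

theorem Data.dl_dl (x : Q) : d.dl (d.dl x) = (d.dl x)⁻¹ * (d.dl x)⁻¹ := by
  conv_lhs => rw [Data.dl, d.alpha_dl]

theorem Data.dl_mul (x y : Q) : d.dl (x * y) = y⁻¹ * d.dl x * y * d.dl y := by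
  rw [Data.dl, Data.dl, Data.dl, map_mul]; group

theorem Data.rho_pow_comm (k : ℕ) (x : Q) : d.α ((d.ρ ^ k) x) = (d.ρ ^ k) (d.α x) := by
  induction k with
  | zero => rfl
  | succ k ih => rw [pow_succ', MulAut.mul_apply, MulAut.mul_apply, d.comm, ih]

theorem Data.dl_rho (k : ℕ) (x : Q) : d.dl ((d.ρ ^ k) x) = (d.ρ ^ k) (d.dl x) := by
  rw [Data.dl, Data.dl, d.rho_pow_comm, map_mul, map_inv]

theorem Data.dl_rho1 (x : Q) : d.dl (d.ρ x) = d.ρ (d.dl x) := by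
  simpa using d.dl_rho 1 x

theorem Data.rho_mem {x : Q} (hx : x ∈ d.C) (k : ℕ) : (d.ρ ^ k) x ∈ d.C := by
  rw [d.mem_C, d.rho_pow_comm, d.mem_C.1 hx]

theorem Data.C_inv {x : Q} (hx : x ∈ d.C) : x⁻¹ = x := inv_eq_of_mul_eq_one_right (d.fix_sq x hx)

/-- An invariant nontrivial subgroup with commuting elements has nontrivial fixed points. -/
theorem Data.exists_fixed [Finite Q] (hp : IsPGroup 2 Q) (H : Subgroup Q) (hα : ∀ x ∈ H, d.α x ∈ H)
    (hcom : ∀ x ∈ H, ∀ y ∈ H, x * y = y * x) (hne : H ≠ ⊥) : ∃ x ∈ H, x ≠ 1 ∧ x ∈ d.C := by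
  haveI : Fact (Nat.Prime 2) := ⟨Nat.prime_two⟩
  obtain ⟨g, hg, hg1⟩ : ∃ g ∈ H, g ≠ 1 := by
    by_contra h
    push Not at h
    exact hne ((Subgroup.eq_bot_iff_forall _).2 h)
  obtain ⟨k, hk⟩ := (Nat.dvd_prime_pow Nat.prime_two).1 (orderOf_dvd_of_pow_eq_one (hp g).choose_spec)
  have hk0 : k ≠ 0 := fun h => hg1 (orderOf_eq_one_iff.1 (by rw [hk.2, h, pow_zero]))
  obtain ⟨j, rfl⟩ := Nat.exists_eq_succ_of_ne_zero hk0
  let z := g ^ 2 ^ j
  have hz1 : z ≠ 1 := pow_ne_one_of_lt_orderOf (by positivity)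
    (by rw [hk.2]; exact Nat.pow_lt_pow_right (by norm_num) (Nat.lt_succ_self j))
  have hz2 : z * z = 1 := by
    rw [← pow_add, ← two_mul, ← pow_succ', ← hk.2, pow_orderOf_eq_one]
  have hzH : z ∈ H := H.pow_mem hg _
  by_cases h : z * d.α z = 1
  · refine ⟨z, hzH, hz1, ?_⟩
    rw [d.mem_C, ← mul_eq_one_iff_inv_eq.1 h]
    exact inv_eq_of_mul_eq_one_right hz2
  · refine ⟨z * d.α z, H.mul_mem hzH (hα z hzH), h, ?_⟩
    rw [d.mem_C, map_mul, d.invol, hcom _ (hα z hzH) _ hzH]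

variable [Finite Q]

theorem Data.C_ne_bot (hn : 1 ≤ n) : d.C ≠ ⊥ := by
  intro h
  have h1 : Nat.card ↥d.C = 2 ^ n := d.card_fix
  rw [h, Subgroup.card_bot] at h1
  exact absurd h1.symm (Nat.one_lt_two_pow (by omega)).ne'

theorem Data.C_le_center (hp : IsPGroup 2 Q) (hn : 1 ≤ n) : d.C ≤ Subgroup.center Q := by
  haveI : Fact (Nat.Prime 2) := ⟨Nat.prime_two⟩
  obtain ⟨c, hc, hc1⟩ : ∃ c ∈ d.C, c ≠ 1 := by
    by_contra h
    push Not at h
    exact d.C_ne_bot hn ((Subgroup.eq_bot_iff_forall _).2 h)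
  haveI : Nontrivial Q := ⟨⟨c, 1, hc1⟩⟩
  have hinv : ∀ (φ : MulAut Q), ∀ x ∈ Subgroup.center Q, φ x ∈ Subgroup.center Q := fun φ x hx =>
    Subgroup.mem_center_iff.2 fun y => by
      have := congrArg φ (Subgroup.mem_center_iff.1 hx (φ.symm y))
      simpa using this
  obtain ⟨z, hz, hz1, hzC⟩ := d.exists_fixed hp (Subgroup.center Q) (hinv _)
    (fun x _ y hy => Subgroup.mem_center_iff.1 hy x) (by
      haveI := hp.center_nontrivial
      exact (Subgroup.nontrivial_iff_ne_bot _).1 inferInstance)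
  intro x hx
  by_cases hx1 : x = 1
  · rw [hx1]; exact Subgroup.one_mem _
  obtain ⟨k, rfl⟩ := d.trans z x hzC hx hz1 hx1
  exact hinv _ z hz

theorem Data.C_normal (hp : IsPGroup 2 Q) (hn : 1 ≤ n) : d.C.Normal :=
  ⟨fun c hc g => by rw [Subgroup.mem_center_iff.1 (d.C_le_center hp hn hc) g, mul_inv_cancel_right]; exact hc⟩

theorem Data.C_comm (hp : IsPGroup 2 Q) (hn : 1 ≤ n) {c : Q} (hc : c ∈ d.C) (x : Q) : c * x = x * c :=
  (Subgroup.mem_center_iff.1 (d.C_le_center hp hn hc) x).symm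

theorem Data.dl_mul_C (hp : IsPGroup 2 Q) (hn : 1 ≤ n) {c : Q} (hc : c ∈ d.C) (x : Q) : d.dl (x * c) = d.dl x := by
  rw [d.dl_mul, d.dl_eq_one.2 hc, mul_one, mul_assoc, ← d.C_comm hp hn hc, inv_mul_cancel_left]

theorem Data.dl_mul_D (hp : IsPGroup 2 Q) (hn : 1 ≤ n) {x : Q} (hx : d.dl x ∈ d.C) (y : Q) :
    d.dl (x * y) = d.dl x * d.dl y := by
  rw [d.dl_mul, mul_assoc y⁻¹, d.C_comm hp hn hx, inv_mul_cancel_left]

/-- The second layer. -/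
def Data.D (hp : IsPGroup 2 Q) (hn : 1 ≤ n) : Subgroup Q where
  carrier := {x | d.dl x ∈ d.C}
  one_mem' := by show d.dl 1 ∈ d.C; rw [d.dl_eq_one.2 d.C.one_mem]; exact d.C.one_mem
  mul_mem' := fun {a b} ha hb => by
    show d.dl (a * b) ∈ d.C
    rw [d.dl_mul_D hp hn ha]; exact d.C.mul_mem ha hb
  inv_mem' := fun {a} ha => by
    show d.dl a⁻¹ ∈ d.C
    have h := d.dl_mul_D hp hn ha a⁻¹
    rw [mul_inv_cancel, d.dl_eq_one.2 d.C.one_mem] at h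
    rw [← inv_eq_of_mul_eq_one_right h.symm]
    exact d.C.inv_mem ha

theorem Data.mem_D {hp : IsPGroup 2 Q} {hn : 1 ≤ n} {x : Q} : x ∈ d.D hp hn ↔ d.dl x ∈ d.C := Iff.rfl

/-- If some element is outside `C`, the displacement of the second layer covers `C`. -/
theorem Data.dl_surj (hp : IsPGroup 2 Q) (hn : 1 ≤ n) (hne : d.C ≠ ⊤) (c : Q) (hc : c ∈ d.C) :
    ∃ x, d.dl x = c := by
  classical
  haveI : Fact (Nat.Prime 2) := ⟨Nat.prime_two⟩
  haveI := d.C_normal hp hn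
  by_cases hc1 : c = 1
  · exact ⟨1, by rw [hc1, d.dl_eq_one]; exact d.C.one_mem⟩
  have hmap : ∀ φ : MulAut Q, ∀ H : Subgroup Q, H.map (φ : Q →* Q) ≤ H → ∀ x ∈ H, φ x ∈ H :=
    fun φ H h x hx => h ⟨x, hx, rfl⟩
  let qm := QuotientGroup.mk' d.C
  haveI : Nontrivial (Q ⧸ d.C) := by
    obtain ⟨x, hx⟩ : ∃ x, x ∉ d.C := by
      by_contra h; push Not at h; exact hne ((Subgroup.eq_top_iff' _).2 h)
    exact ⟨⟨(x : Q ⧸ d.C), 1, fun h => hx ((QuotientGroup.eq_one_iff x).1 h)⟩⟩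
  haveI := (hp.to_quotient d.C).center_nontrivial
  obtain ⟨z, hzc, hz1⟩ : ∃ z ∈ Subgroup.center (Q ⧸ d.C), z ≠ 1 := by
    obtain ⟨a, ha⟩ := exists_ne (1 : Subgroup.center (Q ⧸ d.C))
    exact ⟨a, a.2, fun h => ha (Subtype.ext h)⟩
  obtain ⟨g, rfl⟩ := QuotientGroup.mk_surjective z
  have hsq : ∃ w : Q, w ∉ d.C ∧ (w : Q ⧸ d.C) ∈ Subgroup.center (Q ⧸ d.C) ∧ w * w ∈ d.C := by
    obtain ⟨k, hk⟩ := (Nat.dvd_prime_pow Nat.prime_two).1
      (orderOf_dvd_of_pow_eq_one ((hp.to_quotient d.C) (g : Q ⧸ d.C)).choose_spec)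
    have hk0 : k ≠ 0 := fun h => hz1 (orderOf_eq_one_iff.1 (by rw [hk.2, h, pow_zero]))
    obtain ⟨j, rfl⟩ := Nat.exists_eq_succ_of_ne_zero hk0
    refine ⟨g ^ 2 ^ j, fun h => ?_, by rw [QuotientGroup.mk_pow]; exact Subgroup.pow_mem _ hzc _, ?_⟩
    · exact pow_ne_one_of_lt_orderOf (by positivity : (2 : ℕ) ^ j ≠ 0)
        (by rw [hk.2]; exact Nat.pow_lt_pow_right (by norm_num) (Nat.lt_succ_self j))
        ((QuotientGroup.mk_pow d.C g (2 ^ j)).symm.trans ((QuotientGroup.eq_one_iff _).2 h))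
    · rw [← QuotientGroup.eq_one_iff, ← pow_add, ← two_mul, ← pow_succ', QuotientGroup.mk_pow, ← hk.2,
        pow_orderOf_eq_one]
  obtain ⟨w, hwC, hwc, hw2⟩ := hsq
  obtain ⟨x, hx, hx1⟩ : ∃ x, d.dl x ∈ d.C ∧ d.dl x ≠ 1 := by
    by_cases h : d.dl w ∈ d.C
    · exact ⟨w, h, fun h1 => hwC (d.dl_eq_one.1 h1)⟩
    · refine ⟨w * d.α w, ?_, fun h1 => ?_⟩
      · rw [← QuotientGroup.eq_one_iff, Data.dl, map_mul, d.invol, mul_inv_rev, QuotientGroup.mk_mul,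
          QuotientGroup.mk_mul, QuotientGroup.mk_mul, Subgroup.mem_center_iff.1 hwc (d.α w : Q ⧸ d.C)]
        simp [mul_assoc]
      · refine h ?_
        have h2 := d.C.mul_mem (d.C.inv_mem hw2) (d.dl_eq_one.1 h1)
        simpa [Data.dl, mul_assoc] using h2
  obtain ⟨k, hk⟩ := d.trans _ c hx hc hx1 hc1
  exact ⟨(d.ρ ^ k) x, by rw [d.dl_rho, hk]⟩

/-- Equal displacements in `C` give congruence modulo `C`. -/
theorem Data.inv_mul_mem (hp : IsPGroup 2 Q) (hn : 1 ≤ n) {x y : Q} (hx : d.dl x ∈ d.C) (h : d.dl x = d.dl y) :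
    x⁻¹ * y ∈ d.C := by
  have hi : d.dl x⁻¹ = (d.dl x)⁻¹ := by
    have h1 := d.dl_mul_D hp hn hx x⁻¹
    rw [mul_inv_cancel, d.dl_eq_one.2 d.C.one_mem] at h1
    exact (inv_eq_of_mul_eq_one_right h1.symm).symm
  rw [← d.dl_eq_one, d.dl_mul_D hp hn (by rw [hi]; exact d.C.inv_mem hx), hi, ← h, inv_mul_cancel]

/-- An automorphism on the quotient by `C`. -/
noncomputable def Data.qAut [d.C.Normal] (φ : MulAut Q) (hφ : ∀ x ∈ d.C, φ x ∈ d.C) : MulAut (Q ⧸ d.C) :=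
  QuotientGroup.congr d.C d.C φ (by
    refine Subgroup.eq_of_le_of_card_ge ?_ ?_
    · rintro _ ⟨x, hx, rfl⟩; exact hφ x hx
    · exact le_of_eq (Nat.card_congr (d.C.equivMapOfInjective _ φ.injective).toEquiv))

theorem Data.qAut_pow [d.C.Normal] (φ : MulAut Q) (hφ : ∀ x ∈ d.C, φ x ∈ d.C) (k : ℕ) (z : Q) :
    ((d.qAut φ hφ) ^ k) (z : Q ⧸ d.C) = (((φ ^ k) z : Q) : Q ⧸ d.C) := by
  induction k generalizing z with
  | zero => rfl
  | succ k ih => rw [pow_succ', MulAut.mul_apply, ih, pow_succ', MulAut.mul_apply]; rfl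

/-- The data on the quotient by `C`. -/
noncomputable def Data.quot (hp : IsPGroup 2 Q) (hn : 1 ≤ n) (hne : d.C ≠ ⊤) [d.C.Normal] : Data (Q ⧸ d.C) n where
  α := d.qAut d.α fun x hx => by rw [d.mem_C.1 hx]; exact hx
  ρ := d.qAut d.ρ fun x hx => by simpa using d.rho_mem hx 1
  invol x := by
    obtain ⟨x, rfl⟩ := QuotientGroup.mk_surjective x
    exact congrArg _ (d.invol x)
  comm x := by
    obtain ⟨x, rfl⟩ := QuotientGroup.mk_surjective x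
    exact congrArg _ (d.comm x)
  card_fix := by
    classical
    rw [← d.card_fix]
    have key : ∀ x : Q, d.dl x ∈ d.C ↔ ((d.α x : Q) : Q ⧸ d.C) = (x : Q ⧸ d.C) := fun x => by
      rw [eq_comm, QuotientGroup.eq, Data.dl]
    choose s hs using fun c : {x : Q // d.α x = x} => d.dl_surj hp hn hne c.1 c.2
    refine (Nat.card_congr (Equiv.ofBijective
      (fun c => (⟨(s c : Q ⧸ d.C), (key _).1 (by rw [hs]; exact c.2)⟩ :
        {x : Q ⧸ d.C // d.qAut d.α (fun x hx => by rw [d.mem_C.1 hx]; exact hx) x = x})) ⟨fun a b h => ?_, ?_⟩)).symm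
    · have h1 : (s a : Q ⧸ d.C) = (s b : Q ⧸ d.C) := congrArg Subtype.val h
      rw [QuotientGroup.eq] at h1
      refine Subtype.ext ?_
      rw [← hs a, ← hs b, ← mul_inv_cancel_left (s a) (s b), d.dl_mul_C hp hn h1]
    · rintro ⟨x, hx⟩
      obtain ⟨x, rfl⟩ := QuotientGroup.mk_surjective x
      refine ⟨⟨d.dl x, (key x).2 hx⟩, Subtype.ext (QuotientGroup.eq.2 ?_)⟩
      exact d.inv_mul_mem hp hn (by rw [hs]; exact (key x).2 hx) (hs _)
  fix_sq x hx := by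
    obtain ⟨x, rfl⟩ := QuotientGroup.mk_surjective x
    have h : d.dl x ∈ d.C := by
      rw [Data.dl, ← QuotientGroup.eq]; exact hx.symm
    refine (QuotientGroup.eq_one_iff (x * x)).2 (d.dl_eq_one.1 ?_)
    rw [d.dl_mul_D hp hn h, d.fix_sq _ h]
  trans x y hx hy hx1 hy1 := by
    obtain ⟨x, rfl⟩ := QuotientGroup.mk_surjective x
    obtain ⟨y, rfl⟩ := QuotientGroup.mk_surjective y
    have h : ∀ z : Q, ((d.α z : Q) : Q ⧸ d.C) = (z : Q ⧸ d.C) → d.dl z ∈ d.C := fun z hz => by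
      rw [Data.dl, ← QuotientGroup.eq]; exact hz.symm
    have h1 : ∀ z : Q, (z : Q ⧸ d.C) ≠ 1 → d.dl z ≠ 1 := fun z hz e =>
      hz ((QuotientGroup.eq_one_iff z).2 (d.dl_eq_one.1 e))
    obtain ⟨k, hk⟩ := d.trans _ _ (h x hx) (h y hy) (h1 x hx1) (h1 y hy1)
    refine ⟨k, ?_⟩
    rw [d.qAut_pow, QuotientGroup.eq]
    exact d.inv_mul_mem hp hn (by rw [d.dl_rho]; exact d.rho_mem (h x hx) k) (by rw [d.dl_rho, hk])
  rho_pow x := by
    obtain ⟨x, rfl⟩ := QuotientGroup.mk_surjective x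
    rw [d.qAut_pow, d.rho_pow]

theorem Data.quot_alpha (hp : IsPGroup 2 Q) (hn : 1 ≤ n) (hne : d.C ≠ ⊤) [d.C.Normal] (x : Q) :
    (d.quot hp hn hne).α (x : Q ⧸ d.C) = ((d.α x : Q) : Q ⧸ d.C) := rfl

theorem Data.quot_rho (hp : IsPGroup 2 Q) (hn : 1 ≤ n) (hne : d.C ≠ ⊤) [d.C.Normal] (x : Q) :
    (d.quot hp hn hne).ρ (x : Q ⧸ d.C) = ((d.ρ x : Q) : Q ⧸ d.C) := rfl

theorem Data.quot_dl (hp : IsPGroup 2 Q) (hn : 1 ≤ n) (hne : d.C ≠ ⊤) [d.C.Normal] (x : Q) :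
    (d.quot hp hn hne).dl (x : Q ⧸ d.C) = ((d.dl x : Q) : Q ⧸ d.C) := rfl

theorem Data.quot_mem (hp : IsPGroup 2 Q) (hn : 1 ≤ n) (hne : d.C ≠ ⊤) [d.C.Normal] (x : Q) :
    (x : Q ⧸ d.C) ∈ (d.quot hp hn hne).C ↔ d.dl x ∈ d.C := by
  rw [Data.mem_C, d.quot_alpha, eq_comm, QuotientGroup.eq, Data.dl]

end Cfsg.Agent.Lie.FixedLayer
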