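import Mathlib
import Cfsg.Agent.Lib.Lie.FixedLayers

/-!
The abelian two-groups with an involutory automorphism fixing a four-group that a commuting automorphism
permutes transitively: elementary abelian of order sixteen, or homocyclic of rank two.
-/

set_option autoImplicit false

namespace Cfsg.Agent.Lie.FixedLayer

universe u

variable {Q : Type u}

theorem orderOf_eq_two_pow [Group Q] (hp : IsPGroup 2 Q) (x : Q) : ∃ k, orderOf x = 2 ^ k := by
  haveI : Fact (Nat.Prime 2) := ⟨Nat.prime_two⟩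
  exact IsPGroup.iff_orderOf.1 hp x

/-- An involution outside the fixed points forces exponent two. -/
theorem Data.sixteen [CommGroup Q] [Finite Q] (d : Data Q 2) (hp : IsPGroup 2 Q) {w : Q}
    (hw : w * w = 1) (hwC : w ∉ d.C) : Nat.card Q = 16 ∧ ∀ x : Q, x ^ 2 = 1 := by
  let δ : Q →* Q := MonoidHom.mk' d.dl fun x y => by
    rw [d.dl_mul, mul_comm y⁻¹ (d.dl x), inv_mul_cancel_right]
  have hCsq : ∀ {c : Q}, c ∈ d.C → c * c = 1 := fun hc => d.fix_sq _ hc
  have hδC : ∀ {u : Q}, u * u = 1 → δ u ∈ d.C := by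
    intro u hu
    have h2 : δ u * δ u = 1 := by rw [← map_mul, hu, map_one]
    show d.α (d.dl u) = d.dl u
    rw [d.alpha_dl]; exact inv_eq_of_mul_eq_one_right h2
  have hδw : δ w ≠ 1 := fun h => hwC (d.dl_eq_one.1 h)
  -- every fixed element is the displacement of an involution
  have hsurj : ∀ c ∈ d.C, ∃ u, u * u = 1 ∧ δ u = c := by
    intro c hc
    by_cases hc1 : c = 1
    · exact ⟨1, one_mul 1, by rw [map_one, hc1]⟩
    obtain ⟨k, hk⟩ := d.trans _ c (hδC hw) hc hδw hc1
    refine ⟨(d.ρ ^ k) w, by rw [← map_mul, hw, map_one], ?_⟩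
    show d.dl _ = c
    rw [d.dl_rho]; exact hk
  have hexp : ∀ x : Q, x ^ 2 = 1 := by
    intro x
    obtain ⟨k, hk⟩ := orderOf_eq_two_pow hp x
    have hx0 : x ^ 2 ^ k = 1 := by rw [← hk]; exact pow_orderOf_eq_one x
    clear hk
    induction k generalizing x with
    | zero => rw [pow_zero, pow_one] at hx0; rw [hx0, one_pow]
    | succ k ih =>
      have hy : x ^ 2 * x ^ 2 = 1 := by
        rw [← pow_two]; exact ih (x ^ 2) (by rw [← pow_mul, ← pow_succ']; exact hx0)
      have hd2 : δ x * δ x = δ (x ^ 2) := by rw [← map_mul, pow_two]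
      have hdd : δ (δ x) = δ (x ^ 2) := by
        show d.dl (d.dl x) = _
        rw [d.dl_dl, ← mul_inv_rev]
        show (δ x * δ x)⁻¹ = _
        rw [hd2]
        exact d.C_inv (hδC hy)
      have h1 : δ x * (x ^ 2)⁻¹ ∈ d.C := by
        rw [← d.dl_eq_one]
        show δ _ = 1
        rw [map_mul, map_inv, hdd, mul_inv_cancel]
      have h2 : δ (x ^ 2) = 1 := by
        rw [← hd2, show δ x = δ x * (x ^ 2)⁻¹ * x ^ 2 by group]
        rw [mul_mul_mul_comm, hCsq h1, hy, one_mul]
      have h3 : δ x ∈ d.C := by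
        show d.α (d.dl x) = d.dl x
        rw [d.alpha_dl]; exact inv_eq_of_mul_eq_one_right (hd2.trans h2)
      obtain ⟨u, hu, hux⟩ := hsurj _ h3
      have h4 : x * u⁻¹ ∈ d.C := by
        rw [← d.dl_eq_one]
        show δ _ = 1
        rw [map_mul, map_inv, hux, mul_inv_cancel]
      rw [pow_two, show x = x * u⁻¹ * u by group, mul_mul_mul_comm, hCsq h4, hu, one_mul]
  refine ⟨?_, hexp⟩
  have hrange : δ.range = d.C := by
    refine le_antisymm ?_ fun c hc => ?_
    · rintro _ ⟨x, rfl⟩; exact hδC (by rw [← pow_two]; exact hexp x)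
    · obtain ⟨u, -, hu⟩ := hsurj c hc; exact ⟨u, hu⟩
  have hker : δ.ker = d.C := by
    ext x; exact d.dl_eq_one
  have h := δ.ker.card_mul_index
  rw [Subgroup.index_ker, hrange, hker, show Nat.card ↥d.C = 2 ^ 2 from d.card_fix] at h
  norm_num at h
  exact h.symm

/-- Without such an involution the group is homocyclic. -/
theorem Data.homocyclic [CommGroup Q] [Finite Q] (d : Data Q 2) (hp : IsPGroup 2 Q)
    (hinv : ∀ w : Q, w * w = 1 → w ∈ d.C) :
    ∃ n : ℕ, 1 ≤ n ∧
      Nonempty (Q ≃* Multiplicative (ZMod (2 ^ n)) × Multiplicative (ZMod (2 ^ n))) := by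
  classical
  obtain ⟨x, hx⟩ := Monoid.exists_orderOf_eq_exponent (Monoid.ExponentExists.of_finite (G := Q))
  obtain ⟨n, hn⟩ := orderOf_eq_two_pow hp x
  rw [hn] at hx
  have hC4 : Nat.card ↥d.C = 4 := d.card_fix
  have hn1 : 1 ≤ n := by
    by_contra h
    obtain rfl : n = 0 := by omega
    have hsub : Subsingleton Q := by
      refine ⟨fun a b => ?_⟩
      have ha := Monoid.pow_exponent_eq_one a
      have hb := Monoid.pow_exponent_eq_one b
      rw [← hx, pow_zero, pow_one] at ha hb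
      rw [ha, hb]
    have := Finite.card_le_one_iff_subsingleton.2 (inferInstance : Subsingleton ↥d.C)
    omega
  obtain ⟨m, rfl⟩ := Nat.exists_eq_succ_of_ne_zero (by omega : n ≠ 0)
  let z := x ^ 2 ^ m
  have hzz : z * z = 1 := by
    rw [← pow_add, ← two_mul, ← pow_succ', ← hn, pow_orderOf_eq_one]
  have hz1 : z ≠ 1 := pow_ne_one_of_lt_orderOf (by positivity)
    (by rw [hn]; exact Nat.pow_lt_pow_right (by norm_num) (Nat.lt_succ_self m))
  have hzC := hinv z hzz
  obtain ⟨c, hc, hc1, hcz⟩ : ∃ c ∈ d.C, c ≠ 1 ∧ c ≠ z := by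
    by_contra hcon
    push Not at hcon
    have hsub : (d.C : Set Q) ⊆ {1, z} := fun c hc => by
      by_cases h : c = 1
      · exact Or.inl h
      · exact Or.inr (hcon c hc h)
    have := Set.ncard_le_ncard hsub (Set.toFinite _)
    rw [Set.ncard_pair hz1.symm, ← Nat.card_coe_set_eq] at this
    simp only [SetLike.coe_sort_coe] at this
    omega
  obtain ⟨k, hk⟩ := d.trans z c hzC hc hz1 hc1
  let y := (d.ρ ^ k) x
  have hy : y ^ 2 ^ m = c := by rw [← map_pow]; exact hk
  have hyo : orderOf y = 2 ^ (m + 1) := by rw [← hn]; exact MulEquiv.orderOf_eq (d.ρ ^ k) x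
  -- the fixed points
  have hCset : ∀ v ∈ d.C, v = 1 ∨ v = z ∨ v = c ∨ v = z * c := by
    intro v hv
    by_contra hcon
    push Not at hcon
    obtain ⟨v1, v2, v3, v4⟩ := hcon
    have hzc1 : z * c ≠ 1 := fun h => hcz (by
      have := congrArg (z * ·) h; simpa [← mul_assoc, hzz] using this)
    have hzcz : z * c ≠ z := fun h => hc1 (by simpa using h)
    have hzcc : z * c ≠ c := fun h => hz1 (by simpa using h)
    have hsub : (({1, z, c, z * c, v} : Finset Q) : Set Q) ⊆ d.C := by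
      intro w hw
      simp only [Finset.coe_insert, Finset.coe_singleton, Set.mem_insert_iff, Set.mem_singleton_iff] at hw
      rcases hw with rfl | rfl | rfl | rfl | rfl
      exacts [d.C.one_mem, hzC, hc, d.C.mul_mem hzC hc, hv]
    have := Set.ncard_le_ncard hsub (Set.toFinite _)
    rw [Set.ncard_coe_finset, ← Nat.card_coe_set_eq] at this
    simp only [SetLike.coe_sort_coe] at this
    rw [Finset.card_insert_of_notMem (by simp [hz1.symm, hc1.symm, hzc1.symm, v1.symm]),
      Finset.card_insert_of_notMem (by simp [hcz.symm, hzcz.symm, v2.symm]),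
      Finset.card_insert_of_notMem (by simp [hzcc.symm, v3.symm]),
      Finset.card_insert_of_notMem (by simp [v4.symm]), Finset.card_singleton] at this
    omega
  -- the two cyclic subgroups are independent
  have hinvol : ∀ a : Q, orderOf a = 2 ^ (m + 1) → ∀ w ∈ Subgroup.zpowers a, w * w = 1 →
      w = 1 ∨ w = a ^ 2 ^ m := by
    intro a ha w hw hww
    obtain ⟨i, rfl⟩ := (isOfFinOrder_of_finite a).mem_zpowers_iff_mem_range_orderOf.1 hw |>
      fun h => (Finset.mem_image.1 h).imp fun i hi => hi.2.symm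
    have hd : 2 ^ (m + 1) ∣ 2 * i := by
      rw [← ha]; exact orderOf_dvd_of_pow_eq_one (by rw [two_mul, pow_add]; exact hww)
    rw [pow_succ'] at hd
    obtain ⟨j, rfl⟩ := Nat.dvd_of_mul_dvd_mul_left (by norm_num) hd
    rw [pow_mul]
    rcases Nat.even_or_odd' j with ⟨t, rfl | rfl⟩
    · left
      rw [pow_mul, ← pow_mul a, ← pow_succ, ← ha, pow_orderOf_eq_one, one_pow]
    · right
      rw [pow_succ, pow_mul, ← pow_mul a, ← pow_succ, ← ha, pow_orderOf_eq_one, one_pow, one_mul]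
  have hdisj : Disjoint (Subgroup.zpowers x) (Subgroup.zpowers y) := by
    rw [Subgroup.disjoint_def]
    intro g hgx hgy
    by_contra hg
    obtain ⟨j, hj⟩ := orderOf_eq_two_pow hp g
    obtain ⟨i, rfl⟩ := Nat.exists_eq_succ_of_ne_zero (n := j) fun h => hg
      (orderOf_eq_one_iff.1 (by rw [hj, h, pow_zero]))
    have hw : g ^ 2 ^ i * g ^ 2 ^ i = 1 := by
      rw [← pow_add, ← two_mul, ← pow_succ', ← hj, pow_orderOf_eq_one]
    have hw1 : g ^ 2 ^ i ≠ 1 := pow_ne_one_of_lt_orderOf (by positivity)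
      (by rw [hj]; exact Nat.pow_lt_pow_right (by norm_num) (Nat.lt_succ_self i))
    have e1 := (hinvol x hn _ (Subgroup.pow_mem _ hgx _) hw).resolve_left hw1
    have e2 := (hinvol y hyo _ (Subgroup.pow_mem _ hgy _) hw).resolve_left hw1
    rw [hy] at e2
    exact hcz (e2.symm.trans e1)
  let φ : ↥(Subgroup.zpowers x) × ↥(Subgroup.zpowers y) →* Q :=
    (Subgroup.zpowers x).subtype.coprod (Subgroup.zpowers y).subtype
  have hφi : Function.Injective φ := Subgroup.mul_injective_of_disjoint hdisj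
  let K := φ.range
  have hxK : x ∈ K := ⟨(⟨x, Subgroup.mem_zpowers x⟩, 1), by simp [φ]⟩
  have hyK : y ∈ K := ⟨(1, ⟨y, Subgroup.mem_zpowers y⟩), by simp [φ]⟩
  have hCK : ∀ v ∈ d.C, ∃ h ∈ K, h ^ 2 ^ m = v := by
    intro v hv
    rcases hCset v hv with rfl | rfl | rfl | rfl
    · exact ⟨1, K.one_mem, one_pow _⟩
    · exact ⟨x, hxK, rfl⟩
    · exact ⟨y, hyK, hy⟩
    · exact ⟨x * y, K.mul_mem hxK hyK, by rw [mul_pow, hy]⟩
  have hall : ∀ j ≤ m + 1, ∀ g : Q, g ^ 2 ^ j = 1 → g ∈ K := by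
    intro j
    induction j with
    | zero => intro _ g hg; rw [pow_zero, pow_one] at hg; rw [hg]; exact K.one_mem
    | succ j ih =>
      intro hj g hg
      have hw : g ^ 2 ^ j * g ^ 2 ^ j = 1 := by rw [← pow_add, ← two_mul, ← pow_succ']; exact hg
      obtain ⟨h, hhK, hh⟩ := hCK _ (hinv _ hw)
      have hh' : h ^ 2 ^ (m - j) ∈ K := K.pow_mem hhK _
      have hpow : (h ^ 2 ^ (m - j)) ^ 2 ^ j = g ^ 2 ^ j := by
        rw [← pow_mul, ← pow_add, Nat.sub_add_cancel (by omega)]; exact hh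
      have := ih (by omega) (g * (h ^ 2 ^ (m - j))⁻¹) (by rw [mul_pow, inv_pow, hpow, mul_inv_cancel])
      have h2 := K.mul_mem this hh'
      rwa [inv_mul_cancel_right] at h2
  have hφs : Function.Surjective φ := fun g =>
    hall (m + 1) le_rfl g (by rw [hx]; exact Monoid.pow_exponent_eq_one g)
  refine ⟨m + 1, by omega, ⟨(MulEquiv.ofBijective φ ⟨hφi, hφs⟩).symm.trans (MulEquiv.prodCongr ?_ ?_)⟩⟩
  · exact mulEquivOfCyclicCardEq (by rw [Nat.card_zpowers, hn]; simp)
  · exact mulEquivOfCyclicCardEq (by rw [Nat.card_zpowers, hyo]; simp)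

/-- The abelian case. -/
theorem Data.abelian [Group Q] [Finite Q] (d : Data Q 2) (hp : IsPGroup 2 Q) (hc : ∀ x y : Q, x * y = y * x) :
    (Nat.card Q = 16 ∧ ∀ x : Q, x ^ 2 = 1) ∨
      ∃ n : ℕ, 1 ≤ n ∧
        Nonempty (Q ≃* Multiplicative (ZMod (2 ^ n)) × Multiplicative (ZMod (2 ^ n))) := by
  letI : CommGroup Q := { (inferInstance : Group Q) with mul_comm := hc }
  by_cases h : ∃ w : Q, w * w = 1 ∧ w ∉ d.C
  · obtain ⟨w, hw, hwC⟩ := h
    exact Or.inl (d.sixteen hp hw hwC)
  · push Not at h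
    exact Or.inr (d.homocyclic hp h)

end Cfsg.Agent.Lie.FixedLayer
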