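import Mathlib

/-!
Biadditive maps and squaring maps on a finite field of characteristic two that commute with scalars,
and the field attached to a regular cyclic group of automorphisms of an elementary abelian group.
-/

set_option autoImplicit false

namespace Cfsg.Agent.Lie.ScalarForms

variable {F : Type*} [Field F] [Finite F] [CharP F 2]

theorem surjective_sq (x : F) : ∃ r : F, r * r = x := by
  have hinj : Function.Injective fun y : F => y * y := fun a b h => by
    simpa using CharTwo.sq_injective (R := F) (show a ^ 2 = b ^ 2 by rw [pow_two, pow_two]; exact h)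
  exact Finite.surjective_of_injective hinj x

theorem sq_inj {a b : F} (h : a * a = b * b) : a = b := by
  simpa using CharTwo.sq_injective (R := F) (show a ^ 2 = b ^ 2 by rw [pow_two, pow_two]; exact h)

/-- A biadditive map homogeneous of degree one in the pair is a multiple of the square root of the product. -/
theorem biadd_sq (b : F → F → F) (hl : ∀ x y z, b (x + y) z = b x z + b y z)
    (hr : ∀ x y z, b x (y + z) = b x y + b x z) (hs : ∀ l x y, b (l * x) (l * y) = l * b x y) :
    ∀ x y, b x y * b x y = b 1 1 * b 1 1 * x * y := by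
  have h0 : ∀ x, b x 0 = 0 := fun x => by
    have := hr x 0 0
    rw [add_zero] at this
    exact this.trans (CharTwo.add_self_eq_zero _)
  have hy : ∀ x y, y ≠ 0 → b x y = y * b (x / y) 1 := fun x y hy => by
    rw [← hs y (x / y) 1, mul_div_cancel₀ _ hy, mul_one]
  let G : F → F := fun z => b (z * z) 1
  have hG : ∀ a c, G (a + c) = G a + G c := fun a c => by
    show b ((a + c) * (a + c)) 1 = b (a * a) 1 + b (c * c) 1
    rw [CharTwo.add_mul_self, hl]
  have hG0 : G 0 = 0 := by
    have := hG 0 0
    rw [add_zero] at this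
    exact this.trans (CharTwo.add_self_eq_zero _)
  have key : ∀ r, G r = r * G 1 := by
    have main : ∀ s t : F, t ≠ 0 → t ≠ 1 → G (s * t * t) = t * t * G s := by
      intro s t ht ht1
      have hu : 1 + t ≠ 0 := fun h => ht1 (CharTwo.add_eq_zero.1 h).symm
      have hX := hr ((s * t * (1 + t)) * (s * t * (1 + t))) 1 (t * t)
      have e1 : (1 : F) + t * t = (1 + t) * (1 + t) := by
        rw [CharTwo.add_mul_self, one_mul]
      rw [e1, hy _ _ (mul_ne_zero hu hu), hy _ (t * t) (mul_ne_zero ht ht),
        show (s * t * (1 + t)) * (s * t * (1 + t)) / ((1 + t) * (1 + t)) = (s * t) * (s * t) by field_simp,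
        show (s * t * (1 + t)) * (s * t * (1 + t)) / (t * t) = (s * (1 + t)) * (s * (1 + t)) by field_simp] at hX
      change (1 + t) * (1 + t) * G (s * t) = G (s * t * (1 + t)) + t * t * G (s * (1 + t)) at hX
      rw [show s * t * (1 + t) = s * t + s * t * t by ring, show s * (1 + t) = s + s * t by ring, hG, hG, ← e1] at hX
      linear_combination -hX - t * t * G s * (CharTwo.two_eq_zero (R := F))
    intro r
    by_cases hr0 : r = 0
    · rw [hr0, hG0, zero_mul]
    by_cases hr1 : r = 1
    · rw [hr1, one_mul]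
    obtain ⟨t, ht⟩ := surjective_sq r
    have := main 1 t (fun h => hr0 (by rw [← ht, h, mul_zero])) (fun h => hr1 (by rw [← ht, h, mul_one]))
    rw [one_mul, ht] at this
    exact this
  intro x y
  by_cases hy0 : y = 0
  · rw [hy0, h0, mul_zero, mul_zero]
  obtain ⟨r, hr'⟩ := surjective_sq (x / y)
  have h1 : G 1 = b 1 1 := by show b (1 * 1) 1 = _; rw [mul_one]
  rw [hy x y hy0, ← hr', show b (r * r) 1 = G r from rfl, key r, h1]
  have hx : x = r * r * y := by rw [hr', div_mul_cancel₀ _ hy0]
  rw [hx]; ring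

/-- An alternating such map vanishes. -/
theorem alternating_zero (b : F → F → F) (hl : ∀ x y z, b (x + y) z = b x z + b y z)
    (hr : ∀ x y z, b x (y + z) = b x y + b x z) (hs : ∀ l x y, b (l * x) (l * y) = l * b x y)
    (ha : ∀ x, b x x = 0) : ∀ x y, b x y = 0 := by
  intro x y
  have h := biadd_sq b hl hr hs x y
  rw [ha 1, mul_zero, zero_mul, zero_mul] at h
  exact mul_self_eq_zero.1 h

/-- Squaring maps on the plane. -/
theorem plane_form (S : F × F → F) (hS : ∀ l x y, S (l * x, l * y) = l * S (x, y))
    (hb1 : ∀ u v w, S (u + v + w) + S (u + v) + S w = (S (u + w) + S u + S w) + (S (v + w) + S v + S w)) :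
    ∃ A K B : F, (∀ a c, S (a, c) * S (a, c) = A * a * a + K * a * c + B * c * c) ∧
      ((∀ u v, S (u + v) = S u + S v) ↔ K = 0) := by
  let β : F × F → F × F → F := fun u v => S (u + v) + S u + S v
  have hβl : ∀ u v w, β (u + v) w = β u w + β v w := hb1
  have hβc : ∀ u v, β u v = β v u := fun u v => by show _ + _ + _ = _ + _ + _; rw [add_comm u v]; ring
  have hβr : ∀ u v w, β u (v + w) = β u v + β u w := fun u v w => by rw [hβc, hβl, hβc v, hβc w]
  let b : F → F → F := fun a c => β (a, 0) (0, c)
  have hbl : ∀ x y z, b (x + y) z = b x z + b y z := fun x y z => by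
    show β (x + y, 0) (0, z) = β (x, 0) (0, z) + β (y, 0) (0, z)
    rw [← hβl]; simp
  have hbr : ∀ x y z, b x (y + z) = b x y + b x z := fun x y z => by
    show β (x, 0) (0, y + z) = β (x, 0) (0, y) + β (x, 0) (0, z)
    rw [← hβr]; simp
  have hSl : ∀ (l : F) (u : F × F), S (l * u.1, l * u.2) = l * S u := fun l u => hS l u.1 u.2
  have hbs : ∀ l x y, b (l * x) (l * y) = l * b x y := fun l x y => by
    show S ((l * x, 0) + (0, l * y)) + S (l * x, 0) + S (0, l * y) = l * (S ((x, 0) + (0, y)) + S (x, 0) + S (0, y))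
    rw [mul_add, mul_add, ← hSl, ← hSl, ← hSl]
    simp
  have hsplit : ∀ a c, S (a, c) = a * S (1, 0) + c * S (0, 1) + b a c := fun a c => by
    show _ = _ + (S ((a, 0) + (0, c)) + S (a, 0) + S (0, c))
    rw [← hS, ← hS]
    simp only [mul_one, mul_zero, Prod.mk_add_mk, add_zero, zero_add]
    linear_combination -(S (a, 0) + S (0, c)) * (CharTwo.two_eq_zero (R := F))
  refine ⟨S (1, 0) * S (1, 0), b 1 1 * b 1 1, S (0, 1) * S (0, 1), fun a c => ?_, fun h => ?_, fun h => ?_⟩
  · rw [hsplit, CharTwo.add_mul_self, CharTwo.add_mul_self, biadd_sq b hbl hbr hbs]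
    ring
  · have : b 1 1 = 0 := by
      show S _ + _ + _ = 0
      rw [h]
      linear_combination (S (1, 0) + S (0, 1)) * (CharTwo.two_eq_zero (R := F))
    rw [this, mul_zero]
  · have hb0 : ∀ a c, b a c = 0 := fun a c => mul_self_eq_zero.1 (by rw [biadd_sq b hbl hbr hbs, h, zero_mul, zero_mul])
    intro u v
    obtain ⟨u1, u2⟩ := u
    obtain ⟨v1, v2⟩ := v
    rw [Prod.mk_add_mk, hsplit, hsplit u1, hsplit v1, hb0, hb0, hb0]
    ring

end Cfsg.Agent.Lie.ScalarForms
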