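import Mathlib
import Cfsg.Agent.Lib.Lie.FixedLayers
import Cfsg.Agent.Lib.Lie.ScalarForms

/-!
Field coordinates on the layers and the constants of equivariant maps between them.
-/

set_option autoImplicit false

namespace Cfsg.Agent.Lie.FixedLayer

universe u

variable {Q : Type u} [Group Q] {n : ℕ}

/-- Field coordinates on `C`. -/
structure Coord (d : Data Q n) (F : Type) [Field F] where
  /-- coordinates to elements -/
  κ : F → Q
  /-- elements to coordinates -/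
  lg : Q → F
  /-- the scalar of `ρ` -/
  ζ : F
  κ_mem : ∀ a, κ a ∈ d.C
  lg_κ : ∀ a, lg (κ a) = a
  κ_lg : ∀ x ∈ d.C, κ (lg x) = x
  lg_mul : ∀ x ∈ d.C, ∀ y ∈ d.C, lg (x * y) = lg x + lg y
  lg_rho : ∀ x ∈ d.C, lg (d.ρ x) = ζ * lg x
  zeta_gen : ∀ l : F, l ≠ 0 → ∃ k : ℕ, ζ ^ k = l

theorem exists_coord [Finite Q] (d : Data Q n) (hp : IsPGroup 2 Q) (hn : 1 ≤ n) :
    Nonempty (Coord d (GaloisField 2 n)) := by
  classical
  haveI : Fact (Nat.Prime 2) := ⟨Nat.prime_two⟩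
  haveI : Fintype (GaloisField 2 n) := Fintype.ofFinite _
  letI : CommGroup ↥d.C := { (inferInstance : Group ↥d.C) with
    mul_comm := fun a b => Subtype.ext (d.C_comm hp hn a.2 b) }
  let R : Additive ↥d.C ≃+ Additive ↥d.C :=
    { toFun := fun x => Additive.ofMul ⟨d.ρ x.toMul, by simpa using d.rho_mem x.toMul.2 1⟩
      invFun := fun x => Additive.ofMul ⟨d.ρ.symm x.toMul, by
        have hx : d.α (x.toMul : Q) = x.toMul := x.toMul.2
        rw [d.mem_C]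
        apply d.ρ.injective
        rw [← d.comm, MulEquiv.apply_symm_apply, hx]⟩
      left_inv := fun x => by
        apply Additive.toMul.injective
        exact Subtype.ext (d.ρ.symm_apply_apply _)
      right_inv := fun x => by
        apply Additive.toMul.injective
        exact Subtype.ext (d.ρ.apply_symm_apply _)
      map_add' := fun x y => by
        apply Additive.toMul.injective
        exact Subtype.ext (map_mul d.ρ _ _) }
  have hR : ∀ (k : ℕ) (x : Additive ↥d.C),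
      (((R : Additive ↥d.C → Additive ↥d.C)^[k] x).toMul : Q) = (d.ρ ^ k) (x.toMul : Q) := by
    intro k
    induction k with
    | zero => intro x; rfl
    | succ k ih => intro x; rw [Function.iterate_succ_apply', pow_succ', MulAut.mul_apply, ← ih]; rfl
  obtain ⟨κ, ζ, -, hκ, hgen⟩ := CyclicField.exists_coord_of (A := Additive ↥d.C) n hn d.card_fix
    (fun a => by
      apply Additive.toMul.injective
      exact Subtype.ext (d.fix_sq _ a.toMul.2)) R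
    (fun x y hx hy => by
      obtain ⟨k, hk⟩ := d.trans (x.toMul : Q) (y.toMul : Q) x.toMul.2 y.toMul.2
        (fun h => hx (Additive.toMul.injective (Subtype.ext h))) (fun h => hy (Additive.toMul.injective (Subtype.ext h)))
      refine ⟨k, ?_⟩
      apply Additive.toMul.injective
      exact Subtype.ext ((hR k x).trans hk))
    (GaloisField 2 n) (by rw [← Nat.card_eq_fintype_card, GaloisField.card 2 n (by omega)])
  let lg : Q → GaloisField 2 n := fun x => if h : x ∈ d.C then κ.symm (Additive.ofMul ⟨x, h⟩) else 0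
  have hlg : ∀ x (h : x ∈ d.C), lg x = κ.symm (Additive.ofMul ⟨x, h⟩) := fun x h => dif_pos h
  refine ⟨⟨fun a => ((κ a).toMul : Q), lg, ζ, fun a => (κ a).toMul.2, fun a => ?_, fun x hx => ?_,
    fun x hx y hy => ?_, fun x hx => ?_, hgen⟩⟩
  · rw [hlg _ (κ a).toMul.2]; exact κ.symm_apply_apply a
  · show ((κ (lg x)).toMul : Q) = x
    rw [hlg x hx, AddEquiv.apply_symm_apply]; rfl
  · rw [hlg x hx, hlg y hy, hlg _ (d.C.mul_mem hx hy), ← map_add]; rfl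
  · have h' : d.ρ x ∈ d.C := by simpa using d.rho_mem hx 1
    rw [hlg x hx, hlg _ h']
    apply κ.injective
    rw [AddEquiv.apply_symm_apply, ← hκ, AddEquiv.apply_symm_apply]
    rfl

variable {d : Data Q n} {F : Type} [Field F] (K : Coord d F)

theorem Coord.lg_one : K.lg 1 = 0 := by
  have h := K.lg_mul 1 d.C.one_mem 1 d.C.one_mem
  rw [mul_one] at h
  exact left_eq_add.1 h

theorem Coord.lg_eq_zero {x : Q} (hx : x ∈ d.C) : K.lg x = 0 ↔ x = 1 :=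
  ⟨fun h => by rw [← K.κ_lg x hx, h, ← K.lg_one, K.κ_lg 1 d.C.one_mem], fun h => h ▸ K.lg_one⟩

theorem Coord.lg_inj {x y : Q} (hx : x ∈ d.C) (hy : y ∈ d.C) (h : K.lg x = K.lg y) : x = y := by
  rw [← K.κ_lg x hx, h, K.κ_lg y hy]

theorem Coord.pow_scalar (f : Q → F) (H : Set Q) (hH : ∀ x ∈ H, d.ρ x ∈ H) (hf : ∀ x ∈ H, f (d.ρ x) = K.ζ * f x)
    (k : ℕ) : ∀ x ∈ H, (d.ρ ^ k) x ∈ H ∧ f ((d.ρ ^ k) x) = K.ζ ^ k * f x := by
  induction k with
  | zero => intro x hx; exact ⟨hx, by simp⟩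
  | succ k ih =>
    intro x hx
    obtain ⟨h1, h2⟩ := ih x hx
    rw [pow_succ', MulAut.mul_apply]
    exact ⟨hH _ h1, by rw [hf _ h1, h2, pow_succ']; ring⟩

/-- An equivariant map factoring through an equivariant coordinate is linear. -/
theorem Coord.lin_const (H : Set Q) (hH : ∀ x ∈ H, d.ρ x ∈ H) (L f : Q → F)
    (hL : ∀ x ∈ H, L (d.ρ x) = K.ζ * L x) (hf : ∀ x ∈ H, f (d.ρ x) = K.ζ * f x) (hsurj : ∀ a, ∃ x ∈ H, L x = a)
    (hz : ∀ x ∈ H, L x = 0 → f x = 0) (hres : ∀ x ∈ H, ∀ y ∈ H, L x = L y → f x = f y) :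
    ∃ m, ∀ x ∈ H, f x = m * L x := by
  obtain ⟨x1, hx1, hL1⟩ := hsurj 1
  refine ⟨f x1, fun x hx => ?_⟩
  by_cases h0 : L x = 0
  · rw [hz x hx h0, h0, mul_zero]
  · obtain ⟨k, hk⟩ := K.zeta_gen _ h0
    obtain ⟨h1, h2⟩ := K.pow_scalar L H hH hL k x1 hx1
    rw [hres x hx _ h1 (by rw [h2, hL1, mul_one, hk]), (K.pow_scalar f H hH hf k x1 hx1).2, hk, mul_comm]

/-- The constant of an equivariant pairing. -/
theorem Coord.pair_const [Finite F] [CharP F 2] (H1 H2 : Subgroup Q) (hH1 : ∀ x ∈ H1, d.ρ x ∈ H1)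
    (hH2 : ∀ x ∈ H2, d.ρ x ∈ H2) (L1 L2 : Q → F) (P : Q → Q → F)
    (h1 : ∀ x ∈ H1, ∀ y ∈ H1, L1 (x * y) = L1 x + L1 y) (h2 : ∀ x ∈ H2, ∀ y ∈ H2, L2 (x * y) = L2 x + L2 y)
    (r1 : ∀ x ∈ H1, L1 (d.ρ x) = K.ζ * L1 x) (r2 : ∀ x ∈ H2, L2 (d.ρ x) = K.ζ * L2 x)
    (s1 : ∀ a, ∃ x ∈ H1, L1 x = a) (s2 : ∀ a, ∃ x ∈ H2, L2 x = a)
    (hl : ∀ x ∈ H1, ∀ x' ∈ H1, ∀ y ∈ H2, P (x * x') y = P x y + P x' y)
    (hr : ∀ x ∈ H1, ∀ y ∈ H2, ∀ y' ∈ H2, P x (y * y') = P x y + P x y')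
    (hρ : ∀ x ∈ H1, ∀ y ∈ H2, P (d.ρ x) (d.ρ y) = K.ζ * P x y)
    (hz : ∀ x ∈ H1, ∀ y ∈ H2, L1 x = 0 ∨ L2 y = 0 → P x y = 0) :
    ∃ k : F, ∀ x ∈ H1, ∀ y ∈ H2, P x y * P x y = k * L1 x * L2 y := by
  have kill1 : ∀ x ∈ H1, ∀ x' ∈ H1, L1 x = L1 x' → ∀ y ∈ H2, P x y = P x' y := by
    intro x hx x' hx' h y hy
    have hz' := hz (x * x') (H1.mul_mem hx hx') y hy (Or.inl (by rw [h1 x hx x' hx', h, CharTwo.add_self_eq_zero]))
    rw [hl x hx x' hx' y hy, CharTwo.add_eq_zero] at hz'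
    exact hz'
  have kill2 : ∀ y ∈ H2, ∀ y' ∈ H2, L2 y = L2 y' → ∀ x ∈ H1, P x y = P x y' := by
    intro y hy y' hy' h x hx
    have hz' := hz x hx (y * y') (H2.mul_mem hy hy') (Or.inr (by rw [h2 y hy y' hy', h, CharTwo.add_self_eq_zero]))
    rw [hr x hx y hy y' hy', CharTwo.add_eq_zero] at hz'
    exact hz'
  choose t1 ht1 hu1 using s1
  choose t2 ht2 hu2 using s2
  let b : F → F → F := fun u v => P (t1 u) (t2 v)
  have hb : ∀ x ∈ H1, ∀ y ∈ H2, P x y = b (L1 x) (L2 y) := fun x hx y hy =>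
    (kill1 x hx _ (ht1 _) (hu1 _).symm y hy).trans (kill2 y hy _ (ht2 _) (hu2 _).symm _ (ht1 _))
  have hbs : ∀ l u v, b (l * u) (l * v) = l * b u v := by
    intro l u v
    by_cases hl0 : l = 0
    · rw [hl0, zero_mul, zero_mul, zero_mul]
      exact hz _ (ht1 _) _ (ht2 _) (Or.inl (hu1 0))
    · obtain ⟨k, hk⟩ := K.zeta_gen l hl0
      obtain ⟨m1, e1⟩ := K.pow_scalar L1 H1 hH1 r1 k _ (ht1 u)
      obtain ⟨m2, e2⟩ := K.pow_scalar L2 H2 hH2 r2 k _ (ht2 v)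
      have e : ∀ j : ℕ, P ((d.ρ ^ j) (t1 u)) ((d.ρ ^ j) (t2 v)) = K.ζ ^ j * P (t1 u) (t2 v) := by
        intro j
        induction j with
        | zero => simp
        | succ j ih =>
          rw [pow_succ', MulAut.mul_apply, MulAut.mul_apply, hρ _ (K.pow_scalar L1 H1 hH1 r1 j _ (ht1 u)).1 _
            (K.pow_scalar L2 H2 hH2 r2 j _ (ht2 v)).1, ih, pow_succ']
          ring
      rw [← hk, ← hu1 u, ← hu2 v, ← e1, ← e2, ← hb _ m1 _ m2, e, hu1, hu2]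
  have hsq := ScalarForms.biadd_sq b
    (fun u u' v => by
      rw [← hu1 u, ← hu1 u', ← h1 _ (ht1 u) _ (ht1 u'), ← hu2 v, ← hb _ (H1.mul_mem (ht1 u) (ht1 u')) _ (ht2 v),
        ← hb _ (ht1 u) _ (ht2 v), ← hb _ (ht1 u') _ (ht2 v)]
      exact hl _ (ht1 u) _ (ht1 u') _ (ht2 v))
    (fun u v v' => by
      rw [← hu1 u, ← hu2 v, ← hu2 v', ← h2 _ (ht2 v) _ (ht2 v'), ← hb _ (ht1 u) _ (H2.mul_mem (ht2 v) (ht2 v')),
        ← hb _ (ht1 u) _ (ht2 v), ← hb _ (ht1 u) _ (ht2 v')]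
      exact hr _ (ht1 u) _ (ht2 v) _ (ht2 v'))
    hbs
  exact ⟨b 1 1 * b 1 1, fun x hx y hy => by rw [hb x hx y hy]; exact hsq _ _⟩

end Cfsg.Agent.Lie.FixedLayer
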