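import Mathlib
import Cfsg.Agent.Lib.Lie.FixedLayersCoord

/-!
A non-abelian group of this kind has all squares in the fixed subgroup.
-/

set_option autoImplicit false

namespace Cfsg.Agent.Lie.FixedLayer

universe u

variable {Q : Type u} [Group Q] {n : ℕ} (d : Data Q n)

/-- commutator -/
def cm (x y : Q) : Q := x⁻¹ * y⁻¹ * x * y

theorem cm_mul_left (x y z : Q) : cm (x * y) z = y⁻¹ * cm x z * y * cm y z := by
  unfold cm; group

theorem cm_mul_right (x y z : Q) : cm x (y * z) = cm x z * (z⁻¹ * cm x y * z) := by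
  unfold cm; group

theorem cm_map (φ : MulAut Q) (x y : Q) : φ (cm x y) = cm (φ x) (φ y) := by
  simp [cm]

theorem cm_eq_one {x y : Q} (h : x * y = y * x) : cm x y = 1 := by
  rw [cm, mul_assoc, h]; group

theorem commute_of_cm {x y : Q} (h : cm x y = 1) : x * y = y * x := by
  have : x * y = y * x * cm x y := by unfold cm; group
  rw [this, h, mul_one]

theorem center_map (φ : MulAut Q) {x : Q} (hx : x ∈ Subgroup.center Q) : φ x ∈ Subgroup.center Q :=
  Subgroup.mem_center_iff.2 fun y => by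
    have := congrArg φ (Subgroup.mem_center_iff.1 hx (φ.symm y))
    simpa using this

variable [Finite Q]

/-- The second layer is abelian. -/
theorem Data.D_comm (hp : IsPGroup 2 Q) (hn : 1 ≤ n) {x y : Q} (hx : d.dl x ∈ d.C) (hy : d.dl y ∈ d.C) :
    x * y = y * x := by
  haveI : Fact (Nat.Prime 2) := ⟨Nat.prime_two⟩
  obtain ⟨K⟩ := exists_coord d hp hn
  haveI : CharP (GaloisField 2 n) 2 := inferInstance
  have hsq : ∀ z, d.dl z ∈ d.C → z * z ∈ d.C := fun z hz => by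
    rw [← d.dl_eq_one, d.dl_mul_D hp hn hz, d.fix_sq _ hz]
  by_cases htop : d.C = ⊤
  · exact d.C_comm hp hn (htop ▸ Subgroup.mem_top x) y
  obtain ⟨m, hm⟩ := K.lin_const {z | d.dl z ∈ d.C}
    (fun z hz => by show d.dl _ ∈ d.C; rw [d.dl_rho1]; simpa using d.rho_mem hz 1)
    (fun z => K.lg (d.dl z)) (fun z => K.lg (z * z))
    (fun z hz => by show K.lg (d.dl _) = _; rw [d.dl_rho1, K.lg_rho _ hz])
    (fun z hz => by show K.lg (_ * _) = _; rw [← map_mul, K.lg_rho _ (hsq z hz)])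
    (fun a => by
      obtain ⟨z, hz⟩ := d.dl_surj hp hn htop _ (K.κ_mem a)
      exact ⟨z, by show d.dl z ∈ d.C; rw [hz]; exact K.κ_mem a, by show K.lg (d.dl z) = a; rw [hz, K.lg_κ]⟩)
    (fun z hz h => by
      show K.lg (z * z) = 0
      rw [d.fix_sq z (d.dl_eq_one.1 ((K.lg_eq_zero hz).1 h)), K.lg_one])
    (fun z hz w hw h => by
      have hc := d.inv_mul_mem hp hn hz (K.lg_inj hz hw h)
      show K.lg (z * z) = K.lg (w * w)
      rw [show w * w = z * z from ?_]
      calc w * w = (z * (z⁻¹ * w)) * (z * (z⁻¹ * w)) := by group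
        _ = z * ((z⁻¹ * w) * z) * (z⁻¹ * w) := by group
        _ = z * (z * (z⁻¹ * w)) * (z⁻¹ * w) := by rw [d.C_comm hp hn hc z]
        _ = z * z * ((z⁻¹ * w) * (z⁻¹ * w)) := by group
        _ = z * z := by rw [d.fix_sq _ hc, mul_one])
  have hxy : d.dl (x * y) ∈ d.C := by rw [d.dl_mul_D hp hn hx]; exact d.C.mul_mem hx hy
  have h1 := hm (x * y) hxy
  rw [d.dl_mul_D hp hn hx, K.lg_mul _ hx _ hy, mul_add, ← hm x hx, ← hm y hy,
    ← K.lg_mul _ (hsq x hx) _ (hsq y hy)] at h1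
  have h2 := K.lg_inj (hsq _ hxy) (d.C.mul_mem (hsq x hx) (hsq y hy)) h1
  have h3 : x⁻¹ * (x * y * (x * y)) * y⁻¹ = x⁻¹ * (x * x * (y * y)) * y⁻¹ := by rw [h2]
  simpa [mul_assoc] using h3.symm

/-- The projection to `C` of the displacement layer over an invariant normal subgroup. -/
theorem exists_iota : ∀ N : ℕ, ∀ {Q : Type u} [Group Q] [Finite Q] {n : ℕ} (d : Data Q n), Nat.card Q ≤ N →
    IsPGroup 2 Q → 1 ≤ n → ∀ B : Subgroup Q, B.Normal → (∀ x ∈ B, d.α x ∈ B) → (∀ x ∈ B, d.ρ x ∈ B) → B ≠ ⊤ →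
    ∃ ι : Q → Q, ∀ x, d.dl x ∈ B → ι x ∈ d.C ∧ (∀ y, d.dl y ∈ B → ι (x * y) = ι x * ι y) ∧
      (ι x = 1 ↔ x ∈ B) ∧ ι (d.ρ x) = d.ρ (ι x) := by
  intro N
  induction N with
  | zero => intro Q _ _ n d h; exact absurd h (Nat.not_le.2 Nat.card_pos)
  | succ N ih =>
    intro Q _ _ n d hN hp hn B hB hα hρ hBt
    haveI : Fact (Nat.Prime 2) := ⟨Nat.prime_two⟩
    by_cases hB0 : B = ⊥
    · subst hB0
      refine ⟨id, fun x hx => ?_⟩
      exact ⟨d.dl_eq_one.1 (Subgroup.mem_bot.1 hx), fun y _ => rfl, Subgroup.mem_bot.symm, rfl⟩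
    haveI := hB
    have hZB : Subgroup.center Q ⊓ B ≠ ⊥ := by
      obtain ⟨b, hb, hb1⟩ : ∃ b ∈ B, b ≠ 1 := by
        by_contra h
        push Not at h
        exact hB0 ((Subgroup.eq_bot_iff_forall _).2 h)
      haveI : Nontrivial ↥B := ⟨⟨⟨b, hb⟩, 1, fun h => hb1 (congrArg Subtype.val h)⟩⟩
      obtain ⟨k, hk0, hk⟩ := (hp.to_subgroup B).nontrivial_iff_card.1 inferInstance
      have hconj : IsPGroup 2 (ConjAct Q) := hp.of_equiv ConjAct.toConjAct
      obtain ⟨z, hz, hz1⟩ := hconj.exists_fixed_point_of_prime_dvd_card_of_fixed_point ↥B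
        (by rw [hk]; exact dvd_pow_self 2 (Nat.pos_iff_ne_zero.1 hk0)) (a := 1)
        (fun g => Subtype.ext (by simp [ConjAct.Subgroup.val_conj_smul]))
      intro h
      refine hz1 (Subtype.ext ?_).symm
      refine Subgroup.mem_bot.1 (h ▸ Subgroup.mem_inf.2 ⟨Subgroup.mem_center_iff.2 fun g => ?_, z.2⟩)
      have := congrArg Subtype.val (hz (ConjAct.toConjAct g))
      simp [ConjAct.Subgroup.val_conj_smul, ConjAct.smul_def] at this
      conv_rhs => rw [← this]
      group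
    obtain ⟨z, hz, hz1, hzC⟩ := d.exists_fixed hp (Subgroup.center Q ⊓ B)
      (fun x hx => Subgroup.mem_inf.2 ⟨center_map _ hx.1, hα x hx.2⟩)
      (fun x _ y hy => Subgroup.mem_center_iff.1 hy.1 x) hZB
    have hCB : d.C ≤ B := fun c hc => by
      by_cases hc1 : c = 1
      · rw [hc1]; exact B.one_mem
      obtain ⟨k, rfl⟩ := d.trans z c hzC hc hz1 hc1
      have : ∀ k : ℕ, (d.ρ ^ k) z ∈ B := by
        intro k
        induction k with
        | zero => exact hz.2
        | succ k ihk => rw [pow_succ', MulAut.mul_apply]; exact hρ _ ihk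
      exact this k
    haveI := d.C_normal hp hn
    have hne : d.C ≠ ⊤ := fun h => hBt (top_le_iff.1 (h ▸ hCB))
    let qm := QuotientGroup.mk' d.C
    have hlt : Nat.card (Q ⧸ d.C) ≤ N := by
      have h1 := Subgroup.card_eq_card_quotient_mul_card_subgroup d.C
      have h2 : 2 ≤ Nat.card ↥d.C := by
        rw [show Nat.card ↥d.C = 2 ^ n from d.card_fix]
        exact le_of_eq_of_le (pow_one 2).symm (Nat.pow_le_pow_right (by norm_num) hn)
      have h3 : 0 < Nat.card (Q ⧸ d.C) := Nat.card_pos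
      nlinarith
    have hmem : ∀ x : Q, qm x ∈ B.map qm ↔ x ∈ B := fun x => by
      refine ⟨?_, fun h => Subgroup.mem_map_of_mem _ h⟩
      rintro ⟨b, hb, hbx⟩
      have h1 : b⁻¹ * x ∈ d.C := QuotientGroup.eq.1 hbx
      simpa using B.mul_mem hb (hCB h1)
    obtain ⟨ι', hι'⟩ := ih (d.quot hp hn hne) hlt (hp.to_quotient _) hn (B.map qm)
      (hB.map qm (QuotientGroup.mk'_surjective _))
      (by rintro _ ⟨b, hb, rfl⟩; exact ⟨d.α b, hα b hb, rfl⟩)
      (by rintro _ ⟨b, hb, rfl⟩; exact ⟨d.ρ b, hρ b hb, rfl⟩)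
      (fun h => hBt ((Subgroup.eq_top_iff' _).2 fun x => (hmem x).1 (h ▸ Subgroup.mem_top _)))
    let ι : Q → Q := fun x => d.dl (ι' (qm x)).out
    have hout : ∀ w : Q ⧸ d.C, ((w.out : Q) : Q ⧸ d.C) = w := fun w => QuotientGroup.out_eq' w
    have hdl : ∀ a b : Q, (a : Q ⧸ d.C) = (b : Q ⧸ d.C) → d.dl a = d.dl b := fun a b h => by
      rw [show b = a * (a⁻¹ * b) by group, d.dl_mul_C hp hn (QuotientGroup.eq.1 h)]
    refine ⟨ι, fun x hx => ?_⟩
    have hU : ∀ y, d.dl y ∈ B → (d.quot hp hn hne).dl (qm y) ∈ B.map qm := fun y hy => (hmem _).2 hy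
    obtain ⟨h1, h2, h3, h4⟩ := hι' (qm x) (hU x hx)
    have hC : ∀ w, w ∈ (d.quot hp hn hne).C → d.dl w.out ∈ d.C := fun w hw => by
      rw [← d.quot_mem hp hn hne, hout]; exact hw
    refine ⟨hC _ h1, fun y hy => ?_, ?_, ?_⟩
    · obtain ⟨g1, -, -, -⟩ := hι' (qm y) (hU y hy)
      show d.dl (ι' (qm (x * y))).out = d.dl (ι' (qm x)).out * d.dl (ι' (qm y)).out
      rw [← d.dl_mul_D hp hn (hC _ h1)]
      refine hdl _ _ ?_
      rw [QuotientGroup.mk_mul, hout, hout, hout, map_mul, h2 _ (hU y hy)]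
    · show d.dl (ι' (qm x)).out = 1 ↔ x ∈ B
      rw [d.dl_eq_one, ← QuotientGroup.eq_one_iff, hout, h3, hmem]
    · show d.dl (ι' (qm (d.ρ x))).out = d.ρ (d.dl (ι' (qm x)).out)
      rw [← d.dl_rho1]
      refine hdl _ _ ?_
      rw [hout, ← d.quot_rho hp hn hne, hout]
      exact h4

/-- The case of an abelian quotient. -/
theorem Data.squares_of_abelian_quot (hp : IsPGroup 2 Q) (hn : 1 ≤ n) (hna : ∃ x y : Q, x * y ≠ y * x)
    (hab : ∀ x y : Q, cm x y ∈ d.C) : ∀ x, x * x ∈ d.C := by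
  by_contra hcon
  push Not at hcon
  obtain ⟨w, hw⟩ := hcon
  haveI : Fact (Nat.Prime 2) := ⟨Nat.prime_two⟩
  obtain ⟨K⟩ := exists_coord d hp hn
  haveI := d.C_normal hp hn
  have hcc : ∀ {c : Q}, c ∈ d.C → ∀ g : Q, g⁻¹ * c * g = c := fun hc g => by
    rw [mul_assoc, d.C_comm hp hn hc, inv_mul_cancel_left]
  have hl : ∀ x y z : Q, cm (x * y) z = cm x z * cm y z := fun x y z => by rw [cm_mul_left, hcc (hab x z)]
  have hr : ∀ x y z : Q, cm x (y * z) = cm x y * cm x z := fun x y z => by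
    rw [cm_mul_right, hcc (hab x y), d.C_comm hp hn (hab x y)]
  have hsq : ∀ x : Q, x * x ∈ Subgroup.center Q := fun x => Subgroup.mem_center_iff.2 fun g =>
    commute_of_cm (by rw [hr, d.fix_sq _ (hab g x)])
  set Z := Subgroup.center Q with hZdef
  have hZt : Z ≠ ⊤ := fun h => by
    obtain ⟨x, y, hxy⟩ := hna
    exact hxy (Subgroup.mem_center_iff.1 (show y ∈ Z from h ▸ Subgroup.mem_top y) x)
  have hCZ : d.C ≤ Z := d.C_le_center hp hn
  have hne : d.C ≠ ⊤ := fun h => hZt (top_le_iff.1 (h ▸ hCZ))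
  have hDZ : ∀ x, d.dl x ∈ d.C → x ∈ Z := by
    let qm := QuotientGroup.mk' d.C
    obtain ⟨v, ⟨z, hz, rfl⟩, hv1, hvC⟩ := (d.quot hp hn hne).exists_fixed (hp.to_quotient _) (Z.map qm)
      (by rintro _ ⟨b, hb, rfl⟩; exact ⟨d.α b, center_map _ hb, rfl⟩)
      (by
        rintro _ ⟨a, ha, rfl⟩ _ ⟨b, hb, rfl⟩
        rw [← map_mul, ← map_mul, Subgroup.mem_center_iff.1 hb a])
      (fun h => hw ((QuotientGroup.eq_one_iff _).1 (Subgroup.mem_bot.1 (h ▸ Subgroup.mem_map_of_mem qm (hsq w)))))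
    have hzC : d.dl z ∈ d.C := (d.quot_mem hp hn hne z).1 hvC
    have hz1 : d.dl z ≠ 1 := fun h => hv1 ((QuotientGroup.eq_one_iff z).2 (d.dl_eq_one.1 h))
    intro x hx
    by_cases hx1 : d.dl x = 1
    · exact hCZ (d.dl_eq_one.1 hx1)
    obtain ⟨k, hk⟩ := d.trans _ _ hzC hx hz1 hx1
    have h1 := d.inv_mul_mem hp hn (x := (d.ρ ^ k) z) (y := x) (by rw [d.dl_rho, hk]; exact hx) (by rw [d.dl_rho, hk])
    have h2 : (d.ρ ^ k) z ∈ Z := center_map _ hz
    simpa using Z.mul_mem h2 (hCZ h1)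
  obtain ⟨ι, hι⟩ := exists_iota (Nat.card Q) d le_rfl hp hn Z inferInstance (fun x hx => center_map _ hx)
    (fun x hx => center_map _ hx) hZt
  by_cases hU : ∀ x, d.dl x ∈ Z
  · -- commutators form an alternating pairing on a single layer
    have hL0 : ∀ x, K.lg (ι x) = 0 ↔ x ∈ Z := fun x =>
      (K.lg_eq_zero (hι x (hU x)).1).trans (hι x (hU x)).2.2.1
    have hLρ : ∀ x, K.lg (ι (d.ρ x)) = K.ζ * K.lg (ι x) := fun x => by
      rw [(hι x (hU x)).2.2.2, K.lg_rho _ (hι x (hU x)).1]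
    have hρk : ∀ (k : ℕ) x, K.lg (ι ((d.ρ ^ k) x)) = K.ζ ^ k * K.lg (ι x) := fun k x =>
      (K.pow_scalar (fun x => K.lg (ι x)) Set.univ (fun _ _ => trivial) (fun x _ => hLρ x) k x trivial).2
    obtain ⟨x0, hx0⟩ : ∃ x0, x0 ∉ Z := by
      by_contra h; push Not at h; exact hZt ((Subgroup.eq_top_iff' _).2 h)
    have hsurj : ∀ a, ∃ x, K.lg (ι x) = a := fun a => by
      by_cases ha : a = 0
      · exact ⟨1, by rw [ha, hL0]; exact Z.one_mem⟩
      · obtain ⟨k, hk⟩ := K.zeta_gen (a / K.lg (ι x0)) (div_ne_zero ha fun h => hx0 ((hL0 x0).1 h))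
        exact ⟨(d.ρ ^ k) x0, by rw [hρk, hk, div_mul_cancel₀ _ fun h => hx0 ((hL0 x0).1 h)]⟩
    obtain ⟨c, hc⟩ := K.pair_const ⊤ ⊤ (fun _ _ => trivial) (fun _ _ => trivial) (fun x => K.lg (ι x))
      (fun x => K.lg (ι x)) (fun x y => K.lg (cm x y))
      (fun x _ y _ => by
        show K.lg (ι (x * y)) = _
        rw [(hι x (hU x)).2.1 y (hU y), K.lg_mul _ (hι x (hU x)).1 _ (hι y (hU y)).1])
      (fun x _ y _ => by
        show K.lg (ι (x * y)) = _
        rw [(hι x (hU x)).2.1 y (hU y), K.lg_mul _ (hι x (hU x)).1 _ (hι y (hU y)).1])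
      (fun x _ => hLρ x) (fun x _ => hLρ x)
      (fun a => (hsurj a).imp fun x h => ⟨trivial, h⟩) (fun a => (hsurj a).imp fun x h => ⟨trivial, h⟩)
      (fun x _ x' _ y _ => by show K.lg _ = _; rw [hl, K.lg_mul _ (hab x y) _ (hab x' y)])
      (fun x _ y _ y' _ => by show K.lg _ = _; rw [hr, K.lg_mul _ (hab x y) _ (hab x y')])
      (fun x _ y _ => by show K.lg _ = _; rw [← cm_map, K.lg_rho _ (hab x y)])
      (fun x _ y _ h => by
        show K.lg (cm x y) = 0
        rcases h with h | h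
        · rw [cm_eq_one (Subgroup.mem_center_iff.1 ((hL0 x).1 h) y).symm, K.lg_one]
        · rw [cm_eq_one (Subgroup.mem_center_iff.1 ((hL0 y).1 h) x), K.lg_one])
    obtain ⟨x1, hx1⟩ := hsurj 1
    have hc0 : c = 0 := by
      have := hc x1 trivial x1 trivial
      simp only [cm_eq_one rfl, K.lg_one, hx1, mul_zero, mul_one] at this
      exact this.symm
    obtain ⟨x, y, hxy⟩ := hna
    have := hc x trivial y trivial
    rw [hc0, zero_mul, zero_mul, mul_self_eq_zero, K.lg_eq_zero (hab x y)] at this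
    exact hxy (commute_of_cm this)
  · push Not at hU
    obtain ⟨y, hy⟩ := hU
    set e := d.dl y with hedef
    have hαy : d.α y = y * e := by rw [hedef, Data.dl, mul_inv_cancel_left]
    have hde : d.dl e = e⁻¹ * e⁻¹ := by rw [hedef]; exact d.dl_dl y
    have hdz : d.dl (y * y) = e * cm e y * e := by
      rw [d.dl_mul, ← hedef]; unfold cm; group
    have hprod : d.dl (e * (y * y)) = cm e y := by
      have hz := hsq y
      rw [d.dl_mul, hdz, hde, ← Subgroup.mem_center_iff.1 (Z.inv_mem hz) (e⁻¹ * e⁻¹), mul_assoc _ (y * y)⁻¹ (y * y),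
        inv_mul_cancel, mul_one, mul_assoc e, d.C_comm hp hn (hab e y)]
      group
    refine hy ?_
    have h1 := Z.mul_mem (hDZ (e * (y * y)) (by rw [hprod]; exact hab e y)) (Z.inv_mem (hsq y))
    rwa [mul_inv_cancel_right] at h1

theorem squares_aux : ∀ N : ℕ, ∀ {Q : Type u} [Group Q] [Finite Q] {n : ℕ} (d : Data Q n), Nat.card Q ≤ N →
    IsPGroup 2 Q → 2 ≤ n → (∃ x y : Q, x * y ≠ y * x) → ∀ x : Q, x * x ∈ d.C := by
  intro N
  induction N with
  | zero => intro Q _ _ n d h; exact absurd h (Nat.not_le.2 Nat.card_pos)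
  | succ N ih =>
    intro Q _ _ n d hN hp hn2 hna
    have hn : 1 ≤ n := by omega
    haveI : Fact (Nat.Prime 2) := ⟨Nat.prime_two⟩
    haveI := d.C_normal hp hn
    by_cases hab : ∀ x y : Q, cm x y ∈ d.C
    · exact d.squares_of_abelian_quot hp hn hna hab
    exfalso
    have hne : d.C ≠ ⊤ := fun h => hab fun x y => h ▸ Subgroup.mem_top _
    have hlt : Nat.card (Q ⧸ d.C) ≤ N := by
      have h1 := Subgroup.card_eq_card_quotient_mul_card_subgroup d.C
      have h2 : 2 ≤ Nat.card ↥d.C := by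
        rw [show Nat.card ↥d.C = 2 ^ n from d.card_fix]
        exact le_of_eq_of_le (pow_one 2).symm (Nat.pow_le_pow_right (by norm_num) hn)
      have h3 : 0 < Nat.card (Q ⧸ d.C) := Nat.card_pos
      nlinarith
    set d' := d.quot hp hn hne with hd'
    have hna' : ∃ x y : Q ⧸ d.C, x * y ≠ y * x := by
      push Not at hab
      obtain ⟨x, y, hxy⟩ := hab
      refine ⟨x, y, fun h => hxy ((QuotientGroup.eq_one_iff _).1 ?_)⟩
      show ((x⁻¹ * y⁻¹ * x * y : Q) : Q ⧸ d.C) = 1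
      rw [mul_assoc, QuotientGroup.mk_mul, QuotientGroup.mk_mul, QuotientGroup.mk_mul, h]
      simp [mul_assoc]
    have hsq' := ih d' hlt (hp.to_quotient _) hn2 hna'
    have hsq : ∀ x : Q, d.dl (x * x) ∈ d.C := fun x => (d.quot_mem hp hn hne _).1 (hsq' (x : Q ⧸ d.C))
    -- commutation of the two lower layers
    have hcmD : ∀ a y, d.dl a ∈ d.C → cm a y ∈ d.C := fun a y ha => by
      rw [← QuotientGroup.eq_one_iff]
      have h := d'.C_comm (hp.to_quotient _) hn ((d.quot_mem hp hn hne a).2 ha) (y : Q ⧸ d.C)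
      show ((a⁻¹ * y⁻¹ * a * y : Q) : Q ⧸ d.C) = 1
      rw [mul_assoc, QuotientGroup.mk_mul, QuotientGroup.mk_mul, QuotientGroup.mk_mul, h]
      simp [mul_assoc]
    have hcm : ∀ x y, d.dl (cm x y) ∈ d.C := fun x y => by
      have h : cm x y = x⁻¹ * x⁻¹ * (x * y⁻¹ * (x * y⁻¹)) * (y * y) := by unfold cm; group
      have h1 : x⁻¹ * x⁻¹ ∈ d.D hp hn := hsq x⁻¹
      have h2 : x * y⁻¹ * (x * y⁻¹) ∈ d.D hp hn := hsq _
      have h3 : y * y ∈ d.D hp hn := hsq y
      rw [h]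
      exact (d.D hp hn).mul_mem ((d.D hp hn).mul_mem h1 h2) h3
    have hconj : ∀ a g, d.dl a ∈ d.C → g⁻¹ * a * g = a * cm a g := fun a g _ => by unfold cm; group
    have hcc : ∀ {c : Q}, c ∈ d.C → ∀ g : Q, g⁻¹ * c * g = c := fun hc g => by
      rw [mul_assoc, d.C_comm hp hn hc, inv_mul_cancel_left]
    obtain ⟨y, hy⟩ : ∃ y, ¬ d.dl (d.dl y) ∈ d.C := by
      by_contra h
      push Not at h
      obtain ⟨a, b, hxy⟩ := hna'
      obtain ⟨a, rfl⟩ := QuotientGroup.mk_surjective a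
      obtain ⟨b, rfl⟩ := QuotientGroup.mk_surjective b
      refine hxy (d'.D_comm (hp.to_quotient _) hn ?_ ?_) <;>
        rw [hd', d.quot_dl, d.quot_mem] <;> exact h _
    set e := d.dl y with hedef
    set f := d.dl e with hfdef
    have hf : f = e⁻¹ * e⁻¹ := by rw [hfdef, hedef]; exact d.dl_dl y
    have hfD : d.dl f ∈ d.C := by rw [hf]; exact hsq e⁻¹
    have hf1 : d.dl f ≠ 1 := fun h => hy (d.dl_eq_one.1 h)
    have hff : d.dl f = f⁻¹ * f⁻¹ := by rw [hfdef]; exact d.dl_dl e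
    have hαy : d.α y = y * e := by rw [hedef, Data.dl, mul_inv_cancel_left]
    have hc1 : y⁻¹ * e * y * e ∈ d.C := by
      have h := hsq y
      rw [d.dl_mul, ← hedef] at h
      exact h
    have hey : y⁻¹ * e * y = (y⁻¹ * e * y * e) * e⁻¹ := by group
    have hfy : y⁻¹ * f * y = f⁻¹ := by
      set c := y⁻¹ * e * y * e
      calc y⁻¹ * f * y = (y⁻¹ * e * y)⁻¹ * (y⁻¹ * e * y)⁻¹ := by rw [hf]; group
        _ = (c * e⁻¹)⁻¹ * (c * e⁻¹)⁻¹ := by rw [hey]
        _ = e * (c⁻¹ * e) * c⁻¹ := by group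
        _ = e * (e * c⁻¹) * c⁻¹ := by rw [d.C_comm hp hn (d.C.inv_mem hc1) e]
        _ = e * e * (c⁻¹ * c⁻¹) := by group
        _ = f⁻¹ := by rw [d.fix_sq _ (d.C.inv_mem hc1), mul_one, hf, mul_inv_rev, inv_inv]
    have hcmf : cm f y = d.dl f := by rw [hff, cm, mul_assoc, mul_assoc, ← mul_assoc y⁻¹, hfy]
    -- coordinates
    obtain ⟨K⟩ := exists_coord d hp hn
    let D := d.D hp hn
    let Ds : Subgroup Q :=
      { carrier := {x | d.dl x ∈ D}
        one_mem' := by show d.dl 1 ∈ D; rw [d.dl_eq_one.2 d.C.one_mem]; exact D.one_mem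
        mul_mem' := fun {a b} ha hb => by
          show d.dl (a * b) ∈ D
          rw [d.dl_mul, hconj _ b ha]
          refine D.mul_mem (D.mul_mem ha ?_) hb
          show d.dl (cm (d.dl a) b) ∈ d.C
          exact hcm _ _
        inv_mem' := fun {a} ha => by
          show d.dl a⁻¹ ∈ D
          have h : d.dl a⁻¹ = a * (d.dl a)⁻¹ * a⁻¹ := by rw [Data.dl, Data.dl, map_inv]; group
          rw [h, show a * (d.dl a)⁻¹ * a⁻¹ = (d.dl a)⁻¹ * cm (d.dl a)⁻¹ a⁻¹ by unfold cm; group]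
          exact D.mul_mem (D.inv_mem ha) (hcm _ _) }
    let L2 : Q → GaloisField 2 n := fun x => K.lg (d.dl x)
    let L3 : Q → GaloisField 2 n := fun x => K.lg (d.dl (d.dl x))
    let L4 : Q → GaloisField 2 n := fun x => K.lg (d.dl (d.dl (d.dl x)))
    have h4mem : ∀ x, d.dl (d.dl (d.dl x)) ∈ d.C := fun x => by
      rw [d.dl_dl x]; exact hsq _
    have hdlC : ∀ a b : Q, (∃ c ∈ d.C, b = a * c) → d.dl b = d.dl a := fun a b ⟨c, hc, hb⟩ => by
      rw [hb, d.dl_mul_C hp hn hc]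
    have hdd : ∀ a b : Q, d.dl a ∈ D → d.dl b ∈ D → d.dl (d.dl (a * b)) = d.dl (d.dl a) * d.dl (d.dl b) := by
      intro a b ha hb
      rw [d.dl_mul, hconj _ b ha, d.dl_mul_D hp hn (by
        show d.dl (d.dl a * cm (d.dl a) b) ∈ d.C
        rw [d.dl_mul_C hp hn (hcmD _ b ha)]; exact ha), d.dl_mul_C hp hn (hcmD _ b ha)]
    have hddd : ∀ a b : Q, d.dl (d.dl (d.dl (a * b))) = d.dl (d.dl (d.dl a)) * d.dl (d.dl (d.dl b)) := by
      intro a b
      have h1 : d.dl (d.dl a) ∈ D := h4mem a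
      have h2 : d.dl (d.dl b) ∈ D := h4mem b
      have h3 : cm (d.dl a) b ∈ D := hcm _ _
      have h4 : d.dl (cm (d.dl a) b) ∈ D := by
        show d.dl (d.dl _) ∈ d.C
        rw [d.dl_eq_one.2 (hcm (d.dl a) b)]; exact d.C.one_mem
      have e1 : d.dl (d.dl (a * b)) = d.dl (d.dl a * cm (d.dl a) b * d.dl b) := by
        rw [d.dl_mul]; congr 1; unfold cm; group
      rw [e1, hdd _ _ (Ds.mul_mem h1 h4) h2, hdd _ _ h1 h4, d.dl_eq_one.2 (hcm (d.dl a) b), mul_one]
    have r3 : ∀ x ∈ Ds, L3 (d.ρ x) = K.ζ * L3 x := fun x hx => by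
      show K.lg _ = _; rw [d.dl_rho1, d.dl_rho1, K.lg_rho _ hx]
    have r4 : ∀ x : Q, L4 (d.ρ x) = K.ζ * L4 x := fun x => by
      show K.lg _ = _; rw [d.dl_rho1, d.dl_rho1, d.dl_rho1, K.lg_rho _ (h4mem x)]
    have hDρ : ∀ x ∈ D, d.ρ x ∈ D := fun x hx => by
      show d.dl _ ∈ d.C; rw [d.dl_rho1]; simpa using d.rho_mem hx 1
    have hDsρ : ∀ x ∈ Ds, d.ρ x ∈ Ds := fun x hx => by
      show d.dl _ ∈ D; rw [d.dl_rho1]; exact hDρ _ hx
    have heD : e ∈ Ds := hfD
    have surj_of : ∀ (H : Subgroup Q) (L : Q → GaloisField 2 n), (∀ x ∈ H, d.ρ x ∈ H) →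
        (∀ x ∈ H, L (d.ρ x) = K.ζ * L x) → L 1 = 0 → ∀ x0 ∈ H, L x0 ≠ 0 → ∀ a, ∃ x ∈ H, L x = a := by
      intro H L hH hL h1 x0 hx0 hne0 a
      by_cases ha : a = 0
      · exact ⟨1, H.one_mem, by rw [h1, ha]⟩
      · obtain ⟨k, hk⟩ := K.zeta_gen (a / L x0) (div_ne_zero ha hne0)
        obtain ⟨m1, m2⟩ := K.pow_scalar L H hH hL k x0 hx0
        exact ⟨_, m1, by rw [m2, hk, div_mul_cancel₀ _ hne0]⟩
    have dl1 : d.dl (1 : Q) = 1 := d.dl_eq_one.2 d.C.one_mem
    have hL2f : L2 f ≠ 0 := fun h => hf1 ((K.lg_eq_zero hfD).1 h)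
    have s2 := surj_of D L2 hDρ (fun x hx => by show K.lg _ = _; rw [d.dl_rho1, K.lg_rho _ hx])
      (by show K.lg _ = 0; rw [dl1, K.lg_one]) f hfD hL2f
    have s3 := surj_of Ds L3 hDsρ r3 (by show K.lg _ = 0; rw [dl1, dl1, K.lg_one]) e heD hL2f
    have s4 := surj_of ⊤ L4 (fun _ _ => trivial) (fun x _ => r4 x)
      (by show K.lg _ = 0; rw [dl1, dl1, dl1, K.lg_one]) y trivial hL2f
    have k3 : ∀ x ∈ Ds, L3 x = 0 → x ∈ D := fun x hx h => d.dl_eq_one.1 ((K.lg_eq_zero hx).1 h)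
    have k4 : ∀ x, L4 x = 0 → x ∈ Ds := fun x h => d.dl_eq_one.1 ((K.lg_eq_zero (h4mem x)).1 h)
    have hE2 : ∀ x ∈ Ds, ∀ x' ∈ Ds, cm x x' ∈ d.C := fun x hx x' hx' => by
      rw [← QuotientGroup.eq_one_iff]
      have h := d'.D_comm (hp.to_quotient _) hn (x := (x : Q ⧸ d.C)) (y := (x' : Q ⧸ d.C))
        (by rw [hd', d.quot_dl, d.quot_mem]; exact hx) (by rw [hd', d.quot_dl, d.quot_mem]; exact hx')
      show ((x⁻¹ * x'⁻¹ * x * x' : Q) : Q ⧸ d.C) = 1
      rw [mul_assoc, QuotientGroup.mk_mul, QuotientGroup.mk_mul, QuotientGroup.mk_mul, h]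
      simp [mul_assoc]
    have hDmul : ∀ a b, a ∈ D → b ∈ D → L2 (a * b) = L2 a + L2 b := fun a b ha hb => by
      show K.lg _ = _; rw [d.dl_mul_D hp hn ha, K.lg_mul _ ha _ hb]
    -- the three pairings
    obtain ⟨k1, hk1⟩ := K.pair_const Ds ⊤ hDsρ (fun _ _ => trivial) L3 L4 (fun x w => L2 (cm x w))
      (fun a ha b hb => by show K.lg _ = _; rw [hdd a b ha hb, K.lg_mul _ ha _ hb])
      (fun a _ b _ => by show K.lg _ = _; rw [hddd, K.lg_mul _ (h4mem a) _ (h4mem b)])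
      r3 (fun x _ => r4 x) s3 s4
      (fun a _ a' _ w _ => by
        show L2 _ = _
        rw [cm_mul_left, hconj _ _ (hcm a w), hDmul _ _ (D.mul_mem (hcm a w) (hcm _ _)) (hcm a' w)]
        show K.lg (d.dl (cm a w * cm (cm a w) a')) + _ = _
        rw [d.dl_mul_C hp hn (hcmD _ a' (hcm a w))])
      (fun a _ w _ w' _ => by
        show L2 _ = _
        rw [cm_mul_right, hconj _ _ (hcm a w), hDmul _ _ (hcm a w') (D.mul_mem (hcm a w) (hcm _ _))]
        show _ + K.lg (d.dl (cm a w * cm (cm a w) w')) = _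
        rw [d.dl_mul_C hp hn (hcmD _ w' (hcm a w)), add_comm])
      (fun a _ w _ => by show L2 _ = _; rw [← cm_map]; show K.lg _ = _; rw [d.dl_rho1, K.lg_rho _ (hcm a w)])
      (fun a ha w _ h => by
        show K.lg (d.dl (cm a w)) = 0
        rw [d.dl_eq_one.2 ?_, K.lg_one]
        rcases h with h | h
        · exact hcmD a w (k3 a ha h)
        · exact hE2 a ha w (k4 w h))
    obtain ⟨k2, hk2⟩ := K.pair_const Ds D hDsρ hDρ L3 L2 (fun x w => K.lg (cm x w))
      (fun a ha b hb => by show K.lg _ = _; rw [hdd a b ha hb, K.lg_mul _ ha _ hb])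
      (fun a ha b hb => hDmul a b ha hb)
      r3 (fun x hx => by show K.lg _ = _; rw [d.dl_rho1, K.lg_rho _ hx]) s3 s2
      (fun a ha a' ha' w hw => by
        have m : ∀ v ∈ Ds, cm v w ∈ d.C := fun v hv => hE2 v hv w (by
          show d.dl w ∈ D; show d.dl (d.dl w) ∈ d.C; rw [d.dl_eq_one.2 hw]; exact d.C.one_mem)
        show K.lg _ = _
        rw [cm_mul_left, hcc (m a ha), K.lg_mul _ (m a ha) _ (m a' ha')])
      (fun a ha w hw w' hw' => by
        have m : ∀ v ∈ D, cm a v ∈ d.C := fun v hv => hE2 a ha v (by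
          show d.dl v ∈ D; show d.dl (d.dl v) ∈ d.C; rw [d.dl_eq_one.2 hv]; exact d.C.one_mem)
        show K.lg _ = _
        rw [cm_mul_right, hcc (m w hw), K.lg_mul _ (m w' hw') _ (m w hw), add_comm])
      (fun a ha w hw => by
        show K.lg _ = _
        rw [← cm_map, K.lg_rho _ (hE2 a ha w (by
          show d.dl w ∈ D; show d.dl (d.dl w) ∈ d.C; rw [d.dl_eq_one.2 hw]; exact d.C.one_mem))])
      (fun a ha w hw h => by
        show K.lg (cm a w) = 0
        rw [cm_eq_one ?_, K.lg_one]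
        rcases h with h | h
        · exact d.D_comm hp hn (k3 a ha h) hw
        · exact (d.C_comm hp hn (d.dl_eq_one.1 ((K.lg_eq_zero hw).1 h)) a).symm)
    obtain ⟨k3', hk3⟩ := K.pair_const D ⊤ hDρ (fun _ _ => trivial) L2 L4 (fun x w => K.lg (cm x w))
      (fun a ha b hb => hDmul a b ha hb)
      (fun a _ b _ => by show K.lg _ = _; rw [hddd, K.lg_mul _ (h4mem a) _ (h4mem b)])
      (fun x hx => by show K.lg _ = _; rw [d.dl_rho1, K.lg_rho _ hx]) (fun x _ => r4 x) s2 s4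
      (fun a ha a' ha' w _ => by
        show K.lg _ = _
        rw [cm_mul_left, hcc (hcmD a w ha), K.lg_mul _ (hcmD a w ha) _ (hcmD a' w ha')])
      (fun a ha w _ w' _ => by
        show K.lg _ = _
        rw [cm_mul_right, hcc (hcmD a w ha), K.lg_mul _ (hcmD a w' ha) _ (hcmD a w ha), add_comm])
      (fun a ha w _ => by show K.lg _ = _; rw [← cm_map, K.lg_rho _ (hcmD a w ha)])
      (fun a ha w _ h => by
        show K.lg (cm a w) = 0
        rcases h with h | h
        · rw [cm_eq_one (d.C_comm hp hn (d.dl_eq_one.1 ((K.lg_eq_zero ha).1 h)) w), K.lg_one]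
        · -- elements of the third layer centralise the second
          have hw : w ∈ Ds := k4 w h
          have hh := hk2 w hw a ha
          have hz : K.lg (cm w a) = 0 := by
            have h0 := hk2 e heD f hfD
            have hce : cm e f = 1 := cm_eq_one (by rw [hf]; group)
            rw [hce, K.lg_one, mul_zero] at h0
            have hk20 : k2 = 0 := by
              rcases mul_eq_zero.1 h0.symm with h0 | h0
              · exact (mul_eq_zero.1 h0).resolve_right hL2f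
              · exact absurd h0 hL2f
            rw [hk20, zero_mul, zero_mul] at hh
            exact mul_self_eq_zero.1 hh
          rw [K.lg_eq_zero (hE2 w hw a (by
            show d.dl a ∈ D; show d.dl (d.dl a) ∈ d.C; rw [d.dl_eq_one.2 ha]; exact d.C.one_mem))] at hz
          rw [cm_eq_one (commute_of_cm hz).symm, K.lg_one])
    -- the values at `e` and `f`
    have hk1ne : k1 ≠ 0 := by
      intro h
      have h1 := hk1 e heD y trivial
      rw [h, zero_mul, zero_mul, mul_self_eq_zero] at h1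
      refine hL2f ?_
      have hce : cm e y = f * (y⁻¹ * e * y * e) := by
        rw [hf, d.C_comm hp hn hc1 (e⁻¹ * e⁻¹) |>.symm]
        rw [cm]
        have : y⁻¹ * e * y * e * (e⁻¹ * e⁻¹) = y⁻¹ * e * y * e⁻¹ := by group
        rw [this]
        calc e⁻¹ * y⁻¹ * e * y = e⁻¹ * ((y⁻¹ * e * y * e) * e⁻¹) := by group
          _ = (y⁻¹ * e * y * e) * e⁻¹ * e⁻¹ := by rw [← mul_assoc, ← d.C_comm hp hn hc1 e⁻¹]
          _ = y⁻¹ * e * y * e⁻¹ := by group
      show K.lg (d.dl f) = 0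
      rw [← d.dl_mul_C hp hn hc1 f, ← hce]
      exact h1
    have hk3ne : k3' ≠ 0 := by
      intro h
      have h1 := hk3 f hfD y trivial
      rw [hcmf, h, zero_mul, zero_mul, mul_self_eq_zero] at h1
      exact hL2f h1
    obtain ⟨m, hm⟩ := K.lin_const (D : Set Q) hDρ L2 (fun a => K.lg (a * a))
      (fun x hx => by show K.lg _ = _; rw [d.dl_rho1, K.lg_rho _ hx])
      (fun x hx => by
        show K.lg _ = _
        rw [← map_mul, K.lg_rho _ (by rw [← d.dl_eq_one, d.dl_mul_D hp hn hx, d.fix_sq _ hx])])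
      s2
      (fun x hx h => by show K.lg (x * x) = 0; rw [d.fix_sq x (d.dl_eq_one.1 ((K.lg_eq_zero hx).1 h)), K.lg_one])
      (fun x hx w hw h => by
        have hc := d.inv_mul_mem hp hn hx (K.lg_inj hx hw h)
        show K.lg (x * x) = K.lg (w * w)
        rw [show w * w = x * x from ?_]
        calc w * w = (x * (x⁻¹ * w)) * (x * (x⁻¹ * w)) := by group
          _ = x * ((x⁻¹ * w) * x) * (x⁻¹ * w) := by group
          _ = x * (x * (x⁻¹ * w)) * (x⁻¹ * w) := by rw [d.C_comm hp hn hc x]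
          _ = x * x * ((x⁻¹ * w) * (x⁻¹ * w)) := by group
          _ = x * x := by rw [d.fix_sq _ hc, mul_one])
    -- conjugation by the square of `y`
    set v := L4 y with hv
    have hyy : y * y ∈ D := hsq y
    set w := L2 (y * y) with hw
    have main : ∀ x ∈ Ds, L2 (cm x y) * (k3' * v) = L3 x * (k2 * w + m * m * k1 * v) := by
      intro x hx
      set h := cm x y with hh
      have hhD : d.dl h ∈ d.C := hcm x y
      have hhC : cm h y ∈ d.C := hcmD h y hhD
      have hh2 : h * h ∈ d.C := by rw [← d.dl_eq_one, d.dl_mul_D hp hn hhD, d.fix_sq _ hhD]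
      have heq : cm x (y * y) = (h * h) * cm h y := by
        rw [cm_mul_right, hconj h y hhD]; rw [← mul_assoc]
      have h2 := hk2 x hx (y * y) hyy
      have h3 := hk3 h hhD y trivial
      have h1 := hk1 x hx y trivial
      rw [heq, K.lg_mul _ hh2 _ hhC, hm h hhD, CharTwo.add_mul_self, h3] at h2
      linear_combination h2 - (m * m) * h1 -
        (L3 x * m * m * k1 * v) * (CharTwo.two_eq_zero (R := GaloisField 2 n))
    -- contradiction
    have hv0 : k1 * v ≠ 0 := mul_ne_zero hk1ne hL2f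
    have hA : k3' * v ≠ 0 := mul_ne_zero hk3ne hL2f
    have hall : ∀ u : GaloisField 2 n, u * u * ((k2 * w + m * m * k1 * v) * (k2 * w + m * m * k1 * v)) =
        k1 * u * v * ((k3' * v) * (k3' * v)) := by
      intro u
      obtain ⟨x, hx, rfl⟩ := s3 u
      have h1 := main x hx
      have h2 := hk1 x hx y trivial
      rw [← h2]
      linear_combination -(L2 (cm x y) * (k3' * v) + L3 x * (k2 * w + m * m * k1 * v)) * h1
    have hsame : ∀ u : GaloisField 2 n, u ≠ 0 → u = 1 := by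
      intro u hu
      have h1 := hall 1
      rw [one_mul, one_mul, mul_one] at h1
      have h2 := hall u
      rw [h1] at h2
      have h3 : (u - 1) * (u * (k1 * v * (k3' * v * (k3' * v)))) = 0 := by linear_combination h2
      rcases mul_eq_zero.1 h3 with h4 | h4
      · exact sub_eq_zero.1 h4
      · exact absurd h4 (mul_ne_zero hu (mul_ne_zero hv0 (mul_ne_zero hA hA)))
    classical
    haveI : Fintype (GaloisField 2 n) := Fintype.ofFinite _
    have hle : Fintype.card (GaloisField 2 n) ≤ 2 := by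
      calc Fintype.card (GaloisField 2 n) = (Finset.univ : Finset (GaloisField 2 n)).card := rfl
        _ ≤ ({0, 1} : Finset (GaloisField 2 n)).card := Finset.card_le_card fun u _ => by
            by_cases hu : u = 0
            · simp [hu]
            · simp [hsame u hu]
        _ ≤ 2 := Finset.card_le_two
    rw [← Nat.card_eq_fintype_card, GaloisField.card 2 n (by omega)] at hle
    have : 2 ^ 2 ≤ 2 ^ n := Nat.pow_le_pow_right (by norm_num) hn2
    omega

/-- All squares lie in the fixed subgroup. -/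
theorem Data.squares (hp : IsPGroup 2 Q) (hn : 2 ≤ n) (hna : ∃ x y : Q, x * y ≠ y * x) : ∀ x, x * x ∈ d.C :=
  squares_aux (Nat.card Q) d le_rfl hp hn hna

end Cfsg.Agent.Lie.FixedLayer
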