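import Mathlib

/-!
A central extension of an elementary abelian two-group by an elementary abelian two-group is determined
up to isomorphism by its squaring map.
-/

set_option autoImplicit false

namespace Cfsg.Agent.Lie.SquareMap

/-- A group over `V` with central kernel `C` and squaring map `S`. -/
structure Model (V C G : Type*) [AddCommGroup V] [AddCommGroup C] [Group G] (S : V → C) where
  /-- the projection -/
  proj : G → V
  /-- the kernel -/
  emb : C → G
  proj_mul : ∀ g h, proj (g * h) = proj g + proj h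
  proj_surj : ∀ v, ∃ g, proj g = v
  emb_add : ∀ a b, emb (a + b) = emb a * emb b
  emb_inj : Function.Injective emb
  proj_zero : ∀ g, proj g = 0 ↔ ∃ c, g = emb c
  central : ∀ c g, emb c * g = g * emb c
  sq : ∀ g, g * g = emb (S (proj g))

variable {V C G H : Type*} [AddCommGroup V] [AddCommGroup C] [Group G] [Group H] {S : V → C}

theorem Model.emb_zero (M : Model V C G S) : M.emb 0 = 1 := by
  have h := M.emb_add 0 0
  rw [add_zero] at h
  exact mul_eq_left.1 h.symm

theorem Model.proj_emb (M : Model V C G S) (c : C) : M.proj (M.emb c) = 0 := (M.proj_zero _).2 ⟨c, rfl⟩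

theorem Model.proj_one (M : Model V C G S) : M.proj 1 = 0 := M.emb_zero ▸ M.proj_emb 0

theorem Model.proj_inv (M : Model V C G S) (g : G) : M.proj g⁻¹ = -M.proj g := by
  rw [eq_neg_iff_add_eq_zero, ← M.proj_mul, inv_mul_cancel, M.proj_one]

theorem Model.iso [Finite G] [Finite H] (M : Model V C G S) (M' : Model V C H S) : Nonempty (G ≃* H) := by
  classical
  let P : Subgroup (G × H) :=
    { carrier := {p | M.proj p.1 = M'.proj p.2}
      one_mem' := by show M.proj 1 = M'.proj 1; rw [M.proj_one, M'.proj_one]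
      mul_mem' := fun {a b} ha hb => by
        show M.proj (a.1 * b.1) = M'.proj (a.2 * b.2)
        rw [M.proj_mul, M'.proj_mul, show M.proj a.1 = _ from ha, show M.proj b.1 = _ from hb]
      inv_mem' := fun {a} ha => by
        show M.proj a.1⁻¹ = M'.proj a.2⁻¹
        rw [M.proj_inv, M'.proj_inv, show M.proj a.1 = _ from ha] }
  let Δ : Subgroup (G × H) :=
    { carrier := {p | ∃ c, p = (M.emb c, M'.emb c)}
      one_mem' := ⟨0, by rw [M.emb_zero, M'.emb_zero]; rfl⟩
      mul_mem' := by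
        rintro _ _ ⟨a, rfl⟩ ⟨b, rfl⟩
        exact ⟨a + b, by rw [M.emb_add, M'.emb_add]; rfl⟩
      inv_mem' := by
        rintro _ ⟨a, rfl⟩
        refine ⟨-a, inv_eq_of_mul_eq_one_right ?_⟩
        rw [Prod.mk_mul_mk, ← M.emb_add, ← M'.emb_add, add_neg_cancel, M.emb_zero, M'.emb_zero]
        rfl }
  have hΔP : Δ ≤ P := by
    rintro _ ⟨c, rfl⟩
    show M.proj (M.emb c) = M'.proj (M'.emb c)
    rw [M.proj_emb, M'.proj_emb]
  have hΔc : ∀ d ∈ Δ, ∀ x : G × H, d * x = x * d := by
    rintro _ ⟨c, rfl⟩ x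
    exact Prod.ext (M.central c x.1) (M'.central c x.2)
  have hsq : ∀ p ∈ P, p * p ∈ Δ := fun p hp => ⟨S (M.proj p.1), Prod.ext (M.sq p.1) (by
    show p.2 * p.2 = M'.emb (S (M.proj p.1))
    rw [show M.proj p.1 = _ from hp]; exact M'.sq p.2)⟩
  -- a maximal subgroup over Δ missing the first kernel
  obtain ⟨L, ⟨hΔL, hLP, hL0⟩, hmax⟩ := Set.exists_max_image
    {L : Subgroup (G × H) | Δ ≤ L ∧ L ≤ P ∧ ∀ c, (M.emb c, (1 : H)) ∈ L → M.emb c = 1}
    (fun L : Subgroup (G × H) => Nat.card L) (Set.toFinite _) ⟨Δ, le_rfl, hΔP, fun c ⟨d, hd⟩ => by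
      have h2 : M'.emb d = M'.emb 0 := ((congrArg Prod.snd hd).symm).trans M'.emb_zero.symm
      rw [M'.emb_inj h2, M.emb_zero] at hd
      exact congrArg Prod.fst hd⟩
  have hnorm : ∀ p ∈ P, ∀ l ∈ L, p⁻¹ * l * p ∈ L := fun p hp l hl => by
    have h1 : p⁻¹ * l * p = ((p⁻¹ * p⁻¹) * ((p * l) * (p * l)) * (l⁻¹ * l⁻¹)) * l := by
      group
    rw [h1]
    exact L.mul_mem (hΔL (Δ.mul_mem (Δ.mul_mem (hsq _ (P.inv_mem hp)) (hsq _ (P.mul_mem hp (hLP hl))))
      (hsq _ (P.inv_mem (hLP hl))))) hl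
  have hcover : ∀ p ∈ P, ∃ c, (M.emb c, (1 : H)) * p ∈ L := by
    intro p hp
    by_contra hcon
    push Not at hcon
    let L' : Subgroup (G × H) :=
      { carrier := {x | x ∈ L ∨ p⁻¹ * x ∈ L}
        one_mem' := Or.inl L.one_mem
        mul_mem' := by
          intro x y hx hy
          rcases hx with hx | hx <;> rcases hy with hy | hy
          · exact Or.inl (L.mul_mem hx hy)
          · refine Or.inr ?_
            have := L.mul_mem (hnorm p hp x hx) hy
            simpa [mul_assoc] using this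
          · exact Or.inr (by rw [← mul_assoc]; exact L.mul_mem hx hy)
          · refine Or.inl ?_
            have := L.mul_mem (L.mul_mem (hΔL (hsq p hp)) (hnorm p hp _ hx)) hy
            simpa [mul_assoc] using this
        inv_mem' := by
          intro x hx
          rcases hx with hx | hx
          · exact Or.inl (L.inv_mem hx)
          · refine Or.inr ?_
            have := L.mul_mem (hnorm p hp _ (L.inv_mem hx)) (L.inv_mem (hΔL (hsq p hp)))
            simpa [mul_assoc] using this }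
    have hp' : p ∈ L' := Or.inr (by rw [inv_mul_cancel]; exact L.one_mem)
    have hpL : p ∉ L := fun h => hcon 0 (by
      rw [M.emb_zero, show ((1 : G), (1 : H)) = 1 from rfl, one_mul]; exact h)
    have hmem : L' ∈ {L : Subgroup (G × H) | Δ ≤ L ∧ L ≤ P ∧ ∀ c, (M.emb c, (1 : H)) ∈ L → M.emb c = 1} := by
      refine ⟨fun x hx => Or.inl (hΔL hx), fun x hx => ?_, fun c hc => ?_⟩
      · rcases hx with hx | hx
        · exact hLP hx
        · simpa using P.mul_mem hp (hLP hx)
      · rcases hc with hc | hc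
        · exact hL0 c hc
        · exfalso
          refine hcon (-c) ?_
          have h1 := L.inv_mem hc
          rw [mul_inv_rev, inv_inv] at h1
          convert h1 using 2
          exact eq_inv_of_mul_eq_one_left (Prod.ext (by show M.emb (-c) * M.emb c = 1; rw [← M.emb_add, neg_add_cancel, M.emb_zero])
            (one_mul 1))
    have hle : L ≤ L' := fun x hx => Or.inl hx
    exact hpL (Subgroup.eq_of_le_of_card_ge hle (hmax L' hmem) ▸ hp')
  let f1 : ↥L →* G := (MonoidHom.fst G H).comp L.subtype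
  let f2 : ↥L →* H := (MonoidHom.snd G H).comp L.subtype
  have hsnd : ∀ l ∈ L, l.2 = 1 → l = 1 := fun l hl h2 => by
    have h3 : M.proj l.1 = M'.proj l.2 := hLP hl
    rw [h2, M'.proj_one] at h3
    obtain ⟨c, hc⟩ := (M.proj_zero _).1 h3
    exact Prod.ext (hc ▸ hL0 c (by rw [← hc, ← h2]; exact hl)) h2
  have hb1 : Function.Bijective f1 := by
    refine ⟨(injective_iff_map_eq_one f1).2 fun l hl => ?_, fun g => ?_⟩
    · have h3 : M.proj l.1.1 = M'.proj l.1.2 := hLP l.2
      rw [show l.1.1 = 1 from hl, M.proj_one] at h3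
      obtain ⟨c, hc⟩ := (M'.proj_zero _).1 h3.symm
      have hd : (M.emb c, M'.emb c) * l.1⁻¹ ∈ L := L.mul_mem (hΔL ⟨c, rfl⟩) (L.inv_mem l.2)
      have h4 := hsnd _ hd (by show M'.emb c * l.1.2⁻¹ = 1; rw [hc, mul_inv_cancel])
      have h5 := congrArg Prod.fst h4
      have h6 : M.emb c = M.emb 0 := by
        rw [M.emb_zero]
        simpa [show l.1.1 = 1 from hl] using h5
      exact Subtype.ext (Prod.ext hl (by rw [hc, M.emb_inj h6, M'.emb_zero]; rfl))
    · obtain ⟨h, hh⟩ := M'.proj_surj (M.proj g)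
      obtain ⟨c, hc⟩ := hcover (g, h) hh.symm
      refine ⟨⟨(M.emb (-c), M'.emb (-c)) * ((M.emb c, 1) * (g, h)), L.mul_mem (hΔL ⟨_, rfl⟩) hc⟩, ?_⟩
      show M.emb (-c) * (M.emb c * g) = g
      rw [← mul_assoc, ← M.emb_add, neg_add_cancel, M.emb_zero, one_mul]
  have hb2 : Function.Bijective f2 := by
    refine ⟨(injective_iff_map_eq_one f2).2 fun l hl => Subtype.ext (hsnd _ l.2 hl), fun h => ?_⟩
    obtain ⟨g, hg⟩ := M.proj_surj (M'.proj h)
    obtain ⟨c, hc⟩ := hcover (g, h) hg
    exact ⟨⟨(M.emb c, 1) * (g, h), hc⟩, one_mul h⟩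
  exact ⟨(MulEquiv.ofBijective f1 hb1).symm.trans (MulEquiv.ofBijective f2 hb2)⟩

end Cfsg.Agent.Lie.SquareMap
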