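import Mathlib
import Cfsg.Agent.Lib.Lie.FixedLayersShape
import Cfsg.Agent.Lib.Lie.SquareMapIso

/-!
Coordinates over `GF(2 ^ n)` and the quadratic form of squares.
-/

set_option autoImplicit false

namespace Cfsg.Agent.Lie.FixedLayer

universe u

variable {Q : Type u} [Group Q] [Finite Q] {n : ℕ}

theorem Data.plane (d : Data Q n) (hp : IsPGroup 2 Q) (hn : 2 ≤ n) (hna : ∃ x y : Q, x * y ≠ y * x) :
    ∃ A K B : GaloisField 2 n, K ≠ 0 ∧
      Nonempty (SquareMap.Model (GaloisField 2 n × GaloisField 2 n) (GaloisField 2 n) Q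
        (fun p => A * p.1 * p.1 + K * p.1 * p.2 + B * p.2 * p.2)) := by
  classical
  haveI : Fact (Nat.Prime 2) := ⟨Nat.prime_two⟩
  have hn1 : 1 ≤ n := by omega
  obtain ⟨K⟩ := exists_coord d hp hn1
  haveI := d.C_normal hp hn1
  have hsq := d.squares hp hn hna
  have hcc : ∀ {c : Q}, c ∈ d.C → ∀ g : Q, g⁻¹ * c * g = c := fun hc g => by
    rw [mul_assoc, d.C_comm hp hn1 hc, inv_mul_cancel_left]
  have hcm : ∀ x y : Q, cm x y ∈ d.C := fun x y => by
    have h : cm x y = x⁻¹ * x⁻¹ * (x * y⁻¹ * (x * y⁻¹)) * (y * y) := by unfold cm; group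
    rw [h]
    exact d.C.mul_mem (d.C.mul_mem (hsq _) (hsq _)) (hsq _)
  have hcl : ∀ x y z : Q, cm (x * y) z = cm x z * cm y z := fun x y z => by rw [cm_mul_left, hcc (hcm x z)]
  have hcr : ∀ x y z : Q, cm x (y * z) = cm x y * cm x z := fun x y z => by
    rw [cm_mul_right, hcc (hcm x y), d.C_comm hp hn1 (hcm x y)]
  have hdd : ∀ x, d.dl (d.dl x) ∈ d.C := fun x => by rw [d.dl_dl]; exact hsq _
  have hne : d.C ≠ ⊤ := fun h => by
    obtain ⟨x, y, hxy⟩ := hna
    exact hxy (d.C_comm hp hn1 (h ▸ Subgroup.mem_top x) y)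
  let D := d.D hp hn1
  -- first coordinate
  let u : Q → GaloisField 2 n := fun x => K.lg (d.dl (d.dl x))
  have hu : ∀ a b, u (a * b) = u a + u b := fun a b => by
    show K.lg _ = _
    rw [d.dl_mul, show b⁻¹ * d.dl a * b = d.dl a * cm (d.dl a) b by unfold cm; group,
      d.dl_mul_D hp hn1 (by rw [d.dl_mul_C hp hn1 (hcm _ _)]; exact hdd a), d.dl_mul_C hp hn1 (hcm _ _),
      K.lg_mul _ (hdd a) _ (hdd b)]
  have huρ : ∀ x, u (d.ρ x) = K.ζ * u x := fun x => by
    show K.lg _ = _; rw [d.dl_rho1, d.dl_rho1, K.lg_rho _ (hdd x)]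
  have hu0 : ∀ x, u x = 0 ↔ x ∈ D := fun x => (K.lg_eq_zero (hdd x)).trans d.dl_eq_one
  obtain ⟨x0, hx0⟩ : ∃ x0, x0 ∉ D := by
    by_contra h
    push Not at h
    obtain ⟨x, y, hxy⟩ := hna
    exact hxy (d.D_comm hp hn1 (h x) (h y))
  have husurj : ∀ a, ∃ x, u x = a := fun a => by
    by_cases ha : a = 0
    · exact ⟨1, by rw [ha, hu0]; exact D.one_mem⟩
    · have hne0 : u x0 ≠ 0 := fun h => hx0 ((hu0 x0).1 h)
      obtain ⟨k, hk⟩ := K.zeta_gen (a / u x0) (div_ne_zero ha hne0)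
      exact ⟨(d.ρ ^ k) x0, by
        rw [(K.pow_scalar u Set.univ (fun _ _ => trivial) (fun x _ => huρ x) k x0 trivial).2, hk,
          div_mul_cancel₀ _ hne0]⟩
  -- the coordinate of the second layer
  let L : Q → GaloisField 2 n := fun x => K.lg (d.dl x)
  have hL : ∀ a b, a ∈ D → b ∈ D → L (a * b) = L a + L b := fun a b ha hb => by
    show K.lg _ = _; rw [d.dl_mul_D hp hn1 ha, K.lg_mul _ ha _ hb]
  have hLρ : ∀ x ∈ D, L (d.ρ x) = K.ζ * L x := fun x hx => by
    show K.lg _ = _; rw [d.dl_rho1, K.lg_rho _ hx]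
  have hDρ : ∀ x ∈ D, d.ρ x ∈ D := fun x hx => by
    show d.dl _ ∈ d.C; rw [d.dl_rho1]; simpa using d.rho_mem hx 1
  have hCD : d.C ≤ D := fun c hc => by show d.dl c ∈ d.C; rw [d.dl_eq_one.2 hc]; exact d.C.one_mem
  have hLsurj : ∀ a, ∃ x ∈ D, L x = a := fun a => by
    obtain ⟨z, hz⟩ := d.dl_surj hp hn1 hne _ (K.κ_mem a)
    exact ⟨z, by show d.dl z ∈ d.C; rw [hz]; exact K.κ_mem a, by show K.lg _ = a; rw [hz, K.lg_κ]⟩
  -- a complement to the second layer modulo `C`
  obtain ⟨M, ⟨hCM, hMD⟩, hmax⟩ := Set.exists_max_image {M : Subgroup Q | d.C ≤ M ∧ ∀ x ∈ M, x ∈ D → x ∈ d.C}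
    (fun M : Subgroup Q => Nat.card M) (Set.toFinite _) ⟨d.C, le_rfl, fun x hx _ => hx⟩
  have hnorm : ∀ p, ∀ l ∈ M, p⁻¹ * l * p ∈ M := fun p l hl => by
    rw [show p⁻¹ * l * p = l * cm l p by unfold cm; group]
    exact M.mul_mem hl (hCM (hcm _ _))
  have hcover : ∀ x : Q, ∃ m ∈ M, m⁻¹ * x ∈ D := by
    intro p
    by_contra hcon
    push Not at hcon
    let M' : Subgroup Q :=
      { carrier := {x | x ∈ M ∨ p⁻¹ * x ∈ M}
        one_mem' := Or.inl M.one_mem
        mul_mem' := by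
          intro x y hx hy
          rcases hx with hx | hx <;> rcases hy with hy | hy
          · exact Or.inl (M.mul_mem hx hy)
          · refine Or.inr ?_
            have := M.mul_mem (hnorm p x hx) hy
            simpa [mul_assoc] using this
          · exact Or.inr (by rw [← mul_assoc]; exact M.mul_mem hx hy)
          · refine Or.inl ?_
            have := M.mul_mem (M.mul_mem (hCM (hsq p)) (hnorm p _ hx)) hy
            simpa [mul_assoc] using this
        inv_mem' := by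
          intro x hx
          rcases hx with hx | hx
          · exact Or.inl (M.inv_mem hx)
          · refine Or.inr ?_
            have := M.mul_mem (hnorm p _ (M.inv_mem hx)) (M.inv_mem (hCM (hsq p)))
            simpa [mul_assoc] using this }
    have hpM : p ∉ M := fun h => hcon p h (by rw [inv_mul_cancel]; exact D.one_mem)
    have hp' : p ∈ M' := Or.inr (by rw [inv_mul_cancel]; exact M.one_mem)
    have hmem : M' ∈ {M : Subgroup Q | d.C ≤ M ∧ ∀ x ∈ M, x ∈ D → x ∈ d.C} := by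
      refine ⟨fun x hx => Or.inl (hCM hx), fun x hx hxD => ?_⟩
      rcases hx with hx | hx
      · exact hMD x hx hxD
      · exfalso
        refine hcon (p⁻¹ * x) hx ?_
        rw [show (p⁻¹ * x)⁻¹ * p = x⁻¹ * (p * p) by group]
        exact D.mul_mem (D.inv_mem hxD) (hCD (hsq p))
    exact hpM (Subgroup.eq_of_le_of_card_ge (show M ≤ M' from fun x hx => Or.inl hx) (hmax M' hmem) ▸ hp')
  choose mf hmf hmfD using hcover
  let v0 : Q → GaloisField 2 n := fun x => L ((mf x)⁻¹ * x)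
  have hwd : ∀ x m, m ∈ M → m⁻¹ * x ∈ D → v0 x = L (m⁻¹ * x) := by
    intro x m hm hmx
    have h1 : m⁻¹ * mf x ∈ d.C := by
      refine hMD _ (M.mul_mem (M.inv_mem hm) (hmf x)) ?_
      simpa [mul_assoc] using D.mul_mem hmx (D.inv_mem (hmfD x))
    have h2 : m⁻¹ * x = (mf x)⁻¹ * x * (m⁻¹ * mf x) := by
      rw [← d.C_comm hp hn1 h1]; group
    show K.lg _ = K.lg _
    rw [h2, d.dl_mul_C hp hn1 h1]
  have hv0 : ∀ a b, v0 (a * b) = v0 a + v0 b := by
    intro a b
    have h : (mf a * mf b)⁻¹ * (a * b) = (mf a)⁻¹ * a * ((mf b)⁻¹ * b) * cm ((mf a)⁻¹ * a) (mf b) := by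
      rw [mul_assoc _ _ (cm _ _), ← d.C_comm hp hn1 (hcm _ _), ← mul_assoc]
      unfold cm; group
    have hm : cm ((mf a)⁻¹ * a) (mf b) ∈ d.C := hcm _ _
    rw [hwd (a * b) (mf a * mf b) (M.mul_mem (hmf a) (hmf b))
      (by rw [h]; exact D.mul_mem (D.mul_mem (hmfD a) (hmfD b)) (hCD hm)), h]
    show K.lg (d.dl _) = _
    rw [d.dl_mul_C hp hn1 hm]
    exact hL _ _ (hmfD a) (hmfD b)
  have hv0D : ∀ x ∈ D, v0 x = L x := fun x hx => by
    rw [hwd x 1 M.one_mem (by rwa [inv_one, one_mul]), inv_one, one_mul]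
  -- averaging
  let m := 2 ^ n - 1
  have hζ0 : K.ζ ≠ 0 := by
    intro h
    haveI : Fintype (GaloisField 2 n) := Fintype.ofFinite _
    obtain ⟨a, ha⟩ : ∃ a : GaloisField 2 n, a ≠ 0 ∧ a ≠ 1 := by
      by_contra hcon
      push Not at hcon
      have hle : Fintype.card (GaloisField 2 n) ≤ 2 := by
        calc Fintype.card (GaloisField 2 n) = (Finset.univ : Finset (GaloisField 2 n)).card := rfl
          _ ≤ ({0, 1} : Finset (GaloisField 2 n)).card := Finset.card_le_card fun u _ => by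
              by_cases hu : u = 0
              · simp [hu]
              · simp [hcon u hu]
          _ ≤ 2 := Finset.card_le_two
      rw [← Nat.card_eq_fintype_card, GaloisField.card 2 n (by omega)] at hle
      have : 2 ^ 2 ≤ 2 ^ n := Nat.pow_le_pow_right (by norm_num) hn
      omega
    obtain ⟨k, hk⟩ := K.zeta_gen a ha.1
    rcases Nat.eq_zero_or_pos k with rfl | hk0
    · exact ha.2 (by rw [← hk, pow_zero])
    · exact ha.1 (by rw [← hk, h, zero_pow hk0.ne'])
  have hζm : K.ζ⁻¹ ^ m = 1 := by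
    haveI : Fintype (GaloisField 2 n) := Fintype.ofFinite _
    have h := FiniteField.pow_card_sub_one_eq_one (K := GaloisField 2 n) K.ζ⁻¹ (inv_ne_zero hζ0)
    rwa [← Nat.card_eq_fintype_card, GaloisField.card 2 n (by omega)] at h
  let v : Q → GaloisField 2 n := fun x => ∑ k ∈ Finset.range m, K.ζ⁻¹ ^ k * v0 ((d.ρ ^ k) x)
  have hv : ∀ a b, v (a * b) = v a + v b := fun a b => by
    show ∑ k ∈ _, _ = _
    simp only [map_mul, hv0, mul_add, Finset.sum_add_distrib]
    rfl
  have hvρ : ∀ x, v (d.ρ x) = K.ζ * v x := by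
    intro x
    have h := Finset.sum_range_succ' (fun k => K.ζ⁻¹ ^ k * v0 ((d.ρ ^ k) x)) m
    have h' := Finset.sum_range_succ (fun k => K.ζ⁻¹ ^ k * v0 ((d.ρ ^ k) x)) m
    rw [h'] at h
    have hz : K.ζ⁻¹ ^ m * v0 ((d.ρ ^ m) x) = K.ζ⁻¹ ^ 0 * v0 ((d.ρ ^ 0) x) := by
      rw [d.rho_pow, hζm, pow_zero]; rfl
    rw [hz, add_left_inj] at h
    show ∑ k ∈ Finset.range m, K.ζ⁻¹ ^ k * v0 ((d.ρ ^ k) (d.ρ x)) =
      K.ζ * ∑ k ∈ Finset.range m, K.ζ⁻¹ ^ k * v0 ((d.ρ ^ k) x)
    rw [h, Finset.mul_sum]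
    refine Finset.sum_congr rfl fun k _ => ?_
    rw [pow_succ' K.ζ⁻¹, ← mul_assoc, ← mul_assoc, mul_inv_cancel₀ hζ0, one_mul, pow_succ d.ρ, MulAut.mul_apply]
  have hvD : ∀ x ∈ D, v x = L x := by
    intro x hx
    have h1 : ∀ k, K.ζ⁻¹ ^ k * v0 ((d.ρ ^ k) x) = L x := fun k => by
      obtain ⟨h2, h3⟩ := K.pow_scalar L D hDρ hLρ k x hx
      rw [hv0D _ h2, h3, ← mul_assoc, ← mul_pow, inv_mul_cancel₀ hζ0, one_pow, one_mul]
    show ∑ k ∈ Finset.range m, _ = _
    rw [Finset.sum_congr rfl fun k _ => h1 k, Finset.sum_const, Finset.card_range, nsmul_eq_mul]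
    have hodd : (m : GaloisField 2 n) = 1 := by
      have h2 : m + 1 = 2 ^ n := Nat.sub_add_cancel Nat.one_le_two_pow
      have h3 : ((m + 1 : ℕ) : GaloisField 2 n) = 0 := by
        rw [h2, Nat.cast_pow, Nat.cast_two, CharTwo.two_eq_zero (R := GaloisField 2 n), zero_pow (by omega)]
      rw [Nat.cast_add, Nat.cast_one, CharTwo.add_eq_zero] at h3
      exact h3
    rw [hodd, one_mul]
  -- the projection
  let π : Q → GaloisField 2 n × GaloisField 2 n := fun x => (u x, v x)
  have hπ : ∀ a b, π (a * b) = π a + π b := fun a b => Prod.ext (hu a b) (hv a b)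
  have hπ0 : ∀ x, π x = 0 ↔ x ∈ d.C := by
    intro x
    constructor
    · intro h
      have h1 : x ∈ D := (hu0 x).1 (congrArg Prod.fst h)
      have h2 : L x = 0 := by rw [← hvD x h1]; exact congrArg Prod.snd h
      exact d.dl_eq_one.1 ((K.lg_eq_zero h1).1 h2)
    · intro h
      refine Prod.ext ((hu0 x).2 (hCD h)) ?_
      show v x = 0
      rw [hvD x (hCD h)]
      show K.lg _ = 0
      rw [d.dl_eq_one.2 h, K.lg_one]
  have hπs : ∀ p, ∃ x, π x = p := by
    rintro ⟨a, b⟩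
    obtain ⟨x, hx⟩ := husurj a
    obtain ⟨z, hzD, hz⟩ := hLsurj (b + v x)
    refine ⟨x * z, Prod.ext ?_ ?_⟩
    · show u (x * z) = a
      rw [hu, hx, (hu0 z).2 hzD, add_zero]
    · show v (x * z) = b
      rw [hv, hvD z hzD, hz]
      linear_combination v x * (CharTwo.two_eq_zero (R := GaloisField 2 n))
  have hπeq : ∀ x y, π x = π y → x⁻¹ * y ∈ d.C := fun x y h => by
    rw [← hπ0]
    have h1 := hπ x (x⁻¹ * y)
    rw [mul_inv_cancel_left, h] at h1
    exact left_eq_add.1 h1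
  -- squares
  choose rep hrep using hπs
  let S : GaloisField 2 n × GaloisField 2 n → GaloisField 2 n := fun p => K.lg (rep p * rep p)
  have hS : ∀ g, S (π g) = K.lg (g * g) := by
    intro g
    have hc := hπeq _ _ (hrep (π g))
    show K.lg _ = _
    have : g * g = rep (π g) * rep (π g) := by
      set r := rep (π g)
      calc g * g = r * ((r⁻¹ * g) * r) * (r⁻¹ * g) := by group
        _ = r * (r * (r⁻¹ * g)) * (r⁻¹ * g) := by rw [d.C_comm hp hn1 hc r]
        _ = r * r * ((r⁻¹ * g) * (r⁻¹ * g)) := by group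
        _ = r * r := by rw [d.fix_sq _ hc, mul_one]
    rw [this]
  have hSadd : ∀ g h, S (π g + π h) + S (π g) + S (π h) = K.lg (cm g h) := by
    intro g h
    rw [← hπ, hS, hS, hS]
    have e : g * h * (g * h) = g * g * cm g h⁻¹ * (h * h) := by unfold cm; group
    have hci : K.lg (cm g h⁻¹) = K.lg (cm g h) := by
      have h1 : K.lg (cm g (h⁻¹ * h)) = 0 := by rw [inv_mul_cancel, cm_eq_one (by group), K.lg_one]
      rw [hcr, K.lg_mul _ (hcm _ _) _ (hcm _ _), CharTwo.add_eq_zero] at h1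
      exact h1
    rw [e, K.lg_mul _ (d.C.mul_mem (hsq g) (hcm _ _)) _ (hsq h), K.lg_mul _ (hsq g) _ (hcm _ _), hci]
    linear_combination (K.lg (g * g) + K.lg (h * h)) * (CharTwo.two_eq_zero (R := GaloisField 2 n))
  have hb1 : ∀ a b c, S (a + b + c) + S (a + b) + S c = (S (a + c) + S a + S c) + (S (b + c) + S b + S c) := by
    intro a b c
    rw [← hrep a, ← hrep b, ← hrep c, ← hπ (rep a) (rep b), hSadd, hSadd, hSadd, hcl,
      K.lg_mul _ (hcm _ _) _ (hcm _ _)]
  have hπρ : ∀ x, π (d.ρ x) = (K.ζ * u x, K.ζ * v x) := fun x => Prod.ext (huρ x) (hvρ x)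
  have hhom : ∀ l a b, S (l * a, l * b) = l * S (a, b) := by
    intro l a b
    by_cases hl : l = 0
    · rw [hl, zero_mul, zero_mul, zero_mul, show ((0, 0) : GaloisField 2 n × GaloisField 2 n) = π 1 from
        ((hπ0 1).2 d.C.one_mem).symm, hS, one_mul, K.lg_one]
    · obtain ⟨k, rfl⟩ := K.zeta_gen l hl
      obtain ⟨g, hg⟩ : ∃ g, π g = (a, b) := ⟨rep (a, b), hrep _⟩
      have e1 := (K.pow_scalar u Set.univ (fun _ _ => trivial) (fun x _ => huρ x) k g trivial).2
      have e2 := (K.pow_scalar v Set.univ (fun _ _ => trivial) (fun x _ => hvρ x) k g trivial).2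
      have e3 := (K.pow_scalar (fun x => K.lg (x * x)) Set.univ (fun _ _ => trivial)
        (fun x _ => by show K.lg _ = _; rw [← map_mul, K.lg_rho _ (hsq x)]) k g trivial).2
      have hga : u g = a := congrArg Prod.fst hg
      have hgb : v g = b := congrArg Prod.snd hg
      rw [← hga, ← hgb, ← e1, ← e2]
      show S (π ((d.ρ ^ k) g)) = K.ζ ^ k * S (π g)
      rw [hS, hS]
      exact e3
  obtain ⟨A, K', B, hform, hK0⟩ := ScalarForms.plane_form S hhom hb1
  refine ⟨A, K', B, fun h => ?_, ?_⟩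
  · obtain ⟨x, y, hxy⟩ := hna
    have h1 := hSadd x y
    rw [hK0.2 h] at h1
    refine hxy (commute_of_cm ((K.lg_eq_zero (hcm x y)).1 ?_))
    rw [← h1]
    linear_combination (S (π x) + S (π y)) * (CharTwo.two_eq_zero (R := GaloisField 2 n))
  · choose r hr using fun x : GaloisField 2 n => ScalarForms.surjective_sq x
    have hradd : ∀ a b, r (a + b) = r a + r b := fun a b => ScalarForms.sq_inj (by
      rw [hr, CharTwo.add_mul_self, hr, hr])
    exact ⟨{ proj := π
             emb := fun c => K.κ (r c)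
             proj_mul := hπ
             proj_surj := fun p => ⟨rep p, hrep p⟩
             emb_add := fun a b => K.lg_inj (K.κ_mem _) (d.C.mul_mem (K.κ_mem _) (K.κ_mem _)) (by
               rw [K.lg_mul _ (K.κ_mem _) _ (K.κ_mem _), K.lg_κ, K.lg_κ, K.lg_κ, hradd])
             emb_inj := fun a b h => by
               have h1 := congrArg K.lg h
               rw [K.lg_κ, K.lg_κ] at h1
               rw [← hr a, ← hr b, h1]
             proj_zero := fun g => by
               rw [hπ0]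
               refine ⟨fun h => ⟨K.lg g * K.lg g, ?_⟩, ?_⟩
               · have h1 : r (K.lg g * K.lg g) = K.lg g := ScalarForms.sq_inj (hr _)
                 rw [h1, K.κ_lg g h]
               · rintro ⟨c, rfl⟩; exact K.κ_mem _
             central := fun c g => d.C_comm hp hn1 (K.κ_mem _) g
             sq := fun g => by
               have h1 : r (A * (π g).1 * (π g).1 + K' * (π g).1 * (π g).2 + B * (π g).2 * (π g).2) = S (π g) :=
                 ScalarForms.sq_inj (by rw [hr]; exact (hform _ _).symm)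
               show g * g = K.κ (r _)
               rw [h1, hS, K.κ_lg _ (hsq g)] }⟩

end Cfsg.Agent.Lie.FixedLayer
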