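import Mathlib
import Cfsg.Agent.Lib.Lie.UnitarySylow

/-!
Additive maps of `F_{q²}` preserving the norm form up to an additive map of `F_q`, `q = 2 ^ n`.
-/

set_option autoImplicit false

namespace Cfsg.Agent.Lie.UnitarySylow

open Cfsg.Agent.Classical

universe u

variable {F : Type u} [Field F] [Fintype F] [CharP F 2] {q n : ℕ} {σ : F ≃+* F}

theorem sigma_comm (hσ : IsUSigma q σ) (τ : F → F) (hτ : ∀ x, τ (x ^ q) = τ x ^ q) (x : F) :
    τ (σ x) = σ (τ x) := by rw [hσ.apply_eq, hσ.apply_eq, hτ]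

omit [CharP F 2] in
theorem pow_mod (hσ : IsUSigma q σ) (hq : q = 2 ^ n) (x : F) (j : ℕ) :
    x ^ 2 ^ (j % (2 * n)) = x ^ 2 ^ j := by
  have h : ∀ k i : ℕ, x ^ 2 ^ (i + 2 * n * k) = x ^ 2 ^ i := by
    intro k i
    induction k with
    | zero => simp
    | succ k ih =>
      rw [Nat.mul_succ, ← add_assoc, pow_add, pow_mul, ih,
        show 2 ^ (2 * n) = Fintype.card F by rw [hσ.card, hq, ← pow_mul, mul_comm], ← pow_mul, mul_comm, pow_mul,
        FiniteField.pow_card]
  conv_rhs => rw [← Nat.mod_add_div j (2 * n)]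
  rw [h]

omit [CharP F 2] in
theorem pow_injective (hσ : IsUSigma q σ) (hn : 1 ≤ n) (hq : q = 2 ^ n) {i j : ℕ} (hi : i < 2 * n) (hj : j < 2 * n)
    (h : ∀ x : F, x ^ 2 ^ i = x ^ 2 ^ j) : i = j := by
  classical
  obtain ⟨g, hg⟩ := IsCyclic.exists_ofOrder_eq_natCard (α := Fˣ)
  rw [Nat.card_units, Nat.card_eq_fintype_card, hσ.card, hq, ← pow_mul, mul_comm] at hg
  have hlt : ∀ i, i < 2 * n → 2 ^ i < 2 ^ (2 * n) - 1 := by
    intro i hi
    have h1 : 2 ^ i * 2 ≤ 2 ^ (2 * n) := by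
      rw [← pow_succ]; exact Nat.pow_le_pow_right (by norm_num) (by omega)
    have h2 : 2 ^ (2 * n) ≥ 4 := by
      calc (2 : ℕ) ^ (2 * n) ≥ 2 ^ 2 := Nat.pow_le_pow_right (by norm_num) (by omega)
        _ = 4 := rfl
    have h3 : 1 ≤ 2 ^ i := Nat.one_le_two_pow
    omega
  have h4 : g ^ 2 ^ i = g ^ 2 ^ j := Units.ext (by simpa using h (g : F))
  exact Nat.pow_right_injective le_rfl
    (pow_injOn_Iio_orderOf (by rw [Set.mem_Iio, hg]; exact hlt i hi) (by rw [Set.mem_Iio, hg]; exact hlt j hj) h4)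

/-- A multiplicative additive map of the fixed field is a power of the Frobenius map. -/
theorem exists_frob_extend (hσ : IsUSigma q σ) (f : F → F) (hfix : ∀ r, σ r = r → σ (f r) = f r)
    (hadd : ∀ r t, σ r = r → σ t = t → f (r + t) = f r + f t)
    (hmul : ∀ r t, σ r = r → σ t = t → f (r * t) = f r * f t) (h1 : f 1 = 1) :
    ∃ i : ℕ, ∀ r, σ r = r → f r = r ^ 2 ^ i := by
  classical
  let k : Subfield F := (σ.toRingHom).eqLocusField (RingHom.id F)
  have hk : ∀ r, r ∈ k ↔ σ r = r := fun r => Iff.rfl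
  letI := ZMod.algebra (↥k) 2
  let fk : ↥k →+* ↥k :=
    { toFun := fun r => ⟨f r, hfix r r.2⟩
      map_one' := Subtype.ext h1
      map_mul' := fun a b => Subtype.ext (hmul a b a.2 b.2)
      map_zero' := Subtype.ext (by
        have := hadd 0 0 (map_zero σ) (map_zero σ)
        rw [add_zero] at this
        show f 0 = 0
        calc f 0 = f 0 + f 0 := this
          _ = 0 := CharTwo.add_self_eq_zero _)
      map_add' := fun a b => Subtype.ext (hadd a b a.2 b.2) }
  let fe : ↥k ≃+* ↥k := RingEquiv.ofBijective fk (Finite.injective_iff_bijective.1 fk.injective)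
  let s : ↥k ≃ₐ[ZMod 2] ↥k := AlgEquiv.ofRingEquiv (f := fe) (fun x => by
    exact DFunLike.congr_fun (RingHom.ext_zmod ((fe : ↥k →+* ↥k).comp (algebraMap (ZMod 2) ↥k))
      (algebraMap (ZMod 2) ↥k)) x)
  obtain ⟨i, hi⟩ := (FiniteField.bijective_frobeniusAlgEquivOfAlgebraic_pow (ZMod 2) ↥k).2 s
  refine ⟨i, fun r hr => ?_⟩
  have h4 : ((FiniteField.frobeniusAlgEquivOfAlgebraic (ZMod 2) ↥k) ^ (i : ℕ)) ⟨r, hr⟩ = (⟨r, hr⟩ : ↥k) ^ 2 ^ (i : ℕ) := by
    induction (i : ℕ) with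
    | zero => simp
    | succ j ih =>
      rw [pow_succ', AlgEquiv.mul_apply, ih, FiniteField.coe_frobeniusAlgEquivOfAlgebraic]
      show (_ ^ 2 ^ j) ^ Fintype.card (ZMod 2) = _
      rw [ZMod.card, ← pow_mul, ← pow_succ]
  have h5 := DFunLike.congr_fun hi ⟨r, hr⟩
  rw [show (fun n : Fin (Module.finrank (ZMod 2) ↥k) => FiniteField.frobeniusAlgEquivOfAlgebraic (ZMod 2) ↥k ^ n.1) i
    = FiniteField.frobeniusAlgEquivOfAlgebraic (ZMod 2) ↥k ^ i.1 from rfl, h4] at h5
  exact (congrArg Subtype.val h5).symm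

/-- The norm. -/
def N (σ : F ≃+* F) (x : F) : F := x * σ x

/-- The polar form. -/
def B (σ : F ≃+* F) (x y : F) : F := σ x * y + x * σ y

theorem N_fixed (hσ : IsUSigma q σ) (x : F) : σ (N σ x) = N σ x := by
  rw [N, map_mul, hσ.involutive, mul_comm]

omit [Fintype F] [CharP F 2] in
theorem N_add (x y : F) : N σ (x + y) = N σ x + N σ y + B σ x y := by
  rw [N, N, N, B, map_add]; ring

theorem B_fixed (hσ : IsUSigma q σ) (x y : F) : σ (B σ x y) = B σ x y := by
  rw [B, map_add, map_mul, map_mul, hσ.involutive, hσ.involutive]; ring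

theorem exists_trace (hσ : IsUSigma q σ) {t : F} (ht : σ t = t) : ∃ y : F, y + σ y = t := by
  have h := (card_fix hσ).2 t ht
  obtain ⟨y⟩ := (Nat.card_pos_iff.1 (by rw [h]; have := hσ.two_le; omega : 0 < Nat.card {z : F // z + σ z = t})).1
  exact ⟨y.1, y.2⟩

/-- The classification of semi-similitudes of the norm form. -/
theorem semi_similitude (hσ : IsUSigma q σ) (hn : 1 ≤ n) (hq : q = 2 ^ n) (g α : F → F) (hg : Function.Injective g)
    (hadd : ∀ x y, g (x + y) = g x + g y) (hα : ∀ r t, σ r = r → σ t = t → α (r + t) = α r + α t)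
    (hN : ∀ x, N σ (g x) = α (N σ x)) :
    ∃ c : F, c ≠ 0 ∧ ∃ i : ℕ, i < 2 * n ∧ ∀ x, g x = c * x ^ 2 ^ i := by
  classical
  haveI : Fact (Nat.Prime 2) := ⟨Nat.prime_two⟩
  have hg0 : g 0 = 0 := by
    have := hadd 0 0
    rw [add_zero] at this
    calc g 0 = g 0 + g 0 := this
      _ = 0 := CharTwo.add_self_eq_zero _
  have hc : g 1 ≠ 0 := fun h => one_ne_zero (hg (h.trans hg0.symm))
  refine ⟨g 1, hc, ?_⟩
  let h : F → F := fun x => g x / g 1
  let β : F → F := fun t => α t / N σ (g 1)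
  have hNc : N σ (g 1) ≠ 0 := mul_ne_zero hc (fun e => hc ((map_eq_zero σ).1 e))
  have hh1 : h 1 = 1 := div_self hc
  have hhadd : ∀ x y, h (x + y) = h x + h y := fun x y => by
    show g (x + y) / _ = g x / _ + g y / _
    rw [hadd, add_div]
  have hβ : ∀ r t, σ r = r → σ t = t → β (r + t) = β r + β t := fun r t hr ht => by
    show α (r + t) / _ = α r / _ + α t / _
    rw [hα r t hr ht, add_div]
  have hhN : ∀ x, N σ (h x) = β (N σ x) := fun x => by
    show g x / g 1 * σ (g x / g 1) = α (N σ x) / N σ (g 1)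
    rw [← hN, map_div₀, div_mul_div_comm]; rfl
  have hB : ∀ x y, B σ (h x) (h y) = β (B σ x y) := by
    intro x y
    have h1 := hhN (x + y)
    rw [hhadd, N_add, hhN, hhN, N_add,
      hβ _ _ (by rw [map_add, N_fixed hσ, N_fixed hσ]) (B_fixed hσ x y), hβ _ _ (N_fixed hσ x) (N_fixed hσ y)] at h1
    exact add_left_cancel h1
  have hTr : ∀ y, h y + σ (h y) = β (y + σ y) := fun y => by
    have := hB 1 y
    rwa [hh1, B, B, map_one, one_mul, one_mul, one_mul, one_mul] at this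
  have hfix : ∀ r, σ r = r → σ (h r) = h r := fun r hr => by
    have h1 := hTr r
    have h0 : β 0 = 0 := by
      have := hβ 0 0 (map_zero σ) (map_zero σ)
      rw [add_zero] at this
      calc β 0 = β 0 + β 0 := this
        _ = 0 := CharTwo.add_self_eq_zero _
    rw [hr, CharTwo.add_self_eq_zero, h0, CharTwo.add_eq_zero] at h1
    exact h1.symm
  have hprod : ∀ r t, σ r = r → σ t = t → β (r * t) = h r * β t := by
    intro r t hr ht
    obtain ⟨y, hy⟩ := exists_trace hσ ht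
    have h1 := hB r y
    rw [B, B, hfix r hr, hr, ← mul_add, ← mul_add, add_comm y, add_comm (h y)] at h1
    rw [← hy, ← hTr, ← add_comm (σ y), ← add_comm (σ (h y))]
    exact h1.symm
  have hβ1 : β 1 = 1 := by
    have h1 := hhN 1
    rw [hh1] at h1
    simp only [N, map_one, mul_one] at h1
    exact h1.symm
  have hβh : ∀ r, σ r = r → β r = h r := fun r hr => by
    have := hprod r 1 hr (map_one σ)
    rwa [mul_one, hβ1, mul_one] at this
  obtain ⟨i, hi⟩ := exists_frob_extend hσ h hfix (fun r t _ _ => hhadd r t)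
    (fun r t hr ht => by rw [← hβh (r * t) (by rw [map_mul, hr, ht]), hprod r t hr ht, hβh t ht]) hh1
  have hfr : ∀ x y : F, (x + y) ^ 2 ^ i = x ^ 2 ^ i + y ^ 2 ^ i := fun x y => add_pow_char_pow x y 2 i
  have hσp : ∀ x, σ (x ^ 2 ^ i) = σ x ^ 2 ^ i := fun x => map_pow σ x _
  have key : ∀ x, h x = x ^ 2 ^ i ∨ h x = σ x ^ 2 ^ i := by
    intro x
    have h1 : h x + σ (h x) = x ^ 2 ^ i + σ x ^ 2 ^ i := by
      rw [hTr, hβh _ (by rw [map_add, hσ.involutive, add_comm]), hi _ (by rw [map_add, hσ.involutive, add_comm]), hfr]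
    have h2 : h x * σ (h x) = x ^ 2 ^ i * σ x ^ 2 ^ i := by
      have := hhN x
      rw [hβh _ (N_fixed hσ x), hi _ (N_fixed hσ x)] at this
      rw [show h x * σ (h x) = N σ (h x) from rfl, this, N, mul_pow]
    have h3 : (h x + x ^ 2 ^ i) * (h x + σ x ^ 2 ^ i) = 0 := by
      linear_combination (-h x) * h1 - h2 + (h x * h x + h x * σ (h x)) * (CharTwo.two_eq_zero (R := F))
    rcases mul_eq_zero.1 h3 with h4 | h4
    · exact Or.inl (CharTwo.add_eq_zero.1 h4)
    · exact Or.inr (CharTwo.add_eq_zero.1 h4)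
  have hall : (∀ x, h x = x ^ 2 ^ i) ∨ ∀ x, h x = σ x ^ 2 ^ i := by
    by_contra hcon
    push Not at hcon
    obtain ⟨⟨a, ha⟩, b, hb⟩ := hcon
    have ha' := (key a).resolve_left ha
    have hb' := (key b).resolve_right hb
    rcases key (a + b) with h1 | h1
    · rw [hhadd, hfr, hb', add_left_inj] at h1
      exact ha h1
    · rw [hhadd, map_add, hfr, ha', add_right_inj] at h1
      exact hb h1
  have hgh : ∀ x, g x = g 1 * h x := fun x => (mul_div_cancel₀ _ hc).symm
  rcases hall with hall | hall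
  · exact ⟨i % (2 * n), Nat.mod_lt _ (by omega), fun x => by rw [hgh, hall, pow_mod hσ hq]⟩
  · refine ⟨(n + i) % (2 * n), Nat.mod_lt _ (by omega), fun x => ?_⟩
    rw [hgh, hall, pow_mod hσ hq, hσ.apply_eq, hq, ← pow_mul, ← pow_add]

end Cfsg.Agent.Lie.UnitarySylow
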