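import Mathlib
import Cfsg.Prelude.Def_Solvable
import Cfsg.Prelude.Def_Transfer
import Cfsg.Agent.Lib.Fusion.Cores
import Cfsg.Agent.Lib.Lie.UnitaryNormForm

/-!
The automorphism group of a Sylow two-subgroup of `SU₃(2ⁿ)`: an elementary abelian group
`Hom(F_{q²}, F_q)` extended by `ΓL₁(q²)`.
-/

set_option autoImplicit false

namespace Cfsg.Agent.Lie.UnitarySylow

open Cfsg.Agent.Classical
attribute [local instance] _root_.Classical.propDecidable

universe u

variable {F : Type u} [Field F] [Fintype F] [CharP F 2] {q n : ℕ} {σ : F ≃+* F}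

/-- The coordinate group with its group structure attached. -/
def UT (_hσ : IsUSigma q σ) : Type u := U σ

noncomputable instance (hσ : IsUSigma q σ) : Group (UT hσ) := uGroup hσ

instance (hσ : IsUSigma q σ) : Finite (UT hσ) := finite_U hσ

variable {hσ : IsUSigma q σ}

/-- first coordinate -/
def xc (g : UT hσ) : F := U.x g

/-- second coordinate -/
def zc (g : UT hσ) : F := U.z g

theorem rel' (g : UT hσ) : zc g + σ (zc g) = xc g * σ (xc g) := U.rel g

/-- constructor -/
def mk' (hσ : IsUSigma q σ) (x z : F) (h : z + σ z = x * σ x) : UT hσ := (⟨x, z, h⟩ : U σ)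

theorem xc_mk (x z : F) (h : z + σ z = x * σ x) : xc (mk' hσ x z h) = x := rfl

theorem zc_mk (x z : F) (h : z + σ z = x * σ x) : zc (mk' hσ x z h) = z := rfl

theorem ext' {g h : UT hσ} (h1 : xc g = xc h) (h2 : zc g = zc h) : g = h := U.ext h1 h2

theorem xc_mul (g h : UT hσ) : xc (g * h) = xc g + xc h := rfl

theorem zc_mul (g h : UT hσ) : zc (g * h) = zc g + zc h + σ (xc g) * xc h := rfl

theorem xc_one : xc (1 : UT hσ) = 0 := rfl

theorem zc_one : zc (1 : UT hσ) = 0 := rfl

theorem xc_inv (g : UT hσ) : xc g⁻¹ = xc g := rfl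

theorem mem_center (g : UT hσ) : g ∈ Subgroup.center (UT hσ) ↔ xc g = 0 := mem_center_iff hσ g

theorem zc_fixed {g : UT hσ} (h : xc g = 0) : σ (zc g) = zc g := z_fixed h

/-- the central element with coordinate `z` -/
noncomputable def cen (hσ : IsUSigma q σ) (z : F) : UT hσ :=
  if h : σ z = z then mk' hσ 0 z (by rw [h, CharTwo.add_self_eq_zero, zero_mul]) else 1

theorem xc_cen (z : F) : xc (cen hσ z) = 0 := by
  unfold cen; split_ifs <;> rfl

theorem zc_cen {z : F} (h : σ z = z) : zc (cen hσ z) = z := by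
  rw [cen, dif_pos h]; rfl

theorem cen_eq {g : UT hσ} (h : xc g = 0) : g = cen hσ (zc g) :=
  ext' (by rw [h, xc_cen]) (zc_cen (zc_fixed h)).symm

theorem sq_cen (g : UT hσ) : g * g = cen hσ (N σ (xc g)) :=
  ext' (by rw [xc_mul, xc_cen, CharTwo.add_self_eq_zero])
    (by rw [zc_cen (N_fixed hσ _), zc_mul, CharTwo.add_self_eq_zero, zero_add, N, mul_comm])

theorem cen_add {r t : F} (hr : σ r = r) (ht : σ t = t) : cen hσ (r + t) = cen hσ r * cen hσ t :=
  ext' (by rw [xc_mul, xc_cen, xc_cen, xc_cen, add_zero])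
    (by rw [zc_mul, zc_cen hr, zc_cen ht, zc_cen (by rw [map_add, hr, ht]), xc_cen, xc_cen, mul_zero, add_zero])

/-- a preimage of `x` -/
noncomputable def sec (hσ : IsUSigma q σ) (x : F) : UT hσ := (exists_z hσ x).choose

theorem xc_sec (x : F) : xc (sec hσ x) = x := (exists_z hσ x).choose_spec

theorem xc_center (φ : MulAut (UT hσ)) {g : UT hσ} (h : xc g = 0) : xc (φ g) = 0 := by
  rw [← mem_center, Subgroup.mem_center_iff]
  intro k
  have := congrArg φ (Subgroup.mem_center_iff.1 ((mem_center g).2 h) (φ.symm k))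
  simpa using this

/-- induced map on the quotient by the centre -/
noncomputable def gfun (φ : MulAut (UT hσ)) (x : F) : F := xc (φ (sec hσ x))

theorem gfun_spec (φ : MulAut (UT hσ)) (g : UT hσ) : xc (φ g) = gfun φ (xc g) := by
  have h : xc ((sec hσ (xc g))⁻¹ * g) = 0 := by
    rw [xc_mul, xc_inv, xc_sec, CharTwo.add_self_eq_zero]
  have h1 := xc_center φ h
  rw [map_mul, map_inv, xc_mul, xc_inv, CharTwo.add_eq_zero] at h1
  exact h1.symm

theorem gfun_mul (φ ψ : MulAut (UT hσ)) (x : F) : gfun (φ * ψ) x = gfun φ (gfun ψ x) := by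
  conv_lhs => rw [gfun, MulAut.mul_apply, gfun_spec]
  rfl

theorem gfun_one (x : F) : gfun (1 : MulAut (UT hσ)) x = x := by rw [gfun, MulAut.one_apply, xc_sec]

/-- the induced permutation -/
noncomputable def lam (hσ : IsUSigma q σ) : MulAut (UT hσ) →* Equiv.Perm F :=
  MonoidHom.mk' (fun φ => ⟨gfun φ, gfun φ⁻¹, fun x => by rw [← gfun_mul, inv_mul_cancel, gfun_one],
      fun x => by rw [← gfun_mul, mul_inv_cancel, gfun_one]⟩)
    (fun φ ψ => Equiv.ext fun x => gfun_mul φ ψ x)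

theorem lam_apply (φ : MulAut (UT hσ)) (x : F) : lam hσ φ x = gfun φ x := rfl

theorem lam_spec (φ : MulAut (UT hσ)) (g : UT hσ) : xc (φ g) = lam hσ φ (xc g) := gfun_spec φ g

theorem lam_form (hn : 1 ≤ n) (hq : q = 2 ^ n) (φ : MulAut (UT hσ)) :
    ∃ c : F, c ≠ 0 ∧ ∃ i : ℕ, i < 2 * n ∧ ∀ x, lam hσ φ x = c * x ^ 2 ^ i := by
  refine semi_similitude hσ hn hq _ (fun z => zc (φ (cen hσ z))) (lam hσ φ).injective ?_ ?_ ?_
  · intro x y
    have h := lam_spec φ (sec hσ x * sec hσ y)
    rw [xc_mul, xc_sec, xc_sec, map_mul, xc_mul, lam_spec, lam_spec, xc_sec, xc_sec] at h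
    exact h.symm
  · intro r t hr ht
    show zc (φ (cen hσ (r + t))) = _
    rw [cen_add hr ht, map_mul, zc_mul, xc_center φ (xc_cen r), map_zero, zero_mul, add_zero]
  · intro x
    show N σ (lam hσ φ x) = zc (φ (cen hσ (N σ x)))
    rw [show N σ x = N σ (xc (sec hσ x)) by rw [xc_sec], ← sq_cen, map_mul, sq_cen, zc_cen (N_fixed hσ _),
      lam_spec, xc_sec]

theorem exists_lift (hσ : IsUSigma q σ) (c : F) (hc : c ≠ 0) (i : ℕ) :
    ∃ φ : MulAut (UT hσ), ∀ x, lam hσ φ x = c * x ^ 2 ^ i := by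
  have hfr : ∀ x y : F, (x + y) ^ 2 ^ i = x ^ 2 ^ i + y ^ 2 ^ i := fun x y => add_pow_char_pow x y 2 i
  let f : UT hσ → UT hσ := fun g => mk' hσ (c * xc g ^ 2 ^ i) (c * σ c * zc g ^ 2 ^ i) (by
    rw [map_mul, map_mul, hσ.involutive, map_mul, map_pow, map_pow, mul_comm (σ c) c, ← mul_add, ← hfr, rel', mul_pow]
    ring)
  let F' : UT hσ →* UT hσ := MonoidHom.mk' f (fun g h => ext'
    (by simp only [f, xc_mk, xc_mul, hfr]; ring)
    (by simp only [f, xc_mk, zc_mk, xc_mul, zc_mul, hfr, map_mul, map_pow, mul_pow]; ring))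
  have hinj : Function.Injective F' := by
    intro g h e
    have e1 : c * xc g ^ 2 ^ i = c * xc h ^ 2 ^ i := congrArg xc e
    have e2 : c * σ c * zc g ^ 2 ^ i = c * σ c * zc h ^ 2 ^ i := congrArg zc e
    have hi : Function.Injective fun x : F => x ^ 2 ^ i := fun x y hxy => by
      have : (x + y) ^ 2 ^ i = 0 := by rw [hfr]; exact CharTwo.add_eq_zero.2 hxy
      exact CharTwo.add_eq_zero.1 ((pow_eq_zero_iff (by positivity)).1 this)
    exact ext' (hi (mul_left_cancel₀ hc e1))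
      (hi (mul_left_cancel₀ (mul_ne_zero hc fun e => hc ((map_eq_zero σ).1 e)) e2))
  refine ⟨MulEquiv.ofBijective F' (Finite.injective_iff_bijective.1 hinj), fun x => ?_⟩
  show c * xc (sec hσ x) ^ 2 ^ i = _
  rw [xc_sec]

/-- shift by an additive map into the fixed field -/
noncomputable def shift (hσ : IsUSigma q σ) (f : F →+ F) (hf : ∀ x, σ (f x) = f x) : MulAut (UT hσ) where
  toFun g := mk' hσ (xc g) (zc g + f (xc g)) (by
    rw [map_add, hf]
    linear_combination rel' g + f (xc g) * (CharTwo.two_eq_zero (R := F)))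
  invFun g := mk' hσ (xc g) (zc g + f (xc g)) (by
    rw [map_add, hf]
    linear_combination rel' g + f (xc g) * (CharTwo.two_eq_zero (R := F)))
  left_inv g := ext' rfl (by simp only [xc_mk, zc_mk, add_assoc, CharTwo.add_self_eq_zero, add_zero])
  right_inv g := ext' rfl (by simp only [xc_mk, zc_mk, add_assoc, CharTwo.add_self_eq_zero, add_zero])
  map_mul' g h := ext' rfl (by simp only [xc_mk, zc_mk, xc_mul, zc_mul, map_add]; ring)

theorem mem_ker_iff (φ : MulAut (UT hσ)) : φ ∈ (lam hσ).ker ↔ ∀ g, xc (φ g) = xc g := by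
  refine ⟨fun h g => by rw [lam_spec, MonoidHom.mem_ker.1 h]; rfl, fun h => MonoidHom.mem_ker.2 (Equiv.ext fun x => ?_)⟩
  show xc (φ (sec hσ x)) = x
  rw [h, xc_sec]

theorem shift_mem (f : F →+ F) (hf : ∀ x, σ (f x) = f x) : shift hσ f hf ∈ (lam hσ).ker :=
  (mem_ker_iff _).2 fun _ => rfl

theorem ker_eq_shift {φ : MulAut (UT hσ)} (h : φ ∈ (lam hσ).ker) :
    ∃ (f : F →+ F) (hf : ∀ x, σ (f x) = f x), φ = shift hσ f hf := by
  rw [mem_ker_iff] at h
  have hcen : ∀ {g : UT hσ}, xc g = 0 → φ g = g := by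
    intro g hg
    have hz := zc_fixed hg
    obtain ⟨y, hy⟩ : ∃ y, N σ y = zc g := by
      have hinj : Function.Injective fun y : F => y * y := fun a b hab => by
        simpa using CharTwo.sq_injective (R := F) (show a ^ 2 = b ^ 2 by rw [pow_two, pow_two]; exact hab)
      obtain ⟨y, hy⟩ := Finite.surjective_of_injective hinj (zc g)
      have hy' : σ y = y := hinj (by show σ y * σ y = y * y; rw [← map_mul, show y * y = zc g from hy, hz])
      exact ⟨y, by rw [N, hy']; exact hy⟩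
    rw [cen_eq hg, ← hy, show N σ y = N σ (xc (sec hσ y)) by rw [xc_sec], ← sq_cen, map_mul, sq_cen, sq_cen, h]
  let d : F → F := fun x => zc (φ (sec hσ x)) + zc (sec hσ x)
  have hd : ∀ g : UT hσ, zc (φ g) = zc g + d (xc g) := by
    intro g
    have hk : xc ((sec hσ (xc g))⁻¹ * g) = 0 := by rw [xc_mul, xc_inv, xc_sec, CharTwo.add_self_eq_zero]
    have h1 := hcen hk
    rw [map_mul, map_inv] at h1
    have h2 : φ g = φ (sec hσ (xc g)) * ((sec hσ (xc g))⁻¹ * g) :=
      (mul_inv_cancel_left _ _).symm.trans (congrArg (φ (sec hσ (xc g)) * ·) h1)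
    have h3 : zc (sec hσ (xc g) * ((sec hσ (xc g))⁻¹ * g)) = zc g := by rw [mul_inv_cancel_left]
    rw [zc_mul] at h3
    rw [h2, zc_mul, h]
    show _ = zc g + (zc (φ (sec hσ (xc g))) + zc (sec hσ (xc g)))
    linear_combination h3 - zc (sec hσ (xc g)) * (CharTwo.two_eq_zero (R := F))
  have hfix : ∀ x, σ (d x) = d x := fun x => by
    have h1 := rel' (φ (sec hσ x))
    have h2 := rel' (sec hσ x)
    rw [h, xc_sec] at h1
    rw [xc_sec] at h2
    show σ (zc _ + zc _) = zc _ + zc _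
    rw [map_add]
    linear_combination h1 + h2 + (x * σ x - zc (φ (sec hσ x)) - zc (sec hσ x)) * (CharTwo.two_eq_zero (R := F))
  refine ⟨AddMonoidHom.mk' d fun x y => ?_, hfix, MulEquiv.ext fun g => ext' (h g) (hd g)⟩
  have h1 := hd (sec hσ x * sec hσ y)
  rw [map_mul, zc_mul, zc_mul, hd, hd, h, h, xc_mul, xc_sec, xc_sec] at h1
  linear_combination -h1

end Cfsg.Agent.Lie.UnitarySylow
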