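import Mathlib
import Cfsg.Agent.Lib.Lie.FixedLayersPlane
import Cfsg.Agent.Lib.Lie.UnitarySylowAut
import Cfsg.Agent.Lib.Small.PSLn.Sylow

/-!
The two models: the unitriangular group of `SL₃` and the coordinate group of `SU₃`.
-/

set_option autoImplicit false

namespace Cfsg.Agent.Lie.FixedLayer

open Cfsg.Agent.Lie.SquareMap

/-- change the scalar of a model -/
noncomputable def scale {F G : Type*} [Field F] [Group G] {S : F × F → F} (M : Model (F × F) F G S) (l : F) (hl : l ≠ 0)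
    {S' : F × F → F} (h : ∀ p, S p = l * S' p) : Model (F × F) F G S' where
  proj := M.proj
  emb c := M.emb (l * c)
  proj_mul := M.proj_mul
  proj_surj := M.proj_surj
  emb_add a b := by rw [mul_add, M.emb_add]
  emb_inj := M.emb_inj.comp (mul_right_injective₀ hl)
  proj_zero g := by
    rw [M.proj_zero]
    constructor
    · rintro ⟨c, rfl⟩; exact ⟨l⁻¹ * c, by rw [mul_inv_cancel_left₀ hl]⟩
    · rintro ⟨c, rfl⟩; exact ⟨_, rfl⟩
  central c g := M.central _ g
  sq g := by rw [← h]; exact M.sq g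

/-- change the coordinates of a model -/
noncomputable def reparam {V W C G : Type*} [AddCommGroup V] [AddCommGroup W] [AddCommGroup C] [Group G] {S : V → C}
    (M : Model V C G S) (e : V → W) (hadd : ∀ a b, e (a + b) = e a + e b) (he : Function.Bijective e) {S' : W → C}
    (h : ∀ p, S' (e p) = S p) : Model W C G S' where
  proj g := e (M.proj g)
  emb := M.emb
  proj_mul a b := by rw [M.proj_mul, hadd]
  proj_surj w := by
    obtain ⟨p, rfl⟩ := he.2 w
    obtain ⟨g, rfl⟩ := M.proj_surj p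
    exact ⟨g, rfl⟩
  emb_add := M.emb_add
  emb_inj := M.emb_inj
  proj_zero g := by
    rw [← M.proj_zero]
    have h0 : e 0 = 0 := by
      have := hadd 0 0
      rw [add_zero] at this
      exact left_eq_add.1 this
    exact ⟨fun hg => he.1 (hg.trans h0.symm), fun hg => by rw [hg, h0]⟩
  central := M.central
  sq g := by rw [h]; exact M.sq g

section Special
variable (F : Type) [Field F] [Fintype F] [CharP F 2]
open Cfsg.Agent.Small.PSLn

theorem special_model : Nonempty (Model (F × F) F ↥(UTg 3 F) (fun p => p.1 * p.2)) := by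
  have h10 : ∀ A : UTg 3 F, A.1.1 1 0 = 0 := fun A => A.2.2 1 0 (by decide)
  have h20 : ∀ A : UTg 3 F, A.1.1 2 0 = 0 := fun A => A.2.2 2 0 (by decide)
  have h21 : ∀ A : UTg 3 F, A.1.1 2 1 = 0 := fun A => A.2.2 2 1 (by decide)
  have hd : ∀ (A : UTg 3 F) i, A.1.1 i i = 1 := fun A i => A.2.1 i
  have hmul : ∀ (A B : UTg 3 F) i j, (A * B).1.1 i j = ∑ k, A.1.1 i k * B.1.1 k j := fun A B i j => by
    show (A.1.1 * B.1.1) i j = _
    rw [Matrix.mul_apply]
  have hext : ∀ A B : UTg 3 F, A.1.1 0 1 = B.1.1 0 1 → A.1.1 1 2 = B.1.1 1 2 → A.1.1 0 2 = B.1.1 0 2 → A = B := by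
    intro A B e1 e2 e3
    apply Subtype.ext
    apply Subtype.ext
    ext i j
    fin_cases i <;> fin_cases j <;> first
      | exact (hd A _).trans (hd B _).symm
      | exact (h10 A).trans (h10 B).symm
      | exact (h20 A).trans (h20 B).symm
      | exact (h21 A).trans (h21 B).symm
      | assumption
  let M : F → F → F → Matrix (Fin 3) (Fin 3) F := fun a b c => !![1, a, c; 0, 1, b; 0, 0, 1]
  have hM : ∀ a b c, Cfsg.Agent.Small.PSLn.IsUT (M a b c) := fun a b c =>
    ⟨fun i => by fin_cases i <;> rfl, fun i j h => by fin_cases i <;> fin_cases j <;> first | rfl | exact absurd h (by decide)⟩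
  let mk : F → F → F → UTg 3 F := fun a b c => ⟨⟨M a b c, by simp [M, Matrix.det_fin_three]⟩, hM a b c⟩
  refine ⟨{ proj := fun A => (A.1.1 0 1, A.1.1 1 2)
            emb := fun c => mk 0 0 c
            proj_mul := fun A B => ?_
            proj_surj := fun p => ⟨mk p.1 p.2 0, rfl⟩
            emb_add := fun a b => hext _ _ ?_ ?_ ?_
            emb_inj := fun a b h => congrArg (fun A : UTg 3 F => A.1.1 0 2) h
            proj_zero := fun A => ?_
            central := fun c A => hext _ _ ?_ ?_ ?_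
            sq := fun A => hext _ _ ?_ ?_ ?_ }⟩
  · refine Prod.ext ?_ ?_
    · show (A * B).1.1 0 1 = A.1.1 0 1 + B.1.1 0 1
      rw [hmul, Fin.sum_univ_three, hd, hd, h21]; ring
    · show (A * B).1.1 1 2 = A.1.1 1 2 + B.1.1 1 2
      rw [hmul, Fin.sum_univ_three, h10, hd, hd]; ring
  · show M 0 0 (a + b) 0 1 = (mk 0 0 a * mk 0 0 b).1.1 0 1
    rw [hmul, Fin.sum_univ_three]; simp [mk, M, h10, h20, h21, hd]
  · show M 0 0 (a + b) 1 2 = (mk 0 0 a * mk 0 0 b).1.1 1 2
    rw [hmul, Fin.sum_univ_three]; simp [mk, M, h10, h20, h21, hd]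
  · show M 0 0 (a + b) 0 2 = (mk 0 0 a * mk 0 0 b).1.1 0 2
    rw [hmul, Fin.sum_univ_three]; simp [mk, M, h10, h20, h21, hd, add_comm]
  · constructor
    · intro h
      exact ⟨A.1.1 0 2, hext _ _ (congrArg Prod.fst h) (congrArg Prod.snd h) rfl⟩
    · rintro ⟨c, rfl⟩; rfl
  · rw [hmul, hmul, Fin.sum_univ_three, Fin.sum_univ_three, hd A, hd A, h21]; simp [mk, M, h10, h20, h21, hd]
  · rw [hmul, hmul, Fin.sum_univ_three, Fin.sum_univ_three, hd A, hd A, h10]; simp [mk, M, h10, h20, h21, hd]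
  · rw [hmul, hmul, Fin.sum_univ_three, Fin.sum_univ_three, hd A, hd A]; simp [mk, M, h10, h20, h21, hd, add_comm]
  · rw [hmul, Fin.sum_univ_three, hd, hd, h21]
    show 1 * A.1.1 0 1 + A.1.1 0 1 * 1 + A.1.1 0 2 * 0 = 0
    linear_combination A.1.1 0 1 * (CharTwo.two_eq_zero (R := F))
  · rw [hmul, Fin.sum_univ_three, hd, hd, h10]
    show 0 * A.1.1 0 2 + 1 * A.1.1 1 2 + A.1.1 1 2 * 1 = 0
    linear_combination A.1.1 1 2 * (CharTwo.two_eq_zero (R := F))
  · rw [hmul, Fin.sum_univ_three, hd, hd]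
    show 1 * A.1.1 0 2 + A.1.1 0 1 * A.1.1 1 2 + A.1.1 0 2 * 1 = A.1.1 0 1 * A.1.1 1 2
    linear_combination A.1.1 0 2 * (CharTwo.two_eq_zero (R := F))

theorem iso_special {G : Type*} [Group G] [Finite G] {n : ℕ} (hn : 1 ≤ n) (hF : Fintype.card F = 2 ^ n)
    (M : Model (F × F) F G (fun p => p.1 * p.2)) :
    ∃ S : Sylow 2 (Matrix.ProjectiveSpecialLinearGroup (Fin 3) F),
      Nonempty (G ≃* ↥(S : Subgroup (Matrix.ProjectiveSpecialLinearGroup (Fin 3) F))) := by
  haveI : Fact (Nat.Prime 2) := ⟨Nat.prime_two⟩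
  obtain ⟨M'⟩ := special_model F
  obtain ⟨e⟩ := M.iso M'
  let f := (pr : Matrix.SpecialLinearGroup (Fin 3) F →* _).comp (UTg 3 F).subtype
  have hf : Function.Injective f := fun A B h => Subtype.ext (pr_injOn_UT A.2 B.2 h)
  have hr : f.range = U 3 F := by rw [MonoidHom.range_comp, Subgroup.range_subtype]; rfl
  exact ⟨sylU hn hF, ⟨e.trans ((MonoidHom.ofInjective hf).trans (MulEquiv.subgroupCongr hr))⟩⟩

end Special

section Unitary
open Cfsg.Agent.Lie.UnitarySylow

theorem iso_unitary (F : Type) [Field F] [Fintype F] [CharP F 2] {G : Type*} [Group G] [Finite G] {n : ℕ} (hn : 1 ≤ n)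
    (hF : Fintype.card F = 2 ^ n) (K B : F) (hirr : ∀ r : F, r * r + K * r + B ≠ 0) (hK : K ≠ 0)
    (M : Model (F × F) F G (fun p => p.1 * p.1 + K * p.1 * p.2 + B * p.2 * p.2)) :
    ∃ (L : Type) (_ : Field L) (_ : Fintype L), Fintype.card L = 4 ^ n ∧
      ∃ S : Sylow 2 (Cfsg.PSU 3 L (2 ^ n)), Nonempty (G ≃* ↥(S : Subgroup (Cfsg.PSU 3 L (2 ^ n)))) := by
  classical
  haveI : Fact (Nat.Prime 2) := ⟨Nat.prime_two⟩
  let L := GaloisField 2 (2 * n)
  letI : Fintype L := Fintype.ofFinite _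
  have hL : Fintype.card L = (2 ^ n) ^ 2 := by
    rw [← Nat.card_eq_fintype_card, GaloisField.card 2 (2 * n) (by omega), ← pow_mul, mul_comm]
  refine ⟨L, inferInstance, inferInstance, by rw [hL, ← pow_mul, mul_comm, pow_mul]; norm_num, ?_⟩
  haveI : CharP L 2 := inferInstance
  obtain ⟨τ, hτ⟩ := sigma_props hn hL
  obtain ⟨hfix, hfib⟩ := card_fix hτ
  let k : Subfield L := (τ.toRingHom).eqLocusField (RingHom.id L)
  haveI : Fintype ↥k := Fintype.ofFinite _
  have hkc : Fintype.card F = Fintype.card ↥k := by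
    rw [hF, ← Nat.card_eq_fintype_card]; exact hfix.symm
  let e : F ≃+* ↥k := FiniteField.ringEquivOfCardEq hkc
  let ι : F →+* L := k.subtype.comp e.toRingHom
  have hι : ∀ a, τ (ι a) = ι a := fun a => (e a).2
  have hιinj : Function.Injective ι := ι.injective
  have hιsurj : ∀ z : L, τ z = z → ∃ a, ι a = z := fun z hz => ⟨e.symm ⟨z, hz⟩, by
    show ((e (e.symm ⟨z, hz⟩) : ↥k) : L) = z
    rw [e.apply_symm_apply]⟩
  obtain ⟨y0, hy0⟩ := exists_trace hτ (hι K)
  -- the map `r ↦ r * r + K * r` has image of index two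
  let T : F →+ F := AddMonoidHom.mk' (fun r => r * r + K * r) fun a b => by
    show (a + b) * (a + b) + K * (a + b) = _; rw [CharTwo.add_mul_self]; ring
  have hker : Nat.card T.ker = 2 := by
    have h : (T.ker : Set F) = {0, K} := by
      ext r
      rw [SetLike.mem_coe, AddMonoidHom.mem_ker]
      show r * r + K * r = 0 ↔ _
      rw [Set.mem_insert_iff, Set.mem_singleton_iff, ← add_mul, mul_eq_zero, CharTwo.add_eq_zero]
      tauto
    rw [show Nat.card T.ker = (T.ker : Set F).ncard from Nat.card_coe_set_eq _, h, Set.ncard_pair (Ne.symm hK)]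
  have hindex : T.range.index = 2 := by
    have h1 := T.range.card_mul_index
    have h2 := Nat.card_congr (QuotientAddGroup.quotientKerEquivRange T).toEquiv
    have h3 := AddSubgroup.card_eq_card_quotient_mul_card_addSubgroup T.ker
    rw [hker] at h3
    have h4 : 0 < Nat.card (F ⧸ T.ker) := Nat.card_pos
    rw [← h2] at h1
    exact Nat.eq_of_mul_eq_mul_left h4 (h1.trans h3)
  obtain ⟨b0, hb0⟩ := hιsurj (N τ y0) (N_fixed hτ y0)
  have hnot0 : b0 ∉ T.range := by
    rintro ⟨r, hr⟩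
    have h1 : y0 + τ y0 = ι K := hy0
    have h2 : N τ y0 = ι r * ι r + ι K * ι r := by
      rw [← hb0, ← hr]; show ι (r * r + K * r) = _; rw [map_add, map_mul, map_mul]
    have h3 : (y0 + ι r) * (τ y0 + ι r) = 0 := by
      rw [N] at h2
      linear_combination h2 + ι r * h1 + (ι r * ι r + ι K * ι r) * (CharTwo.two_eq_zero (R := L))
    rcases mul_eq_zero.1 h3 with h | h <;> rw [CharTwo.add_eq_zero] at h
    · rw [h, hι, CharTwo.add_self_eq_zero] at h1
      exact hK (hιinj (h1.symm.trans (map_zero ι).symm))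
    · have h5 : y0 = ι r := by rw [← hτ.involutive y0, h, hι]
      rw [h5, hι, CharTwo.add_self_eq_zero] at h1
      exact hK (hιinj (h1.symm.trans (map_zero ι).symm))
  have hnotB : B ∉ T.range := by
    rintro ⟨r, hr⟩
    exact hirr r (by rw [← hr]; exact CharTwo.add_self_eq_zero _)
  obtain ⟨r0, hr0⟩ : b0 + B ∈ T.range := (AddSubgroup.add_mem_iff_of_index_two hindex).2 (by simp [hnot0, hnotB])
  let ω := y0 + ι r0
  have hωt : ω + τ ω = ι K := by
    show y0 + ι r0 + τ (y0 + ι r0) = _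
    rw [map_add, hι]
    linear_combination hy0 + ι r0 * (CharTwo.two_eq_zero (R := L))
  have hωn : ω * τ ω = ι B := by
    show (y0 + ι r0) * τ (y0 + ι r0) = _
    rw [map_add, hι]
    have h2 : y0 * τ y0 = ι b0 := hb0.symm
    have h3 : ι r0 * ι r0 + ι K * ι r0 = ι b0 + ι B := by
      rw [← map_mul, ← map_mul, ← map_add, ← map_add, ← hr0]; rfl
    linear_combination h2 + h3 + ι r0 * hy0 + ι b0 * (CharTwo.two_eq_zero (R := L))
  let ψ : F × F → L := fun p => ι p.1 + ι p.2 * ω
  have hψadd : ∀ a b, ψ (a + b) = ψ a + ψ b := fun a b => by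
    show ι (a.1 + b.1) + ι (a.2 + b.2) * ω = _
    rw [map_add, map_add]; show _ = (ι a.1 + ι a.2 * ω) + (ι b.1 + ι b.2 * ω); ring
  have hψinj : Function.Injective ψ := by
    intro a b h
    have hh : ι a.1 + ι a.2 * ω = ι b.1 + ι b.2 * ω := h
    have h0 : (ι a.1 + ι b.1) + (ι a.2 + ι b.2) * ω = 0 := by
      linear_combination hh +
        (ι b.1 + ι b.2 * ω) * (CharTwo.two_eq_zero (R := L))
    have h2 := congrArg τ h0
    rw [map_add, map_add, map_mul, map_add, hι, hι, hι, hι, map_zero] at h2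
    have h3 : (ι a.2 + ι b.2) * ι K = 0 := by
      linear_combination h0 + h2 - (ι a.2 + ι b.2) * hωt - (ι a.1 + ι b.1) * (CharTwo.two_eq_zero (R := L))
    have h4 : ι a.2 = ι b.2 :=
      CharTwo.add_eq_zero.1 ((mul_eq_zero.1 h3).resolve_right fun h => hK (hιinj (h.trans (map_zero ι).symm)))
    rw [h4, CharTwo.add_self_eq_zero, zero_mul, add_zero, CharTwo.add_eq_zero] at h0
    exact Prod.ext (hιinj h0) (hιinj h4)
  have hψbij : Function.Bijective ψ := by
    rw [Fintype.bijective_iff_injective_and_card]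
    refine ⟨hψinj, ?_⟩
    rw [Fintype.card_prod, hF, hL, ← pow_two]
  have hψN : ∀ p : F × F, N τ (ψ p) = ι (p.1 * p.1 + K * p.1 * p.2 + B * p.2 * p.2) := by
    intro p
    rw [map_add, map_add, map_mul, map_mul, map_mul, map_mul, map_mul]
    show (ι p.1 + ι p.2 * ω) * τ (ι p.1 + ι p.2 * ω) = _
    rw [map_add, map_mul, hι, hι]
    linear_combination (ι p.1 * ι p.2) * hωt + (ι p.2 * ι p.2) * hωn
  let φ := (Equiv.ofBijective ψ hψbij).symm
  have hφ : ∀ x, ψ (φ x) = x := (Equiv.ofBijective ψ hψbij).apply_symm_apply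
  let MU : Model (F × F) F (UT hτ) (fun p => p.1 * p.1 + K * p.1 * p.2 + B * p.2 * p.2) :=
    { proj := fun g => φ (xc g)
      emb := fun c => cen hτ (ι c)
      proj_mul := fun a b => hψinj (by rw [hψadd, hφ, hφ, hφ, xc_mul])
      proj_surj := fun p => ⟨sec hτ (ψ p), hψinj (by rw [hφ, xc_sec])⟩
      emb_add := fun a b => by rw [map_add, cen_add (hι a) (hι b)]
      emb_inj := fun a b h => hιinj (((zc_cen (hσ := hτ) (hι a)).symm.trans (congrArg zc h)).trans (zc_cen (hι b)))
      proj_zero := fun g => by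
        have h0 : ψ 0 = 0 := by show ι 0 + ι 0 * ω = 0; rw [map_zero, zero_mul, add_zero]
        constructor
        · intro h
          have h1 : xc g = 0 := by rw [← hφ (xc g), h, h0]
          obtain ⟨c, hc⟩ := hιsurj _ (zc_fixed h1)
          exact ⟨c, by rw [hc]; exact cen_eq h1⟩
        · rintro ⟨c, rfl⟩
          exact hψinj (by rw [hφ, xc_cen, h0])
      central := fun c g => (Subgroup.mem_center_iff.1 ((mem_center _).2 (xc_cen (ι c))) g).symm
      sq := fun g => by
        show g * g = cen hτ (ι _)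
        rw [← hψN, hφ, sq_cen] }
  obtain ⟨e1⟩ := M.iso MU
  obtain ⟨S⟩ : Nonempty (Sylow 2 (Cfsg.PSU 3 L (2 ^ n))) := inferInstance
  obtain ⟨e2⟩ : Nonempty (UT hτ ≃* ↥(S : Subgroup (Cfsg.PSU 3 L (2 ^ n)))) := sylow_PSU hτ hn rfl S
  exact ⟨S, ⟨e1.trans e2⟩⟩

end Unitary

theorem classify_model {Q : Type*} [Group Q] [Finite Q] {n : ℕ} (hn : 1 ≤ n) [Fact (Nat.Prime 2)]
    (A K B : GaloisField 2 n) (hK : K ≠ 0)
    (M : Model (GaloisField 2 n × GaloisField 2 n) (GaloisField 2 n) Q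
      (fun p => A * p.1 * p.1 + K * p.1 * p.2 + B * p.2 * p.2)) :
    (∃ (F : Type) (_ : Field F) (_ : Fintype F), Fintype.card F = 4 ^ n ∧
        ∃ S : Sylow 2 (Cfsg.PSU 3 F (2 ^ n)), Nonempty (Q ≃* ↥(S : Subgroup (Cfsg.PSU 3 F (2 ^ n))))) ∨
      (∃ (F : Type) (_ : Field F) (_ : Fintype F), Fintype.card F = 2 ^ n ∧
        ∃ S : Sylow 2 (Matrix.ProjectiveSpecialLinearGroup (Fin 3) F),
          Nonempty (Q ≃* ↥(S : Subgroup (Matrix.ProjectiveSpecialLinearGroup (Fin 3) F)))) := by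
  classical
  letI : Fintype (GaloisField 2 n) := Fintype.ofFinite _
  have hF : Fintype.card (GaloisField 2 n) = 2 ^ n := by
    rw [← Nat.card_eq_fintype_card, GaloisField.card 2 n (by omega)]
  have two := CharTwo.two_eq_zero (R := GaloisField 2 n)
  by_cases hA : A = 0
  · right
    refine ⟨_, inferInstance, inferInstance, hF, iso_special _ (by omega) hF
      (reparam M (fun p => (K * p.1 + B * p.2, p.2)) (fun a b => ?_) ?_ (fun p => ?_))⟩
    · simp [mul_add]; ring
    · refine Finite.injective_iff_bijective.1 fun a b h => ?_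
      obtain ⟨h1, h2⟩ : K * a.1 + B * a.2 = K * b.1 + B * b.2 ∧ a.2 = b.2 := Prod.ext_iff.1 h
      rw [h2, add_left_inj] at h1
      exact Prod.ext (mul_left_cancel₀ hK h1) h2
    · show (K * p.1 + B * p.2) * p.2 = _
      rw [hA]; ring
  · let M1 := scale M A hA (S' := fun p => p.1 * p.1 + (K / A) * p.1 * p.2 + (B / A) * p.2 * p.2)
      (fun p => by field_simp)
    have hK1 : K / A ≠ 0 := div_ne_zero hK hA
    by_cases hroot : ∃ r, r * r + (K / A) * r + B / A = 0
    · right
      obtain ⟨r, hr⟩ := hroot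
      set k := K / A
      set b := B / A
      have hb : b = r * r + k * r := by linear_combination hr - (r * r + k * r) * two
      refine ⟨_, inferInstance, inferInstance, hF, iso_special _ (by omega) hF
        (reparam M1 (fun p => (p.1 + r * p.2, p.1 + r * p.2 + k * p.2)) (fun a b => ?_) ?_ (fun p => ?_))⟩
      · simp [mul_add]; constructor <;> ring
      · refine Finite.injective_iff_bijective.1 fun a c h => ?_
        obtain ⟨h1, h2⟩ : a.1 + r * a.2 = c.1 + r * c.2 ∧ a.1 + r * a.2 + k * a.2 = c.1 + r * c.2 + k * c.2 :=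
          Prod.ext_iff.1 h
        rw [h1, add_right_inj] at h2
        have h3 := mul_left_cancel₀ hK1 h2
        rw [h3, add_left_inj] at h1
        exact Prod.ext h1 h3
      · show (p.1 + r * p.2) * (p.1 + r * p.2 + k * p.2) = p.1 * p.1 + k * p.1 * p.2 + b * p.2 * p.2
        rw [hb]
        linear_combination (r * p.1 * p.2) * two
    · left
      push Not at hroot
      exact iso_unitary _ (by omega) hF _ _ hroot hK1 M1

theorem classify {Q : Type*} [Group Q] [Finite Q] {n : ℕ} (d : Data Q n) (hp : IsPGroup 2 Q) (hn : 2 ≤ n)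
    (hna : ∃ x y : Q, x * y ≠ y * x) :
    (∃ (F : Type) (_ : Field F) (_ : Fintype F), Fintype.card F = 4 ^ n ∧
        ∃ S : Sylow 2 (Cfsg.PSU 3 F (2 ^ n)), Nonempty (Q ≃* ↥(S : Subgroup (Cfsg.PSU 3 F (2 ^ n))))) ∨
      (∃ (F : Type) (_ : Field F) (_ : Fintype F), Fintype.card F = 2 ^ n ∧
        ∃ S : Sylow 2 (Matrix.ProjectiveSpecialLinearGroup (Fin 3) F),
          Nonempty (Q ≃* ↥(S : Subgroup (Matrix.ProjectiveSpecialLinearGroup (Fin 3) F)))) := by
  haveI : Fact (Nat.Prime 2) := ⟨Nat.prime_two⟩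
  obtain ⟨A, K, B, hK, ⟨M⟩⟩ := d.plane hp hn hna
  exact classify_model (by omega) A K B hK M

end Cfsg.Agent.Lie.FixedLayer
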