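import Mathlib

/-!
Two-groups with a fixed-point-free automorphism of order three.
-/

set_option autoImplicit false

namespace Cfsg.Agent.Lie.FreeThree

variable {H : Type*} [Group H] [Finite H] (ρ : MulAut H)

/-- The displacement is bijective. -/
theorem disp_bijective (hfp : ∀ y, ρ y = y → y = 1) : Function.Bijective fun y => y⁻¹ * ρ y := by
  refine Finite.injective_iff_bijective.1 fun a b h => ?_
  have h1 : ρ (b * a⁻¹) = b * a⁻¹ := by
    rw [map_mul, map_inv]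
    have : a⁻¹ * ρ a = b⁻¹ * ρ b := h
    calc ρ b * (ρ a)⁻¹ = b * (b⁻¹ * ρ b) * (ρ a)⁻¹ := by group
      _ = b * (a⁻¹ * ρ a) * (ρ a)⁻¹ := by rw [this]
      _ = b * a⁻¹ := by group
  exact (mul_inv_eq_one.1 (hfp _ h1)).symm

theorem triple (hfp : ∀ y, ρ y = y → y = 1) (h3 : ∀ y, ρ (ρ (ρ y)) = y) (y : H) : y * ρ y * ρ (ρ y) = 1 := by
  obtain ⟨t, rfl⟩ := (disp_bijective ρ hfp).2 y
  simp only [map_mul, map_inv, h3]
  group

theorem comm_rho (hfp : ∀ y, ρ y = y → y = 1) (h3 : ∀ y, ρ (ρ (ρ y)) = y) (y : H) : y * ρ y = ρ y * y := by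
  have e1 := triple ρ hfp h3 y
  -- the same identity for the inverse automorphism
  have hfp' : ∀ z, (ρ * ρ) z = z → z = 1 := fun z hz => hfp z (by
    have h := congrArg ρ hz
    rw [MulAut.mul_apply, h3] at h
    exact h.symm)
  have e2 := triple (ρ * ρ) hfp' (fun z => by simp only [MulAut.mul_apply, h3]) y
  simp only [MulAut.mul_apply, h3] at e2
  have e3 := triple ρ hfp h3 (ρ y)
  rw [h3] at e3
  -- `y ρ²y ρy = 1` gives `ρy y ρ²y = 1`
  have e4 : ρ y * y * ρ (ρ y) = 1 := by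
    have : y * ρ (ρ y) = (ρ y)⁻¹ := eq_inv_of_mul_eq_one_left e2
    rw [mul_assoc, this, mul_inv_cancel]
  exact mul_right_cancel (e1.trans e4.symm)

omit [Finite H] in
theorem orbit_ne (hfp : ∀ y, ρ y = y → y = 1) (h3 : ∀ y, ρ (ρ (ρ y)) = y) {y : H} (hy : y ≠ 1) :
    ρ y ≠ y ∧ ρ (ρ y) ≠ y ∧ ρ (ρ y) ≠ ρ y := by
  refine ⟨fun h => hy (hfp y h), fun h => hy (hfp y ?_), fun h => hy (hfp y (ρ.injective h))⟩
  have := congrArg ρ h
  rw [h3] at this
  exact this.symm

/-- Orders are one modulo three. -/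
theorem card_mod (hfp : ∀ y, ρ y = y → y = 1) (h3 : ∀ y, ρ (ρ (ρ y)) = y) : Nat.card H % 3 = 1 := by
  classical
  haveI := Fintype.ofFinite H
  haveI : Fact (Nat.Prime 3) := ⟨Nat.prime_three⟩
  let σ : Equiv.Perm H := ρ.toEquiv
  have hσ : σ ^ 3 ^ 1 = 1 := Equiv.ext fun y => by
    simp [σ, pow_succ, Equiv.Perm.mul_apply, h3]
  have h := Equiv.Perm.card_compl_support_modEq hσ
  have h1 : σ.supportᶜ = {1} := by
    ext y
    simp only [Finset.mem_compl, Equiv.Perm.mem_support, not_not, Finset.mem_singleton]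
    exact ⟨fun h => hfp y h, fun h => by subst h; exact map_one ρ⟩
  rw [h1, Finset.card_singleton, ← Nat.card_eq_fintype_card] at h
  exact h.symm

/-- Invariant subgroups. -/
theorem card_mod_sub (hfp : ∀ y, ρ y = y → y = 1) (h3 : ∀ y, ρ (ρ (ρ y)) = y) (B : Subgroup H)
    (hB : ∀ b ∈ B, ρ b ∈ B) : Nat.card ↥B % 3 = 1 := by
  let f : ↥B →* ↥B := MonoidHom.mk' (fun b => ⟨ρ b, hB b b.2⟩) fun a b => Subtype.ext (map_mul ρ _ _)
  have hf : Function.Bijective f := Finite.injective_iff_bijective.1 fun a b h =>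
    Subtype.ext (ρ.injective (congrArg Subtype.val h))
  exact card_mod (MulEquiv.ofBijective f hf) (fun y h => Subtype.ext (hfp y (congrArg Subtype.val h)))
    (fun y => Subtype.ext (h3 y))

/-- The automorphism of a quotient. -/
theorem quot_auto (B : Subgroup H) [B.Normal] (hB : ∀ b ∈ B, ρ b ∈ B) :
    ∃ ρ' : MulAut (H ⧸ B), ∀ y : H, ρ' (y : H ⧸ B) = ((ρ y : H) : H ⧸ B) := by
  have hmap : B.map (ρ : H →* H) = B := Subgroup.eq_of_le_of_card_ge (by rintro _ ⟨x, hx, rfl⟩; exact hB x hx)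
    (le_of_eq (Nat.card_congr (B.equivMapOfInjective _ ρ.injective).toEquiv))
  exact ⟨QuotientGroup.congr B B ρ hmap, fun y => rfl⟩

theorem quot_fpf (hfp : ∀ y, ρ y = y → y = 1) (B : Subgroup H) [B.Normal] (ρ' : MulAut (H ⧸ B))
    (hρ' : ∀ y : H, ρ' (y : H ⧸ B) = ((ρ y : H) : H ⧸ B)) : ∀ z, ρ' z = z → z = 1 := by
  classical
  have hs : Function.Surjective fun z : H ⧸ B => z⁻¹ * ρ' z := fun z => by
    obtain ⟨y, rfl⟩ := QuotientGroup.mk_surjective z
    obtain ⟨t, ht⟩ := (disp_bijective ρ hfp).2 y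
    exact ⟨(t : H ⧸ B), by show _ * ρ' _ = _; rw [hρ', ← ht]; rfl⟩
  have hi := Finite.injective_iff_surjective.2 hs
  intro z hz
  exact hi (a₁ := z) (a₂ := 1) (by show z⁻¹ * ρ' z = 1⁻¹ * ρ' 1; rw [hz, map_one, inv_one, one_mul, inv_mul_cancel])

/-- A central quotient of order four forces commutativity. -/
theorem comm_of_quot_four (hfp : ∀ y, ρ y = y → y = 1) (h3 : ∀ y, ρ (ρ (ρ y)) = y) (B : Subgroup H) [B.Normal]
    (hB : ∀ b ∈ B, ρ b ∈ B) (hBc : B ≤ Subgroup.center H) (h4 : Nat.card (H ⧸ B) = 4) :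
    ∀ x y : H, x * y = y * x := by
  classical
  obtain ⟨ρ', hρ'⟩ := quot_auto ρ B hB
  have hfp' := quot_fpf ρ hfp B ρ' hρ'
  have h3' : ∀ z, ρ' (ρ' (ρ' z)) = z := fun z => by
    obtain ⟨y, rfl⟩ := QuotientGroup.mk_surjective z
    rw [hρ', hρ', hρ', h3]
  have hc : ∀ b ∈ B, ∀ g : H, b * g = g * b := fun b hb g => (Subgroup.mem_center_iff.1 (hBc hb) g).symm
  haveI : Nontrivial (H ⧸ B) := Finite.one_lt_card_iff_nontrivial.1 (by rw [h4]; norm_num)
  obtain ⟨z, hz⟩ := exists_ne (1 : H ⧸ B)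
  obtain ⟨a, rfl⟩ := QuotientGroup.mk_surjective z
  have e1 := orbit_ne ρ' hfp' h3' hz
  let f : Fin 4 → H ⧸ B := ![1, (a : H ⧸ B), ρ' a, ρ' (ρ' a)]
  have hne1 : ρ' (a : H ⧸ B) ≠ 1 := fun h => hz (ρ'.injective (h.trans (map_one ρ').symm))
  have hne2 : ρ' (ρ' (a : H ⧸ B)) ≠ 1 := fun h => hne1 (ρ'.injective (h.trans (map_one ρ').symm))
  have hf : Function.Injective f := by
    intro i j h
    fin_cases i <;> fin_cases j <;> dsimp [f] at h ⊢ <;>
      first
        | rfl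
        | exact absurd h hz
        | exact absurd h.symm hz
        | exact absurd h hne1
        | exact absurd h.symm hne1
        | exact absurd h hne2
        | exact absurd h.symm hne2
        | exact absurd h e1.1
        | exact absurd h.symm e1.1
        | exact absurd h e1.2.1
        | exact absurd h.symm e1.2.1
        | exact absurd h e1.2.2
        | exact absurd h.symm e1.2.2
        | exact hz h | exact hz h.symm | exact hne1 h | exact hne1 h.symm | exact hne2 h | exact hne2 h.symm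
        | exact e1.1 h | exact e1.1 h.symm | exact e1.2.1 h | exact e1.2.1 h.symm | exact e1.2.2 h | exact e1.2.2 h.symm
  haveI := Fintype.ofFinite (H ⧸ B)
  have hfb : Function.Bijective f := (Fintype.bijective_iff_injective_and_card f).2
    ⟨hf, by rw [Fintype.card_fin, ← Nat.card_eq_fintype_card, h4]⟩
  have c1 := comm_rho ρ hfp h3 a
  have c2 : a * ρ (ρ a) = ρ (ρ a) * a := by
    have := comm_rho ρ hfp h3 (ρ (ρ a))
    rw [h3] at this
    exact this.symm
  have c3 : ρ a * ρ (ρ a) = ρ (ρ a) * ρ a := comm_rho ρ hfp h3 (ρ a)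
  have hform : ∀ g : H, ∃ b ∈ B, g = b ∨ g = a * b ∨ g = ρ a * b ∨ g = ρ (ρ a) * b := by
    intro g
    obtain ⟨i, hi⟩ := hfb.2 (g : H ⧸ B)
    have : ∀ w : H, ((w : H) : H ⧸ B) = (g : H ⧸ B) → ∃ b ∈ B, g = w * b := fun w hw =>
      ⟨w⁻¹ * g, QuotientGroup.eq.1 hw, by group⟩
    fin_cases i <;> simp only [f, Fin.isValue] at hi
    · obtain ⟨b, hb, e⟩ := this 1 hi; exact ⟨b, hb, Or.inl (by rw [e, one_mul])⟩
    · obtain ⟨b, hb, e⟩ := this a hi; exact ⟨b, hb, Or.inr (Or.inl e)⟩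
    · obtain ⟨b, hb, e⟩ := this (ρ a) ((hρ' a).symm.trans hi); exact ⟨b, hb, Or.inr (Or.inr (Or.inl e))⟩
    · obtain ⟨b, hb, e⟩ := this (ρ (ρ a)) (((hρ' (ρ a)).symm.trans (congrArg ρ' (hρ' a).symm)).trans hi)
      exact ⟨b, hb, Or.inr (Or.inr (Or.inr e))⟩
  intro x y
  have hgen : ∀ g : H, Commute a g ∧ Commute (ρ a) g ∧ Commute (ρ (ρ a)) g := by
    intro g
    obtain ⟨b, hb, h | h | h | h⟩ := hform g <;> subst h
    · exact ⟨(hc g hb a).symm, (hc g hb _).symm, (hc g hb _).symm⟩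
    · exact ⟨(Commute.refl a).mul_right (hc b hb _).symm, Commute.mul_right c1.symm (hc b hb _).symm,
        Commute.mul_right c2.symm (hc b hb _).symm⟩
    · exact ⟨Commute.mul_right c1 (hc b hb _).symm, (Commute.refl _).mul_right (hc b hb _).symm,
        Commute.mul_right c3.symm (hc b hb _).symm⟩
    · exact ⟨Commute.mul_right c2 (hc b hb _).symm, Commute.mul_right c3 (hc b hb _).symm,
        (Commute.refl _).mul_right (hc b hb _).symm⟩
  obtain ⟨b, hb, rfl | rfl | rfl | rfl⟩ := hform x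
  · exact hc _ hb y
  · exact ((hgen y).1.mul_left (hc b hb y)).eq
  · exact ((hgen y).2.1.mul_left (hc b hb y)).eq
  · exact ((hgen y).2.2.mul_left (hc b hb y)).eq

end Cfsg.Agent.Lie.FreeThree
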