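import Mathlib
import Cfsg.Agent.Lib.Lie.UnitarySylowAut

/-!
Order and two-core of the automorphism group of a Sylow two-subgroup of `SU₃(2ⁿ)`.
-/

set_option autoImplicit false

namespace Cfsg.Agent.Lie.UnitarySylow

open Cfsg.Agent.Classical
attribute [local instance] _root_.Classical.propDecidable

universe u

variable {F : Type u} [Field F] [Fintype F] [CharP F 2] {q n : ℕ} {σ : F ≃+* F} {hσ : IsUSigma q σ}

theorem card_range (hn : 1 ≤ n) (hq : q = 2 ^ n) :
    Nat.card (lam hσ).range = (q ^ 2 - 1) * (2 * n) := by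
  have hl : ∀ p : Fˣ × Fin (2 * n), ∃ e : (lam hσ).range, ∀ x, (e : Equiv.Perm F) x = (p.1 : F) * x ^ 2 ^ (p.2 : ℕ) := fun p => by
    obtain ⟨φ, hφ⟩ := exists_lift hσ (p.1 : F) p.1.ne_zero p.2
    exact ⟨⟨_, ⟨φ, rfl⟩⟩, hφ⟩
  choose e he using hl
  have hb : Function.Bijective e := by
    refine ⟨fun a b hab => ?_, fun ⟨_, φ, rfl⟩ => ?_⟩
    · have h := fun x => (he a x).symm.trans ((congrArg (fun w : (lam hσ).range => (w : Equiv.Perm F) x) hab).trans (he b x))
      have h1 : a.1 = b.1 := Units.ext (by simpa using h 1)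
      refine Prod.ext h1 (Fin.ext (pow_injective hσ hn hq a.2.2 b.2.2 fun x => ?_))
      have h2 := h x
      rw [h1] at h2
      exact mul_left_cancel₀ b.1.ne_zero h2
    · obtain ⟨c, hc, i, hi, hφ⟩ := lam_form hn hq φ
      exact ⟨(Units.mk0 c hc, ⟨i, hi⟩), Subtype.ext (Equiv.ext fun x => (he _ x).trans (hφ x).symm)⟩
  rw [← Nat.card_congr (Equiv.ofBijective e hb), Nat.card_prod, Nat.card_units, Nat.card_fin,
    Nat.card_eq_fintype_card, hσ.card]

theorem card_addHom (hσ : IsUSigma q σ) (hq : q = 2 ^ n) :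
    Nat.card {f : F →+ F // ∀ x, σ (f x) = f x} = 2 ^ (2 * n ^ 2) := by
  let k : Subfield F := (σ.toRingHom).eqLocusField (RingHom.id F)
  letI := ZMod.algebra (↥k) 2
  letI := ZMod.algebra F 2
  have hk : Nat.card ↥k = q := (card_fix hσ).1
  let e : {f : F →+ F // ∀ x, σ (f x) = f x} ≃ (F →+ ↥k) :=
    { toFun := fun f => AddMonoidHom.mk' (fun x => (⟨f.1 x, f.2 x⟩ : ↥k)) fun x y => Subtype.ext (map_add f.1 x y)
      invFun := fun f => ⟨AddMonoidHom.mk' (fun x => ((f x : ↥k) : F)) fun x y => by rw [map_add]; rfl, fun x => (f x).2⟩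
      left_inv := fun f => rfl
      right_inv := fun f => rfl }
  let e' : (F →+ ↥k) ≃ (F →ₗ[ZMod 2] ↥k) :=
    { toFun := fun f => f.toZModLinearMap 2
      invFun := fun f => f.toAddMonoidHom
      left_inv := fun f => rfl
      right_inv := fun f => rfl }
  let b := Module.finBasis (ZMod 2) F
  have hd : 2 ^ Module.finrank (ZMod 2) F = 2 ^ (2 * n) := by
    have := Module.card_eq_pow_finrank (K := ZMod 2) (V := F)
    rw [ZMod.card] at this
    rw [← this, hσ.card, hq, ← pow_mul, mul_comm]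
  rw [Nat.card_congr (e.trans (e'.trans (b.constr ℕ).toEquiv.symm)), Nat.card_fun, hk,
    Nat.card_fin, Nat.pow_right_injective le_rfl hd, hq, ← pow_mul]
  congr 1
  ring

theorem card_ker (hq : q = 2 ^ n) : Nat.card (lam hσ).ker = 2 ^ (2 * n ^ 2) := by
  rw [← card_addHom hσ hq]
  let e : {f : F →+ F // ∀ x, σ (f x) = f x} → (lam hσ).ker := fun f => ⟨shift hσ f.1 f.2, shift_mem _ _⟩
  refine (Nat.card_congr (Equiv.ofBijective e ⟨fun a b h => ?_, fun φ => ?_⟩)).symm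
  · refine Subtype.ext (AddMonoidHom.ext fun x => ?_)
    have h1 := congrArg (fun w : (lam hσ).ker => zc ((w : MulAut (UT hσ)) (sec hσ x))) h
    have h2 : zc (sec hσ x) + a.1 (xc (sec hσ x)) = zc (sec hσ x) + b.1 (xc (sec hσ x)) := h1
    rw [xc_sec] at h2
    exact add_left_cancel h2
  · obtain ⟨f, hf, e'⟩ := ker_eq_shift φ.2
    exact ⟨⟨f, hf⟩, Subtype.ext e'.symm⟩

theorem ker_sq (φ : MulAut (UT hσ)) (h : φ ∈ (lam hσ).ker) : φ ^ 2 = 1 := by
  obtain ⟨f, hf, rfl⟩ := ker_eq_shift h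
  rw [pow_two]
  exact MulEquiv.ext fun g => (shift hσ f hf).left_inv g

theorem ker_comm (φ ψ : MulAut (UT hσ)) (h : φ ∈ (lam hσ).ker) (h' : ψ ∈ (lam hσ).ker) : φ * ψ = ψ * φ := by
  obtain ⟨f, hf, rfl⟩ := ker_eq_shift h
  obtain ⟨f', hf', rfl⟩ := ker_eq_shift h'
  exact MulEquiv.ext fun g => ext' rfl (by
    show zc g + f' (xc g) + f (xc g) = zc g + f (xc g) + f' (xc g)
    ring)

theorem ker_elementary : Cfsg.IsElementaryAbelian 2 (lam hσ).ker :=
  ⟨⟨⟨fun a b => Subtype.ext (ker_comm _ _ a.2 b.2)⟩⟩, fun a ha => ker_sq a ha⟩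

theorem eq_one_of_pow_two {c : F} {k : ℕ} (h : c ^ 2 ^ k = 1) : c = 1 := by
  induction k generalizing c with
  | zero => simpa using h
  | succ k ih =>
    rw [pow_succ, pow_mul] at h
    exact ih (CharTwo.sq_injective (R := F) (h.trans (one_pow 2).symm))

theorem pCore_eq (hn : 1 ≤ n) (hq : q = 2 ^ n) : Cfsg.pCore 2 (MulAut (UT hσ)) = (lam hσ).ker := by
  haveI : Finite (MulAut (UT hσ)) := Finite.of_injective (fun e => e.toEquiv) MulEquiv.toEquiv_injective
  have hpk : IsPGroup 2 (lam hσ).ker := fun g => ⟨1, Subtype.ext (by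
    rw [pow_one]; exact ker_sq _ g.2)⟩
  refine le_antisymm (fun φ hφ => ?_) (Cfsg.Agent.Fusion.le_pCore hpk)
  have hM := Cfsg.Agent.Fusion.isPGroup_pCore 2 (MulAut (UT hσ))
  haveI hMn : (Cfsg.pCore 2 (MulAut (UT hσ))).Normal := inferInstance
  have two : ∀ ψ ∈ Cfsg.pCore 2 (MulAut (UT hσ)), ∀ c : F, (∀ x, lam hσ ψ x = c * x) → c = 1 := by
    intro ψ hψ c hc
    obtain ⟨k, hk⟩ := hM ⟨ψ, hψ⟩
    have hk' : ψ ^ 2 ^ k = 1 := congrArg Subtype.val hk
    have hp : ∀ m : ℕ, ∀ x, lam hσ (ψ ^ m) x = c ^ m * x := by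
      intro m
      induction m with
      | zero => intro x; rw [pow_zero, map_one, pow_zero, one_mul]; rfl
      | succ m ih => intro x; rw [pow_succ, map_mul, Equiv.Perm.mul_apply, hc, ih]; ring
    have h1 := hp (2 ^ k) 1
    rw [hk', map_one (lam hσ), Equiv.Perm.one_apply, mul_one] at h1
    exact eq_one_of_pow_two h1.symm
  obtain ⟨c, hc, i, hi, hg⟩ := lam_form hn hq φ
  have hi0 : i = 0 := by
    refine pow_injective hσ hn hq hi (by omega) fun d => ?_
    by_cases hd : d = 0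
    · rw [hd, zero_pow (by positivity), zero_pow (by norm_num)]
    obtain ⟨μ, hμ⟩ := exists_lift hσ d hd 0
    have hcm : φ * μ * φ⁻¹ * μ⁻¹ ∈ Cfsg.pCore 2 (MulAut (UT hσ)) := by
      have h1 := hMn.conj_mem _ (Subgroup.inv_mem _ hφ) μ
      have h2 := Subgroup.mul_mem _ hφ h1
      simpa [mul_assoc] using h2
    have hval : ∀ x, lam hσ (φ * μ * φ⁻¹ * μ⁻¹) x = d ^ 2 ^ i / d * x := by
      intro x
      obtain ⟨y, rfl⟩ := (lam hσ (μ * φ)).surjective x
      rw [← Equiv.Perm.mul_apply, ← map_mul, show φ * μ * φ⁻¹ * μ⁻¹ * (μ * φ) = φ * μ by group, map_mul, map_mul,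
        Equiv.Perm.mul_apply, Equiv.Perm.mul_apply, hg, hμ, hμ, hg, pow_zero, pow_one, pow_one, mul_pow]
      field_simp
    have h1 := two _ hcm _ hval
    rw [div_eq_one_iff_eq hd] at h1
    rw [h1, pow_zero, pow_one]
  have hc1 : c = 1 := two φ hφ c fun x => by rw [hg, hi0, pow_zero, pow_one]
  exact MonoidHom.mem_ker.2 (Equiv.ext fun x => by rw [hg, hi0, hc1, pow_zero, pow_one, one_mul]; rfl)

theorem aut_structure (hn : 1 ≤ n) (hq : q = 2 ^ n) :
    Cfsg.IsElementaryAbelian 2 (Cfsg.pCore 2 (MulAut (UT hσ))) ∧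
      Nat.card ↥(Cfsg.pCore 2 (MulAut (UT hσ))) = 2 ^ (2 * n ^ 2) ∧
      Nat.card (MulAut (UT hσ)) = 2 ^ (2 * n ^ 2) * (2 * n * (q ^ 2 - 1)) := by
  rw [pCore_eq hn hq]
  refine ⟨ker_elementary, card_ker hq, ?_⟩
  rw [← (lam hσ).ker.card_mul_index, Subgroup.index_ker, card_ker hq, card_range hn hq, mul_comm (2 * n)]

end Cfsg.Agent.Lie.UnitarySylow

namespace Cfsg.Agent.Lie.UnitarySylow

open Cfsg.Agent.Classical

theorem no_inverted_three {F : Type*} [Field F] [Fintype F] [CharP F 2] {σ : F ≃+* F} (hσ : IsUSigma 4 σ)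
    (r s : MulAut (UT hσ)) (hr3 : r ^ 3 = 1) (hr1 : r ^ 2 ≠ 1) (hs2 : s ^ 2 = 1) (hrel : s * r = r ^ 2 * s) : False := by
  classical
  have hn : 1 ≤ 2 := by norm_num
  have hq : 4 = 2 ^ 2 := by norm_num
  obtain ⟨c, hc, i, hi, hg⟩ := lam_form hn hq r
  obtain ⟨d, hd, k, hk, hh⟩ := lam_form hn hq s
  have h16 : ∀ (x : F) (m : ℕ), x ^ 2 ^ (m % 4) = x ^ 2 ^ m := fun x m => pow_mod hσ hq x m
  have e3 : ∀ x, lam hσ r (lam hσ r (lam hσ r x)) = x := fun x => by
    rw [← Equiv.Perm.mul_apply, ← Equiv.Perm.mul_apply, ← map_mul, ← map_mul,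
      show r * r * r = 1 by rw [← hr3]; rfl, map_one]
    rfl
  have e2 : ∀ x, lam hσ s (lam hσ s x) = x := fun x => by
    rw [← Equiv.Perm.mul_apply, ← map_mul, ← pow_two, hs2, map_one]
    rfl
  have hi0 : i = 0 := by
    have h : ∀ x : F, x ^ 2 ^ (3 * i) = x := by
      intro x
      have h1 := e3 x
      have h2 := e3 1
      simp only [hg, mul_pow, ← pow_mul, one_pow, mul_one] at h1 h2
      rw [show 2 ^ (3 * i) = 2 ^ i * 2 ^ i * 2 ^ i by rw [← pow_add, ← pow_add]; ring_nf]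
      have h3 : c * (c ^ 2 ^ i * c ^ (2 ^ i * 2 ^ i)) ≠ 0 :=
        mul_ne_zero hc (mul_ne_zero (pow_ne_zero _ hc) (pow_ne_zero _ hc))
      refine mul_left_cancel₀ h3 ?_
      linear_combination h1 - x * h2
    have h4 : (3 * i) % 4 = 0 :=
      pow_injective hσ hn hq (Nat.mod_lt _ (by norm_num)) (by norm_num) fun x => by
        rw [h16, h, pow_zero, pow_one]
    omega
  have hc3 : c ^ 4 = c := by
    have h1 := e3 1
    simp only [hg, hi0, pow_zero, pow_one, mul_one] at h1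
    linear_combination c * h1
  have hk4 : (2 * k) % 4 = 0 :=
    pow_injective hσ hn hq (Nat.mod_lt _ (by norm_num)) (by norm_num) fun x => by
      have h1 := e2 x
      have h2 := e2 1
      simp only [hh, mul_pow, ← pow_mul, one_pow, mul_one] at h1 h2
      rw [h16, pow_zero, pow_one, show 2 ^ (2 * k) = 2 ^ k * 2 ^ k by rw [← pow_add]; ring_nf]
      refine mul_left_cancel₀ (mul_ne_zero hd (pow_ne_zero (2 ^ k) hd)) ?_
      linear_combination h1 - x * h2
  have hck : c ^ 2 ^ k = c := by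
    rcases (show k = 0 ∨ k = 2 by omega) with rfl | rfl
    · rw [pow_zero, pow_one]
    · exact hc3
  have hcomm : lam hσ s * lam hσ r = lam hσ r * lam hσ s := Equiv.ext fun x => by
    rw [Equiv.Perm.mul_apply, Equiv.Perm.mul_apply, hh, hg, hg, hh, hi0, pow_zero, pow_one, pow_one, mul_pow, hck]
    ring
  have hker : r ∈ (lam hσ).ker := by
    rw [← map_mul, ← map_mul, hrel, map_mul, map_mul, mul_left_inj, map_pow, pow_two, mul_eq_left] at hcomm
    exact MonoidHom.mem_ker.2 hcomm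
  exact hr1 (ker_sq _ hker)

theorem no_symmetric_three {F : Type*} [Field F] [Fintype F] [CharP F 2] {σ : F ≃+* F} (hσ : IsUSigma 4 σ)
    (j : Equiv.Perm (Fin 3) →* MulAut (UT hσ)) (hj : Function.Injective j) : False := by
  obtain ⟨r, s, hr3, hr1, hs2, hrel⟩ : ∃ r s : Equiv.Perm (Fin 3), r ^ 3 = 1 ∧ r ^ 2 ≠ 1 ∧ s ^ 2 = 1 ∧ s * r = r ^ 2 * s := by
    decide
  refine no_inverted_three hσ (j r) (j s) (by rw [← map_pow, hr3, map_one]) (fun h => hr1 (hj ?_))
    (by rw [← map_pow, hs2, map_one]) (by rw [← map_mul, hrel, map_mul, map_pow])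
  rw [map_pow, map_one, h]

end Cfsg.Agent.Lie.UnitarySylow
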