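import Mathlib
import Cfsg.Agent.Lib.Lie.FreeThreeBasic
import Cfsg.Agent.Lib.Lie.OrderEightTypes
import Cfsg.Agent.Lib.Lie.FixedLayersModels
import Cfsg.Agent.Lib.Lie.UnitarySylowAutOrder

/-!
Groups of order sixty-four with a symmetric group of degree three acting without fixed points.
-/

set_option autoImplicit false

namespace Cfsg.Agent.Lie.FreeThree

/-- Fixed points of an inverting involution. -/
theorem fix_card {A : Type*} [Group A] [Finite A] (h2 : ∀ a : A, a * a = 1) (ρ x : MulAut A)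
    (hfp : ∀ y, ρ y = y → y = 1) (h3 : ∀ y, ρ (ρ (ρ y)) = y) (hx : ∀ y, x (x y) = y)
    (hxr : ∀ y, x (ρ y) = ρ (ρ (x y))) (k : ℕ) (hk : Nat.card A = k * k) :
    Nat.card {a : A // x a = a} = k := by
  classical
  have hcomm : ∀ a b : A, a * b = b * a := fun a b => by
    have h := h2 (a * b)
    calc a * b = a * (a * b * (a * b)) * b := by rw [h]; group
      _ = a * a * (b * a) * (b * b) := by group
      _ = b * a := by rw [h2, h2, one_mul, mul_one]
  let t : A →* A := MonoidHom.mk' (fun a => a * x a) fun a b => by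
    rw [map_mul, mul_assoc, ← mul_assoc b, hcomm b (x a), mul_assoc (x a), ← mul_assoc a]
  let Fx : Subgroup A := MonoidHom.eqLocus (x : A →* A) (MonoidHom.id A)
  have hker : t.ker = Fx := by
    ext a
    rw [MonoidHom.mem_ker]
    show a * x a = 1 ↔ x a = a
    rw [← inv_eq_iff_mul_eq_one, inv_eq_of_mul_eq_one_right (h2 a)]
    exact eq_comm
  have hle : t.range ≤ Fx := by
    rintro _ ⟨a, rfl⟩
    show x (a * x a) = a * x a
    rw [map_mul, hx, hcomm]
  have h1 : Nat.card A = Nat.card t.range * Nat.card Fx := by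
    rw [Subgroup.card_eq_card_quotient_mul_card_subgroup t.ker, Nat.card_congr (QuotientGroup.quotientKerEquivRange t).toEquiv,
      hker]
  have h4 : Nat.card t.range ≤ Nat.card Fx := Subgroup.card_le_of_le hle
  have hsm : Nat.card (↥Fx × ↥Fx) ≤ Nat.card A :=
    Nat.card_le_card_of_injective (fun p => (p.1 : A) * ρ (p.2 : A)) (by
      intro p p' h
      have h' : (p.1 : A) * ρ (p.2 : A) = (p'.1 : A) * ρ (p'.2 : A) := h
      have hu : ((p.1 : A) * p'.1) = ρ ((p.2 : A) * p'.2) := by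
        rw [map_mul]
        calc (p.1 : A) * p'.1 = (p.1 : A) * ρ p.2 * (ρ p.2 * p'.1) := by
              rw [← mul_assoc, mul_assoc (p.1 : A) (ρ p.2), h2, mul_one]
          _ = (p'.1 : A) * ρ p'.2 * (ρ p.2 * p'.1) := by rw [h']
          _ = (p'.1 : A) * ρ p'.2 * ρ p.2 * p'.1 := (mul_assoc _ _ _).symm
          _ = ρ p.2 * ((p'.1 : A) * ρ p'.2) * p'.1 := by rw [hcomm ((p'.1 : A) * ρ p'.2) (ρ p.2)]
          _ = ρ p.2 * (ρ p'.2 * (p'.1 : A)) * p'.1 := by rw [hcomm (p'.1 : A) (ρ p'.2)]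
          _ = ρ p.2 * ρ p'.2 * ((p'.1 : A) * p'.1) := by simp only [mul_assoc]
          _ = _ := by rw [h2, mul_one]
      have hw : x ((p.2 : A) * p'.2) = (p.2 : A) * p'.2 := (Fx.mul_mem p.2.2 p'.2.2)
      have hu' : x ((p.1 : A) * p'.1) = (p.1 : A) * p'.1 := (Fx.mul_mem p.1.2 p'.1.2)
      rw [hu, hxr, hw] at hu'
      have hw1 : (p.2 : A) * p'.2 = 1 := hfp _ (ρ.injective hu')
      rw [hw1, map_one] at hu
      exact Prod.ext (Subtype.ext ((mul_eq_one_iff_eq_inv.1 hu).trans (inv_eq_of_mul_eq_one_right (h2 _))))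
        (Subtype.ext ((mul_eq_one_iff_eq_inv.1 hw1).trans (inv_eq_of_mul_eq_one_right (h2 _)))))
  rw [Nat.card_prod] at hsm
  have h5 : k * k ≤ Nat.card ↥Fx * Nat.card ↥Fx := by rw [← hk, h1]; exact Nat.mul_le_mul_right _ h4
  rw [hk] at hsm
  show Nat.card ↥Fx = k
  nlinarith

variable {T : Type*} [Group T] [Finite T]

/-- The conclusion. -/
theorem sixty_four (hT : Nat.card T = 64) (hna : ∃ a b : T, a * b ≠ b * a) (ρ x : MulAut T) (h3 : ∀ y, ρ (ρ (ρ y)) = y)
    (hx2 : ∀ y, x (x y) = y) (hxr : ∀ y, x (ρ y) = ρ (ρ (x y))) (hfp : ∀ y, ρ y = y → y = 1) :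
    (∃ (F : Type) (_ : Field F) (_ : Fintype F), Fintype.card F = 4 ∧
        ∃ S : Sylow 2 (Matrix.ProjectiveSpecialLinearGroup (Fin 3) F),
          Nonempty (T ≃* ↥(S : Subgroup (Matrix.ProjectiveSpecialLinearGroup (Fin 3) F)))) ∧
      ∀ C : Subgroup T, (∀ y, y ∈ C ↔ x y = y) →
        (Nonempty (↥C ≃* DihedralGroup 4) ∨ Nonempty (↥C ≃* QuaternionGroup 2)) := by
  classical
  haveI : Fact (Nat.Prime 2) := ⟨Nat.prime_two⟩
  have hp : IsPGroup 2 T := IsPGroup.of_card (n := 6) (by rw [hT]; rfl)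
  set Z := Subgroup.center T with hZdef
  have hcm : ∀ (φ : MulAut T), ∀ z ∈ Z, φ z ∈ Z := fun φ z hz => Subgroup.mem_center_iff.2 fun y => by
    have := congrArg φ (Subgroup.mem_center_iff.1 hz (φ.symm y))
    simpa using this
  have hnab : ¬ ∀ a b : T, a * b = b * a := fun h => by obtain ⟨a, b, hab⟩ := hna; exact hab (h a b)
  have hZcard : Nat.card ↥Z = 4 := by
    haveI : Nontrivial T := Finite.one_lt_card_iff_nontrivial.1 (by rw [hT]; norm_num)
    haveI := hp.center_nontrivial
    have h1 : 1 < Nat.card ↥Z := Finite.one_lt_card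
    have hd : Nat.card ↥Z ∣ 2 ^ 6 := by
      have := Subgroup.card_subgroup_dvd_card Z
      rwa [hT] at this
    obtain ⟨i, hi, hi'⟩ := (Nat.dvd_prime_pow Nat.prime_two).1 hd
    have hm := card_mod_sub ρ hfp h3 Z (hcm ρ)
    rw [hi'] at hm h1
    have hq := Subgroup.card_eq_card_quotient_mul_card_subgroup Z
    rw [hT, hi'] at hq
    interval_cases i <;> (first | (exfalso; omega) | skip)
    · exact hi'
    · exact absurd (comm_of_quot_four ρ hfp h3 Z (hcm ρ) le_rfl (by omega)) hnab
    · exfalso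
      refine hnab fun a b => ?_
      have : Z = ⊤ := Subgroup.eq_top_of_card_eq _ (by rw [hi', hT]; rfl)
      exact Subgroup.mem_center_iff.1 (show b ∈ Z by rw [this]; exact Subgroup.mem_top b) a
  obtain ⟨ρ', hρ'⟩ := quot_auto ρ Z (hcm ρ)
  obtain ⟨x', hx'⟩ := quot_auto x Z (hcm x)
  have hfp' := quot_fpf ρ hfp Z ρ' hρ'
  have h3' : ∀ z, ρ' (ρ' (ρ' z)) = z := fun z => by
    obtain ⟨y, rfl⟩ := QuotientGroup.mk_surjective z
    rw [hρ', hρ', hρ', h3]
  have hQcard : Nat.card (T ⧸ Z) = 16 := by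
    have hq := Subgroup.card_eq_card_quotient_mul_card_subgroup Z
    rw [hT, hZcard] at hq
    omega
  have habq : ∀ a b : T ⧸ Z, a * b = b * a := by
    haveI : Nontrivial (T ⧸ Z) := Finite.one_lt_card_iff_nontrivial.1 (by rw [hQcard]; norm_num)
    haveI := (hp.to_quotient Z).center_nontrivial
    have h1 : 1 < Nat.card ↥(Subgroup.center (T ⧸ Z)) := Finite.one_lt_card
    have hd : Nat.card ↥(Subgroup.center (T ⧸ Z)) ∣ 2 ^ 4 := by
      have := Subgroup.card_subgroup_dvd_card (Subgroup.center (T ⧸ Z))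
      rwa [hQcard] at this
    have hinv : ∀ z ∈ Subgroup.center (T ⧸ Z), ρ' z ∈ Subgroup.center (T ⧸ Z) := fun z hz =>
      Subgroup.mem_center_iff.2 fun y => by
        have := congrArg ρ' (Subgroup.mem_center_iff.1 hz (ρ'.symm y))
        simpa using this
    obtain ⟨i, hi, hi'⟩ := (Nat.dvd_prime_pow Nat.prime_two).1 hd
    have hm := card_mod_sub ρ' hfp' h3' _ hinv
    rw [hi'] at hm h1
    have hq := Subgroup.card_eq_card_quotient_mul_card_subgroup (Subgroup.center (T ⧸ Z))
    rw [hQcard, hi'] at hq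
    interval_cases i <;> (first | (exfalso; omega) | skip)
    · exact comm_of_quot_four ρ' hfp' h3' _ hinv le_rfl (by omega)
    · intro a b
      have h5 : Subgroup.center (T ⧸ Z) = ⊤ := Subgroup.eq_top_of_card_eq _ (by rw [hi', hQcard]; rfl)
      exact Subgroup.mem_center_iff.1 (show b ∈ Subgroup.center (T ⧸ Z) by rw [h5]; exact Subgroup.mem_top b) a
  have hZsq : ∀ z ∈ Z, z * z = 1 := by
    intro z hz
    by_contra h
    have hz1 : z ≠ 1 := fun e => h (by rw [e, mul_one])
    haveI : Fintype ↥Z := Fintype.ofFinite _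
    have h4 : orderOf (⟨z, hz⟩ : ↥Z) ∣ 2 ^ 2 := by
      rw [show (2 : ℕ) ^ 2 = Nat.card ↥Z by rw [hZcard]; rfl]; exact orderOf_dvd_natCard _
    obtain ⟨i, hi, hi'⟩ := (Nat.dvd_prime_pow Nat.prime_two).1 h4
    rw [Subgroup.orderOf_mk] at hi'
    interval_cases i
    · exact hz1 (orderOf_eq_one_iff.1 hi')
    · exact h (by rw [← pow_two, ← show orderOf z = 2 from hi', pow_orderOf_eq_one])
    · -- the three conjugates have order four, so none is the square
      obtain ⟨n1, n2, n3⟩ := orbit_ne ρ hfp h3 hz1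
      let f : Fin 4 → ↥Z := ![1, ⟨z, hz⟩, ⟨ρ z, hcm ρ z hz⟩, ⟨ρ (ρ z), hcm ρ _ (hcm ρ z hz)⟩]
      have m1 : ρ z ≠ 1 := fun e => hz1 (ρ.injective (e.trans (map_one ρ).symm))
      have m2 : ρ (ρ z) ≠ 1 := fun e => m1 (ρ.injective (e.trans (map_one ρ).symm))
      have hf : Function.Injective f := by
        intro i j hij
        have h' := congrArg Subtype.val hij
        fin_cases i <;> fin_cases j <;> dsimp [f] at h' ⊢ <;>
          first
            | rfl
            | exact absurd h' hz1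
            | exact absurd h'.symm hz1
            | exact absurd h' m1
            | exact absurd h'.symm m1
            | exact absurd h' m2
            | exact absurd h'.symm m2
            | exact absurd h' n1
            | exact absurd h'.symm n1
            | exact absurd h' n2
            | exact absurd h'.symm n2
            | exact absurd h' n3
            | exact absurd h'.symm n3
      obtain ⟨i, hi⟩ := ((Fintype.bijective_iff_injective_and_card f).2
        ⟨hf, by rw [Fintype.card_fin, ← Nat.card_eq_fintype_card, hZcard]⟩).2 ⟨z * z, Z.mul_mem hz hz⟩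
      have hi2 := congrArg Subtype.val hi
      have hzz : orderOf (z * z) = 2 := by rw [← pow_two, orderOf_pow, hi']; rfl
      have ho1 : orderOf (ρ z) = 4 := by rw [MulEquiv.orderOf_eq, hi']; rfl
      have ho2 : orderOf (ρ (ρ z)) = 4 := by rw [MulEquiv.orderOf_eq, ho1]
      fin_cases i <;> dsimp [f] at hi2 <;>
        first
          | exact h hi2.symm
          | (rw [← hi2, hi'] at hzz; norm_num at hzz)
          | (rw [← hi2, ho1] at hzz; norm_num at hzz)
          | (rw [← hi2, ho2] at hzz; norm_num at hzz)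
  have hcomZ : ∀ a b : T, FixedLayer.cm a b ∈ Z := fun a b => by
    rw [← QuotientGroup.eq_one_iff]
    show ((a⁻¹ * b⁻¹ * a * b : T) : T ⧸ Z) = 1
    rw [mul_assoc, QuotientGroup.mk_mul, QuotientGroup.mk_mul, QuotientGroup.mk_mul, habq (a : T ⧸ Z) (b : T ⧸ Z)]
    simp [mul_assoc]
  have hZc : ∀ {c : T}, c ∈ Z → ∀ g, c * g = g * c := fun hc g => (Subgroup.mem_center_iff.1 hc g).symm
  have hcc : ∀ {c : T}, c ∈ Z → ∀ g : T, g⁻¹ * c * g = c := fun hc g => by
    rw [mul_assoc, hZc hc, inv_mul_cancel_left]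
  have hcl : ∀ a b c : T, FixedLayer.cm (a * b) c = FixedLayer.cm a c * FixedLayer.cm b c := fun a b c => by
    rw [FixedLayer.cm_mul_left, hcc (hcomZ a c)]
  have hcr : ∀ a b c : T, FixedLayer.cm a (b * c) = FixedLayer.cm a b * FixedLayer.cm a c := fun a b c => by
    rw [FixedLayer.cm_mul_right, hcc (hcomZ a b), hZc (hcomZ a b)]
  have hsq : ∀ g : T, g * g ∈ Z := fun g => Subgroup.mem_center_iff.2 fun k =>
    FixedLayer.commute_of_cm (by rw [hcr, hZsq _ (hcomZ k g)])
  have hq2 : ∀ a : T ⧸ Z, a * a = 1 := fun a => by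
    obtain ⟨g, rfl⟩ := QuotientGroup.mk_surjective a
    exact (QuotientGroup.eq_one_iff _).2 (hsq g)
  -- fixed points
  have hFQ : Nat.card {a : T ⧸ Z // x' a = a} = 4 := fix_card hq2 ρ' x' hfp' h3'
    (fun y => by obtain ⟨y, rfl⟩ := QuotientGroup.mk_surjective y; rw [hx', hx', hx2])
    (fun y => by obtain ⟨y, rfl⟩ := QuotientGroup.mk_surjective y; rw [hρ', hx', hx', hρ', hρ', hxr]) 4 hQcard
  let ρZ : MulAut ↥Z := MulEquiv.ofBijective (MonoidHom.mk' (fun z : ↥Z => (⟨ρ z, hcm ρ z z.2⟩ : ↥Z))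
    fun a b => Subtype.ext (map_mul ρ _ _)) (Finite.injective_iff_bijective.1 fun a b h =>
      Subtype.ext (ρ.injective (congrArg Subtype.val h)))
  let xZ : MulAut ↥Z := MulEquiv.ofBijective (MonoidHom.mk' (fun z : ↥Z => (⟨x z, hcm x z z.2⟩ : ↥Z))
    fun a b => Subtype.ext (map_mul x _ _)) (Finite.injective_iff_bijective.1 fun a b h =>
      Subtype.ext (x.injective (congrArg Subtype.val h)))
  have hFZ : Nat.card {z : ↥Z // xZ z = z} = 2 := fix_card (fun z => Subtype.ext (hZsq z z.2)) ρZ xZ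
    (fun z h => Subtype.ext (hfp z (congrArg Subtype.val h))) (fun z => Subtype.ext (h3 z))
    (fun z => Subtype.ext (hx2 z)) (fun z => Subtype.ext (hxr z)) 2 hZcard
  -- lifts of fixed elements
  have hlift : ∀ a : T ⧸ Z, x' a = a → ∃ t : T, (t : T ⧸ Z) = a ∧ x t = t := by
    intro a ha
    obtain ⟨t, rfl⟩ := QuotientGroup.mk_surjective a
    rw [hx', eq_comm, QuotientGroup.eq] at ha
    set z := t⁻¹ * x t with hz
    have hxz : x z = z := by
      rw [hz, map_mul, map_inv, hx2]
      calc (x t)⁻¹ * t = (t⁻¹ * x t)⁻¹ := by group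
        _ = t⁻¹ * x t := inv_eq_of_mul_eq_one_right (hZsq _ ha)
    haveI hfin : Finite {z : ↥Z // xZ z = z} := Subtype.finite
    let g : ↥Z → {z : ↥Z // xZ z = z} := fun w => ⟨w * xZ w, Subtype.ext (by
      show x ((w : T) * x w) = (w : T) * x w
      rw [map_mul, hx2, hZc (hcm x _ w.2)])⟩
    obtain ⟨w, hw⟩ : ∃ w, ((g w).1 : T) = z := by
      by_cases hz1 : z = 1
      · exact ⟨1, by show (1 : T) * x 1 = z; rw [map_one, one_mul, hz1]⟩
      obtain ⟨w, hw⟩ : ∃ w : ↥Z, (g w).1 ≠ 1 := by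
        by_contra hcon
        push Not at hcon
        have hall : ∀ w : ↥Z, xZ w = w := fun w => Subtype.ext (by
          have h : (w : T) * x w = 1 := congrArg Subtype.val (hcon w)
          show x w = w
          rw [← inv_eq_of_mul_eq_one_right h, inv_eq_of_mul_eq_one_right (hZsq w w.2)])
        rw [Nat.card_congr (Equiv.subtypeUnivEquiv hall), hZcard] at hFZ
        norm_num at hFZ
      refine ⟨w, ?_⟩
      by_contra hne
      let f : Fin 3 → {z : ↥Z // xZ z = z} := ![⟨1, map_one _⟩, g w, ⟨⟨z, ha⟩, Subtype.ext hxz⟩]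
      have hf : Function.Injective f := by
        intro i j hij
        have h' := congrArg (fun u : {z : ↥Z // xZ z = z} => ((u.1 : ↥Z) : T)) hij
        have hw' : ((g w).1 : T) ≠ 1 := fun e => hw (Subtype.ext e)
        fin_cases i <;> fin_cases j <;> dsimp [f] at h' ⊢ <;>
          first
            | rfl
            | exact absurd h' hz1
            | exact absurd h'.symm hz1
            | exact absurd h' hne
            | exact absurd h'.symm hne
            | exact absurd h' hw'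
            | exact absurd h'.symm hw'
      have := Nat.card_le_card_of_injective f hf
      rw [hFZ, Nat.card_fin] at this
      omega
    refine ⟨t * w, ?_, ?_⟩
    · rw [QuotientGroup.mk_mul, (QuotientGroup.eq_one_iff (w : T)).2 w.2, mul_one]
    · have hw' : (w : T) * x w = t⁻¹ * x t := hw
      have hww : (w : T) * w = 1 := hZsq w w.2
      calc x (t * w) = t * (t⁻¹ * x t) * x w := by rw [map_mul]; group
        _ = t * ((w : T) * x w) * x w := by rw [hw']
        _ = t * w * (x w * x w) := by group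
        _ = t * w := by rw [hZsq _ (hcm x _ w.2), mul_one]
  -- two independent fixed elements
  haveI : Nontrivial {a : T ⧸ Z // x' a = a} := Finite.one_lt_card_iff_nontrivial.1 (by rw [hFQ]; norm_num)
  obtain ⟨⟨va, hva⟩, hva1⟩ := exists_ne (⟨1, map_one x'⟩ : {a : T ⧸ Z // x' a = a})
  have hva' : va ≠ 1 := fun e => hva1 (Subtype.ext e)
  obtain ⟨vb, hvb, hvb'⟩ : ∃ vb, x' vb = vb ∧ vb ≠ 1 ∧ vb ≠ va := by
    by_contra hcon
    push Not at hcon
    let f : {a : T ⧸ Z // x' a = a} → Bool := fun a => decide (a.1 = 1)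
    have hf : Function.Injective f := fun a b hab => by
      by_cases h1 : a.1 = 1 <;> by_cases h2 : b.1 = 1 <;> simp [f, h1, h2] at hab
      · exact Subtype.ext (h1.trans h2.symm)
      · exact Subtype.ext ((hcon a.1 a.2 h1).trans (hcon b.1 b.2 h2).symm)
    have := Nat.card_le_card_of_injective f hf
    rw [hFQ] at this
    simp at this
  obtain ⟨hvb1, hvab⟩ := hvb'
  obtain ⟨ta, hta, hxa⟩ := hlift va hva
  obtain ⟨tb, htb, hxb⟩ := hlift vb hvb
  -- the field
  letI : CommGroup ↥Z := { (inferInstance : Group ↥Z) with mul_comm := fun a b => Subtype.ext (hZc a.2 b) }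
  letI : Fintype (GaloisField 2 2) := Fintype.ofFinite _
  obtain ⟨κ, ζ, hζ0, hκ, hgen⟩ := CyclicField.exists_coord_of (A := Additive ↥Z) 2 (by norm_num)
    (by rw [show Nat.card (Additive ↥Z) = Nat.card ↥Z from rfl, hZcard]; rfl)
    (fun a => by apply Additive.toMul.injective; exact Subtype.ext (hZsq _ a.toMul.2))
    (MulEquiv.toAdditive ρZ)
    (fun a b ha hb => by
      obtain ⟨w1, rfl⟩ := Additive.ofMul.surjective a
      obtain ⟨w2, rfl⟩ := Additive.ofMul.surjective b
      have hw1 : w1 ≠ 1 := fun e => ha (by rw [e]; rfl)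
      have hw2 : w2 ≠ 1 := fun e => hb (by rw [e]; rfl)
      obtain ⟨n1, n2, n3⟩ := orbit_ne ρZ (fun z h => Subtype.ext (hfp z (congrArg Subtype.val h)))
        (fun z => Subtype.ext (h3 z)) hw1
      by_contra hcon
      push Not at hcon
      have k0 : w1 ≠ w2 := fun e => hcon 0 (congrArg Additive.ofMul e)
      have k1 : ρZ w1 ≠ w2 := fun e => hcon 1 (congrArg Additive.ofMul e)
      have k2 : ρZ (ρZ w1) ≠ w2 := fun e => hcon 2 (congrArg Additive.ofMul e)
      let f : Fin 5 → ↥Z := ![1, w1, ρZ w1, ρZ (ρZ w1), w2]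
      have m1 : ρZ w1 ≠ 1 := fun e => hw1 (ρZ.injective (e.trans (map_one ρZ).symm))
      have m2 : ρZ (ρZ w1) ≠ 1 := fun e => m1 (ρZ.injective (e.trans (map_one ρZ).symm))
      have hf : Function.Injective f := by
        intro i j h'
        fin_cases i <;> fin_cases j <;> dsimp [f] at h' ⊢ <;>
          first
            | rfl
            | exact absurd h' hw1
            | exact absurd h'.symm hw1
            | exact absurd h' hw2
            | exact absurd h'.symm hw2
            | exact absurd h' m1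
            | exact absurd h'.symm m1
            | exact absurd h' m2
            | exact absurd h'.symm m2
            | exact absurd h' n1
            | exact absurd h'.symm n1
            | exact absurd h' n2
            | exact absurd h'.symm n2
            | exact absurd h' n3
            | exact absurd h'.symm n3
            | exact absurd h' k0
            | exact absurd h'.symm k0
            | exact absurd h' k1
            | exact absurd h'.symm k1
            | exact absurd h' k2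
            | exact absurd h'.symm k2
      have := Nat.card_le_card_of_injective f hf
      rw [hZcard, Nat.card_fin] at this
      omega)
    (GaloisField 2 2) (by rw [← Nat.card_eq_fintype_card, GaloisField.card 2 2 (by norm_num)])
  have two : (2 : (GaloisField 2 2)) = 0 := CharTwo.two_eq_zero
  let kap : (GaloisField 2 2) → T := fun a => (((κ a).toMul : ↥Z) : T)
  let lg : T → (GaloisField 2 2) := fun z => if h : z ∈ Z then κ.symm (Additive.ofMul ⟨z, h⟩) else 0
  have hkm : ∀ a, kap a ∈ Z := fun a => (κ a).toMul.2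
  have hlk : ∀ a, lg (kap a) = a := fun a => by
    show (if h : kap a ∈ Z then _ else _) = a
    rw [dif_pos (hkm a)]; exact κ.symm_apply_apply a
  have hkl : ∀ z ∈ Z, kap (lg z) = z := fun z hz => by
    show (((κ (if h : z ∈ Z then _ else _)).toMul : ↥Z) : T) = z
    rw [dif_pos hz, AddEquiv.apply_symm_apply]; rfl
  have hkadd : ∀ a b, kap (a + b) = kap a * kap b := fun a b => by
    show (((κ (a + b)).toMul : ↥Z) : T) = _
    rw [map_add]; rfl
  have hkinj : Function.Injective kap := fun a b h => by rw [← hlk a, h, hlk]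
  have hlmul : ∀ a ∈ Z, ∀ b ∈ Z, lg (a * b) = lg a + lg b := fun a ha b hb =>
    hkinj (by rw [hkadd, hkl a ha, hkl b hb, hkl _ (Z.mul_mem ha hb)])
  have hkρ : ∀ a, ρ (kap a) = kap (ζ * a) := fun a =>
    congrArg (fun w : Additive ↥Z => ((w.toMul : ↥Z) : T)) (hκ a)
  have hlρ : ∀ z ∈ Z, lg (ρ z) = ζ * lg z := fun z hz =>
    hkinj (by rw [← hkρ, hkl z hz, hkl _ (hcm ρ z hz)])
  have hl1 : lg 1 = 0 := by
    have h := hlmul 1 Z.one_mem 1 Z.one_mem
    rw [mul_one] at h
    exact left_eq_add.1 h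
  have hk0 : kap 0 = 1 := by rw [← hl1, hkl 1 Z.one_mem]
  have hζ3 : ζ ^ 3 = 1 := by
    have h := congrArg lg (h3 (kap 1))
    rw [hkρ, hkρ, hkρ, hlk, hlk] at h
    linear_combination h
  have hζ1 : ζ ≠ 1 := fun e => by
    have h : ρ (kap 1) = kap 1 := by rw [hkρ, e, one_mul]
    exact one_ne_zero (α := (GaloisField 2 2)) (hkinj ((hfp _ h).trans hk0.symm))
  have hsum : 1 + ζ + ζ * ζ = 0 := by
    have h : (ζ - 1) * (1 + ζ + ζ * ζ) = 0 := by linear_combination hζ3
    exact (mul_eq_zero.1 h).resolve_left (sub_ne_zero.2 hζ1)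
  have hcases : ∀ l : (GaloisField 2 2), l = 0 ∨ l = 1 ∨ l = ζ ∨ l = ζ * ζ := fun l => by
    by_cases hl : l = 0
    · exact Or.inl hl
    obtain ⟨k, rfl⟩ := hgen l hl
    right
    rw [← Nat.div_add_mod k 3, pow_add, pow_mul, hζ3, one_pow, one_mul]
    have := Nat.mod_lt k (by norm_num : 0 < 3)
    interval_cases (k % 3)
    · exact Or.inl (pow_zero ζ)
    · exact Or.inr (Or.inl (pow_one ζ))
    · exact Or.inr (Or.inr (pow_two ζ))
  -- scalar multiples in the quotient
  have hv : ∀ v : T ⧸ Z, v * ρ' v * ρ' (ρ' v) = 1 := triple ρ' hfp' h3'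
  let fm : T ⧸ Z → (GaloisField 2 2) → T ⧸ Z := fun v l =>
    if l = 0 then 1 else if l = 1 then v else if l = ζ then ρ' v else ρ' (ρ' v)
  have hzz0 : ζ * ζ ≠ 0 := mul_ne_zero hζ0 hζ0
  have hzz1 : ζ * ζ ≠ 1 := fun e => hζ1 (by linear_combination hζ3 - ζ * e)
  have hzzz : ζ * ζ ≠ ζ := fun e => hζ1 (mul_left_cancel₀ hζ0 (e.trans (mul_one ζ).symm))
  have fm0 : ∀ v, fm v 0 = 1 := fun v => if_pos rfl
  have fm1 : ∀ v, fm v 1 = v := fun v => by
    show (if (1 : (GaloisField 2 2)) = 0 then _ else _) = v; rw [if_neg one_ne_zero, if_pos rfl]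
  have fmz : ∀ v, fm v ζ = ρ' v := fun v => by
    show (if ζ = 0 then _ else _) = _; rw [if_neg hζ0, if_neg hζ1, if_pos rfl]
  have fmzz : ∀ v, fm v (ζ * ζ) = ρ' (ρ' v) := fun v => by
    show (if ζ * ζ = 0 then _ else _) = _; rw [if_neg hzz0, if_neg hzz1, if_neg hzzz]
  have fmadd : ∀ v l m, fm v (l + m) = fm v l * fm v m := by
    intro v l m
    have e3 := hv v
    have q : ∀ a : T ⧸ Z, a * a = 1 := hq2
    have a1 : (1 : (GaloisField 2 2)) + ζ = ζ * ζ := by linear_combination hsum - (ζ * ζ) * two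
    have a2 : (1 : (GaloisField 2 2)) + ζ * ζ = ζ := by linear_combination hsum - ζ * two
    have a3 : ζ + ζ * ζ = 1 := by linear_combination hsum - two
    have b1 : v * ρ' v = ρ' (ρ' v) := by
      rw [eq_inv_of_mul_eq_one_left e3]; exact inv_eq_of_mul_eq_one_right (q _)
    have b2 : v * ρ' (ρ' v) = ρ' v := by rw [← b1, ← mul_assoc, q, one_mul]
    have b3 : ρ' v * ρ' (ρ' v) = v := by rw [← b1, habq v, ← mul_assoc, q, one_mul]
    rcases hcases l with el | el | el | el <;> rcases hcases m with em | em | em | em <;> rw [el, em] <;>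
      simp only [zero_add, add_zero, CharTwo.add_self_eq_zero, fm0, fm1, fmz, fmzz, one_mul, mul_one, q, a1, a2, a3,
        add_comm ζ (1 : (GaloisField 2 2)), add_comm (ζ * ζ) (1 : (GaloisField 2 2)), add_comm (ζ * ζ) ζ, b1, b2, b3,
        habq (ρ' v) v, habq (ρ' (ρ' v)) v, habq (ρ' (ρ' v)) (ρ' v)]
  have fmρ : ∀ v l, fm v (ζ * l) = ρ' (fm v l) := by
    intro v l
    rcases hcases l with el | el | el | el <;> rw [el]
    · rw [mul_zero, fm0, map_one]
    · rw [mul_one, fm1, fmz]
    · rw [fmz, fmzz]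
    · rw [show ζ * (ζ * ζ) = 1 by linear_combination hζ3, fm1, fmzz, h3']
  -- coordinates
  let Φ : (GaloisField 2 2) × (GaloisField 2 2) → T ⧸ Z := fun p => fm va p.1 * fm vb p.2
  have hΦadd : ∀ p p', Φ (p + p') = Φ p * Φ p' := fun p p' => by
    show fm va (p.1 + p'.1) * fm vb (p.2 + p'.2) = _ * _
    rw [fmadd, fmadd, mul_assoc, ← mul_assoc (fm va p'.1), habq (fm va p'.1) (fm vb p.2), mul_assoc, ← mul_assoc (fm va p.1)]
  have hΦρ : ∀ p, Φ (ζ * p.1, ζ * p.2) = ρ' (Φ p) := fun p => by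
    show fm va (ζ * p.1) * fm vb (ζ * p.2) = ρ' (_ * _)
    rw [fmρ, fmρ, map_mul]
  have hfmne : ∀ v, v ≠ 1 → ∀ l, fm v l = 1 → l = 0 := by
    intro v hv1 l hl
    rcases hcases l with el | el | el | el <;> rw [el] at hl ⊢
    · exact absurd (fm1 v ▸ hl) hv1
    · rw [fmz] at hl; exact absurd (ρ'.injective (hl.trans (map_one ρ').symm)) hv1
    · rw [fmzz] at hl
      exact absurd (ρ'.injective (ρ'.injective (hl.trans ((map_one ρ').symm.trans (congrArg ρ' (map_one ρ').symm))))) hv1
  have hxr' : ∀ v, x' (ρ' v) = ρ' (ρ' (x' v)) := fun y => by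
    obtain ⟨y, rfl⟩ := QuotientGroup.mk_surjective y; rw [hρ', hx', hx', hρ', hρ', hxr]
  have hΦker : ∀ p, Φ p = 1 → p = 0 := by
    rintro ⟨l, m⟩ h
    have hlm : fm va l = fm vb m := by
      have h' : fm va l * fm vb m = 1 := h
      rw [eq_inv_of_mul_eq_one_left h']; exact inv_eq_of_mul_eq_one_right (hq2 _)
    by_cases hm : m = 0
    · rw [hm, fm0] at hlm
      exact Prod.ext (hfmne va hva' l hlm) hm
    -- `vb` would be a conjugate of `va`
    obtain ⟨k, hk⟩ := hgen m hm
    have hpow : ∀ (j : ℕ) v (c : (GaloisField 2 2)), fm v (ζ ^ j * c) = (ρ' ^ j) (fm v c) := by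
      intro j
      induction j with
      | zero => intro v c; rw [pow_zero, one_mul]; rfl
      | succ j ih => intro v c; rw [pow_succ', mul_assoc, fmρ, ih, pow_succ', MulAut.mul_apply]
    have hl' : ∃ c : (GaloisField 2 2), fm va c = vb := by
      refine ⟨(ζ ^ k)⁻¹ * l, (ρ' ^ k).injective ?_⟩
      rw [← hpow, mul_inv_cancel_left₀ (pow_ne_zero _ hζ0), hlm, ← hk, ← mul_one (ζ ^ k), hpow, fm1]
    obtain ⟨c, hc⟩ := hl'
    exfalso
    rcases hcases c with el | el | el | el <;> rw [el] at hc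
    · rw [fm0] at hc; exact hvb1 hc.symm
    · rw [fm1] at hc; exact hvab hc.symm
    · rw [fmz] at hc
      have h2 : ρ' (ρ' va) = ρ' va := by
        calc ρ' (ρ' va) = x' (ρ' va) := by rw [hxr', hva]
          _ = x' vb := by rw [hc]
          _ = vb := hvb
          _ = ρ' va := hc.symm
      exact (orbit_ne ρ' hfp' h3' hva').2.2 h2
    · rw [fmzz] at hc
      have h2 : ρ' va = ρ' (ρ' va) := by
        calc ρ' va = x' (ρ' (ρ' va)) := by rw [hxr', hxr', hva, h3']
          _ = x' vb := by rw [hc]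
          _ = vb := hvb
          _ = ρ' (ρ' va) := hc.symm
      exact (orbit_ne ρ' hfp' h3' hva').2.2 h2.symm
  have hΦinj : Function.Injective Φ := fun p p' h => by
    have h1 : Φ (p + p') = 1 := by rw [hΦadd, h]; exact hq2 _
    have h2 := hΦker _ h1
    exact Prod.ext (CharTwo.add_eq_zero.1 (congrArg Prod.fst h2)) (CharTwo.add_eq_zero.1 (congrArg Prod.snd h2))
  have hΦbij : Function.Bijective Φ := (Nat.bijective_iff_injective_and_card Φ).2
    ⟨hΦinj, by rw [Nat.card_prod, GaloisField.card 2 2 (by norm_num), hQcard]; rfl⟩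
  let π : T → (GaloisField 2 2) × (GaloisField 2 2) := fun t => (Equiv.ofBijective Φ hΦbij).symm (t : T ⧸ Z)
  have hπ : ∀ t, Φ (π t) = (t : T ⧸ Z) := fun t => (Equiv.ofBijective Φ hΦbij).apply_symm_apply _
  have hπmul : ∀ a b, π (a * b) = π a + π b := fun a b => hΦinj (by rw [hΦadd, hπ, hπ, hπ, QuotientGroup.mk_mul])
  have hπρ : ∀ t, π (ρ t) = (ζ * (π t).1, ζ * (π t).2) := fun t => hΦinj (by rw [hΦρ, hπ, hπ, hρ'])
  have hπ0 : ∀ t, π t = 0 ↔ t ∈ Z := fun t => by
    have h0 : Φ 0 = 1 := by show fm va 0 * fm vb 0 = 1; rw [fm0, fm0, one_mul]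
    rw [← QuotientGroup.eq_one_iff]
    exact ⟨fun h => by rw [← hπ t, h, h0], fun h => hΦinj (by rw [hπ, h, h0])⟩
  have hπsurj : ∀ p, ∃ t, π t = p := fun p => by
    obtain ⟨t, ht⟩ := QuotientGroup.mk_surjective (Φ p)
    exact ⟨t, hΦinj (by rw [hπ, ht])⟩
  -- squares
  choose rep hrep using hπsurj
  let S : (GaloisField 2 2) × (GaloisField 2 2) → (GaloisField 2 2) := fun p => lg (rep p * rep p)
  have hS : ∀ g, S (π g) = lg (g * g) := by
    intro g
    show lg _ = lg _
    have h1 := hπmul (rep (π g)) ((rep (π g))⁻¹ * g)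
    rw [mul_inv_cancel_left, hrep, left_eq_add] at h1
    have hc := (hπ0 _).1 h1
    congr 1
    set r := rep (π g)
    symm
    calc g * g = r * ((r⁻¹ * g) * r) * (r⁻¹ * g) := by group
      _ = r * (r * (r⁻¹ * g)) * (r⁻¹ * g) := by rw [hZc hc r]
      _ = r * r * ((r⁻¹ * g) * (r⁻¹ * g)) := by group
      _ = r * r := by rw [hZsq _ hc, mul_one]
  have hSadd : ∀ g h, S (π g + π h) + S (π g) + S (π h) = lg (FixedLayer.cm g h) := by
    intro g h
    rw [← hπmul, hS, hS, hS]
    have e : g * h * (g * h) = g * g * FixedLayer.cm g h⁻¹ * (h * h) := by unfold FixedLayer.cm; group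
    have hci : lg (FixedLayer.cm g h⁻¹) = lg (FixedLayer.cm g h) := by
      have h1 : lg (FixedLayer.cm g (h⁻¹ * h)) = 0 := by rw [inv_mul_cancel, FixedLayer.cm_eq_one (by group), hl1]
      rw [hcr, hlmul _ (hcomZ _ _) _ (hcomZ _ _), CharTwo.add_eq_zero] at h1
      exact h1
    rw [e, hlmul _ (Z.mul_mem (hsq g) (hcomZ _ _)) _ (hsq h), hlmul _ (hsq g) _ (hcomZ _ _), hci]
    linear_combination (lg (g * g) + lg (h * h)) * two
  have hb1 : ∀ a b c, S (a + b + c) + S (a + b) + S c = (S (a + c) + S a + S c) + (S (b + c) + S b + S c) := by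
    intro a b c
    rw [← hrep a, ← hrep b, ← hrep c, ← hπmul (rep a) (rep b), hSadd, hSadd, hSadd, hcl,
      hlmul _ (hcomZ _ _) _ (hcomZ _ _)]
  have hS1 : ∀ p : (GaloisField 2 2) × (GaloisField 2 2), S (ζ * p.1, ζ * p.2) = ζ * S p := fun p => by
    obtain ⟨g, rfl⟩ : ∃ g, π g = p := ⟨rep p, hrep p⟩
    rw [← hπρ, hS, hS, ← map_mul, hlρ _ (hsq g)]
  have hhom : ∀ l a b, S (l * a, l * b) = l * S (a, b) := by
    intro l a b
    rcases hcases l with el | el | el | el <;> rw [el]
    · rw [zero_mul, zero_mul, zero_mul, show ((0, 0) : (GaloisField 2 2) × (GaloisField 2 2)) = π 1 from ((hπ0 1).2 Z.one_mem).symm, hS, one_mul, hl1]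
    · rw [one_mul, one_mul, one_mul]
    · exact hS1 (a, b)
    · rw [mul_assoc, mul_assoc, mul_assoc, hS1 (ζ * a, ζ * b), hS1 (a, b)]
  obtain ⟨A, K, B, hform, hK0⟩ := ScalarForms.plane_form S hhom hb1
  have hK : K ≠ 0 := fun h => hnab fun a b => by
    have h1 := hSadd a b
    rw [hK0.2 h] at h1
    refine FixedLayer.commute_of_cm ?_
    have h2 : lg (FixedLayer.cm a b) = 0 := by
      rw [← h1]; linear_combination (S (π a) + S (π b)) * two
    rw [← hkl _ (hcomZ a b), h2, hk0]
  choose r hr using fun c : (GaloisField 2 2) => ScalarForms.surjective_sq c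
  have hradd : ∀ a b, r (a + b) = r a + r b := fun a b => ScalarForms.sq_inj (by rw [hr, CharTwo.add_mul_self, hr, hr])
  let M : SquareMap.Model ((GaloisField 2 2) × (GaloisField 2 2)) (GaloisField 2 2) T (fun p => A * p.1 * p.1 + K * p.1 * p.2 + B * p.2 * p.2) :=
    { proj := π
      emb := fun c => kap (r c)
      proj_mul := hπmul
      proj_surj := fun p => ⟨rep p, hrep p⟩
      emb_add := fun a b => by rw [hradd, hkadd]
      emb_inj := fun a b h => by rw [← hr a, ← hr b, hkinj h]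
      proj_zero := fun g => by
        rw [hπ0]
        refine ⟨fun h => ⟨lg g * lg g, ?_⟩, ?_⟩
        · rw [show r (lg g * lg g) = lg g from ScalarForms.sq_inj (hr _), hkl g h]
        · rintro ⟨c, rfl⟩; exact hkm _
      central := fun c g => hZc (hkm _) g
      sq := fun g => by
        have h1 : r (A * (π g).1 * (π g).1 + K * (π g).1 * (π g).2 + B * (π g).2 * (π g).2) = S (π g) :=
          ScalarForms.sq_inj (by rw [hr]; exact (hform _ _).symm)
        show g * g = kap (r _)
        rw [h1, hS, hkl _ (hsq g)] }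
  refine ⟨?_, fun C hC => ?_⟩
  · rcases FixedLayer.classify_model (by norm_num : 1 ≤ 2) A K B hK M with h | h
    · exfalso
      obtain ⟨L, iL, iLf, hL, P, ⟨e⟩⟩ := h
      haveI : CharP L 2 := charP_of_card_eq_prime_pow (f := 4) (by rw [hL]; norm_num)
      obtain ⟨τ, hτ⟩ := UnitarySylow.sigma_props (n := 2) (by norm_num) (by rw [hL]; norm_num : Fintype.card L = (2 ^ 2) ^ 2)
      obtain ⟨e'⟩ : Nonempty (UnitarySylow.UT hτ ≃* ↥(P : Subgroup (Cfsg.PSU 3 L (2 ^ 2)))) :=
        UnitarySylow.sylow_PSU hτ (n := 2) (by norm_num) rfl P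
      let E := MulAut.congr (e.trans e'.symm)
      refine UnitarySylow.no_inverted_three hτ (E ρ) (E x) (by rw [← map_pow]; exact (congrArg E (MulEquiv.ext fun y => h3 y)).trans (map_one E))
        (fun h => ?_) (by rw [← map_pow]; exact (congrArg E (MulEquiv.ext fun y => hx2 y)).trans (map_one E))
        (by rw [← map_pow, ← map_mul, ← map_mul]; exact congrArg E (MulEquiv.ext fun y => hxr y))
      rw [← map_pow, EmbeddingLike.map_eq_one_iff] at h
      obtain ⟨a, b, hab⟩ := hna
      have ha1 : a ≠ 1 := fun e => hab (by rw [e, one_mul, mul_one])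
      exact (orbit_ne ρ hfp h3 ha1).2.1 (DFunLike.congr_fun h a)
    · obtain ⟨L, iL, iLf, hL, h⟩ := h
      exact ⟨L, iL, iLf, by rw [hL]; rfl, h⟩
  · -- the fixed group
    let f : ↥C →* T ⧸ Z := (QuotientGroup.mk' Z).comp C.subtype
    have hrange : Nat.card f.range = 4 := by
      rw [← hFQ]
      refine Nat.card_congr (Equiv.subtypeEquivRight fun a => ⟨?_, fun ha => ?_⟩)
      · rintro ⟨c, rfl⟩
        show x' ((c : T) : T ⧸ Z) = _
        rw [hx', (hC c).1 c.2]; rfl
      · obtain ⟨t, ht, hxt⟩ := hlift a ha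
        exact ⟨⟨t, (hC t).2 hxt⟩, ht⟩
    have hker : Nat.card f.ker = 2 := by
      rw [← hFZ]
      refine Nat.card_congr
        { toFun := fun c => ⟨⟨(c.1 : T), (QuotientGroup.eq_one_iff _).1 c.2⟩, Subtype.ext ((hC _).1 c.1.2)⟩
          invFun := fun z => ⟨⟨(z.1 : T), (hC _).2 (congrArg Subtype.val z.2)⟩, (QuotientGroup.eq_one_iff _).2 z.1.2⟩
          left_inv := fun c => rfl
          right_inv := fun z => rfl }
    have h8 : Nat.card ↥C = 8 := by
      rw [Subgroup.card_eq_card_quotient_mul_card_subgroup f.ker,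
        Nat.card_congr (QuotientGroup.quotientKerEquivRange f).toEquiv, hrange, hker]
    refine OrderEight.dihedral_or_quaternion h8 ⟨⟨ta, (hC _).2 hxa⟩, ⟨tb, (hC _).2 hxb⟩, fun h => hK ?_⟩
    have hab : FixedLayer.cm ta tb = 1 := FixedLayer.cm_eq_one (congrArg Subtype.val h)
    have h1 := hSadd ta tb
    rw [hab, hl1] at h1
    have e1 : π ta = (1, 0) := hΦinj (by
      rw [hπ]
      show _ = fm va 1 * fm vb 0
      rw [fm1, fm0, mul_one, hta])
    have e2 : π tb = (0, 1) := hΦinj (by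
      rw [hπ]
      show _ = fm va 0 * fm vb 1
      rw [fm1, fm0, one_mul, htb])
    rw [e1, e2, Prod.mk_add_mk, add_zero, zero_add] at h1
    have f11 := hform 1 1
    have f10 := hform 1 0
    have f01 := hform 0 1
    have h2 : S (1, 1) = S (1, 0) + S (0, 1) := by linear_combination h1 - (S (1, 0) + S (0, 1)) * two
    linear_combination -f11 + f10 + f01 + (S (1, 1) + S (1, 0) + S (0, 1)) * h2 + (S (1, 0) * S (0, 1)) * two

end Cfsg.Agent.Lie.FreeThree
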