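import Mathlib

/-!
Frobenius groups `A : T` for a group `T` of units of a ring `A` of prime characteristic,
and powers of `3 × 3` matrices.
-/

set_option autoImplicit false

namespace Cfsg.Agent.Lie.UnitFrobenius

variable {A : Type*} [Ring A] (T : Subgroup Aˣ)

/-- Affine maps `x ↦ t x + a` with `t ∈ T`. -/
def affine : Subgroup (Equiv.Perm A) where
  carrier := {σ | ∃ t ∈ T, ∃ a : A, ∀ x, σ x = (t : A) * x + a}
  one_mem' := ⟨1, T.one_mem, 0, fun x => by simp⟩
  mul_mem' := by
    rintro σ τ ⟨t, ht, a, ha⟩ ⟨u, hu, b, hb⟩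
    exact ⟨t * u, T.mul_mem ht hu, (t : A) * b + a, fun x => by
      rw [Equiv.Perm.mul_apply, hb, ha, Units.val_mul, mul_add, mul_assoc, add_assoc]⟩
  inv_mem' := by
    rintro σ ⟨t, ht, a, ha⟩
    refine ⟨t⁻¹, T.inv_mem ht, -((t⁻¹ : Aˣ) : A) * a, fun x => σ.injective ?_⟩
    rw [← Equiv.Perm.mul_apply, mul_inv_cancel, Equiv.Perm.one_apply, ha, mul_add, ← mul_assoc,
      Units.mul_inv, one_mul, neg_mul, mul_neg, ← mul_assoc, Units.mul_inv, one_mul]
    abel

variable {T}

theorem pow_apply (σ : Equiv.Perm A) (t : A) (a : A) (h : ∀ x, σ x = t * x + a) (n : ℕ) (x : A) :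
    (σ ^ n) x = t ^ n * x + (∑ i ∈ Finset.range n, t ^ i) * a := by
  induction n with
  | zero => simp
  | succ n ih =>
    rw [pow_succ', Equiv.Perm.mul_apply, ih, h, pow_succ', Finset.sum_range_succ', add_mul,
      mul_add, ← mul_assoc, ← mul_assoc, Finset.mul_sum, pow_zero, one_mul, add_assoc]
    simp only [pow_succ']

theorem range_orderOf [Finite A] [Nontrivial A] {p : ℕ} [Fact p.Prime] [CharP A p]
    (hT : ∀ t ∈ T, t ≠ 1 → IsUnit ((t : A) - 1)) :
    Set.range (orderOf : affine T → ℕ) = insert p (Set.range (orderOf : T → ℕ)) := by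
  have key : ∀ (σ : affine T) (t : Aˣ) (a : A), t ∈ T → (∀ x, (σ : Equiv.Perm A) x = (t : A) * x + a) →
      (t = 1 → a ≠ 0 → orderOf σ = p) ∧ ((t ≠ 1 ∨ a = 0) → orderOf σ = orderOf t) := by
    intro σ t a ht h
    refine ⟨fun ht1 ha => ?_, fun hor => ?_⟩
    · refine orderOf_eq_prime (Subtype.ext (Equiv.ext fun x => ?_)) fun h1 => ha ?_
      · rw [SubmonoidClass.coe_pow, pow_apply _ _ _ h, OneMemClass.coe_one, Equiv.Perm.one_apply, ht1]
        simp [CharP.cast_eq_zero]
      · have := h 0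
        rw [h1, OneMemClass.coe_one, Equiv.Perm.one_apply, mul_zero, zero_add] at this
        exact this.symm
    · apply orderOf_eq_orderOf_iff.2
      intro n
      constructor
      · intro hn
        refine Units.ext ?_
        have h0 := congrArg (fun s : affine T => (s : Equiv.Perm A) 0) hn
        have h1 := congrArg (fun s : affine T => (s : Equiv.Perm A) 1) hn
        simp only [SubmonoidClass.coe_pow, pow_apply _ _ _ h, OneMemClass.coe_one, Equiv.Perm.one_apply,
          mul_zero, mul_one, zero_add] at h0 h1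
        rw [Units.val_pow_eq_pow_val, Units.val_one]
        rwa [h0, add_zero] at h1
      · intro hn
        have hn' : (t : A) ^ n = 1 := by rw [← Units.val_pow_eq_pow_val, hn, Units.val_one]
        have hsum : (∑ i ∈ Finset.range n, (t : A) ^ i) * a = 0 := by
          rcases hor with h1 | h1
          · have : (∑ i ∈ Finset.range n, (t : A) ^ i) * ((t : A) - 1) = 0 := by
              rw [geom_sum_mul, hn', sub_self]
            rw [(hT t ht h1).mul_left_eq_zero.1 this, zero_mul]
          · rw [h1, mul_zero]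
        refine Subtype.ext (Equiv.ext fun x => ?_)
        rw [SubmonoidClass.coe_pow, pow_apply _ _ _ h, OneMemClass.coe_one, Equiv.Perm.one_apply, hn', hsum,
          one_mul, add_zero]
  ext n
  constructor
  · rintro ⟨σ, rfl⟩
    obtain ⟨t, ht, a, h⟩ := σ.2
    by_cases hor : t ≠ 1 ∨ a = 0
    · right
      exact ⟨⟨t, ht⟩, by rw [(key σ t a ht h).2 hor, ← Subgroup.orderOf_coe]⟩
    · push Not at hor
      exact Or.inl ((key σ t a ht h).1 hor.1 hor.2)
  · rintro (rfl | ⟨t, rfl⟩)
    · let σ : affine T := ⟨Equiv.addRight 1, 1, T.one_mem, 1, fun x => by simp⟩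
      exact ⟨σ, (key σ 1 1 T.one_mem fun x => by simp [σ]).1 rfl one_ne_zero⟩
    · let σ : affine T := ⟨(t : Aˣ).mulLeft, t, t.2, 0, fun x => by simp⟩
      exact ⟨σ, by rw [(key σ t 0 t.2 fun x => by simp [σ]).2 (Or.inr rfl), Subgroup.orderOf_coe]⟩

theorem isSolvable_affine (h : Group.IsSolvable T) : Group.IsSolvable (affine T) := by
  have hval : ∀ σ : affine T, ∃ t : T, ∀ x, (σ : Equiv.Perm A) x = ((t : Aˣ) : A) * x + (σ : Equiv.Perm A) 0 := by
    rintro ⟨σ, t, ht, a, ha⟩
    exact ⟨⟨t, ht⟩, fun x => by simp [ha]⟩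
  choose f hf using hval
  have huniq : ∀ (σ : affine T) (t : T), (∀ x, (σ : Equiv.Perm A) x = ((t : Aˣ) : A) * x + (σ : Equiv.Perm A) 0) → f σ = t := by
    intro σ t ht
    exact Subtype.ext (Units.ext (by simpa using add_right_cancel ((hf σ 1).symm.trans (ht 1))))
  let φ : affine T →* T :=
    { toFun := f
      map_one' := huniq 1 1 fun x => by simp
      map_mul' := fun σ τ => huniq _ _ fun x => by
        rw [Subgroup.coe_mul, Equiv.Perm.mul_apply, Equiv.Perm.mul_apply, Subgroup.coe_mul, Units.val_mul,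
          hf τ x, hf σ (((f τ : Aˣ) : A) * x + (τ : Equiv.Perm A) 0), hf σ ((τ : Equiv.Perm A) 0)]
        rw [mul_add, mul_assoc, add_assoc] }
  have hk : Group.IsSolvable φ.ker := Group.isSolvable_of_comm fun σ τ => Subtype.ext (Subtype.ext (Equiv.ext fun x => by
    have e : ∀ ρ : φ.ker, ∀ x, ((ρ : affine T) : Equiv.Perm A) x = x + ((ρ : affine T) : Equiv.Perm A) 0 := fun ρ x => by
      have h1 : f (ρ : affine T) = 1 := ρ.2
      have := hf (ρ : affine T) x
      rwa [h1, OneMemClass.coe_one, Units.val_one, one_mul] at this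
    simp only [Subgroup.coe_mul, Equiv.Perm.mul_apply]
    rw [e σ (((τ : affine T) : Equiv.Perm A) x), e τ x, e τ (((σ : affine T) : Equiv.Perm A) x), e σ x]
    abel))
  exact Group.isSolvable_of_ker_le_range φ.ker.subtype φ (by rw [Subgroup.range_subtype])

/-- The recursion giving `M ^ k` in the basis `1, M, M ^ 2` when `M ^ 3 = a M ^ 2 - b M + 1`. -/
def step {R : Type*} [CommRing R] (a b : R) (c : R × R × R) : R × R × R :=
  (c.2.2, c.1 - b * c.2.2, c.2.1 + a * c.2.2)

theorem cubic {R : Type*} [CommRing R] (M : Matrix (Fin 3) (Fin 3) R) (hd : M.det = 1) :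
    M ^ 3 = M.trace • M ^ 2 - M.adjugate.trace • M + 1 := by
  have : M ^ 3 = M.trace • M ^ 2 - M.adjugate.trace • M + M.det • 1 := by
    ext i j
    fin_cases i <;> fin_cases j <;>
      simp [pow_succ, Matrix.mul_apply, Fin.sum_univ_three, Matrix.trace_fin_three, Matrix.adjugate_fin_three,
        Matrix.det_fin_three] <;> ring
  rwa [hd, one_smul] at this

theorem pow_eq_one_of_step {R S : Type*} [CommRing R] [CommRing S] (φ : R →+* S) (M : Matrix (Fin 3) (Fin 3) S)
    (hd : M.det = 1) {a b : R} (ha : φ a = M.trace) (hb : φ b = M.adjugate.trace) {k : ℕ}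
    (hk : (step a b)^[k] (1, 0, 0) = (1, 0, 0)) : M ^ k = 1 := by
  have h : ∀ n, M ^ n = φ ((step a b)^[n] (1, 0, 0)).1 • (1 : Matrix (Fin 3) (Fin 3) S) +
      φ ((step a b)^[n] (1, 0, 0)).2.1 • M + φ ((step a b)^[n] (1, 0, 0)).2.2 • M ^ 2 := by
    intro n
    induction n with
    | zero => simp
    | succ n ih =>
      rw [pow_succ', ih, Function.iterate_succ_apply']
      generalize (step a b)^[n] (1, 0, 0) = c
      simp only [step, map_sub, map_add, map_mul, ha, hb, mul_add, mul_smul_comm, mul_one]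
      rw [show M * M = M ^ 2 from (pow_two M).symm, show M * M ^ 2 = M ^ 3 from (pow_succ' M 2).symm, cubic M hd]
      module
  rw [h k, hk]
  simp

end Cfsg.Agent.Lie.UnitFrobenius
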