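import Mathlib
import Cfsg.Agent.Lib.Lie.UnitFrobenius
import Cfsg.Agent.Lib.Char.Burnside

/-!
Frobenius groups with complements given by a list of ring elements; spectra given by maximal orders.
-/

set_option autoImplicit false

namespace Cfsg.Agent.Lie.UnitFrobenius

theorem spectrum_eq {G : Type*} [Group G] (K : List ℕ) (hle : ∀ g : G, ∃ k ∈ K, g ^ k = 1)
    (hge : ∀ k ∈ K, ∃ g : G, orderOf g = k) (h0 : ∀ k ∈ K, 0 < k) :
    Set.range (orderOf : G → ℕ) = {n | ∃ k ∈ K, n ∣ k} := by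
  ext n
  constructor
  · rintro ⟨g, rfl⟩
    obtain ⟨k, hk, h⟩ := hle g
    exact ⟨k, hk, orderOf_dvd_of_pow_eq_one h⟩
  · rintro ⟨k, hk, hn⟩
    obtain ⟨g, hg⟩ := hge k hk
    have hd : k / n ∣ orderOf g := by rw [hg]; exact Nat.div_dvd_of_dvd hn
    refine ⟨g ^ (k / n), ?_⟩
    rw [orderOf_pow_of_dvd (fun h => ?_) hd, hg]
    · exact Nat.div_div_self hn (h0 k hk).ne'
    · rw [h, zero_dvd_iff, hg] at hd
      exact (h0 k hk).ne' hd

/-- A witness of the order `k` in a central quotient. -/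
theorem orderOf_mk_center {G : Type*} [Group G] (x : G) {k : ℕ} (hk : 0 < k) (h1 : x ^ k = 1)
    (h : ∀ j < k, 0 < j → ∃ y : G, y * x ^ j ≠ x ^ j * y) :
    orderOf (QuotientGroup.mk x : G ⧸ Subgroup.center G) = k := by
  refine (orderOf_eq_iff hk).2 ⟨by rw [← QuotientGroup.mk_pow, h1, QuotientGroup.mk_one], fun j hj hj0 e => ?_⟩
  rw [← QuotientGroup.mk_pow, QuotientGroup.eq_one_iff, Subgroup.mem_center_iff] at e
  obtain ⟨y, hy⟩ := h j hj hj0
  exact hy (e y)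

theorem list_frobenius {A : Type} [Ring A] [Finite A] [Nontrivial A] [DecidableEq A] {p : ℕ} [Fact p.Prime] [CharP A p]
    (L W : List A) (K : List ℕ) (n : ℕ) (hlen : L.length = n) (hnd : L.Nodup)
    (h1 : (1 : A) ∈ L) (hmul : ∀ x ∈ L, ∀ y ∈ L, x * y ∈ L) (hpow : ∀ x ∈ L, ∃ k ∈ K, x ^ k = 1)
    (hwit : ∀ k ∈ K, ∃ x ∈ L, x ^ k = 1 ∧ ∀ j < k, 0 < j → x ^ j ≠ 1)
    (hfpf : ∀ x ∈ L, x ≠ 1 → ∃ w ∈ W, (x - 1) * w = 1) (hK : ∀ k ∈ K, 0 < k)
    (hn : ∀ r : ℕ, r.Prime → r ∣ n → r = 2 ∨ r = 3) :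
    ∃ (H : Type) (_ : Group H) (_ : Fintype H), Group.IsSolvable H ∧
      Set.range (orderOf : H → ℕ) = {m | ∃ k ∈ p :: K, m ∣ k} := by
  let T : Subgroup Aˣ :=
    { carrier := {u | (u : A) ∈ L}
      one_mem' := h1
      mul_mem' := fun {u v} hu hv => hmul _ hu _ hv
      inv_mem' := fun {u} hu => by
        have hp : ∀ m : ℕ, ((u ^ m : Aˣ) : A) ∈ L := by
          intro m
          induction m with
          | zero => rw [pow_zero]; exact h1
          | succ m ih => rw [pow_succ, Units.val_mul]; exact hmul _ ih _ hu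
        have hpos := orderOf_pos u
        have hu' : u⁻¹ = u ^ (orderOf u - 1) := inv_eq_of_mul_eq_one_right (by
          rw [← pow_succ', Nat.sub_add_cancel hpos, pow_orderOf_eq_one])
        show ((u⁻¹ : Aˣ) : A) ∈ L
        rw [hu']; exact hp _ }
  have hmk : ∀ x ∈ L, ∃ t : T, ((t : Aˣ) : A) = x := fun x hx => by
    obtain ⟨k, hk, hx1⟩ := hpow x hx
    obtain ⟨u, rfl⟩ := IsUnit.of_pow_eq_one hx1 (hK k hk).ne'
    exact ⟨⟨u, hx⟩, rfl⟩
  have hcard : Nat.card T = n := by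
    rw [← hlen, ← List.toFinset_card_of_nodup hnd, ← Nat.card_eq_finsetCard]
    refine Nat.card_congr (Equiv.ofBijective (fun t => ⟨((t : Aˣ) : A), List.mem_toFinset.2 t.2⟩) ⟨fun s t h => ?_, fun x => ?_⟩)
    · exact Subtype.ext (Units.ext (congrArg Subtype.val h))
    · obtain ⟨t, ht⟩ := hmk x (List.mem_toFinset.1 x.2)
      exact ⟨t, Subtype.ext ht⟩
  have hsolT : Group.IsSolvable T :=
    Cfsg.Agent.Char.isSolvable_of_two_primes Nat.prime_two Nat.prime_three _ hcard hn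
  have hunit : ∀ t ∈ T, t ≠ 1 → IsUnit ((t : A) - 1) := fun t ht hne => by
    obtain ⟨w, -, hw⟩ := hfpf _ ht (fun h => hne (Units.ext h))
    exact IsUnit.of_mul_eq_one w hw
  haveI : Fintype (affine T) := Fintype.ofFinite _
  refine ⟨affine T, inferInstance, inferInstance, isSolvable_affine hsolT, ?_⟩
  rw [range_orderOf (p := p) hunit, spectrum_eq K (fun t => ?_) (fun k hk => ?_) hK]
  · ext m
    simp only [Set.mem_insert_iff, Set.mem_ofPred_eq, List.mem_cons, exists_eq_or_imp]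
    refine ⟨?_, ?_⟩
    · rintro (rfl | h)
      · exact Or.inl dvd_rfl
      · exact Or.inr h
    rintro (h | h)
    · rcases (Fact.out : p.Prime).eq_one_or_self_of_dvd m h with rfl | rfl
      · obtain ⟨k, hk, -⟩ := hpow 1 h1
        exact Or.inr ⟨k, hk, one_dvd k⟩
      · exact Or.inl rfl
    · exact Or.inr h
  · obtain ⟨k, hk, h⟩ := hpow _ t.2
    exact ⟨k, hk, Subtype.ext (Units.ext (by rw [SubmonoidClass.coe_pow, Units.val_pow_eq_pow_val, h]; rfl))⟩
  · obtain ⟨x, hx, hxk, hxj⟩ := hwit k hk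
    obtain ⟨t, rfl⟩ := hmk x hx
    refine ⟨t, (orderOf_eq_iff (hK k hk)).2 ⟨Subtype.ext (Units.ext (by rw [SubmonoidClass.coe_pow, Units.val_pow_eq_pow_val, hxk]; rfl)), fun j hj hj0 e => hxj j hj hj0 ?_⟩⟩
    rw [← Units.val_pow_eq_pow_val, ← SubmonoidClass.coe_pow, e]; rfl

end Cfsg.Agent.Lie.UnitFrobenius
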