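import Mathlib
import Cfsg.Agent.Lib.Lie.QuatFrobenius
/-! A solvable Frobenius group with kernel of exponent 13; certificates are checked by decide. -/
namespace Cfsg.Agent.Lie.Frob13

abbrev R := QuadraticAlgebra (ZMod 13) (2) 0

instance decEqQ : DecidableEq (Quaternion R) := fun a b =>
  decidable_of_iff (a.re = b.re ∧ a.imI = b.imI ∧ a.imJ = b.imJ ∧ a.imK = b.imK)
    ⟨fun h => QuaternionAlgebra.ext h.1 h.2.1 h.2.2.1 h.2.2.2, fun h => h ▸ ⟨rfl, rfl, rfl, rfl⟩⟩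

theorem char_cast : ((13 : ℕ) : Quaternion R) = 0 := by decide +kernel

theorem one_mem_cmpl_aux : (0 : Quaternion R) ≠ 1 := by decide +kernel

/-- A quaternion over `R`. -/
def q (a b c d e f g h : ZMod 13) : Quaternion R := ⟨⟨a, b⟩, ⟨c, d⟩, ⟨e, f⟩, ⟨g, h⟩⟩

/-- The complement. -/
def cmpl : List (Quaternion R) := [
    q 1 0 0 0 0 0 0 0,
    q 0 7 0 7 0 0 0 0,
    q 7 0 7 0 7 0 7 0,
    q 0 0 1 0 0 0 0 0,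
    q 0 0 0 7 0 0 0 7,
    q 0 0 0 7 0 7 0 0,
    q 6 0 7 0 7 0 7 0,
    q 0 6 0 7 0 0 0 0,
    q 6 0 7 0 6 0 7 0,
    q 0 6 0 0 0 0 0 7,
    q 6 0 7 0 7 0 6 0,
    q 0 6 0 0 0 7 0 0,
    q 12 0 0 0 0 0 0 0,
    q 0 6 0 0 0 6 0 0,
    q 6 0 6 0 6 0 7 0,
    q 6 0 6 0 7 0 7 0,
    q 0 6 0 6 0 0 0 0,
    q 0 6 0 0 0 0 0 6,
    q 6 0 7 0 6 0 6 0,
    q 6 0 6 0 7 0 6 0,
    q 6 0 6 0 6 0 6 0,
    q 0 0 0 6 0 6 0 0,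
    q 0 0 0 6 0 0 0 7,
    q 0 0 12 0 0 0 0 0,
    q 0 0 0 6 0 7 0 0,
    q 0 0 0 6 0 0 0 6,
    q 0 0 0 0 0 6 0 6,
    q 0 0 0 0 12 0 0 0,
    q 0 0 0 0 0 0 12 0,
    q 7 0 6 0 6 0 6 0,
    q 7 0 6 0 6 0 7 0,
    q 0 7 0 6 0 0 0 0,
    q 7 0 6 0 7 0 7 0,
    q 7 0 6 0 7 0 6 0,
    q 0 0 0 0 0 7 0 6,
    q 0 7 0 0 0 0 0 6,
    q 0 7 0 0 0 6 0 0,
    q 0 0 0 0 0 6 0 7,
    q 7 0 7 0 6 0 6 0,
    q 0 7 0 0 0 0 0 7,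
    q 0 7 0 0 0 7 0 0,
    q 0 0 0 0 1 0 0 0,
    q 7 0 7 0 7 0 6 0,
    q 0 0 0 7 0 0 0 6,
    q 7 0 7 0 6 0 7 0,
    q 0 0 0 0 0 0 1 0,
    q 0 0 0 7 0 6 0 0,
    q 0 0 0 0 0 7 0 7]

/-- Certificates of invertibility of `x - 1`. -/
def cert : List (Quaternion R) := [
    q 1 0 0 0 0 0 0 0,
    q 6 0 6 6 0 0 0 0,
    q 6 0 6 0 6 0 6 0,
    q 6 0 6 0 0 0 0 0,
    q 6 0 0 3 0 0 0 3,
    q 6 0 0 3 0 3 0 0,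
    q 6 0 2 0 2 0 2 0,
    q 6 0 7 6 0 0 0 0,
    q 6 0 2 0 11 0 2 0,
    q 6 0 0 0 0 0 7 6,
    q 6 0 2 0 2 0 11 0,
    q 6 0 0 0 7 6 0 0,
    q 6 0 0 0 0 0 0 0,
    q 6 0 0 0 6 7 0 0,
    q 6 0 11 0 11 0 2 0,
    q 6 0 11 0 2 0 2 0,
    q 6 0 6 7 0 0 0 0,
    q 6 0 0 0 0 0 6 7,
    q 6 0 2 0 11 0 11 0,
    q 6 0 11 0 2 0 11 0,
    q 6 0 11 0 11 0 11 0,
    q 6 0 0 10 0 10 0 0,
    q 6 0 0 10 0 0 0 3,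
    q 6 0 7 0 0 0 0 0,
    q 6 0 0 10 0 3 0 0,
    q 6 0 0 10 0 0 0 10,
    q 6 0 0 0 0 10 0 10,
    q 6 0 0 0 7 0 0 0,
    q 6 0 0 0 0 0 7 0,
    q 6 0 7 0 7 0 7 0,
    q 6 0 7 0 7 0 6 0,
    q 6 0 7 7 0 0 0 0,
    q 6 0 7 0 6 0 6 0,
    q 6 0 7 0 6 0 7 0,
    q 6 0 0 0 0 3 0 10,
    q 6 0 0 0 0 0 7 7,
    q 6 0 0 0 7 7 0 0,
    q 6 0 0 0 0 10 0 3,
    q 6 0 6 0 7 0 7 0,
    q 6 0 0 0 0 0 6 6,
    q 6 0 0 0 6 6 0 0,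
    q 6 0 0 0 6 0 0 0,
    q 6 0 6 0 6 0 7 0,
    q 6 0 0 3 0 0 0 10,
    q 6 0 6 0 7 0 6 0,
    q 6 0 0 0 0 0 6 0,
    q 6 0 0 3 0 10 0 0,
    q 6 0 0 0 0 3 0 3]

theorem cmpl_mul : ∀ x ∈ cmpl, ∀ y ∈ cmpl, x * y ∈ cmpl := by decide +kernel

theorem one_mem_cmpl : (1 : Quaternion R) ∈ cmpl := by decide +kernel

theorem cmpl_nodup : cmpl.Nodup := by decide +kernel

theorem cmpl_pow : ∀ x ∈ cmpl, ∃ k ∈ [6, 8], x ^ k = 1 := by decide +kernel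

theorem cmpl_wit : ∀ k ∈ [6, 8], ∃ x ∈ cmpl, x ^ k = 1 ∧ ∀ j < k, 0 < j → x ^ j ≠ 1 := by decide +kernel

theorem cmpl_fpf : ∀ x ∈ cmpl, x ≠ 1 → ∃ w ∈ cert, (x - 1) * w = 1 := by decide +kernel

theorem exists_solvable : ∃ (H : Type) (_ : Group H) (_ : Fintype H), Group.IsSolvable H ∧
    Set.range (orderOf : H → ℕ) = {m | ∃ k ∈ (13 :: [6, 8] : List ℕ), m ∣ k} := by
  haveI : Finite R := Finite.of_equiv _ (QuadraticAlgebra.equivProd (2 : ZMod 13) 0).symm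
  haveI : Finite (Quaternion R) := Finite.of_equiv _ (QuaternionAlgebra.equivProd (-1 : R) 0 (-1)).symm
  haveI : Fact (Nat.Prime 13) := ⟨by norm_num⟩
  haveI : CharP (Quaternion R) 13 := ringChar.of_eq (CharP.ringChar_of_prime_eq_zero (by norm_num) char_cast)
  haveI : Nontrivial (Quaternion R) := ⟨⟨0, 1, one_mem_cmpl_aux⟩⟩
  refine Cfsg.Agent.Lie.UnitFrobenius.list_frobenius (p := 13) cmpl cert [6, 8] 48 rfl cmpl_nodup one_mem_cmpl cmpl_mul cmpl_pow cmpl_wit cmpl_fpf (by decide) ?_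
  intro r hr hd
  have := Nat.le_of_dvd (by norm_num) hd
  interval_cases r <;> first | omega | norm_num at *
end Cfsg.Agent.Lie.Frob13
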