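import Mathlib
import Cfsg.Agent.Lib.Lie.RepG2
import Cfsg.Agent.Lib.Lie.RootMap
import Cfsg.Agent.Lib.Lie.FibrePower
import Cfsg.Agent.Lib.Lead.SemiSpec
import Cfsg.Agent.S1055
import Cfsg.Agent.S1059
import Cfsg.Agent.S1078

/-!
Arbitrarily large groups with the prime graph of the group of type G2 over the field with four elements.
-/

set_option autoImplicit false
set_option maxRecDepth 100000

namespace Cfsg.Agent.Lie.G2Four

open Cfsg.Lie Matrix
open scoped MatrixGroups

/-- A model of the field with four elements. -/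
abbrev R4 := QuadraticAlgebra (ZMod 2) 1 1

/-- Its generator. -/
def om : R4 := ⟨0, 1⟩

/-- Three test matrices. -/
def w7 : Matrix (Fin 6) (Fin 6) R4 := g2Six 0 1 * g2Six 4 1 * g2Six 9 1
/-- Order five. -/
def y5 : Matrix (Fin 6) (Fin 6) R4 := g2Six 7 1 * g2Six 4 om
/-- Order three. -/
def y3 : Matrix (Fin 6) (Fin 6) R4 := g2Six 7 1 * g2Six 4 1
/-- An involution. -/
def z2 : Matrix (Fin 6) (Fin 6) R4 := g2Six 11 1

/-- The inverse of `w7 + 1`. -/
def w7inv : Matrix (Fin 6) (Fin 6) R4 :=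
  !![1, 0, 0, 0, 1, 0; 0, 1, 1, 0, 0, 1; 0, 0, 1, 1, 0, 0; 0, 1, 0, 0, 1, 0; 0, 0, 1, 0, 0, 0; 1, 0, 0, 0, 0, 0]

theorem facts_w : w7inv * (w7 + 1) = 1 ∧ w7 * (w7 * (w7 * (w7 * (w7 * (w7 * w7))))) = 1 := by decide +kernel
theorem facts_y5 : y5 * (y5 * (y5 * (y5 * y5))) = 1 ∧ y5 * z2 = z2 * y5 ∧ y5 0 1 = 1 := by
  decide +kernel
theorem facts_y3 : y3 * (y3 * y3) = 1 ∧ y3 * z2 = z2 * y3 ∧ y3 0 1 = 1 := by decide +kernel
theorem facts_z : z2 * z2 = 1 ∧ z2 0 4 = 1 := by decide +kernel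

variable {F : Type*} [Field F] [Fintype F]

theorem exists_omega (hF : Fintype.card F = 4) : ∃ w : F, w * w = w + 1 := by
  classical
  haveI : Fact (Nat.Prime 2) := ⟨Nat.prime_two⟩
  haveI : CharP F 2 := charP_of_card_eq_prime_pow (f := 2) hF
  obtain ⟨a, -, ha⟩ := Finset.exists_mem_notMem_of_card_lt_card (s := ({0, 1} : Finset F)) (t := Finset.univ)
    (by rw [Finset.card_univ, hF]; exact lt_of_le_of_lt Finset.card_le_two (by norm_num))
  simp only [Finset.mem_insert, Finset.mem_singleton, not_or] at ha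
  have h3 := FiniteField.pow_card_sub_one_eq_one a ha.1
  rw [hF] at h3
  refine ⟨a, ?_⟩
  have h : (a - 1) * (a * a + a + 1) = 0 := by linear_combination h3
  rcases mul_eq_zero.1 h with h | h
  · exact absurd (sub_eq_zero.1 h) ha.2
  · have := CharTwo.add_self_eq_zero (a + 1)
    linear_combination h - this

/-- The field model maps into `F`. -/
theorem exists_map (hF : Fintype.card F = 4) : Nonempty (R4 →+* F) := by
  haveI : Fact (Nat.Prime 2) := ⟨Nat.prime_two⟩
  haveI : CharP F 2 := charP_of_card_eq_prime_pow (f := 2) hF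
  letI : Algebra (ZMod 2) F := ZMod.algebra F 2
  obtain ⟨w, hw⟩ := exists_omega hF
  exact ⟨(QuadraticAlgebra.lift (R := ZMod 2) (a := 1) (b := 1) ⟨w, by rw [one_smul, one_smul, hw, add_comm]⟩).toRingHom⟩

/-- The spectrum data of `L`. -/
theorem exists_large (hF : Fintype.card F = 4) (N : ℕ) :
    ∃ (H : Type) (_ : Group H) (_ : Finite H), N < Nat.card H ∧
      (∀ p : ℕ, p.Prime → (p ∈ Set.range (orderOf : chevG2.group F → ℕ) ↔ p ∈ Set.range (orderOf : H → ℕ))) ∧
      (∀ p q : ℕ, p.Prime → q.Prime → p ≠ q →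
        (p * q ∈ Set.range (orderOf : chevG2.group F → ℕ) ↔ p * q ∈ Set.range (orderOf : H → ℕ))) := by
  classical
  haveI : Fact (Nat.Prime 2) := ⟨Nat.prime_two⟩
  haveI : CharP F 2 := charP_of_card_eq_prime_pow (f := 2) hF
  obtain ⟨f⟩ := exists_map hF
  obtain ⟨φ, hφ⟩ := exists_g2Six (F := F)
  -- the presented group is the Chevalley group
  have hHst : StHyp chevG2 := stHyp_of_mem (by simp)
  have hker : (factsG2.proj F).ker = ⊥ := by
    rw [factsG2.ker_eq_center hHst hHst.2.2]; exact Cfsg.Agent.S1078.result chevG2 (by simp)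
  let e : chevG2.SteinbergGroup F ≃* ↥(chevG2.group F) :=
    (MonoidHom.ofInjective ((MonoidHom.ker_eq_bot_iff _).1 hker)).trans (MulEquiv.subgroupCongr factsG2.proj_range)
  let ρ : ↥(chevG2.group F) →* GL (Fin 6) F := φ.comp e.symm.toMonoidHom
  let gen : ℕ → F → ↥(chevG2.group F) := fun r t => e (chevG2.stGen F r t)
  have hgen : ∀ r (t : R4), (ρ (gen r (f t)) : Matrix (Fin 6) (Fin 6) F) = f.mapMatrix (g2Six r t) := by
    intro r t
    simp only [ρ, gen, MonoidHom.coe_comp, Function.comp_apply, MulEquiv.coe_toMonoidHom, MulEquiv.symm_apply_apply]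
    rw [hφ, ← g2Six_map]
    rfl
  set W := gen 0 (f 1) * gen 4 (f 1) * gen 9 (f 1) with hWdef
  set Y5 := gen 7 (f 1) * gen 4 (f om) with hY5def
  set Y3 := gen 7 (f 1) * gen 4 (f 1) with hY3def
  set Z := gen 11 (f 1) with hZdef
  have hW : (ρ W : Matrix (Fin 6) (Fin 6) F) = f.mapMatrix w7 := by
    rw [hWdef, map_mul, map_mul, Units.val_mul, Units.val_mul, hgen, hgen, hgen, ← map_mul, ← map_mul]; rfl
  have hY5 : (ρ Y5 : Matrix (Fin 6) (Fin 6) F) = f.mapMatrix y5 := by
    rw [hY5def, map_mul, Units.val_mul, hgen, hgen, ← map_mul]; rfl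
  have hY3 : (ρ Y3 : Matrix (Fin 6) (Fin 6) F) = f.mapMatrix y3 := by
    rw [hY3def, map_mul, Units.val_mul, hgen, hgen, ← map_mul]; rfl
  have hZ : (ρ Z : Matrix (Fin 6) (Fin 6) F) = f.mapMatrix z2 := by rw [hZdef, hgen]; rfl
  have hne : ∀ (g : ↥(chevG2.group F)) (A : Matrix (Fin 6) (Fin 6) R4), (ρ g : Matrix (Fin 6) (Fin 6) F) = f.mapMatrix A →
      (∃ i j, i ≠ j ∧ A i j = 1) → ρ g ≠ 1 := by
    rintro g A hA ⟨i, j, hij, h1⟩ h
    rw [h, Units.val_one] at hA
    have := congrFun (congrFun hA i) j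
    rw [Matrix.one_apply_ne hij, RingHom.mapMatrix_apply, Matrix.map_apply, h1, map_one] at this
    exact zero_ne_one this
  haveI : IsSimpleGroup ↥(chevG2.group F) := (Cfsg.Agent.S1055.result (F := F) (by
    obtain ⟨w, hw⟩ := exists_omega hF
    exact ⟨w, fun h => by simp [h] at hw, fun h => by simp [h] at hw⟩)).1
  have hinj : Function.Injective ρ := by
    rcases ρ.normal_ker.eq_bot_or_eq_top with h | h
    · exact (MonoidHom.ker_eq_bot_iff _).1 h
    · exact absurd (MonoidHom.mem_ker.1 (h ▸ Subgroup.mem_top Z)) (hne Z z2 hZ ⟨0, 4, by decide, facts_z.2⟩)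
  have hne1 : ∀ (g : ↥(chevG2.group F)) (A : Matrix (Fin 6) (Fin 6) R4), (ρ g : Matrix (Fin 6) (Fin 6) F) = f.mapMatrix A →
      (∃ i j, i ≠ j ∧ A i j = 1) → g ≠ 1 := fun g A hA hex h => hne g A hA hex (by rw [h, map_one])
  have hZ2 : orderOf Z = 2 := by
    refine orderOf_eq_prime ?_ (hne1 Z z2 hZ ⟨0, 4, by decide, facts_z.2⟩)
    refine hinj (Units.ext ?_)
    rw [map_pow, Units.val_pow_eq_pow_val, hZ, pow_two, ← map_mul, facts_z.1, map_one, map_one, Units.val_one]
  have hY5o : orderOf Y5 = 5 := by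
    haveI : Fact (Nat.Prime 5) := ⟨by norm_num⟩
    refine orderOf_eq_prime ?_ (hne1 Y5 y5 hY5 ⟨0, 1, by decide, facts_y5.2.2⟩)
    refine hinj (Units.ext ?_)
    rw [map_pow, Units.val_pow_eq_pow_val, hY5, ← map_pow,
      show y5 ^ 5 = 1 by simpa [pow_succ'] using facts_y5.1, map_one, map_one, Units.val_one]
  have hY3o : orderOf Y3 = 3 := by
    haveI : Fact (Nat.Prime 3) := ⟨by norm_num⟩
    refine orderOf_eq_prime ?_ (hne1 Y3 y3 hY3 ⟨0, 1, by decide, facts_y3.2.2⟩)
    refine hinj (Units.ext ?_)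
    rw [map_pow, Units.val_pow_eq_pow_val, hY3, ← map_pow,
      show y3 ^ 3 = 1 by simpa [pow_succ'] using facts_y3.1, map_one, map_one, Units.val_one]
  have hc5 : Commute Y5 Z := hinj (Units.ext (by
    rw [map_mul ρ Y5 Z, map_mul ρ Z Y5, Units.val_mul, Units.val_mul, hY5, hZ, ← map_mul, ← map_mul, facts_y5.2.1]))
  have hc3 : Commute Y3 Z := hinj (Units.ext (by
    rw [map_mul ρ Y3 Z, map_mul ρ Z Y3, Units.val_mul, Units.val_mul, hY3, hZ, ← map_mul, ← map_mul, facts_y3.2.1]))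
  have h10 : orderOf (Y5 * Z) = 2 * 5 := by
    rw [hc5.orderOf_mul_eq_mul_orderOf_of_coprime (by rw [hY5o, hZ2]; norm_num), hY5o, hZ2]
  have h6 : orderOf (Y3 * Z) = 2 * 3 := by
    rw [hc3.orderOf_mul_eq_mul_orderOf_of_coprime (by rw [hY3o, hZ2]; norm_num), hY3o, hZ2]
  have hcard : Nat.card ↥(chevG2.group F) = 4 ^ 6 * (4 ^ 2 - 1) * (4 ^ 6 - 1) := Cfsg.Agent.S1059.result hF
  -- the module
  letI : DistribMulAction ↥(chevG2.group F) (Fin 6 → F) :=
    { smul := fun g v => (ρ g : Matrix (Fin 6) (Fin 6) F) *ᵥ v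
      one_smul := fun v => by show (ρ 1 : Matrix (Fin 6) (Fin 6) F) *ᵥ v = v; rw [map_one, Units.val_one, Matrix.one_mulVec]
      mul_smul := fun g h v => by
        show (ρ (g * h) : Matrix (Fin 6) (Fin 6) F) *ᵥ v = (ρ g : Matrix (Fin 6) (Fin 6) F) *ᵥ ((ρ h : Matrix (Fin 6) (Fin 6) F) *ᵥ v)
        rw [map_mul, Units.val_mul, Matrix.mulVec_mulVec]
      smul_zero := fun g => Matrix.mulVec_zero _
      smul_add := fun g v w => Matrix.mulVec_add _ v w }
  have hsmul : ∀ (g : ↥(chevG2.group F)) (v : Fin 6 → F), g • v = (ρ g : Matrix (Fin 6) (Fin 6) F) *ᵥ v := fun _ _ => rfl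
  have hvv : ∀ v : Fin 6 → F, 2 • v = 0 := fun v => by rw [two_nsmul]; exact CharTwo.add_self_eq_zero v
  have hfix13 : ∀ g : ↥(chevG2.group F), orderOf g = 13 → ∀ v : Fin 6 → F, g • v = v → v = 0 := by
    intro g hg v hv
    haveI : Fact (Nat.Prime 13) := ⟨by norm_num⟩
    let K := LinearMap.ker (Matrix.mulVecLin ((ρ g : Matrix (Fin 6) (Fin 6) F) - 1))
    have hK : ∀ u, u ∈ K ↔ g • u = u := fun u => by
      rw [LinearMap.mem_ker, Matrix.mulVecLin_apply, Matrix.sub_mulVec, Matrix.one_mulVec, sub_eq_zero, hsmul]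
    have hP : IsPGroup 13 (Subgroup.zpowers g) :=
      IsPGroup.of_card (n := 1) (by rw [Nat.card_zpowers, hg, pow_one])
    have hmod := hP.card_modEq_card_fixedPoints (Fin 6 → F)
    have e : Nat.card (MulAction.fixedPoints (Subgroup.zpowers g) (Fin 6 → F)) = Nat.card K := by
      refine Nat.card_congr (Equiv.subtypeEquivRight fun u => ?_)
      rw [hK]
      refine ⟨fun h => h ⟨g, Subgroup.mem_zpowers g⟩, fun h x => ?_⟩
      obtain ⟨x, hx⟩ := x
      have hle : Subgroup.zpowers g ≤ MulAction.stabilizer _ u := Subgroup.zpowers_le.2 (MulAction.mem_stabilizer_iff.2 h)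
      exact MulAction.mem_stabilizer_iff.1 (hle hx)
    rw [e, Module.natCard_eq_pow_finrank (K := F) (V := K), Nat.card_fun, Nat.card_fin, Nat.card_eq_fintype_card, hF] at hmod
    have hd : Module.finrank F K ≤ 6 := (Submodule.finrank_le K).trans (by simp)
    rcases (show Module.finrank F K = 0 ∨ Module.finrank F K = 6 by
      generalize Module.finrank F K = d at hmod hd
      interval_cases d <;> first | omega | exact absurd hmod (by decide)) with h | h
    · have : v ∈ (⊥ : Submodule F (Fin 6 → F)) := (Submodule.finrank_eq_zero.1 h) ▸ (hK v).2 hv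
      simpa using this
    · exfalso
      have htop : K = ⊤ := Submodule.eq_top_of_finrank_eq (by rw [h]; simp)
      have h1 : ρ g = 1 := Units.ext (Matrix.ext_of_mulVec_single fun i => by
        have h' := (hK (Pi.single i 1)).1 (htop ▸ Submodule.mem_top)
        rw [hsmul] at h'
        rw [Units.val_one, Matrix.one_mulVec]
        exact h')
      rw [hinj (h1.trans (map_one ρ).symm), orderOf_one] at hg
      omega
  have hfixW : ∀ v : Fin 6 → F, W • v = v → v = 0 := by
    intro v hv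
    have h := congrArg (fun A : Matrix (Fin 6) (Fin 6) R4 => f.mapMatrix A) facts_w.1
    simp only [map_mul, map_add, map_one, ← hW] at h
    have := congrArg (fun A => A *ᵥ v) h
    simp only [← Matrix.mulVec_mulVec, Matrix.add_mulVec, Matrix.one_mulVec, ← hsmul, hv] at this
    rw [← two_nsmul, hvv, Matrix.mulVec_zero] at this
    exact this.symm
  have hfix7 : ∀ g : ↥(chevG2.group F), orderOf g = 7 → ∀ v : Fin 6 → F, g • v = v → v = 0 := by
    intro g hg v hv
    haveI : Fact (Nat.Prime 7) := ⟨by norm_num⟩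
    have hW7 : orderOf W = 7 := by
      refine orderOf_eq_prime ?_ (fun h => ?_)
      · refine hinj (Units.ext ?_)
        rw [map_pow, Units.val_pow_eq_pow_val, hW, ← map_pow,
          show w7 ^ 7 = 1 by simpa [pow_succ'] using facts_w.2, map_one, map_one, Units.val_one]
      · have h0 := hfixW (fun _ => 1) (by rw [h, one_smul])
        exact one_ne_zero (congrFun h0 0)
    have syl : ∀ a : ↥(chevG2.group F), orderOf a = 7 → ∃ S : Sylow 7 ↥(chevG2.group F), (S : Subgroup _) = Subgroup.zpowers a := by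
      intro a ha
      refine ⟨Sylow.ofCard (Subgroup.zpowers a) ?_, rfl⟩
      rw [Nat.card_zpowers, ha, hcard]
      have h2 : (4 ^ 6 * (4 ^ 2 - 1) * (4 ^ 6 - 1) : ℕ).factorization 7 = 1 := by
        rw [show (4 ^ 6 * (4 ^ 2 - 1) * (4 ^ 6 - 1) : ℕ) = 7 ^ 1 * 35942400 by norm_num,
          Nat.factorization_mul (by norm_num) (by norm_num), Finsupp.add_apply, Nat.Prime.factorization_pow (by norm_num),
          Finsupp.single_eq_same, Nat.factorization_eq_zero_of_not_dvd (by norm_num), add_zero]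
      rw [h2, pow_one]
    obtain ⟨S, hS⟩ := syl W hW7
    obtain ⟨T, hT⟩ := syl g hg
    obtain ⟨c, hc⟩ := MulAction.exists_smul_eq ↥(chevG2.group F) T S
    have hmem : c * g * c⁻¹ ∈ Subgroup.zpowers W := by
      rw [← hS, ← hc, Sylow.coe_subgroup_smul, Subgroup.mem_pointwise_smul_iff_inv_smul_mem, hT]
      simp [MulAut.conj_apply, mul_assoc]
    have hWle : Subgroup.zpowers W ≤ MulAction.stabilizer ↥(chevG2.group F) (c • v) := by
      have h1 : c * g * c⁻¹ ≠ 1 := fun h => by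
        rw [conj_eq_one_iff.1 h, orderOf_one] at hg; omega
      have h2 : Subgroup.zpowers (c * g * c⁻¹) = Subgroup.zpowers W := by
        refine Subgroup.eq_of_le_of_card_ge (Subgroup.zpowers_le.2 hmem) ?_
        rw [Nat.card_zpowers, Nat.card_zpowers, hW7]
        exact le_of_eq (by rw [← MulAut.conj_apply, MulEquiv.orderOf_eq, hg])
      rw [← h2, Subgroup.zpowers_le, MulAction.mem_stabilizer_iff, mul_smul, mul_smul, inv_smul_smul, hv]
    have h0 := hfixW (c • v) (MulAction.mem_stabilizer_iff.1 (hWle (Subgroup.mem_zpowers W)))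
    rwa [smul_eq_zero_iff_eq] at h0
  -- spectra
  haveI : Finite (SemiSpec.Semi ↥(chevG2.group F) (Fin 6 → F)) := SemiSpec.finite_semi ↥(chevG2.group F) (Fin 6 → F)
  haveI := SemiSpec.base_normal ↥(chevG2.group F) (Fin 6 → F)
  obtain ⟨H, iG, iF, hN, hH⟩ := exists_large_isospectral (SemiSpec.base ↥(chevG2.group F) (Fin 6 → F))
    (SemiSpec.base_ne_bot ↥(chevG2.group F) (Fin 6 → F)) Nat.prime_two (SemiSpec.base_pow ↥(chevG2.group F) (Fin 6 → F) hvv) N
  have hup : ∀ d, d ∈ Set.range (orderOf : ↥(chevG2.group F) → ℕ) → d ∈ Set.range (orderOf : SemiSpec.Semi ↥(chevG2.group F) (Fin 6 → F) → ℕ) := by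
    rintro _ ⟨g, rfl⟩; exact ⟨_, SemiSpec.orderOf_el_zero g⟩
  have hdvd : ∀ (g : ↥(chevG2.group F)) d, d ∣ orderOf g → d ∈ Set.range (orderOf : ↥(chevG2.group F) → ℕ) := fun g d hd =>
    ⟨g ^ (orderOf g / d), orderOf_pow_orderOf_div (orderOf_pos g).ne' hd⟩
  refine ⟨H, iG, inferInstance, by rwa [Nat.card_eq_fintype_card], fun p hp => ?_, fun p q hp hq hpq => ?_⟩
  · rw [hH]
    refine ⟨hup p, ?_⟩
    rintro ⟨x, hx⟩
    have h := SemiSpec.orderOf_dvd_mul hvv x
    rw [hx] at h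
    rcases hp.dvd_mul.1 h with h | h
    · rw [(Nat.prime_dvd_prime_iff_eq hp Nat.prime_two).1 h]; exact ⟨Z, hZ2⟩
    · exact hdvd _ _ h
  · rw [hH]
    refine ⟨hup _, ?_⟩
    rintro ⟨x, hx⟩
    have key : ∀ p q : ℕ, p.Prime → q.Prime → p ≠ q → orderOf x = p * q → q ≠ 2 → p * q ∈ Set.range (orderOf : ↥(chevG2.group F) → ℕ) := by
      intro p q hp hq hpq hx hq2
      have h := SemiSpec.orderOf_dvd_mul hvv x
      have hr := SemiSpec.orderOf_right_dvd x
      rw [hx] at h hr
      have hqr : q ∣ orderOf x.right := by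
        rcases hq.dvd_mul.1 ((dvd_mul_left q p).trans h) with h' | h'
        · exact absurd ((Nat.prime_dvd_prime_iff_eq hq Nat.prime_two).1 h') hq2
        · exact h'
      by_cases hpr : p ∣ orderOf x.right
      · exact hdvd _ _ (((Nat.coprime_primes hp hq).2 hpq).mul_dvd_of_dvd_of_dvd hpr hqr)
      have hp2 : p = 2 := by
        rcases hp.dvd_mul.1 ((dvd_mul_right p q).trans h) with h' | h'
        · exact (Nat.prime_dvd_prime_iff_eq hp Nat.prime_two).1 h'
        · exact absurd h' hpr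
      have ho : orderOf x.right = q := by
        refine Nat.dvd_antisymm ?_ hqr
        exact ((hp.coprime_iff_not_dvd.2 hpr).symm).dvd_of_dvd_mul_left hr
      have hnf : ¬ ∀ v : Fin 6 → F, x.right • v = v → v = 0 := fun hf => by
        have := SemiSpec.orderOf_eq_of_fpf x hf
        rw [hx, ho] at this
        exact hp.ne_one (Nat.eq_of_mul_eq_mul_right hq.pos (this.trans (one_mul q).symm))
      have hqd : q ∣ 4 ^ 6 * (4 ^ 2 - 1) * (4 ^ 6 - 1) := hcard ▸ ho ▸ orderOf_dvd_natCard x.right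
      rw [show (4 ^ 6 * (4 ^ 2 - 1) * (4 ^ 6 - 1) : ℕ) = 2 ^ 12 * 3 ^ 3 * 5 ^ 2 * 7 * 13 by norm_num] at hqd
      have e : ∀ {r k : ℕ}, r.Prime → q ∣ r ^ k → q = r := fun hr h =>
        (Nat.prime_dvd_prime_iff_eq hq hr).1 (hq.dvd_of_dvd_pow h)
      rcases hq.dvd_mul.1 hqd with hqd | hqd
      · rcases hq.dvd_mul.1 hqd with hqd | hqd
        · rcases hq.dvd_mul.1 hqd with hqd | hqd
          · rcases hq.dvd_mul.1 hqd with hqd | hqd
            · exact absurd (e Nat.prime_two hqd) hq2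
            · rw [hp2, e Nat.prime_three hqd]; exact ⟨_, h6⟩
          · rw [hp2, e (by norm_num) hqd]; exact ⟨_, h10⟩
        · exact absurd (hfix7 _ (ho.trans ((Nat.prime_dvd_prime_iff_eq hq (by norm_num)).1 hqd))) hnf
      · exact absurd (hfix13 _ (ho.trans ((Nat.prime_dvd_prime_iff_eq hq (by norm_num)).1 hqd))) hnf
    by_cases hq2 : q = 2
    · have := key q p hq hp (Ne.symm hpq) (by rw [hx, mul_comm]) (by rintro rfl; exact hpq hq2.symm)
      rwa [mul_comm] at this
    · exact key p q hp hq hpq hx hq2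

end Cfsg.Agent.Lie.G2Four
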