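import Mathlib
import Cfsg.Agent.Lib.Lie.G2CubicTorus
import Cfsg.Agent.Lib.Classical.Dickson.Tools
import Cfsg.Agent.S1059

/-!
The group of type G2 over three elements and PSL(2,13) have the same prime graph.
-/

set_option autoImplicit false
set_option maxRecDepth 10000

namespace Cfsg.Agent.Lie.G2Three

open Cfsg.Lie Matrix Cfsg.Agent.Lie.G2Seven
open scoped MatrixGroups

/-! ### The projective group -/

/-- Coefficients of the powers of a matrix of trace t and determinant one. -/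
def ab {R : Type*} [CommRing R] (t : R) : ℕ → R × R
  | 0 => (0, 1)
  | n + 1 => ((ab t n).1 * t + (ab t n).2, -(ab t n).1)

theorem ab_map {R S : Type*} [CommRing R] [CommRing S] (f : R →+* S) (t : R) :
    ∀ n, ab (f t) n = (f (ab t n).1, f (ab t n).2)
  | 0 => by simp [ab]
  | n + 1 => by rw [ab, ab, ab_map f t n]; simp

theorem chk13 : ∀ t : ZMod 13, ∃ k ∈ ({6, 7, 13} : Finset ℕ), (ab t k).1 = 0 ∧ (ab t k).2 ^ 2 = 1 := by
  decide +kernel

/-- A matrix of projective order six. -/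
def w6 : Matrix (Fin 2) (Fin 2) (ZMod 13) := !![4, -1; 1, 0]

theorem chk_w6 : w6.det = 1 ∧ w6 ^ 6 = -1 ∧ (w6 ^ 2) 1 0 ≠ 0 ∧ (w6 ^ 3) 1 0 ≠ 0 := by decide +kernel

variable {E : Type*} [Field E]

theorem psl_pow [Fintype E] (hE : Fintype.card E = 13) (x : Matrix.ProjectiveSpecialLinearGroup (Fin 2) E) :
    x ^ 6 = 1 ∨ x ^ 7 = 1 ∨ x ^ 13 = 1 := by
  obtain ⟨g, rfl⟩ := QuotientGroup.mk_surjective x
  let f : ZMod 13 ≃+* E := ZMod.ringEquivOfPrime E (by norm_num) hE
  set A := (g : Matrix (Fin 2) (Fin 2) E) with hA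
  have hdet : A.det = 1 := g.2
  have hpow : ∀ n, A ^ n = (ab A.trace n).1 • A + (ab A.trace n).2 • (1 : Matrix (Fin 2) (Fin 2) E) := by
    intro n
    induction n with
    | zero => simp [ab]
    | succ n ih =>
      have hch : A * A = A.trace • A - (1 : Matrix (Fin 2) (Fin 2) E) := by
        have h : A 0 0 * A 1 1 - A 0 1 * A 1 0 = 1 := by rw [← Matrix.det_fin_two, hdet]
        ext i j
        fin_cases i <;> fin_cases j <;>
          simp [Matrix.mul_apply, Fin.sum_univ_two, Matrix.trace_fin_two] <;>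
          first | linear_combination (-1 : E) * h | linear_combination h | ring
      rw [pow_succ, ih, add_mul, smul_mul_assoc, smul_mul_assoc, one_mul, hch, ab]
      module
  obtain ⟨k, hk, ha, hb⟩ := chk13 (f.symm A.trace)
  have hk1 : ((g : Matrix.SpecialLinearGroup (Fin 2) E) : Matrix.ProjectiveSpecialLinearGroup (Fin 2) E) ^ k = 1 := by
    rw [← QuotientGroup.mk_pow, QuotientGroup.eq_one_iff, Matrix.SpecialLinearGroup.mem_center_iff]
    refine ⟨f (ab (f.symm A.trace) k).2, by rw [Fintype.card_fin, ← map_pow, hb, map_one], ?_⟩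
    have h := hpow k
    have h2 := ab_map f.toRingHom (f.symm A.trace) k
    simp only [RingEquiv.toRingHom_eq_coe, RingEquiv.coe_toRingHom, RingEquiv.apply_symm_apply] at h2
    rw [h2, ha, map_zero, zero_smul, zero_add] at h
    rw [Matrix.SpecialLinearGroup.coe_pow, ← hA, h, Matrix.scalar_apply, Matrix.smul_one_eq_diagonal]
  simp only [Finset.mem_insert, Finset.mem_singleton] at hk
  rcases hk with rfl | rfl | rfl
  exacts [Or.inl hk1, Or.inr (Or.inl hk1), Or.inr (Or.inr hk1)]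

theorem psl_six [Fintype E] (hE : Fintype.card E = 13) :
    ∃ x : Matrix.ProjectiveSpecialLinearGroup (Fin 2) E, orderOf x = 6 := by
  let f : ZMod 13 ≃+* E := ZMod.ringEquivOfPrime E (by norm_num) hE
  let g : Matrix.SpecialLinearGroup (Fin 2) E :=
    Matrix.SpecialLinearGroup.map f.toRingHom ⟨w6, chk_w6.1⟩
  have hg : ∀ k, ((g ^ k : Matrix.SpecialLinearGroup (Fin 2) E) : Matrix (Fin 2) (Fin 2) E) =
      f.toRingHom.mapMatrix (w6 ^ k) := by
    intro k; rw [Matrix.SpecialLinearGroup.coe_pow, map_pow]; rfl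
  refine ⟨(g : Matrix.ProjectiveSpecialLinearGroup (Fin 2) E), (orderOf_eq_iff (by norm_num)).2 ⟨?_, ?_⟩⟩
  · rw [← QuotientGroup.mk_pow, QuotientGroup.eq_one_iff, Matrix.SpecialLinearGroup.mem_center_iff]
    refine ⟨-1, by simp, ?_⟩
    rw [hg, chk_w6.2.1, map_neg, map_one, map_neg, map_one]
  · intro k hk6 hk0 hk
    rw [← QuotientGroup.mk_pow, QuotientGroup.eq_one_iff, Matrix.SpecialLinearGroup.mem_center_iff] at hk
    have hne : ∀ j, (w6 ^ j) 1 0 ≠ 0 → ¬ ∃ r : E, r ^ Fintype.card (Fin 2) = 1 ∧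
        Matrix.scalar (Fin 2) r = ((g ^ j : Matrix.SpecialLinearGroup (Fin 2) E) : Matrix (Fin 2) (Fin 2) E) := by
      rintro j hj ⟨r, -, hr⟩
      rw [hg] at hr
      have := congrFun (congrFun hr 1) 0
      simp only [Matrix.scalar_apply, Matrix.diagonal_apply_ne _ (by decide : (1 : Fin 2) ≠ 0),
        RingHom.mapMatrix_apply, Matrix.map_apply] at this
      exact hj (f.injective (this.symm.trans (map_zero f).symm))
    have hmem : g ^ k ∈ Subgroup.center (Matrix.SpecialLinearGroup (Fin 2) E) :=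
      Matrix.SpecialLinearGroup.mem_center_iff.2 hk
    have h2 := fun j (hj : k ∣ j) => Matrix.SpecialLinearGroup.mem_center_iff.1
      (show g ^ j ∈ Subgroup.center (Matrix.SpecialLinearGroup (Fin 2) E) by
        obtain ⟨i, rfl⟩ := hj; rw [pow_mul]; exact pow_mem hmem i)
    interval_cases k
    · exact hne 2 chk_w6.2.2.1 (h2 2 (by norm_num))
    · exact hne 2 chk_w6.2.2.1 (h2 2 (by norm_num))
    · exact hne 3 chk_w6.2.2.2 (h2 3 (by norm_num))
    · have h4 := h2 4 dvd_rfl
      have h6 : g ^ 6 ∈ Subgroup.center (Matrix.SpecialLinearGroup (Fin 2) E) := by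
        refine Matrix.SpecialLinearGroup.mem_center_iff.2 ⟨-1, by simp, ?_⟩
        rw [hg, chk_w6.2.1, map_neg, map_one, map_neg, map_one]
      refine hne 2 chk_w6.2.2.1 (Matrix.SpecialLinearGroup.mem_center_iff.1 ?_)
      rw [show g ^ 2 = (g ^ 4)⁻¹ * g ^ 6 by group]
      exact mul_mem (inv_mem hmem) h6
    · have h6 : g ^ 6 ∈ Subgroup.center (Matrix.SpecialLinearGroup (Fin 2) E) := by
        refine Matrix.SpecialLinearGroup.mem_center_iff.2 ⟨-1, by simp, ?_⟩
        rw [hg, chk_w6.2.1, map_neg, map_one, map_neg, map_one]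
      have h1 : g ∈ Subgroup.center (Matrix.SpecialLinearGroup (Fin 2) E) := by
        rw [show g = (g ^ 5)⁻¹ * g ^ 6 by group]
        exact mul_mem (inv_mem hmem) h6
      exact hne 2 chk_w6.2.2.1 (Matrix.SpecialLinearGroup.mem_center_iff.1 (pow_mem h1 2))

/-! ### The matrix argument for the elements of order seven -/

variable {F : Type*} [Field F]

/-- The trilinear form. -/
def phi (u v w : Fin 7 → F) : F := ∑ a, u a * (v ⬝ᵥ (M F a *ᵥ w))

theorem phi_pres {X : Matrix (Fin 7) (Fin 7) F} (h : Pres X) (u v w : Fin 7 → F) :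
    phi (X *ᵥ u) (X *ᵥ v) (X *ᵥ w) = phi u v w := by
  have e : ∀ b, (X *ᵥ v) ⬝ᵥ ((∑ a, X a b • M F a) *ᵥ (X *ᵥ w)) = v ⬝ᵥ (M F b *ᵥ w) := by
    intro b
    rw [← h.2 b, ← Matrix.mulVec_mulVec, ← Matrix.mulVec_mulVec]
    simp only [Matrix.dotProduct_mulVec, Matrix.vecMul_transpose]
  unfold phi
  calc ∑ a, (X *ᵥ u) a * ((X *ᵥ v) ⬝ᵥ (M F a *ᵥ (X *ᵥ w)))
      = ∑ b, u b * ((X *ᵥ v) ⬝ᵥ ((∑ a, X a b • M F a) *ᵥ (X *ᵥ w))) := by
        simp only [Matrix.sum_mulVec, dotProduct_sum, Matrix.smul_mulVec, dotProduct_smul, Finset.mul_sum,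
          smul_eq_mul]
        rw [Finset.sum_comm]
        refine Finset.sum_congr rfl fun a _ => ?_
        rw [show (X *ᵥ u) a = ∑ b, X a b * u b from rfl, Finset.sum_mul]
        exact Finset.sum_congr rfl fun b _ => by ring
    _ = ∑ b, u b * (v ⬝ᵥ (M F b *ᵥ w)) := Finset.sum_congr rfl fun b _ => by rw [e]

theorem phi_neg (u v w : Fin 7 → F) : phi (-u) (-v) (-w) = -phi u v w := by
  simp [phi, Matrix.mulVec_neg]

theorem phi_expl (u v w : Fin 7 → F) : phi u v w =
    -(u 0 * (v 3 * w 6 - v 6 * w 3) + u 3 * (v 6 * w 0 - v 0 * w 6) + u 6 * (v 0 * w 3 - v 3 * w 0)) +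
    (u 0 * (v 4 * w 5 - v 5 * w 4) + u 4 * (v 5 * w 0 - v 0 * w 5) + u 5 * (v 0 * w 4 - v 4 * w 0)) +
    (u 1 * (v 2 * w 6 - v 6 * w 2) + u 2 * (v 6 * w 1 - v 1 * w 6) + u 6 * (v 1 * w 2 - v 2 * w 1)) -
    (u 1 * (v 3 * w 5 - v 5 * w 3) + u 3 * (v 5 * w 1 - v 1 * w 5) + u 5 * (v 1 * w 3 - v 3 * w 1)) +
    (u 2 * (v 3 * w 4 - v 4 * w 3) + u 3 * (v 4 * w 2 - v 2 * w 4) + u 4 * (v 2 * w 3 - v 3 * w 2)) := by
  simp [phi, dotProduct, Fin.sum_univ_seven, Matrix.mulVec, M, phiL, matUnit_apply, Tm.ev]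
  ring

theorem coordinate_zero (l : Fin 7 → F)
    (h : ∀ u v w : Fin 7 → F, l ⬝ᵥ u = 0 → l ⬝ᵥ v = 0 → l ⬝ᵥ w = 0 → phi u v w = 0) (n : Fin 7) : l n = 0 := by
  let e : Fin 7 → Fin 7 → F := fun i => Pi.single i (l n) - Pi.single n (l i)
  have he : ∀ i, l ⬝ᵥ e i = 0 := by
    intro i; simp [e, dotProduct_sub, mul_comm]
  have h1 := h (e 0) (e 4) (e 5) (he _) (he _) (he _)
  have h2 := h (e 1) (e 2) (e 6) (he _) (he _) (he _)
  rw [phi_expl] at h1 h2
  fin_cases n <;> simp [e, Pi.single_apply] at h1 h2 ⊢ <;>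
    first | exact h1 | exact h2 | simpa using pow_eq_zero_iff (show 3 ≠ 0 by norm_num) |>.1 h1

theorem no_commuting {r : ℕ} [Fintype F] (hF : Fintype.card F = 3) (hr : r = 2 ∨ r = 3)
    {X H : Matrix (Fin 7) (Fin 7) F} (hX7 : X ^ 7 = 1) (hX1 : X ≠ 1) (hc : Commute H X) (hHr : H ^ r = 1)
    (hH1 : H ≠ 1) (hdet : H.det = 1) (hP : Pres H) : False := by
  classical
  haveI : Fact (Nat.Prime 3) := ⟨by norm_num⟩
  haveI : Fact (Nat.Prime 7) := ⟨by norm_num⟩
  haveI : CharP F 3 := charP_of_card_eq_prime hF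
  have h30 : (3 : F) = 0 := by exact_mod_cast CharP.cast_eq_zero F 3
  have hcube : ∀ c : F, c ^ 3 = c := fun c => by have := FiniteField.pow_card c; rwa [hF] at this
  set P := ∑ i ∈ Finset.range 7, X ^ i with hPdef
  have hPX : P * X = P := by
    have h := geom_sum_mul X 7
    rw [hX7, sub_self, ← hPdef, mul_sub, mul_one, sub_eq_zero] at h
    exact h
  have hXP : X * P = P := by
    have h := mul_geom_sum X 7
    rw [hX7, sub_self, ← hPdef, sub_mul, one_mul, sub_eq_zero] at h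
    exact h
  have hHP : H * P = P * H := Commute.sum_right _ _ _ fun i _ => hc.pow_right i
  have h7 : ∀ v : Fin 7 → F, (7 : ℕ) • v = v := by
    intro v; funext i
    rw [Pi.smul_apply, nsmul_eq_mul]
    linear_combination (2 * v i) * h30
  have hPfix : ∀ v : Fin 7 → F, X *ᵥ v = v → P *ᵥ v = v := by
    intro v hv
    have hpow : ∀ i : ℕ, X ^ i *ᵥ v = v := by
      intro i; induction i with
      | zero => simp
      | succ i ih => rw [pow_succ, ← Matrix.mulVec_mulVec, hv, ih]
    rw [hPdef, Matrix.sum_mulVec, Finset.sum_congr rfl fun i _ => hpow i, Finset.sum_const, Finset.card_range, h7]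
  have hPP : ∀ v, P *ᵥ (P *ᵥ v) = P *ᵥ v := fun v => hPfix _ (by rw [Matrix.mulVec_mulVec, hXP])
  let W : Submodule F (Fin 7 → F) := LinearMap.ker (Matrix.mulVecLin P)
  have hW : ∀ v, v ∈ W ↔ P *ᵥ v = 0 := fun v => by simp [W]
  have key : ∀ S : Submodule F (Fin 7 → F), S ≤ W → (∀ v ∈ S, X *ᵥ v ∈ S) →
      Module.finrank F S = 0 ∨ Module.finrank F S = 6 := by
    intro S hSW hS
    have hSp : ∀ k : ℕ, ∀ v ∈ S, X ^ k *ᵥ v ∈ S := by
      intro k; induction k with
      | zero => intro v hv; simpa using hv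
      | succ k ih => intro v hv; rw [pow_succ, ← Matrix.mulVec_mulVec]; exact ih _ (hS v hv)
    let σ : Equiv.Perm S :=
      { toFun := fun v => ⟨X *ᵥ v.1, hS _ v.2⟩
        invFun := fun v => ⟨X ^ 6 *ᵥ v.1, hSp 6 _ v.2⟩
        left_inv := fun v => Subtype.ext (by
          show X ^ 6 *ᵥ (X *ᵥ v.1) = v.1
          rw [Matrix.mulVec_mulVec, ← pow_succ, hX7, Matrix.one_mulVec])
        right_inv := fun v => Subtype.ext (by
          show X *ᵥ (X ^ 6 *ᵥ v.1) = v.1
          rw [Matrix.mulVec_mulVec, ← pow_succ', hX7, Matrix.one_mulVec]) }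
    have hσ : ∀ (k : ℕ) (v : S), ((σ ^ k) v).1 = X ^ k *ᵥ v.1 := by
      intro k; induction k with
      | zero => intro v; simp
      | succ k ih =>
        intro v
        rw [pow_succ', Equiv.Perm.mul_apply, pow_succ', ← Matrix.mulVec_mulVec, ← ih v]; rfl
    have hσ7 : σ ^ 7 ^ 1 = 1 := by
      ext v
      rw [hσ, pow_one, hX7, Matrix.one_mulVec]; rfl
    haveI : Fintype S := Fintype.ofFinite S
    have h := Equiv.Perm.card_compl_support_modEq (σ := σ) hσ7
    have hsupp : σ.supportᶜ = ({0} : Finset S) := by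
      ext v
      rw [Finset.mem_compl, Equiv.Perm.mem_support, not_not, Finset.mem_singleton]
      refine ⟨fun hv => ?_, fun hv => ?_⟩
      · have h1 : X *ᵥ v.1 = v.1 := congrArg Subtype.val hv
        exact Subtype.ext ((hPfix _ h1).symm.trans ((hW _).1 (hSW v.2)))
      · subst hv; exact Subtype.ext (Matrix.mulVec_zero X)
    rw [hsupp, Finset.card_singleton, Module.card_eq_pow_finrank (K := F), hF] at h
    have hle := Submodule.finrank_le S
    rw [Module.finrank_fin_fun] at hle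
    generalize Module.finrank F S = d at h hle
    interval_cases d <;> simp_all (config := { decide := true }) [Nat.ModEq]
  have hW0 : Module.finrank F W ≠ 0 := by
    intro h0
    rw [Submodule.finrank_eq_zero] at h0
    refine hX1 (Matrix.ext_of_mulVec_single fun i => ?_)
    have hm : X *ᵥ Pi.single i 1 - Pi.single i 1 ∈ W := by
      rw [hW, Matrix.mulVec_sub, Matrix.mulVec_mulVec, hPX, sub_self]
    rw [h0, Submodule.mem_bot, sub_eq_zero] at hm
    rw [hm, Matrix.one_mulVec]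
  have hXW : ∀ v ∈ W, X *ᵥ v ∈ W := fun v hv => by
    rw [hW, Matrix.mulVec_mulVec, hPX]; exact (hW v).1 hv
  have hW6 : Module.finrank F W = 6 := (key W le_rfl hXW).resolve_left hW0
  have hL : Module.finrank F (LinearMap.range (Matrix.mulVecLin P)) = 1 := by
    have := LinearMap.finrank_range_add_finrank_ker (Matrix.mulVecLin P)
    rw [hW6, Module.finrank_fin_fun] at this
    omega
  obtain ⟨⟨e, he⟩, he0, hspan⟩ := finrank_eq_one_iff'.1 hL
  have hPe : P *ᵥ e = e := by
    obtain ⟨v, rfl⟩ := he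
    exact hPP v
  choose f hf using fun v : Fin 7 → F => hspan ⟨P *ᵥ v, LinearMap.mem_range.2 ⟨v, rfl⟩⟩
  have hf' : ∀ v, f v • e = P *ᵥ v := fun v => congrArg Subtype.val (hf v)
  have he0' : e ≠ 0 := fun h => he0 (Subtype.ext h)
  obtain ⟨c, hc'⟩ : ∃ c : F, H *ᵥ e = c • e := by
    refine ⟨f (H *ᵥ e), ?_⟩
    rw [hf', Matrix.mulVec_mulVec, ← hHP, ← Matrix.mulVec_mulVec, hPe]
  let l : Fin 7 → F := fun i => f (Pi.single i 1)
  have hPvec : P = Matrix.vecMulVec e l := by
    ext i j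
    have := congrFun (hf' (Pi.single j 1)) i
    rw [Matrix.mulVec_single_one] at this
    rw [Matrix.vecMulVec_apply, mul_comm]
    exact this.symm
  have hle1 : l ⬝ᵥ e = 1 := by
    have h1 := hPe
    rw [hPvec, Matrix.vecMulVec_mulVec, op_smul_eq_smul] at h1
    obtain ⟨i, hi⟩ := Function.ne_iff.1 he0'
    have h2 := congrFun h1 i
    rw [Pi.smul_apply, smul_eq_mul] at h2
    exact mul_right_cancel₀ hi (h2.trans (one_mul _).symm)
  have hlW : ∀ v, l ⬝ᵥ v = 0 → v ∈ W := fun v hv => by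
    rw [hW, hPvec, Matrix.vecMulVec_mulVec, hv]; simp
  have hdec : ∀ s : F, (∀ v ∈ W, H *ᵥ v = s • v) → H = s • 1 + (c - s) • P := by
    intro s hs
    refine Matrix.ext_of_mulVec_single fun i => ?_
    set v : Fin 7 → F := Pi.single i 1
    have hv : v - P *ᵥ v ∈ W := by rw [hW, Matrix.mulVec_sub, hPP, sub_self]
    have h1 : H *ᵥ v = s • (v - P *ᵥ v) + c • (P *ᵥ v) := by
      have := hs _ hv
      rw [Matrix.mulVec_sub, sub_eq_iff_eq_add] at this
      rw [this, ← hf' v, Matrix.mulVec_smul, hc', smul_comm (f v)]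
    rw [h1, Matrix.add_mulVec, Matrix.smul_mulVec, Matrix.smul_mulVec, Matrix.one_mulVec]
    module
  have hcr : c ^ r = 1 := by
    have h1 : ∀ k : ℕ, H ^ k *ᵥ e = c ^ k • e := by
      intro k; induction k with
      | zero => simp
      | succ k ih => rw [pow_succ, ← Matrix.mulVec_mulVec, hc', Matrix.mulVec_smul, ih, smul_smul, pow_succ']
    have h2 := h1 r
    rw [hHr, Matrix.one_mulVec] at h2
    obtain ⟨i, hi⟩ := Function.ne_iff.1 he0'
    have h3 := congrFun h2 i
    rw [Pi.smul_apply, smul_eq_mul] at h3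
    exact (mul_right_cancel₀ hi (h3.symm.trans (one_mul _).symm))
  have hfixN : ∀ N : Matrix (Fin 7) (Fin 7) F, Commute N X →
      (∀ v ∈ W, N *ᵥ v = 0) ∨ (∀ v ∈ W, N *ᵥ v = 0 → v = 0) := by
    intro N hN
    rcases key (W ⊓ LinearMap.ker (Matrix.mulVecLin N)) inf_le_left (fun v hv => ⟨hXW v hv.1, by
      have := hv.2
      simp only [SetLike.mem_coe, LinearMap.mem_ker, Matrix.mulVecLin_apply] at this ⊢
      rw [Matrix.mulVec_mulVec, hN.eq, ← Matrix.mulVec_mulVec, this, Matrix.mulVec_zero]⟩) with h0 | h6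
    · right
      intro v hv hNv
      rw [Submodule.finrank_eq_zero] at h0
      exact (Submodule.mem_bot F).1 (h0 ▸ (⟨hv, by simpa using hNv⟩ : v ∈ W ⊓ LinearMap.ker (Matrix.mulVecLin N)))
    · left
      intro v hv
      have := Submodule.eq_of_le_of_finrank_eq (inf_le_left : W ⊓ LinearMap.ker (Matrix.mulVecLin N) ≤ W)
        (h6.trans hW6.symm)
      rw [← this] at hv
      simpa using hv.2
  have hHW : ∀ v ∈ W, H *ᵥ v ∈ W := fun v hv => by
    rw [hW, Matrix.mulVec_mulVec, ← hHP, ← Matrix.mulVec_mulVec, (hW v).1 hv, Matrix.mulVec_zero]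
  have hN1 : Commute (H - 1) X := hc.sub_left (Commute.one_left X)
  have hNW : ∀ v ∈ W, (H - 1) *ᵥ v ∈ W := fun v hv => by
    rw [Matrix.sub_mulVec, Matrix.one_mulVec]; exact W.sub_mem (hHW v hv) hv
  obtain ⟨v0, hv0, hv0'⟩ : ∃ v ∈ W, v ≠ 0 := by
    refine (Submodule.ne_bot_iff W).1 fun h => ?_
    rw [h, finrank_bot] at hW6
    omega
  have hone : ∀ v ∈ W, (H - 1) *ᵥ v = 0 → H *ᵥ v = (1 : F) • v := fun v _ h => by
    rw [Matrix.sub_mulVec, Matrix.one_mulVec, sub_eq_zero] at h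
    rw [h, one_smul]
  rcases hr with rfl | rfl
  · have hc2 : c = 1 ∨ c = -1 := by
      rw [sq_eq_one_iff] at hcr
      exact hcr
    rcases hfixN (H - 1) hN1 with h | h
    · have hd := hdec 1 fun v hv => hone v hv (h v hv)
      rw [one_smul] at hd
      rcases hc2 with rfl | rfl
      · exact hH1 (by rw [hd, sub_self, zero_smul, add_zero])
      · rw [hd, hPvec, ← Matrix.smul_vecMulVec, Matrix.vecMulVec_eq Unit,
          Matrix.det_one_add_replicateCol_mul_replicateRow, dotProduct_smul, hle1, smul_eq_mul, mul_one] at hdet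
        exact one_ne_zero (α := F) (by linear_combination h30 + hdet)
    · have hneg : ∀ v ∈ W, H *ᵥ v = (-1 : F) • v := by
        intro v hv
        have h2 : (H + 1) *ᵥ v = 0 := by
          refine h _ ?_ ?_
          · rw [Matrix.add_mulVec, Matrix.one_mulVec]; exact W.add_mem (hHW v hv) hv
          · rw [Matrix.mulVec_mulVec, show (H - 1) * (H + 1) = 0 by
              rw [sub_mul, mul_add, mul_add, one_mul, mul_one, mul_one, ← sq, hHr]; abel, Matrix.zero_mulVec]
        rw [Matrix.add_mulVec, Matrix.one_mulVec, add_eq_zero_iff_eq_neg] at h2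
        rw [h2, neg_one_smul]
      have hd := hdec (-1) hneg
      rcases hc2 with rfl | rfl
      · have hl : ∀ n, l n = 0 := coordinate_zero l fun u v w hu hv hw => by
          have h1 := phi_pres hP u v w
          rw [hneg _ (hlW u hu), hneg _ (hlW v hv), hneg _ (hlW w hw), neg_one_smul, neg_one_smul,
            neg_one_smul, phi_neg] at h1
          linear_combination h1 + (phi u v w) * h30
        have : l = 0 := funext hl
        rw [this, zero_dotProduct] at hle1
        exact zero_ne_one hle1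
      · rw [hd, sub_self, zero_smul, add_zero, Matrix.det_smul, Matrix.det_one, Fintype.card_fin] at hdet
        exact one_ne_zero (α := F) (by linear_combination hdet + h30)
  · rcases hfixN (H - 1) hN1 with h | h
    · have hd := hdec 1 fun v hv => hone v hv (h v hv)
      rw [hcube] at hcr
      rw [hcr, one_smul, sub_self, zero_smul, add_zero] at hd
      exact hH1 hd
    · have h3 : (H - 1) ^ 3 = 0 := by
        rw [sub_pow_char_of_commute 3 (Commute.one_right H), hHr, one_pow, sub_self]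
      refine hv0' (h _ hv0 (h _ (hNW _ hv0) (h _ (hNW _ (hNW _ hv0)) ?_)))
      rw [Matrix.mulVec_mulVec, Matrix.mulVec_mulVec, ← sq, ← pow_succ, h3, Matrix.zero_mulVec]

/-! ### The group -/

theorem card_G2 [Fintype F] (hF : Fintype.card F = 3) : Nat.card ↥(chevG2.group F) = 4245696 := by
  rw [Cfsg.Agent.S1059.result hF]; norm_num

theorem commute_thirteen [Fintype F] (hF : Fintype.card F = 3) {x y : ↥(chevG2.group F)} (hy : orderOf y = 13)
    (h : Commute x y) : x ^ 13 = 1 := by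
  haveI : Fact (Nat.Prime 13) := ⟨by norm_num⟩
  obtain ⟨H, -, hcard, hcen⟩ := exists_cyclic (F := F) (q := 3) hF le_rfl
  have hv : (Nat.card ↥(chevG2.group F)).factorization 13 = 1 := by
    rw [card_G2 hF, show (4245696 : ℕ) = 13 ^ 1 * 326592 by norm_num,
      Nat.factorization_mul (by norm_num) (by norm_num), Finsupp.add_apply, Nat.Prime.factorization_pow (by norm_num),
      Finsupp.single_eq_same, Nat.factorization_eq_zero_of_not_dvd (by norm_num), add_zero]
  let S : Sylow 13 ↥(chevG2.group F) := Sylow.ofCard H (by rw [hcard, hv]; norm_num)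
  let T : Sylow 13 ↥(chevG2.group F) :=
    Sylow.ofCard (Subgroup.zpowers y) (by rw [Nat.card_zpowers, hy, hv]; norm_num)
  obtain ⟨c, hc⟩ := MulAction.exists_smul_eq ↥(chevG2.group F) T S
  have hS : (S : Subgroup ↥(chevG2.group F)) = H := rfl
  have hT : (T : Subgroup ↥(chevG2.group F)) = Subgroup.zpowers y := rfl
  have hmem : c * x * c⁻¹ ∈ H := by
    rw [← hcen, Subgroup.mem_centralizer_iff]
    intro z hz
    rw [← hS, ← hc, Sylow.coe_subgroup_smul, SetLike.mem_coe, Subgroup.mem_pointwise_smul_iff_inv_smul_mem, hT] at hz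
    obtain ⟨k, hk⟩ := Subgroup.mem_zpowers_iff.1 hz
    have hk' : z = c * y ^ k * c⁻¹ := by
      rw [hk]; simp [MulAut.conj_apply, mul_assoc]
    have := (h.zpow_right k).eq
    rw [hk']
    calc c * y ^ k * c⁻¹ * (c * x * c⁻¹) = c * (y ^ k * x) * c⁻¹ := by group
      _ = c * (x * y ^ k) * c⁻¹ := by rw [this]
      _ = _ := by group
  have h13 : orderOf (c * x * c⁻¹) ∣ 13 := by
    have := Subgroup.orderOf_dvd_natCard H hmem
    rwa [hcard] at this
  rw [← MulAut.conj_apply, MulEquiv.orderOf_eq] at h13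
  exact orderOf_dvd_iff_pow_eq_one.1 h13

theorem no_seven [Fintype F] (hF : Fintype.card F = 3) {r : ℕ} (hr : r = 2 ∨ r = 3) (x : ↥(chevG2.group F)) :
    orderOf x ≠ 7 * r := by
  intro hx
  obtain ⟨ψ, hinj, hpres, hdet, -⟩ := exists_embed (F := F) (le_of_eq hF.symm)
  have hne : ∀ k, 0 < k → k < 7 * r → (ψ (x ^ k) : Matrix (Fin 7) (Fin 7) F) ≠ 1 := by
    intro k hk hk' h
    have h1 : x ^ k = 1 := hinj (Units.ext (by rw [h, map_one, Units.val_one]))
    have := Nat.le_of_dvd hk (orderOf_dvd_of_pow_eq_one h1)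
    omega
  have hpow : ∀ a b, a * b = 7 * r → (ψ (x ^ a) : Matrix (Fin 7) (Fin 7) F) ^ b = 1 := by
    intro a b h
    rw [← Units.val_pow_eq_pow_val, ← map_pow, ← pow_mul, h, ← hx, pow_orderOf_eq_one, map_one, Units.val_one]
  refine no_commuting hF hr (X := (ψ (x ^ r) : Matrix (Fin 7) (Fin 7) F))
    (H := (ψ (x ^ 7) : Matrix (Fin 7) (Fin 7) F)) (hpow r 7 (mul_comm r 7)) (hne r (by omega) (by omega)) ?_
    (hpow 7 r rfl) (hne 7 (by omega) (by omega)) (hdet _) (hpres _)
  show (ψ (x ^ 7) : Matrix (Fin 7) (Fin 7) F) * ψ (x ^ r) = ψ (x ^ r) * ψ (x ^ 7)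
  rw [← Units.val_mul, ← Units.val_mul, ← map_mul, ← map_mul, pow_mul_comm]

/-- An element of order six. -/
def v6 : Matrix (Fin 3) (Fin 3) (ZMod 3) := !![-1, 1, 0; 0, -1, 0; 0, 0, 1]

theorem chk_v6 : v6.det = 1 ∧ v6 ^ 6 = 1 ∧ v6 ^ 1 ≠ 1 ∧ v6 ^ 2 ≠ 1 ∧ v6 ^ 3 ≠ 1 ∧ v6 ^ 4 ≠ 1 ∧ v6 ^ 5 ≠ 1 := by
  decide +kernel

theorem exists_six [Fintype F] (hF : Fintype.card F = 3) : ∃ x : ↥(chevG2.group F), orderOf x = 6 := by
  haveI : Fact (Nat.Prime 3) := ⟨by norm_num⟩
  obtain ⟨ψ, hinj, -, -, hemb⟩ := exists_embed (F := F) (le_of_eq hF.symm)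
  let f : ZMod 3 ≃+* F := ZMod.ringEquivOfPrime F (by norm_num) hF
  have hw := chk_v6
  set w := v6
  let E : Matrix.SpecialLinearGroup (Fin 3) F →* Matrix (Fin 7) (Fin 7) F :=
    { toFun := emb, map_one' := emb_one, map_mul' := emb_mul }
  have hE : Function.Injective E := fun X Y h => by
    have h'' := (Matrix.reindex blk blk).injective (show emb X = emb Y from h)
    exact Subtype.ext (Matrix.fromBlocks_inj.1 h'').1
  let A : Matrix.SpecialLinearGroup (Fin 3) (ZMod 3) := ⟨w, hw.1⟩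
  have hA : orderOf A = 6 := by
    refine (orderOf_eq_iff (by norm_num)).2 ⟨Subtype.ext ?_, fun k hk hk0 h => ?_⟩
    · rw [Matrix.SpecialLinearGroup.coe_pow]; exact hw.2.1
    · have h' := congrArg Subtype.val h
      rw [Matrix.SpecialLinearGroup.coe_pow] at h'
      change w ^ k = 1 at h'
      interval_cases k
      exacts [hw.2.2.1 h', hw.2.2.2.1 h', hw.2.2.2.2.1 h', hw.2.2.2.2.2.1 h', hw.2.2.2.2.2.2 h']
  obtain ⟨g, hg⟩ := hemb (Matrix.SpecialLinearGroup.map f.toRingHom A)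
  refine ⟨g, ?_⟩
  rw [← orderOf_injective ψ hinj, ← orderOf_units, hg, show emb _ = E _ from rfl, orderOf_injective E hE,
    orderOf_injective (Matrix.SpecialLinearGroup.map (n := Fin 3) f.toRingHom)
      (fun X Y h => Subtype.ext (Matrix.map_injective f.injective (congrArg Subtype.val h))), hA]

theorem same_graph [Fintype F] (hF : Fintype.card F = 3) [Fintype E] (hE : Fintype.card E = 13) :
    ((∀ r : ℕ, r.Prime → (r ∣ Nat.card ↥(chevG2.group F) ↔
        r ∣ Nat.card (Matrix.ProjectiveSpecialLinearGroup (Fin 2) E))) ∧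
      (∀ r s : ℕ, r.Prime → s.Prime → r ≠ s → ((∃ x : ↥(chevG2.group F), orderOf x = r * s) ↔
        (∃ y : (Matrix.ProjectiveSpecialLinearGroup (Fin 2) E), orderOf y = r * s)))) := by
  have hE' : Nat.card (Matrix.ProjectiveSpecialLinearGroup (Fin 2) E) = 1092 := by
    have h := Cfsg.Agent.Classical.Dickson.card_psl E
    rw [hE] at h
    norm_num at h
    omega
  have hG := card_G2 hF
  have hprimes : ∀ r : ℕ, r.Prime → r ∣ 4245696 → r = 2 ∨ r = 3 ∨ r = 7 ∨ r = 13 := by
    intro r hr h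
    rw [show (4245696 : ℕ) = 2 ^ 6 * 3 ^ 6 * 7 * 13 by norm_num, hr.dvd_mul, hr.dvd_mul, hr.dvd_mul] at h
    rcases h with ((h | h) | h) | h
    · exact Or.inl ((Nat.prime_dvd_prime_iff_eq hr (by norm_num)).1 (hr.dvd_of_dvd_pow h))
    · exact Or.inr (Or.inl ((Nat.prime_dvd_prime_iff_eq hr (by norm_num)).1 (hr.dvd_of_dvd_pow h)))
    · exact Or.inr (Or.inr (Or.inl ((Nat.prime_dvd_prime_iff_eq hr (by norm_num)).1 h)))
    · exact Or.inr (Or.inr (Or.inr ((Nat.prime_dvd_prime_iff_eq hr (by norm_num)).1 h)))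
  have hsix : ∀ r s : ℕ, r * s = 6 → ((∃ x : ↥(chevG2.group F), orderOf x = r * s) ↔
      (∃ y : (Matrix.ProjectiveSpecialLinearGroup (Fin 2) E), orderOf y = r * s)) := fun r s h => by
    rw [h]; exact ⟨fun _ => psl_six hE, fun _ => exists_six hF⟩
  refine ⟨fun r hr => ?_, fun r s hr hs hrs => ?_⟩
  · rw [hG, hE']
    constructor
    · intro h
      rcases hprimes r hr h with rfl | rfl | rfl | rfl <;> norm_num
    · intro h
      exact h.trans (by norm_num)
  · by_cases h6 : r * s = 6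
    · exact hsix r s h6
    refine iff_of_false ?_ ?_
    · rintro ⟨x, hx⟩
      haveI : Finite ↥(chevG2.group F) := Nat.finite_of_card_ne_zero (by rw [hG]; norm_num)
      have hd : r * s ∣ 4245696 := hG ▸ hx ▸ orderOf_dvd_natCard x
      have key : ∀ t u : ℕ, orderOf x = t * u → u = 13 → t ≠ 13 → t ≠ 1 → False := by
        intro t u htu hu ht ht1
        subst hu
        have h1 : orderOf (x ^ t) = 13 := by
          rw [orderOf_pow_of_dvd (by rintro rfl; rw [Nat.zero_mul] at htu; exact (orderOf_pos x).ne' htu)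
            (htu ▸ dvd_mul_right t 13), htu, Nat.mul_div_cancel_left _ (Nat.pos_of_ne_zero (by
              rintro rfl; rw [Nat.zero_mul] at htu; exact (orderOf_pos x).ne' htu))]
        have h2 := orderOf_dvd_of_pow_eq_one (commute_thirteen hF h1 (Commute.self_pow x t))
        rw [htu] at h2
        have h3 : t ∣ 1 := Nat.dvd_of_mul_dvd_mul_right (by norm_num : 0 < 13) (by rwa [one_mul])
        exact ht1 (Nat.dvd_one.1 h3)
      rcases hprimes r hr (dvd_trans (dvd_mul_right r s) hd) with rfl | rfl | rfl | rfl <;>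
        rcases hprimes s hs (dvd_trans (dvd_mul_left s _) hd) with rfl | rfl | rfl | rfl <;>
        first
          | exact hrs rfl
          | exact h6 rfl
          | exact no_seven hF (Or.inl rfl) x hx
          | exact no_seven hF (Or.inr rfl) x hx
          | exact no_seven hF (Or.inl rfl) x (hx.trans (mul_comm _ _))
          | exact no_seven hF (Or.inr rfl) x (hx.trans (mul_comm _ _))
          | exact key _ _ hx rfl (by norm_num) (by norm_num)
          | exact key _ _ (hx.trans (mul_comm _ _)) rfl (by norm_num) (by norm_num)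
    · rintro ⟨y, hy⟩
      have hy6 : r * s ∣ 6 ∨ r * s ∣ 7 ∨ r * s ∣ 13 := by
        rcases psl_pow hE y with h | h | h
        exacts [Or.inl (hy ▸ orderOf_dvd_of_pow_eq_one h), Or.inr (Or.inl (hy ▸ orderOf_dvd_of_pow_eq_one h)),
          Or.inr (Or.inr (hy ▸ orderOf_dvd_of_pow_eq_one h))]
      rcases hy6 with h | h | h
      · have h2 : 6 ≤ r * s := by
          rcases lt_or_gt_of_ne hrs with h' | h'
          · have := hr.two_le; nlinarith
          · have := hs.two_le; nlinarith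
        exact h6 (le_antisymm (Nat.le_of_dvd (by norm_num) h) h2)
      all_goals
        have hp : (Nat.Prime 7) ∧ (Nat.Prime 13) := ⟨by norm_num, by norm_num⟩
        have h1 := dvd_trans (dvd_mul_right r s) h
        have h2 := dvd_trans (dvd_mul_left s r) h
        first
          | exact hrs (((Nat.prime_dvd_prime_iff_eq hr hp.1).1 h1).trans ((Nat.prime_dvd_prime_iff_eq hs hp.1).1 h2).symm)
          | exact hrs (((Nat.prime_dvd_prime_iff_eq hr hp.2).1 h1).trans ((Nat.prime_dvd_prime_iff_eq hs hp.2).1 h2).symm)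

end Cfsg.Agent.Lie.G2Three
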