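import Cfsg.Agent.Lib.Lie.CoverTable
import Cfsg.Agent.Lib.Lie.CoverUniversal
import Cfsg.Agent.Lib.Spor.GolayWordChain
import Cfsg.Agent.Lib.Spor.GolayElems

/-!
Groups of permutations of the twenty-four points preserving the code and fixing some points, read on packed
image lists: their tables, coset lists and generators, as needed for stem extensions and their bounds.
-/

set_option autoImplicit false
set_option maxRecDepth 10000

namespace Cfsg.Agent.Lie.GolayCover

open Cfsg Cfsg.Agent.Lie
open Cfsg.Agent.Spor (idx pt packList nget nget_packList idx_lt pt_idx idx_pt idx_injective)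
open Cfsg.Agent.Local.FS.Mathieu (lst inCode rep_lst m24_mem_of_lst)
open Cfsg.Agent.Lie.CentralLocal (ev)
open scoped commutatorElement

/-- The packed images of a permutation. -/
def pcode (σ : Equiv.Perm GolayPt) : ℕ := packList (lst σ)

/-- Composition of packed permutations. -/
def mulP (a b : ℕ) : ℕ := packList ((List.range 24).map fun i => nget a (nget b i))

/-- The packed identity. -/
def idP : ℕ := 984818244535754528103549039458486304

theorem idP_eq : packList (List.range 24) = idP := by decide +kernel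

/-- The list of a packed permutation. -/
def toL (v : ℕ) : List ℕ := (List.range 24).map (nget v)

/-- A packed permutation with its inverse preserves the code and fixes the listed points. -/
def memOK (F : List ℕ) (e : ℕ × ℕ) : Bool :=
  ((List.range 24).all fun i =>
      (Nat.blt (nget e.1 i) 24 && Nat.blt (nget e.2 i) 24) &&
        (Nat.beq (nget e.1 (nget e.2 i)) i && Nat.beq (nget e.2 (nget e.1 i)) i)) &&
    (Nat.beq (packList (toL e.1)) e.1 && (inCode (toL e.1) && F.all fun b => Nat.beq (nget e.1 b) b))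

theorem lst_lt (σ : Equiv.Perm GolayPt) : ∀ a ∈ lst σ, a < 32 := by
  intro a ha
  simp only [lst, List.mem_map] at ha
  obtain ⟨i, -, rfl⟩ := ha
  exact lt_trans (idx_lt _) (by norm_num)

theorem nget_pcode (σ : Equiv.Perm GolayPt) (p : GolayPt) : nget (pcode σ) (idx p) = idx (σ p) := by
  rw [pcode, nget_packList _ (lst_lt σ)]
  exact rep_lst σ p

theorem lst_eq_toL (σ : Equiv.Perm GolayPt) : lst σ = toL (pcode σ) := by
  rw [toL]
  refine List.map_congr_left fun i hi => ?_
  conv_rhs => rw [← idx_pt i (List.mem_range.1 hi), nget_pcode]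

theorem pcode_injective {σ τ : Equiv.Perm GolayPt} (h : pcode σ = pcode τ) : σ = τ :=
  Equiv.ext fun p => idx_injective (by rw [← nget_pcode σ p, ← nget_pcode τ p, h])

theorem pcode_mul (σ τ : Equiv.Perm GolayPt) : pcode (σ * τ) = mulP (pcode σ) (pcode τ) := by
  rw [pcode, mulP]
  refine congrArg packList (List.map_congr_left fun i hi => ?_)
  conv_rhs => rw [← idx_pt i (List.mem_range.1 hi), nget_pcode, nget_pcode]
  rfl

theorem pcode_one : pcode 1 = idP := by
  rw [pcode, Cfsg.Agent.Spor.WordChain.lst_one, idP_eq]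

theorem exists_perm {F : List ℕ} (hF : ∀ b ∈ F, b < 24) {e : ℕ × ℕ} (h : memOK F e = true) :
    ∃ σ : Equiv.Perm GolayPt, σ ∈ M24 ∧ (∀ b ∈ F, σ (pt b) = pt b) ∧ pcode σ = e.1 := by
  simp only [memOK, Bool.and_eq_true, List.all_eq_true, List.mem_range, Nat.blt_eq, Nat.beq_eq] at h
  obtain ⟨hb, hpk, hcode, hfix⟩ := h
  let σ : Equiv.Perm GolayPt :=
    { toFun := fun p => pt (nget e.1 (idx p))
      invFun := fun p => pt (nget e.2 (idx p))
      left_inv := fun p => by
        obtain ⟨⟨h1, -⟩, -, h4⟩ := hb _ (idx_lt p)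
        show pt (nget e.2 (idx (pt (nget e.1 (idx p))))) = p
        rw [idx_pt _ h1, h4, pt_idx]
      right_inv := fun p => by
        obtain ⟨⟨-, h2⟩, h3, -⟩ := hb _ (idx_lt p)
        show pt (nget e.1 (idx (pt (nget e.2 (idx p))))) = p
        rw [idx_pt _ h2, h3, pt_idx] }
  have hl : lst σ = toL e.1 := by
    rw [toL]
    refine List.map_congr_left fun i hi => ?_
    have hi := List.mem_range.1 hi
    show idx (pt (nget e.1 (idx (pt i)))) = nget e.1 i
    rw [idx_pt i hi, idx_pt _ (hb i hi).1.1]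
  refine ⟨σ, m24_mem_of_lst (by rw [hl]; exact hcode), fun b hbF => ?_, by rw [pcode, hl, hpk]⟩
  show pt (nget e.1 (idx (pt b))) = pt b
  rw [idx_pt b (hF b hbF), hfix b hbF]

/-- A group read in the permutations of the points. -/
structure Model (G : Type*) [Group G] where
  /-- the permutations -/
  φ : G →* Equiv.Perm GolayPt
  inj : Function.Injective φ
  /-- the fixed points -/
  F : List ℕ
  F_lt : ∀ b ∈ F, b < 24
  mem : ∀ σ : Equiv.Perm GolayPt, σ ∈ M24 → (∀ b ∈ F, σ (pt b) = pt b) → σ ∈ φ.range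

variable {G : Type*} [Group G] (M : Model G)

theorem Model.finite (M : Model G) : Finite G := Finite.of_injective _ M.inj

/-- The code of an element. -/
def Model.code (g : G) : ℕ := pcode (M.φ g)

theorem Model.code_mul (g h : G) : M.code (g * h) = mulP (M.code g) (M.code h) := by
  rw [Model.code, map_mul, pcode_mul]
  rfl

theorem Model.code_one : M.code 1 = idP := by rw [Model.code, map_one, pcode_one]

theorem Model.code_inj {g h : G} (e : M.code g = M.code h) : g = h := M.inj (pcode_injective e)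

open Classical in
/-- The element with a code. -/
noncomputable def Model.elem (v : ℕ) : G := if h : ∃ g, M.code g = v then h.choose else 1

theorem Model.exists_elem {e : ℕ × ℕ} (h : memOK M.F e = true) : ∃ g, M.code g = e.1 := by
  obtain ⟨σ, h1, h2, h3⟩ := exists_perm M.F_lt h
  obtain ⟨g, rfl⟩ := M.mem σ h1 h2
  exact ⟨g, h3⟩

theorem Model.code_elem {v : ℕ} (h : ∃ g, M.code g = v) : M.code (M.elem v) = v := by
  rw [Model.elem, dif_pos h]
  exact h.choose_spec

theorem Model.code_elem' {e : ℕ × ℕ} (h : memOK M.F e = true) : M.code (M.elem e.1) = e.1 :=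
  M.code_elem (M.exists_elem h)

/-- The product of a word in packed generators. -/
def evP (gs : List (ℕ × ℕ)) (w : List ℕ) : ℕ := w.foldr (fun s m => mulP (gs.getD s (0, 0)).1 m) idP

/-- The action of a generator on codes. -/
def actP (gs : List (ℕ × ℕ)) (s m : ℕ) : ℕ := mulP m (gs.getD s (0, 0)).1

/-- The data of a table. -/
noncomputable def Model.data (C : CentralLocal.Cert) (gs : List (ℕ × ℕ)) (hgs : gs.all (memOK M.F) = true)
    (hk : C.k = gs.length) (hact : C.act = actP gs) (hone : C.one = idP) (hv : C.Valid)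
    (ord : Janko.Tree ℕ) (hord : ∀ k < C.N, C.ordCheck ord k = true) : CentralBound.Data C G where
  gen s := M.elem (gs.getD s (0, 0)).1
  code := M.code
  code_step g s hs := by
    have hmem : memOK M.F (gs.getD s (0, 0)) = true := List.all_eq_true.1 hgs _ (by
      rw [List.getD_eq_getElem _ _ (hk ▸ hs)]; exact List.getElem_mem _)
    rw [M.code_mul, M.code_elem' hmem, hact]
    rfl
  code_one := by rw [M.code_one, hone]
  code_inj _ _ := M.code_inj
  valid := hv
  ord := ord
  ord_ok := hord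

variable {C : CentralLocal.Cert} {gs : List (ℕ × ℕ)} (hgs : gs.all (memOK M.F) = true)

theorem evP_nil (gs : List (ℕ × ℕ)) : evP gs [] = idP := Eq.refl _

theorem evP_cons (gs : List (ℕ × ℕ)) (s : ℕ) (w : List ℕ) :
    evP gs (s :: w) = mulP (gs.getD s (0, 0)).1 (evP gs w) := Eq.refl _

attribute [local irreducible] mulP idP evP pcode

include hgs in
theorem Model.code_word (w : List ℕ) (hw : ∀ s ∈ w, s < gs.length) :
    M.code (ev (fun s => M.elem (gs.getD s (0, 0)).1) w) = evP gs w := by
  induction w with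
  | nil =>
    rw [show ev (fun s => M.elem (gs.getD s (0, 0)).1) [] = (1 : G) from rfl, evP_nil]
    exact M.code_one
  | cons s w ih =>
    simp only [List.mem_cons, forall_eq_or_imp] at hw
    have hmem : memOK M.F (gs.getD s (0, 0)) = true := List.all_eq_true.1 hgs _ (by
      rw [List.getD_eq_getElem _ _ hw.1]; exact List.getElem_mem _)
    rw [CentralLocal.ev_cons, M.code_mul, M.code_elem' hmem, ih hw.2, evP_cons]

/-- A pair of commuting words, the conjugate one and the conjugating element. -/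
abbrev Spec : Type := (List ℕ × List ℕ × List ℕ × List ℕ) × (ℕ × ℕ)

/-- The relation of a specification. -/
def extOf (e : Spec) : List ℕ × List ℕ × List ℕ × List ℕ :=
  (e.1.1 ++ e.1.2.1, e.1.2.1 ++ e.1.1, e.1.2.2.1 ++ e.1.2.2.2, e.1.2.2.2 ++ e.1.2.2.1)

/-- A specification is as claimed. -/
def specOK (F : List ℕ) (C : CentralLocal.Cert) (gs : List (ℕ × ℕ)) (e : Spec) : Bool :=
  C.extOK (extOf e) && ((memOK F e.2 && ((C.letters e.1.1 && C.letters e.1.2.1) &&
    (C.letters e.1.2.2.1 && C.letters e.1.2.2.2))) &&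
    (Nat.beq (mulP e.2.1 (evP gs e.1.1)) (mulP (evP gs e.1.2.2.1) e.2.1) &&
      Nat.beq (mulP e.2.1 (evP gs e.1.2.1)) (mulP (evP gs e.1.2.2.2) e.2.1)))

include hgs in
theorem Model.ext_holds (hk : C.k = gs.length) {e : Spec} (he : specOK M.F C gs e = true) {Γ : Type*} [Group Γ]
    (S : CentralLocal.Setup C Γ G) (hsurj : Function.Surjective S.σ)
    (hx : ∀ s, S.σ (S.x s) = M.elem (gs.getD s (0, 0)).1) : S.ExtHolds (extOf e) := by
  simp only [specOK, Bool.and_eq_true, Nat.beq_eq] at he
  obtain ⟨hok, ⟨hmem, ⟨la, lb⟩, lc, ld⟩, h1, h2⟩ := he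
  have hconj : ∀ a c, C.letters a = true → C.letters c = true →
      mulP e.2.1 (evP gs a) = mulP (evP gs c) e.2.1 →
      M.elem e.2.1 * S.σ (ev S.x a) = S.σ (ev S.x c) * M.elem e.2.1 := by
    intro a c ha hc h
    have hl : ∀ w, C.letters w = true → ∀ s ∈ w, s < gs.length := fun w hw s hs =>
      hk ▸ Nat.blt_eq.mp (List.all_eq_true.1 hw s hs)
    refine M.code_inj ?_
    simp only [M.code_mul, CentralLocal.map_ev, hx, M.code_word hgs a (hl a ha), M.code_word hgs c (hl c hc),
      M.code_elem' hmem]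
    exact h
  exact S.ext_comm hok _ (hsurj _) (hconj _ _ la lc h1) (hconj _ _ lb ld h2)

universe u

/-- The bound of the part of a stem kernel from a table. -/
theorem Model.part_le {G : Type u} [Group G] (M : Model G) (C : CentralLocal.Cert) (gs : List (ℕ × ℕ)) (hgs : gs.all (memOK M.F) = true)
    (hk : C.k = gs.length) (hact : C.act = actP gs) (hone : C.one = idP) (hv : C.Valid)
    (ord : Janko.Tree ℕ) (hord : ∀ k < C.N, C.ordCheck ord k = true) (specs : List Spec)
    (hspecs : specs.all (specOK M.F C gs) = true) {q e : ℕ} (T : CentralBound.Lat)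
    (hT : CentralBound.latOK C (specs.map extOf) (q ^ e) T = true) (hq : q.Prime)
    {m : ℕ} (hG : Nat.card G = q ^ e * m) (hm : ¬ q ∣ m) (hN : ¬ q ∣ Nat.card G / C.N)
    {Γ : Type u} [Group Γ] [Finite Γ] {σ : Γ →* G} (hσ : Cfsg.IsStemExtension σ) :
    q ^ (Nat.card σ.ker).factorization q ≤ T.ord.prod := by
  haveI := M.finite
  refine CoverUniversal.part_le hq hG hm (fun Δ _ _ τ hτ hexp => ?_) hσ
  refine CentralBound.card_ker_le (M.data C gs hgs hk hact hone hv ord hord) hτ hq hexp hN _ T hT ?_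
  intro hq0 x hx r hr
  obtain ⟨s, hs, rfl⟩ := List.mem_map.1 hr
  refine M.ext_holds hgs hk (List.all_eq_true.1 hspecs s hs) _ (fun g => ?_) hx
  obtain ⟨y, rfl⟩ := hτ.1 g
  exact ⟨(y, 1), rfl⟩

/-- The code of a coset list. -/
def treeT (xs : List (ℕ × ℕ)) (T : Janko.Tree ℕ) (par : Janko.Tree ℕ) (j : ℕ) : Bool :=
  bif Nat.beq j 0 then Nat.beq (T.get 0) idP else
    (Nat.blt (par.get j / 16) j && (Nat.blt (par.get j % 16) xs.length &&
      Nat.beq (mulP (xs.getD (par.get j % 16) (0, 0)).1 (T.get (par.get j / 16))) (T.get j)))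

/-- The action of an element on the listed cosets is as claimed. -/
def movesOK (C : CentralLocal.Cert) (T : Janko.Tree ℕ) (n v : ℕ) (mv : Janko.Tree ℕ) (j : ℕ) : Bool :=
  Nat.blt (mv.get j / 1024) n && (Nat.blt (mv.get j % 1024) C.N &&
    Nat.beq (mulP v (T.get j)) (mulP (T.get (mv.get j / 1024)) (C.elt.get (mv.get j % 1024))))

theorem Model.exists_T {xs : List (ℕ × ℕ)} (hxs : xs.all (memOK M.F) = true) {T par : Janko.Tree ℕ} {n : ℕ}
    (h : ∀ j < n, treeT xs T par j = true) : ∀ j < n, ∃ g, M.code g = T.get j := by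
  intro j
  induction j using Nat.strong_induction_on with
  | _ j ih =>
    intro hj
    have hh := h j hj
    unfold treeT at hh
    rcases Nat.eq_zero_or_pos j with rfl | h0
    · rw [show Nat.beq 0 0 = true from rfl, cond_true, Nat.beq_eq] at hh
      exact ⟨1, by rw [M.code_one, hh]⟩
    rw [show Nat.beq j 0 = false by rw [← Bool.not_eq_true, Nat.beq_eq]; omega] at hh
    simp only [cond_false, Bool.and_eq_true, Nat.blt_eq, Nat.beq_eq] at hh
    obtain ⟨g, hg⟩ := ih _ hh.1 (hh.1.trans hj)
    refine ⟨M.elem (xs.getD (par.get j % 16) (0, 0)).1 * g, ?_⟩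
    rw [M.code_mul, hg, M.code_elem' (List.all_eq_true.1 hxs _ (by
      rw [List.getD_eq_getElem _ _ hh.2.1]; exact List.getElem_mem _)), hh.2.2]

theorem Model.moves (D : CentralBound.Data C G) (hD : D.code = M.code) {T : Janko.Tree ℕ} {n : ℕ}
    (hTe : ∀ j < n, ∃ g, M.code g = T.get j) {x : G} {v : ℕ} (hx : M.code x = v) {mv : Janko.Tree ℕ}
    (h : ∀ j < n, movesOK C T n v mv j = true) :
    CoverTable.Moves D n (fun j => M.elem (T.get j)) x (fun j => mv.get j / 1024) (fun j => mv.get j % 1024) := by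
  intro j hj
  have hh := h j hj
  simp only [movesOK, Bool.and_eq_true, Nat.blt_eq, Nat.beq_eq] at hh
  refine ⟨hh.1, hh.2.1, M.code_inj ?_⟩
  have hel := CoverTable.el_code D hh.2.1
  rw [hD] at hel
  rw [M.code_mul, M.code_mul, hx, M.code_elem (hTe j hj), M.code_elem (hTe _ hh.1), hel]
  exact hh.2.2

/-- A generator with two elements whose commutator it is. -/
def commOK (F : List ℕ) (e : (ℕ × ℕ) × (ℕ × ℕ) × (ℕ × ℕ)) : Bool :=
  (memOK F e.1 && (memOK F e.2.1 && memOK F e.2.2)) &&
    Nat.beq (mulP e.1.1 (mulP e.2.2.1 e.2.1.1)) (mulP e.2.1.1 e.2.2.1)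

/-- The generators make up the group. -/
theorem Model.closure_eq_top (xs : List (ℕ × ℕ)) (hxs : xs.all (memOK M.F) = true)
    (Ls : List Cfsg.Agent.Spor.WordChain.Lev)
    (hL : Cfsg.Agent.Spor.WordChain.chainOK (xs.map fun e => toL e.1) Ls [] = true)
    (hN : Nat.card G ≤ Cfsg.Agent.Spor.WordChain.chainSize Ls) :
    Subgroup.closure {g | ∃ e ∈ xs, g = M.elem e.1} = ⊤ := by
  haveI := M.finite
  obtain ⟨S, hS⟩ : ∃ S, S = Subgroup.closure {g | ∃ e ∈ xs, g = M.elem e.1} := ⟨_, rfl⟩
  rw [← hS]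
  obtain ⟨A, hA⟩ : ∃ A : ℕ → Equiv.Perm GolayPt, ∀ j, A j = M.φ (M.elem (xs.getD j (0, 0)).1) := ⟨_, fun _ => rfl⟩
  have hget : ∀ j < (xs.map fun e => toL e.1).length, (xs.map fun e => toL e.1).getD j [] = lst (A j) := by
    intro j hj
    rw [List.length_map] at hj
    have hmem := List.all_eq_true.1 hxs _ (List.getElem_mem hj)
    rw [List.getD_eq_getElem _ _ (by rwa [List.length_map]), List.getElem_map, hA, lst_eq_toL,
      List.getD_eq_getElem _ _ hj]
    exact congrArg toL (M.code_elem' hmem).symm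
  have hle : Cfsg.Agent.Spor.WordChain.chainSize Ls ≤ Nat.card (S.map M.φ) := by
    refine Cfsg.Agent.Spor.WordChain.chain_card Ls _ [] hL (by simp) _ (fun σ hfix h => ?_) ⟨A, hget⟩
    obtain ⟨A', hA', w, hw, rfl⟩ := h
    clear hN hfix
    induction w with
    | nil => exact one_mem _
    | cons j w ih =>
      simp only [List.mem_cons, forall_eq_or_imp] at hw
      rw [Solv.StabCocycle.evalW]
      refine mul_mem (ih hw.2) ?_
      have hj : j < xs.length := by simpa using hw.1
      have e : A' j = A j := Cfsg.Agent.Spor.WordChain.lst_injective (by rw [← hA' j hw.1, hget j hw.1])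
      rw [e, hA]
      refine Subgroup.mem_map_of_mem _ (hS ▸ Subgroup.subset_closure ⟨_, List.getElem_mem hj, ?_⟩)
      rw [List.getD_eq_getElem _ _ hj]
  rw [Subgroup.card_map_of_injective M.inj] at hle
  exact Subgroup.eq_top_of_le_card _ (hN.trans hle)

/-- The group is perfect. -/
theorem Model.perfect (cs : List ((ℕ × ℕ) × (ℕ × ℕ) × (ℕ × ℕ))) (hcs : cs.all (commOK M.F) = true)
    (hgen : Subgroup.closure {g | ∃ e ∈ cs.map Prod.fst, g = M.elem e.1} = ⊤) : commutator G = ⊤ := by
  refine top_le_iff.1 (hgen ▸ (Subgroup.closure_le _).2 ?_)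
  rintro g ⟨e, he, rfl⟩
  obtain ⟨⟨x, a, b⟩, hmem, rfl⟩ := List.mem_map.1 he
  have h := List.all_eq_true.1 hcs _ hmem
  simp only [commOK, Bool.and_eq_true, Nat.beq_eq] at h
  obtain ⟨⟨hx, ha, hb⟩, he⟩ := h
  have e' : M.elem x.1 * (M.elem b.1 * M.elem a.1) = M.elem a.1 * M.elem b.1 := M.code_inj (by
    simp only [M.code_mul, M.code_elem' hx, M.code_elem' ha, M.code_elem' hb, he])
  rw [show M.elem x.1 = ⁅M.elem a.1, M.elem b.1⁆ by
    rw [commutatorElement_def, mul_assoc (_ * _), ← mul_inv_rev, eq_mul_inv_iff_mul_eq, e']]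
  exact Subgroup.commutator_mem_commutator (Subgroup.mem_top _) (Subgroup.mem_top _)

/-- The list of cosets. -/
noncomputable def Model.cos (D : CentralBound.Data C G) (hD : D.code = M.code) {xs : List (ℕ × ℕ)}
    (hxs : xs.all (memOK M.F) = true) (hgen : Subgroup.closure {g | ∃ e ∈ xs, g = M.elem e.1} = ⊤)
    {T par : Janko.Tree ℕ} {n : ℕ} (hn : 0 < n) (hcard : Nat.card G = C.N * n)
    (hT : ∀ j < n, treeT xs T par j = true) (mvs : List (Janko.Tree ℕ))
    (hmv : ∀ i < xs.length, ∀ j < n, movesOK C T n (xs.getD i (0, 0)).1 (mvs.getD i (.leaf 0)) j = true) :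
    CoverTable.Cos D where
  n := n
  npos := hn
  T j := M.elem (T.get j)
  T_zero := M.code_inj (by
    have h := hT 0 hn
    rw [treeT, show Nat.beq 0 0 = true from rfl, cond_true, Nat.beq_eq] at h
    rw [M.code_elem (M.exists_T hxs hT 0 hn), M.code_one, h])
  card := hcard
  moves := ⟨_, hgen, fun g hg => by
    obtain ⟨e, he, rfl⟩ := hg
    obtain ⟨i, hi, rfl⟩ := List.getElem_of_mem he
    refine ⟨_, _, M.moves D hD (M.exists_T hxs hT) (M.code_elem' (List.all_eq_true.1 hxs _ he))
      (fun j hj => ?_) (mv := mvs.getD i (.leaf 0))⟩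
    have := hmv i hi j hj
    rwa [List.getD_eq_getElem _ _ hi] at this⟩

end Cfsg.Agent.Lie.GolayCover
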