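import Cfsg.Agent.Lib.Lie.RootMap

/-! The tables of the graph automorphisms. -/

set_option autoImplicit false

namespace Cfsg.Agent.Lie

open Cfsg.Lie

/-- Root map. -/
def graphE6 : RMap where
  pi := [0, 1, 2, 5, 16, 3, 6, 17, 8, 19, 22, 11, 26, 30, 33, 35, 4, 7, 18, 9, 20, 23, 10, 21, 24, 25, 12, 27, 31, 34, 13, 28, 32, 14, 29, 15, 56, 42, 57, 39, 43, 58, 37, 40, 44, 59, 46, 47, 50, 61, 48, 51, 62, 53, 64, 67, 36, 38, 41, 45, 60, 49, 52, 63, 54, 65, 68, 55, 66, 69, 70, 71]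
  sg := [1, 1, 1, 1, -1, 1, 1, -1, 1, -1, -1, 1, -1, 1, -1, 1, -1, -1, 1, -1, 1, 1, -1, 1, 1, 1, -1, 1, -1, 1, 1, -1, 1, -1, 1, 1, 1, 1, -1, 1, -1, 1, 1, -1, 1, -1, 1, 1, 1, -1, 1, 1, -1, 1, -1, -1, 1, -1, 1, -1, 1, -1, -1, 1, -1, 1, 1, -1, 1, 1, 1, 1]
  ex := [1, 1, 1, 1, 1, 1, 1, 1, 1, 1, 1, 1, 1, 1, 1, 1, 1, 1, 1, 1, 1, 1, 1, 1, 1, 1, 1, 1, 1, 1, 1, 1, 1, 1, 1, 1, 1, 1, 1, 1, 1, 1, 1, 1, 1, 1, 1, 1, 1, 1, 1, 1, 1, 1, 1, 1, 1, 1, 1, 1, 1, 1, 1, 1, 1, 1, 1, 1, 1, 1, 1, 1]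

theorem okMap_E6 : graphE6.okMap chevE6 0 = true := by decide +kernel

theorem okOrder_E6 : graphE6.okOrder chevE6 0 2 1 = true := by decide +kernel

theorem okNodes_E6 : graphE6.okNodes chevE6 [5, 1, 4, 3, 2, 0] = true := by decide +kernel

/-- Root map. -/
def graphD4a : RMap where
  pi := [0, 1, 6, 2, 7, 10, 3, 8, 4, 9, 11, 5, 18, 12, 14, 19, 15, 20, 13, 16, 21, 17, 22, 23]
  sg := [1, 1, -1, 1, -1, 1, -1, 1, -1, 1, 1, 1, 1, 1, 1, -1, 1, -1, 1, -1, 1, -1, 1, 1]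
  ex := [1, 1, 1, 1, 1, 1, 1, 1, 1, 1, 1, 1, 1, 1, 1, 1, 1, 1, 1, 1, 1, 1, 1, 1]

theorem okMap_D4a : graphD4a.okMap chevD4 0 = true := by decide +kernel

theorem okOrder_D4a : graphD4a.okOrder chevD4 0 3 1 = true := by decide +kernel

theorem okNodes_D4a : graphD4a.okNodes chevD4 [2, 1, 3, 0] = true := by decide +kernel

/-- Root map. -/
def graphD4b : RMap where
  pi := [0, 1, 3, 6, 8, 11, 2, 4, 7, 9, 5, 10, 13, 18, 14, 16, 19, 21, 12, 15, 17, 20, 22, 23]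
  sg := [1, 1, 1, -1, -1, 1, -1, -1, 1, 1, 1, 1, 1, 1, 1, 1, -1, -1, 1, -1, -1, 1, 1, 1]
  ex := [1, 1, 1, 1, 1, 1, 1, 1, 1, 1, 1, 1, 1, 1, 1, 1, 1, 1, 1, 1, 1, 1, 1, 1]

theorem okMap_D4b : graphD4b.okMap chevD4 0 = true := by decide +kernel

theorem okOrder_D4b : graphD4b.okOrder chevD4 0 3 1 = true := by decide +kernel

theorem okNodes_D4b : graphD4b.okNodes chevD4 [3, 1, 0, 2] = true := by decide +kernel

/-- Root map. -/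
def graphB2 : RMap where
  pi := [1, 0, 3, 2, 5, 4, 7, 6]
  sg := [1, 1, 1, 1, 1, 1, 1, 1]
  ex := [1, 2, 2, 1, 1, 2, 2, 1]

theorem okMap_B2 : graphB2.okMap chevB2 2 = true := by decide +kernel

theorem okOrder_B2 : graphB2.okOrder chevB2 2 2 2 = true := by decide +kernel

theorem okNodes_B2 : graphB2.okNodes chevB2 [1, 0] = true := by decide +kernel

/-- Root map. -/
def graphF4 : RMap where
  pi := [3, 7, 8, 0, 9, 11, 18, 1, 2, 4, 15, 5, 16, 21, 23, 10, 12, 19, 6, 17, 22, 13, 20, 14, 33, 27, 34, 25, 30, 41, 28, 35, 37, 24, 26, 31, 42, 32, 43, 45, 46, 29, 36, 38, 47, 39, 40, 44]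
  sg := [1, 1, 1, 1, 1, 1, 1, 1, 1, 1, 1, 1, 1, 1, 1, 1, 1, 1, 1, 1, 1, 1, 1, 1, 1, 1, 1, 1, 1, 1, 1, 1, 1, 1, 1, 1, 1, 1, 1, 1, 1, 1, 1, 1, 1, 1, 1, 1]
  ex := [1, 1, 1, 2, 1, 1, 1, 2, 2, 2, 2, 2, 2, 2, 2, 1, 1, 1, 2, 2, 2, 1, 1, 1, 1, 1, 1, 2, 2, 2, 1, 1, 1, 2, 2, 2, 2, 2, 2, 2, 2, 1, 1, 1, 2, 1, 1, 1]

theorem okMap_F4 : graphF4.okMap chevF4 2 = true := by decide +kernel

theorem okOrder_F4 : graphF4.okOrder chevF4 2 2 2 = true := by decide +kernel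

theorem okNodes_F4 : graphF4.okNodes chevF4 [3, 2, 1, 0] = true := by decide +kernel

/-- Root map. -/
def graphG2 : RMap where
  pi := [2, 3, 0, 1, 5, 4, 7, 6, 10, 11, 8, 9]
  sg := [1, 1, 1, 1, 1, 1, 1, 1, 1, 1, 1, 1]
  ex := [1, 1, 3, 3, 3, 1, 1, 3, 3, 3, 1, 1]

theorem okMap_G2 : graphG2.okMap chevG2 3 = true := by decide +kernel

theorem okOrder_G2 : graphG2.okOrder chevG2 3 2 3 = true := by decide +kernel

theorem okNodes_G2 : graphG2.okNodes chevG2 [1, 0] = true := by decide +kernel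

end Cfsg.Agent.Lie
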