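import Cfsg.Agent.Lib.Lie.Torus

/-!
Root elements as elements of the general linear group, and the subgroups they generate.
-/

set_option autoImplicit false

namespace Cfsg.Agent.Lie

open Cfsg.Lie Matrix
open scoped MatrixGroups

variable {D : ChevalleyDatum} {F : Type*} [Field F]

theorem x_out {r : ℕ} (hr : D.nroots ≤ r) (t : F) : D.x F r t = 1 := by
  rw [ChevalleyDatum.x, dif_neg (not_lt.2 hr)]

theorem evL_map_ringHom {K : Type*} [Field K] (f : F →+* K) (t u : F) (L : List Tm) :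
    (evL (idxEquiv D) t u L).map f = evL (idxEquiv D) (f t) (f u) L := by
  induction L with
  | nil => simp
  | cons m L ih =>
    rw [evL_cons, evL_cons, Matrix.map_add f (map_add f), ih]
    congr 1
    ext p q
    rw [Matrix.map_apply, tm_ev_apply, tm_ev_apply]
    split_ifs <;> simp [apply_ite f]

/-- Root elements commute with base change. -/
theorem x_map {K : Type*} [Field K] (f : F →+* K) (r : ℕ) (t : F) :
    (D.x F r t).map f = D.x K r (f t) := by
  rw [x_eq D F r t t, x_eq D K r (f t) (f t), Matrix.map_add f (map_add f),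
    Matrix.map_one f (map_zero f) (map_one f)]
  exact congrArg _ (evL_map_ringHom f t t _)

namespace Facts

variable (hF : Facts D)

include hF in
theorem x_add' (r : ℕ) (t u : F) : D.x F r t * D.x F r u = D.x F r (t + u) := by
  by_cases hr : r < D.nroots
  · exact hF.x_add r hr t u
  · simp [x_out (not_lt.1 hr)]

include hF in
theorem x_eq_one (r : ℕ) (hr : r < D.nroots) (t : F) : D.x F r t = 1 ↔ t = 0 := by
  refine ⟨fun h => ?_, fun h => h ▸ x_zero r⟩
  obtain ⟨d, hd⟩ := hF.co_primitive r hr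
  have hcol : D.x F r t *ᵥ eR D F (D.neg r) = eR D F (D.neg r) := by rw [h, one_mulVec]
  have hne : ∀ j, j < D.rank → (co D r j : F) * t = 0 := by
    intro j hj
    have := congrFun hcol (Sum.inl ⟨j, hj⟩)
    rw [x_mulVec_neg hF r hr] at this
    have h1 : ∀ k, (Sum.inl ⟨j, hj⟩ : D.Idx) ≠ Sum.inr k := fun k => Sum.inl_ne_inr
    have e0 : eR D F (D.neg r) (Sum.inl ⟨j, hj⟩ : D.Idx) = 0 := by
      rw [eR, eI_apply, idx_inl, if_neg (by simp only; omega)]
    have e1 : eR D F r (Sum.inl ⟨j, hj⟩ : D.Idx) = 0 := by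
      rw [eR, eI_apply, idx_inl, if_neg (by simp only; omega)]
    simp only [Pi.sub_apply, Pi.add_apply, Finset.sum_apply, Pi.smul_apply, smul_eq_mul, e0, e1,
      mul_zero, sub_zero, zero_add, eI_apply, idx_inl, mul_ite, mul_one] at this
    rwa [Finset.sum_ite_eq, if_pos (Finset.mem_range.2 hj)] at this
  have hcast : ((∑ j ∈ Finset.range D.rank, d j * co D r j : ℤ) : F) = 1 := by simp [hd]
  calc t = ((∑ j ∈ Finset.range D.rank, d j * co D r j : ℤ) : F) * t := by rw [hcast, one_mul]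
    _ = 0 := by
      rw [Int.cast_sum, Finset.sum_mul]
      refine Finset.sum_eq_zero fun j hj => ?_
      rw [Int.cast_mul, mul_assoc, hne j (Finset.mem_range.1 hj), mul_zero]

/-- x_r(t) in GL. -/
noncomputable def xg (r : ℕ) (t : F) : GL D.Idx F where
  val := D.x F r t
  inv := D.x F r (-t)
  val_inv := by rw [hF.x_add', add_neg_cancel, x_zero]
  inv_val := by rw [hF.x_add', neg_add_cancel, x_zero]

@[simp] theorem coe_xg (r : ℕ) (t : F) : (hF.xg r t : Matrix D.Idx D.Idx F) = D.x F r t := rfl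

theorem xg_add (r : ℕ) (t u : F) : hF.xg r (t + u) = hF.xg r t * hF.xg r u :=
  Units.ext (hF.x_add' r t u).symm

theorem xg_zero (r : ℕ) : hF.xg r (0 : F) = 1 := Units.ext (x_zero r)

theorem xg_neg (r : ℕ) (t : F) : hF.xg r (-t) = (hF.xg r t)⁻¹ := by
  rw [eq_inv_iff_mul_eq_one, ← hF.xg_add, neg_add_cancel, hF.xg_zero]

theorem xg_out {r : ℕ} (hr : D.nroots ≤ r) (t : F) : hF.xg r t = 1 := Units.ext (x_out hr t)

include hF in
theorem eq_xg {g : GL D.Idx F} {r : ℕ} {t : F} :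
    (g : Matrix D.Idx D.Idx F) = D.x F r t ↔ g = hF.xg r t :=
  ⟨fun h => Units.ext h, fun h => h ▸ rfl⟩

/-- A word of root elements in GL. -/
noncomputable def wg (w : List (ℕ × F)) : GL D.Idx F := (w.map fun p => hF.xg p.1 p.2).prod

theorem coe_wg (w : List (ℕ × F)) :
    (hF.wg w : Matrix D.Idx D.Idx F) = D.wordMat F w := by
  induction w with
  | nil => simp [wg, ChevalleyDatum.wordMat]
  | cons p w ih =>
    simp only [wg, ChevalleyDatum.wordMat, List.map_cons, List.prod_cons, Units.val_mul] at ih ⊢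
    rw [ih, coe_xg]

theorem wg_append (w w' : List (ℕ × F)) : hF.wg (w ++ w') = hF.wg w * hF.wg w' := by
  simp [wg]

theorem wg_cons (p : ℕ × F) (w : List (ℕ × F)) : hF.wg (p :: w) = hF.xg p.1 p.2 * hF.wg w := by
  simp [wg]

theorem wg_nil : hF.wg ([] : List (ℕ × F)) = 1 := rfl

theorem wg_mem {H : Subgroup (GL D.Idx F)} {w : List (ℕ × F)}
    (h : ∀ p ∈ w, hF.xg p.1 p.2 ∈ H) : hF.wg w ∈ H := by
  apply H.list_prod_mem
  intro g hg
  obtain ⟨p, hp, rfl⟩ := List.mem_map.1 hg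
  exact h p hp

/-- n_r(t) in GL. -/
noncomputable def ng (r : ℕ) (t : F) : GL D.Idx F := hF.wg (D.nWord r t)

theorem coe_ng (r : ℕ) (t : F) : (hF.ng r t : Matrix D.Idx D.Idx F) = D.nMat F r t :=
  hF.coe_wg _

theorem ng_eq (r : ℕ) (t : F) :
    hF.ng r t = hF.xg r t * hF.xg (D.neg r) (-t⁻¹) * hF.xg r t := by
  simp [ng, wg, ChevalleyDatum.nWord, mul_assoc]

theorem ng_neg (r : ℕ) (t : F) : hF.ng r (-t) = (hF.ng r t)⁻¹ := by
  simp only [ng_eq, _root_.mul_inv_rev, ← xg_neg, inv_neg, _root_.neg_neg, mul_assoc]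

/-- h_r(t) in GL. -/
noncomputable def hg (r : ℕ) (t : F) : GL D.Idx F := hF.wg (D.hWord r t)

theorem coe_hg (r : ℕ) (t : F) : (hF.hg r t : Matrix D.Idx D.Idx F) = D.hMat F r t :=
  hF.coe_wg _

theorem hg_eq (r : ℕ) (t : F) : hF.hg r t = hF.ng r t * hF.ng r (-1) := by
  simp [hg, ng, ChevalleyDatum.hWord, wg_append]

theorem group_eq : D.group F = Subgroup.closure (Set.range fun p : ℕ × F => hF.xg p.1 p.2) := by
  apply le_antisymm
  · apply (Subgroup.closure_le _).2
    rintro g ⟨r, t, hg⟩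
    refine Subgroup.subset_closure ⟨(r.val, t), Units.ext ?_⟩
    rw [hg, coe_xg, ChevalleyDatum.x, dif_pos r.isLt]
  · apply (Subgroup.closure_le _).2
    rintro g ⟨⟨r, t⟩, rfl⟩
    by_cases hr : r < D.nroots
    · exact Subgroup.subset_closure ⟨⟨r, hr⟩, t, by rw [coe_xg, ChevalleyDatum.x, dif_pos hr]⟩
    · simp only [hF.xg_out (not_lt.1 hr), SetLike.mem_coe, one_mem]

theorem xg_mem_group (r : ℕ) (t : F) : hF.xg r t ∈ D.group F := by
  rw [hF.group_eq]; exact Subgroup.subset_closure ⟨(r, t), rfl⟩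

theorem wg_mem_group (w : List (ℕ × F)) : hF.wg w ∈ D.group F :=
  hF.wg_mem fun p _ => hF.xg_mem_group p.1 p.2

/-- Relation n_i x_s(t) n_i⁻¹ = x_{w_i s}(η t). -/
theorem ng_conj (i : ℕ) (hi : i < D.rank) (s : ℕ) (hs : s < D.nroots) (t : F) :
    hF.ng (D.simple i) 1 * hF.xg s t * (hF.ng (D.simple i) 1)⁻¹ =
      hF.xg (D.reflectRoot i s) (hF.sgn F i s * t) := by
  rw [mul_inv_eq_iff_eq_mul]
  ext1
  simp [coe_ng, hF.n_x i hi s hs]

end Facts

end Cfsg.Agent.Lie
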