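import Mathlib

/-!
Groups with a half-transitive automorphism group that is not fixed-point-free are abelian;
imprimitive three-halves transitive groups are Frobenius groups.
-/

set_option autoImplicit false
set_option linter.style.haveILetI false

open scoped Pointwise

namespace Cfsg.Agent.Lie.HalfTransitive

open MulAction

/-- If all orbits have size `e`, then `e` divides the number of points. -/
theorem dvd_card_of_orbits {A X : Type*} [Group A] [MulAction A X] [Finite X] (e : ℕ)
    (h : ∀ x : X, Nat.card (orbit A x) = e) : e ∣ Nat.card X := by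
  haveI := Fintype.ofFinite (orbitRel.Quotient A X)
  rw [Nat.card_congr (selfEquivSigmaOrbits A X), Nat.card_sigma]
  exact Finset.dvd_sum fun q _ => (h _).symm.dvd

/-- A finite group with an automorphism group all of whose stabilisers of non-identity elements
have the same order bigger than one is abelian. -/
theorem mul_comm_of_halfTransitive {N H : Type*} [Group N] [Finite N] [Group H] [Finite H]
    [MulDistribMulAction H N] [FaithfulSMul H N] (c : ℕ) (hc : 1 < c)
    (hst : ∀ x : N, x ≠ 1 → Nat.card (stabilizer H x) = c) : ∀ a b : N, a * b = b * a := by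
  classical
  by_cases hN : ∀ x : N, x = 1
  · intro a b
    rw [hN a, hN b]
  push Not at hN
  obtain ⟨x₀, hx₀⟩ := hN
  have hck : ∃ k, Nat.card H = c * k ∧ k ∣ Nat.card N - 1 := by
    obtain ⟨x, hx⟩ : ∃ x : N, x ≠ 1 := ⟨x₀, hx₀⟩
    refine ⟨(stabilizer H x).index, ?_, ?_⟩
    · rw [← hst x hx, Subgroup.card_mul_index]
    let X : SubMulAction H N :=
      { carrier := {y | y ≠ 1}
        smul_mem' := fun g y hy h => hy ((smul_eq_iff_eq_inv_smul g).1 h |>.trans (smul_one _)) }
    have hX : Nat.card X = Nat.card N - 1 := by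
      show Nat.card ({y | y ≠ 1} : Set N) = _
      rw [Nat.card_coe_set_eq, show ({y | y ≠ 1} : Set N) = {1}ᶜ from rfl, Set.ncard_compl,
        Set.ncard_singleton]
    rw [← hX]
    refine dvd_card_of_orbits (A := H) _ fun y => ?_
    rw [Nat.card_coe_set_eq, ← index_stabilizer, SubMulAction.stabilizer_of_subMul]
    refine Nat.eq_of_mul_eq_mul_left (show 0 < c by omega) ?_
    nth_rw 1 [← hst y y.2]
    rw [Subgroup.card_mul_index, ← hst x hx, Subgroup.card_mul_index]
  obtain ⟨k, hHk, hkn⟩ := hck
  -- conjugate elements have the same stabiliser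
  have hconj : ∀ x : N, x ≠ 1 → ∀ v : N, stabilizer H (v * x * v⁻¹) = stabilizer H x := by
    intro x hx v
    let T : Subgroup H :=
      { carrier := {g | IsConj x (g • x)}
        one_mem' := by show IsConj x ((1 : H) • x); rw [one_smul]
        mul_mem' := fun {a b} ha hb => by
          show IsConj x ((a * b) • x)
          rw [mul_smul]
          exact ha.trans ((MulDistribMulAction.toMonoidHom N a).map_isConj hb)
        inv_mem' := fun {a} ha => by
          show IsConj x (a⁻¹ • x)
          have h1 := (MulDistribMulAction.toMonoidHom N a⁻¹).map_isConj ha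
          simp only [MulDistribMulAction.toMonoidHom_apply, inv_smul_smul] at h1
          exact h1.symm }
    have hle : ∀ y : N, IsConj x y → stabilizer H y ≤ T := fun y hy g hg => by
      rw [mem_stabilizer_iff] at hg
      show IsConj x (g • x)
      have h1 := (MulDistribMulAction.toMonoidHom N g).map_isConj hy
      simp only [MulDistribMulAction.toMonoidHom_apply, hg] at h1
      exact hy.trans h1.symm
    let Y : SubMulAction T N :=
      { carrier := {y | IsConj x y}
        smul_mem' := fun g y hy => by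
          show IsConj x ((g : H) • y)
          exact g.2.trans ((MulDistribMulAction.toMonoidHom N (g : H)).map_isConj hy) }
    have hYne : ∀ y : Y, (y : N) ≠ 1 := fun y h =>
      hx (isConj_one_left.1 (h ▸ y.2 : IsConj x 1))
    have horb : ∀ y : Y, Nat.card (orbit T y) * c = Nat.card T := by
      intro y
      rw [Nat.card_coe_set_eq, ← index_stabilizer, ← hst y (hYne y), SubMulAction.stabilizer_of_subMul]
      have e : stabilizer T (y : N) = (stabilizer H (y : N)).subgroupOf T := rfl
      rw [e, mul_comm]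
      conv_lhs => arg 1; rw [← Nat.card_congr (Subgroup.subgroupOfEquivOfLe (hle y y.2)).toEquiv]
      exact Subgroup.card_mul_index _
    set x' : Y := ⟨x, IsConj.refl x⟩ with hx'
    set e := Nat.card (orbit T x') with he
    have heY : e ∣ Nat.card Y := by
      refine dvd_card_of_orbits (A := T) _ fun y => Nat.eq_of_mul_eq_mul_right (show 0 < c by omega) ?_
      rw [horb y, horb x']
    have hYN : Nat.card Y ∣ Nat.card N := by
      have h1 : Nat.card Y = (stabilizer (ConjAct N) x).index := by
        show Nat.card {y | IsConj x y} = _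
        rw [index_stabilizer, ← Nat.card_coe_set_eq]
        refine Nat.card_congr (Equiv.setCongr ?_)
        ext y
        rw [Set.mem_setOf_eq, ConjAct.mem_orbit_conjAct, isConj_comm]
      rw [h1, ← Nat.card_congr (ConjAct.ofConjAct (G := N)).toEquiv]
      exact Subgroup.index_dvd_card _
    have hek : e ∣ k := by
      have h1 := Subgroup.card_subgroup_dvd_card T
      rw [← horb x', hHk, mul_comm c k] at h1
      exact Nat.dvd_of_mul_dvd_mul_right (by omega) h1
    have he1 : e = 1 := by
      have h1 : e ∣ Nat.card N := heY.trans hYN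
      have h2 : e ∣ Nat.card N - 1 := hek.trans hkn
      have h3 := Nat.dvd_sub h1 h2
      have := Nat.card_pos (α := N)
      rwa [show Nat.card N - (Nat.card N - 1) = 1 by omega, Nat.dvd_one] at h3
    have hT : stabilizer H x = T := by
      refine Subgroup.eq_of_le_of_card_ge (hle x (IsConj.refl x)) ?_
      rw [← horb x', ← he, he1, one_mul, hst x hx]
    have hy : IsConj x (v * x * v⁻¹) := isConj_iff.2 ⟨v, rfl⟩
    refine Subgroup.eq_of_le_of_card_ge ((hle _ hy).trans hT.ge) ?_
    rw [hst x hx, hst _ (by simpa [mul_inv_eq_one] using hx)]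
  intro a b
  by_cases ha : a = 1
  · rw [ha, one_mul, mul_one]
  -- the elements fixed by the stabiliser of `a` form a proper normal subgroup
  let U : N → Subgroup N := fun x =>
    { carrier := {y | ∀ g ∈ stabilizer H x, g • y = y}
      one_mem' := fun g _ => smul_one g
      mul_mem' := fun {y z} hy hz g hg => by rw [smul_mul', hy g hg, hz g hg]
      inv_mem' := fun {y} hy g hg => by rw [smul_inv', hy g hg] }
  have hUn : ∀ x, (U x).Normal := fun x => ⟨fun y hy v g hg => by
    by_cases h1 : y = 1
    · rw [h1, mul_one, mul_inv_cancel, smul_one]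
    · have h2 : g ∈ stabilizer H (v * y * v⁻¹) := by rw [hconj y h1 v]; exact hy g hg
      exact h2⟩
  have hUeq : ∀ x y, x ≠ 1 → y ≠ 1 → y ∈ U x → stabilizer H x = stabilizer H y := fun x y hx hy hm =>
    Subgroup.eq_of_le_of_card_ge (fun g hg => hm g hg) (by rw [hst x hx, hst y hy])
  have hUne : U a ≠ ⊤ := by
    intro htop
    haveI : Nontrivial (stabilizer H a) := Finite.one_lt_card_iff_nontrivial.1 (by rw [hst a ha]; exact hc)
    obtain ⟨g, hg⟩ := exists_ne (1 : stabilizer H a)
    refine hg (Subtype.ext (eq_of_smul_eq_smul fun y : N => ?_))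
    rw [OneMemClass.coe_one, one_smul]
    exact (htop ▸ Subgroup.mem_top y : y ∈ U a) g g.2
  have hout : ∀ y, y ∉ U a → Commute a y := by
    intro y hy
    have hy1 : y ≠ 1 := fun h => hy (h ▸ one_mem _)
    have hdis : Disjoint (U a) (U y) := by
      rw [disjoint_iff, Subgroup.eq_bot_iff_forall]
      rintro z ⟨hz1, hz2⟩
      by_contra hz
      refine hy fun g hg => ?_
      rw [hUeq a z ha hz hz1, ← hUeq y z hy1 hz hz2] at hg
      exact hg
    exact Subgroup.commute_of_normal_of_disjoint _ _ (hUn a) (hUn y) hdis _ _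
      (fun g hg => hg) (fun g hg => hg)
  obtain ⟨z, hz⟩ := SetLike.not_le_iff_exists.1 (fun h => hUne (top_le_iff.1 h) : ¬ (⊤ : Subgroup N) ≤ U a)
  by_cases hb : b ∈ U a
  · have h1 : b * z ∉ U a := fun h => hz.2 (by
      have := mul_mem (inv_mem hb) h
      rwa [inv_mul_cancel_left] at this)
    have h2 := (hout _ h1).mul_right (hout z hz.2).inv_right
    rwa [mul_inv_cancel_right] at h2
  · exact hout b hb

/-- A block system in a three-halves transitive group forces trivial two-point stabilisers. -/
theorem stabilizer_inf_eq_bot {G Ω : Type*} [Group G] [Finite G] [MulAction G Ω] [FaithfulSMul G Ω]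
    [Finite Ω] [IsPretransitive G Ω]
    (hhalf : ∀ a b c : Ω, b ≠ a → c ≠ a →
      Nat.card (orbit (stabilizer G a) b) = Nat.card (orbit (stabilizer G a) c))
    {B : Set Ω} (hB : IsBlock G B) (hBs : B.Nontrivial) (hBu : B ≠ Set.univ) :
    ∀ a b : Ω, a ≠ b → stabilizer G a ⊓ stabilizer G b = ⊥ := by
  classical
  have hcard : ∀ a b c : Ω, b ≠ a → c ≠ a →
      Nat.card (stabilizer G a ⊓ stabilizer G b : Subgroup G) =
      Nat.card (stabilizer G a ⊓ stabilizer G c : Subgroup G) := by
    intro a b c hb hc
    have key : ∀ d : Ω, Nat.card (stabilizer G a ⊓ stabilizer G d : Subgroup G) *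
        Nat.card (orbit (stabilizer G a) d) = Nat.card (stabilizer G a) := by
      intro d
      rw [Nat.card_coe_set_eq, ← index_stabilizer,
        ← Nat.card_congr (Subgroup.subgroupOfEquivOfLe (inf_le_left : stabilizer G a ⊓ stabilizer G d ≤ _)).toEquiv]
      rw [show stabilizer (stabilizer G a) d =
        (stabilizer G a ⊓ stabilizer G d).subgroupOf (stabilizer G a) by
          ext g; exact ⟨fun h => ⟨g.2, h⟩, fun h => h.2⟩]
      exact Subgroup.card_mul_index _
    have h1 := key b
    have h2 := key c
    rw [hhalf a b c hb hc] at h1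
    haveI := (nonempty_orbit (M := stabilizer G a) c).to_subtype
    exact Nat.eq_of_mul_eq_mul_right Nat.card_pos (h1.trans h2.symm)
  -- work in a block through a given point
  suffices hmain : ∀ a : Ω, ∀ C : Set Ω, IsBlock G C → a ∈ C → C.Nontrivial → C ≠ Set.univ →
      ∀ x, x ∉ C → ∀ g : G, g • a = a → g • x = x → ∀ y ∈ C, g • y = y by
    intro a b hab
    obtain ⟨a₀, ha₀⟩ := hBs.nonempty
    obtain ⟨t, ht⟩ := exists_smul_eq G a₀ a
    have hC := hB.translate t
    have haC : a ∈ t • B := ⟨a₀, ha₀, ht⟩
    have hCs : (t • B).Nontrivial := by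
      rw [← Set.image_smul]; exact hBs.image (MulAction.injective t)
    have hCu : t • B ≠ Set.univ := fun h => hBu (by rw [← inv_smul_smul t B, h, Set.smul_set_univ])
    obtain ⟨x, hx⟩ := (Set.ne_univ_iff_exists_notMem _).1 hCu
    have hxa : x ≠ a := fun h => hx (h ▸ haC)
    -- every two-point stabiliser at `a` equals the one at `(a, x)`
    have hin : ∀ x', x' ∉ t • B → ∀ y ∈ t • B, y ≠ a →
        stabilizer G a ⊓ stabilizer G x' = stabilizer G a ⊓ stabilizer G y := by
      intro x' hx' y hy hya
      refine Subgroup.eq_of_le_of_card_ge ?_ (hcard a y x' hya (fun h => hx' (h ▸ haC))).le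
      intro g hg
      exact ⟨hg.1, hmain a _ hC haC hCs hCu x' hx' g hg.1 hg.2 y hy⟩
    obtain ⟨y₀, hy₀, hy₀a⟩ := hCs.exists_ne a
    have hall : ∀ z, z ≠ a → stabilizer G a ⊓ stabilizer G z = stabilizer G a ⊓ stabilizer G x := by
      intro z hz
      by_cases hzC : z ∈ t • B
      · exact (hin x hx z hzC hz).symm
      · rw [hin z hzC y₀ hy₀ hy₀a, hin x hx y₀ hy₀ hy₀a]
    rw [Subgroup.eq_bot_iff_forall]
    intro g hg
    refine eq_of_smul_eq_smul fun z : Ω => ?_
    rw [one_smul]
    rcases eq_or_ne z a with rfl | hz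
    · exact hg.1
    · rw [hall b hab.symm, ← hall z hz] at hg
      exact hg.2
  intro a C hC haC hCs hCu x hx g hga hgx y hy
  -- the block through `x`
  obtain ⟨t, ht⟩ := exists_smul_eq G a x
  have hxD : x ∈ t • C := ⟨a, haC, ht⟩
  have hdis : Disjoint (t • C) C := (isBlock_iff_smul_eq_or_disjoint.1 hC t).resolve_left fun h => hx (h ▸ hxD)
  have hDn : ∀ d ∈ t • C, d ∉ C := fun d hd => Set.disjoint_left.1 hdis hd
  -- stabiliser of `x` and of the block through `a`
  let K : Subgroup G := stabilizer G x ⊓ stabilizer G C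
  have hle : ∀ d ∈ C, stabilizer G x ⊓ stabilizer G d ≤ K := fun d hd u hu =>
    ⟨hu.1, (isBlock_iff_smul_eq_or_disjoint.1 hC u).resolve_right
      (Set.not_disjoint_iff.2 ⟨d, ⟨d, hd, hu.2⟩, hd⟩)⟩
  let Y : SubMulAction K Ω :=
    { carrier := C
      smul_mem' := fun u d hd => by
        have : (u : G) • C = C := u.2.2
        show (u : G) • d ∈ C
        rw [← this]; exact Set.smul_mem_smul_set hd }
  have hxy : ∀ d ∈ C, d ≠ x := fun d hd h => hx (h ▸ hd)
  set c := Nat.card (stabilizer G x ⊓ stabilizer G a : Subgroup G) with hcdef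
  have horb : ∀ d : Y, Nat.card (orbit K d) * c = Nat.card K := by
    intro d
    rw [Nat.card_coe_set_eq, ← index_stabilizer, SubMulAction.stabilizer_of_subMul, hcdef,
      hcard x a d (hxy a haC) (hxy d d.2), mul_comm,
      ← Nat.card_congr (Subgroup.subgroupOfEquivOfLe (hle d d.2)).toEquiv]
    have e : stabilizer K (d : Ω) = (stabilizer G x ⊓ stabilizer G (d : Ω)).subgroupOf K := by
      ext u
      simp only [Subgroup.mem_subgroupOf, mem_stabilizer_iff, Subgroup.mem_inf]
      exact ⟨fun h => ⟨u.2.1, h⟩, fun h => h.2⟩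
    rw [e]
    exact Subgroup.card_mul_index _
  have hc0 : 0 < c := Nat.card_pos
  set e := Nat.card (orbit K (⟨a, haC⟩ : Y)) with he
  have heC : e ∣ Nat.card Y := dvd_card_of_orbits (A := K) _ fun d =>
    Nat.eq_of_mul_eq_mul_right hc0 (by rw [horb d, horb ⟨a, haC⟩])
  -- `e` divides the common orbit length, which divides `#C - 1`
  have hek : e ∣ Nat.card (orbit (stabilizer G x) a) := by
    have h1 : Nat.card K ∣ Nat.card (stabilizer G x) := Subgroup.card_dvd_of_le inf_le_left
    have h2 : Nat.card (orbit (stabilizer G x) a) * c = Nat.card (stabilizer G x) := by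
      rw [Nat.card_coe_set_eq, ← index_stabilizer, mul_comm, hcdef,
        ← Nat.card_congr (Subgroup.subgroupOfEquivOfLe
          (inf_le_left : stabilizer G x ⊓ stabilizer G a ≤ _)).toEquiv,
        show stabilizer (stabilizer G x) a = (stabilizer G x ⊓ stabilizer G a).subgroupOf (stabilizer G x) by
          ext u; exact ⟨fun h => ⟨u.2, h⟩, fun h => h.2⟩]
      exact Subgroup.card_mul_index _
    rw [← horb ⟨a, haC⟩, ← h2] at h1
    exact Nat.dvd_of_mul_dvd_mul_right hc0 h1
  have hkC : Nat.card (orbit (stabilizer G x) a) ∣ (t • C).ncard - 1 := by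
    have hinv : ∀ (u : stabilizer G x) (d : Ω), d ∈ t • C \ {x} → u • d ∈ t • C \ {x} := by
      intro u d hd
      refine ⟨?_, fun h => hd.2 ?_⟩
      · rw [← ((isBlock_iff_smul_eq_or_disjoint.1 (hC.translate t)) (u : G)).resolve_right
          (Set.not_disjoint_iff.2 ⟨x, ⟨x, hxD, u.2⟩, hxD⟩)]
        exact Set.smul_mem_smul_set hd.1
      · rw [Set.mem_singleton_iff] at h ⊢
        exact MulAction.injective (u : G) (h.trans u.2.symm)
    let Z : SubMulAction (stabilizer G x) Ω := { carrier := t • C \ {x}, smul_mem' := fun u d => hinv u d }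
    rw [← Set.ncard_diff_singleton_of_mem hxD, ← Nat.card_coe_set_eq (t • C \ {x})]
    refine dvd_card_of_orbits (A := stabilizer G x) (X := Z) _ fun d => ?_
    rw [Nat.card_coe_set_eq, ← index_stabilizer, SubMulAction.stabilizer_of_subMul, index_stabilizer,
      ← Nat.card_coe_set_eq]
    exact hhalf x d a (fun h => d.2.2 h) (hxy a haC)
  have he1 : e = 1 := by
    have h1 : e ∣ C.ncard := by rw [← Nat.card_coe_set_eq]; exact heC
    have h2 : e ∣ C.ncard - 1 := by
      have h := hek.trans hkC
      rwa [Set.ncard_smul_set] at h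
    have h3 := Nat.dvd_sub h1 h2
    have : 0 < C.ncard := (Set.ncard_pos).2 ⟨a, haC⟩
    rwa [show C.ncard - (C.ncard - 1) = 1 by omega, Nat.dvd_one] at h3
  -- hence `K` fixes the block through `a` pointwise
  have hgK : g ∈ K := hle a haC ⟨hgx, hga⟩
  have hone : Nat.card (orbit K (⟨y, hy⟩ : Y)) = 1 :=
    Nat.eq_of_mul_eq_mul_right hc0 (by rw [horb ⟨y, hy⟩, ← horb ⟨a, haC⟩, ← he, he1])
  haveI := (Nat.card_eq_one_iff_unique.1 hone).1
  have h := Subsingleton.elim (⟨_, mem_orbit _ (⟨g, hgK⟩ : K)⟩ : orbit K (⟨y, hy⟩ : Y)) ⟨_, mem_orbit_self _⟩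
  exact congrArg (fun d => ((d.1 : Y) : Ω)) h

end Cfsg.Agent.Lie.HalfTransitive
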