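import Mathlib

/-!
The automorphism group of a Hamming scheme is primitive but not doubly transitive.
-/

set_option autoImplicit false
set_option linter.unusedSectionVars false

open scoped Pointwise

namespace Cfsg.Agent.Lie.HammingScheme

variable {ι : Type*} [Fintype ι] [DecidableEq ι] {m n : ℕ}

/-- The isometries of the Hamming distance, transported to `Fin n`. -/
def isom (e : (ι → Fin m) ≃ Fin n) : Subgroup (Equiv.Perm (Fin n)) where
  carrier := {σ | ∀ a b, hammingDist (e.symm (σ a)) (e.symm (σ b)) = hammingDist (e.symm a) (e.symm b)}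
  one_mem' := fun _ _ => rfl
  mul_mem' {σ τ} hσ hτ := fun a b => (hσ (τ a) (τ b)).trans (hτ a b)
  inv_mem' {σ} hσ := fun a b => by
    have h := hσ (σ⁻¹ a) (σ⁻¹ b)
    simp only [Equiv.Perm.coe_inv, Equiv.apply_symm_apply] at h ⊢
    exact h.symm

/-- Coordinatewise permutations after a permutation of the coordinates. -/
def move (σ : Equiv.Perm ι) (τ : ι → Equiv.Perm (Fin m)) : Equiv.Perm (ι → Fin m) where
  toFun x k := τ k (x (σ k))
  invFun x k := (τ (σ.symm k)).symm (x (σ.symm k))
  left_inv x := by funext k; simp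
  right_inv x := by funext k; simp

theorem move_apply (σ : Equiv.Perm ι) (τ : ι → Equiv.Perm (Fin m)) (x : ι → Fin m) (k : ι) :
    move σ τ x k = τ k (x (σ k)) := rfl

theorem move_dist (σ : Equiv.Perm ι) (τ : ι → Equiv.Perm (Fin m)) (x y : ι → Fin m) :
    hammingDist (move σ τ x) (move σ τ y) = hammingDist x y := by
  unfold hammingDist
  refine Finset.card_equiv σ fun k => ?_
  simp [move_apply]

theorem move_mem (e : (ι → Fin m) ≃ Fin n) (σ : Equiv.Perm ι) (τ : ι → Equiv.Perm (Fin m)) :
    e.permCongr (move σ τ) ∈ isom e := fun a b => by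
  simp [Equiv.permCongr_apply, move_dist]

theorem exists_perm_two {a b c d : Fin m} (hab : a ≠ b) (hcd : c ≠ d) :
    ∃ π : Equiv.Perm (Fin m), π a = c ∧ π b = d := by
  refine ⟨(Equiv.swap a c).trans (Equiv.swap (Equiv.swap a c b) d), ?_, by simp⟩
  have h : Equiv.swap a c b ≠ c := fun h => hab ((Equiv.swap a c).injective
    ((Equiv.swap_apply_left a c).trans h.symm))
  simp only [Equiv.trans_apply, Equiv.swap_apply_left]
  exact Equiv.swap_apply_of_ne_of_ne h.symm hcd

theorem isPretransitive (e : (ι → Fin m) ≃ Fin n) : MulAction.IsPretransitive (isom e) (Fin n) := by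
  refine ⟨fun a b => ⟨⟨_, move_mem e 1 fun k => Equiv.swap (e.symm a k) (e.symm b k)⟩, ?_⟩⟩
  show e.permCongr (move 1 fun k => Equiv.swap (e.symm a k) (e.symm b k)) a = b
  rw [Equiv.permCongr_apply, ← e.eq_symm_apply]
  funext k
  simp [move_apply]

theorem smul_mem_of_block (e : (ι → Fin m) ≃ Fin n) {B : Set (Fin n)} (hB : MulAction.IsBlock (isom e) B)
    (σ : Equiv.Perm ι) (τ : ι → Equiv.Perm (Fin m)) {x y : ι → Fin m} (hx : e x ∈ B)
    (hgx : e (move σ τ x) ∈ B) (hy : e y ∈ B) : e (move σ τ y) ∈ B := by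
  let g : isom e := ⟨_, move_mem e σ τ⟩
  have hg : ∀ z : ι → Fin m, g • e z = e (move σ τ z) := fun z => by
    show e (move σ τ (e.symm (e z))) = _
    rw [e.symm_apply_apply]
  have hne : ¬ Disjoint (g • B) B := Set.not_disjoint_iff.2 ⟨_, ⟨e x, hx, hg x⟩, hgx⟩
  rw [← (MulAction.isBlock_iff_smul_eq_or_disjoint.1 hB g).resolve_right hne]
  exact ⟨e y, hy, hg y⟩

theorem isPreprimitive (e : (ι → Fin m) ≃ Fin n) (hm : 3 ≤ m) :
    MulAction.IsPreprimitive (isom e) (Fin n) := by
  have := isPretransitive e
  refine ⟨fun {B} hB => ?_⟩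
  by_cases hs : B.Subsingleton
  · exact Or.inl hs
  right
  obtain ⟨x, hx, y, hy, hxy⟩ := Set.not_subsingleton_iff.1 hs
  obtain ⟨x, rfl⟩ := e.surjective x
  obtain ⟨y, rfl⟩ := e.surjective y
  obtain ⟨i, hi⟩ := Function.ne_iff.1 fun h : x = y => hxy (congrArg e h)
  obtain ⟨c, hcx, hcy⟩ : ∃ c : Fin m, c ≠ x i ∧ c ≠ y i := by
    obtain ⟨c, -, hc⟩ := Finset.exists_mem_notMem_of_card_lt_card (s := {x i, y i}) (t := Finset.univ)
      (lt_of_le_of_lt Finset.card_le_two (by simp; omega))
    exact ⟨c, by simp at hc; exact hc.1, by simp at hc; exact hc.2⟩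
  let τ₀ : ι → Equiv.Perm (Fin m) := Function.update (fun _ => 1) i (Equiv.swap (y i) c)
  have hτ₀ : ∀ z k, move 1 τ₀ z k = if k = i then Equiv.swap (y i) c (z k) else z k := fun z k => by
    rw [move_apply]
    by_cases h : k = i
    · subst h; simp [τ₀]
    · simp [τ₀, h]
  have hx0 : move 1 τ₀ x = x := funext fun k => by
    rw [hτ₀]
    split_ifs with h
    · subst h; exact Equiv.swap_apply_of_ne_of_ne hi hcx.symm
    · rfl
  have hy' : e (Function.update y i c) ∈ B := by
    have h := smul_mem_of_block e hB 1 τ₀ hx (by rwa [hx0]) hy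
    convert h using 3
    funext k
    rw [hτ₀]
    split_ifs with h
    · subst h; simp
    · simp [h]
  have hstep : ∀ (u : ι → Fin m) (j : ι) (d : Fin m), e u ∈ B → e (Function.update u j d) ∈ B := by
    intro u j d hu
    rcases eq_or_ne d (u j) with rfl | hd
    · rwa [Function.update_eq_self]
    obtain ⟨π, hπ1, hπ2⟩ := exists_perm_two hcy.symm hd.symm
    let τ : ι → Equiv.Perm (Fin m) := fun k => if k = j then π else Equiv.swap (y (Equiv.swap i j k)) (u k)
    have h1 : move (Equiv.swap i j) τ y = u := funext fun k => by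
      rw [move_apply]
      by_cases h : k = j
      · subst h; simp [τ, hπ1]
      · simp [τ, h]
    have h2 : move (Equiv.swap i j) τ (Function.update y i c) = Function.update u j d := funext fun k => by
      rw [move_apply]
      by_cases h : k = j
      · subst h; simp [τ, hπ2]
      · have h' : Equiv.swap i j k ≠ i := fun e' => h ((Equiv.swap i j).injective (e'.trans (Equiv.swap_apply_right i j).symm))
        simp [τ, h, h']
    have h := smul_mem_of_block e hB (Equiv.swap i j) τ hy (by rwa [h1]) hy'
    rwa [h2] at h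
  refine Set.eq_univ_of_forall fun z => ?_
  obtain ⟨z, rfl⟩ := e.surjective z
  have : ∀ s : Finset ι, e (fun k => if k ∈ s then z k else y k) ∈ B := by
    intro s
    induction s using Finset.induction with
    | empty => simpa using hy
    | @insert a s ha ih =>
      have h := hstep _ a (z a) ih
      convert h using 2
      funext k
      by_cases h : k = a <;> simp [h]
  simpa using this Finset.univ

theorem not_two_transitive (e : (ι → Fin m) ≃ Fin n) (hm : 2 ≤ m) (hι : 2 ≤ Fintype.card ι) :
    ¬ MulAction.IsMultiplyPretransitive (isom e) (Fin n) 2 := by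
  intro h
  obtain ⟨i, j, hij⟩ := Fintype.exists_pair_of_one_lt_card hι
  let a : Fin m := ⟨0, by omega⟩
  let b : Fin m := ⟨1, by omega⟩
  have hab : a ≠ b := by simp [a, b, Fin.ext_iff]
  let x : ι → Fin m := fun _ => a
  let y : ι → Fin m := Function.update x i b
  let z : ι → Fin m := Function.update y j b
  have h1 : e x ≠ e y := fun he => hab (by simpa [x, y] using congrFun (e.injective he) i)
  have h2 : e x ≠ e z := fun he => hab (by simpa [x, y, z] using congrFun (e.injective he) j)
  obtain ⟨g, hg1, hg2⟩ := MulAction.is_two_pretransitive_iff.1 h h1 h2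
  have h3 := g.2 (e x) (e y)
  rw [show (g : Equiv.Perm (Fin n)) (e x) = e x from hg1,
    show (g : Equiv.Perm (Fin n)) (e y) = e z from hg2] at h3
  simp only [Equiv.symm_apply_apply] at h3
  have hd1 : hammingDist x y = 1 := by
    unfold hammingDist
    rw [Finset.card_eq_one]
    refine ⟨i, ?_⟩
    ext k
    by_cases hk : k = i <;> simp [x, y, hk, hab]
  have hd2 : hammingDist x z = 2 := by
    unfold hammingDist
    rw [Finset.card_eq_two]
    refine ⟨i, j, hij, ?_⟩
    ext k
    by_cases hk : k = j
    · subst hk; simp [x, y, z, hab]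
    · by_cases hk' : k = i <;> simp [x, y, z, hk, hk', hab, hij]
  omega

end Cfsg.Agent.Lie.HammingScheme
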