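import Cfsg.Agent.Lib.Lie.PermNine

/-!
A group of permutations with generators permuting a list of sets acts on that list.
-/

set_option autoImplicit false

namespace Cfsg.Agent.Lie.InducedAction

open Cfsg.Agent.Lie PermNine

universe u

/-- A permutation carries the sets of a list to each other. -/
def carryOK (n m : ℕ) (D : ℕ → ℕ) (p q i : ℕ) : Bool :=
  Nat.blt (pg q i) m && (List.range n).all fun x => Nat.testBit (D (pg q i)) (pg p x) == Nat.testBit (D i) x

/-- The sets of a list differ below a bound. -/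
def distinctOK (n m : ℕ) (D : ℕ → ℕ) : Bool :=
  decide ((List.range m).map fun i => D i % 2 ^ n).Nodup

variable {G : Type u} [Group G] [Finite G] {n m : ℕ}

/-- The action on the list. -/
theorem exists_stage (φ : G →* Equiv.Perm (Fin n)) {k : ℕ} (xs : Fin k → G)
    (hgen : Subgroup.closure (Set.range xs) = ⊤) (ps qs : List ℕ) (D : ℕ → ℕ)
    (hp : ∀ s : Fin k, Rep φ (xs s) (ps.getD s 0)) (hd : distinctOK n m D = true)
    (hc : ∀ s < k, ∀ i < m, carryOK n m D (ps.getD s 0) (qs.getD s 0) i = true) :
    ∃ ψ : G →* Equiv.Perm (Fin m), ∀ s : Fin k, Rep ψ (xs s) (qs.getD s 0) := by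
  classical
  let R : G → Fin m → Fin m → Prop := fun g i j =>
    ∀ x : Fin n, Nat.testBit (D j) (φ g x : ℕ) = Nat.testBit (D i) x
  have huniq : ∀ g i j j', R g i j → R g i j' → j = j' := fun g i j j' h h' => by
    have e : D (j : ℕ) % 2 ^ n = D (j' : ℕ) % 2 ^ n := by
      refine Nat.eq_of_testBit_eq fun x => ?_
      rw [Nat.testBit_mod_two_pow, Nat.testBit_mod_two_pow]
      by_cases hx : x < n
      · obtain ⟨y, hy⟩ := (φ g).surjective ⟨x, hx⟩
        have h1 := h y; have h2 := h' y
        rw [hy] at h1 h2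
        simp only [hx, decide_true, Bool.true_and]
        exact h1.trans h2.symm
      · simp [hx]
    have hnd : ((List.range m).map fun i => D i % 2 ^ n).Nodup := of_decide_eq_true hd
    exact Fin.ext (List.inj_on_of_nodup_map hnd (List.mem_range.2 j.2) (List.mem_range.2 j'.2) e)
  let S : Submonoid G :=
    { carrier := {g | ∀ i, ∃ j, R g i j}
      one_mem' := fun i => ⟨i, fun x => by rw [map_one]; rfl⟩
      mul_mem' := fun {g h} hg hh i => by
        obtain ⟨j, hj⟩ := hh i
        obtain ⟨l, hl⟩ := hg j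
        exact ⟨l, fun x => by rw [map_mul, Equiv.Perm.mul_apply]; exact (hl _).trans (hj x)⟩ }
  have hS : ∀ g, g ∈ S := fun g => by
    have hg : g ∈ Subgroup.closure (Set.range xs) := hgen ▸ Subgroup.mem_top g
    induction hg using Subgroup.closure_induction with
    | mem x hx =>
      obtain ⟨s, rfl⟩ := hx
      intro i
      have h := hc s s.2 i i.2
      simp only [carryOK, Bool.and_eq_true, Nat.blt_eq, List.all_eq_true, List.mem_range, beq_iff_eq] at h
      exact ⟨⟨_, h.1⟩, fun x => by rw [hp s x]; exact h.2 x x.2⟩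
    | one => exact S.one_mem
    | mul x y _ _ hx hy => exact S.mul_mem hx hy
    | inv x _ hx =>
      rw [inv_eq_of_mul_eq_one_right (show x * x ^ (orderOf x - 1) = 1 by
        rw [← pow_succ', Nat.sub_add_cancel (orderOf_pos x), pow_orderOf_eq_one])]
      exact pow_mem hx _
  choose f hf using hS
  have hone : ∀ i, f 1 i = i := fun i => huniq 1 i _ _ (hf 1 i) fun x => by rw [map_one]; rfl
  have hmul : ∀ g h i, f (g * h) i = f g (f h i) := fun g h i => huniq (g * h) i _ _ (hf (g * h) i) fun x => by
    rw [map_mul, Equiv.Perm.mul_apply]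
    exact (hf g (f h i) _).trans (hf h i x)
  let ψ : G →* Equiv.Perm (Fin m) :=
    { toFun := fun g => ⟨f g, f g⁻¹, fun i => by rw [← hmul, inv_mul_cancel, hone],
        fun i => by rw [← hmul, mul_inv_cancel, hone]⟩
      map_one' := Equiv.ext hone
      map_mul' := fun g h => Equiv.ext (hmul g h) }
  refine ⟨ψ, fun s i => ?_⟩
  have h := hc s s.2 i i.2
  simp only [carryOK, Bool.and_eq_true, Nat.blt_eq, List.all_eq_true, List.mem_range, beq_iff_eq] at h
  exact congrArg Fin.val (huniq (xs s) i (f (xs s) i) ⟨_, h.1⟩ (hf _ i) fun x => by rw [hp s x]; exact h.2 x x.2)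

end Cfsg.Agent.Lie.InducedAction
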