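import Mathlib
import Cfsg.Prelude.Def_LieExceptional
import Cfsg.Agent.Lib.Lie.Zassenhaus
import Cfsg.Agent.Lib.Fusion.FusionIndex

/-!
Sharply triply transitive groups whose two-point stabiliser has a subgroup of index two are not
simple.
-/

set_option autoImplicit false
set_option linter.style.haveILetI false

namespace Cfsg.Agent.Lie.SharpTransfer

open MulAction
open Cfsg.Agent.Lie.Zassenhaus
open scoped Pointwise

universe u v

variable {G : Type u} {Ω : Type v} [Group G] [MulAction G Ω]

theorem zmod_two_add_self (x : Multiplicative (ZMod 2)) : x * x = 1 := by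
  revert x; decide

/-- A homomorphism to a group of order two of a simple group of order more than two is trivial. -/
theorem simple_hom_two [Finite G] [IsSimpleGroup G] {A : Type*} [CommGroup A] [Finite A] (hA : Nat.card A = 2)
    (hG : 2 < Nat.card G) (f : G →* A) : ∀ g, f g = 1 := by
  rcases (inferInstance : f.ker.Normal).eq_bot_or_eq_top with h | h
  · have hinj : Function.Injective f := (MonoidHom.ker_eq_bot_iff f).1 h
    have := Nat.card_le_card_of_injective f hinj
    omega
  · exact fun g => MonoidHom.mem_ker.1 (h ▸ Subgroup.mem_top g)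

theorem false_of_hom [Finite G] [FaithfulSMul G Ω] [Fintype Ω] [IsSimpleGroup G]
    (h2 : IsMultiplyPretransitive G Ω 2) (h3 : ThreePoint G Ω) {a b : Ω} (hab : a ≠ b)
    (hcard : Nat.card ↥(stabilizer G a ⊓ stabilizer G b) = Fintype.card Ω - 2)
    (z : ↥(stabilizer G a ⊓ stabilizer G b)) (hz : orderOf z = 2)
    (huniq : ∀ w : ↥(stabilizer G a ⊓ stabilizer G b), orderOf w = 2 → w = z)
    {t c : _} (ht : (t : G) • a = b ∧ t • b = a ∧ t * t = 1 ∧ t • c = (c : Ω))
    (hsemi : ∀ x : Ω, x ≠ a → x ≠ b → ∃ g : ↥(stabilizer G a ⊓ stabilizer G b), (g : G) • c = x)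
    (ε : ↥(stabilizer G a ⊓ stabilizer G b) →* Multiplicative (ZMod 2)) (hε : ∃ g, ε g ≠ 1) : False := by
  classical
  haveI := Fintype.ofFinite G
  haveI : Fact (Nat.Prime 2) := ⟨Nat.prime_two⟩
  obtain ⟨hta, htb, htt, htc⟩ := ht
  have hG2 : 2 < Nat.card G := by
    have h1 : Nat.card (stabilizer G a ⊓ stabilizer G b : Subgroup G) ∣ Nat.card G := Subgroup.card_subgroup_dvd_card (stabilizer G a ⊓ stabilizer G b : Subgroup G)
    have h2 : orderOf z ∣ Nat.card (stabilizer G a ⊓ stabilizer G b : Subgroup G) := orderOf_dvd_natCard z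
    rw [hz] at h2
    have h4 := Nat.le_of_dvd Nat.card_pos h1
    have h5 := Nat.le_of_dvd Nat.card_pos h2
    rcases Nat.lt_or_ge 2 (Nat.card G) with h6 | h6
    · exact h6
    · exfalso
      have htop : (stabilizer G a ⊓ stabilizer G b : Subgroup G) = ⊤ := Subgroup.eq_top_of_card_eq (stabilizer G a ⊓ stabilizer G b : Subgroup G) (by omega)
      have : t • a = a := (htop ▸ Subgroup.mem_top t : t ∈ stabilizer G a ⊓ stabilizer G b).1
      exact hab (this.symm.trans hta)
  -- a central involution of (stabilizer G a ⊓ stabilizer G b : Subgroup G) moves all other points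
  have hfixz : ∀ x, (z : G) • x = x → x = a ∨ x = b := by
    intro x hx
    by_contra hne
    rw [not_or] at hne
    have h1 := h3 _ a b x hab (Ne.symm hne.2) (Ne.symm hne.1) z.2.1 z.2.2 hx
    rw [show z = 1 from Subtype.ext h1, orderOf_one] at hz
    exact absurd hz (by norm_num)
  have hz2 : (z : G) * z = 1 := by
    rw [← Subgroup.coe_mul, ← sq, ← hz, pow_orderOf_eq_one]; rfl
  -- four divides the order of (stabilizer G a ⊓ stabilizer G b : Subgroup G)
  have h4 : 4 ∣ Nat.card (stabilizer G a ⊓ stabilizer G b : Subgroup G) := by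
    by_contra h4
    let π : G →* ℤˣ := Equiv.Perm.sign.comp (MulAction.toPermHom G Ω)
    have hπ : π z = -1 := by
      show Equiv.Perm.sign (MulAction.toPermHom G Ω (z : G)) = -1
      rw [Equiv.Perm.sign_of_pow_two_eq_one (by rw [sq, ← map_mul, hz2, map_one])]
      have hfix : Fintype.card (Function.fixedPoints (MulAction.toPermHom G Ω (z : G))) = 2 := by
        rw [Fintype.card_eq_nat_card, show Function.fixedPoints (MulAction.toPermHom G Ω (z : G)) = ({a, b} : Set Ω) from
          Set.ext fun x => ⟨fun hx => hfixz x hx, by rintro (rfl | rfl); exacts [z.2.1, z.2.2]⟩,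
          Nat.card_coe_set_eq, Set.ncard_pair hab]
      rw [hfix, ← hcard]
      obtain ⟨k, hk⟩ : 2 ∣ Nat.card (stabilizer G a ⊓ stabilizer G b : Subgroup G) := hz ▸ orderOf_dvd_natCard z
      rw [hk, Nat.mul_div_cancel_left k two_pos, Odd.neg_one_pow (Nat.odd_iff.2 (by omega))]
    have := simple_hom_two (by simp [Nat.card_eq_fintype_card]) hG2 π z
    rw [hπ] at this
    exact absurd this (by decide)
  -- conjugation by t
  have hτmem : ∀ g : (stabilizer G a ⊓ stabilizer G b : Subgroup G), t * (g : G) * t ∈ stabilizer G a ⊓ stabilizer G b := fun g => by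
    refine ⟨?_, ?_⟩
    · show (t * (g : G) * t) • a = a
      rw [mul_smul, mul_smul, hta, g.2.2, htb]
    · show (t * (g : G) * t) • b = b
      rw [mul_smul, mul_smul, htb, g.2.1, hta]
  let τ : (stabilizer G a ⊓ stabilizer G b : Subgroup G) →* (stabilizer G a ⊓ stabilizer G b : Subgroup G) :=
    { toFun := fun g => ⟨_, hτmem g⟩
      map_one' := Subtype.ext (by show t * ((1 : (stabilizer G a ⊓ stabilizer G b : Subgroup G)) : G) * t = 1; rw [OneMemClass.coe_one, mul_one, htt])
      map_mul' := fun g g' => Subtype.ext (by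
        show t * ((g : G) * g') * t = t * g * t * (t * g' * t)
        rw [show t * (g : G) * t * (t * g' * t) = t * g * (t * t) * g' * t by group, htt, mul_one]
        group) }
  -- an invariant nontrivial homomorphism
  obtain ⟨ε, hεne, hετ⟩ : ∃ ε' : (stabilizer G a ⊓ stabilizer G b : Subgroup G) →* Multiplicative (ZMod 2), (∃ g, ε' g ≠ 1) ∧ ∀ g, ε' (τ g) = ε' g := by
    by_cases hinv : ∀ g, ε (τ g) = ε g
    · exact ⟨ε, hε, hinv⟩
    · push Not at hinv
      obtain ⟨g, hg⟩ := hinv
      refine ⟨ε * ε.comp τ, ⟨g, fun h => hg ?_⟩, fun g' => ?_⟩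
      · rw [MonoidHom.mul_apply, MonoidHom.comp_apply] at h
        calc ε (τ g) = ε g * ε g * ε (τ g) := by rw [zmod_two_add_self, one_mul]
          _ = ε g := by rw [mul_assoc, h, mul_one]
      · rw [MonoidHom.mul_apply, MonoidHom.comp_apply, MonoidHom.mul_apply, MonoidHom.comp_apply,
          show τ (τ g') = g' from Subtype.ext (by
            show t * (t * (g' : G) * t) * t = g'
            rw [show t * (t * (g' : G) * t) * t = (t * t) * g' * (t * t) by group, htt, one_mul, mul_one]),
          mul_comm]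
  -- the stabiliser of the pair
  set E := stabilizer G ({a, b} : Set Ω) with hE
  have hEmem : ∀ g, g ∈ E ↔ (g • a = a ∧ g • b = b) ∨ (g • a = b ∧ g • b = a) := by
    intro g
    rw [hE, mem_stabilizer_iff, Set.smul_set_insert, Set.smul_set_singleton, Set.pair_eq_pair_iff]
  have hcases : ∀ g ∈ E, (g • a = a → g ∈ stabilizer G a ⊓ stabilizer G b) ∧ (g • a ≠ a → t * g ∈ stabilizer G a ⊓ stabilizer G b) := by
    intro g hg
    rcases (hEmem g).1 hg with ⟨h1, h2'⟩ | ⟨h1, h2'⟩
    · exact ⟨fun _ => ⟨h1, h2'⟩, fun h => absurd h1 h⟩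
    · refine ⟨fun h => absurd (h.symm.trans h1) hab, fun _ => ⟨?_, ?_⟩⟩
      · show (t * g) • a = a
        rw [mul_smul, h1, htb]
      · show (t * g) • b = b
        rw [mul_smul, h2', hta]
  let fE : E → Multiplicative (ZMod 2) := fun g =>
    if h : (g : G) • a = a then ε ⟨g, (hcases g g.2).1 h⟩ else ε ⟨t * g, (hcases g g.2).2 h⟩
  have hfD : ∀ (g : E) (h : (g : G) ∈ stabilizer G a ⊓ stabilizer G b), fE g = ε ⟨g, h⟩ := fun g h => dif_pos h.1
  have hfT : ∀ (g : E) (h : t * (g : G) ∈ stabilizer G a ⊓ stabilizer G b), fE g = ε ⟨t * g, h⟩ := fun g h => by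
    refine dif_neg fun h' => hab ?_
    have h1 : (t * (g : G)) • a = a := h.1
    rw [mul_smul, h', hta] at h1
    exact h1.symm
  let χ : E →* Multiplicative (ZMod 2) := MonoidHom.mk' fE fun g g' => by
    by_cases hg : (g : G) • a = a <;> by_cases hg' : (g' : G) • a = a
    · have k1 := (hcases g g.2).1 hg
      have k2 := (hcases g' g'.2).1 hg'
      rw [hfD g k1, hfD g' k2, hfD (g * g') (mul_mem k1 k2), ← map_mul]
      rfl
    · have k1 := (hcases g g.2).1 hg
      have k2 := (hcases g' g'.2).2 hg'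
      have e : t * ((g : G) * g') = (t * (g : G) * t) * (t * g') := by
        rw [show (t * (g : G) * t) * (t * g') = t * g * (t * t) * g' by group, htt, mul_one, mul_assoc]
      rw [hfD g k1, hfT g' k2, hfT (g * g') (by rw [Subgroup.coe_mul, e]; exact mul_mem (hτmem ⟨g, k1⟩) k2),
        ← hετ ⟨g, k1⟩, ← map_mul]
      exact congrArg ε (Subtype.ext e)
    · have k1 := (hcases g g.2).2 hg
      have k2 := (hcases g' g'.2).1 hg'
      rw [hfT g k1, hfD g' k2, hfT (g * g') (by rw [Subgroup.coe_mul, ← mul_assoc]; exact mul_mem k1 k2),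
        ← map_mul]
      exact congrArg ε (Subtype.ext (mul_assoc t (g : G) g').symm)
    · have k1 := (hcases g g.2).2 hg
      have k2 := (hcases g' g'.2).2 hg'
      have e : (g : G) * g' = (t * (t * (g : G)) * t) * (t * g') := by
        rw [show (t * (t * (g : G)) * t) * (t * g') = (t * t) * g * (t * t) * g' by group, htt, one_mul, mul_one]
      rw [hfT g k1, hfT g' k2, hfD (g * g') (by rw [Subgroup.coe_mul, e]; exact mul_mem (hτmem ⟨_, k1⟩) k2),
        ← hετ ⟨_, k1⟩, ← map_mul]
      exact congrArg ε (Subtype.ext e)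
  have hDE : (stabilizer G a ⊓ stabilizer G b : Subgroup G) ≤ E := fun g hg => (hEmem g).2 (Or.inl ⟨hg.1, hg.2⟩)
  have htE : t ∈ E := (hEmem t).2 (Or.inr ⟨hta, htb⟩)
  -- the index of E is odd
  have hEodd : ¬ 2 ∣ E.index := by
    haveI : IsPretransitive G Ω := isPretransitive_of_is_two_pretransitive
    have hDi : (stabilizer G a ⊓ stabilizer G b).index = Fintype.card Ω * (Fintype.card Ω - 1) := by
      have h1 : (stabilizer G a).index = Fintype.card Ω := by
        rw [MulAction.index_stabilizer_of_transitive, Nat.card_eq_fintype_card]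
      have h4 : (stabilizer G a ⊓ stabilizer G b).relIndex (stabilizer G a) = Fintype.card Ω - 1 := by
        rw [Subgroup.relIndex, show (stabilizer G a ⊓ stabilizer G b).subgroupOf (stabilizer G a) = stabilizer (stabilizer G a) b from
          Subgroup.ext fun g => ⟨fun hg => hg.2, fun hg => ⟨g.2, hg⟩⟩, MulAction.index_stabilizer,
          show orbit (stabilizer G a) b = ({a}ᶜ : Set Ω) from ?_, Set.ncard_compl, Set.ncard_singleton,
          Nat.card_eq_fintype_card]
        ext ω
        constructor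
        · rintro ⟨g, rfl⟩ h
          exact hab (MulAction.injective (g : G) (h.trans g.2.symm)).symm
        · intro hω
          obtain ⟨g, hg1, hg2⟩ := is_two_pretransitive_iff.1 h2 hab (Ne.symm hω)
          exact ⟨⟨g, hg1⟩, hg2⟩
      rw [← Subgroup.relIndex_mul_index (inf_le_left : (stabilizer G a ⊓ stabilizer G b : Subgroup G) ≤ stabilizer G a), h4, h1, mul_comm]
    have hrel : (stabilizer G a ⊓ stabilizer G b).relIndex E = 2 := by
      rw [Subgroup.relIndex, Subgroup.index_eq_two_iff]
      refine ⟨⟨t, htE⟩, fun g => ?_⟩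
      simp only [Subgroup.mem_subgroupOf]
      have k := hcases g g.2
      by_cases hga : (g : G) • a = a
      · refine Or.inr ⟨k.1 hga, fun h => hab ?_⟩
        have h1 : ((g : G) * t) • a = a := h.1
        rw [mul_smul, hta] at h1
        exact MulAction.injective (g : G) (hga.trans h1.symm)
      · refine Or.inl ⟨?_, fun h => hga h.1⟩
        have h1 : (g : G) * t = t * (t * (g : G)) * t := by rw [← mul_assoc, htt, one_mul]
        show (g : G) * t ∈ stabilizer G a ⊓ stabilizer G b
        rw [h1]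
        exact hτmem ⟨_, k.2 hga⟩
    have h5 := Subgroup.relIndex_mul_index hDE
    rw [hrel, hDi] at h5
    intro hd
    obtain ⟨k, hk⟩ := hd
    obtain ⟨m, hm⟩ := h4
    have hpos : 0 < Nat.card (stabilizer G a ⊓ stabilizer G b : Subgroup G) := Nat.card_pos
    rw [hk, show Fintype.card Ω = 4 * m + 2 by omega, show 4 * m + 2 - 1 = 4 * m + 1 by omega] at h5
    have : (2 * m + 1) * (4 * m + 1) = 2 * k := by linarith
    have h6 : ((2 * m + 1) * (4 * m + 1)) % 2 = 1 := by
      rw [Nat.mul_mod, show (2 * m + 1) % 2 = 1 by omega, show (4 * m + 1) % 2 = 1 by omega]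
    omega
  -- involutions of (stabilizer G a ⊓ stabilizer G b : Subgroup G)
  have hεz : ε z = 1 := by
    by_contra hz1
    have hall : ∀ x : Multiplicative (ZMod 2), x = 1 ∨ x = ε z := by
      revert hz1
      generalize ε z = y
      clear * -
      decide +revert
    have hker : ¬ 2 ∣ Nat.card ε.ker := by
      intro hd
      obtain ⟨w, hw⟩ := exists_prime_orderOf_dvd_card' 2 hd
      refine hz1 ?_
      rw [← huniq w (by rw [Subgroup.orderOf_coe]; exact hw)]
      exact w.2
    have h5 : Nat.card (stabilizer G a ⊓ stabilizer G b : Subgroup G) = Nat.card ε.ker * ε.ker.index := (Subgroup.card_mul_index _).symm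
    rw [Subgroup.index_ker] at h5
    have h6 : Nat.card ε.range ≤ 2 := by
      refine (Subgroup.card_le_card_group _).trans ?_
      simp [Nat.card_eq_fintype_card]
    obtain ⟨m, hm⟩ := h4
    have hpos : 0 < Nat.card (stabilizer G a ⊓ stabilizer G b : Subgroup G) := Nat.card_pos
    interval_cases h7 : Nat.card ε.range <;> omega
  -- an element of 2-power order outside the kernel
  obtain ⟨u, k, hu, huε⟩ : ∃ (u : (stabilizer G a ⊓ stabilizer G b : Subgroup G)) (k : ℕ), orderOf u = 2 ^ k ∧ ε u ≠ 1 := by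
    obtain ⟨g, hg⟩ := hεne
    obtain ⟨k, m, hm, hgm⟩ := Nat.exists_eq_two_pow_mul_odd (orderOf_pos g).ne'
    refine ⟨g ^ m, k, ?_, ?_⟩
    · rw [orderOf_pow, hgm, Nat.gcd_mul_left_left, Nat.mul_div_cancel _ hm.pos]
    · obtain ⟨j, rfl⟩ := hm
      rw [map_pow, pow_succ, pow_mul, sq, zmod_two_add_self, one_pow, one_mul]
      exact hg
  have huz : u ≠ z := fun h => huε (h ▸ hεz)
  have hu1 : u ≠ 1 := fun h => huε (h ▸ map_one ε)
  obtain ⟨f, k', hk', hfu⟩ := Cfsg.Agent.Fusion.exists_hom_of_controlled χ (hDE u.2) hEodd fun m x hx => by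
    have hχu : χ ⟨u, hDE u.2⟩ = ε u := hfD _ u.2
    rw [hχu, ← map_pow]
    by_cases hw1 : u ^ m = 1
    · rw [hw1, map_one]
      have : (⟨x * (u : G) ^ m * x⁻¹, hx⟩ : E) = 1 := Subtype.ext (by
        show x * (u : G) ^ m * x⁻¹ = 1
        rw [← Subgroup.coe_pow, hw1]; simp)
      rw [this, map_one]
    have hfw : ∀ y, ((u ^ m : (stabilizer G a ⊓ stabilizer G b : Subgroup G)) : G) • y = y → y = a ∨ y = b := by
      intro y hy
      by_contra hne
      rw [not_or] at hne
      exact hw1 (Subtype.ext (h3 _ a b y hab (Ne.symm hne.2) (Ne.symm hne.1) (u ^ m).2.1 (u ^ m).2.2 hy))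
    rw [← Subgroup.coe_pow] at hx
    set w := u ^ m
    have hxa : (x * (w : G) * x⁻¹) • x • a = x • a := by rw [smul_smul, inv_mul_cancel_right, mul_smul, w.2.1]
    have hxb : (x * (w : G) * x⁻¹) • x • b = x • b := by rw [smul_smul, inv_mul_cancel_right, mul_smul, w.2.2]
    have hfx : ∀ y, (x * (w : G) * x⁻¹) • y = y → y = x • a ∨ y = x • b := by
      intro y hy
      rw [mul_smul, mul_smul, ← eq_inv_smul_iff] at hy
      rcases hfw _ hy with h | h
      · exact Or.inl (inv_smul_eq_iff.1 h)
      · exact Or.inr (inv_smul_eq_iff.1 h)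
    have key : χ ⟨x * (w : G) * x⁻¹, hx⟩ = ε w := by
      by_cases hswap : (x * (w : G) * x⁻¹) • a = a
      · have hm := (hcases _ hx).1 hswap
        have hxE : x ∈ E := by
          refine (hEmem x).2 ?_
          rcases hfx a hm.1 with h | h <;> rcases hfx b hm.2 with h' | h'
          · exact absurd (h.trans h'.symm) hab
          · exact Or.inl ⟨h.symm, h'.symm⟩
          · exact Or.inr ⟨h'.symm, h.symm⟩
          · exact absurd (h.trans h'.symm) hab
        have : (⟨x * (w : G) * x⁻¹, hx⟩ : E) = ⟨x, hxE⟩ * ⟨w, hDE w.2⟩ * ⟨x, hxE⟩⁻¹ := rfl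
        rw [this, map_mul, map_mul, map_inv, mul_right_comm, mul_inv_cancel, one_mul]
        exact hfD _ w.2
      · have hd := (hcases _ hx).2 hswap
        rcases (hEmem _).1 hx with ⟨h1, -⟩ | ⟨hs1, hs2⟩
        · exact absurd h1 hswap
        have hc' : x • a ≠ a ∧ x • a ≠ b := by
          refine ⟨fun h => ?_, fun h => ?_⟩ <;> rw [h] at hxa
          · exact hab (hxa.symm.trans hs1)
          · exact hab (hs2.symm.trans hxa)
        have hb' : x • b ≠ a ∧ x • b ≠ b := by
          refine ⟨fun h => ?_, fun h => ?_⟩ <;> rw [h] at hxb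
          · exact hab (hxb.symm.trans hs1)
          · exact hab (hs2.symm.trans hxb)
        have hab' : x • a ≠ x • b := fun h => hab (MulAction.injective x h)
        have hsq : (x * (w : G) * x⁻¹) * (x * (w : G) * x⁻¹) = 1 := by
          refine h3 _ (x • a) (x • b) a hab' hb'.1 hc'.1 ?_ ?_ ?_
          · rw [mul_smul, hxa, hxa]
          · rw [mul_smul, hxb, hxb]
          · rw [mul_smul, hs1, hs2]
        have hw2 : w * w = 1 := Subtype.ext (by
          rw [show x * (w : G) * x⁻¹ * (x * (w : G) * x⁻¹) = x * ((w : G) * w) * x⁻¹ by group] at hsq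
          exact mul_eq_left.1 (mul_inv_eq_one.1 hsq))
        have hwz : w = z := huniq w (orderOf_eq_prime (by rw [pow_two]; exact hw2) hw1)
        rw [show ε w = 1 by rw [hwz, hεz]]
        obtain ⟨g, hg⟩ := hsemi (x • a) hc'.1 hc'.2
        have hgt : (g : G) * t * (g : G)⁻¹ = x * (w : G) * x⁻¹ := by
          have h1 : (x * (w : G) * x⁻¹)⁻¹ * ((g : G) * t * (g : G)⁻¹) = 1 := by
            rw [inv_eq_of_mul_eq_one_right hsq]
            have ka : ((g : G) * t * (g : G)⁻¹) • a = b := by
              rw [mul_smul, mul_smul, inv_smul_eq_iff.2 g.2.1.symm, hta, g.2.2]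
            have kb : ((g : G) * t * (g : G)⁻¹) • b = a := by
              rw [mul_smul, mul_smul, inv_smul_eq_iff.2 g.2.2.symm, htb, g.2.1]
            have kx : ((g : G) * t * (g : G)⁻¹) • x • a = x • a := by
              rw [mul_smul, mul_smul, inv_smul_eq_iff.2 hg.symm, htc, hg]
            refine h3 _ a b (x • a) hab (Ne.symm hc'.2) (Ne.symm hc'.1) ?_ ?_ ?_
            · rw [mul_smul (x * (w : G) * x⁻¹), ka, hs2]
            · rw [mul_smul (x * (w : G) * x⁻¹), kb, hs1]
            · rw [mul_smul (x * (w : G) * x⁻¹), kx, hxa]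
          exact (inv_mul_eq_one.1 h1).symm
        have hχt : χ ⟨t, htE⟩ = 1 := by
          show fE ⟨t, htE⟩ = 1
          rw [hfT ⟨t, htE⟩ (by rw [htt]; exact one_mem (stabilizer G a ⊓ stabilizer G b : Subgroup G))]
          exact (congrArg ε (Subtype.ext htt)).trans (map_one ε)
        have : (⟨x * (z : G) * x⁻¹, hwz ▸ hx⟩ : E) = ⟨g, hDE g.2⟩ * ⟨t, htE⟩ * ⟨g, hDE g.2⟩⁻¹ :=
          Subtype.ext (by
            show x * (z : G) * x⁻¹ = (g : G) * t * (g : G)⁻¹
            rw [← hwz]; exact hgt.symm)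
        have e : (⟨x * (w : G) * x⁻¹, hx⟩ : E) = ⟨x * (z : G) * x⁻¹, hwz ▸ hx⟩ := Subtype.ext (by
          show x * (w : G) * x⁻¹ = x * (z : G) * x⁻¹
          rw [hwz])
        rw [e, this, map_mul, map_mul, map_inv, hχt, mul_one, mul_inv_cancel]
    exact key
  have hf1 := simple_hom_two (by simp [Nat.card_eq_fintype_card]) hG2 f u
  rw [hf1, show χ ⟨u, hDE u.2⟩ = ε u from hfD _ u.2] at hfu
  obtain ⟨j, rfl⟩ := hk'
  rw [pow_succ, pow_mul, sq, zmod_two_add_self, one_pow, one_mul] at hfu
  exact huε hfu.symm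

end Cfsg.Agent.Lie.SharpTransfer
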