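import Mathlib
import Cfsg.Prelude.Def_LieExceptional
import Cfsg.Agent.Lib.Lie.Zassenhaus
import Cfsg.Agent.Lib.Lie.SharpTransfer
import Cfsg.Agent.Lib.Lie.SharpCoords
import Cfsg.Agent.Lib.Lie.SharpStructure

/-!
A sharply triply transitive group with two-point stabilisers of even order is not simple.
-/

set_option autoImplicit false

namespace Cfsg.Agent.Lie.SharpSimple

open MulAction
open Cfsg.Agent.Lie.SharpCoords

universe u v

theorem false_of_sharp {G : Type u} {Ω : Type v} [Group G] [Finite G] [MulAction G Ω] [Fintype Ω]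
    [IsSimpleGroup G] (hZ : Cfsg.IsZassenhausGroup G Ω) {a b : Ω} (hab : a ≠ b)
    (heven : Even (Nat.card ↥(stabilizer G a ⊓ stabilizer G b)))
    (hcard : Nat.card ↥(stabilizer G a ⊓ stabilizer G b) = Fintype.card Ω - 2) : False := by
  classical
  obtain ⟨hF, h2, h3, -, -⟩ := id hZ
  haveI := hF
  obtain ⟨m, hm⟩ := heven
  have hDpos : 0 < Nat.card ↥(stabilizer G a ⊓ stabilizer G b) := Nat.card_pos
  refine with_coords h2 h3 hab hcard (by omega) ?_
  intro p f _ V _ _ _ _ ρ π t e τ T z C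
  have hp2 : p ≠ 2 := by
    rintro rfl
    have hc : Nat.card (Two G a b) + 1 = 2 ^ f := C.cardD.trans C.pf
    have hm' : Nat.card (Two G a b) = m + m := hm
    have hpos' : 0 < Nat.card (Two G a b) := hDpos
    rcases f with _ | f
    · rw [pow_zero] at hc; omega
    · rw [pow_succ] at hc; omega
  obtain ⟨N, -, hN2⟩ := SharpStructure.exists_index_two C hp2
  have hsemi : ∀ y : Ω, y ≠ a → y ≠ b → ∃ g : Two G a b, (g : G) • π e • b = y := fun y hya hyb => by
    obtain ⟨x, rfl⟩ := C.πt y hya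
    have hx : x ≠ 0 := fun h => by
      have h0 := C.πadd 0 0
      rw [add_zero] at h0
      exact hyb (by rw [h, left_eq_mul.1 h0, one_smul])
    obtain ⟨g, hg, -⟩ := C.reg e x C.setup.e_ne hx
    refine ⟨g, ?_⟩
    rw [← hg, ← C.conj, mul_smul, mul_smul, inv_smul_eq_iff.2 g.2.2.symm]
  refine SharpTransfer.false_of_hom h2 h3 hab hcard z
    (orderOf_eq_prime (by rw [sq, SharpStructure.z_sq C]) (SharpStructure.z_ne_one C hp2)) C.z_uniq
    (t := t) (c := π e • b) ⟨C.ta, C.tb, C.tt, C.te⟩ hsemi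
    (MonoidHom.mk' (fun s => if s ∈ N then 1 else Multiplicative.ofAdd 1) fun x y => ?_) ?_
  · by_cases hx : x ∈ N <;> by_cases hy : y ∈ N <;>
      simp [Subgroup.mul_mem_iff_of_index_two hN2, hx, hy]
    decide
  · obtain ⟨g, hg⟩ : ∃ g, g ∉ N := by
      by_contra hall
      push Not at hall
      rw [(Subgroup.eq_top_iff' N).2 hall, Subgroup.index_top] at hN2
      exact absurd hN2 (by norm_num)
    exact ⟨g, by simp [hg]⟩

end Cfsg.Agent.Lie.SharpSimple
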