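import Mathlib

/-!
# Pairs of points and a class of involutions each fixing one point

The counting arguments for strongly embedded subgroups, for a group acting on a set together with
a conjugation invariant set of involutions, closed under commuting products, each fixing one point.
-/

set_option autoImplicit false
set_option linter.unusedSectionVars false

namespace Cfsg.Agent.Lie.InvPairs

variable {Q Ω : Type*} [Group Q] [Finite Q] [MulAction Q Ω] [Finite Ω]

/-- A conjugation invariant set of involutions, closed under products of two distinct commuting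
members, each fixing exactly one point of a transitive action. -/
structure InvSys (J : Set Q) : Prop where
  ord : ∀ a ∈ J, orderOf a = 2
  conj : ∀ a ∈ J, ∀ g : Q, g * a * g⁻¹ ∈ J
  fix : ∀ a ∈ J, ∃ x : Ω, a • x = x
  uniq : ∀ a ∈ J, ∀ x y : Ω, a • x = x → a • y = y → x = y
  mul : ∀ a ∈ J, ∀ b ∈ J, Commute a b → a ≠ b → a * b ∈ J
  trans : ∀ x y : Ω, ∃ g : Q, g • x = y
  other : ∀ x : Ω, ∃ y : Ω, y ≠ x
  ne : J.Nonempty

theorem sq_one {t : Q} (ht : orderOf t = 2) : t * t = 1 := by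
  have h := pow_orderOf_eq_one t
  rwa [ht, pow_two] at h

theorem inv_self {t : Q} (ht : orderOf t = 2) : t⁻¹ = t :=
  inv_eq_of_mul_eq_one_right (sq_one ht)

variable {J : Set Q} (hJ : InvSys (Ω := Ω) J)
include hJ

/-- If two members have a product of even order, some member in the cyclic group generated by the
product commutes with both. -/
theorem exists_mem_of_even {a b : Q} (ha : a ∈ J) (hb : b ∈ J) (he : Even (orderOf (a * b))) :
    ∃ w ∈ J, w ∈ Subgroup.zpowers (a * b) ∧ Commute w a ∧ Commute w b := by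
  obtain ⟨l, hl⟩ := he
  have hpos := orderOf_pos (a * b)
  set r := a * b with hr
  set w := r ^ l with hw
  have hww : w * w = 1 := by rw [hw, ← pow_add, ← hl, pow_orderOf_eq_one]
  have hw1 : w ≠ 1 := fun e => by
    have := Nat.le_of_dvd (by omega) (orderOf_dvd_of_pow_eq_one e)
    omega
  have hwi : w⁻¹ = w := inv_eq_of_mul_eq_one_right hww
  have hflip : ∀ n : ℕ, a * r ^ n * a⁻¹ = (r ^ n)⁻¹ := fun n => by
    rw [← conj_pow, hr, show a * (a * b) * a⁻¹ = (a * a) * b * a⁻¹ by group, sq_one (hJ.ord a ha),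
      one_mul, inv_self (hJ.ord a ha), ← inv_pow, mul_inv_rev, inv_self (hJ.ord a ha),
      inv_self (hJ.ord b hb)]
  have hwa : Commute w a := by
    have h := hflip l
    rw [← hw, hwi] at h
    exact (mul_inv_eq_iff_eq_mul.1 h).symm
  have hwr : Commute w r := (Commute.refl r).pow_left l
  have hbeq : b = a * r := by
    rw [hr, ← mul_assoc, sq_one (hJ.ord a ha), one_mul]
  have hwb : Commute w b := by rw [hbeq]; exact hwa.mul_right hwr
  have hshift : ∀ n : ℕ, a * r ^ n = (r ^ n)⁻¹ * a := fun n => by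
    rw [← hflip n]; group
  have haw : a * w ∈ J := by
    rcases Nat.even_or_odd l with ⟨e, he⟩ | ⟨e, he⟩
    · have h : a * w = (r ^ e)⁻¹ * a * (r ^ e)⁻¹⁻¹ := by
        rw [hw, he, pow_add, ← mul_assoc, hshift, inv_inv]
      rw [h]
      exact hJ.conj a ha _
    · have h : a * w = (r ^ e)⁻¹ * b * (r ^ e)⁻¹⁻¹ := by
        rw [hw, he, show 2 * e + 1 = e + (1 + e) by omega, pow_add r e, pow_add r 1, pow_one,
          ← mul_assoc, hshift, inv_inv, hbeq]
        group
      rw [h]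
      exact hJ.conj b hb _
  have hne : a ≠ a * w := fun e => hw1 (by simpa using e)
  have hwJ : w ∈ J := by
    have h := hJ.mul a ha (a * w) haw ((Commute.refl a).mul_right hwa.symm) hne
    rwa [← mul_assoc, sq_one (hJ.ord a ha), one_mul] at h
  exact ⟨w, hwJ, ⟨(l : ℤ), by rw [hw]; exact zpow_natCast r l⟩, hwa, hwb⟩

theorem commute_fix {a w : Q} (ha : a ∈ J) (hc : Commute w a) {x : Ω} (hax : a • x = x) :
    w • x = x :=
  hJ.uniq a ha _ _ (by rw [smul_smul, ← hc.eq, ← smul_smul, hax]) hax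

/-- Members with distinct fixed points have product of odd order. -/
theorem odd_of_fixed_ne {a b : Q} (ha : a ∈ J) (hb : b ∈ J) {x : Ω} (hax : a • x = x)
    (hbx : b • x ≠ x) : Odd (orderOf (a * b)) := by
  refine Nat.not_even_iff_odd.1 fun he => ?_
  obtain ⟨w, hw, -, hwa, hwb⟩ := exists_mem_of_even hJ ha hb he
  have hwx : w • x = x := commute_fix hJ ha hwa hax
  exact hbx (hJ.uniq w hw _ _ (by rw [smul_smul, hwb.eq, ← smul_smul, hwx]) hwx)

/-- Members whose product fixes two points have product of odd order. -/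
theorem odd_of_mul_fix {a b : Q} (ha : a ∈ J) (hb : b ∈ J) {x y : Ω} (hxy : x ≠ y)
    (hx : (a * b) • x = x) (hy : (a * b) • y = y) : Odd (orderOf (a * b)) := by
  refine Nat.not_even_iff_odd.1 fun he => ?_
  obtain ⟨w, hw, hwz, -, -⟩ := exists_mem_of_even hJ ha hb he
  have hmem : ∀ z : Ω, (a * b) • z = z → w • z = z := fun z hz =>
    MulAction.mem_stabilizer_iff.1 ((Subgroup.zpowers_le.2 (MulAction.mem_stabilizer_iff.2 hz)) hwz)
  exact hxy (hJ.uniq w hw _ _ (hmem x hx) (hmem y hy))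

/-- The middle member. -/
theorem exists_middle {a b : Q} (ha : a ∈ J) (hb : b ∈ J) (h : Odd (orderOf (a * b))) :
    ∃ i ∈ J, i * a * i⁻¹ = b ∧ i ∈ Subgroup.closure ({a, b} : Set Q) ∧
      ∀ c, Commute c a → Commute c b → Commute c i := by
  have ha2 := hJ.ord a ha
  have hb2 := hJ.ord b hb
  obtain ⟨k, hk⟩ := h
  set r := b * a with hr
  have hrn : r ^ (2 * k + 1) = 1 := by
    rw [← hk, hr, show b * a = (a * b)⁻¹ by rw [mul_inv_rev, inv_self ha2, inv_self hb2], inv_pow,
      pow_orderOf_eq_one, inv_one]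
  have hflip : a * r * a⁻¹ = r⁻¹ := by
    rw [hr, mul_inv_rev, inv_self ha2, inv_self hb2]
    calc a * (b * a) * a = a * b * (a * a) := by group
      _ = a * b := by rw [sq_one ha2, mul_one]
  have hflipk : ∀ j : ℕ, a * r ^ j * a⁻¹ = (r ^ j)⁻¹ := fun j => by rw [← conj_pow, hflip, inv_pow]
  have hsh : ∀ j : ℕ, a * (r ^ j)⁻¹ = r ^ j * a := fun j => by
    have h1 : (r ^ j)⁻¹ * a = a * r ^ j := by rw [← hflipk j]; group
    calc a * (r ^ j)⁻¹ = a * ((r ^ j)⁻¹ * a) * a⁻¹ := by group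
      _ = (a * a) * r ^ j * a⁻¹ := by rw [h1]; group
      _ = r ^ j * a := by rw [sq_one ha2, one_mul, inv_self ha2]
  set i := r ^ (k + 1) * a with hi
  have hiJ : i ∈ J := by
    set f := r ^ ((k + 1) * (k + 1)) with hf
    have h1 : f * a * f⁻¹ = f * f * a := by rw [mul_assoc, hf, hsh, ← mul_assoc]
    have h2 : f * f = r ^ (k + 1) := by
      rw [hf, ← pow_add, show (k + 1) * (k + 1) + (k + 1) * (k + 1) =
        (2 * k + 1) * (k + 1) + (k + 1) by ring, pow_add, pow_mul, hrn, one_pow, one_mul]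
    rw [hi, ← h2, ← h1]
    exact hJ.conj a ha f
  have hconj : i * a * i⁻¹ = b := by
    calc i * a * i⁻¹ = r ^ (k + 1) * a * (r ^ (k + 1))⁻¹ := by rw [hi]; group
      _ = r ^ (k + 1) * a * (a * r ^ (k + 1) * a⁻¹) := by rw [hflipk]
      _ = r ^ (k + 1) * (a * a) * r ^ (k + 1) * a⁻¹ := by group
      _ = r ^ (k + 1 + (k + 1)) * a⁻¹ := by rw [sq_one ha2, mul_one, ← pow_add]
      _ = r * a⁻¹ := by rw [show k + 1 + (k + 1) = 2 * k + 1 + 1 by omega, pow_succ, hrn, one_mul]
      _ = b := by rw [hr]; group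
  refine ⟨i, hiJ, hconj, ?_, fun c hca hcb => ((hcb.mul_right hca).pow_right _).mul_right hca⟩
  exact mul_mem (pow_mem (mul_mem (Subgroup.subset_closure (by simp))
    (Subgroup.subset_closure (by simp))) _) (Subgroup.subset_closure (by simp))

theorem exists_ne_conj (x : Ω) : ∃ a ∈ J, a • x = x := by
  obtain ⟨a, ha⟩ := hJ.ne
  obtain ⟨z, hz⟩ := hJ.fix a ha
  obtain ⟨g, hg⟩ := hJ.trans z x
  exact ⟨g * a * g⁻¹, hJ.conj a ha g, by rw [← hg, mul_smul, mul_smul, inv_smul_smul, hz]⟩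

/-- All members are conjugate. -/
theorem members_conj {a b : Q} (ha : a ∈ J) (hb : b ∈ J) : IsConj a b := by
  obtain ⟨x, hax⟩ := hJ.fix a ha
  by_cases hbx : b • x = x
  · obtain ⟨y, hy⟩ := hJ.other x
    obtain ⟨g, hg⟩ := hJ.trans x y
    have hv := hJ.conj a ha g
    have hvx : (g * a * g⁻¹) • x ≠ x := fun e => hy
      (hJ.uniq _ hv _ _ (by rw [← hg, mul_smul, mul_smul, inv_smul_smul, hax]) e)
    obtain ⟨i, -, hi, -, -⟩ := exists_middle hJ hb hv (odd_of_fixed_ne hJ hb hv hbx hvx)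
    exact (isConj_iff.2 ⟨g, rfl⟩).trans (isConj_iff.2 ⟨i, hi⟩).symm
  · obtain ⟨i, -, hi, -, -⟩ := exists_middle hJ ha hb (odd_of_fixed_ne hJ ha hb hax hbx)
    exact isConj_iff.2 ⟨i, hi⟩

theorem card_fixers_eq (x y : Ω) :
    Nat.card {t : Q // t ∈ J ∧ t • x = x} = Nat.card {t : Q // t ∈ J ∧ t • y = y} := by
  obtain ⟨g, hg⟩ := hJ.trans x y
  refine Nat.card_congr ((MulAut.conj g).toEquiv.subtypeEquiv fun t => ?_)
  show _ ↔ g * t * g⁻¹ ∈ J ∧ (g * t * g⁻¹) • y = y
  rw [← hg, mul_smul, mul_smul, inv_smul_smul, smul_left_cancel_iff]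
  refine and_congr_left' ⟨fun h => hJ.conj t h g, fun h => ?_⟩
  have h' := hJ.conj _ h g⁻¹
  rwa [show g⁻¹ * (g * t * g⁻¹) * g⁻¹⁻¹ = t by group] at h'

theorem card_swappers {x y : Ω} (hxy : x ≠ y) :
    Nat.card {i : Q // i ∈ J ∧ i • x = y} = Nat.card {t : Q // t ∈ J ∧ t • x = x} := by
  set I := {t : Q // t ∈ J ∧ t • x = x}
  set I' := {t : Q // t ∈ J ∧ t • y = y}
  set W := {i : Q // i ∈ J ∧ i • x = y}
  have hI : Nat.card I' = Nat.card I := card_fixers_eq hJ y x
  haveI : Nonempty I := by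
    obtain ⟨a, ha, hax⟩ := exists_ne_conj hJ x
    exact ⟨⟨a, ha, hax⟩⟩
  let f : I × W → I × I' := fun p => (p.1, ⟨p.2.1 * p.1.1 * p.2.1⁻¹, hJ.conj _ p.1.2.1 _, by
    have h : (p.2.1 * p.1.1 * p.2.1⁻¹) • (p.2.1 • x) = p.2.1 • x := by
      rw [mul_smul, mul_smul, inv_smul_smul, p.1.2.2]
    rw [p.2.2.2] at h
    exact h⟩)
  have hf : Function.Bijective f := by
    constructor
    · rintro ⟨⟨a, ha, hax⟩, ⟨i, hi, hix⟩⟩ ⟨⟨a', ha', hax'⟩, ⟨j, hj, hjx⟩⟩ e
      have e1 : a = a' := congrArg (fun q : I × I' => q.1.1) e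
      subst e1
      have e : i * a * i⁻¹ = j * a * j⁻¹ := congrArg (fun q : I × I' => q.2.1) e
      set b := i * a * i⁻¹ with hb
      have hbo : b ∈ J := hJ.conj a ha i
      have hby : b • y = y := by rw [← hix, hb, mul_smul, mul_smul, inv_smul_smul, hax]
      obtain ⟨m, hm, hmab, -, hmc⟩ := exists_middle hJ ha hbo
        (odd_of_fixed_ne hJ ha hbo hax fun h => hxy (hJ.uniq b hbo _ _ h hby))
      have key : ∀ k ∈ J, k * a * k⁻¹ = b → k = m := by
        intro k hk hkab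
        set c := m * k with hc
        have hm2 := hJ.ord m hm
        have hk2 := hJ.ord k hk
        have hca : Commute c a := by
          refine mul_inv_eq_iff_eq_mul.1 ?_
          calc c * a * c⁻¹ = m * (k * a * k⁻¹) * m⁻¹ := by rw [hc]; group
            _ = (m * m) * a * (m * m)⁻¹ := by rw [hkab, ← hmab]; group
            _ = a := by rw [sq_one hm2]; group
        have hcb : Commute c b := by
          refine mul_inv_eq_iff_eq_mul.1 ?_
          have hkba : k * b * k⁻¹ = a := by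
            rw [← hkab]
            calc k * (k * a * k⁻¹) * k⁻¹ = (k * k) * a * (k * k)⁻¹ := by group
              _ = a := by rw [sq_one hk2]; group
          calc c * b * c⁻¹ = m * (k * b * k⁻¹) * m⁻¹ := by rw [hc]; group
            _ = b := by rw [hkba, hmab]
        by_contra hne
        have hcm : Commute c m := hmc c hca hcb
        have hkm : Commute m k := by
          have h1 : m * (m * k) = k := by rw [← mul_assoc, sq_one hm2, one_mul]
          rw [← h1]
          exact (Commute.refl m).mul_right hcm.symm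
        have hcJ : c ∈ J := hJ.mul m hm k hk hkm (Ne.symm hne)
        exact hxy (hJ.uniq c hcJ _ _ (commute_fix hJ ha hca hax) (commute_fix hJ hbo hcb hby))
      exact Prod.ext rfl (Subtype.ext ((key i hi hb.symm).trans (key j hj e.symm).symm))
    · rintro ⟨⟨a, ha, hax⟩, ⟨b, hb, hby⟩⟩
      obtain ⟨i, hi, hiab, -, -⟩ := exists_middle hJ ha hb
        (odd_of_fixed_ne hJ ha hb hax fun h => hxy (hJ.uniq b hb _ _ h hby))
      refine ⟨(⟨a, ha, hax⟩, ⟨i, hi, hJ.uniq b hb _ _ ?_ hby⟩), Prod.ext rfl (Subtype.ext hiab)⟩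
      rw [← hiab, mul_smul, mul_smul, inv_smul_smul, hax]
  have := Nat.card_eq_of_bijective f hf
  rw [Nat.card_prod, Nat.card_prod, hI] at this
  exact Nat.eq_of_mul_eq_mul_left Nat.card_pos this

theorem swap_back {x y : Ω} {i : Q} (hi : i ∈ J) (hix : i • x = y) : i • y = x := by
  rw [← hix, smul_smul, sq_one (hJ.ord i hi), one_smul]

/-- The members mapping `x` to `y` are conjugate under the two-point stabilizer. -/
theorem swappers_conj {x y : Ω} (hxy : x ≠ y) {i u : Q} (hi : i ∈ J) (hix : i • x = y)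
    (hu : u ∈ J) (hux : u • x = y) :
    ∃ f : Q, f • x = x ∧ f • y = y ∧ f * u * f⁻¹ = i := by
  set d := u * i with hd
  have hdx : d • x = x := by rw [hd, mul_smul, hix, swap_back hJ hu hux]
  have hdy : d • y = y := by rw [hd, mul_smul, swap_back hJ hi hix, hux]
  obtain ⟨k, hk⟩ : Odd (orderOf d) := odd_of_mul_fix hJ hu hi hxy hdx hdy
  set f := d⁻¹ ^ (k + 1) with hf
  have hmem : ∀ z : Ω, d • z = z → f • z = z := fun z hz =>
    MulAction.mem_stabilizer_iff.1 (pow_mem (inv_mem (MulAction.mem_stabilizer_iff.2 hz)) _)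
  have hu2 := hJ.ord u hu
  have hi2 := hJ.ord i hi
  have hflip : u * f * u⁻¹ = f⁻¹ := by
    rw [hf, ← conj_pow, ← inv_pow, inv_inv]
    congr 1
    rw [hd, mul_inv_rev, inv_self hi2, inv_self hu2]
    calc u * (i * u) * u = u * i * (u * u) := by group
      _ = u * i := by rw [sq_one hu2, mul_one]
  refine ⟨f, hmem x hdx, hmem y hdy, ?_⟩
  calc f * u * f⁻¹ = f * u * (u * f * u⁻¹) := by rw [hflip]
    _ = f * (u * u) * f * u⁻¹ := by group
    _ = f * f * u := by rw [sq_one hu2, mul_one, inv_self hu2]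
    _ = d⁻¹ * u := by
      rw [hf, ← pow_add, show k + 1 + (k + 1) = (2 * k + 1) + 1 by omega, pow_succ, ← hk, inv_pow,
        pow_orderOf_eq_one, inv_one, one_mul]
    _ = i := by
      rw [hd, mul_inv_rev, inv_self hi2, inv_self hu2, mul_assoc, sq_one hu2, mul_one]

/-- The two-point stabilizer is transitive on the members fixing the first point. -/
theorem pair_transitive {x y : Ω} (hyx : y ≠ x) {a b : Q} (ha : a ∈ J) (hax : a • x = x)
    (hb : b ∈ J) (hbx : b • x = x) :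
    ∃ d : Q, d • x = x ∧ d • y = y ∧ d * a * d⁻¹ = b := by
  classical
  let OC : Ω → Set Ω := fun w => {v | ∃ c : Q, Commute c a ∧ c • w = v}
  let OH : Ω → Set Ω := fun w => {v | ∃ h : Q, h • x = x ∧ h • w = v}
  let W : Set Ω := {w | w ≠ x}
  have hCx : ∀ c : Q, Commute c a → c • x = x := fun c hc => commute_fix hJ ha hc hax
  have hOC : ∀ (c : Q) (w : Ω), Commute c a → OC (c • w) = OC w := by
    intro c w hc
    ext v
    constructor
    · rintro ⟨e, he, rfl⟩
      exact ⟨e * c, he.mul_left hc, mul_smul e c w⟩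
    · rintro ⟨e, he, rfl⟩
      exact ⟨e * c⁻¹, he.mul_left hc.inv_left, by rw [mul_smul, inv_smul_smul]⟩
  have hOH : ∀ (h : Q) (w : Ω), h • x = x → OH (h • w) = OH w := by
    intro h w hh
    ext v
    constructor
    · rintro ⟨e, he, rfl⟩
      exact ⟨e * h, by rw [mul_smul, hh, he], mul_smul e h w⟩
    · rintro ⟨e, he, rfl⟩
      refine ⟨e * h⁻¹, ?_, by rw [mul_smul, inv_smul_smul]⟩
      rw [mul_smul, show h⁻¹ • x = x from inv_smul_eq_iff.2 hh.symm, he]
  have hsw : ∀ w : Ω, w ≠ x → ∃ g i : Q, i ∈ J ∧ i • x = w ∧ g * i * g⁻¹ = a := by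
    intro w hw
    have h1 := card_swappers hJ (Ne.symm hw)
    haveI : Nonempty {t : Q // t ∈ J ∧ t • x = x} := ⟨⟨a, ha, hax⟩⟩
    haveI hne : Nonempty {i : Q // i ∈ J ∧ i • x = w} :=
      (Nat.card_pos_iff.1 (h1 ▸ Nat.card_pos)).1
    obtain ⟨i, hi, hiw⟩ := hne
    obtain ⟨g, hg⟩ := isConj_iff.1 (members_conj hJ hi ha)
    exact ⟨g, i, hi, hiw, hg⟩
  choose γ ι hι hιw hγ using hsw
  let ψ : Ω → Set Ω := fun w => if hw : w = x then ∅ else OC (γ w hw • w)
  have hψ : ∀ w (hw : w ≠ x), ψ w = OC (γ w hw • w) := fun w hw => dif_neg hw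
  have hψH : ∀ w w', w ≠ x → w' ≠ x → OH w = OH w' → ψ w = ψ w' := by
    intro w w' hw hw' e
    obtain ⟨h, hh, he⟩ : w' ∈ OH w := by
      rw [e]; exact ⟨1, one_smul Q x, one_smul Q w'⟩
    obtain ⟨f, -, hfw, hf⟩ := swappers_conj hJ (Ne.symm hw') (hι w' hw') (hιw w' hw')
      (hJ.conj _ (hι w hw) h) (by
        rw [mul_smul, mul_smul, show h⁻¹ • x = x from inv_smul_eq_iff.2 hh.symm, hιw w hw, he])
    rw [hψ w hw, hψ w' hw']
    set c := γ w' hw' * f * h * (γ w hw)⁻¹
    have hc : Commute c a := by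
      refine mul_inv_eq_iff_eq_mul.1 ?_
      calc c * a * c⁻¹ = c * (γ w hw * ι w hw * (γ w hw)⁻¹) * c⁻¹ := by rw [hγ w hw]
        _ = γ w' hw' * (f * (h * ι w hw * h⁻¹) * f⁻¹) * (γ w' hw')⁻¹ := by simp only [c]; group
        _ = a := by rw [hf, hγ w' hw']
    rw [← hOC c _ hc, ← mul_smul, show c * γ w hw = γ w' hw' * f * h by simp only [c]; group,
      mul_smul, mul_smul, he, hfw]
  have hψsurj : OC '' W ⊆ ψ '' W := by
    rintro _ ⟨w, hw, rfl⟩
    obtain ⟨k, hk⟩ := hJ.trans x w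
    set v := k⁻¹ • a • w with hv
    have hvx : v ≠ x := by
      intro e
      rw [hv, inv_smul_eq_iff, hk] at e
      exact hw (hJ.uniq a ha _ _ e hax)
    refine ⟨v, hvx, ?_⟩
    obtain ⟨f, -, hfv, hf⟩ := swappers_conj hJ (Ne.symm hvx) (hι v hvx) (hιw v hvx)
      (hJ.conj a ha k⁻¹) (by rw [inv_inv, mul_smul, mul_smul, hk])
    set c := γ v hvx * f * k⁻¹
    have hc : Commute c a := by
      refine mul_inv_eq_iff_eq_mul.1 ?_
      calc c * a * c⁻¹ = γ v hvx * (f * (k⁻¹ * a * k⁻¹⁻¹) * f⁻¹) * (γ v hvx)⁻¹ := by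
            simp only [c]; group
        _ = a := by rw [hf, hγ v hvx]
    rw [hψ v hvx, ← hOC a w (Commute.refl a), ← hOC c (a • w) hc, mul_smul, mul_smul, ← hv, hfv]
  have hcard1 : (OC '' W).ncard ≤ (OH '' W).ncard := by
    refine (Set.ncard_le_ncard hψsurj (Set.toFinite _)).trans ?_
    let φ : Set Ω → Set Ω := fun O => if h : ∃ w, w ≠ x ∧ OH w = O then ψ h.choose else ∅
    have : ψ '' W = φ '' (OH '' W) := by
      rw [Set.image_image]
      refine Set.image_congr fun w hw => ?_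
      have h : ∃ w', w' ≠ x ∧ OH w' = OH w := ⟨w, hw, rfl⟩
      simp only [φ, dif_pos h]
      exact hψH _ _ hw h.choose_spec.1 h.choose_spec.2.symm
    rw [this]
    exact Set.ncard_image_le (Set.toFinite _)
  let r : Set Ω → Set Ω := fun O => {v | ∃ o ∈ O, ∃ h : Q, h • x = x ∧ h • o = v}
  have hr : ∀ w, r (OC w) = OH w := by
    intro w
    ext v
    constructor
    · rintro ⟨_, ⟨c, hc, rfl⟩, h, hh, rfl⟩
      exact ⟨h * c, by rw [mul_smul, hCx c hc, hh], mul_smul h c w⟩
    · rintro ⟨h, hh, rfl⟩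
      exact ⟨w, ⟨1, Commute.one_left a, one_smul _ _⟩, h, hh, rfl⟩
  have himg : r '' (OC '' W) = OH '' W := by
    rw [Set.image_image]
    exact Set.image_congr fun w _ => hr w
  have hinj : Set.InjOn r (OC '' W) := Set.injOn_of_ncard_image_eq
    (le_antisymm (Set.ncard_image_le (Set.toFinite _)) (himg.symm ▸ hcard1)) (Set.toFinite _)
  obtain ⟨g, hg⟩ := isConj_iff.1 (members_conj hJ ha hb)
  have hgx : g • x = x := hJ.uniq b hb _ _
    (by rw [← hg, mul_smul, mul_smul, inv_smul_smul, hax]) hbx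
  have hgx' : g⁻¹ • x = x := inv_smul_eq_iff.2 hgx.symm
  have hy' : g⁻¹ • y ≠ x := fun e => hyx (by rw [inv_smul_eq_iff, hgx] at e; exact e)
  have he : OC y = OC (g⁻¹ • y) := hinj (Set.mem_image_of_mem OC hyx) (Set.mem_image_of_mem OC hy')
    (by rw [hr, hr, hOH _ _ hgx'])
  obtain ⟨c, hc, hcy⟩ : g⁻¹ • y ∈ OC y := by
    rw [he]; exact ⟨1, Commute.one_left a, one_smul Q _⟩
  refine ⟨g * c, by rw [mul_smul, hCx c hc, hgx], by rw [mul_smul, hcy, smul_inv_smul], ?_⟩
  calc g * c * a * (g * c)⁻¹ = g * (c * a) * c⁻¹ * g⁻¹ := by group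
    _ = g * (a * c) * c⁻¹ * g⁻¹ := by rw [hc.eq]
    _ = g * a * g⁻¹ := by group
    _ = b := hg

end Cfsg.Agent.Lie.InvPairs
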