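import Cfsg.Agent.Lib.Lie.JankoPack

/-!
Certificate data for automorphisms and the Sylow 2-normaliser of the Janko group of order 175560 (generated).
-/

set_option autoImplicit false
set_option maxRecDepth 100000
set_option maxHeartbeats 0

namespace Cfsg.Agent.Lie.Janko

def autQs0 : Tree (ℕ) :=
  (.node (.node (.node (.node (.leaf 0) (.leaf 333)) (.leaf 102)) (.node (.leaf 39) (.leaf 189))) (.node (.node (.node (.leaf 18) (.leaf 561)) (.leaf 148)) (.node (.leaf 68) (.leaf 255))))

def autQs1 : Tree (ℕ) :=
  (.node (.node (.node (.node (.leaf 1) (.leaf 346)) (.leaf 103)) (.node (.leaf 40) (.leaf 190))) (.node (.node (.node (.leaf 20) (.leaf 657)) (.leaf 150)) (.node (.leaf 69) (.leaf 256))))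

def autQs2 : Tree (ℕ) :=
  (.node (.node (.node (.node (.leaf 2) (.leaf 358)) (.leaf 108)) (.node (.leaf 42) (.leaf 194))) (.node (.node (.leaf 21) (.leaf 153)) (.node (.leaf 71) (.leaf 257))))

def autQs3 : Tree (ℕ) :=
  (.node (.node (.node (.node (.leaf 3) (.leaf 367)) (.leaf 111)) (.node (.leaf 43) (.leaf 195))) (.node (.node (.leaf 23) (.leaf 161)) (.node (.leaf 72) (.leaf 275))))

def autQs4 : Tree (ℕ) :=
  (.node (.node (.node (.node (.leaf 4) (.leaf 377)) (.leaf 114)) (.node (.leaf 45) (.leaf 201))) (.node (.node (.leaf 24) (.leaf 162)) (.node (.leaf 73) (.leaf 276))))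

def autQs5 : Tree (ℕ) :=
  (.node (.node (.node (.node (.leaf 5) (.leaf 380)) (.leaf 117)) (.node (.leaf 47) (.leaf 202))) (.node (.node (.leaf 25) (.leaf 167)) (.node (.leaf 75) (.leaf 279))))

def autQs6 : Tree (ℕ) :=
  (.node (.node (.node (.node (.leaf 6) (.leaf 394)) (.leaf 120)) (.node (.leaf 48) (.leaf 204))) (.node (.node (.leaf 26) (.leaf 169)) (.node (.leaf 77) (.leaf 289))))

def autQs7 : Tree (ℕ) :=
  (.node (.node (.node (.node (.leaf 7) (.leaf 396)) (.leaf 122)) (.node (.leaf 49) (.leaf 207))) (.node (.node (.leaf 27) (.leaf 171)) (.node (.leaf 79) (.leaf 294))))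

def autQs8 : Tree (ℕ) :=
  (.node (.node (.node (.node (.leaf 8) (.leaf 397)) (.leaf 124)) (.node (.leaf 54) (.leaf 213))) (.node (.node (.leaf 30) (.leaf 172)) (.node (.leaf 80) (.leaf 298))))

def autQs9 : Tree (ℕ) :=
  (.node (.node (.node (.node (.leaf 9) (.leaf 405)) (.leaf 125)) (.node (.leaf 58) (.leaf 216))) (.node (.node (.leaf 31) (.leaf 173)) (.node (.leaf 81) (.leaf 303))))

def autQs10 : Tree (ℕ) :=
  (.node (.node (.node (.node (.leaf 10) (.leaf 407)) (.leaf 130)) (.node (.leaf 59) (.leaf 227))) (.node (.node (.leaf 32) (.leaf 176)) (.node (.leaf 82) (.leaf 317))))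

def autQs11 : Tree (ℕ) :=
  (.node (.node (.node (.node (.leaf 11) (.leaf 410)) (.leaf 131)) (.node (.leaf 60) (.leaf 230))) (.node (.node (.leaf 33) (.leaf 178)) (.node (.leaf 85) (.leaf 324))))

def autQs12 : Tree (ℕ) :=
  (.node (.node (.node (.node (.leaf 12) (.leaf 467)) (.leaf 134)) (.node (.leaf 63) (.leaf 234))) (.node (.node (.leaf 34) (.leaf 179)) (.node (.leaf 86) (.leaf 325))))

def autQs13 : Tree (ℕ) :=
  (.node (.node (.node (.node (.leaf 15) (.leaf 500)) (.leaf 135)) (.node (.leaf 64) (.leaf 237))) (.node (.node (.leaf 35) (.leaf 180)) (.node (.leaf 87) (.leaf 326))))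

def autQs14 : Tree (ℕ) :=
  (.node (.node (.node (.node (.leaf 16) (.leaf 555)) (.leaf 138)) (.node (.leaf 65) (.leaf 238))) (.node (.node (.leaf 37) (.leaf 184)) (.node (.leaf 90) (.leaf 329))))

def autQs15 : Tree (ℕ) :=
  (.node (.node (.node (.node (.leaf 17) (.leaf 559)) (.leaf 142)) (.node (.leaf 66) (.leaf 249))) (.node (.node (.leaf 38) (.leaf 185)) (.node (.leaf 91) (.leaf 332))))

def autQs : Tree (ℕ) :=
  (.node (.node (.node (.node autQs0 autQs8) (.node autQs4 autQs12)) (.node (.node autQs2 autQs10) (.node autQs6 autQs14))) (.node (.node (.node autQs1 autQs9) (.node autQs5 autQs13)) (.node (.node autQs3 autQs11) (.node autQs7 autQs15))))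

def autQsInv0 : Tree (M7) :=
  (.node (.node (.node (.node (.leaf ⟨1, 4096, 16777216, 68719476736, 281474976710656, 1152921504606846976, 4722366482869645213696⟩) (.leaf ⟨18892926666935747248131, 37788156361031462985733, 37778932989063277355009, 42503607004272999301126, 9451652747185388290050, 18899843351469872934916, 14171711697921064828931⟩)) (.leaf ⟨42504758236309287337984, 14174018103605236637696, 9452805387283570135042, 14169407543624289263617, 4731589855456373272580, 23612986180896305471496, 9450500388561998589954⟩)) (.node (.leaf ⟨33065789596755493400576, 9224498624124166149, 14176323665070770909193, 9444734092326492712961, 14177476868462788739073, 37782392035327019614212, 14171711979189732126728⟩) (.leaf ⟨37788156361031462985733, 37778932989063277355009, 42503607004272999301126, 9451652747185388290050, 18899843351469872934916, 14171711697921064828931, 18892926666935747248131⟩))) (.node (.node (.node (.leaf ⟨42508215875404321300490, 18891774026837498265603, 37790463611278138056710, 11531467464474910730, 14175170743772372824071,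 37782392879545808068608, 37778932989406958596098⟩) (.leaf ⟨18898690429484095537153, 28345728675626310709248, 33062332239616522854402, 33062331676666686881794, 14172865745462916812802, 42501299190870363381770, 23614138539176064217091⟩)) (.leaf ⟨4724673170991000604681, 9455111511286875181066, 23614139383875905822726, 4728132779380096126978, 47234042530162586718216, 37780087318148959727624, 42508216156466964369417⟩)) (.node (.leaf ⟨28341118396982666199048, 37784699004167420669956, 33065791285742826188806, 18889467338922234216455, 18889468183759598661636, 28339966038634238353414, 42505911158363666800642⟩) (.leaf ⟨42504757391884407545866, 9453958590194518069257, 42505910595138952908806, 28341118960001423020042, 9450498417824844754945, 47234042529956512149507, 23612987869540091174914⟩))))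

def autQsInv1 : Tree (M7) :=
  (.node (.node (.node (.node (.leaf ⟨4722366482869645213696, 1, 4096, 16777216, 68719476736, 281474976710656, 1152921504606846976⟩) (.leaf ⟨9451652746841740566532, 42507064924362007138307, 4722369016213188673545, 14177477431481377755144, 47232888482414559522818, 1154329085749501957, 9451652746704301621248⟩)) (.leaf ⟨42507065486762221527050, 47224819439669562347523, 37781239113410012024835, 42507063235237235429380, 9452805105259005370374, 37781238269466101424133, 23618751913906996776962⟩)) (.node (.leaf ⟨3459891101089959941, 14176325072445738348546, 42501299472414009229313, 37781238832278766878721, 14176324228501827760132, 14171713387045652017155, 33065791004474091778048⟩) (.leaf ⟨18895233353751550001154, 28342270473856251625475, 14177475742356606058503, 37782393161295528488968, 33068094877227120853000, 37778934115032004309000, 18890620542039374204928⟩))) (.node (.node (.node (.leaf ⟨9224498624124166149, 14176323665070770909193, 9444734092326492712961, 14177476868462788739073, 37782392035327019614212,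 14171711979189732126728, 33065789596755493400576⟩) (.leaf ⟨9450499825199610888193, 4724673733666176774152, 28345730645882478534665, 42504759925159214747658, 42504759362277963993090, 42505912565463638892550, 28341116989676602793994⟩)) (.leaf ⟨28339966038084482523145, 42507064642818344493065, 47231736968490977861634, 47224820283888216608778, 4724672888966335201288, 9447041342366942236680, 37785849673940849405957⟩)) (.node (.leaf ⟨37778932989406874730505, 9451650494973207420938, 18899844477369662308360, 14178629226605075013638, 11530059608555020298, 37787004565839079829511, 37788157487068758446080⟩) (.leaf ⟨9451652465435533647877, 28342271318624829448197, 9455111511355544334345, 47228278766514693234692, 23618749943788184027139, 18894077898972035297287, 23621056912628702519303⟩))))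

def autQsInv2 : Tree (M7) :=
  (.node (.node (.node (.node (.leaf ⟨14168254622600718749704, 14170561028422446878722, 42504759362827770138634, 4732745028760844120074, 4723519967874095517704, 14168255185000882778122, 4725828062820461195272⟩) (.leaf ⟨42504757110821798051848, 47234042529612847661066, 37787002876645655740416, 28343422551348178075658, 47223665110721218232326, 33060025270707536547847, 3459609144976244745⟩)) (.leaf ⟨2306687846511026183, 37790462766921960955913, 14171713387045769453571, 14170560747016172904454, 47228277922708372606979, 18897538352885539053577, 47228276796739746299904⟩)) (.node (.leaf ⟨28342271036599979507718, 23622210397220701749256, 37789309564148502257671, 5764889204169404420, 9225343048936865796, 23622211241439523790854, 18894080150978057740297⟩) (.leaf ⟨28336507274189137268742, 14177476024312736522246, 23621056630878881484802, 37790463330421552746502, 42510523125444804349956, 18896384023868592889857, 4732745309823420096514⟩))) (.node (.node (.leaf ⟨4613938368047226888, 28334201149498889117705, 9453958590125714714628,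 47234041122719117893640, 47232890734489234350080, 33060024989438701498371, 14176323947095486627848⟩) (.leaf ⟨47234042530231306194950, 14178628945542448717833, 14176323383939358007305, 18899843632463746195465, 28336506710964272406534, 23621056349472607440898, 9450499262593271627777⟩)) (.node (.leaf ⟨47224820284025739452419, 37780085066074318471169, 47227123875372477743107, 37780085629574061236227, 37782390909495882588169, 9448192575365370126337, 47234041967212767510529⟩) (.leaf ⟨28344578005784078589957, 28341116989882694115330, 18896384868293455941633, 47234042529819106742273, 42503606722454542626826, 42511676328424304029705, 23612986461890229067779⟩))))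

def autQsInv3 : Tree (M7) :=
  (.node (.node (.node (.node (.leaf ⟨1152921504606846976, 4722366482869645213696, 1, 4096, 16777216, 68719476736, 281474976710656⟩) (.leaf ⟨9450499262593338736647, 33066942237197541064710, 28338813398261077901312, 18892926103779601833984, 14175171025315985096707, 9452804824196244852743, 9450498136624712405002⟩)) (.leaf ⟨47225972079080683618314, 14175172432622266626048, 28337657943344107503626, 47223665110377738289158, 33065789878574084280327, 3461016519859777538, 9448191730734281535491⟩)) (.node (.leaf ⟨4613938024533757960, 28334199742124005564418, 42510523969869633847300, 47225970672186869964803, 47227124156641363140608, 33065791004336619286536, 37788156361100232753160⟩) (.leaf ⟨18891774026493917671431, 18898689584990546599944, 14178631197342262374409, 9447039653654571253763, 18895231946582808109064, 47235195733210872971273, 33068096566077031464967⟩))) (.node (.node (.leaf ⟨4723519967874095517704, 14168255185000882778122, 4725828062820461195272, 14168254622600718749704, 14170561028422446878722, 42504759362827770138634,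 4732745028760844120074⟩) (.leaf ⟨42507062953556117032970, 18899843069651265257475, 37780085347411839422470, 1153766067093393418, 14171713386977033207815, 37788156079900117209088, 37778933833488291364866⟩)) (.node (.leaf ⟨33057718583204639670280, 37778934115238045298696, 33057719709173333106688, 33062330269085695225865, 28338811709686078799875, 37789308156704832106500, 37788157768474965340168⟩) (.leaf ⟨23621058038459806015498, 4731589855181428240394, 28344575754396648869896, 9447040498148271235080, 18894080151046810804231, 14170559339160185901056, 14171711979533480501256⟩))))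

def autQsInv4 : Tree (M7) :=
  (.node (.node (.node (.node (.leaf ⟨37782390909495882588169, 9448192575365370126337, 47234041967212767510529, 47224820284025739452419, 37780085066074318471169, 47227123875372477743107, 37780085629574061236227⟩) (.leaf ⟨33065790722999098302471, 9225624386491396105, 42510521718138673836040, 47225972360555576455178, 37783546082800269537280, 28337660476618897911818, 47223667643652411256838⟩)) (.leaf ⟨14167101419483578773506, 9450497573812147625994, 33066942518603714396163, 14168252933063563059206, 1153766548079403018, 37783545800981645127687, 14176323665345648795648⟩)) (.node (.leaf ⟨4732745028760844120074, 4723519967874095517704, 14168255185000882778122, 4725828062820461195272, 14168254622600718749704, 14170561028422446878722, 42504759362827770138634⟩) (.leaf ⟨4731592388456252182528, 18892925540760996036611, 37788156361100232753160, 4613938024533757960, 23611834666422934441993, 42510523969869633847300, 4732742776686001541128⟩))) (.node (.node (.leaf ⟨18890621667870494425091, 14167100293514935697411, 18890620542039374204928,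 18895233353751550001154, 23616446071241363697672, 14177475742356606058503, 14176323383801902284803⟩) (.leaf ⟨3460172301088088064, 18897537226779389878279, 18895231665451311321092, 4613656343365029891, 37787004283814296973322, 4728132498111193976836, 23622209271114636496899⟩)) (.node (.leaf ⟨14170560465060059152388, 14171711416789568086016, 14170558213329032060936, 4611967905771331593, 9449346059819796176904, 37784697596861273370627, 33060026677876177776648⟩) (.leaf ⟨9449346059819796176904, 14174018948236341952520, 33060026677876177776648, 37788156080037556125703, 37787005128308047237120, 37788155235543839444995, 4611967905771331593⟩))))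

def autQsInv5 : Tree (M7) :=
  (.node (.node (.node (.node (.leaf ⟨4725828062820461195272, 14168254622600718749704, 14170561028422446878722, 42504759362827770138634, 4732745028760844120074, 4723519967874095517704, 14168255185000882778122⟩) (.leaf ⟨14169407261943019876358, 42512830094697589399553, 33058872067727885893641, 42512829249928944455689, 37784697315592387973129, 33068097128683370737672, 37788155235681278365704⟩)) (.leaf ⟨37785851081315800055808, 18898690711508895166471, 28342271600168492089351, 33061177066449558056960, 18894077618046881538051, 28341117834239022219274, 9455110385455687806982⟩)) (.node (.leaf ⟨14176323383801902284803, 18890621667870494425091, 14167100293514935697411, 18890620542039374204928, 18895233353751550001154, 23616446071241363697672, 14177475742356606058503⟩) (.leaf ⟨37788155517018765791234, 9453957182888320438282, 47225971516680368566282, 47235196577567117152264, 37790461359615696187402, 47232888482895629398024, 37790461923115371892744⟩))) (.node (.node (.leaf ⟨37782391472033401667591, 37783546364412584546304,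 37782390627677258158083, 4614501180561690626, 42505911721382289346563, 14172866026937977421832, 18892925258942405181443⟩) (.leaf ⟨23614141072244696195082, 28345728675351382491145, 47229431125206852734982, 23622211522983152852996, 42504757392434163384329, 18898691556002477658117, 9455111792899307638790⟩)) (.node (.leaf ⟨14171711979189732126728, 33065789596755493400576, 9224498624124166149, 14176323665070770909193, 9444734092326492712961, 14177476868462788739073, 37782392035327019614212⟩) (.leaf ⟨14177477150006384283655, 5764889547766775812, 9225342430545473540, 28344577724515176435718, 33061179599930574016521, 23619904553730334273542, 28344576879884138213384⟩))))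

def autQsInv6 : Tree (M7) :=
  (.node (.node (.node (.node (.leaf ⟨9225343049054326790, 37788157486793880518658, 42501300316838939361290, 37789310127235944939530, 14170559902453770235911, 37783545800912841768963, 18898691555521441333248⟩) (.leaf ⟨4724673733391215005701, 37780085066280493686786, 37782391190833269317634, 33058872631158909198338, 23622210678558155644933, 28337658225300254756873, 42508217563979236540426⟩)) (.leaf ⟨14178628945748590362634, 4731590136450229764104, 14178629508148821499912, 14176323102327093370882, 42510522562357445566474, 4724673170510115274762, 4733898231396796768264⟩)) (.node (.leaf ⟨18890621668351530762248, 37778934115238162759683, 18890620542382971559936, 18895233353751549980681, 23616446070897766334467, 37781237706172668084231, 37782393160951931092995⟩) (.leaf ⟨9448191730734281535491, 47225972079080683618314, 14175172432622266626048, 28337657943344107503626, 47223665110377738289158, 33065789878574084280327, 3461016519859777538⟩))) (.node (.node (.leaf ⟨14171713950064475918336, 37788155235543889747971,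 4614501180645576713, 9449346341294772850696, 37784698441286119604227, 18898691836790276370435, 37788157487412355792903⟩) (.leaf ⟨28339964630847021125634, 9451651057854357463050, 47224819439188525981704, 14177477431069128036355, 42507063235168515923975, 9452805105740041703429, 37781238269122504069126⟩)) (.node (.leaf ⟨33065791004474091778048, 3459891101089959941, 14176325072445738348546, 42501299472414009229313, 37781238832278766878721, 14176324228501827760132, 14171713387045652017155⟩) (.leaf ⟨23619903709511730368517, 28344575753846809169929, 4728131654029978644481, 42507063235443326746632, 23623363037181645963266, 33062332521572636581897, 9455110103774435233795⟩))))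

def autQsInv7 : Tree (M7) :=
  (.node (.node (.node (.node (.leaf ⟨281474976710656, 1152921504606846976, 4722366482869645213696, 1, 4096, 16777216, 68719476736⟩) (.leaf ⟨18892926948135929933827, 14170559339572569833475, 8072702881951682563, 23611833259048201920521, 9448193982602680500231, 4732742776686152540168, 4731590418131432022016⟩)) (.leaf ⟨18892925540967120908288, 3459890482614640646, 37782391471895962742786, 42501299471795533918218, 37781238832210047401994, 14176324228295669350407, 37787003158532815073283⟩)) (.node (.leaf ⟨18892925258942405181443, 37782391472033401667591, 37783546364412584546304, 37782390627677258158083, 4614501180561690626, 42505911721382289346563, 14172866026937977421832⟩) (.leaf ⟨9225061299149365248, 33061179318249505972231, 33063484879989901381636, 8071576432238661635, 14171712260527404118026, 47230584046917701898244, 28336507273776820424707⟩))) (.node (.node (.leaf ⟨33063482909115291820038, 42508217845660388458501, 42507064079730885029896, 23612986180277880504320, 37787005128445402300416, 42511675765955470843909,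 18899843069857323061252⟩) (.leaf ⟨42505911721382289346563, 14172866026937977421832, 18892925258942405181443, 37782391472033401667591, 37783546364412584546304, 37782390627677258158083, 4614501180561690626⟩)) (.node (.leaf ⟨33060024989438701498371, 14176323947095486627848, 4613938368047226888, 28334201149498889117705, 9453958590125714714628, 47234041122719117893640, 47232890734489234350080⟩) (.leaf ⟨33068095158083538423816, 33068095158152257875973, 18890618853120660217860, 14176325635464293789705, 3460735113602535427, 37781238832210013868042, 4725827781208045527046⟩))))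

def autQsInv8 : Tree (M7) :=
  (.node (.node (.node (.node (.leaf ⟨42510522562357445566474, 4724673170510115274762, 4733898231396796768264, 14178628945748590362634, 4731590136450229764104, 14178629508148821499912, 14176323102327093370882⟩) (.leaf ⟨23621058320347233820681, 42508218127204034318338, 23615293993818123149314, 33058873475308911091722, 47231736968697136308233, 42512830094285138317317, 23617597584958820466694⟩)) (.leaf ⟨37782391753577081077763, 8072702538270384131, 23611834666423085473794, 42504759362346599591943, 4724672326153904611331, 4725827780933234761728, 18898690148284080615432⟩)) (.node (.leaf ⟨47224819439669562347523, 37781239113410012024835, 42507063235237235429380, 9452805105259005370374, 37781238269466101424133, 23618751913906996776962, 42507065486762221527050⟩) (.leaf ⟨33060026115132382797831, 9224217011607863298, 9453956338051157360643, 47234042811087908270090, 14171711698127206514688, 28343425084622968483850, 47223667643996126081030⟩))) (.node (.node (.leaf ⟨47235196577567117152264, 37790461359615696187402,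 47232888482895629398024, 37790461923115371892744, 37788155517018765791234, 9453957182888320438282, 47225971516680368566282⟩) (.leaf ⟨14168252651932150177801, 37788157768612421079042, 18891773182549956780041, 28344577161427918299142, 23615291742430525657090, 42507064361205811392522, 4732744465879475953669⟩)) (.node (.leaf ⟨28339965475340754645001, 9455111792761768009732, 33057719427698188615685, 37785851080834763718663, 18897537508597930405896, 18896385712787155873801, 28344576879884155002889⟩) (.leaf ⟨47224820565569402056706, 37790463611415493103619, 14169405854705642405889, 28343423958791848235011, 42507064642818193506309, 9455110666999266545666, 9445887013556221665289⟩))))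

def autQsInv9 : Tree (M7) :=
  (.node (.node (.node (.node (.leaf ⟨37780085629574061236227, 37782390909495882588169, 9448192575365370126337, 47234041967212767510529, 47224820284025739452419, 37780085066074318471169, 47227123875372477743107⟩) (.leaf ⟨14169405854911867944969, 2533481015939074, 47223665673533766242306, 42503604752267127857152, 47224818594763562299402, 33061177348130676441095, 28343423676698379456516⟩)) (.leaf ⟨23616445789216513753093, 28336506429351940603907, 14169406699474186690564, 6917811052373635079, 3460734907427340295, 28336507273983079505925, 33064638364444411305986⟩)) (.node (.leaf ⟨47225971516680368566282, 47235196577567117152264, 37790461359615696187402, 47232888482895629398024, 37790461923115371892744, 37788155517018765791234, 9453957182888320438282⟩) (.leaf ⟨47234041967350055460873, 9455110104255471570945, 28344576317277798928390, 47230584046711509901314, 4724673733803531837448, 37780085347755420053507, 42508218690222774325250⟩))) (.node (.node (.leaf ⟨9448193982121694502922, 47234043374243902685194, 47224818313357221208072,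 37780087599830061318154, 47227126408028910288904, 37780087036330318503944, 37782393442426924605442⟩) (.leaf ⟨28342270755812231106562, 33064638082900648022022, 42510522844176002879490, 18898689303515536310282, 28334200586067798667269, 18890618853189396492292, 37783544956831542571013⟩)) (.node (.leaf ⟨18894080150978057740297, 28342271036599979507718, 23622210397220701749256, 37789309564148502257671, 5764889204169404420, 9225343048936865796, 23622211241439523790854⟩) (.leaf ⟨23621057756710085591047, 42509370485552546058245, 33056567632299730927621, 42509370485758771609604, 37780085910361742540807, 18898689866740300533762, 42505911158088822439939⟩))))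

def autQsInv10 : Tree (M7) :=
  (.node (.node (.node (.node (.leaf ⟨28334201149498889117705, 9453958590125714714628, 47234041122719117893640, 47232890734489234350080, 33060024989438701498371, 14176323947095486627848, 4613938368047226888⟩) (.leaf ⟨47229431688569122988038, 47224820002000939790339, 37785851925397199953921, 37781238269328779939850, 33061178192624393158666, 3459609213662154761, 37782391753577165000706⟩)) (.leaf ⟨42505911158363666800642, 28341118396982666199048, 37784699004167420669956, 33065791285742826188806, 18889467338922234216455, 18889468183759598661636, 28339966038634238353414⟩)) (.node (.leaf ⟨47235196577429627895815, 3459890551300587528, 47230584610211252666375, 28345728112951268773895, 33064636675525781237766, 9444735217745396776968, 14169407543418030161928⟩) (.leaf ⟨33064638364444411305986, 23616445789216513753093, 28336506429351940603907, 14169406699474186690564, 6917811052373635079, 3460734907427340295, 28336507273983079505925⟩))) (.node (.node (.leaf ⟨47234042811087908270090, 14171711698127206514688, 28343425084622968483850,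 47223667643996126081030, 33060026115132382797831, 9224217011607863298, 9453956338051157360643⟩) (.leaf ⟨23614138820925952364546, 4728133624354698199041, 9451650776379380760579, 23623363318656505245698, 33062330551247782825993, 9455111511149436231683, 28338811428211152424966⟩)) (.node (.leaf ⟨14178628945542448717833, 14176323383939358007305, 18899843632463746195465, 28336506710964272406534, 23621056349472607440898, 9450499262593271627777, 47234042530231306194950⟩) (.leaf ⟨9447041623773249818629, 42512830376309988282376, 37788155517087502077958, 47227126126622535602179, 37785850236822217584642, 28344576880021661065223, 42503604752129655345162⟩))))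

def autQsInv11 : Tree (M7) :=
  (.node (.node (.node (.node (.leaf ⟨14168255185000882778122, 4725828062820461195272, 14168254622600718749704, 14170561028422446878722, 42504759362827770138634, 4732745028760844120074, 4723519967874095517704⟩) (.leaf ⟨11530059608555020298, 37787004565839079829511, 37788157487068758446080, 37778932989406874730505, 9451650494973207420938, 18899844477369662308360, 14178629226605075013638⟩)) (.leaf ⟨42504759925159214747658, 42504759362277963993090, 42505912565463638892550, 28341116989676602793994, 9450499825199610888193, 4724673733666176774152, 28345730645882478534665⟩)) (.node (.leaf ⟨9450497573812147625994, 33066942518603714396163, 14168252933063563059206, 1153766548079403018, 37783545800981645127687, 14176323665345648795648, 14167101419483578773506⟩) (.leaf ⟨37790463611690438115331, 42507063234962340716546, 4732743621523399532546, 9447041060754509815809, 23622209834408170491909, 4729285700884652646409, 47225972079630456201219⟩))) (.node (.node (.leaf ⟨14178629508148821499912, 14176323102327093370882,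 42510522562357445566474, 4724673170510115274762, 4733898231396796768264, 14178628945748590362634, 4731590136450229764104⟩) (.leaf ⟨37784698441286119604227, 18898691836790276370435, 37788157487412355792903, 14171713950064475918336, 37788155235543889747971, 4614501180645576713, 9449346341294772850696⟩)) (.node (.leaf ⟨14168253214607208910851, 37788158050293707218946, 42504757954834327408641, 47225972924055403134986, 47235194607242364100616, 37790463892890570489866, 4725825528927312949251⟩) (.leaf ⟨47225972360967893286918, 9223935124263931906, 23621056630810044538887, 42512829250272558612486, 28339965756815714586628, 14175172714509476339719, 23618751913906879340547⟩))))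

def autQsInv12 : Tree (M7) :=
  (.node (.node (.node (.node (.leaf ⟨37783546364412584546304, 37782390627677258158083, 4614501180561690626, 42505911721382289346563, 14172866026937977421832, 18892925258942405181443, 37782391472033401667591⟩) (.leaf ⟨47227123593416548577287, 42508218689810524549129, 14174018948030284173312, 37789310408848360644618, 23612987588271239352328, 42504759080734334910464, 9452804542858639974402⟩)) (.leaf ⟨14170558494803908104201, 9453958590263287914506, 4732743621042212188161, 47235194607242364100616, 37790463892890570489866, 47232891016170302373896, 14168253214607208910851⟩)) (.node (.leaf ⟨4731590136450229764104, 14178629508148821499912, 14176323102327093370882, 42510522562357445566474, 4724673170510115274762, 4733898231396796768264, 14178628945748590362634⟩) (.leaf ⟨42502451830487693398021, 47225973205530262409221, 28339964067965887860746, 9445887295031131271173, 37790463611621752184841, 37788155517087569170439, 42511676328286881865737⟩))) (.node (.node (.leaf ⟨23611834666423085473794, 42504759362346599591943,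 4724672326153904611331, 4725827780933234761728, 18898690148284080615432, 37782391753577081077763, 8072702538270384131⟩) (.leaf ⟨42512830376309988282376, 37788155517087502077958, 47227126126622535602179, 37785850236822217584642, 28344576880021661065223, 42503604752129655345162, 9447041623773249818629⟩)) (.node (.leaf ⟨42504759362827770138634, 4732745028760844120074, 4723519967874095517704, 14168255185000882778122, 4725828062820461195272, 14168254622600718749704, 14170561028422446878722⟩) (.leaf ⟨18889467339540793393159, 28339965475409339875336, 33056566224993650769927, 14172864619494357614599, 28341118959657859194886, 18898689866809053560837, 42509369922396534890498⟩))))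

def autQsInv13 : Tree (M7) :=
  (.node (.node (.node (.node (.leaf ⟨68719476736, 281474976710656, 1152921504606846976, 4722366482869645213696, 1, 4096, 16777216⟩) (.leaf ⟨18897537789660640612358, 14167100574989878841354, 47227125564016146022404, 18900996554243230961666, 14174019511048923529218, 844768611430405, 33064637801150860529669⟩)) (.leaf ⟨47224820283888166252548, 9224498074250915843, 47229431688706528378884, 28335351819409723236356, 33061177911012044603397, 9444735217745312903171, 14177477993950328401923⟩)) (.node (.leaf ⟨3459890482614640646, 37782391471895962742786, 42501299471795533918218, 37781238832210047401994, 14176324228295669350407, 37787003158532815073283, 18892925540967120908288⟩) (.leaf ⟨2533481015939074, 47223665673533766242306, 42503604752267127857152, 47224818594763562299402, 33061177348130676441095, 28343423676698379456516, 14169405854911867944969⟩))) (.node (.node (.leaf ⟨37778932989406958596098, 42508215875404321300490, 18891774026837498265603, 37790463611278138056710, 11531467464474910730, 14175170743772372824071,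 37782392879545808068608⟩) (.leaf ⟨23621058319797360566274, 42508217563979236540426, 4724673733391215005701, 14178631478817121636361, 37782391190833269317634, 18899843913938706124809, 28336505866539459678214⟩)) (.node (.leaf ⟨37789309000923670937608, 4723519967736522375175, 9225342499181068296, 4728131935504837902343, 23612985336540078051335, 18894079869777992495110, 42501299190457945833480⟩) (.leaf ⟨4723521656311638949889, 563156179001353, 18894080432796531175428, 4722368735081842909193, 23621057475303710924807, 9447041342504448299008, 37781240239584930967554⟩))))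

def autQsInv14 : Tree (M7) :=
  (.node (.node (.node (.node (.leaf ⟨47234043374243902685194, 47224818313357221208072, 37780087599830061318154, 47227126408028910288904, 37780087036330318503944, 37782393442426924605442, 9448193982121694502922⟩) (.leaf ⟨28344577724515277115395, 9224779824172650496, 18894078462265686773764, 33062331958141579710468, 8072420857168830472, 14175171025041140772874, 47229431125481697087492⟩)) (.leaf ⟨23611832414898065793031, 23616445226541488558089, 28342270474062410055689, 47232888201214460690437, 18890621105057996734472, 9452803698158915833865, 9453957745288501280772⟩)) (.node (.leaf ⟨8072702538270384131, 23611834666423085473794, 42504759362346599591943, 4724672326153904611331, 4725827780933234761728, 18898690148284080615432, 37782391753577081077763⟩) (.leaf ⟨28345730645882478534665, 42504759925159214747658, 42504759362277963993090, 42505912565463638892550, 28341116989676602793994, 9450499825199610888193, 4724673733666176774152⟩))) (.node (.node (.leaf ⟨37780085066074318471169, 47227123875372477743107,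 37780085629574061236227, 37782390909495882588169, 9448192575365370126337, 47234041967212767510529, 47224820284025739452419⟩) (.leaf ⟨37787005128445402300416, 42511675765955470843909, 18899843069857323061252, 33063482909115291820038, 42508217845660388458501, 42507064079730885029896, 23612986180277880504320⟩)) (.node (.leaf ⟨2252143511760901, 18894078743603157438469, 33061178755230816309254, 37778933833763035041802, 4731590981287443202052, 33057719990785664913410, 37784697033567655444482⟩) (.leaf ⟨47235194888167517880323, 14174019511048822890506, 37789310690117145337866, 18894078744015507849217, 3459609213779595266, 14170559339228888600585, 47230583202355248926726⟩))))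

def autQsInv15 : Tree (M7) :=
  (.node (.node (.node (.node (.leaf ⟨14176323102327093370882, 42510522562357445566474, 4724673170510115274762, 4733898231396796768264, 14178628945748590362634, 4731590136450229764104, 14178629508148821499912⟩) (.leaf ⟨5764607798046384133, 4722367327500800913415, 18896385430968564998147, 33063485724002464337925, 33060026115063713648644, 37787004002820339830786, 37778931863369596014599⟩)) (.leaf ⟨28342271318624829448197, 9455111511355544334345, 47228278766514693234692, 23618749943788184027139, 18894077898972035297287, 23621056912628702519303, 9451652465435533647877⟩)) (.node (.leaf ⟨23611833259048201920521, 9448193982602680500231, 4732742776686152540168, 4731590418131432022016, 18892926948135929933827, 14170559339572569833475, 8072702881951682563⟩) (.leaf ⟨9453957745288501280772, 23611832414898065793031, 23616445226541488558089, 28342270474062410055689, 47232888201214460690437, 18890621105057996734472, 9452803698158915833865⟩))) (.node (.node (.leaf ⟨14171711416789568086016, 14170558213329032060936,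 4611967905771331593, 9449346059819796176904, 37784697596861273370627, 33060026677876177776648, 14170560465060059152388⟩) (.leaf ⟨28339965475409339875336, 33056566224993650769927, 14172864619494357614599, 28341118959657859194886, 18898689866809053560837, 42509369922396534890498, 18889467339540793393159⟩)) (.node (.leaf ⟨37782393160951931092995, 18890621668351530762248, 37778934115238162759683, 18890620542382971559936, 18895233353751549980681, 23616446070897766334467, 37781237706172668084231⟩) (.leaf ⟨14167100293515019579402, 28345728957307395543049, 28342269629843587989507, 42510523970350837964808, 4731592388662410641413, 14175170181234635571209, 33061179880855744552962⟩))))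

def autQsInv : Tree (M7) :=
  (.node (.node (.node (.node autQsInv0 autQsInv8) (.node autQsInv4 autQsInv12)) (.node (.node autQsInv2 autQsInv10) (.node autQsInv6 autQsInv14))) (.node (.node (.node autQsInv1 autQsInv9) (.node autQsInv5 autQsInv13)) (.node (.node autQsInv3 autQsInv11) (.node autQsInv7 autQsInv15))))

def autCert0 : Tree (ℕ × ℕ × ℕ) :=
  (.node (.node (.node (.node (.node (.node (.node (.leaf (0, 0, 0)) (.leaf (24, 10, 32))) (.node (.leaf (19, 1, 89)) (.leaf (72, 3, 77)))) (.node (.node (.leaf (113, 0, 0)) (.leaf (131, 5, 91))) (.leaf (3, 7, 95)))) (.node (.node (.node (.leaf (22, 9, 86)) (.leaf (46, 6, 55))) (.leaf (76, 8, 75))) (.node (.node (.leaf (111, 8, 51)) (.leaf (129, 10, 77))) (.leaf (135, 5, 92))))) (.node (.node (.node (.node (.leaf (45, 0, 0)) (.leaf (18, 5, 47))) (.leaf (109, 6, 32))) (.node (.node (.leaf (107, 9, 19)) (.leaf (39, 10, 83))) (.leaf (113, 6, 12)))) (.node (.node (.node (.leaf (61, 2, 27)) (.leaf (115, 1, 72))) (.leaf (10, 10, 41))) (.node (.node (.leaf (106, 4, 106)) (.leaf (101, 7, 45)))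 (.leaf (17, 9, 5)))))) (.node (.node (.node (.node (.node (.leaf (26, 0, 0)) (.leaf (86, 8, 35))) (.node (.leaf (50, 6, 83)) (.leaf (83, 5, 37)))) (.node (.node (.leaf (19, 2, 0)) (.leaf (125, 7, 82))) (.leaf (57, 6, 25)))) (.node (.node (.node (.leaf (66, 2, 65)) (.leaf (77, 6, 84))) (.leaf (112, 3, 109))) (.node (.node (.leaf (125, 2, 45)) (.leaf (48, 6, 62))) (.leaf (117, 10, 11))))) (.node (.node (.node (.node (.leaf (63, 6, 53)) (.leaf (92, 8, 41))) (.leaf (126, 10, 3))) (.node (.node (.leaf (39, 6, 30)) (.leaf (141, 4, 12))) (.leaf (94, 4, 81)))) (.node (.node (.node (.leaf (76, 4, 88)) (.leaf (25, 4, 9))) (.leaf (141, 3, 41))) (.node (.node (.leaf (11, 3, 106)) (.leaf (66, 1, 14))) (.leaf (126, 6, 22))))))) (.node (.node (.node (.node (.node (.node (.leaf (14, 0, 0)) (.leaf (25, 8, 63))) (.node (.leaf (138, 5, 15)) (.leaf (129, 1, 67)))) (.node (.node (.leaf (87, 5, 54)) (.leaf (54, 1, 34))) (.leaf (55, 5, 41)))) (.node (.node (.node (.leaf (9, 2, 0)) (.leaf (4, 8, 25))) (.leaf (68, 2, 71))) (.node (.node (.leaf (60, 2, 45))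 (.leaf (95, 9, 46))) (.leaf (38, 7, 75))))) (.node (.node (.node (.node (.leaf (56, 0, 0)) (.leaf (46, 3, 52))) (.leaf (71, 4, 49))) (.node (.node (.leaf (47, 4, 45)) (.leaf (73, 4, 24))) (.leaf (105, 10, 46)))) (.node (.node (.node (.leaf (75, 2, 93)) (.leaf (144, 7, 50))) (.leaf (72, 10, 40))) (.node (.node (.leaf (45, 7, 59)) (.leaf (133, 9, 76))) (.leaf (134, 7, 58)))))) (.node (.node (.node (.node (.node (.leaf (38, 0, 0)) (.leaf (19, 3, 57))) (.node (.leaf (40, 6, 5)) (.leaf (13, 5, 40)))) (.node (.node (.leaf (35, 6, 7)) (.leaf (125, 3, 27))) (.leaf (108, 2, 69)))) (.node (.node (.node (.leaf (90, 0, 0)) (.leaf (144, 6, 15))) (.leaf (96, 8, 11))) (.node (.node (.leaf (116, 7, 9)) (.leaf (69, 5, 4))) (.leaf (47, 3, 81))))) (.node (.node (.node (.node (.leaf (49, 4, 72)) (.leaf (4, 5, 7))) (.leaf (69, 3, 8))) (.node (.node (.leaf (25, 2, 0)) (.leaf (2, 5, 103))) (.leaf (74, 7, 34)))) (.node (.node (.node (.leaf (74, 2, 79)) (.leaf (65, 10, 67))) (.leaf (13, 10, 43))) (.node (.node (.leaf (37, 2, 0)) (.leaf (143, 6, 61))) (.leaf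 (89, 5, 86))))))))

def autCert1 : Tree (ℕ × ℕ × ℕ) :=
  (.node (.node (.node (.node (.node (.node (.node (.leaf (1, 0, 0)) (.leaf (36, 1, 33))) (.node (.leaf (32, 10, 72)) (.leaf (139, 1, 56)))) (.node (.node (.leaf (114, 0, 0)) (.leaf (138, 6, 90))) (.leaf (140, 4, 48)))) (.node (.node (.node (.leaf (10, 8, 17)) (.leaf (110, 2, 78))) (.leaf (28, 9, 51))) (.node (.node (.leaf (98, 3, 64)) (.leaf (3, 6, 40))) (.leaf (25, 1, 41))))) (.node (.node (.node (.node (.leaf (46, 0, 0)) (.leaf (119, 5, 19))) (.leaf (103, 10, 102))) (.node (.node (.leaf (91, 9, 0)) (.leaf (53, 8, 75))) (.leaf (17, 7, 19)))) (.node (.node (.node (.leaf (96, 6, 98)) (.leaf (2, 7, 26))) (.leaf (130, 10, 108))) (.node (.node (.leaf (61, 7, 13)) (.leaf (144, 4, 15))) (.leaf (73, 2, 0)))))) (.node (.node (.node (.node (.node (.leaf (27, 0, 0)) (.leaf (38, 6, 79))) (.node (.leaf (46, 10, 3)) (.leaf (145, 8, 94)))) (.node (.node (.leaf (118, 0, 0)) (.leaf (87, 4, 108))) (.leaf (111, 5, 44)))) (.node (.node (.node (.leaf (83, 0, 0)) (.leaf (56, 7, 47))) (.leaf (6,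 5, 70))) (.node (.node (.leaf (104, 8, 91)) (.leaf (86, 1, 7))) (.leaf (143, 1, 95))))) (.node (.node (.node (.node (.leaf (5, 2, 0)) (.leaf (29, 8, 60))) (.leaf (34, 7, 99))) (.node (.node (.leaf (115, 6, 62)) (.leaf (92, 3, 22))) (.leaf (142, 5, 95)))) (.node (.node (.node (.leaf (70, 9, 0)) (.leaf (79, 3, 72))) (.leaf (88, 8, 49))) (.node (.node (.leaf (120, 10, 3)) (.leaf (120, 6, 99))) (.leaf (107, 7, 18))))))) (.node (.node (.node (.node (.node (.node (.leaf (15, 0, 0)) (.leaf (27, 4, 3))) (.node (.leaf (49, 9, 90)) (.leaf (141, 2, 12)))) (.node (.node (.leaf (44, 8, 105)) (.leaf (141, 1, 15))) (.leaf (89, 4, 92)))) (.node (.node (.node (.leaf (24, 1, 71)) (.leaf (37, 10, 78))) (.leaf (145, 0, 0))) (.node (.node (.leaf (15, 4, 18)) (.leaf (47, 7, 43))) (.leaf (58, 9, 23))))) (.node (.node (.node (.node (.leaf (57, 0, 0)) (.leaf (140, 7, 67))) (.leaf (134, 2, 90))) (.node (.node (.leaf (10, 9, 47)) (.leaf (108, 4, 76))) (.leaf (63, 7, 25)))) (.node (.node (.node (.leaf (11, 5, 103)) (.leaf (55, 4, 50))) (.leaf (96, 3, 103)))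 (.node (.node (.leaf (44, 1, 19)) (.leaf (109, 5, 30))) (.leaf (2, 1, 64)))))) (.node (.node (.node (.node (.node (.leaf (39, 0, 0)) (.leaf (109, 1, 82))) (.node (.leaf (144, 0, 0)) (.leaf (80, 9, 25)))) (.node (.node (.leaf (45, 3, 102)) (.leaf (114, 7, 87))) (.leaf (111, 10, 77)))) (.node (.node (.node (.leaf (62, 8, 95)) (.leaf (104, 2, 36))) (.leaf (93, 8, 106))) (.node (.node (.leaf (31, 2, 0)) (.leaf (143, 8, 61))) (.leaf (123, 2, 57))))) (.node (.node (.node (.node (.leaf (1, 1, 80)) (.leaf (135, 10, 97))) (.leaf (18, 9, 102))) (.node (.node (.leaf (103, 4, 107)) (.leaf (145, 1, 14))) (.leaf (43, 3, 42)))) (.node (.node (.node (.leaf (103, 8, 23)) (.leaf (48, 9, 25))) (.leaf (104, 3, 39))) (.node (.node (.leaf (31, 4, 70)) (.leaf (139, 4, 40))) (.leaf (28, 8, 48))))))))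

def autCert2 : Tree (ℕ × ℕ × ℕ) :=
  (.node (.node (.node (.node (.node (.node (.node (.leaf (2, 0, 0)) (.leaf (107, 6, 27))) (.node (.leaf (14, 9, 45)) (.leaf (121, 1, 11)))) (.node (.node (.leaf (81, 2, 2)) (.leaf (113, 8, 51))) (.leaf (43, 8, 62)))) (.node (.node (.node (.leaf (74, 0, 0)) (.leaf (80, 3, 12))) (.leaf (28, 10, 61))) (.node (.node (.leaf (94, 7, 12)) (.leaf (46, 9, 43))) (.leaf (73, 10, 41))))) (.node (.node (.node (.node (.leaf (47, 0, 0)) (.leaf (144, 2, 94))) (.leaf (114, 2, 65))) (.node (.node (.leaf (33, 6, 62)) (.leaf (64, 6, 21))) (.leaf (125, 8, 87)))) (.node (.node (.node (.leaf (98, 0, 0)) (.leaf (99, 6, 61))) (.leaf (85, 8, 86))) (.node (.node (.leaf (86, 4, 89)) (.leaf (141, 8, 16))) (.leaf (77, 7, 107)))))) (.node (.node (.node (.node (.node (.leaf (28, 0, 0)) (.leaf (21, 3, 7))) (.node (.leaf (16, 1, 9)) (.leaf (62, 7, 8)))) (.node (.node (.leaf (96, 7, 70)) (.leaf (65, 4, 82))) (.leaf (17, 8, 89)))) (.node (.node (.node (.leaf (84, 0, 0)) (.leaf (34, 5, 74))) (.leaf (1, 8, 107))) (.node (.node (.leaf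 (61, 9, 45)) (.leaf (72, 5, 107))) (.leaf (5, 5, 16))))) (.node (.node (.node (.node (.leaf (14, 8, 60)) (.leaf (11, 4, 0))) (.leaf (124, 5, 39))) (.node (.node (.leaf (124, 7, 1)) (.leaf (41, 3, 35))) (.leaf (127, 3, 68)))) (.node (.node (.node (.leaf (32, 7, 74)) (.leaf (32, 1, 76))) (.leaf (96, 4, 91))) (.node (.node (.leaf (43, 7, 41)) (.leaf (116, 10, 53))) (.leaf (118, 4, 47))))))) (.node (.node (.node (.node (.node (.node (.leaf (16, 0, 0)) (.leaf (51, 10, 96))) (.node (.leaf (110, 1, 19)) (.leaf (121, 7, 11)))) (.node (.node (.leaf (18, 2, 0)) (.leaf (145, 5, 27))) (.leaf (63, 2, 0)))) (.node (.node (.node (.leaf (53, 9, 0)) (.leaf (77, 3, 14))) (.leaf (72, 1, 96))) (.node (.node (.leaf (73, 7, 39)) (.leaf (42, 1, 61))) (.leaf (56, 6, 109))))) (.node (.node (.node (.node (.leaf (58, 0, 0)) (.leaf (54, 6, 104))) (.leaf (70, 6, 55))) (.node (.node (.leaf (54, 4, 9)) (.leaf (105, 1, 70))) (.leaf (4, 1, 103)))) (.node (.node (.node (.leaf (90, 9, 34)) (.leaf (122, 10, 73))) (.leaf (124, 2, 75))) (.node (.node (.leaf (136, 9,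 108)) (.leaf (137, 7, 46))) (.leaf (51, 9, 93)))))) (.node (.node (.node (.node (.node (.leaf (17, 2, 80)) (.leaf (140, 3, 72))) (.node (.leaf (40, 2, 0)) (.leaf (13, 6, 78)))) (.node (.node (.leaf (10, 4, 90)) (.leaf (7, 3, 90))) (.leaf (92, 4, 17)))) (.node (.node (.node (.leaf (91, 0, 0)) (.leaf (1, 7, 60))) (.leaf (107, 1, 55))) (.node (.node (.leaf (85, 6, 31)) (.leaf (109, 3, 52))) (.leaf (124, 10, 22))))) (.node (.node (.node (.node (.leaf (68, 0, 0)) (.leaf (134, 4, 96))) (.leaf (123, 4, 57))) (.node (.node (.leaf (123, 10, 55)) (.leaf (102, 9, 25))) (.leaf (32, 8, 85)))) (.node (.node (.node (.leaf (109, 10, 89)) (.leaf (139, 3, 43))) (.leaf (9, 8, 7))) (.node (.node (.leaf (83, 9, 85)) (.leaf (78, 10, 81))) (.leaf (120, 3, 31))))))))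

def autCert3 : Tree (ℕ × ℕ × ℕ) :=
  (.node (.node (.node (.node (.node (.node (.node (.leaf (3, 0, 0)) (.leaf (105, 3, 76))) (.node (.leaf (137, 9, 93)) (.leaf (74, 1, 88)))) (.node (.node (.leaf (63, 4, 94)) (.leaf (142, 3, 24))) (.leaf (126, 3, 91)))) (.node (.node (.node (.leaf (75, 0, 0)) (.leaf (105, 4, 91))) (.leaf (92, 5, 43))) (.node (.node (.leaf (27, 2, 0)) (.leaf (19, 4, 0))) (.leaf (15, 3, 78))))) (.node (.node (.node (.node (.leaf (3, 2, 0)) (.leaf (4, 6, 16))) (.leaf (84, 10, 80))) (.node (.node (.leaf (22, 2, 0)) (.leaf (6, 6, 108))) (.leaf (22, 10, 87)))) (.node (.node (.node (.leaf (99, 0, 0)) (.leaf (79, 4, 64))) (.leaf (71, 9, 38))) (.node (.node (.leaf (123, 6, 69)) (.leaf (127, 2, 0))) (.leaf (59, 5, 18)))))) (.node (.node (.node (.node (.node (.leaf (29, 0, 0)) (.leaf (86, 10, 32))) (.node (.leaf (23, 5, 15)) (.leaf (47, 5, 43)))) (.node (.node (.leaf (4, 9, 45)) (.leaf (81, 7, 10))) (.leaf (80, 5, 12)))) (.node (.node (.node (.leaf (51, 8, 65)) (.leaf (27, 1, 85))) (.leaf (112, 10, 7))) (.node (.node (.leaf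 (1, 10, 107)) (.leaf (72, 8, 90))) (.leaf (109, 4, 29))))) (.node (.node (.node (.node (.leaf (8, 9, 102)) (.leaf (68, 10, 65))) (.leaf (128, 3, 44))) (.node (.node (.leaf (85, 2, 13)) (.leaf (38, 8, 40))) (.leaf (86, 7, 77)))) (.node (.node (.node (.leaf (106, 0, 0)) (.leaf (8, 10, 14))) (.leaf (93, 3, 6))) (.node (.node (.leaf (123, 1, 93)) (.leaf (99, 7, 68))) (.leaf (83, 10, 72))))))) (.node (.node (.node (.node (.node (.node (.leaf (2, 6, 3)) (.leaf (22, 1, 105))) (.node (.leaf (44, 2, 94)) (.leaf (27, 10, 19)))) (.node (.node (.leaf (115, 0, 0)) (.leaf (58, 3, 1))) (.leaf (15, 6, 84)))) (.node (.node (.node (.leaf (32, 2, 8)) (.leaf (127, 9, 86))) (.leaf (97, 5, 97))) (.node (.node (.leaf (30, 3, 91)) (.leaf (108, 8, 38))) (.leaf (80, 4, 45))))) (.node (.node (.node (.node (.leaf (4, 2, 0)) (.leaf (80, 6, 63))) (.leaf (21, 10, 105))) (.node (.node (.leaf (53, 6, 15)) (.leaf (65, 1, 38))) (.leaf (54, 10, 80)))) (.node (.node (.node (.leaf (101, 2, 48)) (.leaf (116, 1, 92))) (.leaf (27, 6, 19))) (.node (.node (.leaf (140, 0,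 0)) (.leaf (129, 6, 32))) (.leaf (99, 5, 99)))))) (.node (.node (.node (.node (.node (.leaf (37, 7, 34)) (.leaf (14, 5, 66))) (.node (.leaf (115, 4, 19)) (.leaf (62, 5, 36)))) (.node (.node (.leaf (74, 3, 58)) (.leaf (6, 3, 60))) (.leaf (37, 3, 64)))) (.node (.node (.node (.leaf (92, 0, 0)) (.leaf (135, 4, 87))) (.leaf (25, 3, 90))) (.node (.node (.leaf (131, 3, 35)) (.leaf (108, 10, 94))) (.leaf (143, 2, 21))))) (.node (.node (.node (.node (.leaf (4, 7, 45)) (.leaf (135, 3, 31))) (.leaf (55, 2, 73))) (.node (.node (.leaf (39, 4, 19)) (.leaf (112, 6, 70))) (.leaf (3, 3, 27)))) (.node (.node (.node (.leaf (16, 2, 0)) (.leaf (19, 8, 73))) (.leaf (41, 9, 45))) (.node (.node (.leaf (51, 3, 57)) (.leaf (64, 10, 86))) (.leaf (59, 8, 71))))))))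

def autCert4 : Tree (ℕ × ℕ × ℕ) :=
  (.node (.node (.node (.node (.node (.node (.node (.leaf (4, 0, 0)) (.leaf (78, 1, 47))) (.node (.leaf (48, 8, 58)) (.leaf (142, 6, 12)))) (.node (.node (.leaf (105, 2, 15)) (.leaf (130, 7, 90))) (.leaf (66, 8, 54)))) (.node (.node (.node (.leaf (8, 2, 0)) (.leaf (142, 7, 109))) (.leaf (128, 1, 59))) (.node (.node (.leaf (113, 10, 92)) (.leaf (47, 1, 9))) (.leaf (74, 5, 23))))) (.node (.node (.node (.node (.leaf (48, 0, 0)) (.leaf (71, 7, 53))) (.leaf (90, 5, 29))) (.node (.node (.leaf (123, 0, 0)) (.leaf (32, 6, 32))) (.leaf (102, 4, 86)))) (.node (.node (.node (.leaf (36, 2, 65)) (.leaf (90, 6, 40))) (.leaf (12, 3, 98))) (.node (.node (.leaf (45, 9, 38)) (.leaf (127, 8, 31))) (.leaf (28, 7, 51)))))) (.node (.node (.node (.node (.node (.leaf (13, 9, 0)) (.leaf (101, 1, 95))) (.node (.leaf (24, 6, 7)) (.leaf (132, 1, 41)))) (.node (.node (.leaf (12, 7, 65)) (.leaf (13, 3, 40))) (.leaf (126, 8, 64)))) (.node (.node (.node (.leaf (60, 9, 0)) (.leaf (125, 6, 87))) (.leaf (25, 9, 39))) (.node (.node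 (.leaf (26, 3, 8)) (.leaf (122, 3, 11))) (.leaf (110, 4, 95))))) (.node (.node (.node (.node (.leaf (39, 9, 0)) (.leaf (42, 3, 61))) (.leaf (130, 2, 60))) (.node (.node (.leaf (111, 6, 12)) (.leaf (135, 7, 53))) (.leaf (115, 2, 19)))) (.node (.node (.node (.leaf (97, 2, 38)) (.leaf (20, 3, 92))) (.leaf (143, 10, 0))) (.node (.node (.leaf (2, 9, 0)) (.leaf (79, 1, 57))) (.leaf (108, 1, 71))))))) (.node (.node (.node (.node (.node (.node (.leaf (17, 0, 0)) (.leaf (47, 10, 17))) (.node (.leaf (70, 4, 31)) (.leaf (46, 8, 35)))) (.node (.node (.leaf (116, 0, 0)) (.leaf (107, 5, 35))) (.leaf (59, 3, 82)))) (.node (.node (.node (.leaf (80, 0, 0)) (.leaf (37, 1, 64))) (.leaf (48, 2, 0))) (.node (.node (.leaf (36, 7, 39)) (.leaf (142, 4, 59))) (.leaf (42, 8, 77))))) (.node (.node (.node (.node (.leaf (22, 4, 25)) (.leaf (15, 1, 63))) (.leaf (60, 3, 63))) (.node (.node (.leaf (67, 3, 55)) (.leaf (68, 6, 105))) (.leaf (121, 5, 79)))) (.node (.node (.node (.leaf (21, 9, 45)) (.leaf (50, 1, 37))) (.leaf (129, 4, 15))) (.node (.node (.leaf (129,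 2, 28)) (.leaf (94, 6, 58))) (.leaf (38, 10, 96)))))) (.node (.node (.node (.node (.node (.leaf (19, 9, 0)) (.leaf (96, 2, 91))) (.node (.leaf (31, 8, 103)) (.leaf (35, 3, 0)))) (.node (.node (.leaf (20, 4, 19)) (.leaf (12, 5, 2))) (.leaf (9, 3, 25)))) (.node (.node (.node (.leaf (93, 0, 0)) (.leaf (85, 10, 103))) (.leaf (58, 4, 38))) (.node (.node (.leaf (64, 7, 40)) (.leaf (114, 5, 107))) (.leaf (68, 5, 33))))) (.node (.node (.node (.node (.leaf (7, 2, 0)) (.leaf (128, 5, 53))) (.leaf (112, 5, 40))) (.node (.node (.leaf (66, 10, 14)) (.leaf (53, 10, 85))) (.leaf (103, 2, 22)))) (.node (.node (.node (.leaf (39, 7, 0)) (.leaf (78, 9, 77))) (.leaf (58, 7, 103))) (.node (.node (.leaf (141, 0, 0)) (.leaf (111, 7, 71))) (.leaf (58, 5, 85))))))))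

def autCert5 : Tree (ℕ × ℕ × ℕ) :=
  (.node (.node (.node (.node (.node (.node (.node (.leaf (5, 0, 0)) (.leaf (95, 6, 8))) (.node (.leaf (44, 5, 53)) (.leaf (140, 8, 91)))) (.node (.node (.leaf (77, 9, 76)) (.leaf (104, 5, 68))) (.leaf (139, 8, 38)))) (.node (.node (.node (.leaf (30, 1, 10)) (.leaf (142, 9, 64))) (.leaf (135, 9, 0))) (.node (.node (.leaf (22, 5, 13)) (.leaf (40, 7, 79))) (.leaf (33, 10, 51))))) (.node (.node (.node (.node (.leaf (49, 0, 0)) (.leaf (83, 2, 0))) (.leaf (119, 6, 35))) (.node (.node (.leaf (124, 0, 0)) (.leaf (131, 4, 97))) (.leaf (140, 6, 101)))) (.node (.node (.node (.leaf (1, 6, 27)) (.leaf (127, 4, 57))) (.leaf (67, 7, 25))) (.node (.node (.leaf (93, 2, 5)) (.leaf (90, 1, 10))) (.leaf (139, 10, 25)))))) (.node (.node (.node (.node (.node (.leaf (30, 0, 0)) (.leaf (100, 6, 24))) (.node (.leaf (77, 4, 88)) (.leaf (97, 10, 15)))) (.node (.node (.leaf (28, 6, 52)) (.leaf (40, 3, 90))) (.leaf (125, 5, 60)))) (.node (.node (.node (.leaf (70, 3, 8)) (.leaf (10, 6, 54))) (.leaf (51, 2, 0))) (.node (.node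 (.leaf (8, 4, 104)) (.leaf (20, 6, 19))) (.leaf (58, 1, 96))))) (.node (.node (.node (.node (.leaf (30, 6, 26)) (.leaf (42, 5, 37))) (.leaf (39, 5, 69))) (.node (.node (.leaf (75, 8, 16)) (.leaf (123, 7, 16))) (.leaf (78, 3, 2)))) (.node (.node (.node (.leaf (15, 2, 0)) (.leaf (117, 8, 41))) (.leaf (101, 10, 39))) (.node (.node (.leaf (99, 2, 63)) (.leaf (62, 9, 52))) (.leaf (136, 2, 93))))))) (.node (.node (.node (.node (.node (.node (.leaf (18, 0, 0)) (.leaf (96, 1, 59))) (.node (.leaf (29, 7, 76)) (.leaf (114, 3, 6)))) (.node (.node (.leaf (44, 4, 24)) (.leaf (106, 10, 82))) (.leaf (29, 5, 6)))) (.node (.node (.node (.leaf (25, 10, 21)) (.leaf (24, 9, 19))) (.leaf (17, 6, 27))) (.node (.node (.leaf (137, 0, 0)) (.leaf (92, 6, 88))) (.leaf (137, 8, 40))))) (.node (.node (.node (.node (.leaf (59, 0, 0)) (.leaf (77, 1, 108))) (.leaf (92, 7, 99))) (.node (.node (.leaf (76, 9, 45)) (.leaf (53, 4, 35))) (.leaf (65, 6, 35)))) (.node (.node (.node (.leaf (104, 0, 0)) (.leaf (35, 10, 66))) (.leaf (57, 2, 0))) (.node (.node (.leaf (124,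 9, 91)) (.leaf (79, 8, 42))) (.leaf (35, 1, 40)))))) (.node (.node (.node (.node (.node (.leaf (24, 4, 7)) (.leaf (65, 9, 89))) (.node (.leaf (38, 4, 25)) (.leaf (137, 6, 71)))) (.node (.node (.leaf (87, 9, 0)) (.leaf (118, 2, 47))) (.leaf (47, 6, 13)))) (.node (.node (.node (.leaf (17, 3, 44)) (.leaf (134, 5, 41))) (.leaf (128, 9, 40))) (.node (.node (.leaf (65, 3, 35)) (.leaf (88, 5, 35))) (.leaf (8, 5, 6))))) (.node (.node (.node (.node (.leaf (69, 0, 0)) (.leaf (45, 6, 33))) (.leaf (110, 6, 53))) (.node (.node (.leaf (34, 3, 35)) (.leaf (41, 1, 86))) (.leaf (129, 5, 83)))) (.node (.node (.node (.leaf (55, 3, 107)) (.leaf (93, 10, 37))) (.leaf (41, 4, 6))) (.node (.node (.leaf (77, 5, 89)) (.leaf (61, 5, 99))) (.leaf (78, 2, 0))))))))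

def autCert6 : Tree (ℕ × ℕ × ℕ) :=
  (.node (.node (.node (.node (.node (.node (.node (.leaf (6, 0, 0)) (.leaf (144, 5, 99))) (.node (.leaf (39, 2, 0)) (.leaf (38, 9, 42)))) (.node (.node (.leaf (73, 1, 41)) (.leaf (142, 8, 43))) (.leaf (51, 5, 18)))) (.node (.node (.node (.leaf (76, 0, 0)) (.leaf (89, 9, 75))) (.leaf (117, 7, 27))) (.node (.node (.leaf (85, 5, 72)) (.leaf (57, 5, 96))) (.leaf (50, 8, 90))))) (.node (.node (.node (.node (.leaf (27, 9, 0)) (.leaf (97, 3, 77))) (.leaf (84, 9, 57))) (.node (.node (.leaf (125, 0, 0)) (.leaf (84, 8, 2))) (.leaf (11, 6, 36)))) (.node (.node (.node (.leaf (64, 5, 105)) (.leaf (51, 7, 101))) (.leaf (134, 10, 85))) (.node (.node (.leaf (79, 6, 99)) (.leaf (100, 8, 14))) (.leaf (30, 7, 86)))))) (.node (.node (.node (.node (.node (.leaf (31, 0, 0)) (.leaf (75, 10, 34))) (.node (.leaf (4, 3, 103)) (.leaf (122, 4, 73)))) (.node (.node (.leaf (119, 0, 0)) (.leaf (94, 5, 25))) (.leaf (142, 2, 60)))) (.node (.node (.node (.leaf (77, 10, 108)) (.leaf (16, 8, 29))) (.leaf (31, 10, 66))) (.node (.node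 (.leaf (103, 7, 25)) (.leaf (10, 5, 88))) (.leaf (130, 9, 90))))) (.node (.node (.node (.node (.leaf (64, 0, 0)) (.leaf (123, 3, 80))) (.leaf (5, 7, 16))) (.node (.node (.leaf (130, 0, 0)) (.leaf (109, 7, 38))) (.leaf (23, 7, 45)))) (.node (.node (.node (.leaf (107, 0, 0)) (.leaf (26, 7, 62))) (.leaf (28, 1, 18))) (.node (.node (.leaf (103, 5, 85)) (.leaf (130, 3, 78))) (.leaf (16, 6, 103))))))) (.node (.node (.node (.node (.node (.node (.leaf (7, 9, 0)) (.leaf (124, 6, 75))) (.node (.leaf (126, 9, 107)) (.leaf (120, 8, 26)))) (.node (.node (.leaf (58, 8, 53)) (.leaf (85, 1, 53))) (.leaf (133, 4, 86)))) (.node (.node (.node (.leaf (81, 0, 0)) (.leaf (17, 5, 44))) (.leaf (31, 1, 62))) (.node (.node (.leaf (29, 2, 0)) (.leaf (91, 7, 91))) (.leaf (46, 1, 94))))) (.node (.node (.node (.node (.leaf (60, 0, 0)) (.leaf (90, 3, 10))) (.leaf (43, 2, 38))) (.node (.node (.leaf (84, 2, 27)) (.leaf (84, 7, 95))) (.leaf (68, 1, 87)))) (.node (.node (.node (.leaf (74, 4, 80)) (.leaf (115, 8, 25))) (.leaf (106, 9, 59))) (.node (.node (.leaf (34,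 2, 0)) (.leaf (45, 4, 105))) (.leaf (145, 9, 0)))))) (.node (.node (.node (.node (.node (.leaf (40, 0, 0)) (.leaf (3, 5, 45))) (.node (.leaf (111, 2, 42)) (.leaf (4, 10, 86)))) (.node (.node (.leaf (59, 10, 24)) (.leaf (87, 6, 102))) (.leaf (104, 6, 89)))) (.node (.node (.node (.leaf (85, 4, 45)) (.leaf (98, 4, 91))) (.leaf (40, 8, 35))) (.node (.node (.leaf (95, 4, 1)) (.leaf (128, 2, 29))) (.leaf (72, 2, 0))))) (.node (.node (.node (.node (.leaf (58, 2, 77)) (.leaf (40, 5, 73))) (.leaf (45, 2, 0))) (.node (.node (.leaf (41, 10, 79)) (.leaf (114, 6, 73))) (.leaf (6, 4, 0)))) (.node (.node (.node (.leaf (29, 4, 86)) (.leaf (70, 10, 93))) (.leaf (20, 10, 96))) (.node (.node (.leaf (67, 2, 54)) (.leaf (107, 3, 35))) (.leaf (113, 4, 18))))))))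

def autCert7 : Tree (ℕ × ℕ × ℕ) :=
  (.node (.node (.node (.node (.node (.node (.node (.leaf (7, 0, 0)) (.leaf (79, 2, 0))) (.node (.leaf (60, 8, 89)) (.leaf (29, 10, 55)))) (.node (.node (.leaf (31, 5, 13)) (.leaf (116, 4, 42))) (.leaf (62, 2, 0)))) (.node (.node (.node (.leaf (77, 0, 0)) (.leaf (139, 5, 56))) (.leaf (55, 7, 83))) (.node (.node (.leaf (62, 6, 42)) (.leaf (60, 7, 12))) (.leaf (67, 9, 9))))) (.node (.node (.node (.node (.leaf (50, 0, 0)) (.leaf (14, 7, 43))) (.leaf (69, 1, 68))) (.node (.node (.leaf (33, 8, 50)) (.leaf (86, 5, 54))) (.leaf (29, 3, 29)))) (.node (.node (.node (.leaf (42, 2, 70)) (.leaf (56, 5, 47))) (.leaf (74, 9, 9))) (.node (.node (.leaf (108, 5, 99)) (.leaf (137, 3, 3))) (.leaf (144, 3, 13)))))) (.node (.node (.node (.node (.node (.leaf (32, 0, 0)) (.leaf (95, 1, 15))) (.node (.leaf (57, 1, 106)) (.leaf (87, 8, 94)))) (.node (.node (.leaf (61, 4, 7)) (.leaf (113, 5, 6))) (.leaf (52, 8, 33)))) (.node (.node (.node (.leaf (85, 0, 0)) (.leaf (34, 9, 38))) (.leaf (34, 8, 69))) (.node (.node (.leaf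 (30, 2, 0)) (.leaf (48, 10, 103))) (.leaf (84, 3, 55))))) (.node (.node (.node (.node (.leaf (65, 0, 0)) (.leaf (145, 6, 52))) (.leaf (20, 8, 59))) (.node (.node (.leaf (101, 9, 0)) (.leaf (12, 8, 7))) (.leaf (21, 8, 87)))) (.node (.node (.node (.leaf (57, 8, 46)) (.leaf (23, 4, 102))) (.leaf (110, 7, 80))) (.node (.node (.leaf (76, 7, 99)) (.leaf (49, 5, 35))) (.leaf (23, 6, 89))))))) (.node (.node (.node (.node (.node (.node (.leaf (19, 0, 0)) (.leaf (102, 3, 36))) (.node (.leaf (37, 9, 34)) (.leaf (140, 2, 0)))) (.node (.node (.leaf (117, 0, 0)) (.leaf (111, 1, 41))) (.leaf (121, 6, 76)))) (.node (.node (.node (.leaf (44, 6, 24)) (.leaf (133, 10, 75))) (.leaf (122, 2, 36))) (.node (.node (.leaf (138, 0, 0)) (.leaf (133, 5, 108))) (.leaf (99, 1, 72))))) (.node (.node (.node (.node (.leaf (61, 0, 0)) (.leaf (130, 4, 5))) (.leaf (93, 9, 55))) (.node (.node (.leaf (125, 4, 42)) (.leaf (46, 7, 79))) (.leaf (65, 2, 0)))) (.node (.node (.node (.leaf (35, 2, 99)) (.leaf (86, 3, 80))) (.leaf (8, 3, 37))) (.node (.node (.leaf (115, 10,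 70)) (.leaf (117, 9, 25))) (.leaf (89, 6, 2)))))) (.node (.node (.node (.node (.node (.leaf (2, 2, 0)) (.leaf (76, 5, 19))) (.node (.leaf (48, 1, 97)) (.leaf (86, 9, 0)))) (.node (.node (.leaf (48, 7, 90)) (.leaf (72, 6, 72))) (.leaf (126, 2, 23)))) (.node (.node (.node (.leaf (45, 5, 47)) (.leaf (66, 7, 14))) (.leaf (131, 1, 49))) (.node (.node (.leaf (54, 7, 104)) (.leaf (12, 10, 101))) (.leaf (91, 2, 22))))) (.node (.node (.node (.node (.leaf (12, 9, 45)) (.leaf (53, 1, 27))) (.leaf (90, 4, 101))) (.node (.node (.leaf (54, 2, 15)) (.leaf (119, 7, 64))) (.leaf (82, 4, 74)))) (.node (.node (.node (.leaf (89, 8, 12)) (.leaf (68, 3, 47))) (.leaf (70, 7, 6))) (.node (.node (.leaf (15, 8, 84)) (.leaf (23, 8, 45))) (.leaf (7, 7, 32))))))))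

def autCert8 : Tree (ℕ × ℕ × ℕ) :=
  (.node (.node (.node (.node (.node (.node (.node (.leaf (8, 0, 0)) (.leaf (132, 2, 103))) (.node (.leaf (16, 3, 11)) (.leaf (34, 6, 48)))) (.node (.node (.leaf (76, 6, 45)) (.leaf (76, 3, 28))) (.leaf (92, 10, 41)))) (.node (.node (.node (.leaf (16, 4, 103)) (.leaf (129, 8, 22))) (.leaf (3, 4, 0))) (.node (.node (.leaf (81, 4, 102)) (.leaf (136, 10, 12))) (.leaf (36, 8, 63))))) (.node (.node (.node (.node (.leaf (51, 0, 0)) (.leaf (134, 1, 106))) (.leaf (23, 1, 70))) (.node (.node (.leaf (55, 6, 43)) (.leaf (100, 1, 39))) (.leaf (97, 8, 15)))) (.node (.node (.node (.leaf (28, 4, 22)) (.leaf (83, 4, 60))) (.leaf (103, 9, 25))) (.node (.node (.leaf (117, 1, 95)) (.leaf (75, 5, 63))) (.leaf (128, 10, 59)))))) (.node (.node (.node (.node (.node (.leaf (33, 0, 0)) (.leaf (8, 1, 37))) (.node (.leaf (105, 5, 42)) (.leaf (136, 3, 58)))) (.node (.node (.leaf (23, 9, 65)) (.leaf (26, 10, 64))) (.leaf (118, 8, 56)))) (.node (.node (.node (.leaf (11, 2, 0)) (.leaf (54, 5, 50))) (.leaf (30, 5, 104))) (.node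 (.node (.leaf (90, 8, 85)) (.leaf (97, 9, 103))) (.leaf (120, 9, 50))))) (.node (.node (.node (.node (.leaf (1, 9, 90)) (.leaf (32, 3, 47))) (.leaf (97, 6, 31))) (.node (.node (.leaf (43, 4, 38)) (.leaf (77, 8, 95))) (.leaf (15, 7, 25)))) (.node (.node (.node (.leaf (72, 9, 0)) (.leaf (41, 5, 67))) (.leaf (52, 10, 91))) (.node (.node (.leaf (116, 2, 76)) (.leaf (129, 9, 15))) (.leaf (65, 8, 47))))))) (.node (.node (.node (.node (.node (.node (.leaf (20, 0, 0)) (.leaf (7, 10, 98))) (.node (.leaf (132, 3, 60)) (.leaf (14, 1, 86)))) (.node (.node (.leaf (41, 8, 82)) (.leaf (37, 8, 13))) (.leaf (107, 4, 83)))) (.node (.node (.node (.leaf (36, 6, 43)) (.leaf (94, 2, 0))) (.leaf (139, 9, 0))) (.node (.node (.leaf (119, 3, 61)) (.leaf (134, 3, 37))) (.leaf (36, 3, 73))))) (.node (.node (.node (.node (.leaf (16, 7, 38)) (.leaf (31, 6, 41))) (.leaf (107, 10, 96))) (.node (.node (.leaf (47, 2, 22)) (.leaf (138, 4, 14))) (.leaf (122, 5, 56)))) (.node (.node (.node (.leaf (105, 0, 0)) (.leaf (121, 8, 23))) (.leaf (24, 5, 21))) (.node (.node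 (.leaf (21, 1, 61)) (.leaf (47, 8, 109))) (.leaf (113, 9, 97)))))) (.node (.node (.node (.node (.node (.leaf (33, 4, 25)) (.leaf (135, 8, 97))) (.node (.leaf (39, 3, 87)) (.leaf (99, 8, 12)))) (.node (.node (.leaf (21, 2, 0)) (.leaf (75, 9, 29))) (.leaf (120, 1, 87)))) (.node (.node (.node (.leaf (94, 0, 0)) (.leaf (142, 1, 22))) (.leaf (53, 2, 0))) (.node (.node (.leaf (5, 4, 16)) (.leaf (87, 3, 31))) (.leaf (144, 10, 2))))) (.node (.node (.node (.node (.leaf (70, 0, 0)) (.leaf (100, 10, 84))) (.leaf (98, 6, 95))) (.node (.node (.leaf (104, 9, 0)) (.leaf (145, 7, 96))) (.leaf (61, 6, 83)))) (.node (.node (.node (.leaf (21, 5, 85)) (.leaf (81, 8, 2))) (.leaf (6, 1, 15))) (.node (.node (.leaf (98, 1, 18)) (.leaf (68, 9, 62))) (.leaf (89, 3, 70))))))))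

def autCert9 : Tree (ℕ × ℕ × ℕ) :=
  (.node (.node (.node (.node (.node (.node (.node (.leaf (9, 0, 0)) (.leaf (83, 8, 27))) (.node (.leaf (116, 5, 82)) (.leaf (118, 10, 46)))) (.node (.node (.leaf (86, 2, 92)) (.leaf (3, 10, 33))) (.leaf (127, 1, 91)))) (.node (.node (.node (.leaf (10, 7, 102)) (.leaf (118, 6, 82))) (.leaf (136, 6, 15))) (.node (.node (.leaf (50, 7, 62)) (.leaf (137, 2, 19))) (.leaf (119, 1, 24))))) (.node (.node (.node (.node (.leaf (52, 0, 0)) (.leaf (40, 9, 79))) (.leaf (42, 7, 56))) (.node (.node (.leaf (126, 0, 0)) (.leaf (8, 7, 0))) (.leaf (50, 4, 83)))) (.node (.node (.node (.leaf (100, 0, 0)) (.leaf (81, 6, 51))) (.leaf (7, 1, 98))) (.node (.node (.leaf (1, 4, 0)) (.leaf (102, 10, 22))) (.leaf (110, 5, 107)))))) (.node (.node (.node (.node (.node (.leaf (1, 2, 0)) (.leaf (37, 6, 74))) (.node (.leaf (118, 1, 100)) (.leaf (68, 8, 69)))) (.node (.node (.leaf (117, 4, 47)) (.leaf (99, 3, 99))) (.leaf (13, 7, 55)))) (.node (.node (.node (.leaf (86, 0, 0)) (.leaf (132, 4, 63))) (.leaf (52, 2, 0))) (.node (.node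 (.leaf (55, 1, 107)) (.leaf (29, 1, 20))) (.leaf (22, 8, 61))))) (.node (.node (.node (.node (.leaf (42, 4, 70)) (.leaf (124, 4, 13))) (.leaf (132, 9, 0))) (.node (.node (.leaf (57, 4, 30)) (.leaf (127, 7, 55))) (.leaf (39, 1, 87)))) (.node (.node (.node (.leaf (73, 9, 39)) (.leaf (52, 3, 26))) (.leaf (4, 4, 0))) (.node (.node (.leaf (94, 10, 98)) (.leaf (112, 1, 91))) (.leaf (87, 2, 14))))))) (.node (.node (.node (.node (.node (.node (.leaf (21, 0, 0)) (.leaf (91, 4, 6))) (.node (.leaf (40, 10, 94)) (.leaf (75, 6, 45)))) (.node (.node (.leaf (101, 8, 98)) (.leaf (6, 10, 99))) (.leaf (97, 1, 57)))) (.node (.node (.node (.leaf (82, 0, 0)) (.leaf (113, 7, 97))) (.leaf (34, 4, 7))) (.node (.node (.leaf (94, 1, 25)) (.leaf (134, 8, 100))) (.leaf (7, 4, 0))))) (.node (.node (.node (.node (.leaf (59, 2, 25)) (.leaf (118, 7, 102))) (.leaf (56, 8, 109))) (.node (.node (.leaf (103, 1, 102)) (.leaf (20, 5, 99))) (.leaf (109, 9, 67)))) (.node (.node (.node (.leaf (14, 2, 0)) (.leaf (113, 3, 42))) (.leaf (53, 5, 64))) (.node (.node (.leaf (14,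 10, 86)) (.leaf (121, 10, 77))) (.leaf (112, 8, 61)))))) (.node (.node (.node (.node (.node (.leaf (16, 9, 93)) (.leaf (9, 7, 25))) (.node (.leaf (17, 1, 92)) (.leaf (92, 1, 8)))) (.node (.node (.leaf (31, 9, 11)) (.leaf (62, 3, 60))) (.leaf (31, 3, 92)))) (.node (.node (.node (.leaf (95, 0, 0)) (.leaf (54, 8, 80))) (.leaf (141, 5, 22))) (.node (.node (.leaf (81, 1, 79)) (.leaf (83, 7, 12))) (.leaf (46, 4, 4))))) (.node (.node (.node (.node (.leaf (27, 7, 90)) (.leaf (133, 2, 65))) (.leaf (121, 9, 88))) (.node (.node (.leaf (132, 0, 0)) (.leaf (56, 1, 88))) (.leaf (131, 6, 10)))) (.node (.node (.node (.leaf (111, 0, 0)) (.leaf (60, 10, 19))) (.leaf (103, 3, 85))) (.node (.node (.leaf (138, 9, 106)) (.leaf (35, 5, 72))) (.leaf (87, 7, 52))))))))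

def autCert10 : Tree (ℕ × ℕ × ℕ) :=
  (.node (.node (.node (.node (.node (.node (.node (.leaf (10, 0, 0)) (.leaf (6, 7, 15))) (.node (.leaf (125, 1, 27)) (.leaf (82, 9, 29)))) (.node (.node (.leaf (64, 3, 40)) (.leaf (73, 3, 35))) (.leaf (98, 5, 32)))) (.node (.node (.node (.leaf (78, 0, 0)) (.leaf (78, 6, 5))) (.leaf (38, 5, 12))) (.node (.node (.leaf (134, 0, 0)) (.leaf (138, 2, 73))) (.leaf (126, 7, 76))))) (.node (.node (.node (.node (.leaf (28, 2, 107)) (.leaf (3, 1, 52))) (.leaf (60, 4, 104))) (.node (.node (.leaf (94, 9, 0)) (.leaf (82, 8, 57))) (.leaf (140, 1, 28)))) (.node (.node (.node (.leaf (101, 0, 0)) (.leaf (21, 6, 87))) (.leaf (44, 7, 25))) (.node (.node (.leaf (27, 8, 19)) (.leaf (136, 5, 2))) (.leaf (143, 3, 23)))))) (.node (.node (.node (.node (.node (.leaf (34, 0, 0)) (.leaf (48, 5, 62))) (.node (.leaf (128, 6, 29)) (.leaf (114, 8, 44)))) (.node (.node (.leaf (120, 0, 0)) (.leaf (93, 5, 28))) (.leaf (10, 3, 91)))) (.node (.node (.node (.leaf (67, 1, 68)) (.leaf (32, 5, 11))) (.leaf (21, 4, 43))) (.node (.node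 (.leaf (5, 6, 14)) (.leaf (114, 10, 44))) (.leaf (71, 2, 0))))) (.node (.node (.node (.node (.leaf (9, 9, 22)) (.leaf (71, 8, 75))) (.leaf (79, 10, 35))) (.node (.node (.leaf (22, 3, 80)) (.leaf (49, 1, 95))) (.leaf (33, 3, 17)))) (.node (.node (.node (.leaf (108, 0, 0)) (.leaf (59, 7, 77))) (.leaf (106, 8, 102))) (.node (.node (.leaf (40, 4, 45)) (.leaf (108, 3, 73))) (.leaf (75, 7, 37))))))) (.node (.node (.node (.node (.node (.node (.leaf (22, 0, 0)) (.leaf (95, 8, 31))) (.node (.leaf (123, 8, 45)) (.leaf (95, 7, 36)))) (.node (.node (.leaf (43, 9, 41)) (.leaf (24, 7, 62))) (.leaf (131, 9, 31)))) (.node (.node (.node (.leaf (55, 9, 0)) (.leaf (43, 6, 62))) (.leaf (50, 2, 0))) (.node (.node (.leaf (139, 0, 0)) (.leaf (35, 8, 7))) (.leaf (52, 1, 104))))) (.node (.node (.node (.node (.leaf (62, 0, 0)) (.leaf (37, 4, 79))) (.leaf (66, 9, 106))) (.node (.node (.leaf (129, 0, 0)) (.leaf (25, 6, 63))) (.leaf (128, 4, 29)))) (.node (.node (.node (.leaf (66, 4, 45)) (.leaf (100, 2, 0))) (.leaf (122, 1, 97))) (.node (.node (.leaf (33, 7,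 10)) (.leaf (56, 10, 69))) (.leaf (60, 1, 26)))))) (.node (.node (.node (.node (.node (.leaf (41, 0, 0)) (.leaf (105, 6, 21))) (.node (.leaf (48, 4, 35)) (.leaf (102, 6, 53)))) (.node (.node (.leaf (79, 9, 13)) (.leaf (29, 6, 86))) (.leaf (18, 1, 71)))) (.node (.node (.node (.leaf (54, 3, 50)) (.leaf (137, 5, 3))) (.leaf (61, 10, 102))) (.node (.node (.leaf (110, 10, 75)) (.leaf (125, 9, 100))) (.leaf (92, 9, 4))))) (.node (.node (.node (.node (.leaf (71, 0, 0)) (.leaf (89, 2, 0))) (.leaf (51, 6, 12))) (.node (.node (.leaf (112, 2, 59)) (.leaf (130, 1, 104))) (.leaf (2, 10, 96)))) (.node (.node (.node (.leaf (19, 7, 38)) (.leaf (66, 6, 45))) (.leaf (34, 10, 34))) (.node (.node (.leaf (117, 2, 47)) (.leaf (41, 6, 57))) (.leaf (104, 7, 13))))))))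

def autCert11 : Tree (ℕ × ℕ × ℕ) :=
  (.node (.node (.node (.node (.node (.node (.node (.leaf (11, 0, 0)) (.leaf (98, 2, 77))) (.node (.leaf (109, 8, 79)) (.leaf (14, 3, 19)))) (.node (.node (.leaf (12, 4, 38)) (.leaf (69, 8, 68))) (.leaf (90, 10, 40)))) (.node (.node (.node (.leaf (5, 3, 3)) (.leaf (63, 3, 8))) (.leaf (64, 2, 12))) (.node (.node (.leaf (16, 5, 75)) (.leaf (119, 2, 0))) (.leaf (28, 3, 28))))) (.node (.node (.node (.node (.leaf (53, 0, 0)) (.leaf (98, 10, 107))) (.leaf (41, 2, 0))) (.node (.node (.leaf (18, 8, 60)) (.leaf (143, 7, 80))) (.leaf (61, 8, 58)))) (.node (.node (.node (.leaf (15, 9, 38)) (.leaf (99, 10, 107))) (.leaf (126, 4, 74))) (.node (.node (.leaf (67, 6, 10)) (.leaf (88, 3, 80))) (.leaf (5, 1, 96)))))) (.node (.node (.node (.node (.node (.leaf (35, 0, 0)) (.leaf (98, 9, 95))) (.node (.leaf (142, 0, 0)) (.leaf (120, 5, 43)))) (.node (.node (.leaf (27, 3, 84)) (.leaf (45, 1, 65))) (.leaf (68, 7, 16)))) (.node (.node (.node (.leaf (87, 0, 0)) (.leaf (145, 2, 16))) (.leaf (65, 5, 59))) (.node (.node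 (.leaf (57, 3, 69)) (.leaf (71, 6, 89))) (.leaf (50, 5, 47))))) (.node (.node (.node (.node (.leaf (43, 1, 42)) (.leaf (59, 1, 82))) (.leaf (100, 7, 37))) (.node (.node (.leaf (80, 2, 78)) (.leaf (81, 3, 33))) (.leaf (62, 4, 20)))) (.node (.node (.node (.leaf (81, 9, 74)) (.leaf (128, 7, 109))) (.leaf (145, 4, 64))) (.node (.node (.leaf (25, 7, 48)) (.leaf (124, 3, 36))) (.leaf (98, 7, 76))))))) (.node (.node (.node (.node (.node (.node (.leaf (23, 0, 0)) (.leaf (144, 1, 109))) (.node (.leaf (59, 9, 45)) (.leaf (127, 10, 94)))) (.node (.node (.leaf (18, 3, 93)) (.leaf (133, 1, 27))) (.leaf (62, 1, 95)))) (.node (.node (.node (.leaf (82, 3, 53)) (.leaf (124, 8, 52))) (.leaf (90, 2, 101))) (.node (.node (.leaf (93, 4, 83)) (.leaf (105, 9, 30))) (.leaf (69, 2, 0))))) (.node (.node (.node (.node (.leaf (63, 0, 0)) (.leaf (39, 8, 95))) (.leaf (36, 10, 60))) (.node (.node (.leaf (6, 8, 77)) (.leaf (106, 5, 96))) (.leaf (85, 7, 31)))) (.node (.node (.node (.leaf (31, 7, 8)) (.leaf (67, 10, 68))) (.leaf (120, 4, 77))) (.node (.node (.leaf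 (25, 5, 71)) (.leaf (94, 8, 87))) (.leaf (133, 7, 33)))))) (.node (.node (.node (.node (.node (.leaf (42, 0, 0)) (.leaf (88, 9, 22))) (.node (.leaf (71, 10, 19)) (.leaf (52, 5, 15)))) (.node (.node (.leaf (30, 10, 100)) (.leaf (83, 3, 7))) (.leaf (89, 1, 80)))) (.node (.node (.node (.leaf (30, 8, 55)) (.leaf (7, 6, 28))) (.leaf (97, 4, 18))) (.node (.node (.leaf (17, 10, 49)) (.leaf (55, 8, 43))) (.leaf (32, 4, 7))))) (.node (.node (.node (.node (.leaf (41, 7, 45)) (.leaf (12, 6, 56))) (.leaf (63, 1, 67))) (.node (.node (.leaf (65, 7, 88)) (.leaf (13, 1, 49))) (.leaf (7, 8, 80)))) (.node (.node (.node (.leaf (2, 8, 3)) (.leaf (135, 2, 44))) (.leaf (59, 4, 25))) (.node (.node (.leaf (106, 2, 61)) (.leaf (95, 3, 52))) (.leaf (79, 5, 6))))))))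

def autCert12 : Tree (ℕ × ℕ × ℕ) :=
  (.node (.node (.node (.node (.node (.node (.node (.leaf (12, 0, 0)) (.leaf (38, 1, 108))) (.node (.leaf (69, 4, 6)) (.leaf (83, 6, 86)))) (.node (.node (.leaf (70, 2, 36)) (.leaf (49, 8, 6))) (.leaf (34, 1, 73)))) (.node (.node (.node (.leaf (50, 9, 0)) (.leaf (61, 3, 70))) (.leaf (2, 3, 64))) (.node (.node (.leaf (135, 0, 0)) (.leaf (145, 3, 30))) (.leaf (70, 5, 76))))) (.node (.node (.node (.node (.leaf (12, 2, 30)) (.leaf (89, 10, 91))) (.leaf (112, 9, 75))) (.node (.node (.leaf (127, 0, 0)) (.leaf (104, 4, 66))) (.leaf (26, 8, 0)))) (.node (.node (.node (.leaf (102, 0, 0)) (.leaf (132, 8, 51))) (.leaf (84, 6, 80))) (.node (.node (.leaf (104, 1, 10)) (.leaf (111, 9, 101))) (.leaf (50, 10, 77)))))) (.node (.node (.node (.node (.node (.leaf (2, 4, 3)) (.leaf (82, 2, 0))) (.node (.leaf (78, 5, 11)) (.leaf (56, 9, 32)))) (.node (.node (.leaf (119, 10, 62)) (.leaf (132, 7, 86))) (.leaf (122, 7, 62)))) (.node (.node (.node (.leaf (88, 0, 0)) (.leaf (35, 7, 23))) (.leaf (60, 6, 51))) (.node (.node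 (.leaf (134, 9, 44)) (.leaf (61, 1, 26))) (.leaf (73, 5, 35))))) (.node (.node (.node (.node (.leaf (66, 0, 0)) (.leaf (85, 3, 89))) (.leaf (76, 10, 1))) (.node (.node (.leaf (24, 2, 0)) (.leaf (19, 6, 15))) (.leaf (107, 2, 80)))) (.node (.node (.node (.leaf (94, 3, 25)) (.leaf (53, 3, 65))) (.leaf (106, 1, 81))) (.node (.node (.leaf (43, 10, 62)) (.leaf (143, 5, 77))) (.leaf (67, 4, 39))))))) (.node (.node (.node (.node (.node (.node (.leaf (14, 4, 53)) (.leaf (121, 3, 50))) (.node (.leaf (76, 2, 45)) (.leaf (141, 10, 34)))) (.node (.node (.leaf (82, 1, 53)) (.leaf (142, 10, 79))) (.leaf (75, 4, 45)))) (.node (.node (.node (.leaf (11, 10, 85)) (.leaf (88, 7, 35))) (.leaf (27, 5, 10))) (.node (.node (.leaf (19, 10, 68)) (.leaf (88, 10, 60))) (.leaf (78, 8, 70))))) (.node (.node (.node (.node (.leaf (36, 9, 0)) (.leaf (80, 10, 100))) (.leaf (26, 9, 4))) (.node (.node (.leaf (96, 5, 95)) (.leaf (136, 4, 91))) (.leaf (60, 5, 81)))) (.node (.node (.node (.leaf (92, 2, 76)) (.leaf (42, 9, 1))) (.leaf (89, 7, 59))) (.node (.node (.leaf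 (106, 3, 81)) (.leaf (8, 6, 78))) (.leaf (122, 9, 86)))))) (.node (.node (.node (.node (.node (.leaf (43, 0, 0)) (.leaf (73, 6, 81))) (.leaf (35, 9, 62))) (.node (.node (.leaf (107, 8, 37)) (.leaf (116, 3, 93))) (.leaf (138, 7, 0)))) (.node (.node (.node (.leaf (1, 5, 60)) (.leaf (93, 1, 3))) (.leaf (24, 3, 22))) (.node (.node (.leaf (88, 2, 29)) (.leaf (51, 4, 90))) (.leaf (115, 7, 44))))) (.node (.node (.node (.node (.leaf (72, 0, 0)) (.leaf (66, 3, 28))) (.leaf (130, 8, 12))) (.node (.node (.leaf (133, 0, 0)) (.leaf (63, 9, 89))) (.leaf (139, 6, 78)))) (.node (.node (.node (.leaf (71, 3, 29)) (.leaf (139, 7, 89))) (.leaf (140, 9, 67))) (.node (.node (.leaf (132, 10, 49)) (.leaf (130, 5, 90))) (.leaf (23, 10, 49))))))))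

def autCert13 : Tree (ℕ × ℕ × ℕ) :=
  (.node (.node (.node (.node (.node (.node (.node (.leaf (1, 3, 60)) (.leaf (114, 9, 23))) (.node (.leaf (82, 10, 2)) (.leaf (101, 6, 81)))) (.node (.node (.leaf (9, 4, 92)) (.leaf (108, 7, 35))) (.leaf (101, 3, 77)))) (.node (.node (.node (.leaf (56, 2, 2)) (.leaf (37, 5, 59))) (.leaf (119, 9, 10))) (.node (.node (.leaf (136, 0, 0)) (.leaf (145, 10, 30))) (.leaf (143, 9, 46))))) (.node (.node (.node (.node (.leaf (54, 0, 0)) (.leaf (48, 3, 62))) (.leaf (67, 5, 5))) (.node (.node (.leaf (128, 0, 0)) (.leaf (133, 6, 56))) (.leaf (138, 3, 70)))) (.node (.node (.node (.leaf (55, 10, 107)) (.leaf (44, 10, 47))) (.leaf (82, 7, 22))) (.node (.node (.leaf (98, 8, 60)) (.leaf (113, 1, 52))) (.leaf (100, 4, 55)))))) (.node (.node (.node (.node (.node (.leaf (36, 0, 0)) (.leaf (118, 5, 81))) (.node (.leaf (18, 6, 60)) (.leaf (105, 8, 29)))) (.node (.node (.leaf (20, 2, 0)) (.leaf (122, 6, 74))) (.leaf (52, 4, 48)))) (.node (.node (.node (.leaf (89, 0, 0)) (.leaf (124, 1, 77))) (.leaf (110, 8, 23))) (.node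 (.node (.leaf (29, 9, 38)) (.leaf (18, 7, 3))) (.leaf (86, 6, 86))))) (.node (.node (.node (.node (.leaf (6, 2, 0)) (.leaf (33, 9, 80))) (.leaf (69, 7, 25))) (.node (.node (.leaf (63, 8, 103)) (.leaf (95, 10, 15))) (.leaf (91, 6, 76)))) (.node (.node (.node (.leaf (109, 0, 0)) (.leaf (133, 8, 85))) (.leaf (5, 8, 106))) (.node (.node (.leaf (110, 9, 42)) (.leaf (91, 8, 21))) (.leaf (70, 8, 28))))))) (.node (.node (.node (.node (.node (.node (.leaf (11, 9, 0)) (.leaf (43, 5, 41))) (.node (.leaf (135, 1, 61)) (.leaf (91, 5, 94)))) (.node (.node (.leaf (38, 2, 25)) (.leaf (15, 10, 78))) (.leaf (78, 7, 24)))) (.node (.node (.node (.leaf (36, 5, 64)) (.leaf (116, 8, 101))) (.leaf (116, 6, 94))) (.node (.node (.leaf (47, 9, 39)) (.leaf (87, 10, 91))) (.leaf (20, 1, 48))))) (.node (.node (.node (.node (.leaf (62, 10, 95)) (.leaf (100, 3, 98))) (.leaf (112, 4, 102))) (.node (.node (.leaf (14, 6, 53)) (.leaf (114, 1, 42))) (.leaf (84, 5, 61)))) (.node (.node (.node (.leaf (26, 4, 37)) (.leaf (57, 7, 26))) (.leaf (126, 1, 80))) (.node (.node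 (.leaf (95, 5, 36)) (.leaf (13, 8, 98))) (.leaf (77, 2, 0)))))) (.node (.node (.node (.node (.node (.leaf (35, 4, 68)) (.leaf (138, 1, 108))) (.leaf (68, 4, 24))) (.node (.node (.leaf (122, 0, 0)) (.leaf (38, 3, 20))) (.leaf (131, 10, 75)))) (.node (.node (.node (.leaf (96, 0, 0)) (.leaf (58, 10, 54))) (.leaf (95, 2, 51))) (.node (.node (.leaf (22, 6, 48)) (.leaf (88, 1, 7))) (.leaf (57, 10, 105))))) (.node (.node (.node (.node (.leaf (73, 0, 0)) (.leaf (74, 6, 61))) (.leaf (141, 6, 95))) (.node (.node (.leaf (100, 9, 37)) (.leaf (131, 7, 86))) (.leaf (69, 10, 68)))) (.node (.node (.node (.leaf (33, 5, 47)) (.leaf (80, 7, 74))) (.leaf (126, 5, 83))) (.node (.node (.leaf (118, 9, 83)) (.leaf (97, 7, 2))) (.leaf (128, 8, 41))))))))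

def autCert14 : Tree (ℕ × ℕ × ℕ) :=
  (.node (.node (.node (.node (.node (.node (.node (.leaf (3, 9, 0)) (.leaf (103, 6, 78))) (.node (.leaf (69, 9, 74)) (.leaf (143, 4, 31)))) (.node (.node (.leaf (44, 3, 19)) (.leaf (69, 6, 75))) (.leaf (51, 1, 57)))) (.node (.node (.node (.leaf (79, 0, 0)) (.leaf (88, 4, 80))) (.leaf (91, 3, 10))) (.node (.node (.leaf (64, 4, 103)) (.leaf (117, 6, 47))) (.leaf (52, 9, 71))))) (.node (.node (.node (.node (.leaf (30, 9, 0)) (.leaf (28, 5, 30))) (.leaf (111, 4, 12))) (.node (.node (.leaf (104, 10, 29)) (.leaf (87, 1, 68))) (.leaf (56, 3, 47)))) (.node (.node (.node (.leaf (13, 2, 0)) (.leaf (141, 7, 11))) (.leaf (78, 4, 107))) (.node (.node (.leaf (112, 7, 107)) (.leaf (91, 1, 5))) (.leaf (5, 10, 10)))))) (.node (.node (.node (.node (.node (.leaf (21, 7, 40)) (.leaf (96, 9, 86))) (.node (.leaf (127, 5, 68)) (.leaf (91, 10, 21)))) (.node (.node (.leaf (63, 10, 48)) (.leaf (117, 5, 95))) (.leaf (111, 3, 40)))) (.node (.node (.node (.leaf (72, 7, 45)) (.leaf (36, 4, 61))) (.leaf (119, 8, 26))) (.node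 (.node (.leaf (96, 10, 11)) (.leaf (130, 6, 18))) (.leaf (106, 7, 69))))) (.node (.node (.node (.node (.leaf (11, 7, 103)) (.leaf (139, 2, 90))) (.leaf (9, 6, 46))) (.node (.node (.leaf (49, 2, 10)) (.leaf (70, 1, 101))) (.leaf (115, 3, 107)))) (.node (.node (.node (.leaf (110, 0, 0)) (.leaf (101, 4, 48))) (.leaf (137, 4, 48))) (.node (.node (.leaf (99, 9, 43)) (.leaf (82, 6, 39))) (.leaf (19, 5, 57))))))) (.node (.node (.node (.node (.node (.node (.leaf (24, 0, 0)) (.leaf (102, 5, 96))) (.node (.leaf (50, 3, 26)) (.leaf (9, 5, 102)))) (.node (.node (.leaf (73, 8, 41)) (.leaf (11, 8, 60))) (.leaf (108, 9, 44)))) (.node (.node (.node (.leaf (71, 5, 53)) (.leaf (131, 8, 75))) (.leaf (93, 7, 30))) (.node (.node (.leaf (109, 2, 79)) (.leaf (125, 10, 47))) (.leaf (81, 10, 2))))) (.node (.node (.node (.node (.leaf (52, 6, 33)) (.leaf (63, 5, 18))) (.leaf (137, 10, 40))) (.node (.node (.leaf (90, 7, 29)) (.leaf (26, 5, 10))) (.leaf (49, 6, 25)))) (.node (.node (.node (.leaf (5, 9, 45)) (.leaf (102, 2, 0))) (.leaf (136, 7, 108))) (.node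 (.node (.leaf (101, 5, 53)) (.leaf (102, 7, 78))) (.leaf (76, 1, 8)))))) (.node (.node (.node (.node (.node (.leaf (6, 9, 20)) (.leaf (9, 1, 15))) (.leaf (132, 6, 26))) (.node (.node (.leaf (40, 1, 94)) (.leaf (121, 2, 14))) (.leaf (12, 1, 98)))) (.node (.node (.node (.leaf (97, 0, 0)) (.leaf (42, 10, 103))) (.leaf (75, 1, 99))) (.node (.node (.leaf (20, 7, 30)) (.leaf (18, 10, 60))) (.leaf (138, 8, 13))))) (.node (.node (.node (.node (.leaf (42, 6, 42)) (.leaf (132, 5, 2))) (.leaf (46, 2, 0))) (.node (.node (.leaf (53, 7, 0)) (.leaf (84, 4, 20))) (.leaf (88, 6, 50)))) (.node (.node (.node (.leaf (54, 9, 104)) (.leaf (122, 8, 56))) (.leaf (102, 8, 103))) (.node (.node (.leaf (115, 5, 15)) (.leaf (84, 1, 12))) (.leaf (133, 3, 88))))))))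

def autCert15 : Tree (ℕ × ℕ × ℕ) :=
  (.node (.node (.node (.node (.node (.node (.node (.leaf (13, 0, 0)) (.leaf (110, 3, 75))) (.node (.leaf (17, 4, 80)) (.leaf (24, 8, 35)))) (.node (.node (.leaf (64, 1, 14)) (.leaf (144, 8, 2))) (.leaf (15, 5, 69)))) (.node (.node (.node (.leaf (56, 4, 76)) (.leaf (141, 9, 11))) (.leaf (119, 4, 4))) (.node (.node (.leaf (134, 6, 97)) (.leaf (26, 1, 46))) (.leaf (137, 1, 44))))) (.node (.node (.node (.node (.leaf (55, 0, 0)) (.leaf (71, 1, 49))) (.leaf (33, 1, 51))) (.node (.node (.leaf (23, 2, 0)) (.leaf (113, 2, 0))) (.leaf (9, 10, 87)))) (.node (.node (.node (.leaf (103, 0, 0)) (.leaf (49, 10, 74))) (.leaf (32, 9, 107))) (.node (.node (.leaf (136, 8, 98)) (.leaf (52, 7, 65))) (.leaf (80, 1, 29)))))) (.node (.node (.node (.node (.node (.leaf (37, 0, 0)) (.leaf (120, 2, 77))) (.node (.leaf (143, 0, 0)) (.leaf (74, 8, 83)))) (.node (.node (.leaf (121, 0, 0)) (.leaf (7, 5, 28))) (.leaf (100, 5, 47)))) (.node (.node (.node (.leaf (23, 3, 64)) (.leaf (136, 1, 68))) (.leaf (115, 9, 54))) (.node (.node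 (.leaf (45, 8, 29)) (.leaf (106, 6, 18))) (.leaf (140, 10, 108))))) (.node (.node (.node (.node (.leaf (67, 0, 0)) (.leaf (46, 5, 100))) (.leaf (123, 5, 22))) (.node (.node (.leaf (131, 0, 0)) (.leaf (64, 8, 10))) (.leaf (83, 1, 24)))) (.node (.node (.node (.leaf (22, 7, 86)) (.leaf (64, 9, 59))) (.leaf (11, 1, 106))) (.node (.node (.leaf (75, 3, 63)) (.leaf (102, 1, 6))) (.leaf (80, 8, 5))))))) (.node (.node (.node (.node (.node (.node (.leaf (25, 0, 0)) (.leaf (45, 10, 43))) (.node (.leaf (20, 9, 65)) (.leaf (105, 7, 33)))) (.node (.node (.leaf (26, 2, 98)) (.leaf (18, 4, 16))) (.leaf (66, 5, 28)))) (.node (.node (.node (.leaf (10, 2, 0)) (.leaf (57, 9, 19))) (.leaf (129, 7, 18))) (.node (.node (.leaf (116, 9, 6)) (.leaf (74, 10, 32))) (.leaf (129, 3, 5))))) (.node (.node (.node (.node (.leaf (10, 1, 91)) (.leaf (13, 4, 71))) (.leaf (49, 7, 29))) (.node (.node (.leaf (114, 4, 77)) (.leaf (67, 8, 36))) (.leaf (127, 6, 57)))) (.node (.node (.node (.leaf (8, 8, 55)) (.leaf (138, 10, 89))) (.leaf (140, 5, 72))) (.node (.node (.leaf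 (58, 6, 53)) (.leaf (49, 3, 78))) (.leaf (79, 7, 8)))))) (.node (.node (.node (.node (.node (.leaf (44, 0, 0)) (.leaf (81, 5, 94))) (.leaf (3, 8, 10))) (.node (.node (.leaf (82, 5, 27)) (.leaf (93, 6, 87))) (.leaf (121, 4, 36)))) (.node (.node (.node (.leaf (30, 4, 26)) (.leaf (123, 9, 74))) (.leaf (72, 4, 6))) (.node (.node (.leaf (33, 2, 0)) (.leaf (135, 6, 2))) (.leaf (59, 6, 13))))) (.node (.node (.node (.node (.leaf (44, 9, 0)) (.leaf (16, 10, 95))) (.leaf (117, 3, 90))) (.node (.node (.leaf (131, 2, 31)) (.leaf (118, 3, 10))) (.leaf (144, 9, 74)))) (.node (.node (.node (.leaf (112, 0, 0)) (.leaf (26, 6, 37))) (.leaf (85, 9, 31))) (.node (.node (.leaf (99, 4, 65)) (.leaf (120, 7, 36))) (.leaf (108, 6, 76))))))))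

def autCert : Tree (ℕ × ℕ × ℕ) :=
  (.node (.node (.node (.node autCert0 autCert8) (.node autCert4 autCert12)) (.node (.node autCert2 autCert10) (.node autCert6 autCert14))) (.node (.node (.node autCert1 autCert9) (.node autCert5 autCert13)) (.node (.node autCert3 autCert11) (.node autCert7 autCert15))))

def autExp0 : Tree (ℕ) :=
  (.node (.node (.node (.leaf 1) (.leaf 9)) (.node (.leaf 3) (.leaf 5))) (.node (.node (.leaf 5) (.leaf 1)) (.leaf 4)))

def autExp1 : Tree (ℕ) :=
  (.node (.node (.node (.leaf 6) (.leaf 10)) (.node (.leaf 7) (.leaf 8))) (.node (.node (.leaf 8) (.leaf 6)) (.leaf 2)))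

def autExp2 : Tree (ℕ) :=
  (.node (.node (.node (.leaf 3) (.leaf 5)) (.node (.leaf 9) (.leaf 4))) (.node (.node (.leaf 4) (.leaf 3)) (.leaf 1)))

def autExp3 : Tree (ℕ) :=
  (.node (.node (.node (.leaf 7) (.leaf 8)) (.node (.leaf 10) (.leaf 2))) (.node (.node (.leaf 2) (.leaf 7)) (.leaf 6)))

def autExp4 : Tree (ℕ) :=
  (.node (.node (.node (.leaf 9) (.leaf 4)) (.node (.leaf 5) (.leaf 1))) (.node (.node (.leaf 1) (.leaf 9)) (.leaf 3)))

def autExp5 : Tree (ℕ) :=
  (.node (.node (.node (.leaf 10) (.leaf 2)) (.node (.leaf 8) (.leaf 6))) (.node (.node (.leaf 6) (.leaf 10)) (.leaf 7)))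

def autExp6 : Tree (ℕ) :=
  (.node (.node (.node (.leaf 5) (.leaf 1)) (.node (.leaf 4) (.leaf 3))) (.node (.node (.leaf 3) (.leaf 5)) (.leaf 9)))

def autExp7 : Tree (ℕ) :=
  (.node (.node (.node (.leaf 8) (.leaf 6)) (.node (.leaf 2) (.leaf 7))) (.node (.node (.leaf 7) (.leaf 8)) (.leaf 10)))

def autExp8 : Tree (ℕ) :=
  (.node (.node (.node (.leaf 4) (.leaf 3)) (.node (.leaf 1) (.leaf 9))) (.node (.node (.leaf 9) (.leaf 4)) (.leaf 5)))

def autExp9 : Tree (ℕ) :=
  (.node (.node (.node (.leaf 2) (.leaf 7)) (.node (.leaf 6) (.leaf 10))) (.node (.node (.leaf 10) (.leaf 2)) (.leaf 8)))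

def autExp10 : Tree (ℕ) :=
  (.node (.node (.node (.leaf 1) (.leaf 9)) (.node (.leaf 3) (.leaf 5))) (.node (.node (.leaf 5) (.leaf 1)) (.leaf 4)))

def autExp11 : Tree (ℕ) :=
  (.node (.node (.node (.leaf 6) (.leaf 10)) (.node (.leaf 7) (.leaf 8))) (.node (.node (.leaf 8) (.leaf 6)) (.leaf 2)))

def autExp12 : Tree (ℕ) :=
  (.node (.node (.node (.leaf 3) (.leaf 5)) (.node (.leaf 9) (.leaf 4))) (.node (.node (.leaf 4) (.leaf 3)) (.leaf 1)))

def autExp13 : Tree (ℕ) :=
  (.node (.node (.node (.leaf 7) (.leaf 8)) (.node (.leaf 10) (.leaf 2))) (.node (.node (.leaf 2) (.leaf 7)) (.leaf 6)))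

def autExp14 : Tree (ℕ) :=
  (.node (.node (.node (.leaf 9) (.leaf 4)) (.leaf 5)) (.node (.node (.leaf 1) (.leaf 9)) (.leaf 3)))

def autExp15 : Tree (ℕ) :=
  (.node (.node (.node (.leaf 10) (.leaf 2)) (.leaf 8)) (.node (.node (.leaf 6) (.leaf 10)) (.leaf 7)))

def autExp : Tree (ℕ) :=
  (.node (.node (.node (.node autExp0 autExp8) (.node autExp4 autExp12)) (.node (.node autExp2 autExp10) (.node autExp6 autExp14))) (.node (.node (.node autExp1 autExp9) (.node autExp5 autExp13)) (.node (.node autExp3 autExp11) (.node autExp7 autExp15))))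

def zPow : List (M7) := [⟨1, 4096, 16777216, 68719476736, 281474976710656, 1152921504606846976, 4722366482869645213696⟩, ⟨33065791567011678015491, 2306968977991016455, 42511676047293042167809, 47235194606898649268227, 42501300598313815412740, 33064638082969401073664, 42501299753889053028356⟩, ⟨33068097410020891688963, 14167101700683778261000, 33068096284189771440128, 33063485723865092468738, 28342271318624829472776, 14177475742700287328260, 14176325354470336643080⟩, ⟨47227125282197605490689, 4725825810951995162626, 47231737249828448530440, 9444733810714043490310, 9453958589850971029513, 28345729801663606190082, 14178631478954527059971⟩, ⟨4733898513284056776706, 37790461641571809906696, 37789308719586116382721, 23615292868399168757763, 9451652184235283869701, 9455110948543080173577, 9445887857912415543298⟩, ⟨37783543830588071886855, 9452803979427784441859, 14176325072445620895754, 9455112074442970247170, 28343424802804394397699, 42504758799740411342853, 47234043937606206529541⟩, ⟨23617597866433797173255, 47231737812709716017156,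 14178628664204776734724, 42510522844175885414402, 47230584891686212608001, 42504759362759050686468, 47234042811225263317000⟩, ⟨9455110666861810843650, 28335353789184804409352, 23622208989639643009030, 23618752477337885904905, 33063484598377368264714, 4732744465467276566538, 9447039372042189176833⟩, ⟨14169407825305390817281, 33064636956657227694090, 3461016588545712130, 37788156361443746287618, 47230584609730182782982, 47235196295542451744771, 14174017540724136873994⟩, ⟨37783545800912841768963, 18898691555521441333248, 9225343049054326790, 37788157486793880518658, 42501300316838939361290, 37789310127235944939530, 14170559902453770235911⟩, ⟨18889467057584662933507, 14178631197479701323781, 47228276514783733256198, 47232891015689366671362, 23621058038322417385482, 8070451219593699336, 42509371330321191010311⟩]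

def autC : M7 := ⟨5767422960046456841, 37790461641365584359431, 9449344933851203399680, 42507065205699561656329, 47225971516199449669642, 9226186786772893705, 33065791004199230636039⟩

def autWordX : List Bool := [true, true, true, false, false, false, true, true, true, false, false, false, true, true, true, false, false, false]

def autWordY : List Bool := [false, true, true, false, false, true, true, true, false, false, false, true, true, true, true, true, true, true]

def fourPairs : List (ℕ × ℕ) := [(86, 354), (82, 543), (62, 1026), (85, 1307)]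

end Cfsg.Agent.Lie.Janko
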