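import Cfsg.Agent.Lib.Lie.JankoDefs
import Cfsg.Agent.Lib.Lie.JankoAutoData

/-!
Kernel checks for the automorphisms and the Sylow 2-normaliser of the Janko group of order 175560.
-/

set_option autoImplicit false
set_option maxRecDepth 100000
set_option maxHeartbeats 0

namespace Cfsg.Agent.Lie.Janko

/-- The element of order eleven. -/
def zMat : M7 := borel.get 10

/-- Powers of it. -/
def zP (n : ℕ) : M7 := zPow.getD n M7.one

/-- The orbit certificate. -/
def certCheck (i : ℕ) : Bool :=
  ((reps.get (autQs.get (autCert.get i).1)).mul (zP (autCert.get i).2.1)).beq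
      ((borel.get (autCert.get i).2.2).mul (reps.get i)) &&
    (Nat.blt (autCert.get i).1 146 && (Nat.blt (autCert.get i).2.1 11 && Nat.blt (autCert.get i).2.2 110))

/-- The group of order 110 normalises the subgroup of order 11. -/
def expCheck (k : ℕ) : Bool :=
  (zMat.mul (borel.get k)).beq ((borel.get k).mul (zP (autExp.get k))) && Nat.blt (autExp.get k) 11

/-- The inverses of the orbit representatives. -/
def qCheck (q : ℕ) : Bool :=
  ((reps.get (autQs.get q)).mul (autQsInv.get q)).beq M7.one &&
    (((autQsInv.get q).mul (reps.get (autQs.get q))).beq M7.one &&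
      (Nat.blt (autQs.get q) 1596 && (autQsInv.get q).goodB))

/-- A candidate image. -/
def autCand (q m : ℕ) : M7 := ((autQsInv.get q).mul (zP m)).mul (reps.get (autQs.get q))

/-- One relation. -/
def wordTest (d : M7) (p : ℕ × ℕ) : Bool := ((zMat.mul (d.pow p.1)).pow p.2).beq M7.one

/-- The relations satisfied by the second generator. -/
def autRels : List (ℕ × ℕ) := [(1, 3), (2, 3), (3, 11), (4, 5)]

/-- Only one candidate satisfies all relations. -/
def filterCheck (j : ℕ) : Bool :=
  (Nat.beq (j / 10) 1 && Nat.beq (j % 10) 0) || !(autRels.all (wordTest (autCand (j / 10) (j % 10 + 1))))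

/-- Evaluation of a word in the two generators. -/
def evalWord (w : List Bool) : M7 := w.foldl (fun g b => g.mul (if b then autC else zMat)) M7.one

theorem cert_ok : (List.range 1596).all certCheck = true := by decide +kernel

theorem exp_ok : (List.range 110).all expCheck = true := by decide +kernel

theorem exp_all : ((List.range 10).all fun m => (List.range 110).any fun k => Nat.beq (autExp.get k) (m + 1)) = true := by
  decide +kernel

theorem q_ok : (List.range 146).all qCheck = true := by decide +kernel

theorem zP_ok : ((List.range 11).all fun n => (zP n).beq (zMat.pow n)) = true ∧ (zMat.pow 11).beq M7.one = true ∧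
    zMat.beq M7.one = false ∧ (autCand 1 1).beq autC = true ∧ autRels.all (wordTest autC) = true ∧
    (evalWord autWordX).beq xMat = true ∧ (evalWord autWordY).beq yMat = true := by
  decide +kernel

theorem filter_ok : (List.range 1460).all filterCheck = true := by decide +kernel

/-- The four elements: three commuting involutions and an element permuting them. -/
def fourMat (n : ℕ) : M7 :=
  (borel.get (fourPairs.getD n (0, 0)).1).mul (reps.get (fourPairs.getD n (0, 0)).2)

/-- The eight products. -/
def eight : List M7 :=
  [M7.one, fourMat 0, fourMat 1, fourMat 2, (fourMat 0).mul (fourMat 1), (fourMat 0).mul (fourMat 2),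
    (fourMat 1).mul (fourMat 2), ((fourMat 0).mul (fourMat 1)).mul (fourMat 2)]

theorem four_ok : (((List.range 4).all fun n => Nat.blt (fourPairs.getD n (0, 0)).1 110 &&
      Nat.blt (fourPairs.getD n (0, 0)).2 1596) &&
    ((List.range 3).all fun n => ((fourMat n).mul (fourMat n)).beq M7.one &&
      ((List.range 3).all fun m => ((fourMat n).mul (fourMat m)).beq ((fourMat m).mul (fourMat n)))) &&
    ((fourMat 3).mul (fourMat 0)).beq ((fourMat 1).mul (fourMat 3)) &&
    ((fourMat 3).mul (fourMat 1)).beq ((fourMat 2).mul (fourMat 3)) &&
    ((fourMat 3).mul (fourMat 2)).beq (((fourMat 0).mul (fourMat 1)).mul (fourMat 3)) &&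
    ((List.range 8).all fun a => (List.range 8).all fun b =>
      Nat.beq a b || !((eight.getD a M7.one).beq (eight.getD b M7.one)))) = true := by
  decide +kernel

end Cfsg.Agent.Lie.Janko
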