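import Cfsg.Agent.Lib.Lie.JankoPack

/-!
Certificate data for the Janko group of order 175560 (generated).
-/

set_option autoImplicit false
set_option maxRecDepth 100000
set_option maxHeartbeats 0

namespace Cfsg.Agent.Lie.Janko

def reps0 : Tree (M7) :=
  (.node (.node (.node (.node (.node (.node (.node (.leaf ⟨1, 4096, 16777216, 68719476736, 281474976710656, 1152921504606846976, 4722366482869645213696⟩) (.leaf ⟨9450499262387113177098, 33058872912015393841161, 47234042529750269829125, 28336506710895552892933, 14178628945473729204226, 28337660195143971508226, 37782393161089537810441⟩)) (.node (.leaf ⟨28339965475271917735939, 47225972079424280985605, 3459327601229733890, 28337658506156655546375, 9445887576643580473350, 28339964349646939131911, 14175170180753733492740⟩) (.leaf ⟨33065791004405389066244, 37790461641296864903172, 42507065205355964309506, 3459045988830822409, 6917811189946793993, 9449344933370167050240, 4732745028279690342410⟩))) (.node (.node (.leaf ⟨33064636675319723479045, 9448192856565452120066, 33060024144601437728778, 23611834103198153474053, 18890618853533077762055, 37783545238100478291974,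 23616445508428765356034⟩) (.leaf ⟨33065790723067717103619, 14170559339160202645509, 14167100574715051249665, 42503604470379884609541, 9451651339329317404681, 33058872349546560634884, 14171713668314503839752⟩)) (.leaf ⟨2307250384097247239, 37778931863644390064128, 8071013482201350150, 14167099448677789343744, 42501298346514052055040, 47223664829246224769024, 6919499352478056457⟩))) (.node (.node (.node (.leaf ⟨47230583202836251672583, 28345728112951184859143, 33064638082900748697606, 42501300598176510656515, 37789310408298504159235, 47235194607104790900743, 9224498555371159555⟩) (.leaf ⟨14178630634460994871300, 9447041061098191093767, 14176323102189620822023, 9456264433203798888456, 23614138257563648540681, 9450497855081033007111, 47235194888579918602241⟩)) (.leaf ⟨9453956338051073454083, 47234042529612847661066, 14171713668451959582720, 23615293993749252698113, 4722369297825721774085, 33060025270707536547847, 3459609144976244745⟩)) (.node (.node (.leaf ⟨14170560465541095489543, 37787005128926522531840, 14170558213672629473283, 4611967837051817986, 9449346059201320849411, 14174018948442500395011,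 18898689866465523281928⟩) (.leaf ⟨37787002595101875675143, 23617598992402423517192, 47234042811500225101829, 9225905930137243650, 23615292023287127773188, 9456263588366468022278, 23617597866777344249860⟩)) (.leaf ⟨18896384024143454035977, 9455110104392910528520, 28338812835242287599621, 28344575754327845543938, 4728131653411503374346, 42507063234962290388995, 28335353507984688824322⟩)))) (.node (.node (.node (.node (.leaf ⟨3460735526020063238, 14170560464922620227586, 9444734936751422844938, 37789309282742144335873, 14170559620772584763396, 14175172151078436220931, 18898690148490272604160⟩) (.leaf ⟨3460453638659403784, 37788156361168801259526, 18895231947063810875397, 23621057757122368925696, 18896385149699763474436, 23618752758469349101575, 14170559620910006951944⟩)) (.leaf ⟨14171711416239778693129, 28338810864848882106371, 33064638645369682534402, 9453957182888437878787, 37778934115238129188865, 4725827780933234753541, 23623363881812633853954⟩)) (.node (.node (.leaf ⟨33057720553941743173633, 9453957745700818141184, 4729284293990755110915, 33065791285880349011976, 37789310690391905820680, 18896384023662417707018,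 33061177910805919703044⟩) (.leaf ⟨2814887340277768, 33058871223096730214400, 282024766078979, 2814956059754505, 2251868700934154, 28342269347750119247872, 9450497573262324690944⟩)) (.leaf ⟨37787004565976569110534, 47234043655856351903746, 33066941674178750709762, 18891771774900279185411, 33056567913843360014338, 37790463892890570461187, 4612812124626907146⟩))) (.node (.node (.node (.leaf ⟨47234042811087908270090, 14171711698127206514688, 28343425084622968483850, 47223667643996126081030, 33060026115132382797831, 9224217011607863298, 9453956338051157360643⟩) (.leaf ⟨14177476586850205323273, 23622210678764330831882, 47232889608520557666308, 42501300035020365275144, 23622209552589613191175, 37780087317874148900865, 33068094877089631600643⟩)) (.leaf ⟨33062330550972921712641, 47225973205117979086850, 28336505303245875335173, 14177478556968900632581, 28337658506225492434946, 37790461922565750296581, 9448193137834253656068⟩)) (.node (.node (.leaf ⟨42509370204146406264838, 18889468183690795286533, 9449346341157434585092, 14178629789554978074631, 18898691837271413379081, 42505912002582488825864, 28337659632056696569863⟩)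 (.leaf ⟨14178631197548420792330, 33068097410364539416579, 14177477994225088880649, 23622209834339484590090, 4725826655101997031431, 9444734655001568256003, 23622210959964446416903⟩)) (.leaf ⟨4612530649532731395, 42512830375691412332546, 23621058320347116347401, 42509369640852821929988, 18899843914007341727747, 37787004846901689331719, 37787004847107965214728⟩))))) (.node (.node (.node (.node (.node (.leaf ⟨14169407262355470942218, 37788156924325030559751, 37783544394018994552840, 18898690148490272604160, 3460735526020063238, 37788156079419080851465, 9444734936751422844938⟩) (.leaf ⟨37790462767334177120262, 9447039090635814481921, 23614138820376196562949, 14177476586712934141954, 42507063516918303465477, 47225971516474344353794, 42507065487036965216263⟩)) (.node (.leaf ⟨4724672325878892494852, 47234043936987731222535, 47223665391783995523079, 14178628945198834552840, 37787003439664362172416, 9452805105327640940552, 14169406136661588332545⟩) (.leaf ⟨18891774308174918623239, 9452803416546449833984, 4614219911760199680, 33068095721720703381511, 9456263306822788620292, 33063484880127340355586, 10376294022615416834⟩)))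 (.node (.node (.leaf ⟨28342271318281232068611, 37781237706516181581828, 14176325354126739271683, 33068097410501928026120, 14167101700889936670723, 18890620260564246470656, 18895230820476608589826⟩) (.leaf ⟨37783544394087714029569, 14169407825442762678272, 9445888702406132277256, 33061179599587026964488, 9453959153144488271875, 14175171306859714846730, 18894080432727962693636⟩)) (.leaf ⟨37782393161089537810441, 9450499262387113177098, 33058872912015393841161, 47234042529750269829125, 28336506710895552892933, 14178628945473729204226, 28337660195143971508226⟩))) (.node (.node (.node (.leaf ⟨37788158050293707218946, 42504757954834327408641, 47225972924055403134986, 47235194607242364100616, 37790463892890570489866, 4725825528927312949251, 14168253214607208910851⟩) (.leaf ⟨14176324510182946148359, 28337658225162849366022, 23618752758331943682053, 18897537789660674138120, 42503604188904790429705, 18899843069651198189569, 18889467338990953701384⟩)) (.leaf ⟨23612987587790203019267, 42508218690154121953282, 9453957463744805076992, 37784697596448855822336, 9452804542240164712457, 14169406136592852099082,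 47227123593760145948676⟩)) (.node (.node (.leaf ⟨47232888482895629398024, 37790461923115371892744, 37788155517018765791234, 9453957182888320438282, 47225971516680368566282, 47235196577567117152264, 37790461359615696187402⟩) (.leaf ⟨42507065768237198245891, 28338811427867555012613, 28335353226509829566466, 23614138820444916064265, 33062330550629307539458, 4728133623736222887946, 42503605033329703804931⟩)) (.leaf ⟨9450500106537165402116, 4723522219330261491721, 18891774307968877621256, 14169405573299435507717, 18891773464024933498888, 18898692118746306199561, 33065791003993072218112⟩)))) (.node (.node (.node (.node (.leaf ⟨9451651339810370498561, 4732744465604681957384, 23623364163012715880450, 42510522000025933848586, 9448193982190464274441, 9449347185376273391621, 23618750506806940803073⟩) (.leaf ⟨23614138820444848939017, 42510523125376034545665, 28336506429764240699394, 47230583483830309507080, 42512829250409980760073, 9447041623841986076677, 42504759644302713327619⟩)) (.leaf ⟨6917529302653227013, 47223665673327607824391, 18896384587024721534984, 33063483191208693501958, 18898691273977812246532,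 37787003721139322130441, 14167099449021369982983⟩)) (.node (.node (.leaf ⟨28344577161427867963393, 28342269347956361551872, 33066943644297462829060, 18898689585471448707080, 42505912284263640764421, 37789309282879667200004, 18895232791076306685952⟩) (.leaf ⟨4731590981287443202052, 33064637801494457884678, 33057719990785664913410, 18897537789866799013893, 14174019511529959878665, 14167100574783720415233, 2252143511760901⟩)) (.leaf ⟨3460172163598815233, 47227126127034869223425, 14172866871088046436357, 10378545616170029056, 42503605315217131569154, 33057719146017187708932, 42503605878373209874440⟩))) (.node (.node (.node (.leaf ⟨37787005128926522531840, 14170558213672629473283, 8073265694466154505, 9449346059201320849411, 37784697596655114928136, 33060026677876177797123, 37788156079556519788548⟩) (.leaf ⟨18889467338922318102532, 33056566224787492319236, 28341118960138895495173, 9449346622220044099586, 23618751069619371376648, 14172864619425638150148, 33060026678219842273285⟩)) (.leaf ⟨14174017259386582368261, 23617599555833362927625, 42508217282847974629378, 4730438622595434713090, 47235194607104841256961,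 4732745309823420104707, 9455109822574353190915⟩)) (.node (.node (.leaf ⟨47234043656062594195462, 28341116989470377271297, 9456263588572710322182, 37780087318080206704642, 37782390909564518162436, 42503605877754751373314, 42512828124029004062726⟩) (.leaf ⟨42501300597832913285128, 37789310408298504138760, 47235194607036071444484, 3460735457183170563, 4728133342879838896135, 28345728112332709597188, 18894078462403025076230⟩)) (.leaf ⟨42509370767302417473545, 33056566788149729034247, 23618751914044301508616, 18889466776384715108359, 14172866589750424780804, 28341116989814008225797, 33060024707894954979333⟩)))))) (.node (.node (.node (.node (.node (.node (.leaf ⟨47225972924055403134986, 47235194607242364100616, 14168252652207044833281, 4725825528927312949251, 37790463330490406412296, 14170558494803908104201, 9453958590263287914506⟩) (.leaf ⟨42511677454186906124296, 14167100012177481818115, 28343423395360892002305, 37783545519437932154886, 4724674578365934481415, 18898692118402775928838, 28341117270670543163401⟩)) (.node (.leaf ⟨18897536945167041306626, 28338811990611182256133, 23614139665213477109763,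 14177477150006384283655, 5764889547766775812, 3459891100972498951, 28344577724515176435718⟩) (.leaf ⟨37783544112269223804932, 1689124754976771, 9224216942938714122, 23612985899146534735876, 18895232509945078358019, 28334200023324037238784, 23616444663797743890439⟩))) (.node (.node (.leaf ⟨28342272163118529380355, 18897539196760629452809, 42510522562975803379720, 14167101700889852788746, 4731590418337590423557, 23612986180415252369410, 37783543830588004761602⟩) (.leaf ⟨4724672607353969856516, 47223665391783995523079, 14178628945198834552840, 14171713105433253150720, 9452805105327640940552, 37789310408436026990602, 47234041122238064766983⟩)) (.leaf ⟨23623362473956663648261, 9444735780695232778242, 5765171022894477316, 14177476868737549230085, 33063484879783625523207, 42510523969938521067527, 14174019792729974784003⟩))) (.node (.node (.node (.leaf ⟨18890619134595687251971, 14167101700889936670723, 33068096284533368852480, 33063485723865092489225, 23616445226816383254536, 37781237706516181581828, 14176325354126739271683⟩) (.leaf ⟨9223653511982497801, 18898690148421569871879, 5764889066780770313,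 37780085347824139534340, 9452803698365141368832, 9450498417893564223497, 47234041966731613732865⟩)) (.leaf ⟨33068094595271057510404, 37782393442289485643785, 9225342636636807171, 37781239676703579590657, 4725825810539728609285, 18890619415933141131272, 33068097129095570141190⟩)) (.node (.node (.leaf ⟨37781237706172584177671, 14176325354470336643080, 18890619135076723589128, 37778932707863161745411, 18890620260907843883008, 33063485723865092468738, 28342271318624829472776⟩) (.leaf ⟨9447039371767277719557, 37784697033636341354505, 9451653309929132924934, 28338811428279788011530, 47230585172680035569673, 9456263588641379471362, 14177478557312632238089⟩)) (.leaf ⟨33064636957138264010753, 9224216736813834242, 14170560183997466447874, 47230584610073780195333, 4723520248799249313795, 14174017541205173248001, 14169407825236671369226⟩)))) (.node (.node (.node (.node (.leaf ⟨42511676891649202470921, 47231736123653630222343, 23617597022283577180168, 18897539196760646234116, 28343423395567016906759, 42508217845591618654213, 28338811709686078775302⟩) (.leaf ⟨42504757110821663842313, 9450497855012179283976,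 8072984082067230722, 47234041404262663073800, 33060025270501311021066, 18900996554105825562630, 9450498417756125278210⟩)) (.leaf ⟨9451652746704335155210, 4732744184198374391811, 28335354352340899500034, 42510524532682232176641, 42510523969801015042057, 42509371329977610424325, 28339964068171979198465⟩)) (.node (.node (.leaf ⟨14169407825030462582785, 23615292867780693495816, 42507064361343367802885, 9455110948474360733698, 9445887857981135015945, 4733898512803020419081, 14168254904006841749512⟩) (.leaf ⟨42502452674843786616835, 9455112074374267559938, 23622210960307993452552, 28335353226372273164290, 18898689866877840134150, 28335354071209637584906, 47230583483967681368066⟩)) (.leaf ⟨10378827297389051907, 14168252933613335629828, 14175170743978464157702, 28337657662075457015813, 18897538915766756204547, 9445886169337349287945, 9453956619732292497418⟩))) (.node (.node (.node (.leaf ⟨14174018948442500395011, 18898689866465523281928, 37788156079556519788548, 37787005128926522531840, 37788155235200242032648, 8073265694466154505, 42509370485896109924360⟩) (.leaf ⟨9223372037022556168, 9223372037022560265,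 11529215046202691594, 18889468465165688111104, 23611833540866608201728, 2305843009230503939, 42501300035157703524352⟩)) (.leaf ⟨28344577161290479333385, 5766577848005451781, 33065789315555478495238, 33064636393844679651333, 4613375074513190913, 37787004565358009909252, 4728133624148606865410⟩)) (.node (.node (.leaf ⟨42511676047292941508616, 18894080151252969197572, 14170559339641222209536, 14171711979327322099715, 28337658506431650881546, 47227123593485284814858, 28344575753778173616131⟩) (.leaf ⟨37778931863644390064128, 37778931863644406845440, 47223664829246224769024, 10377982391321886724, 4614219293217783813, 9444732965808144134144, 6919499352478056457⟩)) (.leaf ⟨33060025270501311021066, 33057719990991789760517, 42508218127341490044937, 9453956338051023114242, 9450497855012179283976, 8072984082067230722, 4724675140834952249347⟩))))) (.node (.node (.node (.node (.node (.leaf ⟨14175170744184589004808, 18898691555521441333248, 9225343049054326790, 14170559057547820560393, 42501300316838939361290, 14169406417861670338561, 37788156642643845087236⟩) (.leaf ⟨33065791004474091778048, 3459891101089959941,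 37782391471895962730505, 42501299472414009229313, 14177477712818848399370, 37782392316595787563015, 37787003158051778756616⟩)) (.node (.leaf ⟨9455109822574353190915, 14174017259386582368261, 23617599555833362927625, 42508217282847974629378, 4730438622595434713090, 47235194607104841256961, 4732745309823420104707⟩) (.leaf ⟨23623363037044156678149, 14172866026869241184256, 28339966319765634441220, 28339965193934379958279, 14174018385217719402504, 37787004283814347300867, 14175171588197269372933⟩))) (.node (.node (.leaf ⟨47225972361174034976773, 14168255185275777490946, 14170560746741160747010, 33066943081691140345865, 23614140228026025119750, 23615293712274410180617, 42507064642474713559041⟩) (.leaf ⟨33065790441317828939776, 9452804824196244852743, 9450499262593338736647, 23619903146836537376768, 14175171025315985096707, 42508218408472902918145, 18891774307900074258437⟩)) (.leaf ⟨33066942236785140330504, 33066943081691157135368, 18892925540486067793920, 47235194325423756419081, 37789310971454582460421, 33060024426557467541513, 42508216437804535656452⟩))) (.node (.node (.node (.leaf ⟨28337660195143971508226,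 42508217282710502146049, 47234042529750269829125, 37780087599623886118921, 14176323384008077512706, 18899843633082221481986, 28336506710895552892933⟩) (.leaf ⟨37782393161433001005061, 47223667362452312424456, 47224818595107059007493, 47234043655993740529671, 37780085629093024894985, 37787005128239243882504, 42508217563910584152065⟩)) (.leaf ⟨28335352382084781989892, 37787004847107881320455, 18896384587024755073032, 1407649778266120, 23611833540797972635648, 9224216736729939978, 23619905398636401405956⟩)) (.node (.node (.leaf ⟨47228279329670855426048, 10377138378758983687, 14168254059032273227785, 37787004565907816091651, 14170558776210182152197, 47228278203702229094408, 33061179036980654116873⟩) (.leaf ⟨33061177629674473263114, 2307813334117785604, 1970462309511175, 33064638645644577214471, 33066941955585142185985, 42505911439495012556801, 42501298908776827469831⟩)) (.leaf ⟨42504758799396797181952, 4729284293990755110915, 33065791285880349011976, 14169405854705709502467, 18896384023662417707018, 18897538634291695620103, 18900995991155872104458⟩)))) (.node (.node (.node (.node (.leaf ⟨37785851362790810349576,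 18892927229267326042120, 37782392879889405444100, 14175172714578179022848, 37782390628020805210120, 8073265694382268418, 9452805105808593428483⟩) (.leaf ⟨47225970671980694749193, 37780086754992881401863, 37781240239653532995593, 47232890734420430962688, 37788155516606448959489, 42507064079937043464195, 47225973205186614673408⟩)) (.leaf ⟨9450499262387113177098, 47234042529750269829125, 37780087599623886118921, 37782393161089537810441, 18899843633082221481986, 23622209834202062430214, 23621056349953643814921⟩)) (.node (.node (.leaf ⟨33068096284533368852480, 33063485723865092489225, 23616445226816383254536, 37781237706516181581828, 14176325354126739271683, 18890619134595687251971, 14167101700889936670723⟩) (.leaf ⟨28336506148083071991816, 37789309564354660683780, 5764889547766775815, 9225342430461587463, 28336505303451933106182, 33064636393775960170505, 28342271036599979487237⟩)) (.leaf ⟨28334198897217938391042, 1155455329153089536, 9444732965739391090692, 11530059608437567488, 11530059677157040128, 9223653580550967296, 33056565380087667490821⟩))) (.node (.node (.node (.leaf ⟨47230584610211252666375,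 28345728112951268773895, 33064636675525781237766, 9444735217745396776968, 14169407543418030161928, 47235196577429627895815, 3459890551300587528⟩) (.leaf ⟨37789308157048429510663, 37788157768818562711555, 18900997961411939270664, 14167100293515053117448, 33057719709516930519040, 18896386275256005832713, 28338811709342481395720⟩)) (.leaf ⟨37782391471895962742786, 9444734936751406088193, 14177477712887567876097, 37782392316801945972740, 37787003158532815073283, 18892925540967120908288, 9225343048903331845⟩)) (.node (.node (.leaf ⟨42505911721313737662469, 37781240239791089422341, 23618751069481982795778, 42507063516437267107850, 4733897386903180709896, 14177477150212509175816, 42507065768512009019396⟩) (.leaf ⟨4731592388799866372105, 4730438904207917465608, 42501299190458012962822, 9448192574953053241346, 23623363318450447466498, 14168252652138275041288, 47232889608245663014922⟩)) (.leaf ⟨47227123593485284814858, 28344575753778173616131, 9447040497804673814531, 18894080151252969197572, 37788157205456393113600, 37787004565770293223432, 23621058038665964441601⟩)))))))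

def reps1 : Tree (M7) :=
  (.node (.node (.node (.node (.node (.node (.node (.leaf ⟨4096, 16777216, 68719476736, 281474976710656, 1152921504606846976, 4722366482869645213696, 1⟩) (.leaf ⟨28337659632331507396610, 28342272163049742807042, 10376575153927655434, 9451652465435533672456, 37790463330078039248906, 4729286264040730943488, 23621056349816120934409⟩)) (.node (.leaf ⟨23616445226747646992386, 23616446071103924764681, 47232888201008302260230, 18890621105264155164675, 9452803698090196361218, 42504758799328077692932, 28334198897767727783943⟩) (.leaf ⟨42504757955384083234820, 28341117271289085571076, 37780084784667943796743, 47230582921361291776001, 4724674015347244802051, 47231735842384929386500, 42510523688600815566850⟩))) (.node (.node (.leaf ⟨14177478556968900632581, 28337658506225492434946, 14168254622531865026566, 9448193137834253656068, 18896385994124693610506, 4732743339979636236297, 23622211241851739987974⟩) (.leaf ⟨14175171025453524721670, 42502451830487676657664, 4725827217983214194691, 37781239676497370845189, 18890619697751849472005, 23616445789285283541001, 23615292868330466050058⟩))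 (.leaf ⟨23621058038665964441601, 47227123593485284814858, 28344575753778173616131, 9447040497804673814531, 18894080151252969197572, 37788157205456393113600, 37787004565770293223432⟩))) (.node (.node (.node (.leaf ⟨47231736123653630222343, 23617597022283577180168, 18897539196760646234116, 28343423395567016906759, 42508217845591618654213, 28338811709686078775302, 42511676891649202470921⟩) (.leaf ⟨28341117834032729583623, 28345729519913785114630, 37785850799565928693763, 37784698441217416921088, 37783544674875596623875, 28341116708201609318404, 37787004002545545773062⟩)) (.leaf ⟨37787004846970408808448, 28343425084622968483850, 47223667643996126081030, 18898690429965232525316, 9224217011607863298, 42504757110821714145288, 4724673733253792808961⟩)) (.node (.node (.leaf ⟨23611832414898065793028, 23619904835480239230978, 28338812553973519646722, 4731589855181445005317, 33057720553873040474120, 9449347466919885688834, 42510523125857171566596⟩) (.leaf ⟨47229431688225525633029, 47224820002000939810824, 14172864619219379068929, 14177478275837554888714, 33061178192143356801025, 9225624111697383433, 37782391753920762355721⟩))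 (.leaf ⟨37788157768887433170950, 47228278203702229094408, 18897537508116961206274, 4730437215426759897088, 2308095152758988804, 14168254059032273227785, 37787004565907816091651⟩)))) (.node (.node (.node (.node (.leaf ⟨14176322820852066295811, 8073265694382268418, 9452805105808593428483, 14172865182306804973571, 18892927229267326042120, 14176323665208209833991, 37783543830519436300288⟩) (.leaf ⟨28338810864986203619328, 42508216438148116271105, 33065790159842852233216, 9450498981118311673863, 37783544675356549054472, 33066944207522294165510, 9452805105671271899143⟩)) (.leaf ⟨28334198897767711002628, 28338812553836063907842, 23619904835617694953474, 4731589855387653767174, 33057719146292048822275, 42509371611521222729730, 42510523406850994499591⟩)) (.node (.node (.leaf ⟨23623364163012833333255, 14171711697989734002692, 18896384587024755073032, 1407649778266120, 28334200867748967370752, 9224216736729939978, 28338811146461213917191⟩) (.leaf ⟨18897536944960933199879, 4733896824296807895045, 9449344652376260214791, 33064635830619831541769, 4730438059576694685697, 28335352944759991726082, 9445886450674987712522⟩))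 (.leaf ⟨4724673170647487115267, 33060025552113676341251, 14167101138146024251398, 18891773745156329582599, 47235196577017361371145, 37780085910911498326018, 9447040779417072709632⟩))) (.node (.node (.node (.leaf ⟨28339965475478059352067, 37785851925671977172999, 33060026678219842273285, 18889467338922318102532, 18889468183759447687175, 28341118960138895495173, 42509369922877571223561⟩) (.leaf ⟨9450498417756024610825, 4726980702712702709766, 42512829531541460766725, 23622211522776927342598, 28339964912734297919495, 9451651339810353750026, 42503605596760710320137⟩)) (.leaf ⟨2252143494983686, 33064637238475818541062, 47232889327114250125319, 14172864619219479707657, 33061178192212109856774, 37778932989131946483722, 33068096002920869273602⟩)) (.node (.node (.leaf ⟨9450498136555892269063, 14178630071304815910918, 9455109541168213426186, 23622209270908461281286, 37789310408917080100866, 42508216438423027716102, 4724674578091140460546⟩) (.leaf ⟨47232890452602007855107, 2306969527595839489, 33068094595408580345864, 4725827217845741703178, 23617599273946086154242, 42511676609693256544266, 37781237988059860983811⟩))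 (.leaf ⟨37778932989063277326338, 42507062953556066738186, 18899844477026064924675, 14178629226605074976773, 11530060089591353345, 14171711979602132889607, 14170559057822698475520⟩))))) (.node (.node (.node (.node (.node (.leaf ⟨37790463330490406412296, 37788158050293707218946, 9453958590263287914506, 4732743621042212188161, 4723521937855251222531, 37790463892890570489866, 4725825528927312949251⟩) (.leaf ⟨33056565943518506270729, 33056565380362427994119, 18897538353022978007050, 47231737812572277084165, 47234042248481535430665, 33058871223715205509124, 47228278485658342805505⟩)) (.node (.leaf ⟨42511677172986740248577, 42502451549493736263683, 47232888763820732862472, 23622210397083178897415, 42503607004066907971589, 37782393442839258238981, 14174017822405121032194⟩) (.leaf ⟨42505910595138936127491, 37784698159330140110848, 18896385149837168877572, 23621057475509936492548, 33056565661562610671624, 33056566506537246294026, 23617597584890033901572⟩))) (.node (.node (.leaf ⟨14177476305650123313157, 23618751069825580142601, 9451653028179311874058, 4733897387384217018371, 14177477149594033856515, 42507065768443289571335,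 9452804824264914001925⟩) (.leaf ⟨23619902865430330494976, 37781239676772349403143, 33058872349340284768263, 18896384305206029979648, 33065789033874225905672, 23622210678626925420545, 42509369641402577752070⟩)) (.leaf ⟨23621056349816120934409, 28337659632331507396610, 28342272163049742807042, 10376575153927655434, 9451652465435533672456, 37790463330078039248906, 4729286264040730943488⟩))) (.node (.node (.node (.leaf ⟨9444734936751422844938, 37789309282742144335873, 37788156924325030559751, 14175172151078436220931, 33060026396607342718976, 9224498005497909253, 37788156079419080851465⟩) (.leaf ⟨42507064361343216816137, 4733898231534151831553, 9447039372042189185032, 28339964067759695876105, 47231736687015984402434, 47234041685806426390531, 14172864337881858060294⟩)) (.leaf ⟨28336506710895552892933, 28337660195143971508226, 9450499262387113177098, 47234042529750269829125, 14178628945473729204226, 37782393161089537810441, 33058872912015393841161⟩)) (.node (.node (.leaf ⟨37784697596655114928136, 33060026677876177797123, 14170560465541095489543, 37787005128926522531840, 37788155235200242032648, 4611967837051817986,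 42509370485896109924360⟩) (.leaf ⟨28338811990954930610186, 4728131653548824866825, 42512828968866334908418, 42510524251207205158917, 4728132216430109138950, 37781239395366008283140, 4731592670274775982086⟩)) (.leaf ⟨8071295369578807302, 14176324791451781173248, 18891772900731433021446, 4724674014866258804742, 33066943081347526193160, 23619903427968017379335, 5765733491778027520⟩)))) (.node (.node (.node (.node (.leaf ⟨14176325354126739271683, 18890619134595687251971, 14167101700889936670723, 33068096284533368852480, 33063485723865092489225, 23616445226816383254536, 37781237706516181581828⟩) (.leaf ⟨9455111793242821111816, 28344577442902878232583, 33060025270570114379783, 4725826092014554320900, 37785850236547238985737, 28345728675282763657226, 14177477712612807421959⟩)) (.leaf ⟨23617599555283607097350, 33060024707894954979333, 42509370767302417473545, 18889467620397210927108, 23618751914044301508616, 33056567632162224898052, 37785849955347190542343⟩)) (.node (.node (.leaf ⟨14170560464922620227586, 42501299471795517161473, 37789309282742144335873, 37788156924325030559751, 37783544394018994552840,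 33060026396607342718976, 3460735526020063238⟩) (.leaf ⟨33063485161327355248649, 37781238832003805093892, 14171711134696082522118, 9225061230312443911, 47231735279709786750979, 33064637519882059022338, 18895232228470118440962⟩)) (.leaf ⟨47225971234793058209795, 47224818876238455144455, 42504759080665565110275, 42509369640990244081669, 14174018667036226371585, 5766015241682976770, 42504759081146601455621⟩))) (.node (.node (.node (.leaf ⟨14168254622600718749704, 37788155516675168444425, 42504759362827770138634, 47225971516336771203073, 47235196577223519805443, 37790461360096732545025, 4725828062820461195272⟩) (.leaf ⟨42511675484274335678467, 18895232228401264762883, 47235195451255010918402, 18890620823926634213383, 18891772619462514061316, 33060024426076447969288, 37780087318149026840585⟩)) (.leaf ⟨33068094876883473149960, 14177476587056363757570, 23622210678420733452289, 4725826936645777104900, 9444734373457855291400, 23622209552795771625476, 14178629226742430040065⟩)) (.node (.node (.leaf ⟨14174018103605236637696, 9452805387283570135042, 14169407543624289263617, 4731589855456373272580, 23612986180896305471496,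 9450500388561998589954, 42504758236309287337984⟩) (.leaf ⟨28345729238301335900163, 28344575472715429847046, 28341118959589173239817, 33062331395397784707073, 47234042811637563396106, 9455111792899274080266, 9447040497804539625481⟩)) (.leaf ⟨42503606722523228573697, 42511677454393014247429, 9445888702681010167816, 14170558495216241745926, 47227124156778852405256, 37785851644128230666249, 23614139946619767885831⟩)))))) (.node (.node (.node (.node (.node (.node (.leaf ⟨37788158050293707218946, 9453958590263287914506, 47225972924055403134986, 4723521937855251222531, 14168252652207044833281, 47232891016170302373896, 14168253214607208910851⟩) (.leaf ⟨4724672326085050929162, 42505911721244984606722, 14172864619769201983492, 42505911721107545681924, 4726980421168939438083, 9448193137971709378570, 6920344395984162824⟩)) (.node (.leaf ⟨4725826654895821819914, 4731590417993976283138, 4730438059576711462915, 9444733810370496438278, 9448193982534011338761, 28335353507778631069698, 37790461360027962720264⟩) (.leaf ⟨14169405292030550102026, 33062330551110377435142, 47227123875303758241792, 37783546363794193158152,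 9453958871257161138181, 47229429999444368044038, 18900995991361980215305⟩))) (.node (.node (.leaf ⟨37789310690117145337866, 18894078744015507849217, 3459609213779595266, 14170559339228888600585, 47230583202355248926726, 47235194888167517880323, 14174019511048822890506⟩) (.leaf ⟨9456264995603879059464, 47232888763820732862472, 23622210397083178897415, 9455109541030707351558, 37782393442839258238981, 37784698722692494290953, 9447039372110875074570⟩)) (.leaf ⟨23615292023561888227329, 47232888201214477500426, 23622209270908377407496, 9455110667205542453251, 33061179599861820952583, 14176324791108150267904, 14175172151422184595459⟩))) (.node (.node (.node (.leaf ⟨47227123874754002432008, 37780085628955585974280, 14176325635945330155529, 42510523970350720524289, 47234041966869170106378, 4733896261415473291267, 37780085066555354787850⟩) (.leaf ⟨18889468183622092587013, 37790463048328134295556, 9449345778070042210307, 42505911439563748806662, 42505911439769974358023, 18892927229542103273481, 28343424239579579809799⟩)) (.leaf ⟨47230582921361392435201, 9451650776860417077256, 28335353226509829566466, 33062330550629307539458,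 9455111511767911518216, 28338811427867555012613, 28344577724652699258882⟩)) (.node (.node (.leaf ⟨4731592388318762917891, 14172864900969384656898, 23614139946619767885831, 42503606722523228573697, 9447039090704601075718, 9445888702681010167816, 37788158049881373577221⟩) (.leaf ⟨14169405292030550102026, 47227123875303758241792, 9453958871257161138181, 18900995991361980215305, 33062330551110377435142, 37783546363794193158152, 47229429999444368044038⟩)) (.leaf ⟨33065791285880349011976, 37789310690391905820680, 18896384023662417707018, 33061177910805919703044, 33057720553941743173633, 9453957745700818141184, 4729284293990755110915⟩)))) (.node (.node (.node (.node (.leaf ⟨28338811709617376092169, 28338812553973519646722, 47227123593691426455558, 18900995991224574803971, 42509369078177729634313, 42510523125857171566596, 23611832414898065793028⟩) (.leaf ⟨28336506429695454121985, 9456262743941554671619, 33066943081622437629958, 23615291460680687845385, 4724672888897632473091, 28341118960138945847303, 42510522281363521933318⟩)) (.leaf ⟨33068094595339793743876, 37783545238100478291974, 28342271036668849967113,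 18894079869777891844102, 42510523688532163203081, 33060024144601437728778, 23611834103198153474053⟩)) (.node (.node (.leaf ⟨37780087036948793823235, 14176323102327093370882, 9448193982740169756673, 47234043374587500048385, 47224818313700818554883, 14178628945748590362634, 4731590136450229764104⟩) (.leaf ⟨14171713949446000631808, 37788155235200292392968, 8070732419591835657, 42509370204421133176840, 37784698441079961186312, 33060024707551424688131, 37788157486931319455748⟩)) (.leaf ⟨4722367327363429068808, 23622208989914453811201, 42507063516849701421066, 18899844477094801207297, 37787004002339404128265, 14170560746603772133385, 23621056349403887988741⟩))) (.node (.node (.node (.leaf ⟨4723519967874095517704, 14168255185000882778122, 4725828062820461195272, 14168254622600718749704, 14170561028422446878722, 42504759362827770138634, 4732745028760844120074⟩) (.leaf ⟨9449346340951225810948, 47228278766789738897411, 9453958026969720324097, 6920343914931052552, 4732742776617298857985, 42509370204283828437001, 14174019511598645805063⟩)) (.leaf ⟨47234043374175183175682, 14175171025178546155521, 42505912283645081575427,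 47232889889789359185927, 33062332802910207877126, 14174019511254964543493, 33061178755436874063875⟩)) (.node (.node (.leaf ⟨9451650776379380760579, 23623363318656505245698, 33062330551247782825993, 9455111511149436231683, 28338811428211152424966, 23614138820925952364546, 4728133624354698199041⟩) (.leaf ⟨9444732966357816066049, 9456262180991618007041, 10376856628971466762, 47235194325423689334787, 33064636956588524961800, 18896385712649649795081, 42504757673428103766024⟩)) (.leaf ⟨4724672888897632473091, 23617597584958669475844, 9448194263734093389829, 23622210115402161201162, 9456262743941554671619, 33066943081622437629958, 28343425084416927477762⟩))))) (.node (.node (.node (.node (.node (.leaf ⟨37782391190627094130691, 18890619135076723589128, 37778932707863161745411, 33068096284189771440128, 33063485723865092468738, 23616445226472785850371, 14177475742700287328260⟩) (.leaf ⟨28338812835654654783494, 47223666799433656332288, 9456263588297748537349, 23611833821997987561478, 23616446071310083182595, 33065789878574050734080, 9451651058197971607556⟩)) (.node (.leaf ⟨14178629226742430040065, 33068094876883473149960,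 14177476587056363757570, 23622210678420733452289, 4725826936645777104900, 9444734373457855291400, 23622209552795771625476⟩) (.leaf ⟨14176323102739393449989, 47232888764301769203715, 37784698722623774801922, 23622210397151898411012, 42511677173055459696650, 42503607003860749537286, 9456264996222354345987⟩))) (.node (.node (.leaf ⟨9450498699437226864646, 42507064079730885029896, 28345730364063820574720, 14171711416652213022720, 9447040779142144479238, 18899843069857323061252, 33063482909115291820038⟩) (.leaf ⟨9447041060548384915457, 14177477431687569735690, 9444734936682669838337, 37790463611346874273795, 4726980421168922652675, 28338813398329713524745, 42511676328768052404232⟩)) (.leaf ⟨47234042811500225101829, 3459327601380728841, 23615292023287127773188, 42502452956731147300869, 28341118678320271073287, 14171713949995739648004, 23617598992402423517192⟩))) (.node (.node (.node (.leaf ⟨33064636675319622828037, 42501299190457945833480, 14169407543418030141443, 47235196577360908398596, 3459891032336904195, 4728131935504837902343, 23612985336540078051335⟩) (.leaf ⟨23618752476925569028106, 42511676328905357152258,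 42512829250135203540997, 42502451830831290818566, 37790463611690471690242, 47225973205186664996870, 14170561028491082485767⟩)) (.leaf ⟨4732744183786124623873, 37783546082800269537280, 28337660476618897911818, 4722366764894528749573, 33065790722999098302471, 3459609145026576386, 9448191730734197669891⟩)) (.node (.node (.leaf ⟨47235194606898766680067, 37790463893371606806529, 4725825529545788260360, 37790463329871931150339, 14170558495147505524738, 42504757955452802736138, 4732743621385809592330⟩) (.leaf ⟨42508215875060723879937, 18891774026493900881928, 37790463611278138019845, 1153766548079403018, 37783545800981645127687, 37782392879751966527488, 14167101419483578773506⟩)) (.leaf ⟨37787004847107881320455, 18896384587024755073032, 1407649778266120, 23611833540797972635648, 9224216736729939978, 23619905398636401405956, 28335352382084781989892⟩)))) (.node (.node (.node (.node (.leaf ⟨14170559902453770235911, 37783545800912841768963, 18898691555521441333248, 9225343049054326790, 37788157486793880518658, 42501300316838939361290, 37789310127235944939530⟩) (.leaf ⟨18897537226848109350916, 33063484879989901381636,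 4613656343365066760, 37787004283814296961025, 4728132498179913424903, 28336507273776820424707, 9225061299149365248⟩)) (.leaf ⟨9444735218088994172931, 14169407543418030141443, 47235196577360908398596, 9225342499181068296, 4728131935504837902343, 28345728112332793454596, 18894079869777992495110⟩)) (.node (.node (.leaf ⟨9451650776654325751812, 42505911720832701321222, 37781240239447492009990, 23618751069825580142601, 9451653028179311874058, 47224819157713398304776, 14177477149594033856515⟩) (.leaf ⟨18890619979570306105351, 42502452393368843456516, 33063484035083817492489, 10376293816406654985, 33066944207316102156295, 9452803416752725704704, 8072984425580752896⟩)) (.leaf ⟨18890619415933141159939, 18890619416620335902726, 33068094595752093818887, 37782393442907960913922, 9225342842795200520, 14177476868462755205121, 47232890734214289301509⟩))) (.node (.node (.node (.leaf ⟨18895232228263825805322, 47225972360761835524106, 42511675202661953581057, 9455110948680535932937, 28335352945240994500611, 28336505021977040265222, 23618750506394691080194⟩) (.leaf ⟨4731592669725137580040, 14178630915523554086920,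 37782390909495882588169, 9448192575365370126337, 4724674577884847812618, 47224820284025739452419, 14178631479023296851978⟩)) (.leaf ⟨9451650776654325751812, 9452804824264914001925, 14177476305650123313157, 28339965475272035180546, 9451653028179311874058, 47224819157713398304776, 37781239395503581466632⟩)) (.node (.node (.leaf ⟨37787002876783111438339, 18892925822029898219528, 14170559339160202645509, 14167100574715051249665, 9455112074717730713606, 9451651339329317404681, 18899844195551054688263⟩) (.leaf ⟨33068095440039618543619, 28342271318556126765058, 9452803698158915833865, 28342270474062410055689, 42504758799809114042375, 47232888201214460690437, 28334198897424130396164⟩)) (.leaf ⟨23614138820925952364546, 4728133624354698199041, 42507065768718234562568, 23623363318656505245698, 18896385993849832497154, 42503605033948179091464, 23619905116886462898181⟩)))))))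

def reps2 : Tree (M7) :=
  (.node (.node (.node (.node (.node (.node (.node (.leaf ⟨37790463330490406412296, 14170558494803908104201, 9453958590263287914506, 47225972924055403134986, 47235194607242364100616, 14168252652207044833281, 4725825528927312949251⟩) (.leaf ⟨18889468746228465422339, 28339966038084516061191, 37785851080834763735040, 28343423676904604966919, 33056566506193699241994, 42509369359721358704643, 18895232228126487486468⟩)) (.node (.leaf ⟨14176322821195613347848, 4614501180561690626, 9452804823715141427208, 37785850518159637901315, 33065791285399295897608, 37782391472033401667591, 37783546364412584546304⟩) (.leaf ⟨23619904835548975497225, 4731589855181495336965, 18900997398599408025603, 9449344933645112074242, 42510523407332030824452, 23611832414898082566148, 28338812554042222333961⟩))) (.node (.node (.leaf ⟨844837330907142, 33064636956725913591813, 18897538071135701180422, 14167101419414808977418, 4731591825506214903815, 33057719709379424456713, 14174017540724036235266⟩) (.leaf ⟨9444734936682669838337, 37790463611346874273795, 47231736123928508121096, 28338813398329713524745,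 9447040216329562918915, 42511675483793316118538, 37781239113410045542401⟩)) (.leaf ⟨23619905116886462898181, 23614138820925952364546, 4728133624354698199041, 42507065768718234562568, 23623363318656505245698, 18896385993849832497154, 42503605033948179091464⟩))) (.node (.node (.node (.leaf ⟨28338812553973519646722, 47227123593691426455558, 18900995991224574803971, 42509369078177729634313, 42510523125857171566596, 23611832414898065793028, 28338811709617376092169⟩) (.leaf ⟨37789309564354560020488, 42502453800606271311879, 9453956900863621496833, 4725826091877148921859, 1155455397922865159, 33060026959832190840832, 11531466983405035524⟩)) (.leaf ⟨14172864619425638150148, 33060026678219842273285, 18889467338922318102532, 33056566224787492319236, 28341118960138895495173, 9449346622220044099586, 23618751069619371376648⟩)) (.node (.node (.leaf ⟨47225972079492933365763, 23623364163012715880450, 42510522000025933848586, 42510522562907151048706, 9449347185376273391621, 28339966038290674520074, 42507065205287244824586⟩) (.leaf ⟨9453956900794901995528, 28344577724652766384130, 9448193419721580777482, 28336506429764240699394,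 47230583483830309507080, 9445887294687634563074, 9447041623841986076677⟩)) (.leaf ⟨281474976710656, 11529215046068469760, 4722366482869645213696, 10, 40960, 167772160, 68719476736⟩)))) (.node (.node (.node (.node (.leaf ⟨14170559057547820560393, 42501300316838939361290, 37789310127235944939530, 37788156642643845087236, 37783545800912841768963, 33060024989576173989888, 3459890482463645701⟩) (.leaf ⟨18892924696610977382409, 14174017822199029723137, 23612986180483955052551, 23622210115264588042248, 33063484879577517404164, 9453956900794818109441, 33064638364581799960579⟩)) (.leaf ⟨28337660195487518593027, 47225973486593006149637, 42509371329840137924616, 42511674921255696367625, 42510523406919697199109, 14171713949514636226564, 14170560464922737655818⟩)) (.node (.node (.leaf ⟨28345728112951184859143, 33064638082900748697606, 9444733810370429349896, 37789310408298504159235, 4723521937992639873028, 3460734976146812936, 4728133342261363605508⟩) (.leaf ⟨47229430843938118340615, 23614140791113383944195, 3460172301138419712, 33064636675388442959876, 33062331114060364402695, 8071576432255475715, 37783544674875546288138⟩))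 (.leaf ⟨9444732965876863614977, 42512827561079134515210, 2306406577709543434, 47224818032225942536195, 33061178192693095825416, 33063483753883701903362, 9448194263665424207875⟩))) (.node (.node (.node (.leaf ⟨9445887013556154556422, 28336505022320687980549, 23618751632363317403652, 9451651339810353750026, 42503605596760710320137, 42508218127341590712322, 4726980702712702709766⟩) (.leaf ⟨4723521093842604404745, 33068095721170981109764, 18891772619462514061316, 33060024426076447969288, 14178629226948588482562, 42511675484274335678467, 33063484316696350560264⟩)) (.leaf ⟨23614139664801143484418, 47229430562325585223683, 42502452956868603060226, 42503604470723431653381, 42510524251825730756616, 28336507274120367464457, 9453958027244531097601⟩)) (.node (.node (.leaf ⟨9225905930288238601, 28337658506156655546375, 9445887576643580473350, 23618752195450676191236, 14175170180753733492740, 23618751069825697587208, 4732744465673334292486⟩) (.leaf ⟨18894079588371668144130, 47231735561253482934272, 10377138378842869764, 37780086473380381855746, 14175172151559539691528, 14176325354539089661957, 47231736687222109265928⟩))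 (.leaf ⟨33066942518260117012488, 37790463611278138056710, 11531467464474910730, 37783545801325242499076, 37782392879545808068608, 14167101419139981410313, 9450497573468550205441⟩))))) (.node (.node (.node (.node (.node (.leaf ⟨14170560464922620227586, 9444734936751422844938, 14169407262355470942218, 14170559620772584763396, 37783544394018994552840, 33060026396607342718976, 9224498005497909253⟩) (.leaf ⟨37781240520716293545986, 18891774589787485253636, 37778934396575683743751, 28337660195350146752515, 47232889045776796250118, 42507062953418661310469, 28342271881368641236999⟩)) (.node (.leaf ⟨33058871223096730214400, 2814956076531720, 2814956059754505, 845112141676545, 23616444100366653464576, 42508215874854448021504, 2814887340277768⟩) (.leaf ⟨9447040216810716696579, 2308095290231525376, 3460453638575497226, 42511675765543070072834, 47232890734214389960705, 33068095439558565445636, 37784696752161482096646⟩))) (.node (.node (.leaf ⟨4724674578228445216769, 4733896261415473291267, 37780085066555354787850, 4731592670343612891139, 37780085628955585974280, 37782390909152285167618, 9448192574746894798858⟩)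 (.leaf ⟨33064638645369665781764, 9451652465435533647877, 42503605033742070988802, 28339963505084502929416, 28337659632468912803844, 28342271318624829448197, 47228278766514693234692⟩)) (.leaf ⟨18895232228126487486468, 18889468746228465422339, 28339966038084516061191, 37785851080834763735040, 28343423676904604966919, 33056566506193699241994, 42509369359721358704643⟩))) (.node (.node (.node (.leaf ⟨14171713949583355703296, 42511676609761908908038, 33058872067934010744836, 18895230539001749327878, 9450499544068265095173, 42507064923949639954435, 23612987587652713725952⟩) (.leaf ⟨42510522843832439013376, 47232888200939582812164, 14172865182100747194368, 28335354070659797901320, 42509369922327681208322, 42507063235031127306242, 14177477994156386160650⟩)) (.leaf ⟨23612985336540078051335, 33064636675319622828037, 9444735218088994172931, 14169407543418030141443, 4723519967736522375175, 9225342499181068296, 47230584609592777375748⟩)) (.node (.node (.leaf ⟨47235196577223519805443, 37790461360096732545025, 47232888482277154127875, 14168254622600718749704, 14170561028422446878722, 9453957182269845184513,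 4732745028760844120074⟩) (.leaf ⟨28341117834239022243844, 9450498418305897861121, 9447040497804573151241, 9451651339260715372546, 47228277077871075274758, 9456263307097733615621, 28344575472852818497542⟩)) (.leaf ⟨4725827781139393155072, 18898690148352800079875, 14176324791176936816643, 4612530649650176003, 23611834666629243867145, 9453957182407233777671, 4724672326360063037448⟩)))) (.node (.node (.node (.node (.leaf ⟨9451653028179311874058, 47224819157713398304776, 14177477149594033856515, 9451650776654325751812, 42505911720832701321222, 37781240239447492009990, 23618751069825580142601⟩) (.leaf ⟨28344575472440619044865, 18891772619187669725194, 37782393161295645929481, 4722368734738312622083, 42508218408679145242625, 37783544956350606876674, 28343422832891924594693⟩)) (.leaf ⟨14172864900969384656898, 23614139946619767885831, 42503606722523228573697, 9447039090704601075718, 9445888702681010167816, 37788158049881373577221, 4731592388318762917891⟩)) (.node (.node (.leaf ⟨8073265694382268418, 42505911439288837345288, 14172865182306804973571, 33065789315074375036931, 37782392879889405444100, 14175172714578179022848,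 14176322820852066295811⟩) (.leaf ⟨37787002595101875675143, 23615292023287127773188, 23617598992402423517192, 9456263588366468022278, 47234042811500225101829, 23617597866777344249860, 9225905930137243650⟩)) (.leaf ⟨37782391190489806180358, 47223665391921434460163, 47224820002275901571078, 47234041685462745124868, 37780087036811354836994, 37787002594964503818243, 42508217282779154493450⟩))) (.node (.node (.node (.leaf ⟨9447039653448412852226, 47231736123653630222343, 23617597022283577180168, 33061177347581054844935, 28343423395567016906759, 9450498699505996668934, 23619904835411536547845⟩) (.leaf ⟨14171711134902375194631, 28345730082588944510985, 4729286263903291985927, 18891773744950238285824, 23615291460955548950530, 42502453519199997296650, 37778932988857085337602⟩)) (.leaf ⟨9453958590125714714628, 47234041122719117893640, 47232890734489234350080, 33060024989438701498371, 14176323947095486627848, 4613938368047226888, 28334201149498889117705⟩)) (.node (.node (.leaf ⟨9453957182407233777671, 4724672326360063037448, 4725827781139393155072, 18898690148352800079875, 14176324791176936816643, 4612530649650176003,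 23611834666629243867145⟩) (.leaf ⟨4726979576400445464579, 18894078743946788380674, 47231738094528357236736, 10378545753642508292, 14178630353192092700681, 37783545800912908881923, 14176323384214370164741⟩)) (.leaf ⟨4728132779655007604743, 28336505303452033753091, 9224779824122318848, 33061177910874504974343, 18895232509532761509895, 4612811918418120712, 14171713104952250351626⟩)))))) (.node (.node (.node (.node (.node (.node (.leaf ⟨9444734936751422844938, 14169407262355470942218, 37788156924325030559751, 37783544394018994552840, 18898690148490272604160, 3460735526020063238, 37788156079419080851465⟩) (.leaf ⟨14177476305444082327554, 47232890734420430962688, 37788155516606448959489, 9451652465160571858952, 47225973205186614673408, 4732742776892176756738, 14178629790104733876228⟩)) (.node (.leaf ⟨33058872067934111420426, 47231736687222142816265, 42512828123960418787333, 28341116989814108864517, 28337660195075369508866, 42508216719829301731330, 28343425084554399981577⟩) (.leaf ⟨9448192856496615206921, 47230582921361291776001, 42504757955384083234820, 47234042529750370521096, 28341117271289085571076,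 4726980702712685936647, 14178628664204927709188⟩))) (.node (.node (.leaf ⟨9451653028660348215297, 4733897386903180709896, 37781239394885106147331, 9451650776585606303751, 9452804823783877660678, 37781240239791089422341, 23618751069481982795778⟩) (.leaf ⟨282024766078979, 2814956059754505, 845112141676545, 28342269347750119247872, 42508215874854448021504, 282093502332931, 18899842225020042498048⟩)) (.leaf ⟨33065790722518078746628, 47227124438184958664708, 14174017822680099586057, 28335354352066139009025, 37789310127441985961991, 9447039372385736208387, 28336505584995746750468⟩))) (.node (.node (.node (.leaf ⟨10, 40960, 16777216, 68719476736, 2814749767106560, 1152921504606846976, 47223664828696452136960⟩) (.leaf ⟨3460735113652867080, 47227126127034969890821, 18900995709543322234886, 14170558495284944470025, 37789310127235911409674, 18900995709474602782723, 18900995147143158206468⟩)) (.leaf ⟨9444734373801385537543, 10378264553644396551, 47224820284025621983235, 18897538634360515764224, 33060024426694889725955, 9455110667205441785866, 9444735218226298916871⟩)) (.node (.node (.leaf ⟨14170559339228972449800,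 8072702538354270216, 28334201149292579692553, 42510522562838347677703, 4732742776892310966275, 47227126126760024907776, 18892926948204649398280⟩) (.leaf ⟨9451653028316734038023, 28338811427798785224709, 4722368453606849396736, 9456263870253811916806, 28334200304867632754694, 28342271318693548941315, 18892925822442080845824⟩)) (.leaf ⟨1407649778266120, 28334200867748967370752, 9224216736729939978, 28338811146461213917191, 23623364163012833333255, 14171711697989734002692, 18896384587024755073032⟩)))) (.node (.node (.node (.node (.leaf ⟨28335352382084899442697, 42510522000025933848586, 9448193982190464274441, 42509369359721341931526, 23618750506806940803073, 42507065205287244824586, 47225972079492933365763⟩) (.leaf ⟨42505911439769974382595, 14169406136661588332545, 4724672325878892494852, 4724672607353969856516, 47223665391783995523079, 37780087599898780770307, 14171713105433253150720⟩)) (.leaf ⟨33062330550972921712641, 4732743339979636236297, 28336505303245875335173, 37781237988128714690566, 23621058038872122888201, 14168254622531865026566, 9448193137834253656068⟩)) (.node (.node (.leaf ⟨42508215875404321300490,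 18891774026837498265603, 37790463611278138056710, 11531467464474910730, 14175170743772372824071, 37782392879545808068608, 37778932989406958596098⟩) (.leaf ⟨37780086191905522622466, 14175170744184706441224, 14176323384214370164741, 4726979576400445464579, 33064637801150826942473, 47231738094528357236736, 2306687777875464199⟩)) (.leaf ⟨9445887576231263625222, 42508216438079413587972, 23611834103472964272133, 28342270192793591771141, 23619903991398973591560, 4722368453538213806080, 18898690429621668691968⟩))) (.node (.node (.node (.leaf ⟨33068096284189771440128, 33063485723865092468738, 23616445226472785850371, 14177475742700287328260, 37782391190627094130691, 18890619135076723589128, 37778932707863161745411⟩) (.leaf ⟨4724672325879009914884, 4724675140628676370436, 47223667362108715069447, 14178631478473541033992, 37787004284089141329920, 42505911721244934279171, 37789309001061025992714⟩)) (.leaf ⟨10376575635047849994, 37780085629161694072833, 28343422832479691603977, 28338810865261131870217, 9450498699505996693507, 4728131935161240543232, 23615293149668003823618⟩)) (.node (.node (.leaf ⟨28344577724652699258882,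 47230582921361392435201, 9451650776860417077256, 28335353226509829566466, 33062330550629307539458, 9455111511767911518216, 28338811427867555012613⟩) (.leaf ⟨9455111792967959977985, 4731590418475079720968, 42511674921324365504518, 37785850236822217584642, 42512830376309988282376, 23614139665075954257924, 37788155517087502077958⟩)) (.leaf ⟨47223665391783995523079, 14178628945198834552840, 37787003439664362172416, 9452805105327640940552, 14169406136661588332545, 4724672325878892494852, 47234043936987731222535⟩))))) (.node (.node (.node (.node (.node (.leaf ⟨33058872067934010744836, 33063482909115207933957, 9450499544068265095173, 9451651621147975368712, 28345728956688987353088, 37787002595514259619840, 42511676609761908908038⟩) (.leaf ⟨47223665391921434460163, 47224820002275901571078, 47234041685462745124868, 37780087036811354836994, 37787002594964503818243, 42508217282779154493450, 37782391190489806180358⟩)) (.node (.leaf ⟨4731592669725137580040, 37780085629574061236227, 14176325635601732734978, 42510523969732245196810, 4724674577884847812618, 47224820284025739452419, 37780085066074318471169⟩)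 (.leaf ⟨33066942518603781537801, 42502452956731164102665, 14172866308619045462018, 18900995709749598109699, 37782390627539819171848, 37781238831866315833349, 42502453800812379398145⟩))) (.node (.node (.leaf ⟨18895233353888921821189, 33060025271119803076615, 14171712823958293192706, 14167099449021369982983, 6917529302653227013, 4722368735219332182020, 18896384587024721534984⟩) (.leaf ⟨37781239676703579590657, 47232890734557886713862, 18890619415933141131272, 18890619416001860632581, 18890618853601813995527, 14176323102808129679362, 9225342636636807171⟩)) (.leaf ⟨14172864619219379068929, 37781238269260060434433, 33061178192143356801025, 3459609419820589058, 14176324791176852967426, 4729284856872089690118, 47224820002000939810824⟩))) (.node (.node (.node (.leaf ⟨37789309000923670917123, 4723519967667802877956, 9225342980217384963, 47230584610211252666375, 28345728112951268773895, 18894079869571834085381, 9444735217745396776968⟩) (.leaf ⟨3459046538670538753, 42502453519268834185221, 23614140509775862997001, 42510522844038563893252, 33063482909664946982920, 14177476586850272448515, 37781237987991225389061⟩))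 (.leaf ⟨23611834666422934441993, 9448192575227796926471, 47225970672186869964803, 47227124156641363140608, 18892925540760996036611, 37788156361100232753160, 8071295506984214531⟩)) (.node (.node (.leaf ⟨42507062953899664084993, 33058872067727952969731, 14178629226605075013638, 11530059608555020298, 14171711979258535493636, 37788157487068758446080, 14167101419140065275906⟩) (.leaf ⟨14169407261943019876358, 33058872067727885893641, 14174019229505227350018, 37788155235681278365704, 9445886450400025923594, 9445887295168670867458, 18890619416414244585475⟩)) (.leaf ⟨47235196577567117152264, 14168255185481919135745, 47232888482895629398024, 14168254621982243430403, 14170561028078849531913, 42504759362209294884865, 47225971516680368566282⟩)))) (.node (.node (.node (.node (.leaf ⟨8073265694382268418, 9452805105808593428483, 14172865182306804973571, 18892927229267326042120, 14176323665208209833991, 37783543830519436300288, 14176322820852066295811⟩) (.leaf ⟨42511675765611823116288, 33060025552594712682504, 33066942799872566243335, 37780085910567900979209, 4724673170716206579720, 14167101137527548956677,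 4723519967324339736585⟩)) (.leaf ⟨47235196577429627895815, 9225342980217384963, 47230584610211252666375, 23612985335921602732036, 18894079869571834085381, 42501299190801543229443, 14169407543418030161928⟩)) (.node (.node (.leaf ⟨14176325635945330155529, 42510523970350720524289, 47234041966869170106378, 4733896261415473291267, 37780085066555354787850, 47227123874754002432008, 37780085628955585974280⟩) (.leaf ⟨33062331395123041034242, 3460453707278213124, 33062332239822798745602, 4730436933676821397507, 37789309282536069828615, 18897537789729427193858, 37783543549662783881222⟩)) (.leaf ⟨33064638364581799960579, 18892924696610977382409, 14174017822199029723137, 23612986180483955052551, 23622210115264588042248, 33063484879577517404164, 9453956900794818109441⟩))) (.node (.node (.node (.leaf ⟨28335353507984688824322, 18896384024143454035977, 42503606440704704794627, 28338812835242287599621, 23614140790769769779209, 47230584891686111948801, 9451653310135324934152⟩) (.leaf ⟨28336506710895552892933, 37780087599623886118921, 28337660195143971508226, 14176323384008077512706, 42508217282710502146049, 18899843633082221481986,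 47234042529750269829125⟩)) (.leaf ⟨14176325635945330155529, 9448192574746894798858, 4724674578228445216769, 47224820283682142031880, 37780085066555354787850, 47227123874754002432008, 14178630916142029348867⟩)) (.node (.node (.leaf ⟨47223665110721218232326, 18898691274390078775300, 9225624386541727746, 9453956338051073454083, 47234042529612847661066, 37787002876645655740416, 23615293993749252698113⟩) (.leaf ⟨18892925822579654033409, 18895231383632703688713, 37784697878336166207497, 23622208989777115508739, 23623364163081502490624, 33063484598514840780802, 42501299190389209604106⟩)) (.leaf ⟨9455111511767911518216, 28338811427867555012613, 23614138820444916064265, 47230582921361392435201, 42507065768237198245891, 23623363318587785756681, 18896385994468307783689⟩)))))))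

def reps3 : Tree (M7) :=
  (.node (.node (.node (.node (.node (.node (.node (.leaf ⟨16777216, 68719476736, 281474976710656, 1152921504606846976, 4722366482869645213696, 1, 4096⟩) (.leaf ⟨4723519967667853234186, 4732743339498599886851, 42503604752198341234696, 14174019792661255303173, 23617597585508475625481, 42508217564322800373762, 47228278203977140572169⟩)) (.node (.leaf ⟨47229430281194323337220, 33066942800147377037312, 28343425084142066372617, 42502453519199997296650, 37778932988857085337602, 37787002313970496311300, 28345730082588944510985⟩) (.leaf ⟨23617598992402423517192, 47234042811500225101829, 9225905930137243650, 23615292023287127773188, 9456263588366468022278, 23617597866777344249860, 37787002595101875675143⟩))) (.node (.node (.leaf ⟨42504759081352810201088, 37784697596448855822336, 42505912002857266061314, 37789310408504763224065, 4731589855112725557255, 23612987587790203019267, 42508218690154121953282⟩) (.leaf ⟨8071013482201350150, 14167099448677789343744, 42501298346514052055040, 47223664829246224769024, 6919499352478056457, 2307250384097247239, 37778931863644390064128⟩)) (.leaf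 ⟨18896385994468307783689, 9455111511767911518216, 28338811427867555012613, 23614138820444916064265, 47230582921361392435201, 42507065768237198245891, 23623363318587785756681⟩))) (.node (.node (.node (.leaf ⟨42510522000025933848586, 9448193982190464274441, 42509369359721341931526, 23618750506806940803073, 42507065205287244824586, 47225972079492933365763, 28335352382084899442697⟩) (.leaf ⟨18890620542382971559936, 33063483190590151098370, 23616446070897766334467, 14177475742700203421700, 14176323384145499680776, 33068094876746084515843, 37778934115238162759683⟩)) (.leaf ⟨33060024426076447969288, 37780087318149026840585, 42511675484274335678467, 18895232228401264762883, 47235195451255010918402, 18890620823926634213383, 18891772619462514061316⟩)) (.node (.node (.leaf ⟨33068097410501928026120, 14167101700889936670723, 33068096284533368852480, 18895230820476608589826, 23616445226816383254536, 14177475742356689924103, 37782391190970691502088⟩) (.leaf ⟨23615293712205690728454, 23614141072656996278282, 33066943925909945597953, 37782393161295645929481, 4722368734738312622083, 9450498136418470080522, 37783544956350606876674⟩))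 (.leaf ⟨47223665673327607824391, 18896384587024721534984, 33063483191208693501958, 18898691273977812246532, 37787003721139322130441, 14167099449021369982983, 6917529302653227013⟩)))) (.node (.node (.node (.node (.leaf ⟨33068096284189771440128, 33063485723865092468738, 28342271318624829472776, 14177475742700287328260, 14176325354470336643080, 33068097410020891688963, 14167101700683778261000⟩) (.leaf ⟨18897537508116994727942, 33064637519744552935429, 37778933833763035045889, 4725826373764408946695, 33068096284327143284745, 37785849955072312635401, 2252143494971398⟩)) (.leaf ⟨42509370204146406264838, 33056566224856144674822, 42509370203940180738055, 37780086754786723004420, 18898691837271413379081, 42505912002582488825864, 23621056912285004464132⟩)) (.node (.node (.leaf ⟨40960, 167772160, 687194767360, 281474976710656, 1152921504606846976, 47223664828696452136960, 1⟩) (.leaf ⟨18891774308312474992643, 18891773463406458187779, 18892925540486067793920, 47235194325423756419081, 14169405573643032862726, 33060024426557467541513, 9450500106537165422599⟩)) (.leaf ⟨4731590981081318297608, 37789309282604688642054,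 18900997398668194648070, 28338812272773487951881, 28337659350719091703818, 14171713105364634312709, 9445886450743640068096⟩))) (.node (.node (.node (.leaf ⟨33066943925635101261831, 18898692118265253109763, 37780087318149026840585, 42511675484274335678467, 33063484316696350560264, 47235195451255010918402, 33068095721170981109764⟩) (.leaf ⟨14172865182100747194368, 14177477994156386160650, 23623362474437817421827, 42510522843832439013376, 9449346622769749565449, 4725825247933288693767, 9451653310066488016905⟩)) (.leaf ⟨42507062953556117032970, 33058873475446350020616, 14178631196929861656581, 11531467464424579073, 14171713386977033207815, 37788156079900117209088, 14167100575058648641545⟩)) (.node (.node (.leaf ⟨4725825247864569200645, 18890621105264155164675, 9452803698090196361218, 9453957745769537630215, 28334198897767727783943, 28342271318349968330761, 28342270473993690558466⟩) (.leaf ⟨28336505866539409350657, 9449346904176073936902, 28338810583786138390528, 14177476868531424354311, 18899844195688611074055, 33062332239685242327040, 18892927511017046425608⟩)) (.leaf ⟨4730438059576711462915, 9444733810370496438278,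 9448193982534011338761, 28335353507778631069698, 37790461360027962720264, 4725826654895821819914, 4731590417993976283138⟩))))) (.node (.node (.node (.node (.node (.leaf ⟨8073265694382268418, 9452805105808593428483, 37785851362790810349576, 18892927229267326042120, 37782392879889405444100, 14175172714578179022848, 37782390628020805210120⟩) (.leaf ⟨42503606441116971302920, 33058872067727969779716, 33062331676666720423939, 33065791566874272600067, 4733897105909089316866, 37790461641365651488770, 18900996273043165704196⟩)) (.node (.leaf ⟨4733896824296807895045, 42509368796496611246084, 33064635830619831541769, 47228278485520920637450, 23623363600337623597065, 42512830094422627610625, 18897536944960933199879⟩) (.leaf ⟨37788156361443830136835, 8071295163386859528, 28334199741917847097353, 42510523970213231210503, 47225970671980711530504, 4731592388662410649600, 18892925540829715525640⟩))) (.node (.node (.leaf ⟨281474976710656, 1152921504606846976, 47223664828696452136960, 1, 40960, 167772160, 687194767360⟩) (.leaf ⟨37783543831137827721219, 47229431969975447334917, 37789308156911024103434, 47227126408097629741056,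 42504759643821643399173, 33057719146429454254089, 18896384024006048628742⟩)) (.leaf ⟨47228278203977140572169, 4723519967667853234186, 4732743339498599886851, 42503604752198341234696, 14174019792661255303173, 23617597585508475625481, 42508217564322800373762⟩))) (.node (.node (.node (.leaf ⟨14174018948442500395011, 18898689866465523281928, 14170560465541095489543, 37787005128926522531840, 14170558213672629473283, 4611967837051817986, 9449346059201320849411⟩) (.leaf ⟨18890619697614326595585, 47230585172611316092931, 37781240239859808882691, 33064636675319589277703, 42510523406919713964032, 33060026678357197357059, 33063485442939787706378⟩)) (.leaf ⟨9444735217745396776968, 37789309000923670917123, 47235196577429627895815, 9225342980217384963, 4728131934886362611716, 23612985335921602732036, 33064636675525781237766⟩)) (.node (.node (.leaf ⟨42501300598176510656515, 14169406136043196919816, 47235194607104790900743, 3460734976146812936, 4728133342261363605508, 23612985335921686646788, 33064638082900748697606⟩) (.leaf ⟨2308376421510180874, 18894079587890615025672, 42504757673909140066307, 42502451267537656102913,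 47235194325767286697992, 18896385712718369292290, 9444732965876779741194⟩)) (.leaf ⟨28339965475272035180546, 9451653028179311874058, 4733897387384217018371, 37781239395503581466632, 42507065768443289571335, 42505911720832701321222, 37781240239447492009990⟩)))) (.node (.node (.node (.node (.leaf ⟨37780085066555354787850, 47227123874754002432008, 37780085628955585974280, 14176325635945330155529, 42510523970350720524289, 47234041966869170106378, 4733896261415473291267⟩) (.leaf ⟨9449346904176073936902, 37781239676566190968836, 33062332239685242327040, 23622210678558205972490, 23619902865086733115392, 33058872349409004249092, 18892927511017046425608⟩)) (.leaf ⟨8072420857185607683, 14171713104952250351626, 4728132779655007604743, 23622211241645581570056, 9224779824122318848, 18897538634223110348804, 33063484035564853813252⟩)) (.node (.node (.leaf ⟨42501300316838939361290, 14169406417861670338561, 37788156642643845087236, 14175170744184589004808, 18898691555521441333248, 9225343049054326790, 14170559057547820560393⟩) (.leaf ⟨28341117552695309242370, 9450500388355789852676, 42508218408266710929409, 9449346340745033830405,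 4723520811886742376451, 37789308719998500376582, 14169406981155237957635⟩)) (.leaf ⟨47225971516199382560775, 23618752195175781502985, 14167100012177431482376, 37787004283951803031557, 33065789034217957511174, 42503607003654540754947, 23621057757259774304257⟩))) (.node (.node (.node (.leaf ⟨23619904835480239230978, 28338812553973519646722, 47227123593691426455558, 33057720553873040474120, 42509369078177729634313, 9448193419240443756551, 28334198897424130396167⟩) (.leaf ⟨14169406699268028256263, 33064638364100813950985, 6917810708776239108, 28342270755125002797061, 9224498005615329287, 28336506429558099046408, 23622209271320694251525⟩)) (.leaf ⟨47228277640889697857539, 42501299190458012962822, 42510523970144562081801, 28335353226647167856649, 37790463892959155732483, 47232889608245663014922, 4731592388799866372105⟩)) (.node (.node (.leaf ⟨8073265694466154505, 9449346059201320849411, 14174018948442500395011, 33060026677876177797123, 14170560465541095489543, 14171711416171092791296, 37788155235200242032648⟩) (.leaf ⟨14169407825442762678272, 9445888702406132277256, 33061179599587026964488, 9453959153144488271875,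 14175171306859714846730, 18894080432727962693636, 37783544394087714029569⟩)) (.leaf ⟨8072702744462360581, 33058873193765298782213, 33058872630884048072712, 5766577916708139008, 14170560183722538176512, 4732744465879526293510, 23616444663935115735047⟩)))))) (.node (.node (.node (.node (.node (.node (.leaf ⟨4725825528927312949251, 37790463330490406412296, 37788158050293707218946, 9453958590263287914506, 4732743621042212188161, 4723521937855251222531, 37790463892890570489866⟩) (.leaf ⟨18892925259286002536454, 23612986180965108846593, 47229430562531810775042, 42512828968866368462851, 9447041623910621667330, 28344576035802755141635, 23612987024977604665353⟩)) (.node (.leaf ⟨14177478275768952848386, 4723520249417707847690, 563156178964489, 33064638645919287377924, 47223667080908649795593, 23621057194447293390852, 9447039371973402562560⟩) (.leaf ⟨28339965193659619483648, 37787003439732980994057, 42503606722110827802634, 4730437496558055342081, 14171711135039830917122, 18892926948135829262345, 28339965756678275637256⟩))) (.node (.node (.leaf ⟨37778933833831888756746, 9455112074717730713606, 42507065205768297918466,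 33058872349546560634884, 14171713668314503839752, 18892925822029898219528, 14170559339160202645509⟩) (.leaf ⟨9449344652376260214791, 33064635830619831541769, 47228278485520920637450, 28335352944759991726082, 42512830094422627610625, 33061179599380767834116, 47224819720800807428102⟩)) (.leaf ⟨37782391753920678461448, 4612530649650176003, 23611834666629243867145, 42504759362690196996100, 4724672326360063037448, 47232888763958222168064, 33060026396744815243272⟩))) (.node (.node (.node (.leaf ⟨37783546082800269537280, 28337660476618897911818, 47223667643652411256838, 33065790722999098302471, 9225624386491396105, 42510521718138673836040, 47225972360555576455178⟩) (.leaf ⟨42511675202318238777354, 14175169899484931960834, 23617599273808580091907, 37783545519712810065929, 47231735842384946151434, 33060026396744915898370, 23617598710789890383872⟩)) (.leaf ⟨9448193137834320752645, 37788156079418963410954, 47225973487074042449926, 9447041623910638452745, 14171713949995672551431, 28337660195281360134152, 42509371330183735296003⟩)) (.node (.node (.leaf ⟨33063484035564853813252, 8072420857185607683, 14171713104952250351626,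 4728132779655007604743, 23622211241645581570056, 9224779824122318848, 18897538634223110348804⟩) (.leaf ⟨9448193137765483843585, 23622210397426843402242, 4728132216498895740936, 42512828968316612644866, 9447039090635864825862, 9453958871738231037955, 23614140791250873245698⟩)) (.leaf ⟨37789310408298504159235, 4723521937992639873028, 3460734976146812936, 4728133342261363605508, 28345728112951184859143, 33064638082900748697606, 9444733810370429349896⟩)))) (.node (.node (.node (.node (.leaf ⟨37778932707657003335688, 33068096284533368852480, 33063485723865092489225, 28342271318281232068611, 37781237706516181581828, 37782391190970691502088, 33068097410501928026120⟩) (.leaf ⟨14176323102258357084166, 14174017822405121032194, 42511677172986740248577, 9456264995603879059464, 47232888763820732862472, 28336506148014436425732, 9455109541030707351558⟩)) (.leaf ⟨47227124719591215869956, 33057719709379424456713, 37784699004373579087881, 2252143511748613, 18894079588371701731334, 18897538071135701180422, 14167101419414808977418⟩)) (.node (.node (.leaf ⟨23622210397426843402242, 4728132216498895740936, 9445887576781002678281,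 9447039090635864825862, 42504757673359384285192, 28344575753846742077449, 42510523407332131479562⟩) (.leaf ⟨37783544675356549066752, 14177476586712917364737, 4732743057886133899268, 37790463892821850988547, 9449346341157434560520, 47225970671705699397639, 47223665392264914419719⟩)) (.leaf ⟨9451650776585555947524, 37788158050431112577031, 47224818595038339567626, 42512828405435395493896, 37790462204178132377604, 28336504740776891138057, 9455111511630388670468⟩))) (.node (.node (.node (.leaf ⟨8073265694466154505, 42509370485896109924360, 37784697596655114928136, 18898689866465523281928, 14170560465541095489543, 14171711416171092791296, 14170558213672629473283⟩) (.leaf ⟨4724674859772225282050, 37780087036399172227078, 28344577724102960238598, 9453958026832264601607, 37789310971935753015301, 18895231102295249788929, 28343424521123410223113⟩)) (.leaf ⟨28343425084416927477762, 4724672888897632473091, 23617597584958669475844, 9448194263734093389829, 23622210115402161201162, 9456262743941554671619, 33066943081622437629958⟩)) (.node (.node (.leaf ⟨9444735218226298916871, 9444734373801385537543, 10378264553644396551,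 47224820284025621983235, 18897538634360515764224, 33060024426694889725955, 9455110667205441785866⟩) (.leaf ⟨9445888421068594520064, 28338811991298427334665, 4731591825506365906952, 23621057475853517062145, 14169406418067812028421, 14171712260939653877765, 33057720553804388143109⟩)) (.leaf ⟨28336507555595461595146, 28335354352134757842946, 4728132779861132451846, 23614138539176114528263, 42510524533231988015106, 18892925541104559869958, 42511677173055392587782⟩))))) (.node (.node (.node (.node (.node (.leaf ⟨14170560465541095489543, 14171711416171092791296, 14170558213672629473283, 8073265694466154505, 42509370485896109924360, 37784697596655114928136, 18898689866465523281928⟩) (.leaf ⟨18894078743534471491594, 3459609419938029577, 37788157205525129367561, 4728133342398769041414, 47235194888167517859848, 37784697033567756132362, 37789310690185864843265⟩)) (.node (.leaf ⟨28334201149498889117705, 9453958590125714714628, 47234041122719117893640, 47232890734489234350080, 33060024989438701498371, 14176323947095486627848, 4613938368047226888⟩) (.leaf ⟨47224820002413340532746, 42503606440842059853831,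 42512829812810161610760, 9451653309860430249988, 37790463048603012206596, 14170561027941376983044, 23622208708095896469506⟩))) (.node (.node (.leaf ⟨33056566788149729034247, 28339964631053129220099, 18889466776384715108359, 37785849955347190542343, 23617599555283607097350, 18898691837202660343814, 42509370767302417473545⟩) (.leaf ⟨10377982391321886724, 14167099448677806125056, 8071013482201350150, 14167099448677789343744, 9444732965808144134144, 47223664829246224769024, 5765733422941077506⟩)) (.leaf ⟨42507065768237147918338, 4732745028898132086786, 9447039653379743698945, 28336505866264531439622, 47229431125687889059842, 47225972361105315500035, 14168254903732030947336⟩))) (.node (.node (.node (.leaf ⟨23623363599856620822536, 23622211523120575057925, 28339966038702924242953, 18895232228263825805322, 47225972360761835524106, 9447041342435661742090, 9455110948680535932937⟩) (.leaf ⟨47225972642374217633794, 47231736405747233214474, 18889465931959768195079, 4730439467363995754501, 33066941674247453437959, 18889466494703412211721, 18894078744084227334145⟩)) (.leaf ⟨9450500106949599715332, 14178630352986034937861,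 9455112074374133350401, 23622211241851756769285, 37789309001061009215497, 42508218408266710913029, 4724673170647419990025⟩)) (.node (.node (.leaf ⟨14168255185275777490946, 14170560746741160747010, 33066943081691140345865, 23614140228026025119750, 23615293712274410180617, 42507064642474713559041, 47225972361174034976773⟩) (.leaf ⟨33068097128958298963976, 14176322820783380393989, 28342270192862277697542, 47230584610005077479426, 9451652184166547607553, 28337659632537598705670, 14177478275494074916864⟩)) (.leaf ⟨18896385430968531427331, 1689331064401923, 28334200023667617845248, 9225624317822255105, 28338813116992226099204, 23623362192756598394884, 14171713668245834723335⟩)))) (.node (.node (.node (.node (.leaf ⟨42501300316838939361290, 37789310127235944939530, 37788156642643845087236, 37783545800912841768963, 33060024989576173989888, 3459890482463645701, 14170559057547820560393⟩) (.leaf ⟨23614141072725833191430, 28341117833757985869831, 42508218127272753762305, 9447040498148170571778, 9451651339879190634505, 47228277078214672678917, 42502453238068601180165⟩)) (.leaf ⟨28336505021977040265222, 28339966038702924242953,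 18895232228263825805322, 4732744184335779799041, 9447041342435661742090, 42503605596417079390210, 28335352945240994500611⟩)) (.node (.node (.leaf ⟨47223667643652411256838, 33065790722999098302471, 9225624386491396105, 42510521718138673836040, 47225972360555576455178, 37783546082800269537280, 28337660476618897911818⟩) (.leaf ⟨37788155235681328734216, 14169406417518207205382, 42512828124372601425921, 18899843069994795565058, 9445887576643563720706, 37784698722967321862153, 18890621386739131904003⟩)) (.leaf ⟨2252143494971398, 18897537508116994727942, 33064637519744552935429, 37778933833763035045889, 4725826373764408946695, 33068096284327143284745, 37785849955072312635401⟩))) (.node (.node (.node (.leaf ⟨37790463329871931150339, 37788158049950109798409, 9453958589644812587009, 47225972923711805730817, 47235194606898766680067, 37790463893371606806529, 47232891015551827062787⟩) (.leaf ⟨9451652465435533672456, 14168253215019576074241, 4729286264040730943488, 28337660195281494343682, 23621056912766107926537, 23616444382047872516105, 10376575153927655434⟩)) (.leaf ⟨16777216, 687194767360, 281474976710656,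 11529215046068469760, 47223664828696452136960, 10, 4096⟩)) (.node (.node (.leaf ⟨3461016519910109193, 9453956338051157360643, 47234042811087908270090, 37787004846970408808448, 28343425084622968483850, 4722366764550813925381, 18898690429965232525316⟩) (.leaf ⟨14169407262492742131717, 18900997398668194648070, 28338812272773487951881, 23621057194378523574273, 14171713105364634312709, 42512830094353975255040, 47227125564016297025539⟩)) (.leaf ⟨33060024426694889725955, 9455110667205441785866, 42501299190320456540164, 9444734373801385537543, 2306968977873575940, 4733896261071993339912, 33061177910737099558912⟩)))))))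

def reps4 : Tree (M7) :=
  (.node (.node (.node (.node (.node (.node (.node (.leaf ⟨14170558494803908104201, 9453958590263287914506, 47225972924055403134986, 47235194607242364100616, 14168252652207044833281, 4725825528927312949251, 37790463330490406412296⟩) (.leaf ⟨9453956619594736111626, 37782392598002128678914, 23615293430799450279946, 14168253496357080281094, 42509370767164978511873, 11531186058234462216, 33056565943243712266249⟩)) (.node (.leaf ⟨5767422822557184007, 23616445789216513732614, 3460735525902643204, 28336506429558099046408, 23622209271320694251525, 37789309845829587066884, 33064638364100813950985⟩) (.leaf ⟨28337659632468912803844, 28342271318624829448197, 4730437777826823294983, 33064638645369665781764, 42507064079662081675270, 9455111511355544334345, 23618749943788184027139⟩))) (.node (.node (.leaf ⟨4723519967667802877956, 9225342980217384963, 47230584610211252666375, 28345728112951268773895, 18894079869571834085381, 9444735217745396776968, 37789309000923670917123⟩) (.leaf ⟨4728133624354698199041, 42507065768718234562568, 23623363318656505245698, 18896385993849832497154, 42503605033948179091464,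 23619905116886462898181, 23614138820925952364546⟩)) (.leaf ⟨33061177910737099558912, 33060024426694889725955, 9455110667205441785866, 42501299190320456540164, 9444734373801385537543, 2306968977873575940, 4733896261071993339912⟩))) (.node (.node (.node (.leaf ⟨33068096284533368852480, 33063485723865092489225, 28342271318281232068611, 37781237706516181581828, 37782391190970691502088, 33068097410501928026120, 37778932707657003335688⟩) (.leaf ⟨4731590136519066689541, 28338812272498509357057, 47230582920880238657545, 42512829249860258504713, 9448194263596654407685, 47230583483761522937862, 14177477431550030139396⟩)) (.leaf ⟨23612985898940275634185, 4729285700884652630022, 28336507555320550166532, 42504759925227934220290, 18898690148009236254726, 42503606722454576177158, 23614138539451026022401⟩)) (.node (.node (.leaf ⟨4733897387384217018371, 14177477149594033856515, 9451650776654325751812, 9452804824264914001925, 37781240239447492009990, 28339965475272035180546, 42507063516918303449089⟩) (.leaf ⟨4732744183992299823112, 14168254903732030947336, 42507065768237147918338, 47225971516199483236361, 9447039653379743698945,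 23622210678833083883525, 4729285419409726263305⟩)) (.leaf ⟨33060024707894954979333, 42509370767302417473545, 18889467620397210927108, 23618751914044301508616, 33056567632162224898052, 37785849955347190542343, 23617599555283607097350⟩)))) (.node (.node (.node (.node (.leaf ⟨9451651621147975368712, 28345728956688987353088, 14171713949583355703296, 42511676609761908908038, 18899844477163604578311, 18895230539001749327878, 42508217001029350227974⟩) (.leaf ⟨14170558213329032060936, 8073265625746640898, 42509370485277634596867, 14174018948236341952520, 33060026677876177776648, 14170560465060059152388, 37787005128308047237120⟩)) (.leaf ⟨9450498136555892269063, 37780086473792799412229, 42503607003929401896961, 28336507274189154041861, 37789310408917080100866, 42508216438423027716102, 47234041967006474862601⟩)) (.node (.node (.leaf ⟨14175171025453524721670, 9456264714609938665472, 4725827217983214194691, 14177476868600059928582, 33068096847345765851142, 28342270755812331782146, 23615292868330466050058⟩) (.leaf ⟨47227123593691376123910, 18900997398599408025603, 9449344933645112074242, 9448193137765584498695,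 23611832414898082566148, 23619903991055392989186, 28338811709548639825922⟩)) (.leaf ⟨42511676047086900482057, 4723522219742578356233, 37781238269053851697162, 42508217282366787317765, 9456264151453893939209, 14178631197067384475656, 28337659069175361970179⟩))) (.node (.node (.node (.leaf ⟨28344578005646589300746, 28345730646157339688962, 4729285700884652630022, 28336507555320550166532, 9453956619869681102857, 18898690148009236254726, 9455109822643039145989⟩) (.leaf ⟨18897537508116994727942, 37778933833763035045889, 33068096284327143284745, 2252143494971398, 33064637519744552935429, 4725826373764408946695, 37785849955072312635401⟩)) (.leaf ⟨37789310690460625309696, 14170558213260346159110, 4729286263972028243970, 28343423395635702808581, 33057718865092000366595, 28338812835723340709893, 42508217563910466723841⟩)) (.node (.node (.leaf ⟨42505911721382289346563, 37785850518159637901315, 33065791285399295897608, 14176325073064213610500, 37783546364412584546304, 37782390627677258158083, 8070732350956281865⟩) (.leaf ⟨9456264433203815649286, 28344577442696719802370, 42510523688463443730436, 18895230539207807111171,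 14177477994225206304771, 37781240521265965457413, 3461579813410582529⟩)) (.leaf ⟨47229431969975397011465, 5766577847921565702, 33061179599861854535685, 37783544394087781105668, 23622210678420716679170, 33060026678151122800646, 4613375074563522570⟩))))) (.node (.node (.node (.node (.node (.leaf ⟨42501300316838939361290, 37789310127235944939530, 14170559902453770235911, 37783545800912841768963, 18898691555521441333248, 9225343049054326790, 37788157486793880518658⟩) (.leaf ⟨14171713668314554187780, 1407855936696323, 3459609419854135297, 23623362192687878922247, 33062331113648047529987, 28334200023324020465664, 28338813116786067648519⟩)) (.node (.leaf ⟨42503604470998359879686, 42507065205287261601801, 18899844195894652059652, 14171713668245784363011, 18892925822510934536195, 14170559339641239019526, 14167100575058648670218⟩) (.leaf ⟨47225972079080683630593, 37783544112131751292928, 23621058601272286920714, 47223665110721335685125, 18892926666867128422407, 3461016863457181705, 9448191730528123125768⟩))) (.node (.node (.leaf ⟨47225973205117979086850, 28336505303245875335173, 37781237988128714690566,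 28337658506225492434946, 14168254622531865026566, 42510523407263361667079, 18896385994124693610506⟩) (.leaf ⟨37785851081315749765122, 23614141072519657975816, 23612985899215203893248, 18896385149562358099970, 9444733810782846849034, 18898691274527618400266, 33062330832585236684809⟩)) (.leaf ⟨33056565943243712266249, 9453956619594736111626, 37782392598002128678914, 23615293430799450279946, 14168253496357080281094, 42509370767164978511873, 11531186058234462216⟩))) (.node (.node (.node (.leaf ⟨4723519967874095517704, 14168255185000882778122, 47232888482277154127875, 14168254622600718749704, 37788155516675168444425, 9453957182269845184513, 47225971516336771203073⟩) (.leaf ⟨9445886732287453712387, 37790463048603012206596, 23622208708095896469506, 9455110104255555469316, 9451653309860430249988, 37788155517156238295047, 4733896542684274790401⟩)) (.leaf ⟨9455110948680535932937, 23623363599856620822536, 28336505021977040265222, 28339966038702924242953, 33063484316833789517825, 4732744184335779799041, 42511675202661953581057⟩)) (.node (.node (.leaf ⟨28343423395567016906759, 9450498699505996668934, 28338811709686078775302,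 9447039653448412852226, 4726980420687886307332, 28341116426589109776387, 18897539196760646234116⟩) (.leaf ⟨23612987587790085578758, 42501301161126497624066, 6920062852338298887, 14169407262630231433222, 33062331113854088544260, 9453958590057012043783, 37785852207147037782019⟩)) (.leaf ⟨42508218690154121953282, 9453957463744805076992, 37784697596448855822336, 9452804542240164712457, 14169406136592852099082, 47227123593760145948676, 23612987587790203019267⟩)))) (.node (.node (.node (.node (.leaf ⟨47223664828696452136960, 10, 40960, 16777216, 68719476736, 2814749767106560, 1152921504606846976⟩) (.leaf ⟨37790461641365584375811, 9451650776860467404809, 47225971516199483236361, 9447039653379743698945, 28336505866264531439622, 4729285419409726263305, 47225972361105315500035⟩)) (.leaf ⟨14171713668451959582720, 28343422551348178075658, 4722369297825721774085, 18898691274390078775300, 9225624386541727746, 42504757110821798051848, 47234042529612847661066⟩)) (.node (.node (.leaf ⟨33063485723865092468738, 23616445226472785850371, 14177475742700287328260, 37782391190627094130691, 18890619135076723589128, 37778932707863161745411,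 33068096284189771440128⟩) (.leaf ⟨4733896261071993339912, 42501299190320456540164, 18897538634360515764224, 9444734373801385537543, 18898692118402725597192, 10378264553644396551, 42503605877892173537281⟩)) (.leaf ⟨23618751914113020985347, 37785849955278471053316, 18898691837133940879365, 33056566787531253743620, 33056567632368383307783, 28341116989332971851782, 42509370766821381132290⟩))) (.node (.node (.node (.leaf ⟨23623364163012715880450, 42510522000025933848586, 9448193982190464274441, 9449347185376273391621, 23618750506806940803073, 9451651339810370498561, 4732744465604681957384⟩) (.leaf ⟨4725825529064718352386, 1154610904306819078, 9451651339810404073472, 42507065205424650211332, 42507064079318517829640, 47223667362039995576329, 37781239395297355931656⟩)) (.leaf ⟨28343424521054573305863, 42502452956731147300869, 28341118678320271073287, 37787002595101875675143, 23617598992402423517192, 4724673733597390176262, 9225905930137243650⟩)) (.node (.node (.leaf ⟨42504759362827770138634, 47225971516336771203073, 4723519967874095517704, 37790461360096732545025, 47232888482277154127875, 37790461922496896573443,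 14170561028422446878722⟩) (.leaf ⟨37789309564354660683780, 33064636393775960170505, 5764889547766775815, 28342271036599979487237, 9225342430461587463, 28336506148083071991816, 28336505303451933106182⟩)) (.leaf ⟨4731590418337590423557, 28345730364682362953737, 37783543830588004761602, 23616444381979085897736, 33061177347581071626242, 9448193982121811943427, 14167101700889852788746⟩)))))) (.node (.node (.node (.node (.node (.node (.leaf ⟨9224498005497909253, 14170560464922620227586, 9444734936751422844938, 14169407262355470942218, 14170559620772584763396, 37783544394018994552840, 33060026396607342718976⟩) (.leaf ⟨9450498417824861560842, 9447040498148170571778, 9451651339879190634505, 4730439466882942644230, 42502453238068601180165, 28344575472371782131717, 23617598711339629453316⟩)) (.node (.leaf ⟨9455110667342863949833, 9445888421068611260421, 4724672889035021127685, 28341116989470377271297, 9456263588572710322182, 14178629227017408618505, 37782390909564518162436⟩) (.leaf ⟨33066942799735060185092, 37783544112337892933635, 18898690430033851351048, 14176323947164256440325, 37778933833488207486986,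 42511674921530456834053, 9450498418305897889801⟩))) (.node (.node (.leaf ⟨42504757110821798051848, 47234042529612847661066, 14171713668451959582720, 28343422551348178075658, 4722369297825721774085, 18898691274390078775300, 9225624386541727746⟩) (.leaf ⟨9447039372042222735365, 28336507555595461595146, 28335354352134757842946, 47230583765236482871301, 23614138539176114528263, 9448192011865627308041, 33065791003993055453189⟩)) (.leaf ⟨14176323102670690717705, 9448193982121694502922, 47234043374243902685194, 4733898231740394115075, 37780087599830061318154, 4731590137068705034243, 14178629508767296819203⟩))) (.node (.node (.node (.leaf ⟨42510523969801015042057, 42509371329977610424325, 28339964068171979198465, 9451652746704335155210, 4732744184198374391811, 28335354352340899500034, 42510524532682232176641⟩) (.leaf ⟨23619905117298830098438, 47223665954940090609664, 9456263870253811916806, 28334200304867632754694, 23616445226404066381832, 18892925822442080845824, 42507063516780881285124⟩)) (.leaf ⟨42507062953556066738186, 18899844477026064924675, 37780087317736626102278, 11530060089591353345, 37787004565495482433540,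 37788157487274916847616, 14167101419483662680073⟩)) (.node (.node (.leaf ⟨37788156361375077146624, 47225972079218089029637, 23616444663935115735047, 8072702744462360581, 18899843351332316540934, 33058872630884048072712, 6918655614809833472⟩) (.leaf ⟨33063485161189849210880, 28344576317071640530954, 28342269348299975712768, 18891773745156279263236, 18898692118540080672771, 9452805668689944780805, 14169406417999193198596⟩)) (.leaf ⟨9452803698090196361218, 9453957745769537630215, 28334198897767727783943, 28342271318349968330761, 28342270473993690558466, 4725825247864569200645, 18890621105264155164675⟩)))) (.node (.node (.node (.node (.leaf ⟨37781239395503581466632, 9451650776654325751812, 42505911720832701321222, 14177476305650123313157, 23618751069825580142601, 42507063516918303449089, 4733897387384217018371⟩) (.leaf ⟨9450497573262324690944, 2814887340277768, 33058871223096730214400, 282024766078979, 2814956059754505, 2251868700934154, 28342269347750119247872⟩)) (.leaf ⟨47227123593760145948676, 23612987587790203019267, 9450497854943493369865, 9453957463744805076992, 14174018948648759500800, 42505912002857266061314,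 37789310408504763224065⟩)) (.node (.node (.leaf ⟨23619904553730334273542, 28344576879884138213384, 14177477150006384283655, 5764889547766775812, 9225342430545473540, 28344577724515176435718, 33061179599930574016521⟩) (.leaf ⟨9447041061098191093767, 14176323102189620822023, 9456264433203798888456, 23614138257563648540681, 9450497855081033007111, 47235194888579918602241, 14178630634460994871300⟩)) (.leaf ⟨9445887294756354007048, 9447039090635948707842, 23614139101919825661960, 23612986743502745391113, 18892927229610923433990, 23612987588339874930689, 4729285138140891222025⟩))) (.node (.node (.node (.leaf ⟨42504759362827770138634, 4732745028760844120074, 47235196577223519805443, 14168255185000882778122, 47232888482277154127875, 37790461922496896573443, 37788155516675168444425⟩) (.leaf ⟨33066944488585071439879, 14167101982296177152004, 28337658225025360072707, 4725826091945918754821, 42507062953418644553733, 28342269911043720364039, 37781237987441385672706⟩)) (.leaf ⟨42509368796496611246084, 33064635830619831541769, 47228278485520920637450, 23623363600337623597065, 42512830094422627610625, 18897536944960933199879,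 4733896824296807895045⟩)) (.node (.node (.leaf ⟨8072702881985241096, 42512830375691412332546, 23621058320347116347401, 9449346904244793393159, 18899843914007341727747, 14171711698195925991428, 14171711697989650108419⟩) (.leaf ⟨33066941955653727432708, 37778934396644403191812, 23621056349678749130755, 47232889045295759900677, 42507062954037136621574, 28342271881437360701444, 14177476023625407569922⟩)) (.leaf ⟨5767422341571178498, 42509371611727448272896, 4732745028279690342410, 33065791004405389066244, 14168254903800750419975, 42507065205355964309506, 9226186786772905986⟩))))) (.node (.node (.node (.node (.node (.leaf ⟨47232888482277154127875, 37790461922496896573443, 37788155516675168444425, 42504759362827770138634, 4732745028760844120074, 47235196577223519805443, 14168255185000882778122⟩) (.leaf ⟨37785849955278471053316, 18898691837133940879365, 33056566787531253743620, 33056567632368383307783, 28341116989332971851782, 42509370766821381132290, 23618751914113020985347⟩)) (.node (.leaf ⟨4613093943133863937, 4729286545653196939273, 6919499352528408582, 18897538915766739415045, 37783545800844239699975,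 23622209834339501371401, 18898691837065221398534⟩) (.leaf ⟨9455111511355544305667, 4733897387384217042946, 18899843069994879451143, 37790463611690371002370, 33062331395191626309635, 18900997117468011937796, 18892927510742302724104⟩))) (.node (.node (.leaf ⟨42511677454393014247429, 42512827842416605155331, 14170558495216241745926, 4731592388318762917891, 14172864900969384656898, 28344576598477847437316, 42503606722523228573697⟩) (.leaf ⟨28337658506431650881546, 4731589855387586691073, 28344575753778173616131, 9447040497804673814531, 33064636393844646125575, 37788157205456393113600, 14171711979327322099715⟩)) (.leaf ⟨42501300597695340122116, 33061179318112033480704, 42501299753270426742788, 18898689585127951982600, 2307813402921177092, 42503605596417112969217, 4733898231396679299080⟩))) (.node (.node (.node (.leaf ⟨28344575754327845543938, 4728131653411503374346, 42507063234962290388995, 28335353507984688824322, 18896384024143454035977, 9455110104392910528520, 28338812835242287599621⟩) (.leaf ⟨4729284575122218311682, 28336505866676898643977, 6918654927682162693, 33060026678151122800646, 33061179599861854535685,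 8071858456954404865, 37783544394087781105668⟩)) (.leaf ⟨47225972079424280985605, 3459327601229733890, 28337658506156655546375, 9445887576643580473350, 28339964349646939131911, 14175170180753733492740, 28339965475271917735939⟩)) (.node (.node (.leaf ⟨33060025271119803076615, 14171712823958293192706, 14167099449021369982983, 6917529302653227013, 4722368735219332182020, 18896384587024721534984, 18895233353888921821189⟩) (.leaf ⟨42503606440635951742977, 14169406699680345096193, 9444734092257739706378, 37780085347480575676424, 47228278766789571133443, 23616446915528871653385, 42503605596760827764739⟩)) (.leaf ⟨28343425084142066372617, 42502453519199997296650, 37778932988857085337602, 37787002313970496311300, 28345730082588944510985, 47229430281194323337220, 33066942800147377037312⟩)))) (.node (.node (.node (.node (.leaf ⟨33063485723865092468738, 28342271318624829472776, 14177475742700287328260, 14176325354470336643080, 33068097410020891688963, 14167101700683778261000, 33068096284189771440128⟩) (.leaf ⟨14176325354332964823045, 18899842506632458170377, 47225972924124105826312, 37780085629436622311425,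 18889466213091030106112, 8071295025964679175, 33056568195043593052170⟩)) (.leaf ⟨47230584891686111948801, 42507063234962290388995, 28335353507984688824322, 33062332520954161287170, 9455110104392910528520, 23619903709855327723526, 23614140790769769779209⟩)) (.node (.node (.leaf ⟨28339964068171979198465, 9451652746704335155210, 4732744184198374391811, 28335354352340899500034, 42510524532682232176641, 42510523969801015042057, 42509371329977610424325⟩) (.leaf ⟨37787005128376615698441, 37778934115031970770954, 28338810865329918443528, 4725827781139393163270, 18894077898972018515970, 28335352663766017777666, 9453957182269962625032⟩)) (.leaf ⟨9224498624124166149, 14176323665070770909193, 9444734092326492712961, 14177476868462788739073, 37782392035327019614212, 14171711979189732126728, 33065789596755493400576⟩))) (.node (.node (.node (.leaf ⟨37788156642643845087236, 14175170744184589004808, 33060024989576173989888, 9225343049054326790, 37788157486793880518658, 9444734091708000645121, 37789310127235944939530⟩) (.leaf ⟨28343423676904604966919, 18889467902353240764417, 42509369359721358704643, 33063484316971127836679,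 33056565661562560339976, 23618750507013099261956, 37785851080834763735040⟩)) (.leaf ⟨18889468183759447687175, 28341118960138895495173, 9449346622220044099586, 28339965475478059352067, 14172864619425638150148, 18898689866877773049862, 33056567069624621858823⟩)) (.node (.node (.leaf ⟨23617597584958719827974, 42509369922877571223561, 28339965475478059352067, 14172864619425638150148, 33060026678219842273285, 33056567069624621858823, 33056566224787492319236⟩) (.leaf ⟨47235194325355036966914, 37781238269053851697162, 42508217282366787317765, 42502452393643721383938, 14178631197067384475656, 23621057475922253352968, 9447040498010714841090⟩)) (.leaf ⟨14171711698195925991428, 14171711697989650108419, 4612530649532731395, 42512830375691412332546, 28337658224750498975746, 42509369640852821929988, 33058872631090089046024⟩)))))))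

def reps5 : Tree (M7) :=
  (.node (.node (.node (.node (.node (.node (.node (.leaf ⟨47232891016170302373896, 14168253214607208910851, 37788158050293707218946, 9453958590263287914506, 47225972924055403134986, 4723521937855251222531, 14168252652207044833281⟩) (.leaf ⟨9224498211756969987, 4725827780864448172037, 18890621386326697586693, 14176325636082769100802, 37781238832278733348865, 33068095158083538395139, 33068094595271174922244⟩)) (.node (.leaf ⟨42507065205287211249664, 9451651339672965111815, 9451652465779097493507, 47223667362039995576329, 37781239395297355931656, 47232891016032896970761, 1154610904306819078⟩) (.leaf ⟨33058871223715205509124, 47228278485658342805505, 18889468465028249186306, 33056565380362427994119, 33061178192074637316097, 4726978732525338238982, 4724674296616079892482⟩))) (.node (.node (.leaf ⟨23622211523120575057925, 28339966038702924242953, 18895232228263825805322, 47225972360761835524106, 9447041342435661742090, 9455110948680535932937, 23623363599856620822536⟩) (.leaf ⟨14171711697989650108419, 4612530649532731395, 42512830375691412332546, 28337658224750498975746, 42509369640852821929988,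 33058872631090089046024, 14171711698195925991428⟩)) (.leaf ⟨33058872631090089046024, 14171711698195925991428, 14171711697989650108419, 4612530649532731395, 42512830375691412332546, 28337658224750498975746, 42509369640852821929988⟩))) (.node (.node (.node (.leaf ⟨9451650776654325751812, 42505911720832701321222, 14177476305650123313157, 23618751069825580142601, 42507063516918303449089, 4733897387384217018371, 37781239395503581466632⟩) (.leaf ⟨42507063235374724710409, 9448193700646700974080, 37785851362378392801280, 42509369922946156470281, 37781238550597631741962, 47232888201283180183559, 28335354071140834234371⟩)) (.leaf ⟨18896384587024755073032, 1407649778266120, 28334200867748967370752, 9224216736729939978, 28338811146461213917191, 23623364163012833333255, 14171711697989734002692⟩)) (.node (.node (.leaf ⟨4731592670343612891139, 37780085628955585974280, 14176325635945330155529, 9448192574746894798858, 47234041966869170106378, 47224820283682142031880, 14178631478542260535297⟩) (.leaf ⟨33057719146292048822275, 42509371611521222729730, 9448193138246620823556, 28334198897767711002628, 23619903991261551415305,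 28338811709479920369673, 47227123593485217693701⟩)) (.leaf ⟨28334201149292579692553, 42510522562838347677703, 4732742776892310966275, 47227126126760024907776, 18892926948204649398280, 14170559339228972449800, 8072702538354270216⟩)))) (.node (.node (.node (.node (.leaf ⟨8073265694466154505, 42509370485896109924360, 14174018948442500395011, 18898689866465523281928, 37788156079556519788548, 37787005128926522531840, 37788155235200242032648⟩) (.leaf ⟨37790463329871931150339, 14170558495147505524738, 9453958589644812587009, 4732743621385809592330, 4723521938198848643080, 14168252651726008516618, 47232891015551827062787⟩)) (.leaf ⟨14176322820852066295811, 4611967837135704073, 42505911439288837345288, 37785851362790810349576, 18892927229267326042120, 14176323665208209833991, 14175172714578179022848⟩)) (.node (.node (.leaf ⟨9450499262593338736647, 28338813398261077901312, 37783545519781630181384, 9450498136624712405002, 18891774307900074258437, 33065790441317828939776, 42505911720901370470404⟩) (.leaf ⟨33065789596961685389320, 37788157205525045444616, 4612530649566289928, 23611833259048201920521, 9448193982602680500231,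 47225970672186718965763, 4731590418131432022016⟩)) (.leaf ⟨4726978450569258086400, 14178630353192092700681, 14176323384214370164741, 33064637801150826942473, 10378545753642508292, 14175170744184706441224, 47231736968697169858568⟩))) (.node (.node (.node (.leaf ⟨37784699003892442075146, 37789308719860943953921, 33064636957138264010753, 9224216736813834242, 37788156361100148875273, 47230584610073780195333, 47235196295542451765256⟩) (.leaf ⟨37790463611621718650888, 9451653309654238240770, 4732743620904924237833, 9447041061098107195402, 23622209833927134191622, 47229430843731926343689, 4732744465810756476931⟩)) (.leaf ⟨9448194263665424236554, 11531467464458113028, 4731592106775066710024, 37781239395297288802307, 11529778614547513348, 9445888420518805118983, 18892927511017180643328⟩)) (.node (.node (.leaf ⟨33062331114129083895816, 1689331064401923, 28334200023667617845248, 3459609213695717386, 28338813116992226099204, 28335354352341016928263, 37787002876851780599812⟩) (.leaf ⟨4724674015141103173640, 23612987869540091174914, 9453959153213207777281, 42504757954903097253890, 9452805949958662414341, 28341118960001423020042,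 9450498417824844754945⟩)) (.leaf ⟨4724672889035021127685, 28341116989470377271297, 9456263588572710322182, 14178629227017408618505, 37782390909564518162436, 9455110667342863949833, 9445888421068611260421⟩))))) (.node (.node (.node (.node (.node (.leaf ⟨14168252652207044833281, 47232891016170302373896, 37790463330490406412296, 37788158050293707218946, 42504757954834327408641, 4732743621042212188161, 47235194607242364100616⟩) (.leaf ⟨42511676328286881865737, 9456264714609921925126, 4732743339567352913926, 23618752477131727462401, 9445887295031131271173, 37790463611621752184841, 14170561028010046152708⟩)) (.node (.leaf ⟨23614140791113383944195, 9225061230379552768, 33064636675388442959876, 18896385431037250920452, 4613656343348252680, 14175171869466154790913, 47229430843938118340615⟩) (.leaf ⟨4722367327844398284804, 14171712542483433951234, 33062331113648013991939, 37778931863300876574724, 18895230820614114676741, 5764608004204810246, 33060026115544749989895⟩))) (.node (.node (.leaf ⟨18900996835718190866434, 37784699004373579087881, 2252143511748613, 33064636956725913591813, 18897538071135701180422,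 37778932989131946479617, 4731591825506214903815⟩) (.leaf ⟨33066941674178750709762, 18891771774900279185411, 33056567913843360014338, 37790463892890570461187, 4612812124626907146, 37787004565976569110534, 47234043655856351903746⟩)) (.leaf ⟨33068094595271174922244, 9224498211756969987, 4725827780864448172037, 18890621386326697586693, 14176325636082769100802, 37781238832278733348865, 33068095158083538395139⟩))) (.node (.node (.node (.leaf ⟨23615293149530598416388, 42508217845591618654213, 28338811709686078775302, 9447039653448412852226, 47231736123653630222343, 28341116426589109776387, 33061177347581054844935⟩) (.leaf ⟨18892926666317305491457, 42507065205218525347849, 9451650776722944561160, 4732745591710646566915, 18890620260907877437446, 42510521718138539646985, 4614219774287679490⟩)) (.leaf ⟨47225972923711805730817, 4723521938198848643080, 37790463893371606806529, 4725825529545788260360, 14168253215225684172808, 14170558495147505524738, 9453958589644812587009⟩)) (.node (.node (.leaf ⟨42509369078177729634313, 9448193419240443756551, 23611832414898065793028, 23619904835480239230978, 23619903991124095676425,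 4731589855181445005317, 18900995991224574803971⟩) (.leaf ⟨28339965193659602726918, 47229430562463057731590, 28339964349509567262728, 23619904554005346385928, 18894077617909409001480, 28335353789390996389894, 33063483754021124071432⟩)) (.leaf ⟨28337660195143971508226, 9450499262387113177098, 47234042529750269829125, 14178628945473729204226, 37782393161089537810441, 33058872912015393841161, 28336506710895552892933⟩)))) (.node (.node (.node (.node (.leaf ⟨2252143511748613, 18894079588371701731334, 18897538071135701180422, 14167101419414808977418, 47227124719591215869956, 33057719709379424456713, 37784699004373579087881⟩) (.leaf ⟨47224818313700936024067, 9444733810851415334919, 18897537226985581842432, 42501299753270426742788, 18898689585127951982600, 10377420128596795399, 42503605596417112969217⟩)) (.leaf ⟨47223667643996126081030, 33060026115132382797831, 9224217011607863298, 9453956338051157360643, 47234042811087908270090, 14171711698127206514688, 28343425084622968483850⟩)) (.node (.node (.leaf ⟨28345728956688987353088, 37787002595514259619840, 42511676609761908908038, 33058872067934010744836,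 33063482909115207933957, 9450499544068265095173, 9451651621147975368712⟩) (.leaf ⟨6918936814858305538, 42510523688463460483077, 47234041685806342475779, 4723521374836578332676, 9448192856153118511112, 42505910876820004147205, 37785850799909475741706⟩)) (.leaf ⟨37789310689842149990400, 37788155235131489021958, 4729286264178186670089, 28343423395429544390662, 33057718864748402995208, 23619903709992749924357, 9450498980843366670337⟩))) (.node (.node (.node (.leaf ⟨14167101700889936670723, 33068096284533368852480, 33063485723865092489225, 23616445226816383254536, 37781237706516181581828, 14176325354126739271683, 18890619134595687251971⟩) (.leaf ⟨9224498005648904198, 37782392879270930182153, 42501300316838922563585, 14177476868394069262346, 14176324509976754159620, 14171711979670768484355, 33065789597099090804736⟩)) (.leaf ⟨18897538352954258522122, 3459609419820589058, 14176324791176852967426, 47229431688225525633029, 47224820002000939810824, 37785851925878236254218, 14177478275837554888714⟩)) (.node (.node (.leaf ⟨47227124719591215869956, 33057719709379424456713, 14174017540724036235266, 2252143511748613,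 33064636956725913591813, 33061178473961914142725, 37778932989131946479617⟩) (.leaf ⟨28341117271151596281860, 28341118396776675549192, 9223935124414926857, 9456263870185092448261, 14171711416239829028871, 47234042529956445028358, 28343423113679807193092⟩)) (.leaf ⟨47230583202355248926726, 4723521656174183198728, 14174019511048822890506, 14169405854980469985281, 33064637801082107473930, 9225624317738377225, 14170559339228888600585⟩)))))) (.node (.node (.node (.node (.node (.node (.leaf ⟨37782390628020805210120, 8073265694382268418, 9452805105808593428483, 37785851362790810349576, 18892927229267326042120, 37782392879889405444100, 14175172714578179022848⟩) (.leaf ⟨18899844758913442410501, 28342272162980972986368, 18898690711233916592128, 14171712261008473980931, 42509370485758738063364, 42507065487037065879553, 9451652183891736821767⟩)) (.node (.leaf ⟨42501298627851707228169, 6920062508623495175, 14177476868737549230085, 33063484879783625523207, 9448192575159094255620, 14174019792729974784003, 28335354071140767125510⟩) (.leaf ⟨14169408106986442088450, 42507063798462049972227, 33063484598102607794181,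 47229431969906627190793, 23616444663660237840385, 14168252933681987997706, 23614139101919859216385⟩))) (.node (.node (.leaf ⟨9448193982121694502922, 4724673170853712637953, 4733898231740394115075, 14178628945267554004993, 47227126408028910288904, 37780087036330318503944, 14176323102670690717705⟩) (.leaf ⟨3459045988830822409, 5767422341571178498, 42509371611727448272896, 47225971516817924980737, 33065791004405389066244, 37790461641296864903172, 9451651339741651013641⟩)) (.leaf ⟨37787004565839079829511, 37788157487068758446080, 37778932989406874730505, 9451650494973207420938, 18899844477369662308360, 14178629226605075013638, 11530059608555020298⟩))) (.node (.node (.node (.leaf ⟨42510523688532163203081, 33060024144601437728778, 23611834103198153474053, 33068094595339793743876, 37783545238100478291974, 28342271036668849967113, 18894079869777891844102⟩) (.leaf ⟨14170561028491166363658, 4732743339910816100352, 14178629790104733876228, 47232890734420430962688, 42507064079937043464195, 4732742776892176756738, 37781240239653532995593⟩)) (.leaf ⟨42507064361343367802885, 9455110948474360733698, 9445887857981135015945,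 4733898512803020419081, 14168254904006841749512, 14169407825030462582785, 23615292867780693495816⟩)) (.node (.node (.leaf ⟨18897539196760629452809, 42510522562975803379720, 14167101700889852788746, 4731590418337590423557, 23612986180415252369410, 37783543830588004761602, 28342272163118529380355⟩) (.leaf ⟨23622209270977247858690, 42504758517853084225546, 23614139664801143484418, 47229430562325585223683, 9456263588229012262921, 42503604470723431653381, 9448192293271884566531⟩)) (.leaf ⟨33065791285399295897608, 14176325073064213610500, 37783546364412584546304, 37782390627677258158083, 8070732350956281865, 42505911721382289346563, 37785850518159637901315⟩)))) (.node (.node (.node (.node (.leaf ⟨14178630916142029348867, 14176325635945330155529, 42510523970350720524289, 4724674578228445216769, 4733896261415473291267, 14178631478542260535297, 4731592670343612891139⟩) (.leaf ⟨37788157205456376303621, 14167100575058648670218, 42503604470998359879686, 9451651339810353721346, 18899844195894652059652, 37787002876851830915080, 33065790722586680786952⟩)) (.leaf ⟨33058872912015393841161, 28336506710895552892933,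 23621056349953643814921, 9450499262387113177098, 4724674015347345494022, 37780087599623886118921, 14176323384008077512706⟩)) (.node (.node (.leaf ⟨47227126127103639040009, 47228278485520903860232, 9444733810370496438278, 9448193982534011338761, 23623363037318984253449, 37790461360027962720264, 47232889890201793503233⟩) (.leaf ⟨33063483190590151098370, 23616446070897766334467, 14177475742700203421700, 14176323384145499680776, 33068094876746084515843, 37778934115238162759683, 18890620542382971559936⟩)) (.leaf ⟨47232889326908091674628, 33068096002852149825545, 14172864619700516057090, 844768628207622, 18897538352541908111366, 33064637238269660139525, 14167101419208650547210⟩))) (.node (.node (.node (.leaf ⟨28345728112951184859143, 33064638082900748697606, 42501300598176510656515, 37789310408298504159235, 47235194607104790900743, 9224498555371159555, 47230583202836251672583⟩) (.leaf ⟨14169406699267927592963, 9453958871188475228161, 11531748458348150788, 11530059608538222596, 42502451830281484640263, 4725827499252149952515, 18898692118540131004416⟩)) (.leaf ⟨42507065205287261601801, 18899844195894652059652,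 14171713668245784363011, 18892925822510934536195, 14170559339641239019526, 14167100575058648670218, 42503604470998359879686⟩)) (.node (.node (.leaf ⟨42509371330183735296003, 9448193137834320752645, 37788156079418963410954, 47225973487074042449926, 9447041623910638452745, 14171713949995672551431, 28337660195281360134152⟩) (.leaf ⟨9453957463744805076992, 42505912002857266061314, 4731589855112725557255, 9450497854943493369865, 37784697596448855822336, 14169406136592852099082, 28345728957307412303880⟩)) (.leaf ⟨47234042529750370521096, 4726980702712685936647, 42510523688600815566850, 42504757955384083234820, 23617599273808529752071, 37780084784667943796743, 4728133623736323547146⟩))))) (.node (.node (.node (.node (.node (.leaf ⟨23611832414898065793028, 28338811709617376092169, 28338812553973519646722, 47227123593691426455558, 18900995991224574803971, 42509369078177729634313, 42510523125857171566596⟩) (.leaf ⟨37788155235131489021958, 4729286264178186670089, 28343423395429544390662, 33057718864748402995208, 23619903709992749924357, 9450498980843366670337, 37789310689842149990400⟩)) (.node (.leaf ⟨42508218690016599089157,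 23616444945410159575041, 4729286826853379641346, 9445887576368736133122, 14169405573436874457097, 42503604751854777438214, 37785851925809382596617⟩) (.leaf ⟨28341117271289085571076, 37780084784667943796743, 47230582921361291776001, 4724674015347244802051, 47231735842384929386500, 42510523688600815566850, 42504757955384083234820⟩))) (.node (.node (.leaf ⟨47225970671980560539656, 4731590418337590415360, 33065789596892965924867, 14170559339228972449800, 8072702538354270216, 23611833259254360313858, 42510522562838347677703⟩) (.leaf ⟨28338811428211152424966, 28344577724171662958601, 4728133624354698199041, 42507065768718234562568, 28335353226441110077449, 18896385993849832497154, 9455111511149436231683⟩)) (.leaf ⟨1155173991648890889, 28344576035321836236800, 42505912846801260531715, 28342270755262575964167, 14170560183516480421890, 28345729519776329379843, 4731592388181374296070⟩))) (.node (.node (.node (.leaf ⟨4730437215426759897088, 2308095152758988804, 14168254059032273227785, 37787004565907816091651, 37788157768887433170950, 47228278203702229094408, 18897537508116961206274⟩) (.leaf ⟨28335353226303570460674,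 37790463893302753128456, 4725826936370916007946, 47227124156778785308681, 47228277641095856275464, 9444735217745329688582, 42510523969938403639298⟩)) (.leaf ⟨33066942800147377037312, 28343425084142066372617, 42502453519199997296650, 37778932988857085337602, 37787002313970496311300, 28345730082588944510985, 47229430281194323337220⟩)) (.node (.node (.leaf ⟨28339964631053129220099, 18889466776384715108359, 37785849955347190542343, 23617599555283607097350, 18898691837202660343814, 42509370767302417473545, 33056566788149729034247⟩) (.leaf ⟨28334198897767711002631, 23616446071172661006338, 23616445226678944280585, 4725825247864619532293, 33068096847208393998344, 9452806231365003530242, 9453958027244631769095⟩)) (.leaf ⟨3460735525902643204, 28336506429558099046408, 23622209271320694251525, 37789309845829587066884, 33064638364100813950985, 5767422822557184007, 23616445789216513732614⟩)))) (.node (.node (.node (.node (.leaf ⟨28345728956688987353088, 14171713949583355703296, 42511676609761908908038, 18899844477163604578311, 18895230539001749327878, 42508217001029350227974, 9451651621147975368712⟩) (.leaf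 ⟨9445888139731039973383, 23611832696235653881858, 10377982597631340552, 33058872631021436682245, 37789309845829687717894, 42512827561010482126856, 14170558776485143928842⟩)) (.leaf ⟨10377138378758983687, 14168254059032273227785, 37787004565907816091651, 14170558776210182152197, 47228278203702229094408, 33061179036980654116873, 47228279329670855426048⟩)) (.node (.node (.leaf ⟨23611834103198153474053, 33068094595339793743876, 37783545238100478291974, 28342271036668849967113, 18894079869777891844102, 42510523688532163203081, 33060024144601437728778⟩) (.leaf ⟨4726978169369243172867, 37781238832484841459719, 18894079025284275798018, 14171711135314557825029, 18895232227989082099721, 9225061299031924740, 18895231383838979538953⟩)) (.leaf ⟨14177477712475385245702, 9456262744285235925002, 33066942518603781537801, 42502452956731164102665, 37785850236478569861129, 18900995709749598109699, 14176322821333052334083⟩))) (.node (.node (.node (.leaf ⟨14177475742700287328260, 37782391190627094130691, 33068097410020891688963, 37778932707863161745411, 18890620260907843883008, 18895230820476608610313, 28342271318624829472776⟩)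 (.leaf ⟨14174019792661255303173, 28341118959589139697666, 42508217564322800373762, 4730438341120474750978, 47235196577429762088961, 47225973205599015436296, 42503604752198341234696⟩)) (.leaf ⟨42503605596760710320137, 42508218127341590712322, 47231735842384912613381, 9445887013556154556422, 23622211522776927342598, 28339964912734297919495, 42507065205287261573121⟩)) (.node (.node (.leaf ⟨9450498417756024610825, 4726980702712702709766, 9445887013556154556422, 23622211522776927342598, 23618751632363317403652, 42507065205287261573121, 9455110948336905003010⟩) (.leaf ⟨1155173441859497984, 11530060020754452480, 3461579332307128320, 33056565380087667490822, 28334198897217938391049, 1155454985555685376, 42501298345826890809348⟩)) (.leaf ⟨37787004565495482433540, 37788157487274916847616, 37778932989063277326338, 42507062953556066738186, 33058872068071550353416, 14178629226605074976773, 1155173441926619146⟩)))))))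

def reps6 : Tree (M7) :=
  (.node (.node (.node (.node (.node (.node (.node (.leaf ⟨3460735526020063238, 37788156079419080851465, 9444734936751422844938, 14169407262355470942218, 37788156924325030559751, 37783544394018994552840, 18898690148490272604160⟩) (.leaf ⟨28341119241338943983620, 14176324509839298416648, 9224779892875345928, 14176323946820575191045, 18896385149424919138309, 28343424239991930253312, 33063484598308715892743⟩)) (.node (.leaf ⟨42512828687185199779849, 47224818031813558546441, 14168254903525805416451, 37789308719586116382721, 23615292868399168757763, 42507064360862331453446, 9455110948543080173577⟩) (.leaf ⟨9455111511630388670468, 9451650776585555947524, 14170558494666502701060, 47224818595038339567626, 9445888139662219829251, 14168254340919482945543, 23622208708095980367874⟩))) (.node (.node (.leaf ⟨28342271318624829472776, 37781237706172584177671, 14176325354470336643080, 18890619135076723589128, 37778932707863161745411, 18890620260907843883008, 33063485723865092468738⟩) (.leaf ⟨28337660195281360134152, 9449345214913880027144, 9448193137834320752645, 14170560464922737668097,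 4732743058023572873221, 42511674921186976870402, 14171713949995672551431⟩)) (.leaf ⟨42511674921186976870402, 14171713949995672551431, 28337660195281360134152, 9449345214913880027144, 9448193137834320752645, 14170560464922737668097, 4732743058023572873221⟩))) (.node (.node (.node (.leaf ⟨14176325635945330155529, 42510523970350720524289, 4724674578228445216769, 4733896261415473291267, 14178631478542260535297, 4731592670343612891139, 14178630916142029348867⟩) (.leaf ⟨9451650495454210195462, 23616444663728974086148, 14177476023625407533065, 18891774589787485253636, 37778934396575683743751, 23621056349747468570632, 47232889045776796250118⟩)) (.leaf ⟨9444733810370429349896, 37789310408298504159235, 4723521937992639873028, 3460734976146812936, 4728133342261363605508, 28345728112951184859143, 33064638082900748697606⟩)) (.node (.node (.leaf ⟨9448192856565452120066, 33060024144601437728778, 23611834103198153474053, 18890618853533077762055, 37783545238100478291974, 23616445508428765356034, 33064636675319723479045⟩) (.leaf ⟨33062332239891400794112, 33065789033874225905672, 23622210678626925420545, 9449346903695037571077,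 23619902865430330494976, 14177476868325265920004, 18899844195757330554884⟩)) (.leaf ⟨14171713104952250351626, 4728132779655007604743, 23622211241645581570056, 9224779824122318848, 18897538634223110348804, 33063484035564853813252, 8072420857185607683⟩)))) (.node (.node (.node (.node (.leaf ⟨42504759362827770138634, 4732745028760844120074, 4723519967874095517704, 14168255185000882778122, 4725828062820461195272, 14168254622600718749704, 14170561028422446878722⟩) (.leaf ⟨9225342430545473540, 28344577724515176435718, 18897536945167041306626, 23619904553730334273542, 23614139665213477109763, 37781239395091231039492, 6920343983566647303⟩)) (.leaf ⟨14170559057547820560393, 9444734091708000645121, 14169406417861670338561, 14170559902453770235911, 37783545800912841768963, 33060024989576173989888, 9225343049054326790⟩)) (.node (.node (.leaf ⟨9444734936682669838337, 14168252933750741049352, 47231736123928508121096, 23619903146767901798402, 42511676328768052404232, 9447041060548384915457, 37781239113410045542401⟩) (.leaf ⟨42510523406850994499591, 28334198897767711002628, 23619903991261551415305, 23619904835617694953474,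 47227123593485217693701, 18900997398805566455816, 9449344933576392593417⟩)) (.leaf ⟨9444732965739391090695, 11530060089473925120, 11530060020754452480, 3461579332307128320, 18889465931478614409221, 28334198897217938391049, 11529778545777737728⟩))) (.node (.node (.node (.leaf ⟨42504758799396797181952, 47229432251106860212232, 33065791285880349011976, 37789310690391905820680, 33062332521435197616129, 33061177910805919703044, 18900995991155872104458⟩) (.leaf ⟨9448192012003015946250, 28343422269667059732485, 2308376558965915651, 33064636394050854866952, 37780087318286398676999, 9456262462397774573577, 37787004565701573742597⟩)) (.leaf ⟨33060024145219896246274, 37785850236547272568842, 28335352663353717706756, 23614139946207316828168, 33062331114129016782852, 42510522280882334605322, 33061177629124667117571⟩)) (.node (.node (.leaf ⟨23615291460955548950530, 42502453519199997296650, 37778932988857085337602, 14171711134902375194631, 28345730082588944510985, 4729286263903291985927, 18891773744950238285824⟩) (.leaf ⟨47232890452601991073795, 18898689585471582924800, 37789309564148401594371, 42504759643752957509633,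 1155454916886528004, 11531467464441335815, 42502453800606271283204⟩)) (.leaf ⟨14177476868737549230085, 33063484879783625523207, 9448192575159094255620, 14174019792729974784003, 28335354071140767125510, 42501298627851707228169, 6920062508623495175⟩))))) (.node (.node (.node (.node (.node (.leaf ⟨18898690148490272604160, 3460735526020063238, 14170560464922620227586, 9444734936751422844938, 37789309282742144335873, 14170559620772584763396, 14175172151078436220931⟩) (.leaf ⟨37784698159605068374018, 28335354352409686061056, 9444733810301693071370, 33063483753746246148105, 23622211522983102541832, 33063484316696317018121, 33065789878711623888897⟩)) (.node (.leaf ⟨18892925541104559869958, 42511677173055392587782, 28336507555595461595146, 28335354352134757842946, 4728132779861132451846, 23614138539176114528263, 42510524533231988015106⟩) (.leaf ⟨23615292586855506116618, 42502453800812396154880, 14177477713024990089222, 28342271037287224586242, 14175171869878404550662, 47232890171539213783048, 18890621105126649110533⟩))) (.node (.node (.leaf ⟨28345728957307412303880, 9450497854943493369865, 9453957463744805076992,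 37784697596448855822336, 42505912002857266061314, 14169406136592852099082, 4731589855112725557255⟩) (.leaf ⟨14171711134902375194631, 4729286263903291985927, 28343425084142066372617, 37778932988857085337602, 23612986461752756568066, 33066942800147377037312, 9456263025897618026497⟩)) (.leaf ⟨33063484598308715892743, 28341119241338943983620, 14176324509839298416648, 9224779892875345928, 14176323946820575191045, 18896385149424919138309, 28343424239991930253312⟩))) (.node (.node (.node (.leaf ⟨9449347466919885688834, 42510523125857171566596, 23611832414898065793028, 23619904835480239230978, 28338812553973519646722, 4731589855181445005317, 33057720553873040474120⟩) (.leaf ⟨37783546364343831494665, 23616446915735063625731, 33061179880855744581641, 9448192575365252685832, 14167100293308861136897, 4731592388456252190726, 28345728956826359177218⟩)) (.leaf ⟨18899843351332316540934, 33058872630884048072712, 5766577916708139008, 37788156361375077146624, 4732744465879526293510, 28342271881162499588100, 4612530787055566854⟩)) (.node (.node (.leaf ⟨23618750506806940803073, 9451651339810370498561, 47225972079492933365763,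 23623364163012715880450, 9448194545071681474561, 42510522562907151048706, 42509369359721341931526⟩) (.leaf ⟨18899844758775936319488, 42501300316426588950528, 47228279330151958855684, 42503605596279640453124, 4730439467020297715714, 33056566506605965737993, 23616444382460122243079⟩)) (.leaf ⟨9224779824122318848, 33061177910874504974343, 33063484035564853813252, 4612811918418120712, 37787003439389450727425, 47230583765442607718404, 23622211241645581570056⟩)))) (.node (.node (.node (.node (.leaf ⟨9453957463744805076992, 14174018948648759500800, 42505912002857266061314, 37789310408504763224065, 47227123593760145948676, 23612987587790203019267, 9450497854943493369865⟩) (.leaf ⟨47227124156160326782981, 11530059539869081602, 23614140509775779086336, 42505912846801260531715, 28342270755262575964167, 37788156361581134901257, 28345729519776329379843⟩)) (.leaf ⟨28336507555320550166532, 9453956619869681102857, 18898690148009236254726, 9455109822643039145989, 28344578005646589300746, 28345730646157339688962, 4729285700884652630022⟩)) (.node (.node (.leaf ⟨42509370485896109924360, 37784697596655114928136,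 18898689866465523281928, 14170560465541095489543, 14171711416171092791296, 14170558213672629473283, 8073265694466154505⟩) (.leaf ⟨37782392879683196694533, 5765452222926192644, 37778934115100690243588, 18894079025215589863434, 28343423114160809967621, 33062331395054254452742, 23616445789628847386629⟩)) (.leaf ⟨23616444663797743890439, 1407856087678984, 28345730645951080587271, 23611834385222902767616, 37783544112269223804932, 9224216942938714122, 33063484035152536965128⟩))) (.node (.node (.node (.leaf ⟨14177477149594033856515, 9451650776654325751812, 42505911720832701321222, 37781240239447492009990, 23618751069825580142601, 9451653028179311874058, 47224819157713398304776⟩) (.leaf ⟨33068096847345765851142, 28342270755812331782146, 23615292868330466050058, 14175171025453524721670, 9456264714609938665472, 4725827217983214194691, 14177476868600059928582⟩)) (.leaf ⟨47232890453082876452871, 37785850236547238985737, 23612987869814851665921, 37781238832484807901188, 42503604751854794211331, 28344577442902878232583, 33060025270570114379783⟩)) (.node (.node (.leaf ⟨33064636675525781237766, 9444735217745396776968,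 37789309000923670917123, 47235196577429627895815, 9225342980217384963, 4728131934886362611716, 23612985335921602732036⟩) (.leaf ⟨42507064079937043464195, 47225970671980694749193, 37781240239653532995593, 37788155516606448959489, 47225973205186614673408, 37780086754992881401863, 47232890734420430962688⟩)) (.leaf ⟨9452804823783877660678, 14177476305306525900806, 23618751069481982795778, 42507063516437267107850, 47224819158194434613251, 14177477150212509175816, 9451650776585606303751⟩)))))) (.node (.node (.node (.node (.node (.node (.leaf ⟨37788157486793880518658, 42501300316838939361290, 37789310127235944939530, 14170559902453770235911, 37783545800912841768963, 18898691555521441333248, 9225343049054326790⟩) (.leaf ⟨4732743620973509496835, 37780085629436622311425, 18889466213091030106112, 4613938505553293316, 33056568195043593052170, 37782391190764650500102, 33058874038464972603394⟩)) (.node (.leaf ⟨4725825247658394005505, 28336507274189237915651, 9455110667205542453251, 33061179599861820952583, 37782391753989465055232, 14175172151422184595459, 28343424521535727095818⟩) (.leaf ⟨28342270474131112742914,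 28342271318487390498825, 47232888201214410358789, 18890619697683062849544, 42505910313663892312066, 42504758518334019878919, 23611832414898082566151⟩))) (.node (.node (.leaf ⟨14171711698127206514688, 28343425084622968483850, 47223667643996126081030, 33060026115132382797831, 9224217011607863298, 9453956338051157360643, 47234042811087908270090⟩) (.leaf ⟨47230582921361291776001, 47234042529750370521096, 4726980702712685936647, 9448192856496615206921, 42504757955384083234820, 28341117271289085571076, 14178628664204927709188⟩)) (.leaf ⟨14167101419140065275906, 42507062953899664084993, 18899844477369662308360, 14178629226605075013638, 1155173922962952193, 37787004565839079829511, 14170559058028856877056⟩))) (.node (.node (.node (.leaf ⟨23621058038872122888201, 14168254622531865026566, 9448193137834253656068, 33062330550972921712641, 4732743339979636236297, 28336505303245875335173, 37781237988128714690566⟩) (.leaf ⟨37788156080037556125703, 14171711416789568086016, 37788155235543839444995, 8073265625746640898, 42509370485277634596867, 37784697596861273370627, 33060026677876177776648⟩)) (.leaf ⟨37790463611278138056710,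 11531467464474910730, 14175170743772372824071, 37782392879545808068608, 37778932989406958596098, 42508215875404321300490, 18891774026837498265603⟩)) (.node (.node (.leaf ⟨4733897386903180709896, 37781239394885106147331, 9451650776585606303751, 9452804823783877660678, 37781240239791089422341, 23618751069481982795778, 9451653028660348215297⟩) (.leaf ⟨14170560465197498114048, 37778933833488291364866, 42507062953556117032970, 33058873475446350020616, 37780085347411839422470, 11531467464424579073, 37787003158120582115332⟩)) (.leaf ⟨37778932988857085337602, 14171711134902375194631, 28345730082588944510985, 4729286263903291985927, 18891773744950238285824, 23615291460955548950530, 42502453519199997296650⟩)))) (.node (.node (.node (.node (.leaf ⟨9453958590263287914506, 4732743621042212188161, 47235194607242364100616, 37790463892890570489866, 47232891016170302373896, 14168253214607208910851, 14170558494803908104201⟩) (.leaf ⟨37783544674875546288138, 47229430843938118340615, 23614140791113383944195, 3460172301138419712, 33064636675388442959876, 33062331114060364402695, 8071576432255475715⟩)) (.leaf ⟨47230584609592777375748,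 23612985336540078051335, 18894079869777992495110, 9444735218088994172931, 37789309000923670937608, 47235196577360908398596, 3459891032336904195⟩)) (.node (.node (.leaf ⟨4726979857875472506882, 9445888421137196535814, 28341116989814108864517, 28337660195075369508866, 9450499825268313591817, 28343425084554399981577, 18899844477163503902721⟩) (.leaf ⟨4730438059439272517642, 18889468465028249186306, 33056565380362427994119, 18897538353022978007050, 4726978732525338238982, 47234042248481535430665, 18899842225157481447431⟩)) (.leaf ⟨47231737531509566873603, 9448193419515355234305, 6917810640140652547, 47234041122444105752586, 42505911439426326626313, 37785849955622034878468, 9452805105533849714692⟩))) (.node (.node (.node (.leaf ⟨23617597022283577180168, 18897539196760646234116, 28343423395567016906759, 42508217845591618654213, 28338811709686078775302, 42511676891649202470921, 47231736123653630222343⟩) (.leaf ⟨42509368796977580498947, 47225972924192758210562, 42504759362621611741191, 4729286264247006826505, 28337657943687788793864, 47225971798086676131844, 37778934677981974507523⟩)) (.leaf ⟨9225061230379552768,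 33064636675388442959876, 18896385431037250920452, 4613656343348252680, 14175171869466154790913, 47229430843938118340615, 23614140791113383944195⟩)) (.node (.node (.leaf ⟨14167101419483662680073, 42507062953556066738186, 18899844477026064924675, 37780087317736626102278, 11530060089591353345, 37787004565495482433540, 37788157487274916847616⟩) (.leaf ⟨18891772056581246578697, 37790461922634335555585, 8072702400848211972, 37788155798356353880070, 47234043374175199977480, 33056568194974756122624, 33056568195387072995338⟩)) (.leaf ⟨33064636112094791499783, 9451651621079171997702, 42503606440910812889097, 28339963505153222406147, 28337658787975313526791, 28342270473856251600902, 47228277359139809681415⟩))))) (.node (.node (.node (.node (.node (.leaf ⟨47225972079492933365763, 28335352382084899442697, 42510522000025933848586, 9448193982190464274441, 42509369359721341931526, 23618750506806940803073, 42507065205287244824586⟩) (.leaf ⟨1407856087678984, 28345730645951080587271, 23611834385222902767616, 37783544112269223804932, 9224216942938714122, 33063484035152536965128, 23616444663797743890439⟩)) (.node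 (.leaf ⟨4731592388799866372105, 47228277640889697857539, 42501299190458012962822, 42510523970144562081801, 28335353226647167856649, 37790463892959155732483, 47232889608245663014922⟩) (.leaf ⟨9444732965739391090695, 1155173441859497984, 11530060020754452480, 9223654199026294784, 33056565380087667490822, 23611832414348343508994, 11529778545777737728⟩))) (.node (.node (.leaf ⟨28345730364682362953737, 14175172714509425967113, 23616444381979085897736, 18897539196760629452809, 42510522562975803379720, 37778932707657087217665, 4731590418337590423557⟩) (.leaf ⟨33062330550629307539458, 42503605033329703804931, 28338811427867555012613, 23614138820444916064265, 4728133623736222887946, 42507065768237198245891, 28335353226509829566466⟩)) (.leaf ⟨47234043655650143113224, 9448193700578031865859, 14172865464056642813962, 42510522844244705558534, 47235196014204846899204, 9452804261246308229125, 5766015310251438082⟩))) (.node (.node (.node (.leaf ⟨33063485723865092468738, 28342271318624829472776, 37781237706172584177671, 14176325354470336643080, 18890619135076723589128, 37778932707863161745411, 18890620260907843883008⟩)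 (.leaf ⟨4728131653892422270978, 9445887576712316723202, 9448192293271934894085, 4728132216911145504773, 14177477150075204427780, 4731592669793739608069, 28338811991023650115585⟩)) (.leaf ⟨23616445789216513732614, 3460735525902643204, 28336506429558099046408, 23622209271320694251525, 37789309845829587066884, 33064638364100813950985, 5767422822557184007⟩)) (.node (.node (.leaf ⟨42512827842416605155331, 14170558495216241745926, 4731592388318762917891, 14172864900969384656898, 28344576598477847437316, 42503606722523228573697, 42511677454393014247429⟩) (.leaf ⟨33056567350962226737162, 28341116989882761252871, 9452803979633959649288, 37784697877855180189696, 33062331676735339241479, 23621057194034909421572, 33056568194837350731784⟩)) (.leaf ⟨14168254903525805416451, 37789308719586116382721, 23615292868399168757763, 42507064360862331453446, 9455110948543080173577, 42512828687185199779849, 47224818031813558546441⟩)))) (.node (.node (.node (.node (.leaf ⟨42509370485896109924360, 14174018948442500395011, 18898689866465523281928, 37788156079556519788548, 37787005128926522531840, 37788155235200242032648,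 8073265694466154505⟩) (.leaf ⟨9453957745700801376261, 14175172714028507086855, 14176325072445620908033, 23615291742086877974531, 47234043937125170155526, 9452803979771381837832, 9455112074374250790921⟩)) (.leaf ⟨37790463893371606806529, 4725825529545788260360, 37790463329871931150339, 14170558495147505524738, 42504757955452802736138, 4732743621385809592330, 47235194606898766680067⟩)) (.node (.node (.leaf ⟨9448193137834253656068, 33062330550972921712641, 4732743339979636236297, 28336505303245875335173, 37781237988128714690566, 23621058038872122888201, 14168254622531865026566⟩) (.leaf ⟨42507063798462049972227, 14168252933681987997706, 18895231946995007528966, 23614139101919859216385, 4729284575190988132354, 37789308438111173234697, 28342271881437377482762⟩)) (.leaf ⟨33062331677078903087113, 3460172301020979207, 33062330832379145383945, 4730436933883063713800, 37789310127442019520516, 18897538071273073049609, 37783543549044308590597⟩))) (.node (.node (.node (.leaf ⟨42511676609761908908038, 33058872067934010744836, 18895230539001749327878, 9450499544068265095173, 42507064923949639954435, 23612987587652713725952,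 14171713949583355703296⟩) (.leaf ⟨14168253496357080281094, 9449345777932636811274, 11531186058234462216, 18889468465303227740162, 42504759925502879211521, 14176323947095486644233, 23615293430799450279946⟩)) (.leaf ⟨33063484316696350560264, 47235195451255010918402, 18890620823926634213383, 33066943925635101261831, 33060024426076447969288, 14178629226948588482562, 9447041060823279599624⟩)) (.node (.node (.leaf ⟨4723521093842604404745, 33068095721170981109764, 33066943925635101261831, 33060024426076447969288, 37780087318149026840585, 9447041060823279599624, 18895232228401264762883⟩) (.leaf ⟨9450500107018201735175, 23611834103472964272133, 28342270192793591771141, 28338812553698641731587, 4722368453538213806080, 33060026115475946631168, 42512828968866351697925⟩)) (.leaf ⟨47232888201214477500426, 23622209270908377407496, 9455110667205542453251, 33061179599861820952583, 14176324791108150267904, 14175172151422184595459, 23615292023561888227329⟩)))))))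

def reps7 : Tree (M7) :=
  (.node (.node (.node (.node (.node (.node (.node (.leaf ⟨68719476736, 281474976710656, 1152921504606846976, 4722366482869645213696, 1, 4096, 16777216⟩) (.leaf ⟨9452805105190118101000, 14172865182512963416072, 18892927229267326021635, 37782392879408369106951, 14175172713959703728128, 14176322821195663708168, 4611967905855217666⟩)) (.node (.leaf ⟨18897539196760629481474, 14167101700683694370817, 23612986180896288677897, 23616444382460122234883, 9448193982740287197192, 4731590418131432013830, 14175172714028389629954⟩) (.leaf ⟨28339965756953086406659, 28338812272361171058696, 18894077617840706301955, 23623363600062812811270, 18895231383907581579272, 23618751632294564347910, 47229431406956757671941⟩))) (.node (.node (.leaf ⟨40960, 167772160, 68719476736, 281474976710656, 11529215046068469760, 4722366482869645213696, 10⟩) (.leaf ⟨23622210397426843402242, 47230584328598719582211, 9445887576781002678281, 42511677454461750497285, 9453958871738231037955, 23614140791250873245698, 42510523407332131479562⟩)) (.leaf ⟨1155173441926619146, 37787004565495482433540, 37788157487274916847616,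 37778932989063277326338, 42507062953556066738186, 33058872068071550353416, 14178629226605074976773⟩))) (.node (.node (.node (.leaf ⟨14170559620772584763396, 14175172151078436220931, 33060026396607342718976, 3460735526020063238, 37788156079419080851465, 42501299471795517161473, 14169407262355470942218⟩) (.leaf ⟨14168254903731963834377, 33057720272054449618951, 9455110103980643975171, 33058872067727969779716, 33062331676666720423939, 18892924977467428478984, 4733897105909089316866⟩)) (.leaf ⟨23615293149530598416388, 42508217845591618654213, 23619904835411536547845, 9447039653448412852226, 4726980420687886307332, 23617597022283577180168, 18897539196760646234116⟩)) (.node (.node (.leaf ⟨28337658506225492434946, 14168254622531865026566, 9448193137834253656068, 18896385994124693610506, 4732743339979636236297, 23622211241851739987974, 14177478556968900632581⟩) (.leaf ⟨14178630634186116997129, 9447040779417072709632, 4724673170647487115267, 18898690992983938981896, 14167101138146024251398, 33066942799941285740548, 4723519967324339707906⟩)) (.leaf ⟨23616444663935115735047, 8072702744462360581, 18899843351332316540934,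 33058872630884048072712, 6918655614809833472, 37788156361375077146624, 47225972079218089029637⟩)))) (.node (.node (.node (.node (.leaf ⟨4723521937855251222531, 37790463892890570489866, 47232891016170302373896, 37790463330490406412296, 14170558494803908104201, 42504757954834327408641, 47225972924055403134986⟩) (.leaf ⟨23623363037318984253449, 37790461360027962720264, 4725826654895821819914, 47227126127103639040009, 4730438059576711462915, 42501300598176443568133, 42510522562563603984386⟩)) (.leaf ⟨28345728112951184859143, 18894078462196866625541, 42501300598176510656515, 14169406136043196919816, 4723521937992639873028, 3460734976146812936, 47230583202836251672583⟩)) (.node (.node (.leaf ⟨18890619415933141131272, 33068097129095570141190, 33068094595271057510404, 37782393442289485643785, 9225342636636807171, 37781239676703579590657, 4725825810539728609285⟩) (.leaf ⟨9450500106949599715332, 37780086192111580385286, 9455112074374133350401, 28336505303245858553862, 14169407544036606107650, 9450498136830904410118, 4724673170647419990025⟩)) (.leaf ⟨42510522844450914304000, 14172865182719222521856, 42509369922946156470281,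 37781238550597631741962, 4725825247589691322372, 28335354071140834234371, 9451653309722890612738⟩))) (.node (.node (.node (.leaf ⟨37787004847107881320455, 33062331958072860250115, 1407649778266120, 28334200867748967370752, 3461016794788032513, 28338811146461213917191, 28335352382084781989892⟩) (.leaf ⟨28342271036599979487237, 28336506148083071991816, 37789309564354660683780, 5764889547766775815, 9225342430461587463, 28336505303451933106182, 33064636393775960170505⟩)) (.leaf ⟨18896386275256005832713, 28338811709342481395720, 37789308157048429510663, 37788157768818562711555, 18900997961411939270664, 14167100293515053117448, 33057719709516930519040⟩)) (.node (.node (.leaf ⟨9224498005615329287, 28336506429558099046408, 23622209271320694251525, 14169406699268028256263, 33064638364100813950985, 6917810708776239108, 28342270755125002797061⟩) (.leaf ⟨9453958871257245028358, 28344576880227819462666, 9445886450400109797384, 18899843914007442362374, 23621056068203772391426, 47225973205667751661571, 23618750506463427321863⟩)) (.leaf ⟨28338813117129597943812, 5765733491778027520, 8071295369578807302, 37782391753645834149888,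 18891772900731433021446, 47234042530231356518405, 18891773463750089129987⟩))))) (.node (.node (.node (.node (.node (.leaf ⟨37783543830519436300288, 14176322820852066295811, 8073265694382268418, 9452805105808593428483, 14172865182306804973571, 18892927229267326042120, 14176323665208209833991⟩) (.leaf ⟨37790461078621822918656, 23623361911075547127808, 33068097129026968092681, 42510521999544847212545, 37788157206006048243719, 4732744465673334321155, 23621056631428654047241⟩)) (.node (.leaf ⟨4730439185476752543747, 9453957745563412758538, 6917811121193771011, 47225970671911857823745, 42509370485415123877890, 37784699004442265006087, 42509370485552562860036⟩) (.leaf ⟨23611834385222902767616, 28342271881299871432708, 14175172432828391518215, 1689124754976771, 9224216942938714122, 28345730645951080587271, 18895232509945078358019⟩))) (.node (.node (.leaf ⟨23622209834202062430214, 23621056349953643814921, 9450499262387113177098, 47234042529750269829125, 37780087599623886118921, 37782393161089537810441, 18899843633082221481986⟩) (.leaf ⟨9447039090635814481921, 23614138820376196562949, 14177476586712934141954,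 42507063516918303465477, 47225971516474344353794, 42507065487036965216263, 37790462767334177120262⟩)) (.leaf ⟨4611967905855217666, 9452805105190118101000, 14172865182512963416072, 18892927229267326021635, 37782392879408369106951, 14175172713959703728128, 14176322821195663708168⟩))) (.node (.node (.node (.leaf ⟨28339966038290674520074, 42507065205287244824586, 47225972079492933365763, 23623364163012715880450, 42510522000025933848586, 42510522562907151048706, 9449347185376273391621⟩) (.leaf ⟨18891772056512543883268, 37778932426250762854407, 28337658225025360072707, 4725826091945918754821, 9451650495454226952198, 28342269911043720364039, 14177478556900315406345⟩)) (.leaf ⟨23612986180415252369410, 37783543830588004761602, 23616444381979085897736, 18897539196760629452809, 9448193982121811943427, 37778932707657087217665, 47227126126760024899590⟩)) (.node (.node (.leaf ⟨37781237706516181581828, 14176325354126739271683, 33068097410501928026120, 14167101700889936670723, 18890620260564246470656, 18895230820476608589826, 28342271318281232068611⟩) (.leaf ⟨28334201712311370014722, 18891773463543880368133,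 42502451267468869537795, 9456264433272417697796, 10377701466252013576, 37781239395297288814597, 37782393161089487495178⟩)) (.leaf ⟨33058872630884048072712, 5766577916708139008, 37788156361375077146624, 4732744465879526293510, 28342271881162499588100, 4612530787055566854, 18899843351332316540934⟩)))) (.node (.node (.node (.node (.leaf ⟨9450499262387113177098, 4724674015347345494022, 37780087599623886118921, 14176323384008077512706, 33058872912015393841161, 28336506710895552892933, 23621056349953643814921⟩) (.leaf ⟨6919218221266534409, 4724672889447287660547, 42510522843763669213192, 14172865464056642813962, 42510522844244705558534, 4723520530892768423943, 9452804261246308229125⟩)) (.leaf ⟨9224216736813834242, 37788156361100148875273, 47230584610073780195333, 47235196295542451765256, 37784699003892442075146, 37789308719860943953921, 33064636957138264010753⟩)) (.node (.node (.leaf ⟨4732745028760844120074, 47235196577223519805443, 14168255185000882778122, 47232888482277154127875, 37790461922496896573443, 37788155516675168444425, 42504759362827770138634⟩) (.leaf ⟨9456262181404001968136, 9456264433272417697796,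 10377701466252013576, 14177477149800326508550, 37782393161089487495178, 23611832696235569991689, 33066943081553734955014⟩)) (.leaf ⟨28336506429489295659012, 42511675202661920022529, 9455112074305480974342, 42502454082768409223171, 37782390909564585254917, 47232890734145687281672, 37784697315317459730441⟩))) (.node (.node (.node (.leaf ⟨37780085628955585974280, 14176325635945330155529, 42510523970350720524289, 47234041966869170106378, 4733896261415473291267, 37780085066555354787850, 47227123874754002432008⟩) (.leaf ⟨5765733422941077506, 10377982391321886724, 37778931863644390064128, 8071013482201350150, 37778931863644406845440, 42501298346514052055040, 4722366483075971420160⟩)) (.leaf ⟨10378545822479425536, 33068096846933532884999, 9225061161609760778, 14174017259317862887430, 9447039934923305648130, 9447040497667134230536, 47232888764233066483722⟩)) (.node (.node (.leaf ⟨42511675202661953581057, 9455110948680535932937, 23623363599856620822536, 28336505021977040265222, 28339966038702924242953, 33063484316833789517825, 4732744184335779799041⟩) (.leaf ⟨33060026397088379068421, 42503606722454576177158,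 28344578005646589300746, 28345730646157339688962, 47229430844212962693125, 28336507555320550166532, 42504759925227934220290⟩)) (.leaf ⟨14171713668314503839752, 33065790723067717103619, 14170559339160202645509, 14167100574715051249665, 42503604470379884609541, 9451651339329317404681, 33058872349546560634884⟩)))))) (.node (.node (.node (.node (.node (.node (.leaf ⟨47235194607242364100616, 14168252652207044833281, 47232891016170302373896, 37790463330490406412296, 37788158050293707218946, 42504757954834327408641, 4732743621042212188161⟩) (.leaf ⟨2307250933886631939, 33058872631021436682245, 37789309845829687717894, 9445885887862389379075, 14170558776485143928842, 42512828405366575349764, 28334201712311286124553⟩)) (.node (.leaf ⟨4731592106912472109063, 37784698722417515692034, 28335354352066139009025, 37789310127441985961991, 42511677172711879114760, 28336505584995746750468, 18892925822579536576519⟩) (.leaf ⟨9449346904176073936902, 28338810583786138390528, 14177476868531424354311, 18899844195688611074055, 33062332239685242327040, 18892927511017046425608, 28336505866539409350657⟩))) (.node (.node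 (.leaf ⟨37785851925671977172999, 33060026678219842273285, 18889467338922318102532, 18889468183759447687175, 28341118960138895495173, 42509369922877571223561, 28339965475478059352067⟩) (.leaf ⟨4612530649566289928, 23611833259048201920521, 42510522562494750273540, 47225970672186718965763, 47227126126966183301120, 18892926948135929933827, 14170559339572569833475⟩)) (.leaf ⟨14169407262217948123143, 18895232791076306685952, 28344577161427867963393, 23616444100916509954048, 33066943644297462829060, 33060026959625982066691, 9452804260833974558726⟩))) (.node (.node (.node (.leaf ⟨18894079588371701731334, 18897538071135701180422, 14167101419414808977418, 47227124719591215869956, 33057719709379424456713, 37784699004373579087881, 2252143511748613⟩) (.leaf ⟨42505911720901336932360, 37789309001542062333953, 47234041122237947326468, 47234041403713024712708, 47223667362589751394308, 37780085066005598969864, 37787004284295299739648⟩)) (.leaf ⟨14177477150006384283655, 5764889547766775812, 9225342430545473540, 28344577724515176435718, 33061179599930574016521, 23619904553730334273542, 28344576879884138213384⟩))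 (.node (.node (.leaf ⟨9455112074717730713606, 42507065205768297918466, 33058872349546560634884, 14171713668314503839752, 18892925822029898219528, 14170559339160202645509, 37778933833831888756746⟩) (.leaf ⟨8072702881867796488, 23611834666629243867145, 42504759362690196996100, 47234041122512808468483, 47232888763958222168064, 18898690148352800079875, 14176324791176936816643⟩)) (.leaf ⟨23622209271320694251525, 14169406699268028256263, 33064638364100813950985, 6917810708776239108, 28342270755125002797061, 9224498005615329287, 28336506429558099046408⟩)))) (.node (.node (.node (.node (.leaf ⟨37785851362790810349576, 18892927229267326042120, 14176323665208209833991, 14175172714578179022848, 14176322820852066295811, 4611967837135704073, 42505911439288837345288⟩) (.leaf ⟨33065789596618054455301, 9447041342366908686341, 23622211522777027973121, 23623364163287610589193, 47230584046711509884933, 28344575472646727147524, 9448194545140400947209⟩)) (.leaf ⟨33064636675525781237766, 9444735217745396776968, 14169407543418030161928, 47235196577429627895815, 3459890551300587528, 47230584610211252666375, 28345728112951268773895⟩))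 (.node (.node (.leaf ⟨47235196295679907475457, 2533824663691266, 33064638645919287377924, 47223667080908649795593, 28337659350650321932295, 9447039371973402562560, 37781238269328662474761⟩) (.leaf ⟨4725825529064718352386, 11530622627211153413, 9451651339810404073472, 9451651339672965111815, 9451652465779097493507, 4722367046506944430082, 37781239395297355931656⟩)) (.leaf ⟨42505910031982807506947, 42510523969938403659783, 23615293994092933947395, 14167099730358958063624, 47234043374106547625986, 47230583202698930167810, 47234042248412815962116⟩))) (.node (.node (.node (.leaf ⟨47227123593691426455558, 18900995991224574803971, 42509369078177729634313, 42510523125857171566596, 23611832414898065793028, 28338811709617376092169, 28338812553973519646722⟩) (.leaf ⟨23618752476719477723143, 14172865744981930831872, 23615292586511925547015, 33056567350962176425985, 42509371329977593643016, 33063484598240030003204, 18889466212953624694792⟩)) (.leaf ⟨42511677173055392587782, 28336507555595461595146, 28335354352134757842946, 4728132779861132451846, 23614138539176114528263, 42510524533231988015106, 18892925541104559869958⟩))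 (.node (.node (.leaf ⟨23615292867780693495816, 42507064361343367802885, 9455110948474360733698, 9445887857981135015945, 4733898512803020419081, 14168254904006841749512, 14169407825030462582785⟩) (.leaf ⟨33065791285399295897608, 37782391472033401667591, 37783546364412584546304, 14176322821195613347848, 4614501180561690626, 9452804823715141427208, 37785850518159637901315⟩)) (.leaf ⟨23611833259048201920521, 42510522562494750273540, 4732742776686152540168, 47227126126966183301120, 33065789596961685389320, 37788157205525045444616, 8072702881951682563⟩))))) (.node (.node (.node (.node (.node (.leaf ⟨33068097410501928026120, 37778932707657003335688, 33068096284533368852480, 33063485723865092489225, 28342271318281232068611, 37781237706516181581828, 37782391190970691502088⟩) (.leaf ⟨28335354633747190288386, 18891772900387734962176, 9452805386596375347209, 4733896824296724013060, 9450500388493161664519, 4724672607491341705223, 33064636957138146566144⟩)) (.node (.leaf ⟨9225905930137243650, 28343424521054573305863, 42502452956731147300869, 28341118678320271073287, 37787002595101875675143, 23617598992402423517192,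 4724673733597390176262⟩) (.leaf ⟨14176325635601732734978, 9448192575365370126337, 47234041967212767510529, 4733896261071875870728, 37780085066074318471169, 4731592669725137580040, 14178630915523554086920⟩))) (.node (.node (.leaf ⟨4723521656174183198728, 37784697034048792432641, 14169405854980469985281, 18894078744015507849217, 3459609213779595266, 37788157205868726722562, 47230583202355248926726⟩) (.leaf ⟨18897538634360515764224, 18898692118402725597192, 9455110667205441785866, 42501299190320456540164, 42501300034745554468868, 2306968977873575940, 47224820284025621983235⟩)) (.leaf ⟨33058872631158925959169, 33057718864610829811718, 4612812399404122121, 9451650776929170112521, 8072984288074698759, 9455110385455536799751, 33068094877089665150977⟩))) (.node (.node (.node (.leaf ⟨10, 40960, 167772160, 68719476736, 281474976710656, 11529215046068469760, 4722366482869645213696⟩) (.leaf ⟨4725826655308256137220, 18896383742187407446021, 14174019511254964543493, 33061178755436874063875, 4724673170922432102409, 14175171025178546155521, 9452804260696619503624⟩)) (.leaf ⟨9451651339672965111815, 9451652465779097493507,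 47223667362039995576329, 37781239395297355931656, 47232891016032896970761, 1154610904306819078, 42507065205287211249664⟩)) (.node (.node (.leaf ⟨4731590418337590415360, 33065789596892965924867, 14170559339228972449800, 8072702538354270216, 23611833259254360313858, 42510522562838347677703, 47225970671980560539656⟩) (.leaf ⟨23617599555214921207817, 47234042529819106742273, 9447040216673311293442, 23614138539313536733190, 33062331676804159381514, 42503606722454542626826, 23612986461890229067779⟩)) (.leaf ⟨23612986180896288677897, 23616444382460122234883, 9448193982740287197192, 4731590418131432013830, 14175172714028389629954, 18897539196760629481474, 14167101700683694370817⟩)))) (.node (.node (.node (.node (.leaf ⟨4732745028760844120074, 4723519967874095517704, 14168255185000882778122, 4725828062820461195272, 14168254622600718749704, 14170561028422446878722, 42504759362827770138634⟩) (.leaf ⟨33063484598514840780802, 42501299190389209604106, 18892925822579654033409, 18895231383632703688713, 37784697878336166207497, 23622208989777115508739, 23623364163081502490624⟩)) (.leaf ⟨14171712823958293192706,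 14167099449021369982983, 6917529302653227013, 4722368735219332182020, 18896384587024721534984, 18895233353888921821189, 33060025271119803076615⟩)) (.node (.node (.leaf ⟨14167101419414808977418, 47227124719591215869956, 33057719709379424456713, 37784699004373579087881, 2252143511748613, 18894079588371701731334, 18897538071135701180422⟩) (.leaf ⟨14178629508354946408448, 42510524251688224722950, 28334199742261427712007, 42502453519612364476419, 47232888764370622894082, 14171712261008473997314, 42510523688669686038531⟩)) (.leaf ⟨2252143494983686, 18894079306621796782085, 4725827217983180648452, 37785851925878135615490, 33061178192212109856774, 37778932989131946483722, 18890620542176746049545⟩))) (.node (.node (.node (.leaf ⟨18898689866465523281928, 14170560465541095489543, 37787005128926522531840, 14170558213672629473283, 4611967837051817986, 9449346059201320849411, 14174018948442500395011⟩) (.leaf ⟨23622210678420733452289, 4725826936645777104900, 9444734373457855291400, 23622209552795771625476, 14178629226742430040065, 33068094876883473149960, 14177476587056363757570⟩)) (.leaf ⟨9453956619869681102857,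 18898690148009236254726, 42503606722454576177158, 28344578005646589300746, 23612985898940275634185, 47229430844212962693125, 23622208989777065156615⟩)) (.node (.node (.leaf ⟨33060026397088379068421, 9455109822643039145989, 28344578005646589300746, 23612985898940275634185, 4729285700884652630022, 23622208989777065156615, 42504759925227934220290⟩) (.leaf ⟨5764889066780770313, 37780085347824139534340, 9452803698365141368832, 9450498417893564223497, 47234041966731613732865, 9223653511982497801, 18898690148421569871879⟩)) (.leaf ⟨9450500388561998589954, 42504758236309287337984, 37784698441492378685440, 9452805387283570135042, 37789309001473326059530, 47227123593416498233351, 28345730364201309851651⟩)))))))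

def reps8 : Tree (M7) :=
  (.node (.node (.node (.node (.node (.node (.node (.leaf ⟨9453958590263287914506, 47225972924055403134986, 47235194607242364100616, 14168252652207044833281, 4725825528927312949251, 37790463330490406412296, 14170558494803908104201⟩) (.leaf ⟨5764608004120928262, 47223665673327607824391, 33062331958072893788163, 18895233353888921821189, 33060025271119803076615, 37787003721139322130441, 14167099449021369982983⟩)) (.node (.leaf ⟨9444734091708017442826, 37781239676703546015745, 37782392035120861163527, 14171711979670768484355, 33065789597099090804736, 3460735525869068293, 37782392879270930182153⟩) (.leaf ⟨28338811427867555012613, 28335353226509829566466, 23614138820444916064265, 33062330550629307539458, 4728133623736222887946, 42503605033329703804931, 42507065768237198245891⟩))) (.node (.node (.leaf ⟨28344577161427867963393, 23616444100916509954048, 18891772900800152494087, 33060026959625982066691, 42505912284263640764421, 37789309282879667200004, 33063483754021124087808⟩) (.leaf ⟨4726979857875472506882, 42512828123960418787333, 28341116989814108864517, 23621056350022245814281,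 42508216719829301731330, 23615291460543215341570, 18899844477163503902721⟩)) (.leaf ⟨14176323665551807254528, 37778932989406958596098, 42508215875404321300490, 33066942518260117012488, 37790463611278138056710, 1153766067043061761, 37783545801325242499076⟩))) (.node (.node (.node (.leaf ⟨18892927229267326042120, 14176323665208209833991, 14175172714578179022848, 14176322820852066295811, 4611967837135704073, 42505911439288837345288, 37785851362790810349576⟩) (.leaf ⟨28341118115232845152257, 42503605315010956394502, 14172865745462967140352, 33060025552594796560391, 28342270192312588976132, 33061177066518428528640, 33064635831169637683203⟩)) (.leaf ⟨37789308719586116382721, 23615292868399168757763, 9451652184235283869701, 9455110948543080173577, 9445887857912415543298, 4733898513284056776706, 37790461641571809906696⟩)) (.node (.node (.leaf ⟨33064636956725913591813, 18897538071135701180422, 14167101419414808977418, 4731591825506214903815, 33057719709379424456713, 14174017540724036235266, 844837330907142⟩) (.leaf ⟨37787003439732981010438, 9445886450743640068096, 4731590981081318297608, 14169407262492742131717,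 18900997398668194648070, 23619904272324127371266, 23621057194378523574273⟩)) (.leaf ⟨14167101700889852788746, 4731590418337590423557, 23612986180415252369410, 37783543830588004761602, 28342272163118529380355, 18897539196760629452809, 42510522562975803379720⟩)))) (.node (.node (.node (.node (.leaf ⟨37783544394018994552840, 33060026396607342718976, 3460735526020063238, 14170560464922620227586, 42501299471795517161473, 37789309282742144335873, 37788156924325030559751⟩) (.leaf ⟨28339964349784327749639, 47229429999856768786442, 4730439467226556821508, 42510522562907201368071, 14168252370663315111943, 47225972079218038677507, 9453957464019649462274⟩)) (.leaf ⟨23617597022283577180168, 33061177347581054844935, 28343423395567016906759, 9450498699505996668934, 23619904835411536547845, 9447039653448412852226, 47231736123653630222343⟩)) (.node (.node (.leaf ⟨8071013482201350150, 37778931863644406845440, 42501298346514052055040, 4722366483075971420160, 5765733422941077506, 10377982391321886724, 37778931863644390064128⟩) (.leaf ⟨23621056912285004464132, 42509370204146406264838, 18889468183690795286533, 42509370203940180738055,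 14178629789554978074631, 33060024707826201944066, 9452804542515126497283⟩)) (.leaf ⟨47228278485658342805505, 33056565943518506270729, 33056565380362427994119, 18897538353022978007050, 47231737812572277084165, 47234042248481535430665, 33058871223715205509124⟩))) (.node (.node (.node (.leaf ⟨47235196577567117152264, 37790461359615696187402, 47232888482895629398024, 37790461923115371892744, 37788155517018765791234, 9453957182888320438282, 47225971516680368566282⟩) (.leaf ⟨8072984425580752896, 18890619979570306105351, 42502452393368843456516, 33063484035083817492489, 10376293816406654985, 33066944207316102156295, 9452803416752725704704⟩)) (.leaf ⟨47224820284025739452419, 14178631479023296851978, 4731592669725137580040, 14178630915523554086920, 37782390909495882588169, 9448192575365370126337, 4724674577884847812618⟩)) (.node (.node (.leaf ⟨42507064079318517829640, 47223667362039995576329, 37781239395297355931656, 4725825529064718352386, 1154610904306819078, 9451651339810404073472, 42507065205424650211332⟩) (.leaf ⟨14169405292168039399431, 37788157768474965340168, 18900997961892975607811, 14167100293308894707715,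 18900996835924282216448, 33062330269085695225865, 28338811709686078799875⟩)) (.leaf ⟨42504759362690196996100, 4724672326360063037448, 4725827781139393155072, 33060026396744815243272, 14176324791176936816643, 8072702881867796488, 28334199741917696139266⟩))))) (.node (.node (.node (.node (.node (.leaf ⟨3459890482463645701, 14170559057547820560393, 42501300316838939361290, 37789310127235944939530, 37788156642643845087236, 37783545800912841768963, 33060024989576173989888⟩) (.leaf ⟨42508216438079413587972, 23611834103472964272133, 28342270192793591771141, 23619903991398973591560, 4722368453538213806080, 18898690429621668691968, 9445887576231263625222⟩)) (.node (.leaf ⟨42507065205355964309506, 9226186786772905986, 5767422341571178498, 42509371611727448272896, 4732745028279690342410, 33065791004405389066244, 14168254903800750419975⟩) (.leaf ⟨9455110103774435233795, 42507063235443326746632, 23619903709511730368517, 23623363037181645963266, 28344575753846809169929, 33062332521572636581897, 4728131654029978644481⟩))) (.node (.node (.leaf ⟨28345728112332793454596, 18894079869777992495110, 9444735218088994172931,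 14169407543418030141443, 47235196577360908398596, 9225342499181068296, 4728131935504837902343⟩) (.leaf ⟨9456264714609921925126, 4732743339567352913926, 23618752477131727462401, 9445887295031131271173, 37790463611621752184841, 14170561028010046152708, 42511676328286881865737⟩)) (.leaf ⟨282093502332931, 18899842225020042498048, 282024766078979, 2814956059754505, 845112141676545, 28342269347750119247872, 42508215874854448021504⟩))) (.node (.node (.node (.leaf ⟨14177475742356689924103, 37782391190970691502088, 33068097410501928026120, 14167101700889936670723, 33068096284533368852480, 18895230820476608589826, 23616445226816383254536⟩) (.leaf ⟨18897538915904178360330, 2307813334117814279, 1126037496819719, 33064638645850735681540, 33066941955378983751690, 42505911439701171015690, 9444735499014198280199⟩)) (.leaf ⟨47235194888167517880323, 14174019511048822890506, 14169405854980469985281, 18894078744015507849217, 9225624317738377225, 37788157205868726722562, 4728133342742366396421⟩)) (.node (.node (.leaf ⟨4733896261415473291267, 37780085066555354787850, 4731592670343612891139, 37780085628955585974280,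 37782390909152285167618, 9448192574746894798858, 4724674578228445216769⟩) (.leaf ⟨4732744183923479711747, 4730437496558072131591, 42504758236584131702786, 9448192575296650625031, 23618750788419289362439, 14168252370319868723204, 47229431969563046584321⟩)) (.leaf ⟨37783543830588004761602, 23616444381979085897736, 18897539196760629452809, 9448193982121811943427, 37778932707657087217665, 47227126126760024899590, 23612986180415252369410⟩)))) (.node (.node (.node (.node (.leaf ⟨9444735218088994172931, 37789309000923670937608, 47235196577360908398596, 3459891032336904195, 47230584609592777375748, 23612985336540078051335, 18894079869777992495110⟩) (.leaf ⟨14170559339160202645509, 37778933833831888756746, 42503604470379884609541, 42507065205768297918466, 18899844195551054688263, 37787002876783111438339, 33065790723067717103619⟩)) (.leaf ⟨37789310690391905820680, 33062332521435197616129, 33061177910805919703044, 18900995991155872104458, 42504758799396797181952, 47229432251106860212232, 33065791285880349011976⟩)) (.node (.node (.leaf ⟨33064638082900748697606, 42501300598176510656515, 37789310408298504159235,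 47235194607104790900743, 9224498555371159555, 47230583202836251672583, 28345728112951184859143⟩) (.leaf ⟨9451652465366763843589, 42508217845660422008835, 23623363881194225680384, 37783543830656791363584, 9455110385249462276101, 33066942518397656637444, 33062329987610684973061⟩)) (.leaf ⟨33066943644091421827072, 23615293993749386895369, 9456264432653942403082, 14167100574508859297794, 37787002313764421767175, 28345729238163863384066, 4729284856872123256836⟩))) (.node (.node (.node (.leaf ⟨40960, 16777216, 68719476736, 2814749767106560, 1152921504606846976, 47223664828696452136960, 10⟩) (.leaf ⟨47225973487074042449926, 9447041623910638452745, 14171713949995672551431, 28337660195281360134152, 42509371330183735296003, 9448193137834320752645, 37788156079418963410954⟩)) (.leaf ⟨47227126408166315683849, 11530904102187835398, 9450498417824811220992, 42508218127135365156868, 9450499543655931469827, 4722367045888351698946, 37789309845623462207496⟩)) (.node (.node (.leaf ⟨42503606440704704794627, 28338812835242287599621, 28344575754327845543938, 47230584891686111948801, 42507063234962290388995, 23623363037112926498825,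 33062332520954161287170⟩) (.leaf ⟨4728131935023835127814, 4723520248799249313795, 37784699003892442075146, 37789308719860943953921, 18894079587959351312394, 9224216736813834242, 14170560183997466447874⟩)) (.leaf ⟨4722369297825721774085, 33060025270707536547847, 9225624386541727746, 9453956338051073454083, 4724674014728853417985, 37787002876645655740416, 28343422551348178075658⟩)))))) (.node (.node (.node (.node (.node (.node (.leaf ⟨14175172151078436220931, 18898690148490272604160, 3460735526020063238, 14170560464922620227586, 9444734936751422844938, 37789309282742144335873, 14170559620772584763396⟩) (.leaf ⟨9445886450331440664581, 23617597585439856816133, 23621058319728758493186, 42508218126860436905993, 28343422550935894761474, 18899843069857423712266, 47231736968216099966978⟩)) (.node (.leaf ⟨47234042530231356518405, 18891773463750089129987, 28338813117129597943812, 5765733491778027520, 8071295369578807302, 37782391753645834149888, 18891772900731433021446⟩) (.leaf ⟨9450499543862106685446, 42507064924155798372360, 23612987587652713738240, 37787002595170662248448, 9447039934717231128582, 33058872067865291296775,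 33063482909115207929862⟩))) (.node (.node (.leaf ⟨28336505022320687980549, 23618751632363317403652, 9451651339810353750026, 42503605596760710320137, 42508218127341590712322, 4726980702712702709766, 9445887013556154556422⟩) (.leaf ⟨33061178192143356801025, 3459609419820589058, 14176324791176852967426, 4729284856872089690118, 47224820002000939810824, 14172864619219379068929, 37781238269260060434433⟩)) (.leaf ⟨4730437215426759897088, 10377138378758983687, 14168254059032273227785, 14171711979189799231496, 14170558776210182152197, 4730438341395386228739, 18897537508116961206274⟩))) (.node (.node (.node (.leaf ⟨14174018948648759500800, 42505912002857266061314, 37789310408504763224065, 47227123593760145948676, 23612987587790203019267, 9450497854943493369865, 9453957463744805076992⟩) (.leaf ⟨33064637238269559459843, 4732745028348527247369, 14171713105570692104193, 9449346903557682520072, 4731591543962669703172, 18895233354301188349957, 14172864619494240161797⟩)) (.leaf ⟨5766577847921565702, 33061179599861854535685, 14175172151009834172423, 23622210678420716679170, 18898689866946492522501, 8071858456954404865,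 4729284575122218311682⟩)) (.node (.node (.leaf ⟨47234042529612847661066, 14171713668451959582720, 28343422551348178075658, 4722369297825721774085, 18898691274390078775300, 9225624386541727746, 42504757110821798051848⟩) (.leaf ⟨18890618853189480366084, 9448192856496732672009, 14175171306790978613254, 18898689303515519545354, 23616445507810290061321, 28334200304592872308741, 33064636675525881913350⟩)) (.leaf ⟨37781239395297355931656, 4725825529064718352386, 1154610904306819078, 9451651339810404073472, 42507065205424650211332, 42507064079318517829640, 47223667362039995576329⟩)))) (.node (.node (.node (.node (.leaf ⟨14170559902453770235911, 37783545800912841768963, 33060024989576173989888, 9225343049054326790, 14170559057547820560393, 9444734091708000645121, 14169406417861670338561⟩) (.leaf ⟨14174017540655350317060, 42509370485552562860036, 4730439185476752543747, 42504758799534202564609, 6917811121193771011, 4732742776961013682186, 9449346059682491400201⟩)) (.leaf ⟨28337660476618897911818, 47223667643652411256838, 18892925822098517020676, 9225624386491396105, 9448191730734197669891, 4732744183786124623873,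 14175170462297345785856⟩)) (.node (.node (.leaf ⟨42510522562907201368071, 37790461078209556393988, 4732744465879576645640, 42504759081077781311497, 28339964349784327749639, 47229429999856768786442, 47228277077871058501639⟩) (.leaf ⟨18899843069651198160905, 37788155235062853406723, 42512828968797649014786, 37789310126823493894150, 37784698722348846567426, 9445888421068611276801, 18890621386532973461512⟩)) (.leaf ⟨14171712260527353782275, 37783544956556748521477, 28335353507847300202501, 37785850518297093636096, 23618750225125822455812, 23618751351094515875847, 37784698159536298557448⟩))) (.node (.node (.node (.leaf ⟨9448193982190464274441, 42509369359721341931526, 23618750506806940803073, 42507065205287244824586, 47225972079492933365763, 28335352382084899442697, 42510522000025933848586⟩) (.leaf ⟨9224779755453177856, 18896384586612438224900, 14175171025041140760577, 28344577724309118656520, 18894078462334406254599, 4612811918434934792, 4729285419684637741060⟩)) (.leaf ⟨9453957745563412758538, 6917811121193771011, 47225970671911857823745, 42509370485415123877890, 37784699004442265006087, 42509370485552562860036,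 4730439185476752543747⟩)) (.node (.node (.leaf ⟨18891774026837498265603, 37790463611278138056710, 11531467464474910730, 14175170743772372824071, 37782392879545808068608, 37778932989406958596098, 42508215875404321300490⟩) (.leaf ⟨9450498136624712405002, 33066942237197541064710, 33065790441317828939776, 9452804824196244852743, 42508217282504276586500, 23619903146836537376768, 37783545519781630181384⟩)) (.leaf ⟨23617599555833362927625, 42508217282847974629378, 4730438622595434713090, 47235194607104841256961, 4732745309823420104707, 9455109822574353190915, 14174017259386582368261⟩))))) (.node (.node (.node (.node (.node (.leaf ⟨4733897387384217018371, 37781239395503581466632, 9451650776654325751812, 42505911720832701321222, 14177476305650123313157, 23618751069825580142601, 42507063516918303449089⟩) (.leaf ⟨37788157486793997971466, 28337658224956523188232, 4732745591298447118341, 9449347185238800875528, 9447039090635931922441, 42510523125788468867078, 14171711416720932499463⟩)) (.node (.leaf ⟨18896384023868592889857, 4732745309823420096514, 28336507274189137268742, 14177476024312736522246, 23621056630878881484802,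 37790463330421552746502, 42510523125444804349956⟩) (.leaf ⟨14174018948236341952520, 14170560465060059152388, 37788155235543839444995, 42509370485277634596867, 18898689866465523302403, 14171711416789568086016, 4611967905771331593⟩))) (.node (.node (.leaf ⟨14177476305306525900806, 28339965475615632527369, 42507063516437267107850, 4733897386903180709896, 37781239394885106147331, 42507065768512009019396, 9452804823783877660678⟩) (.leaf ⟨18899843914007341727747, 37787004846901689331719, 14171711697989650108419, 4612530649532731395, 9445886169406202990601, 28337658224750498975746, 9449346904244793393159⟩)) (.leaf ⟨37788156079418963423233, 23621056349609912180744, 4732743058504609173510, 42509371329840137924616, 42511674921255696367625, 9448193138177918124038, 14171713949514636226564⟩))) (.node (.node (.node (.leaf ⟨9224779824122318848, 18897538634223110348804, 33063484035564853813252, 8072420857185607683, 14171713104952250351626, 4728132779655007604743, 23622211241645581570056⟩) (.leaf ⟨33065790722517961289738, 14174018666761449115650, 28335352382016112832512, 42501299190389209604106, 18895231383632703688713,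 28336507555320499814408, 33063484598514840780802⟩)) (.leaf ⟨47224818031813558546441, 14168254903525805416451, 37789308719586116382721, 23615292868399168757763, 42507064360862331453446, 9455110948543080173577, 42512828687185199779849⟩)) (.node (.node (.leaf ⟨3460453707395653632, 33061177910874504974343, 33063484035564853813252, 8072420857185607683, 37787003439389450727425, 4728132779655007604743, 28336505303452033753091⟩) (.leaf ⟨4728133624148556525574, 14177475742562814812161, 4725828062270705377280, 42510522281363438043141, 33068096847277079932937, 33063483472614933938181, 37787005128307963338755⟩)) (.leaf ⟨18892926103504807817223, 28338812835173651988487, 33064635831032249069568, 33061177066655817142280, 23618751632844353728513, 9447039935129480867846, 14174018385492597276672⟩)))) (.node (.node (.node (.node (.leaf ⟨37790463892890570489866, 47232891016170302373896, 37790463330490406412296, 14170558494803908104201, 42504757954834327408641, 47225972924055403134986, 4723521937855251222531⟩) (.leaf ⟨14177477150212509175816, 23618751069481982795778, 9451650776585606303751, 42507063516437267107850,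 9452804823783877660678, 47224819158194434613251, 14177476305306525900806⟩)) (.leaf ⟨18889466776384715108359, 37785849955347190542343, 23617599555283607097350, 18898691837202660343814, 42509370767302417473545, 33056566788149729034247, 28339964631053129220099⟩)) (.node (.node (.leaf ⟨3459891032336904195, 47230584609592777375748, 23612985336540078051335, 18894079869777992495110, 9444735218088994172931, 37789309000923670937608, 47235196577360908398596⟩) (.leaf ⟨42502451830899943157768, 37787004846764283961345, 14176325635464310566922, 23615292305311726080006, 9452805949546463010816, 9452803416409094791177, 47223665955077445660676⟩)) (.leaf ⟨23614139664801143484418, 4729285982772030099464, 9456263588229012262921, 9455112074374183669766, 42510524251825730756616, 28336507274120367464457, 42504758517853084225546⟩))) (.node (.node (.node (.leaf ⟨14168255185000882778122, 47232888482277154127875, 14168254622600718749704, 37788155516675168444425, 9453957182269845184513, 47225971516336771203073, 4723519967874095517704⟩) (.leaf ⟨4731589855387653767174, 33057719146292048822275, 42509371611521222729730, 42510523406850994499591,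 28334198897767711002628, 28338812553836063907842, 23619904835617694953474⟩)) (.leaf ⟨37788156361100148875273, 47230584610073780195333, 4723520248799249313795, 37784699003892442075146, 14169407825236671369226, 18894079587959351312394, 3461016794704138249⟩)) (.node (.node (.leaf ⟨4728131935023835127814, 47235196295542451765256, 37784699003892442075146, 14169407825236671369226, 33064636957138264010753, 3461016794704138249, 14170560183997466447874⟩) (.leaf ⟨9449345778070042210307, 42505911439563748806662, 42505911439769974358023, 18892927229542103273481, 28343424239579579809799, 18889468183622092587013, 37790463048328134295556⟩)) (.leaf ⟨42507062953899664084993, 18899844477369662308360, 14178629226605075013638, 1155173922962952193, 37787004565839079829511, 14170559058028856877056, 14167101419140065275906⟩)))))))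

def reps9 : Tree (M7) :=
  (.node (.node (.node (.node (.node (.node (.node (.leaf ⟨14168253214607208910851, 37788158050293707218946, 9453958590263287914506, 47225972924055403134986, 4723521937855251222531, 14168252652207044833281, 47232891016170302373896⟩) (.leaf ⟨18899842225020042498048, 282024766078979, 2814956059754505, 845112141676545, 28342269347750119247872, 42508215874854448021504, 282093502332931⟩)) (.node (.leaf ⟨14167099448677806125056, 4614219293217783813, 14167099448677789343744, 42501298346514052055040, 4722366483075971420160, 6919499352478056457, 10377982391321886724⟩) (.leaf ⟨33061178755436874063875, 47232889889789359185927, 4724673170922432102409, 33062332802910207877126, 37783545519919069167626, 37784697033842466230278, 9452804260696619503624⟩))) (.node (.node (.leaf ⟨37788155798356454576137, 33066943081691140345865, 23614140228026025119750, 28343422832823205142530, 42507064642474713559041, 4732744183923580346374, 37790461359821837832201⟩) (.leaf ⟨47235196295679907475457, 563156178964489, 33064638645919287377924, 4722367327638290210818, 23621057194447293390852, 42511677173124212760576,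 37781238269328662474761⟩)) (.leaf ⟨23614138820582438887429, 33061179599930574016521, 23619904553730334273542, 23614139665213477109763, 14177477150006384283655, 6920343983566647303, 3459891100972498951⟩))) (.node (.node (.node (.leaf ⟨37783545800912841768963, 33060024989576173989888, 9225343049054326790, 14170559057547820560393, 9444734091708000645121, 14169406417861670338561, 14170559902453770235911⟩) (.leaf ⟨23611834385222919540736, 23619903428311547674628, 37787002876783061135367, 1407855936696323, 3459609419854135297, 28335354352409736400900, 33062331113648047529987⟩)) (.leaf ⟨23616444382460122234883, 9448193982740287197192, 47227126126966183309317, 14175172714028389629954, 33061177347581071597577, 37778932707863245635594, 28345730364201326645250⟩)) (.node (.node (.leaf ⟨37784697596448855822336, 42505912002857266061314, 37789310408504763224065, 4731589855112725557255, 23612987587790203019267, 42508218690154121953282, 42504759081352810201088⟩) (.leaf ⟨37780085348030230847491, 28337659069175361970179, 42511676047086900482057, 47235194325355036966914, 37781238269053851697162, 9450499262730828005382,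 42502452393643721383938⟩)) (.leaf ⟨14170559339228888600585, 47230583202355248926726, 47235194888167517880323, 14174019511048822890506, 37789310690117145337866, 18894078744015507849217, 3459609213779595266⟩)))) (.node (.node (.node (.node (.leaf ⟨37782392879889405444100, 14175172714578179022848, 14176322820852066295811, 8073265694382268418, 42505911439288837345288, 14172865182306804973571, 33065789315074375036931⟩) (.leaf ⟨37780087318080206704642, 37782390909564518162436, 9455110667342863949833, 42512828124029004062726, 4724672889035021127685, 23617599555627238051850, 42502452956524905000965⟩)) (.leaf ⟨47227123593691426455558, 33057720553873040474120, 42509369078177729634313, 9448193419240443756551, 28334198897424130396167, 23619904835480239230978, 28338812553973519646722⟩)) (.node (.node (.leaf ⟨28344575753778173616131, 42511676047292941508616, 18894080151252969197572, 14170559339641222209536, 14171711979327322099715, 28337658506431650881546, 47227123593485284814858⟩) (.leaf ⟨33061179880855761354756, 23615292305174337429511, 9450499543999495282693, 28338812553767361191941, 42511675484068177264642,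 4726979013313002754055, 23617597022214857703427⟩)) (.leaf ⟨28342271881368641236999, 37781240520716293545986, 18891774589787485253636, 37778934396575683743751, 28337660195350146752515, 47232889045776796250118, 42507062953418661310469⟩))) (.node (.node (.node (.leaf ⟨37783546082800269537280, 23621056068478532861953, 4722366764894528749573, 18892925822098517020676, 9225624386491396105, 42510521718138673836040, 4732744183786124623873⟩) (.leaf ⟨42509369359996236595207, 14178629227154746937349, 47232888482414492426242, 4611686087297867779, 33056566506537195958280, 47228276514783649341446, 28337659914150064701441⟩)) (.leaf ⟨23616446634260070170631, 6919500039790276608, 4613938161922342918, 14170559339297658413056, 18899844195757330546694, 4732744184404566372358, 33058872912358974439432⟩)) (.node (.node (.leaf ⟨37790461641571809906696, 37789308719586116382721, 23615292868399168757763, 9451652184235283869701, 9455110948543080173577, 9445887857912415543298, 4733898513284056776706⟩) (.leaf ⟨4723520811886742351874, 33068096566077031464967, 33066942518603697651716, 33060026959351154479107, 37780085347755352948738,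 9447039653654571253763, 18895231946582808109064⟩)) (.leaf ⟨47225972360899240931336, 28335354352340899500034, 9448192012415383146506, 9448192575296600281090, 9449345215120004898822, 28339964068171979198465, 9451652746704335155210⟩))))) (.node (.node (.node (.node (.node (.leaf ⟨14167101700683778261000, 33068096284189771440128, 33063485723865092468738, 28342271318624829472776, 14177475742700287328260, 14176325354470336643080, 33068097410020891688963⟩) (.leaf ⟨37788158050431112577031, 47224818595038339567626, 42512828405435395493896, 37790462204178132377604, 28336504740776891138057, 9455111511630388670468, 9451650776585555947524⟩)) (.node (.leaf ⟨37780084784667943796743, 4728133623736323547146, 47234042529750370521096, 4726980702712685936647, 42510523688600815566850, 42504757955384083234820, 23617599273808529752071⟩) (.leaf ⟨4726979576606637461513, 14172866871156765917190, 4733896261209398714369, 28339966038084482523145, 4724672888966335201288, 9451651902279270830082, 9447041342366942236680⟩))) (.node (.node (.leaf ⟨42501299190801543229443, 14169407543418030161928, 47235196577429627895815, 9225342980217384963,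 47230584610211252666375, 23612985335921602732036, 18894079869571834085381⟩) (.leaf ⟨23611834103472964272133, 28342270192793591771141, 23619903991398973591560, 4722368453538213806080, 18898690429621668691968, 9445887576231263625222, 42508216438079413587972⟩)) (.leaf ⟨33061179599380767834116, 47224819720800807428102, 9449344652376260214791, 33064635830619831541769, 47228278485520920637450, 28335352944759991726082, 42512830094422627610625⟩))) (.node (.node (.node (.leaf ⟨28339965475272035180546, 42507063516918303449089, 4733897387384217018371, 14177477149594033856515, 9451650776654325751812, 9452804824264914001925, 37781240239447492009990⟩) (.leaf ⟨14178631197136036847620, 23615291179205660807174, 9456264995672564989961, 10378827297372274696, 37787003158326807666693, 33064638364375675068424, 9448194545277890215946⟩)) (.leaf ⟨37781240239791089422341, 23618751069481982795778, 42507063516437267107850, 4733897386903180709896, 14177477150212509175816, 42507065768512009019396, 42505911721313737662469⟩)) (.node (.node (.leaf ⟨1152921504606846976, 47223664828696452136960, 1, 40960, 167772160, 687194767360,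 281474976710656⟩) (.leaf ⟨5767422341655064585, 42505910313457800986624, 4724673170991034171402, 18898691555796302430215, 14178629226948655611911, 9450499825268330373129, 9226186786655465481⟩)) (.leaf ⟨14174019511048822890506, 14169405854980469985281, 18894078744015507849217, 9225624317738377225, 37788157205868726722562, 4728133342742366396421, 47235194888167517880323⟩)))) (.node (.node (.node (.node (.leaf ⟨47235196577429627895815, 3459890551300587528, 47230584610211252666375, 28345728112951268773895, 33064636675525781237766, 9444735217745396776968, 14169407543418030161928⟩) (.leaf ⟨37787002595582979096583, 14170560464922737655818, 28337660195487518593027, 4732743058504609173510, 42509371329840137924616, 9447041623841918955522, 9448193138177918124038⟩)) (.leaf ⟨28334200867748967370752, 3461016794788032513, 28338811146461213917191, 28335352382084781989892, 37787004847107881320455, 33062331958072860250115, 1407649778266120⟩)) (.node (.node (.leaf ⟨18897539196760646234116, 28343423395567016906759, 42508217845591618654213, 28338811709686078775302, 42511676891649202470921, 47231736123653630222343,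 23617597022283577180168⟩) (.leaf ⟨42508216156466964369417, 47234043374106614718466, 42503605033810740142081, 28344577161221709500421, 4728132779380096126978, 47234042530162586718216, 14178629226948655595523⟩)) (.leaf ⟨47230584328667506184197, 14177477149731607040007, 47227123874822839341061, 28338811990954930610186, 4728131653548824866825, 9445887576231280414729, 42510524251207205158917⟩))) (.node (.node (.node (.leaf ⟨28337660476618897911818, 47223667643652411256838, 33065790722999098302471, 9225624386491396105, 42510521718138673836040, 47225972360555576455178, 37783546082800269537280⟩) (.leaf ⟨9445887857981135015945, 4733898512803020419081, 14168254904006841749512, 14169407825030462582785, 23615292867780693495816, 42507064361343367802885, 9455110948474360733698⟩)) (.leaf ⟨47223665673808627384328, 42508218408679145242625, 14175171587991094202377, 23615293712205690728454, 23614141072656996278282, 18891772619187669725194, 37782393161295645929481⟩)) (.node (.node (.leaf ⟨4730438341395386228739, 18897537508116961206274, 4730437215426759897088, 10377138378758983687, 14168254059032273227785, 14171711979189799231496,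 14170558776210182152197⟩) (.leaf ⟨18897538634291695620103, 33057720553941743173633, 42504758799396797181952, 47229432251106860212232, 18892925259217266311171, 37789310690391905820680, 18896384023662417707018⟩)) (.leaf ⟨9224217011607863298, 42504757110821714145288, 47234042811087908270090, 37787004846970408808448, 23615291460474462289921, 4722366764550813925381, 33060026115132382797831⟩)))))) (.node (.node (.node (.node (.node (.node (.leaf ⟨14176323665208209833991, 37783543830519436300288, 14176322820852066295811, 8073265694382268418, 9452805105808593428483, 14172865182306804973571, 18892927229267326042120⟩) (.leaf ⟨18890621105057996734472, 28342271318556126765058, 9452803698158915833865, 23616446071035205267458, 42504758799809114042375, 4725825247658410770438, 23611832414898065793031⟩)) (.node (.leaf ⟨8072702881867796488, 28334199741917696139266, 42504759362690196996100, 4724672326360063037448, 4725827781139393155072, 33060026396744815243272, 14176324791176936816643⟩) (.leaf ⟨37778934678188132958216, 9449344652376327348227, 47225972923574282883081, 42504759362415453282308, 4729286263903409414146,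 23621058601615984988168, 4732744747217097601028⟩))) (.node (.node (.leaf ⟨18898692118265253109763, 37780087318149026840585, 42511675484274335678467, 33063484316696350560264, 47235195451255010918402, 33068095721170981109764, 33066943925635101261831⟩) (.leaf ⟨23622210678558205972490, 23619902865086733115392, 18899844195688611074055, 18892927511017046425608, 42509369640921541386245, 14177476868531424354311, 18896384305412188446720⟩)) (.leaf ⟨23619903709374274613254, 9450498981186964049930, 14169405854636990013440, 14170558213260346159110, 4729286263972028243970, 23615293149461912514566, 33057718865092000366595⟩))) (.node (.node (.node (.leaf ⟨4724674015347345494022, 37780087599623886118921, 14176323384008077512706, 33058872912015393841161, 28336506710895552892933, 23621056349953643814921, 9450499262387113177098⟩) (.leaf ⟨9225061230429884416, 33061179318318225444868, 33063484879646304002055, 4613656343365029891, 37787004283814296973322, 47230584046986421346311, 23622209271114636496899⟩)) (.leaf ⟨33063484879783625523207, 9448192575159094255620, 37784696752367640539144, 28335354071140767125510, 9444735780695232778242,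 5765171022894477316, 37781239676360066093062⟩)) (.node (.node (.leaf ⟨4724673170853712637953, 4733898231740394115075, 14178628945267554004993, 47227126408028910288904, 37780087036330318503944, 14176323102670690717705, 9448193982121694502922⟩) (.leaf ⟨37785851081109591298057, 23612985899146484396032, 42501300598245129457674, 18896385712855791443977, 23614141072450938486787, 33062331395191659851778, 18898691273909143089153⟩)) (.leaf ⟨23615292868399168757763, 9451652184235283869701, 9455110948543080173577, 9445887857912415543298, 4733898513284056776706, 37790461641571809906696, 37789308719586116382721⟩)))) (.node (.node (.node (.node (.leaf ⟨37781237706172584177671, 14176325354470336643080, 33068097410020891688963, 37778932707863161745411, 33068096284189771440128, 18895230820476608610313, 23616445226472785850371⟩) (.leaf ⟨9450500106537165422599, 18891774308312474992643, 18891773463406458187779, 18892925540486067793920, 47235194325423756419081, 14169405573643032862726, 33060024426557467541513⟩)) (.leaf ⟨47230584610211252666375, 28345728112951268773895, 18894079869571834085381, 9444735217745396776968,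 37789309000923670917123, 4723519967667802877956, 9225342980217384963⟩)) (.node (.node (.leaf ⟨42512828124029004062726, 47234043656062594195462, 28341116989470377271297, 9456263588572710322182, 37780087318080206704642, 37782390909564518162436, 42503605877754751373314⟩) (.leaf ⟨37783545238306636709893, 18898689303515519545354, 23616445507810290061321, 23611834103198153453574, 33064636675525881913350, 33068094595683391139847, 42510523688600882651138⟩)) (.leaf ⟨33061177910805785501702, 18892924695992502087690, 33057718301798416019463, 28338812272154911989762, 9453957464088436051977, 23611834103198203785222, 14171712542483433943046⟩))) (.node (.node (.node (.leaf ⟨33063485723865092489225, 28342271318281232068611, 37781237706516181581828, 37782391190970691502088, 33068097410501928026120, 37778932707657003335688, 33068096284533368852480⟩) (.leaf ⟨2308095083922071552, 9455110385661863002114, 33057720553391987376135, 42503605596279673987075, 9224779686633021441, 47227124156366518751242, 37785852206940879339525⟩)) (.leaf ⟨9226186786772905986, 5767422341571178498, 42509371611727448272896, 4732745028279690342410,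 33065791004405389066244, 14168254903800750419975, 42507065205355964309506⟩)) (.node (.node (.leaf ⟨4728132216498895740936, 9445887576781002678281, 9447039090635864825862, 42504757673359384285192, 28344575753846742077449, 42510523407332131479562, 23622210397426843402242⟩) (.leaf ⟨9451650776860417077256, 23623363318587785756681, 33062330550629307539458, 42503605033329703804931, 23619905117230060310534, 23614138820444916064265, 47230582921361392435201⟩)) (.leaf ⟨14177476587056363757570, 23622210678420733452289, 4725826936645777104900, 9444734373457855291400, 23622209552795771625476, 14178629226742430040065, 33068094876883473149960⟩))))) (.node (.node (.node (.node (.node (.leaf ⟨4731592670343612891139, 14178630916142029348867, 14176325635945330155529, 42510523970350720524289, 4724674578228445216769, 4733896261415473291267, 14178631478542260535297⟩) (.leaf ⟨23615293993749386895369, 9456264432653942403082, 14167100574508859297794, 37787002313764421767175, 28345729238163863384066, 4729284856872123256836, 33066943644091421827072⟩)) (.node (.leaf ⟨33060025270570114379783, 47232890453082876452871, 37785850236547238985737,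 23612987869814851665921, 37781238832484807901188, 42503604751854794211331, 28344577442902878232583⟩) (.leaf ⟨9447040216192241377288, 3460453844733956097, 4725825810539627941889, 14174019792592535830534, 2308095084073066496, 9447040779348386775042, 33068095439558565457927⟩))) (.node (.node (.leaf ⟨33065790723067717103619, 37788157205937412677638, 14167100574715051249665, 9455112074717730713606, 42507065205768297918466, 18899844195551054688263, 14171713668314503839752⟩) (.leaf ⟨9447041623910638452745, 37787002595101942771716, 28337660195281360134152, 9449345214913880027144, 42510523407263294570502, 14170560464922737668097, 47225973487074042449926⟩)) (.leaf ⟨28344575472577957347331, 18898691274527618400266, 23612985899215203893248, 18896385712512194088962, 18896385149562358099970, 14172865463781865558025, 42501300597764093157377⟩))) (.node (.node (.node (.leaf ⟨33058872630884048072712, 6918655614809833472, 37788156361375077146624, 47225972079218089029637, 23616444663935115735047, 8072702744462360581, 18899843351332316540934⟩) (.leaf ⟨18900995710024526360579, 28338811427730099306502, 42508217282779087396874,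 14169407825580151283712, 14170558213741265055749, 47229431688294228316162, 23615292305243023372293⟩)) (.leaf ⟨14167101700683694370817, 23612986180896288677897, 23616444382460122234883, 9448193982740287197192, 4731590418131432013830, 14175172714028389629954, 18897539196760629481474⟩)) (.node (.node (.leaf ⟨14175172714509425967113, 23616444381979085897736, 18897539196760629452809, 42510522562975803379720, 37778932707657087217665, 4731590418337590423557, 28345730364682362953737⟩) (.leaf ⟨4725827781276815339522, 47231736405403635826696, 42501299190457962602501, 42504759362621611720706, 28345729520188713353218, 37780087599417694121992, 47227125000722746183681⟩)) (.leaf ⟨42502451830487676657664, 4725827217983214194691, 14177476868600059928582, 18890619697751849472005, 28342270755812331782146, 28343423676767149228033, 37783545519644090601477⟩)))) (.node (.node (.node (.node (.leaf ⟨33060026396607342718976, 3460735526020063238, 14170560464922620227586, 42501299471795517161473, 37789309282742144335873, 37788156924325030559751, 37783544394018994552840⟩) (.leaf ⟨9451651339329317404681, 14170559339160202645509,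 33058872349546560634884, 14167100574715051249665, 14171713668314503839752, 42503604470379884609541, 33065790723067717103619⟩)) (.leaf ⟨14170558495216241745926, 4731592388318762917891, 14172864900969384656898, 28344576598477847437316, 42503606722523228573697, 42511677454393014247429, 42512827842416605155331⟩)) (.node (.node (.leaf ⟨28345728112951268773895, 33064636675525781237766, 9444735217745396776968, 14169407543418030161928, 47235196577429627895815, 3459890551300587528, 47230584610211252666375⟩) (.leaf ⟨14175170462228626309124, 4613938024416321544, 28343422832891924615170, 33066943081141300637704, 14175170462434902167555, 9456262462329105436681, 9452805668140188975111⟩)) (.leaf ⟨28339964068171979198465, 42507063798393280167937, 4732744184198374391811, 23623362192756715823113, 9448192012415383146506, 9448192575296600281090, 42509371329977610424325⟩))) (.node (.node (.node (.leaf ⟨42510523125857171566596, 23611832414898065793028, 23619904835480239230978, 28338812553973519646722, 4731589855181445005317, 33057720553873040474120, 9449347466919885688834⟩) (.leaf ⟨23622208708095896469506, 4733896542684274790401,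 9455110104255555469316, 9445886732287453712387, 9451653309860430249988, 37790463048603012206596, 37788155517156238295047⟩)) (.leaf ⟨3461016794788032513, 28338811146461213917191, 23623364163012833333255, 37787004847107881320455, 18896384587024755073032, 1689331064389635, 23611833540797972635648⟩)) (.node (.node (.leaf ⟨18897538634291695620103, 18900995991155872104458, 42504758799396797181952, 4729284293990755110915, 33065791285880349011976, 14169405854705709502467, 18896384023662417707018⟩) (.leaf ⟨14178629790104733876228, 47232890734420430962688, 42507064079937043464195, 4732742776892176756738, 37781240239653532995593, 14170561028491166363658, 4732743339910816100352⟩)) (.leaf ⟨18895232791076306685952, 28344577161427867963393, 23616444100916509954048, 33066943644297462829060, 33060026959625982066691, 9452804260833974558726, 14169407262217948123143⟩)))))))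

def reps10 : Tree (M7) :=
  (.node (.node (.node (.node (.node (.node (.node (.leaf ⟨37788156079419080851465, 9444734936751422844938, 14169407262355470942218, 37788156924325030559751, 37783544394018994552840, 18898690148490272604160, 3460735526020063238⟩) (.leaf ⟨47224819720800807428102, 9449344652376260214791, 33064635830619831541769, 47228278485520920637450, 28335352944759991726082, 42512830094422627610625, 33061179599380767834116⟩)) (.node (.leaf ⟨4731589855387586691073, 23614140791319441707016, 9447040497804673814531, 18894080151252969197572, 14170559339641222209536, 37787004565770293223432, 28337658506431650881546⟩) (.leaf ⟨4728131653548824866825, 42512828968866334908418, 42510524251207205158917, 4728132216430109138950, 37781239395366008283140, 4731592670274775982086, 28338811990954930610186⟩))) (.node (.node (.leaf ⟨23612986180277880504320, 14171711416652213022720, 9447040779142144479238, 33058873475240292261895, 33063482909115291820038, 42508217845660388458501, 9451652465366730293251⟩) (.leaf ⟨8071858456954404865, 47229431969975397011465, 5766577847921565702, 18897536945235760787462,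 37783544394087781105668, 28336505866676898643977, 18898689866946492522501⟩)) (.leaf ⟨14168255185069468053507, 47232889890201793503233, 47227126127103639040009, 4730438059576711462915, 9444733810370496438278, 42510522562563603984386, 28335353507778631069698⟩))) (.node (.node (.node (.leaf ⟨18899844477163604578311, 18895230539001749327878, 9450499544068265095173, 9451651621147975368712, 23612987587652713725952, 37787002595514259619840, 9447039935335706415109⟩) (.leaf ⟨14170559057685259485188, 37787002595033139404800, 14170558213328981757960, 4614501180645576713, 9449346341294772850696, 14174018103811495718920, 18898691836790276370435⟩)) (.leaf ⟨14171711979670768484355, 33065789597099090804736, 9224498005648904198, 37782392879270930182153, 42501300316838922563585, 14177476868394069262346, 14176324509976754159620⟩)) (.node (.node (.leaf ⟨47234042529750269829125, 37780087599623886118921, 14176323384008077512706, 18899843633082221481986, 28336506710895552892933, 28337660195143971508226, 42508217282710502146049⟩) (.leaf ⟨47224819439188526006281, 37790461641365651488770, 18900996273043165704196, 9455110103980643975171,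 33058872067727969779716, 18896384868430894899208, 18892924977467428478984⟩)) (.leaf ⟨33058872349546560634884, 14171713668314503839752, 18892925822029898219528, 14170559339160202645509, 37778933833831888756746, 9455112074717730713606, 42507065205768297918466⟩)))) (.node (.node (.node (.node (.leaf ⟨18898691555521441333248, 9225343049054326790, 14170559057547820560393, 42501300316838939361290, 14169406417861670338561, 37788156642643845087236, 14175170744184589004808⟩) (.leaf ⟨4731589855456373272580, 23612986180896305471496, 42508216156535616733193, 42504758236309287337984, 37784698441492378685440, 42505911157813860638729, 37789309001473326059530⟩)) (.leaf ⟨9448193982190464274441, 9449347185376273391621, 23618750506806940803073, 9451651339810370498561, 4732744465604681957384, 23623364163012715880450, 42510522000025933848586⟩)) (.node (.node (.leaf ⟨4728133624354698199041, 9451650776379380760579, 23623363318656505245698, 33062330551247782825993, 9455111511149436231683, 28338811428211152424966, 23614138820925952364546⟩) (.leaf ⟨28345729520120010657794, 33065791285811612786693, 23612986180965108846593,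 47229430562531810775042, 9445887576231246860296, 9447041623910621667330, 23614140509294860181512⟩)) (.leaf ⟨9455111230086658928645, 37785850799634648137728, 33060025552594796560391, 28342270192312588976132, 18897536382354442977280, 33064635831169637683203, 23617598429864770170890⟩))) (.node (.node (.node (.leaf ⟨37788158050293707218946, 42504757954834327408641, 4732743621042212188161, 47235194607242364100616, 14168252652207044833281, 47232891016170302373896, 37790463330490406412296⟩) (.leaf ⟨33060026115063713648644, 37787004002820339830786, 37778931863369596014599, 5764607798046384133, 4722367327500800913415, 18896385430968564998147, 33063485724002464337925⟩)) (.leaf ⟨37790462766921960955913, 37787003158051845869576, 37788155798081442418693, 4730438622389242716168, 18897538352885539053577, 47228276796739746299904, 10378545685006946308⟩)) (.node (.node (.leaf ⟨33065790441592807505924, 28338812835173651988487, 33064635831032249069568, 18897536382217054363651, 23618751632844353728513, 42511676609968134455301, 37784698159605018001408⟩) (.leaf ⟨8072139588333731841, 37787003158601651978247, 4728131653617594683401,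 23614140227888586178569, 5765733422991433734, 18892925259423508615174, 18894078180721923489797⟩)) (.leaf ⟨14175171306997137031173, 28342271036668849967113, 33064636675319723479045, 9448192856565452120066, 18898689303515519533057, 23611834103198153474053, 33068094595339793743876⟩))))) (.node (.node (.node (.node (.node (.leaf ⟨42508217001029350227974, 9451651621147975368712, 28345728956688987353088, 14171713949583355703296, 42511676609761908908038, 18899844477163604578311, 18895230539001749327878⟩) (.leaf ⟨9447039090635948707842, 23614139101919825661960, 23612986743502745391113, 18892927229610923433990, 23612987588339874930689, 4729285138140891222025, 9445887294756354007048⟩)) (.node (.leaf ⟨18891773463406458187779, 33065791004611547529216, 47235194325423756419081, 37789310971454582460421, 18898692118540147781634, 42508216437804535656452, 18891774308312474992643⟩) (.leaf ⟨42511676047430481092611, 10378545822479425536, 9225061161609760778, 42511676610174309629961, 47232888764233066483722, 18890619697408168194052, 37784699285779752435717⟩))) (.node (.node (.leaf ⟨42503605596417079390210, 28335352945240994500611,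 28336505021977040265222, 28339966038702924242953, 18895232228263825805322, 4732744184335779799041, 9447041342435661742090⟩) (.leaf ⟨3459891101089959941, 37782391471895962730505, 42501299472414009229313, 14177477712818848399370, 37782392316595787563015, 37787003158051778756616, 33065791004474091778048⟩)) (.leaf ⟨37778933833488291336193, 9455112074099255443461, 9451651339810353721346, 18899844195894652059652, 14171713668245784363011, 33065790722586680786952, 14170559339641239019526⟩))) (.node (.node (.node (.leaf ⟨47224820283682142031880, 14178631478542260535297, 4731592670343612891139, 37780085628955585974280, 14176325635945330155529, 9448192574746894798858, 47234041966869170106378⟩) (.leaf ⟨33066943081553734955014, 9456262181404001968136, 9456264433272417697796, 10377701466252013576, 14177477149800326508550, 37782393161089487495178, 23611832696235569991689⟩)) (.leaf ⟨18892925822029898219528, 14170559339160202645509, 14167100574715051249665, 9455112074717730713606, 9451651339329317404681, 18899844195551054688263, 37787002876783111438339⟩)) (.node (.node (.leaf ⟨37784699004373579087881, 2252143511748613,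 33064636956725913591813, 18897538071135701180422, 37778932989131946479617, 4731591825506214903815, 18900996835718190866434⟩) (.leaf ⟨28341116989332971851782, 9449345778276234190857, 23618751914113020985347, 14172866589819144269831, 33060024707963674443782, 18889467621015686217735, 33056567632368383307783⟩)) (.leaf ⟨23618751069481982795778, 42507063516437267107850, 4733897386903180709896, 14177477150212509175816, 42507065768512009019396, 42505911721313737662469, 37781240239791089422341⟩)))) (.node (.node (.node (.node (.leaf ⟨28336505021977040265222, 23618750506394691080194, 18895232228263825805322, 47225972360761835524106, 42511675202661953581057, 9455110948680535932937, 28335352945240994500611⟩) (.leaf ⟨4724673170647419990025, 9450500106949599715332, 37780086192111580385286, 9455112074374133350401, 28336505303245858553862, 14169407544036606107650, 9450498136830904410118⟩)) (.leaf ⟨33060026677876177797123, 14170560465541095489543, 37787005128926522531840, 37788155235200242032648, 4611967837051817986, 42509370485896109924360, 37784697596655114928136⟩)) (.node (.node (.leaf ⟨18900995991224574803971,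 42509369078177729634313, 42510523125857171566596, 23611832414898065793028, 28338811709617376092169, 28338812553973519646722, 47227123593691426455558⟩) (.leaf ⟨9447038809435749224457, 33056567069555902390280, 23615293712411882696710, 18894079025146870403075, 18891772619119000555530, 37788156642437720215559, 23617599836827219394566⟩)) (.leaf ⟨14168253496013566783495, 42509370767027573112840, 42505911439563748806662, 42505911439769974358023, 33065789315555512049666, 28343424239579579809799, 33056566224924847374342⟩))) (.node (.node (.node (.leaf ⟨42509371329977610424325, 28339964068171979198465, 9451652746704335155210, 4732744184198374391811, 28335354352340899500034, 42510524532682232176641, 42510523969801015042057⟩) (.leaf ⟨4732744465879576645640, 42504759081077781311497, 23618752195313287573508, 47229429999856768786442, 4730439467226556821508, 9448193982190413955076, 14168252370663315111943⟩)) (.leaf ⟨37783544393881589129219, 47232888201008319049729, 42503605878235670290435, 14176324791589186576384, 23615292023768046653450, 23622209271526852661251, 18897536945441952763911⟩)) (.node (.node (.leaf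 ⟨14167101700683778261000, 18890620260907843883008, 33063485723865092468738, 23616445226472785850371, 37781237706172584177671, 37782391190627094130691, 33068097410020891688963⟩) (.leaf ⟨23619905398636401405956, 23623364163012833333255, 37787004847107881320455, 33062331958072860250115, 1689331064389635, 28334200867748967370752, 9224216736729939978⟩)) (.leaf ⟨28341118960138895495173, 9449346622220044099586, 28339965475478059352067, 14172864619425638150148, 18898689866877773049862, 33056567069624621858823, 18889468183759447687175⟩)))))) (.node (.node (.node (.node (.node (.node (.leaf ⟨33060024989576173989888, 3459890482463645701, 14170559057547820560393, 42501300316838939361290, 37789310127235944939530, 37788156642643845087236, 37783545800912841768963⟩) (.leaf ⟨33065790722517961289738, 18895231383632703688713, 37784697878336166207497, 28336507555320499814408, 23623364163081502490624, 18895231946582774542345, 9444735218157730402305⟩)) (.node (.leaf ⟨33061178755436874063875, 47234043374175183175682, 14175171025178546155521, 42505912283645081575427, 47232889889789359185927, 33062332802910207877126,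 14174019511254964543493⟩) (.leaf ⟨23615293993955528552457, 4724674859222452707331, 23617599555283657449476, 9448192293409373818885, 28336506148220594823169, 42502451830831206928392, 33066943363097397600262⟩))) (.node (.node (.leaf ⟨28345730646157339688962, 4729285700884652630022, 28336507555320550166532, 9453956619869681102857, 18898690148009236254726, 9455109822643039145989, 28344578005646589300746⟩) (.leaf ⟨42501299753270426742788, 18898689585127951982600, 2307813402921177092, 42503605596417112969217, 4733898231396679299080, 42501300597695340122116, 33061179318112033480704⟩)) (.leaf ⟨42512828123822895960068, 33065789034080434679808, 42510522281432191086593, 11531467464458113028, 4731592106775066710024, 14177477149800326520840, 11529778614547513348⟩))) (.node (.node (.node (.leaf ⟨37789309000923670937608, 47235196577360908398596, 3459891032336904195, 47230584609592777375748, 23612985336540078051335, 18894079869777992495110, 9444735218088994172931⟩) (.leaf ⟨28337658225162681589763, 42509369359515217051656, 9448193419652743852038, 37788157486793997959169, 47225970953318131830789, 9447039090567212466178,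 14171711416239896150020⟩)) (.leaf ⟨23616445226816383254536, 14177475742356689924103, 14176325354126739271683, 33068097410501928026120, 37778932707657003335688, 18890620260564246470656, 33063485723865092489225⟩)) (.node (.node (.leaf ⟨28343425084622968483850, 47223667643996126081030, 33060026115132382797831, 9224217011607863298, 9453956338051157360643, 47234042811087908270090, 14171711698127206514688⟩) (.leaf ⟨9444734092257739706378, 4730437778307859640328, 9455110948336787558408, 37789309845417270181898, 37780085347480575676424, 23616446915528871653385, 9455110103705749291018⟩)) (.leaf ⟨9448193982740287197192, 47227126126966183309317, 14175172714028389629954, 33061177347581071597577, 37778932707863245635594, 28345730364201326645250, 23616444382460122234883⟩)))) (.node (.node (.node (.node (.leaf ⟨9447039935335706415109, 18899844477163604578311, 18895230539001749327878, 9450499544068265095173, 9451651621147975368712, 23612987587652713725952, 37787002595514259619840⟩) (.leaf ⟨28338811709548639825922, 47227123593691376123910, 18900997398599408025603, 9449344933645112074242, 9448193137765584498695,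 23611832414898082566148, 23619903991055392989186⟩)) (.leaf ⟨18895232228263825805322, 47225972360761835524106, 9447041342435661742090, 9455110948680535932937, 23623363599856620822536, 23622211523120575057925, 28339966038702924242953⟩)) (.node (.node (.leaf ⟨5765171022894477316, 37781239676360066093062, 33063484879783625523207, 9448192575159094255620, 37784696752367640539144, 28335354071140767125510, 9444735780695232778242⟩) (.leaf ⟨37778932707657120755715, 18900996554105859117056, 18896383741981366452233, 23619903991330254106627, 37789308157048513376263, 37788155798493725749251, 18900995428137165651976⟩)) (.leaf ⟨23616445789216513732614, 23622210115539516276739, 14169406699268028256263, 6917810708776239108, 3460735525902643204, 23622209271320694251525, 18894078180996801372162⟩))) (.node (.node (.node (.leaf ⟨42505911720832701321222, 14177476305650123313157, 23618751069825580142601, 42507063516918303449089, 4733897387384217018371, 37781239395503581466632, 9451650776654325751812⟩) (.leaf ⟨9450497855149735682053, 28342271600168492105729, 47229429717900638326786, 42512828968522720763906, 37789310971592021409801,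 9455111792624362622982, 14172864619631830147081⟩)) (.leaf ⟨4728133623736323547146, 47234042529750370521096, 4726980702712685936647, 42510523688600815566850, 42504757955384083234820, 23617599273808529752071, 37780084784667943796743⟩)) (.node (.node (.leaf ⟨28344576879884138213384, 14177477150006384283655, 5764889547766775812, 9225342430545473540, 28344577724515176435718, 33061179599930574016521, 23619904553730334273542⟩) (.leaf ⟨9447039090635864825862, 9453958871738231037955, 28344575753846742077449, 9448193137765483843585, 28336506147670771920905, 47230584328598719582211, 9445887576781002678281⟩)) (.leaf ⟨23619902865086733115392, 18899844195688611074055, 33065789034080384348163, 42509369640921541386245, 37781239676566190968836, 33062332239685242327040, 28336505866539409350657⟩))))) (.node (.node (.node (.node (.node (.leaf ⟨47225972924055403134986, 4723521937855251222531, 14168252652207044833281, 47232891016170302373896, 14168253214607208910851, 37788158050293707218946, 9453958590263287914506⟩) (.leaf ⟨42510523688875726995456, 47232888201283129864199, 37785850517953580146688, 28335352663766001016835,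 9449345777726344142850, 9451650776448217677826, 37781239957972364337162⟩)) (.node (.leaf ⟨47232888764233066483722, 10378545822479425536, 33068096846933532884999, 9225061161609760778, 14174017259317862887430, 9447039934923305648130, 9447040497667134230536⟩) (.leaf ⟨4730439185476752543747, 42509370485415123877890, 42504758799534202564609, 37784699004442265006087, 5767422410324201480, 9449346059545052463111, 4732742776961013682186⟩))) (.node (.node (.leaf ⟨33060025270707536547847, 3459609144976244745, 9453956338051073454083, 47234042529612847661066, 14171713668451959582720, 23615293993749252698113, 4722369297825721774085⟩) (.leaf ⟨11530060089591353345, 14171711979602132889607, 37788157487274916847616, 37778932989063277326338, 9451650495316804767745, 33058872068071550353416, 37780087317736626102278⟩)) (.leaf ⟨33065791004130494414848, 3459890482614640646, 14176325072445738336265, 9444734936751406088193, 14177477712887567876097, 14176324228295669350407, 37787003158532815073283⟩))) (.node (.node (.node (.leaf ⟨37783543830588004761602, 28342272163118529380355, 18897539196760629452809, 42510522562975803379720,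 14167101700889852788746, 4731590418337590423557, 23612986180415252369410⟩) (.leaf ⟨18889466494978390765577, 37788156361100232781833, 14178630634323472035845, 1154048091842707459, 42510521999751123050506, 28337659914150014361610, 42505911158226227838986⟩)) (.leaf ⟨37781239676703546015745, 37782392035120861163527, 14171711979670768484355, 33065789597099090804736, 3460735525869068293, 37782392879270930182153, 9444734091708017442826⟩)) (.node (.node (.leaf ⟨37784697034048792432641, 14169405854980469985281, 18894078744015507849217, 3459609213779595266, 37788157205868726722562, 47230583202355248926726, 4723521656174183198728⟩) (.leaf ⟨14175169899416111812612, 23621056068478667100169, 28335353789047331913730, 42512829812741542785025, 4728133342398802583556, 37778932988857236361225, 18899844195482335191040⟩)) (.leaf ⟨23619903146836537376768, 37783545519781630181384, 9450498136624712405002, 33066942237197541064710, 33065790441317828939776, 9452804824196244852743, 42508217282504276586500⟩)))) (.node (.node (.node (.node (.leaf ⟨14175172714578179022848, 14176322820852066295811, 8073265694382268418, 42505911439288837345288,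 14172865182306804973571, 33065789315074375036931, 37782392879889405444100⟩) (.leaf ⟨37781239676497370845189, 14175171025453524721670, 33068096847345765851142, 42502451830487676657664, 28342270755812331782146, 47232889327114401128456, 28343423676767149228033⟩)) (.leaf ⟨33065789596892965924867, 14170559339228972449800, 8072702538354270216, 23611833259254360313858, 42510522562838347677703, 47225970671980560539656, 4731590418337590415360⟩)) (.node (.node (.leaf ⟨47225972360761835524106, 42511675202661953581057, 9455110948680535932937, 28335352945240994500611, 28336505021977040265222, 23618750506394691080194, 18895232228263825805322⟩) (.leaf ⟨18890619979089252974598, 28336506148083088756745, 37784697877855180161031, 23617598992471025545218, 18894079587890564726792, 42511677172849334837255, 33063485161396108292098⟩)) (.leaf ⟨14167101419414808977418, 4731591825506214903815, 33057719709379424456713, 14174017540724036235266, 844837330907142, 33064636956725913591813, 18897538071135701180422⟩))) (.node (.node (.node (.leaf ⟨42507065205287244824586, 47225972079492933365763, 23623364163012715880450, 42510522000025933848586,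 42510522562907151048706, 9449347185376273391621, 28339966038290674520074⟩) (.leaf ⟨33060025833794794708992, 37787004284295299727363, 9449346059682474647556, 9451651058129268924417, 42507064360999720091655, 33058871786665209262085, 23616444382322800721920⟩)) (.leaf ⟨42511676891649202470921, 4726980420687886307332, 23617597022283577180168, 33061177347581054844935, 23615293149530598416388, 9450498699505996668934, 28338811709686078775302⟩)) (.node (.node (.leaf ⟨23619905398636401405956, 28335352382084781989892, 37787004847107881320455, 18896384587024755073032, 1407649778266120, 23611833540797972635648, 9224216736729939978⟩) (.leaf ⟨14175170180685030776832, 37782390627677258158083, 4614501180561690626, 9452804823715141427208, 14172866026937977421832, 33065791285399295897608, 14176325073064213610500⟩)) (.leaf ⟨18896384023868592889857, 47225971235274195226633, 23622209270908478054405, 37781240520784878800901, 23621056630878881484802, 37790463330421552746502, 9448193419652810973191⟩)))))))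

def reps11 : Tree (M7) :=
  (.node (.node (.node (.node (.node (.node (.node (.leaf ⟨37790463892890570489866, 4725825528927312949251, 37790463330490406412296, 37788158050293707218946, 9453958590263287914506, 4732743621042212188161, 4723521937855251222531⟩) (.leaf ⟨3459327601380728841, 23615292023287127773188, 42502452956731147300869, 28341118678320271073287, 14171713949995739648004, 23617598992402423517192, 47234042811500225101829⟩)) (.node (.leaf ⟨28344577724171662958601, 47230582920742917124106, 42507065768718234562568, 23623363318656505245698, 33062330551247782825993, 42503605033948179091464, 28338811428211152424966⟩) (.leaf ⟨37790463611827809951750, 4611686087297896456, 47231735279916029059078, 9452805950233557073924, 47227123875235139461122, 33056566506193749569544, 28343424521192079376385⟩))) (.node (.node (.leaf ⟨37787003721139322130441, 14167099449021369982983, 6917529302653227013, 47223665673327607824391, 18896384587024721534984, 33063483191208693501958, 18898691273977812246532⟩) (.leaf ⟨14168253778175654367234, 37787003158051845869576, 37788155798081442418693, 47228277922708372606979,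 18897538352885539053577, 4730439748357869023232, 2306687846511026183⟩)) (.leaf ⟨23615291460543215341570, 18899844477163503902721, 4726979857875472506882, 42512828123960418787333, 28341116989814108864517, 23621056350022245814281, 42508216719829301731330⟩))) (.node (.node (.node (.leaf ⟨37788156079556519788548, 37787005128926522531840, 14170558213672629473283, 8073265694466154505, 9449346059201320849411, 37784697596655114928136, 33060026677876177797123⟩) (.leaf ⟨42504759925365322825729, 2306406234128920584, 37790463611484279693319, 14175170743978464157702, 28337657662075457015813, 33061177629330859118600, 9445886169337349287945⟩)) (.leaf ⟨47224820283682142031880, 37780085066555354787850, 47227123874754002432008, 14178630916142029348867, 14176325635945330155529, 9448192574746894798858, 4724674578228445216769⟩)) (.node (.node (.leaf ⟨14169407543418030141443, 47235196577360908398596, 3459891032336904195, 4728131935504837902343, 23612985336540078051335, 33064636675319622828037, 42501299190457945833480⟩) (.leaf ⟨37782390909083481821191, 9455110666724388655106, 42512828124372601409541, 47234043655718996840453,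 28341116989676535697418, 42502452956593624465414, 14178629226948689170434⟩)) (.leaf ⟨28343422551348178075658, 4722369297825721774085, 18898691274390078775300, 9225624386541727746, 42504757110821798051848, 47234042529612847661066, 14171713668451959582720⟩)))) (.node (.node (.node (.node (.leaf ⟨18890619135076723589128, 37778932707863161745411, 33068096284189771440128, 33063485723865092468738, 23616445226472785850371, 14177475742700287328260, 37782391190627094130691⟩) (.leaf ⟨9450498980774814949385, 4730438341120474750978, 47235196577429762088961, 4732743339498599886851, 42503604752198341234696, 37784696752436360019974, 23617597585508475625481⟩)) (.leaf ⟨33063485723865092489225, 23616445226816383254536, 37781237706516181581828, 14176325354126739271683, 18890619134595687251971, 14167101700889936670723, 33068096284533368852480⟩)) (.node (.node (.leaf ⟨28338811427867555012613, 28344577724652699258882, 47230582921361392435201, 9451650776860417077256, 28335353226509829566466, 33062330550629307539458, 9455111511767911518216⟩) (.leaf ⟨23611832696235653881858, 10377982597631340552, 33058872631021436682245,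 37789309845829687717894, 42512827561010482126856, 14170558776485143928842, 9445888139731039973383⟩)) (.leaf ⟨14170561028010046152708, 42511676328286881865737, 9456264714609921925126, 4732743339567352913926, 23618752477131727462401, 9445887295031131271173, 37790463611621752184841⟩))) (.node (.node (.node (.leaf ⟨9444734936751422844938, 37789309282742144335873, 14170559620772584763396, 14175172151078436220931, 18898690148490272604160, 3460735526020063238, 14170560464922620227586⟩) (.leaf ⟨28342271881437377482762, 42507063798462049972227, 14168252933681987997706, 18895231946995007528966, 23614139101919859216385, 4729284575190988132354, 37789308438111173234697⟩)) (.leaf ⟨14168254903594524876805, 4731590136587769389065, 4611686087180427272, 18889467057928411312131, 47231735279915945201670, 28343423113817179058177, 9452803979908837539844⟩)) (.node (.node (.leaf ⟨9456264714609938665472, 4725827217983214194691, 14177476868600059928582, 33068096847345765851142, 28342270755812331782146, 23615292868330466050058, 14175171025453524721670⟩) (.leaf ⟨28336505866676898643977, 18898689866946492522501, 4613375074563522570,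 47229431969975397011465, 6918654927682162693, 33061179599861854535685, 14175172151009834172423⟩)) (.leaf ⟨47225973205117979086850, 28336505303245875335173, 14177478556968900632581, 28337658506225492434946, 37790461922565750296581, 9448193137834253656068, 33062330550972921712641⟩))))) (.node (.node (.node (.node (.node (.leaf ⟨37788155235200242032648, 8073265694466154505, 42509370485896109924360, 14174018948442500395011, 18898689866465523281928, 37788156079556519788548, 37787005128926522531840⟩) (.leaf ⟨33068096002852149825545, 14172864619700516057090, 844768628207622, 18897538352541908111366, 33064637238269660139525, 14167101419208650547210, 47232889326908091674628⟩)) (.node (.leaf ⟨18900997398599408025603, 42509371611452503248905, 9448193137765584498695, 28334198897424113623047, 28338812554042222333961, 23619904835548975497225, 47227123593691376123910⟩) (.leaf ⟨37780087317805328801800, 4730439185682743181320, 23616444382253997391881, 42503605878235653509123, 42503605033261017858049, 37789309563942343802890, 42501299471864219865089⟩))) (.node (.node (.leaf ⟨23619903709855327723526, 23614140790769769779209,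 47230584891686111948801, 42507063234962290388995, 28335353507984688824322, 33062332520954161287170, 9455110104392910528520⟩) (.leaf ⟨14172866871088046436357, 10378545616170029056, 42503605315217131569154, 33057719146017187708932, 42503605878373209874440, 3460172163598815233, 47227126127034869223425⟩)) (.leaf ⟨4729285701159496982532, 28344575753984231378952, 3460172301138419712, 33064636675388442959876, 18896385431037250920452, 8071576432255475715, 14175171869466154790913⟩))) (.node (.node (.node (.leaf ⟨9448191730734197669891, 4732744183786124623873, 14175170462297345785856, 28337660476618897911818, 47223667643652411256838, 18892925822098517020676, 9225624386491396105⟩) (.leaf ⟨14178629226948655595523, 42508216156466964369417, 47234043374106614718466, 42503605033810740142081, 28344577161221709500421, 4728132779380096126978, 47234042530162586718216⟩)) (.leaf ⟨18898691274390078775300, 9225624386541727746, 9453956338051073454083, 47234042529612847661066, 37787002876645655740416, 23615293993749252698113, 47223665110721218232326⟩)) (.node (.node (.leaf ⟨9450497854943493369865, 9453957463744805076992,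 37784697596448855822336, 42505912002857266061314, 14169406136592852099082, 4731589855112725557255, 28345728957307412303880⟩) (.leaf ⟨28345729238301335900163, 28341118959589173239817, 4724673733460051927041, 9447040497804539625481, 23614141072382185476101, 18896385149699830616074, 42503604752198341242881⟩)) (.leaf ⟨14170559339160202645509, 14167100574715051249665, 9455112074717730713606, 9451651339329317404681, 18899844195551054688263, 37787002876783111438339, 18892925822029898219528⟩)))) (.node (.node (.node (.node (.leaf ⟨47230584891686111948801, 9451653310135324934152, 28335353507984688824322, 18896384024143454035977, 42503606440704704794627, 28338812835242287599621, 23614140790769769779209⟩) (.leaf ⟨9450500106674587607045, 47234041967006474862601, 9450498136555892269063, 14178630071304815910918, 42503607003929401896961, 23622209270908461281286, 14169406136180535222281⟩)) (.leaf ⟨37790461360096732545025, 47232888482277154127875, 14168254622600718749704, 14170561028422446878722, 9453957182269845184513, 4732745028760844120074, 47235196577223519805443⟩)) (.node (.node (.leaf ⟨42509369359721341931526,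 23618750506806940803073, 42507065205287244824586, 47225972079492933365763, 28335352382084899442697, 42510522000025933848586, 9448193982190464274441⟩) (.leaf ⟨23616445508016549134339, 33061177066449641963528, 28345729238507527880709, 33062332239891400777731, 28341117833689232863237, 4728132216705020612614, 23617597866708557660168⟩)) (.leaf ⟨9453958871257161138181, 33057720553735635107842, 33062330551110377435142, 14175170181303422164995, 4729286545653247279109, 37789308156842321403905, 47227123875303758241792⟩))) (.node (.node (.node (.leaf ⟨14168254622531865026566, 9448193137834253656068, 33062330550972921712641, 4732743339979636236297, 28336505303245875335173, 37781237988128714690566, 23621058038872122888201⟩) (.leaf ⟨33063484879783625523207, 9448192575159094255620, 14174019792729974784003, 28335354071140767125510, 42501298627851707228169, 6920062508623495175, 14177476868737549230085⟩)) (.leaf ⟨28336505866539409350657, 23619902865086733115392, 18899844195688611074055, 33065789034080384348163, 42509369640921541386245, 37781239676566190968836, 33062332239685242327040⟩)) (.node (.node (.leaf ⟨9455109822574386749450,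 9447039090704601075718, 9445888702681010167816, 14170558495216241745926, 4731592388318762917891, 37785851644128230666249, 28344576598477847437316⟩) (.leaf ⟨42503605033329703804931, 28338811427867555012613, 23614138820444916064265, 4728133623736222887946, 42507065768237198245891, 28335353226509829566466, 33062330550629307539458⟩)) (.leaf ⟨42508218127341590712322, 47231735842384912613381, 9445887013556154556422, 23622211522776927342598, 28339964912734297919495, 42507065205287261573121, 42503605596760710320137⟩)))))) (.node (.node (.node (.node (.node (.node (.leaf ⟨18895230539001749327878, 42508217001029350227974, 9451651621147975368712, 28345728956688987353088, 14171713949583355703296, 42511676609761908908038, 18899844477163604578311⟩) (.leaf ⟨42507065768512009019396, 42507063516437267107850, 9452804823783877660678, 4733897386903180709896, 14177476305306525900806, 37781239394885106147331, 28339965475615632527369⟩)) (.node (.leaf ⟨23615293149668003823618, 10376575635047849994, 37780085629161694072833, 28343422832479691603977, 28338810865261131870217, 9450498699505996693507, 4728131935161240543232⟩)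 (.leaf ⟨47227124719660103106563, 37789310408367307513865, 3461298407136587782, 4731591825643737722889, 37781240521403421171722, 18894079588509107101699, 37787004284432856133641⟩))) (.node (.node (.leaf ⟨37789308719860943953921, 33064636957138264010753, 9224216736813834242, 37788156361100148875273, 47230584610073780195333, 47235196295542451765256, 37784699003892442075146⟩) (.leaf ⟨23612985899215203893248, 18896385712512194088962, 18896385149562358099970, 14172865463781865558025, 42501300597764093157377, 28344575472577957347331, 18898691274527618400266⟩)) (.leaf ⟨18894079588028104318981, 18897538071341859639301, 37778932989338104913930, 4731591825712373313540, 33057719709310704951298, 14174017541205072560137, 2252212231237638⟩))) (.node (.node (.node (.leaf ⟨3459890551300587528, 47230584610211252666375, 28345728112951268773895, 33064636675525781237766, 9444735217745396776968, 14169407543418030161928, 47235196577429627895815⟩) (.leaf ⟨37789309846035711926275, 42508218689947913166852, 9449346059751244451846, 37789310689979588972549, 23617598148321057218562, 42508216438423027732490, 47235195451255010893827⟩))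 (.leaf ⟨47234041966869170106378, 47224820283682142031880, 37780085066555354787850, 4731592670343612891139, 14178630916142029348867, 37782390909152285167618, 42510523970350720524289⟩)) (.node (.node (.leaf ⟨33060026678219842273285, 18889467338922318102532, 18889468183759447687175, 28341118960138895495173, 42509369922877571223561, 28339965475478059352067, 37785851925671977172999⟩) (.leaf ⟨33060025833588720156676, 28342271600168492089351, 18897536382423313448960, 33064635830825989967880, 23617598710858593103873, 9455110385455687806982, 37785851081315800055808⟩)) (.leaf ⟨18899844477026064924675, 37780087317736626102278, 11530060089591353345, 37787004565495482433540, 37788157487274916847616, 14167101419483662680073, 42507062953556066738186⟩)))) (.node (.node (.node (.node (.leaf ⟨33060026677876177797123, 37788156079556519788548, 37787005128926522531840, 14170558213672629473283, 8073265694466154505, 9449346059201320849411, 37784697596655114928136⟩) (.leaf ⟨4731590418131432022016, 33065789596961685389320, 37788157205525045444616, 4612530649566289928, 23611833259048201920521, 9448193982602680500231,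 47225970672186718965763⟩)) (.leaf ⟨28335353507984688824322, 18896384024143454035977, 9455110104392910528520, 28338812835242287599621, 28344575754327845543938, 4728131653411503374346, 42507063234962290388995⟩)) (.node (.node (.leaf ⟨23622209270908377407496, 42503605877892072869896, 33061179599861820952583, 37782391753989465055232, 37783544393675430727688, 28343424521535727095818, 47232888201214477500426⟩) (.leaf ⟨47225970953799168204806, 9449347185238800875528, 9447039090635931922441, 9448193419309146456069, 14171711416720932499463, 14170559057547703107585, 23621058320140907585539⟩)) (.leaf ⟨37787003158051778756616, 33065791004474091778048, 3459891101089959941, 37782391471895962730505, 42501299472414009229313, 14177477712818848399370, 37782392316595787563015⟩))) (.node (.node (.node (.leaf ⟨47235194607242364100616, 37790463892890570489866, 47232891016170302373896, 14168253214607208910851, 14170558494803908104201, 9453958590263287914506, 4732743621042212188161⟩) (.leaf ⟨9447040779142144479238, 18899843069857323061252, 33063482909115291820038, 9450498699437226864646, 42507064079730885029896, 28345730364063820574720,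 14171711416652213022720⟩)) (.leaf ⟨33065791004611547529216, 47235194325423756419081, 37789310971454582460421, 18898692118540147781634, 42508216437804535656452, 18891774308312474992643, 18891773463406458187779⟩)) (.node (.node (.leaf ⟨47228278485520903860232, 9444733810370496438278, 9448193982534011338761, 23623363037318984253449, 37790461360027962720264, 47232889890201793503233, 47227126127103639040009⟩) (.leaf ⟨14168253215019576074241, 4729286264040730943488, 28337660195281494343682, 23621056912766107926537, 23616444382047872516105, 10376575153927655434, 9451652465435533672456⟩)) (.leaf ⟨28342270755262575964167, 14170560183516480421890, 23612987025321285943304, 4731592388181374296070, 11530059539869081602, 23614140509775779086336, 9452803698296354791432⟩))))) (.node (.node (.node (.node (.node (.leaf ⟨37788156924325030559751, 37783544394018994552840, 18898690148490272604160, 3460735526020063238, 37788156079419080851465, 9444734936751422844938, 14169407262355470942218⟩) (.leaf ⟨14178629508561088057354, 47230583202561373790208, 23615291742293170585602, 28343424239854524841993, 23619903146561709813762,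 2306124621763584001, 42508217001166839513096⟩)) (.node (.leaf ⟨37789309845623462207496, 47227126408166315683849, 11530904102187835398, 9450498417824811220992, 42508218127135365156868, 9450499543655931469827, 4722367045888351698946⟩) (.leaf ⟨33060026115613519785994, 33062332239616522854402, 14172865745462916812802, 28344578005921551106056, 28345728675626310709248, 18896384868430928441353, 9444735217676576624641⟩))) (.node (.node (.leaf ⟨14178629508767296819203, 37782393442426924605442, 42510522562975920820225, 4724673170853712637953, 4733898231740394115075, 37780087599830061318154, 47227126408028910288904⟩) (.leaf ⟨37782392879545808068608, 14167101419139981410313, 42508215875404321300490, 33066942518260117012488, 14168252933063563022341, 1153766067043061761, 14175170743772372824071⟩)) (.leaf ⟨37789309282810897387530, 4731592388387599818758, 18900997679799439728643, 18900997679868159229958, 18900995147143275618308, 37788155516537729482754, 9225342842845532163⟩))) (.node (.node (.node (.leaf ⟨14174019511048822890506, 37789310690117145337866, 18894078744015507849217, 3459609213779595266, 14170559339228888600585,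 47230583202355248926726, 47235194888167517880323⟩) (.leaf ⟨4612249105886887936, 2305843490317168649, 18900997116918222581767, 33058871786390297812999, 42512829531816271585284, 9449344652032746745856, 33062331958622616031241⟩)) (.leaf ⟨14174018385492597276672, 18892926103504807817223, 28338812835173651988487, 33064635831032249069568, 33061177066655817142280, 23618751632844353728513, 9447039935129480867846⟩)) (.node (.node (.leaf ⟨23618751069619371376648, 14172864619425638150148, 33060026678219842273285, 18889467338922318102532, 33056566224787492319236, 28341118960138895495173, 9449346622220044099586⟩) (.leaf ⟨42507065205630808645639, 47223667362658470887426, 47232891015689299574786, 42507065205768247607296, 42507064079936993124355, 14177477150006417858568, 1154610560709464069⟩)) (.leaf ⟨37790463611346874273795, 47231736123928508121096, 23619903146767901798402, 9447040216329562918915, 9447041060548384915457, 14177477431687569735690, 42501299471864270168074⟩)))) (.node (.node (.node (.node (.leaf ⟨9225343049054326790, 14170559057547820560393, 42501300316838939361290, 14169406417861670338561, 37788156642643845087236,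 14175170744184589004808, 18898691555521441333248⟩) (.leaf ⟨47230583483967681368066, 42502452674843786616835, 9455112074374267559938, 23622210960307993452552, 28335353226372273164290, 18898689866877840134150, 28335354071209637584906⟩)) (.leaf ⟨33061177910874504974343, 33063484035564853813252, 8072420857185607683, 37787003439389450727425, 4728132779655007604743, 28336505303452033753091, 3460453707395653632⟩)) (.node (.node (.leaf ⟨18896384024143454035977, 42503606440704704794627, 28338812835242287599621, 23614140790769769779209, 47230584891686111948801, 9451653310135324934152, 28335353507984688824322⟩) (.leaf ⟨37789308719586116382721, 9445887857912415543298, 28343423676698446565384, 4733898513284056776706, 42507064360862331453446, 14168254903525805416451, 42503605596554535149570⟩)) (.leaf ⟨37789310408504763224065, 4731589855112725557255, 23612987587790203019267, 42508218690154121953282, 42504759081352810201088, 37784697596448855822336, 42505912002857266061314⟩))) (.node (.node (.node (.leaf ⟨37782391190970691502088, 33068097410501928026120, 14167101700889936670723, 33068096284533368852480, 18895230820476608589826,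 23616445226816383254536, 14177475742356689924103⟩) (.leaf ⟨18896385149562358099970, 37785851081315749765122, 42501300597764093157377, 23614141072519657975816, 33060025270569996922881, 28345730645882411429888, 18896385712512194088962⟩)) (.leaf ⟨42503605596554535149570, 9445887857912415543298, 4733898513284056776706, 14168254903525805416451, 37789308719586116382721, 28343423676698446565384, 42507064360862331453446⟩)) (.node (.node (.leaf ⟨42504759362209294884865, 47225971516680368566282, 47235196577567117152264, 14168255185481919135745, 47232888482895629398024, 14168254621982243430403, 14170561028078849531913⟩) (.leaf ⟨33068094595683475013639, 28342270755812231106562, 9448193700921612443657, 23611833821723227095046, 14175171588266072752134, 33064638082900648022022, 18898689303515536310282⟩)) (.leaf ⟨28344576317071640530954, 23616444100572895793152, 18891773745156279263236, 33060024426557350101000, 42505910876407670542342, 37789310127098422124551, 33063485161189849210880⟩)))))))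

def reps12 : Tree (M7) :=
  (.node (.node (.node (.node (.node (.node (.node (.leaf ⟨33060026396607342718976, 9224498005497909253, 14170560464922620227586, 9444734936751422844938, 14169407262355470942218, 14170559620772584763396, 37783544394018994552840⟩) (.leaf ⟨33060024707894954979333, 9449345777795197849602, 18889467620397210927108, 28339964631053129220099, 18889466776384715108359, 14172866589750424780804, 23617599555283607097350⟩)) (.node (.leaf ⟨18898692118402725597192, 42503605877892173537281, 42501299190320456540164, 9444734373801385537543, 10378264553644396551, 4733896261071993339912, 18897538634360515764224⟩) (.leaf ⟨18889467902353240764417, 9449347185376256618504, 33063484316971127836679, 18889468746228465422339, 28339966038084516061191, 14172865463506937344000, 28343423676904604966919⟩))) (.node (.node (.leaf ⟨33056567632162224898052, 37785849955347190542343, 23617599555283607097350, 33060024707894954979333, 42509370767302417473545, 18889467620397210927108, 23618751914044301508616⟩) (.leaf ⟨14175172714097226563584, 9451652465572922294278, 42503606159229677752325, 42508217845454263566344,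 33066942518466376142855, 23623363881194225692672, 18896383460506272292869⟩)) (.leaf ⟨42511677173124212760576, 37781238269328662474761, 47235196295679907475457, 563156178964489, 33064638645919287377924, 4722367327638290210818, 23621057194447293390852⟩))) (.node (.node (.node (.leaf ⟨4725828062820461195272, 14168254622600718749704, 37788155516675168444425, 42504759362827770138634, 47225971516336771203073, 47235196577223519805443, 37790461360096732545025⟩) (.leaf ⟨28337660195693727334406, 47223667081183510937603, 28336507555183161511946, 42507063516849701421066, 18899844477094801207297, 14171712542002296950786, 14170560746603772133385⟩)) (.leaf ⟨28338812835173651988487, 33064635831032249069568, 18897536382217054363651, 23618751632844353728513, 42511676609968134455301, 37784698159605018001408, 33065790441592807505924⟩)) (.node (.node (.leaf ⟨9225342980217384963, 47230584610211252666375, 28345728112951268773895, 18894079869571834085381, 9444735217745396776968, 37789309000923670917123, 4723519967667802877956⟩) (.leaf ⟨42512828124441388023811, 42509369359309142532096, 14175170462091220918273, 42509368796977647624201,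 14170561027941393793025, 47223665955077529567239, 28337659632262704041990⟩)) (.leaf ⟨33060026115132382797831, 9224217011607863298, 9453956338051157360643, 47234042811087908270090, 14171711698127206514688, 28343425084622968483850, 47223667643996126081030⟩)))) (.node (.node (.node (.node (.leaf ⟨33063482909115207933957, 9450499544068265095173, 9451651621147975368712, 28345728956688987353088, 37787002595514259619840, 42511676609761908908038, 33058872067934010744836⟩) (.leaf ⟨1154047473283510275, 18889468465303227740162, 42504759925502879211521, 37782392598002128678914, 23615293430799450279946, 37790463048740535042053, 42509370767164978511873⟩)) (.leaf ⟨42505911720832701321222, 37781240239447492009990, 23618751069825580142601, 9451653028179311874058, 47224819157713398304776, 14177477149594033856515, 9451650776654325751812⟩)) (.node (.node (.leaf ⟨9455110667205441785866, 9444735218226298916871, 9444734373801385537543, 10378264553644396551, 47224820284025621983235, 18897538634360515764224, 33060024426694889725955⟩) (.leaf ⟨14175172714028507086855, 14176325072445620908033, 23615291742086877974531, 47234043937125170155526,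 9452803979771381837832, 9455112074374250790921, 9453957745700801376261⟩)) (.leaf ⟨4724674578366001590282, 3461579263621230594, 18898690148421569871879, 5764889066780770313, 14178631197273475788807, 9452803698365141368832, 42508218127204051099650⟩))) (.node (.node (.node (.leaf ⟨9452805105808593428483, 14172865182306804973571, 18892927229267326042120, 14176323665208209833991, 37783543830519436300288, 14176322820852066295811, 8073265694382268418⟩) (.leaf ⟨14175170181303506063360, 14176322820852015992835, 8070732419675721730, 9452804824333616680963, 37785850518365796319240, 33065791285399295918083, 14176325072583177273351⟩)) (.leaf ⟨47232889045364395515908, 14172864900694406070281, 28345730646225958481921, 14177476868668829741060, 42503606722798089699336, 28344576035596630269956, 18898690429484212961287⟩)) (.node (.node (.leaf ⟨28338813398261077901312, 37783545519781630181384, 9450498136624712405002, 18891774307900074258437, 33065790441317828939776, 42505911720901370470404, 9450499262593338736647⟩) (.leaf ⟨14175171869466154778634, 23614140790907225542664, 33064636675457162432519, 8071576432255438856,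 4729285701090777534471, 9225061299099033600, 33062331113716767023108⟩)) (.leaf ⟨23615293430799450279946, 14168253496357080281094, 9449345777932636811274, 11531186058234462216, 18889468465303227740162, 42504759925502879211521, 14176323947095486644233⟩))))) (.node (.node (.node (.node (.node (.leaf ⟨14170561028422446878722, 42504759362827770138634, 4732745028760844120074, 4723519967874095517704, 14168255185000882778122, 4725828062820461195272, 14168254622600718749704⟩) (.leaf ⟨42510523969938403659783, 23615293994092933947395, 14167099730358958063624, 47234043374106547625986, 47230583202698930167810, 47234042248412815962116, 42505910031982807506947⟩)) (.node (.leaf ⟨14177476868050337693702, 33066943925978614738953, 14172864901244212236290, 37782390627539768877064, 9456264714609921908746, 9456263869841511845890, 18900997680074384764931⟩) (.leaf ⟨28338811146667372326916, 14171711697921014513671, 1689124905971720, 3461016588629590026, 23623364163081552814084, 33062331958553896558600, 28334200868092564758528⟩))) (.node (.node (.leaf ⟨33061179036980654116873, 47228279329670855426048, 10377138378758983687,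 14168254059032273227785, 37787004565907816091651, 14170558776210182152197, 47228278203702229094408⟩) (.leaf ⟨33062330551110377435142, 14175170181303422164995, 4729286545653247279109, 37789308156842321403905, 47227123875303758241792, 9453958871257161138181, 33057720553735635107842⟩)) (.leaf ⟨42511675202730706636806, 28336505022320587350026, 23623364163287610589193, 47230584046711509884933, 23614141072450888175623, 9448194545140400947209, 18892926948479560867846⟩))) (.node (.node (.node (.leaf ⟨23623362192756715823113, 9448192012415383146506, 9448192575296600281090, 42509371329977610424325, 28339964068171979198465, 42507063798393280167937, 4732744184198374391811⟩) (.leaf ⟨23617599836827219394566, 9447038809435749224457, 33056567069555902390280, 23615293712411882696710, 18894079025146870403075, 18891772619119000555530, 37788156642437720215559⟩)) (.leaf ⟨9453956338051157360643, 47234042811087908270090, 37787004846970408808448, 28343425084622968483850, 4722366764550813925381, 18898690429965232525316, 3461016519910109193⟩)) (.node (.node (.leaf ⟨23621056349953643814921, 9450499262387113177098, 47234042529750269829125,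 37780087599623886118921, 37782393161089537810441, 18899843633082221481986, 23622209834202062430214⟩) (.leaf ⟨14175172151009834172423, 47229431969975397011465, 23622210678420716679170, 6918654927682162693, 33060026678151122800646, 18897536945235760787462, 8071858456954404865⟩)) (.leaf ⟨47234042811087908270090, 37787004846970408808448, 28343425084622968483850, 4722366764550813925381, 18898690429965232525316, 3461016519910109193, 9453956338051157360643⟩)))) (.node (.node (.node (.node (.leaf ⟨10377138378758983687, 37790462486065342095362, 37787004565907816091651, 37788157768887433170950, 4730438341395386228739, 18897537508116961206274, 47228279329670855426048⟩) (.leaf ⟨33057720553941743173633, 42504758799396797181952, 4729284293990755110915, 18892925259217266311171, 14169405854705709502467, 33062332521435197616129, 33061177910805919703044⟩)) (.leaf ⟨9448193419240443756551, 23611832414898065793028, 23619904835480239230978, 23619903991124095676425, 4731589855181445005317, 18900995991224574803971, 42509369078177729634313⟩)) (.node (.node (.leaf ⟨28342271318281232068611, 37781237706516181581828, 37782391190970691502088,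 33068097410501928026120, 37778932707657003335688, 33068096284533368852480, 33063485723865092489225⟩) (.leaf ⟨28336505866676898643977, 6918654927682162693, 33060026678151122800646, 33061179599861854535685, 8071858456954404865, 37783544394087781105668, 4729284575122218311682⟩)) (.leaf ⟨4731590418062645432326, 33057720835554108538885, 14170558495284944470025, 37789310127235911409674, 33057720834866913746952, 18900995147143158206468, 9224498417865105411⟩))) (.node (.node (.node (.leaf ⟨18897538071135701180422, 14167101419414808977418, 47227124719591215869956, 33057719709379424456713, 37784699004373579087881, 2252143511748613, 18894079588371701731334⟩) (.leaf ⟨33061179599861820952583, 37782391753989465055232, 14175172151422184595459, 28343424521535727095818, 4725825247658394005505, 28336507274189237915651, 9455110667205542453251⟩)) (.leaf ⟨18891772619118933442568, 14168254903388450328582, 1155173923013283850, 37783544393606778339335, 37782391472376999059456, 37778933833488207458313, 9450497573812197920778⟩)) (.node (.node (.leaf ⟨47230583765442607718404, 23622211241645581570056, 9224779824122318848,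 33061177910874504974343, 33063484035564853813252, 4612811918418120712, 37787003439389450727425⟩) (.leaf ⟨18898692118402725597192, 9455110667205441785866, 42501299190320456540164, 42501300034745554468868, 2306968977873575940, 47224820284025621983235, 18897538634360515764224⟩)) (.leaf ⟨9453957182888320438282, 4732745028417246756865, 47235196577567117152264, 14168255185481919135745, 4725828062201985925123, 14168254621982243430403, 37788155517018765791234⟩)))))) (.node (.node (.node (.node (.node (.node (.leaf ⟨37787005128926522531840, 37788155235200242032648, 8073265694466154505, 42509370485896109924360, 14174018948442500395011, 18898689866465523281928, 37788156079556519788548⟩) (.leaf ⟨42509369641402577752070, 23619902865430330494976, 37781239676772349403143, 33058872349340284768263, 18896384305206029979648, 33065789033874225905672, 23622210678626925420545⟩)) (.node (.leaf ⟨23618751914181874708482, 18900996272974311981062, 18897538353022860558344, 23614139946688420290562, 9455109822436981362692, 37785850799359770230791, 18896384305412289085449⟩) (.leaf ⟨33058871786252976275459, 18898690148009253044224,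 37781240520922451943430, 42507063516299844943879, 33058872631158892408835, 47224818031882278047746, 33065789034080451457026⟩))) (.node (.node (.leaf ⟨33062331958072860250115, 1407649778266120, 28334200867748967370752, 3461016794788032513, 28338811146461213917191, 28335352382084781989892, 37787004847107881320455⟩) (.leaf ⟨9451651902622901764106, 4732744183923580346374, 14168255185275777490946, 14170560746741160747010, 18891773463406474977282, 23614140228026025119750, 28343422832823205142530⟩)) (.leaf ⟨9448194264215096168449, 18897538915972948205576, 18898689303652975259657, 37785850236547272568842, 28335352663353717706756, 28344576598134384250883, 33062331114129016782852⟩))) (.node (.node (.node (.leaf ⟨23618750506394691080194, 18895232228263825805322, 47225972360761835524106, 42511675202661953581057, 9455110948680535932937, 28335352945240994500611, 28336505021977040265222⟩) (.leaf ⟨37787005128857786294276, 23615293430661893885959, 28341118396776675549192, 9456263870185092448261, 4724674015141170249733, 28341117271151596281860, 3461298407103045634⟩)) (.leaf ⟨4732744184198374391811, 23623362192756715823113,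 42510524532682232176641, 9448192575296600281090, 9449345215120004898822, 23618752476925636124682, 9451652746704335155210⟩)) (.node (.node (.leaf ⟨23618751632363317403652, 9451651339810353750026, 42503605596760710320137, 42508218127341590712322, 4726980702712702709766, 9445887013556154556422, 28336505022320687980549⟩) (.leaf ⟨42511676046949444755466, 42501299753270577758215, 4723521937855368691715, 18892924977604900966403, 42501300597695340093447, 10378263935051636743, 33064638082625803653120⟩)) (.leaf ⟨9455110948474360733698, 9445887857981135015945, 4733898512803020419081, 14168254904006841749512, 14169407825030462582785, 23615292867780693495816, 42507064361343367802885⟩)))) (.node (.node (.node (.node (.leaf ⟨37790461360096732545025, 4725828062820461195272, 14168254622600718749704, 37788155516675168444425, 42504759362827770138634, 47225971516336771203073, 47235196577223519805443⟩) (.leaf ⟨37782392598002128650243, 4613938368047226888, 28334201149498889117705, 42504757954971716059143, 47234041122719117893640, 4725825810608380973056, 18898691555658913824776⟩)) (.leaf ⟨37787004565907816091651, 37788157768887433170950,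 47228278203702229094408, 18897537508116961206274, 4730437215426759897088, 2308095152758988804, 14168254059032273227785⟩)) (.node (.node (.leaf ⟨42504758236309287337984, 14174018103605236637696, 9452805387283570135042, 14169407543624289263617, 4731589855456373272580, 23612986180896305471496, 9450500388561998589954⟩) (.leaf ⟨42511677173192932216836, 33068096565664580370438, 37784697877855180161028, 18894079588509039996931, 33063485161189949849609, 23622210397220684959753, 28341117552420431360002⟩)) (.leaf ⟨9451651058197971607556, 28338812835654654783494, 47223666799433656332288, 9456263588297748537349, 23611833821997987561478, 23616446071310083182595, 33065789878574050734080⟩))) (.node (.node (.node (.leaf ⟨14175172151078436220931, 33060026396607342718976, 3460735526020063238, 37788156079419080851465, 42501299471795517161473, 14169407262355470942218, 14170559620772584763396⟩) (.leaf ⟨47225972079218089029637, 28342271881162499588100, 8072702744462360581, 33058873193765298782213, 18899843914213567250435, 5766577916708139008, 37788156361375077146624⟩)) (.leaf ⟨42509371611452503248905, 9448193137765584498695,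 28334198897424113623047, 28338812554042222333961, 23619904835548975497225, 47227123593691376123910, 18900997398599408025603⟩)) (.node (.node (.leaf ⟨9445888421137196535814, 28341116989814108864517, 28337660195075369508866, 9450499825268313591817, 28343425084554399981577, 18899844477163503902721, 4726979857875472506882⟩) (.leaf ⟨18889467902353240764417, 42509369359721358704643, 33063484316971127836679, 33056565661562560339976, 23618750507013099261956, 37785851080834763735040, 28343423676904604966919⟩)) (.leaf ⟨18894079869571834085381, 42501299190801543229443, 37789309000923670917123, 47235196577429627895815, 3459890551300587528, 4728131934886362611716, 28345728112951268773895⟩))))) (.node (.node (.node (.node (.node (.leaf ⟨9444734936751422844938, 14169407262355470942218, 14170559620772584763396, 37783544394018994552840, 33060026396607342718976, 9224498005497909253, 14170560464922620227586⟩) (.leaf ⟨14177477149731607040007, 47227123874822839341061, 28338811990954930610186, 4728131653548824866825, 9445887576231280414729, 42510524251207205158917, 47230584328667506184197⟩)) (.leaf ⟨18897537226985581842432,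 9444734655276513263623, 18898689585127951982600, 2307813402921177092, 9455110948680502353930, 4733898231396679299080, 9444733810851415334919⟩)) (.node (.node (.leaf ⟨9449346622220044099586, 23618751069619371376648, 14172864619425638150148, 33060026678219842273285, 18889467338922318102532, 33056566224787492319236, 28341118960138895495173⟩) (.leaf ⟨28344577724515176435718, 18897536945167041306626, 23619904553730334273542, 23614139665213477109763, 37781239395091231039492, 6920343983566647303, 9225342430545473540⟩)) (.leaf ⟨14175171869809685045253, 42502453801155993575424, 4725826373764559933448, 37781238832416038096902, 18890621105195368615942, 23616445508428866007042, 23615292586374469779457⟩))) (.node (.node (.node (.leaf ⟨23618751069481982795778, 9451653028660348215297, 4733897386903180709896, 37781239394885106147331, 9451650776585606303751, 9452804823783877660678, 37781240239791089422341⟩) (.leaf ⟨18894077617840706301955, 18895231383907581579272, 4729285138140857651206, 28338812272361171058696, 28335352945034802511877, 28339964912803050975237, 23618750788144528916488⟩)) (.leaf ⟨4614219293217783813,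 14167099448677789343744, 42501298346514052055040, 4722366483075971420160, 6919499352478056457, 10377982391321886724, 14167099448677806125056⟩)) (.node (.node (.leaf ⟨18891772619462514061316, 33060024426076447969288, 37780087318149026840585, 42511675484274335678467, 18895232228401264762883, 47235195451255010918402, 18890620823926634213383⟩) (.leaf ⟨37790463330009370071042, 47223665392127475449859, 14175172713891068133384, 4723520249074211094533, 42507064360931000594442, 4732745309960775147527, 37788155798631198265350⟩)) (.leaf ⟨18890619416001860632581, 33068094595271057510404, 37782393442289485643785, 3459890894881165320, 37781239676703579590657, 47232890734557886713862, 33068097128408375398403⟩)))) (.node (.node (.node (.node (.leaf ⟨37778932707863161745411, 33068096284189771440128, 33063485723865092468738, 23616445226472785850371, 14177475742700287328260, 37782391190627094130691, 18890619135076723589128⟩) (.leaf ⟨37788157486931319455748, 14171713949446000631808, 37788155235200292392968, 8070732419591835657, 42509370204421133176840, 37784698441079961186312, 33060024707551424688131⟩)) (.leaf ⟨5766577916708139008,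 37788156361375077146624, 47225972079218089029637, 28342271881162499588100, 8072702744462360581, 33058873193765298782213, 18899843914213567250435⟩)) (.node (.node (.leaf ⟨37788157768887433170950, 4730438341395386228739, 18897537508116961206274, 47228279329670855426048, 10377138378758983687, 37790462486065342095362, 37787004565907816091651⟩) (.leaf ⟨14167101982296177152004, 28337658225025360072707, 4725826091945918754821, 42507062953418644553733, 28342269911043720364039, 37781237987441385672706, 33066944488585071439879⟩)) (.leaf ⟨14176323384008077512706, 18899843633082221481986, 28336506710895552892933, 28337660195143971508226, 42508217282710502146049, 47234042529750269829125, 37780087599623886118921⟩))) (.node (.node (.node (.leaf ⟨42507063516918303449089, 4733897387384217018371, 14177477149594033856515, 9451650776654325751812, 9452804824264914001925, 37781240239447492009990, 28339965475272035180546⟩) (.leaf ⟨23619903709855327723526, 28344575754327845543938, 47230584891686111948801, 9451653310135324934152, 23623363037112926498825, 18896384024143454035977, 9455110104392910528520⟩)) (.leaf ⟨28339964912253261594634,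 42511676609968134455301, 37784698159605018001408, 18892926103504807817223, 28338812835173651988487, 18894077617840622436352, 33061177066655817142280⟩)) (.node (.node (.leaf ⟨9448191730734197669891, 4732744183786124623873, 37783546082800269537280, 28337660476618897911818, 4722366764894528749573, 33065790722999098302471, 3459609145026576386⟩) (.leaf ⟨9448193419652743852038, 37788157486793997959169, 47225970953318131830789, 9447039090567212466178, 14171711416239896150020, 28337658225162681589763, 42509369359515217051656⟩)) (.leaf ⟨33065789034080434679808, 42510522281432191086593, 11531467464458113028, 4731592106775066710024, 14177477149800326520840, 11529778614547513348, 42512828123822895960068⟩)))))))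

def reps13 : Tree (M7) :=
  (.node (.node (.node (.node (.node (.node (.node (.leaf ⟨14175172714578179022848, 37782390628020805210120, 8073265694382268418, 9452805105808593428483, 37785851362790810349576, 18892927229267326042120, 37782392879889405444100⟩) (.leaf ⟨23614139946619767885831, 9455109822574386749450, 9447039090704601075718, 42512827842416605155331, 14170558495216241745926, 47227124156778852405256, 14172864900969384656898⟩)) (.node (.leaf ⟨37787004846901689331719, 37787004847107965214728, 4612530649532731395, 42512830375691412332546, 23621058320347116347401, 42509369640852821929988, 18899843914007341727747⟩) (.leaf ⟨23621056349609962504194, 23621056912559949508610, 28342272162706145443849, 10376575634963963905, 9451652465504253128707, 14168253214813417672714, 47229430280988164907008⟩))) (.node (.node (.leaf ⟨37788158049881373577221, 4731592388318762917891, 14172864900969384656898, 23614139946619767885831, 42503606722523228573697, 9447039090704601075718, 9445888702681010167816⟩) (.leaf ⟨4732743339498599886851, 42503604752198341234696, 14174019792661255303173, 23617597585508475625481,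 42508217564322800373762, 47228278203977140572169, 4723519967667853234186⟩)) (.leaf ⟨4729286545240846536705, 47228277077871058501639, 42510522562907201368071, 14168252370663315111943, 4732744465879576645640, 9453957464019649462274, 23618752195313287573508⟩))) (.node (.node (.node (.leaf ⟨4723521937992639873028, 3460734976146812936, 47230583202836251672583, 28345728112951184859143, 18894078462196866625541, 42501300598176510656515, 14169406136043196919816⟩) (.leaf ⟨33060026115475946631168, 42512828968866351697925, 9450500107018201735175, 23611834103472964272133, 28342270192793591771141, 28338812553698641731587, 4722368453538213806080⟩)) (.leaf ⟨4725827217983214194691, 14177476868600059928582, 33068096847345765851142, 28342270755812331782146, 23615292868330466050058, 14175171025453524721670, 9456264714609938665472⟩)) (.node (.node (.leaf ⟨28339966038702924242953, 18895232228263825805322, 47225972360761835524106, 9447041342435661742090, 9455110948680535932937, 23623363599856620822536, 23622211523120575057925⟩) (.leaf ⟨4723520811886742351874, 33068096566077031464967, 18891774026493917671431, 33060026959351154479107,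 14178631197342262374409, 42511676891443044024328, 33063484598514807214083⟩)) (.leaf ⟨23618751632363317403652, 9451651339810353750026, 9455110948336905003010, 42508218127341590712322, 47231735842384912613381, 42512829531541460766725, 23622211522776927342598⟩)))) (.node (.node (.node (.node (.leaf ⟨14171711416171092791296, 14170558213672629473283, 8073265694466154505, 42509370485896109924360, 37784697596655114928136, 18898689866465523281928, 14170560465541095489543⟩) (.leaf ⟨23617597584958719827974, 42509369922877571223561, 23618751069619371376648, 14172864619425638150148, 18898689866877773049862, 18889467338922318102532, 18889468183759447687175⟩)) (.leaf ⟨42510523970350720524289, 47234041966869170106378, 4733896261415473291267, 37780085066555354787850, 47227123874754002432008, 37780085628955585974280, 14176325635945330155529⟩)) (.node (.node (.leaf ⟨14171711697989650108419, 8072702881985241096, 42512830375691412332546, 23621058320347116347401, 9449346904244793393159, 18899843914007341727747, 14171711698195925991428⟩) (.leaf ⟨42501299190389209604106, 18892925822579654033409, 18895231383632703688713,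 37784697878336166207497, 23622208989777115508739, 23623364163081502490624, 33063484598514840780802⟩)) (.leaf ⟨33065789878711623888897, 37784698159605068374018, 28335354352409686061056, 9444733810301693071370, 33063483753746246148105, 23622211522983102541832, 33063484316696317018121⟩))) (.node (.node (.node (.leaf ⟨37789310127235944939530, 37788156642643845087236, 37783545800912841768963, 33060024989576173989888, 3459890482463645701, 14170559057547820560393, 42501300316838939361290⟩) (.leaf ⟨4726978169369159299075, 33064637238338312503305, 18895231946513954398217, 18895232791213812772873, 37781239676909788340231, 37787002313558129143814, 3460453707278213127⟩)) (.leaf ⟨37783543831000388759552, 9451652465572922294278, 42503606159229677752325, 9450498699643351756803, 33066942518466376142855, 28335352663147475386368, 33062329987610684968966⟩)) (.node (.node (.leaf ⟨14168252933750741049352, 47231736123928508121096, 23619903146767901798402, 42511676328768052404232, 9447041060548384915457, 37781239113410045542401, 9444734936682669838337⟩) (.leaf ⟨14175170462503537754119, 33063484879577584508936, 1689330913406984,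 23611833540797989408768, 3459609213746049025, 28342269910975051214852, 28345728675626361049095⟩)) (.leaf ⟨5766577848005451781, 33065789315555478495238, 33064636393844679651333, 4613375074513190913, 37787004565358009909252, 4728133624148606865410, 28344577161290479333385⟩))))) (.node (.node (.node (.node (.node (.leaf ⟨47225972924055403134986, 4723521937855251222531, 37790463892890570489866, 47232891016170302373896, 37790463330490406412296, 14170558494803908104201, 42504757954834327408641⟩) (.leaf ⟨37783544956556748521477, 28335353507847300202501, 37785850518297093636096, 23618750225125822455812, 23618751351094515875847, 37784698159536298557448, 14171712260527353782275⟩)) (.node (.leaf ⟨28342270473856251600902, 47228277359139809681415, 33064636112094791499783, 9451651621079171997702, 42503606440910812889097, 28339963505153222406147, 28337658787975313526791⟩) (.leaf ⟨9449346904176073936902, 37781239676566190968836, 18896384305412188446720, 23622210678558205972490, 28338810583786138390528, 18899844195688611074055, 33065789034080384348163⟩))) (.node (.node (.leaf ⟨4732743621385809592330, 47235194606898766680067,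 37790463893371606806529, 4725825529545788260360, 37790463329871931150339, 14170558495147505524738, 42504757955452802736138⟩) (.leaf ⟨14170558495284944470025, 37789310127235911409674, 33057720834866913746952, 18900995147143158206468, 9224498417865105411, 4731590418062645432326, 33057720835554108538885⟩)) (.leaf ⟨18892925540623523545088, 9225342430428012550, 37782391471895962730505, 42501299472414009229313, 37781238832278766878721, 37782392316595787563015, 14171713387045652017155⟩))) (.node (.node (.node (.leaf ⟨23616445508428765356034, 33064636675319723479045, 9448192856565452120066, 33060024144601437728778, 23611834103198153474053, 18890618853533077762055, 37783545238100478291974⟩) (.leaf ⟨9453959153075718496257, 14178628663792560513024, 37782392598483014021124, 23612985617534035202048, 47234042529956445057027, 33057720835485456138242, 28343424521192146477065⟩)) (.leaf ⟨42509369922877571223561, 28339965475478059352067, 14172864619425638150148, 33060026678219842273285, 33056567069624621858823, 33056566224787492319236, 23617597584958719827974⟩)) (.node (.node (.leaf ⟨18894079869777992495110, 9444735218088994172931,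 14169407543418030141443, 47235196577360908398596, 9225342499181068296, 4728131935504837902343, 28345728112332793454596⟩) (.leaf ⟨42505910032120145801216, 4612249105937219584, 33068096565527309217796, 42502452393368843456516, 33063484035083817492489, 2305843490367500290, 33066944207316102156295⟩)) (.leaf ⟨28339965475478059352067, 14172864619425638150148, 33060026678219842273285, 33056567069624621858823, 33056566224787492319236, 23617597584958719827974, 42509369922877571223561⟩)))) (.node (.node (.node (.node (.leaf ⟨37790463893371606806529, 47232891015551827062787, 37790463329871931150339, 37788158049950109798409, 9453958589644812587009, 47225972923711805730817, 47235194606898766680067⟩) (.leaf ⟨23623364163012833333255, 37787004847107881320455, 18896384587024755073032, 1689331064389635, 23611833540797972635648, 3461016794788032513, 28338811146461213917191⟩)) (.leaf ⟨9451651339810370498561, 47225972079492933365763, 23623364163012715880450, 9448194545071681474561, 42510522562907151048706, 42509369359721341931526, 23618750506806940803073⟩)) (.node (.node (.leaf ⟨4724674578228445216769, 4733896261415473291267,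 14178631478542260535297, 4731592670343612891139, 14178630916142029348867, 14176325635945330155529, 42510523970350720524289⟩) (.leaf ⟨37784697033773813886983, 18892927229610856300550, 33056566787531169857543, 33056567632368534323204, 28339964067828415373317, 42505912002307644481545, 23617598992608414138376⟩)) (.leaf ⟨37783543549387939545097, 28341117271289035231240, 37783545519712810065929, 47231735842384946151434, 18898690148352699424777, 23617598710789890383872, 9447041342023462301697⟩))) (.node (.node (.node (.leaf ⟨42505912002857266061314, 37789310408504763224065, 47227123593760145948676, 23612987587790203019267, 9450497854943493369865, 9453957463744805076992, 14174018948648759500800⟩) (.leaf ⟨9452805387283570135042, 14169407543624289263617, 47227123593416498233351, 23612986180896305471496, 42508216156535616733193, 9453958308788327940096, 37784698441492378685440⟩)) (.leaf ⟨42511676891717871624202, 28336505866264531439622, 47229431125687889059842, 4732744183992299823112, 14168254903732030947336, 9451650776860467404809, 47225971516199483236361⟩)) (.node (.node (.leaf ⟨4612530787055566854, 18899843351332316540934,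 33058872630884048072712, 5766577916708139008, 37788156361375077146624, 4732744465879526293510, 28342271881162499588100⟩) (.leaf ⟨37787002595101942771716, 28337660195281360134152, 9449345214913880027144, 42510523407263294570502, 14170560464922737668097, 47225973487074042449926, 9447041623910638452745⟩)) (.leaf ⟨42505911720901370470404, 9450499262593338736647, 23619903146836537376768, 37783545519781630181384, 42508218408472902918145, 33066942237197541064710, 18892926103779601833984⟩)))))) (.node (.node (.node (.node (.node (.node (.leaf ⟨14168254622600718749704, 14170561028422446878722, 42504759362827770138634, 4732745028760844120074, 4723519967874095517704, 14168255185000882778122, 4725828062820461195272⟩) (.leaf ⟨9444734654932848742408, 23622210960170604843012, 14178631197067384455169, 18890619134939234316291, 37781238550666183467017, 23622209833995887202305, 47232889889926898786311⟩)) (.node (.leaf ⟨47228278766995897356296, 42509370203940231053314, 9453958027038439780362, 37784697034117444829191, 5764889135550586888, 9449346341019945299975, 47225970671911975292929⟩) (.leaf ⟨23619904554073965207562,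 42512828968385298599945, 4728132216911145504773, 4731592669793739608069, 47230584891205193052169, 9448192293271934894085, 37781239395022410895367⟩))) (.node (.node (.leaf ⟨37790461359615696187402, 47232888482895629398024, 37790461923115371892744, 37788155517018765791234, 9453957182888320438282, 47225971516680368566282, 47235196577567117152264⟩) (.leaf ⟨18895230539001665441797, 42508217845660388458501, 42507064079730885029896, 28345730364063820574720, 37787005128445402300416, 9447040779142144479238, 33058873475240292261895⟩)) (.leaf ⟨23615293431280436264970, 42505912565188777738247, 37790461641503090446342, 4731590136587769389065, 4611686087180427272, 33056567350618528694280, 47231735279915945201670⟩))) (.node (.node (.node (.leaf ⟨9451653310135324934152, 28335353507984688824322, 18896384024143454035977, 42503606440704704794627, 28338812835242287599621, 23614140790769769779209, 47230584891686111948801⟩) (.leaf ⟨4732743339910816100352, 4725825810677184360448, 47225970671980694749193, 37788155516606448959489, 14178629790104733876228, 42507064079937043464195, 14177476305444082327554⟩)) (.leaf ⟨37783545238100478291974,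 23616445508428765356034, 18894079869777891844102, 9448192856565452120066, 18898689303515519533057, 28334200304592872288262, 33068094595339793743876⟩)) (.node (.node (.leaf ⟨37780087318149026840585, 42511675484274335678467, 33063484316696350560264, 47235195451255010918402, 33068095721170981109764, 33066943925635101261831, 18898692118265253109763⟩) (.leaf ⟨9444734373595210317824, 3458764513837326344, 3458764513837330441, 1152921504657182730, 33056565943449786777600, 28334200868161183547392, 10376293541629427715⟩)) (.leaf ⟨11531467464474910730, 14175170743772372824071, 37782392879545808068608, 37778932989406958596098, 42508215875404321300490, 18891774026837498265603, 37790463611278138056710⟩)))) (.node (.node (.node (.node (.leaf ⟨14169406136043196919816, 4723521937992639873028, 3460734976146812936, 47230583202836251672583, 28345728112951184859143, 18894078462196866625541, 42501300598176510656515⟩) (.leaf ⟨28336506710758113951746, 18898691837065221398534, 4613093943133863937, 47229429999444418383874, 6919499352528408582, 33061177629330875908102, 14175170744253375578116⟩)) (.leaf ⟨14176325354470336643080,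 18890619135076723589128, 37778932707863161745411, 18890620260907843883008, 33063485723865092468738, 28342271318624829472776, 37781237706172584177671⟩)) (.node (.node (.leaf ⟨14174017822680099586057, 23623362193031476314122, 37789310127441985961991, 42511677172711879114760, 23622210960101868572679, 18892925822579536576519, 47227124438184958664708⟩) (.leaf ⟨9444734373526574731267, 23622209552589613191175, 14178629227223466377226, 18890621668007983722504, 37781239958247225450498, 23622210678764330831882, 47232889608520557666308⟩)) (.leaf ⟨9449346059338877259783, 42507065487037065879553, 9451652183891736821767, 33058871786184172912646, 28342272162980972986368, 33060025833863514181632, 37787004284089141297160⟩))) (.node (.node (.node (.leaf ⟨14176323665208209833991, 14175172714578179022848, 14176322820852066295811, 4611967837135704073, 42505911439288837345288, 37785851362790810349576, 18892927229267326042120⟩) (.leaf ⟨3459609213779595266, 37788157205868726722562, 47230583202355248926726, 4723521656174183198728, 37784697034048792432641, 14169405854980469985281, 18894078744015507849217⟩)) (.leaf ⟨33066943925978614738953,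 14172864901244212236290, 37782390627539768877064, 9456264714609921908746, 9456263869841511845890, 18900997680074384764931, 14177476868050337693702⟩)) (.node (.node (.leaf ⟨2533824663691266, 33064638645919287377924, 47223667080908649795593, 28337659350650321932295, 9447039371973402562560, 37781238269328662474761, 47235196295679907475457⟩) (.leaf ⟨28338810865261131870217, 9450498699505996693507, 4728131935161240543232, 23615293149668003823618, 10376575635047849994, 37780085629161694072833, 28343422832479691603977⟩)) (.leaf ⟨42504757955452802736138, 4732743621385809592330, 4723521938198848643080, 37790463893371606806529, 47232891015551827062787, 14168253215225684172808, 37788158049950109798409⟩))))) (.node (.node (.node (.node (.node (.leaf ⟨9452805105808593428483, 37785851362790810349576, 18892927229267326042120, 37782392879889405444100, 14175172714578179022848, 37782390628020805210120, 8073265694382268418⟩) (.leaf ⟨3461579469813219338, 28344577443177756102665, 33063482909321467039747, 14177476024175247253509, 9456264432722779348997, 9448192856428013199364, 14177477994431364763656⟩)) (.leaf ⟨23614140509775779086336,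 9452803698296354791432, 28342270755262575964167, 14170560183516480421890, 23612987025321285943304, 4731592388181374296070, 11530059539869081602⟩)) (.node (.node (.leaf ⟨47231735842384912613381, 42512829531541460766725, 23622211522776927342598, 23618751632363317403652, 9451651339810353750026, 9455110948336905003010, 42508218127341590712322⟩) (.leaf ⟨37790461360027962720264, 4725826654895821819914, 47227126127103639040009, 4730438059576711462915, 42501300598176443568133, 42510522562563603984386, 23623363037318984253449⟩)) (.leaf ⟨28342271318624829448197, 47228278766514693234692, 33064638645369665781764, 9451652465435533647877, 42503605033742070988802, 28339963505084502929416, 28337659632468912803844⟩))) (.node (.node (.node (.leaf ⟨14170559339160202645509, 37778933833831888756746, 9455112074717730713606, 42507065205768297918466, 33058872349546560634884, 14171713668314503839752, 18892925822029898219528⟩) (.leaf ⟨37789310408573382041608, 3461579813460914186, 28336505585270624620546, 18896383461056011313155, 14169408106917789720582, 9445886731806434172934, 9453958308375977566215⟩)) (.leaf ⟨23614140791319441707016,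 9447040497804673814531, 18894080151252969197572, 14170559339641222209536, 37787004565770293223432, 28337658506431650881546, 4731589855387586691073⟩)) (.node (.node (.leaf ⟨33064638082900748697606, 9444733810370429349896, 37789310408298504159235, 4723521937992639873028, 3460734976146812936, 4728133342261363605508, 28345728112951184859143⟩) (.leaf ⟨37787003439526822563845, 33065791567492664025094, 42503604470379867799555, 28337659632262787899402, 4732743621523298856964, 23618750787800881209353, 37778932426044621213699⟩)) (.leaf ⟨14167099448677789343744, 42501298346514052055040, 4722366483075971420160, 6919499352478056457, 10377982391321886724, 14167099448677806125056, 4614219293217783813⟩)))) (.node (.node (.node (.node (.leaf ⟨9450499544068265095173, 9451651621147975368712, 28345728956688987353088, 37787002595514259619840, 42511676609761908908038, 33058872067934010744836, 33063482909115207933957⟩) (.leaf ⟨18896385149699830616074, 4724673733460051927041, 42503604752198341242881, 9447040497804539625481, 28345729238301335900163, 23614141072382185476101, 28341118959589173239817⟩)) (.leaf ⟨23616444381979085897736,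 18897539196760629452809, 42510522562975803379720, 37778932707657087217665, 4731590418337590423557, 28345730364682362953737, 14175172714509425967113⟩)) (.node (.node (.leaf ⟨47225972924055403134986, 47235194607242364100616, 37790463892890570489866, 4725825528927312949251, 14168253214607208910851, 37788158050293707218946, 42504757954834327408641⟩) (.leaf ⟨9453958871188475228161, 11531748458348150788, 11530059608538222596, 42502451830281484640263, 4725827499252149952515, 18898692118540131004416, 14169406699267927592963⟩)) (.leaf ⟨3459891032336904195, 4728131935504837902343, 23612985336540078051335, 33064636675319622828037, 42501299190457945833480, 14169407543418030141443, 47235196577360908398596⟩))) (.node (.node (.node (.leaf ⟨14178631478542260535297, 4731592670343612891139, 37780085628955585974280, 14176325635945330155529, 9448192574746894798858, 47234041966869170106378, 47224820283682142031880⟩) (.leaf ⟨33061179036980654116873, 4730437215426759897088, 10377138378758983687, 37790462486065342095362, 14171711979189799231496, 37788157768887433170950, 47228278203702229094408⟩)) (.leaf ⟨23616445789285283541001,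 23615292868330466050058, 14175171025453524721670, 42502451830487676657664, 4725827217983214194691, 37781239676497370845189, 18890619697751849472005⟩)) (.node (.node (.leaf ⟨47230583202836251672583, 23612985335921686646788, 18894078462196866625541, 9444733810370429349896, 37789310408298504159235, 47235194607104790900743, 3460734976146812936⟩) (.leaf ⟨47225970671980694749193, 37788155516606448959489, 14178629790104733876228, 42507064079937043464195, 14177476305444082327554, 4732743339910816100352, 4725825810677184360448⟩)) (.leaf ⟨42505912565188777738247, 37790461641503090446342, 4731590136587769389065, 4611686087180427272, 33056567350618528694280, 47231735279915945201670, 23615293431280436264970⟩)))))))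

def reps14 : Tree (M7) :=
  (.node (.node (.node (.node (.node (.node (.node (.leaf ⟨9225343049054326790, 37788157486793880518658, 42501300316838939361290, 37789310127235944939530, 14170559902453770235911, 37783545800912841768963, 18898691555521441333248⟩) (.leaf ⟨28334201149292579692553, 9448193982259083096068, 4732742776892310966275, 4731590418337590415360, 33065789596892965924867, 37788157205868642828291, 8072702538354270216⟩)) (.node (.leaf ⟨37787002595101942771716, 23621056349816070639619, 9449345214913880027144, 9448193137834320752645, 37788156079418963410954, 4732743058023572873221, 9447041623910638452745⟩) (.leaf ⟨18889468465234424401922, 4724674859497297031170, 37790461360096732516360, 33066941673835304321033, 8071576638447435786, 18891771774831408713736, 14171713387114522497030⟩))) (.node (.node (.leaf ⟨18897538634223110348804, 33063484035564853813252, 8072420857185607683, 14171713104952250351626, 4728132779655007604743, 23622211241645581570056, 9224779824122318848⟩) (.leaf ⟨23614139383807135989762, 5766577848005451781, 33065789315555478495238, 18894080151252935671814, 4613375074513190913,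 14171711979739605368839, 47230582920949008457737⟩)) (.leaf ⟨28336505866676898643977, 18898689866946492522501, 8071858456954404865, 47229431969975397011465, 5766577847921565702, 18897536945235760787462, 37783544394087781105668⟩))) (.node (.node (.node (.leaf ⟨23619904835411536547845, 9447039653448412852226, 47231736123653630222343, 23617597022283577180168, 33061177347581054844935, 28343423395567016906759, 9450498699505996668934⟩) (.leaf ⟨42503605033467226652679, 42507065768512059375623, 14170558494666502701060, 47224818595038339567626, 42512828405435395493896, 14168254340919482945543, 28336504740776891138057⟩)) (.leaf ⟨37783545519781630181384, 9450498136624712405002, 18891774307900074258437, 33065790441317828939776, 42505911720901370470404, 9450499262593338736647, 28338813398261077901312⟩)) (.node (.node (.leaf ⟨42507063234962290388995, 28335353507984688824322, 18896384024143454035977, 9455110104392910528520, 28338812835242287599621, 28344575754327845543938, 4728131653411503374346⟩) (.leaf ⟨47227123593691359358977, 28344577724721334886408, 42511676328424438276099, 18894078180721889906695, 14170560183585132781568,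 14171713386908246642696, 28337659914012575424513⟩)) (.leaf ⟨37780087318149026840585, 42511675484274335678467, 18895232228401264762883, 47235195451255010918402, 18890620823926634213383, 18891772619462514061316, 33060024426076447969288⟩)))) (.node (.node (.node (.node (.leaf ⟨37790461922496896573443, 37788155516675168444425, 42504759362827770138634, 4732745028760844120074, 47235196577223519805443, 14168255185000882778122, 47232888482277154127875⟩) (.leaf ⟨8071858457004736522, 37787004565358009909252, 4728133624148606865410, 23614139383807135989762, 5766577848005451781, 18892927229542136827909, 18894080151252935671814⟩)) (.leaf ⟨68719476736, 2814749767106560, 1152921504606846976, 47223664828696452136960, 10, 40960, 16777216⟩)) (.node (.node (.leaf ⟨28337660195281360134152, 42509371330183735296003, 9448193137834320752645, 37788156079418963410954, 47225973487074042449926, 9447041623910638452745, 14171713949995672551431⟩) (.leaf ⟨23618751069481982795778, 9451650776585606303751, 42507063516437267107850, 9452804823783877660678, 47224819158194434613251, 14177476305306525900806, 14177477150212509175816⟩))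 (.leaf ⟨18894078744015390412800, 28335352100678608654345, 33066942799528918544384, 42505912002170071314441, 47224818876582069276676, 9450497855012330278916, 4724675141247218769924⟩))) (.node (.node (.node (.leaf ⟨28342271318624829472776, 14177475742700287328260, 14176325354470336643080, 33068097410020891688963, 14167101700683778261000, 33068096284189771440128, 33063485723865092468738⟩) (.leaf ⟨33062330832516617891849, 23618751069550702260233, 33057719428041785999366, 33061179037117975638024, 28344576880090313396226, 9455111793105365389319, 37785851080834763718660⟩)) (.leaf ⟨18899843633082221481986, 47234042529750269829125, 28336506710895552892933, 37780087599623886118921, 28337660195143971508226, 14176323384008077512706, 42508217282710502146049⟩)) (.node (.node (.leaf ⟨33068097129095570141190, 33068094595271057510404, 37782393442289485643785, 9225342636636807171, 37781239676703579590657, 4725825810539728609285, 18890619415933141131272⟩) (.leaf ⟨23615293149599317921799, 28338811709342481420293, 4726980420687886311431, 18897539196760646254599, 42508217845522899148806, 42511676891443044052994, 28341116426657829240840⟩))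 (.leaf ⟨18897538353022860558344, 23614139946688420290562, 9455109822436981362692, 37785850799359770230791, 18896384305412289085449, 23618751914181874708482, 18900996272974311981062⟩))))) (.node (.node (.node (.node (.node (.leaf ⟨37788156924325030559751, 37783544394018994552840, 33060026396607342718976, 3460735526020063238, 14170560464922620227586, 42501299471795517161473, 37789309282742144335873⟩) (.leaf ⟨18892924695992502087690, 33057718301798416019463, 28338812272154911989762, 9453957464088436051977, 23611834103198203785222, 14171712542483433943046, 33061177910805785501702⟩)) (.node (.leaf ⟨37788157205525045444616, 8072702881951682563, 23611833259048201920521, 42510522562494750273540, 4732742776686152540168, 47227126126966183301120, 33065789596961685389320⟩) (.leaf ⟨42504758799809114042375, 28334198897424130396164, 28342271318556126765058, 28342270474062410055689, 47232888201214460690437, 33068095440039618543619, 9452803698158915833865⟩))) (.node (.node (.leaf ⟨33068096284189771440128, 18895230820476608610313, 23616445226472785850371, 37781237706172584177671, 14176325354470336643080, 33068097410020891688963,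 37778932707863161745411⟩) (.leaf ⟨14175172714028389629954, 18897539196760629481474, 37778932707863245635594, 23612986180896288677897, 28342272162637493043208, 42510522562357328125955, 47227126126966183309317⟩)) (.leaf ⟨37790461641296864903172, 9451651339741651013641, 3459045988830822409, 5767422341571178498, 42509371611727448272896, 47225971516817924980737, 33065791004405389066244⟩))) (.node (.node (.node (.leaf ⟨23622211241851739987974, 14177478556968900632581, 28337658506225492434946, 14168254622531865026566, 9448193137834253656068, 18896385994124693610506, 4732743339979636236297⟩) (.leaf ⟨28337658787631682584580, 33063484879646153015302, 28339963786697036025862, 18889467339265915518983, 28342270755399981355018, 47228277922433427591174, 28343423677179415769094⟩)) (.leaf ⟨47235196295542451765256, 37784699003892442075146, 14169407825236671369226, 33064636957138264010753, 3461016794704138249, 14170560183997466447874, 4728131935023835127814⟩)) (.node (.node (.leaf ⟨14169407543418030161928, 47235196577429627895815, 9225342980217384963, 47230584610211252666375, 23612985335921602732036, 18894079869571834085381,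 42501299190801543229443⟩) (.leaf ⟨9444734373389051887616, 3458764513837355011, 3458764513837350914, 11529215046202691594, 18889468465165688111104, 28334200867680147210240, 2305843009230503939⟩)) (.leaf ⟨9445887013556154556422, 23622211522776927342598, 23618751632363317403652, 42507065205287261573121, 9455110948336905003010, 9450498417756024610825, 4726980702712702709766⟩)))) (.node (.node (.node (.node (.leaf ⟨9453958590263287914506, 4732743621042212188161, 4723521937855251222531, 37790463892890570489866, 4725825528927312949251, 37790463330490406412296, 37788158050293707218946⟩) (.leaf ⟨33060024426694839394309, 23617599273671157915650, 9447039090910709153795, 14167100012177481818115, 28343423395360892002305, 14175171025659683168261, 4724674578365934481415⟩)) (.leaf ⟨2252143511748613, 33064636956725913591813, 18897538071135701180422, 37778932989131946479617, 4731591825506214903815, 18900996835718190866434, 37784699004373579087881⟩)) (.node (.node (.leaf ⟨47230583202836251672583, 28345728112951184859143, 18894078462196866625541, 42501300598176510656515, 14169406136043196919816, 4723521937992639873028,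 3460734976146812936⟩) (.leaf ⟨37790463893302753128456, 4725826936370916007946, 47227124156778785308681, 47228277641095856275464, 9444735217745329688582, 42510523969938403639298, 28335353226303570460674⟩)) (.leaf ⟨4722368453606849396736, 42502452674843803406341, 28334200304867632754694, 23616445226404066381832, 33065790722655534477312, 42507063516780881285124, 28338811427798785224709⟩))) (.node (.node (.node (.leaf ⟨37780087599623886118921, 14176323384008077512706, 33058872912015393841161, 28336506710895552892933, 23621056349953643814921, 9450499262387113177098, 4724674015347345494022⟩) (.leaf ⟨37789310127441985961991, 42511677172711879114760, 28336505584995746750468, 18892925822579536576519, 4731592106912472109063, 37784698722417515692034, 28335354352066139009025⟩)) (.leaf ⟨28338810864848882106371, 33064638645369682534402, 9453957182888437878787, 37778934115238129188865, 4725827780933234753541, 23623363881812633853954, 14171711416239778693129⟩)) (.node (.node (.leaf ⟨47227126126760024899590, 23612986180415252369410, 37783543830588004761602, 23616444381979085897736, 18897539196760629452809, 9448193982121811943427,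 37778932707657087217665⟩) (.leaf ⟨33058871223096730214400, 282024766078979, 2814956059754505, 2251868700934154, 28342269347750119247872, 9450497573262324690944, 2814887340277768⟩)) (.leaf ⟨4725825810539728609285, 18890619415933141131272, 18890619416001860632581, 33068094595271057510404, 14176323102808129679362, 3459890894881165320, 14177476868394035732490⟩)))))) (.node (.node (.node (.node (.node (.node (.leaf ⟨47235194607242364100616, 14168252652207044833281, 4725825528927312949251, 37790463330490406412296, 14170558494803908104201, 9453958590263287914506, 47225972924055403134986⟩) (.leaf ⟨4731592388387599818758, 18900997679799439728643, 18900997679868159229958, 18900995147143275618308, 37788155516537729482754, 9225342842845532163, 37789309282810897387530⟩)) (.node (.leaf ⟨8072984082067230722, 4724675140834952249347, 33060025270501311021066, 33057719990991789760517, 42508218127341490044937, 9453956338051023114242, 9450497855012179283976⟩) (.leaf ⟨37783544112269223804932, 9224216942938714122, 18895232509945078358019, 23616444663797743890439, 1689124754976771, 23612985899146534735876, 28334200023324037238784⟩)))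 (.node (.node (.leaf ⟨42501300316838939361290, 14169406417861670338561, 14170559902453770235911, 14175170744184589004808, 33060024989576173989888, 3459890482463645701, 37788157486793880518658⟩) (.leaf ⟨9448193982259083096068, 4732742776892310966275, 4731590418337590415360, 33065789596892965924867, 37788157205868642828291, 8072702538354270216, 28334201149292579692553⟩)) (.leaf ⟨23614140509500985053191, 33060026115613402361860, 4725827499733035257863, 14172864900694406070281, 28345730646225958481921, 37781239676428785582087, 42503606722798089699336⟩))) (.node (.node (.node (.leaf ⟨37790462486065342095362, 37787004565907816091651, 37788157768887433170950, 4730438341395386228739, 18897537508116961206274, 47228279329670855426048, 10377138378758983687⟩) (.leaf ⟨33063484598583660924930, 14177476868187826982916, 9224779824055209988, 33064637238338312503305, 18895232791213812772873, 14171711135314557812741, 4726978169369159299075⟩)) (.leaf ⟨4732743339979636236297, 23622211241851739987974, 37781237988128714690566, 28337658506225492434946, 37790461922565750296581, 42510523407263361667079, 33062330550972921712641⟩))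 (.node (.node (.leaf ⟨4729285700884652630022, 28336507555320550166532, 9453956619869681102857, 18898690148009236254726, 9455109822643039145989, 28344578005646589300746, 28345730646157339688962⟩) (.leaf ⟨28341118678320271073287, 3459327601380728841, 14171713949995739648004, 23615292023287127773188, 23617598992402423517192, 42502452956731147300869, 47234042811500225101829⟩)) (.leaf ⟨9456263588572710322182, 37780087318080206704642, 37782390909564518162436, 42503605877754751373314, 42512828124029004062726, 47234043656062594195462, 28341116989470377271297⟩)))) (.node (.node (.node (.node (.leaf ⟨9450498699505996668934, 23619904835411536547845, 9447039653448412852226, 47231736123653630222343, 23617597022283577180168, 33061177347581054844935, 28343423395567016906759⟩) (.leaf ⟨28341117552695191805955, 4724673733597390176262, 9225905930137243650, 23615292023287127773188, 42502452956731147300869, 23617597866777344249860, 14171713949995739648004⟩)) (.leaf ⟨11530059608555020298, 37787004565839079829511, 37788157487068758446080, 37778932989406874730505, 9451650494973207420938, 18899844477369662308360, 14178629226605075013638⟩))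 (.node (.node (.leaf ⟨47234043374243902685194, 47224818313357221208072, 37780087599830061318154, 47227126408028910288904, 37780087036330318503944, 37782393442426924605442, 9448193982121694502922⟩) (.leaf ⟨9223372037022580738, 1152921504657182730, 33056565943449786777600, 23611833540385571864576, 10376293541629427715, 42501300034951545094144, 9223372037022584835⟩)) (.leaf ⟨23615293149186900361223, 33056567632231028228101, 37790462203903254495239, 9449346622426236088328, 9452804823990052888582, 42505911720901336907780, 33065791285674073153545⟩))) (.node (.node (.node (.leaf ⟨33060024989576173989888, 9225343049054326790, 14170559057547820560393, 9444734091708000645121, 14169406417861670338561, 14170559902453770235911, 37783545800912841768963⟩) (.leaf ⟨37781239394885106147331, 42507065768512009019396, 9452804823783877660678, 14177476305306525900806, 28339965475615632527369, 42507063516437267107850, 4733897386903180709896⟩)) (.leaf ⟨47228277359139809681415, 33064636112094791499783, 9451651621079171997702, 42503606440910812889097, 28339963505153222406147, 28337658787975313526791, 28342270473856251600902⟩))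 (.node (.node (.leaf ⟨37790461078209556393988, 4732744465879576645640, 42504759081077781311497, 28339964349784327749639, 47229429999856768786442, 47228277077871058501639, 42510522562907201368071⟩) (.leaf ⟨28342270755262575964167, 14170560183516480421890, 28345729519776329379843, 4731592388181374296070, 1155173991648890889, 28344576035321836236800, 42505912846801260531715⟩)) (.leaf ⟨42507064642474713559041, 47225972361174034976773, 37790461359821837832201, 14170560746741160747010, 18891773463406474977282, 28344576317071590203397, 28343422832823205142530⟩))))) (.node (.node (.node (.node (.node (.leaf ⟨37789310127235944939530, 14170559902453770235911, 37783545800912841768963, 18898691555521441333248, 9225343049054326790, 37788157486793880518658, 42501300316838939361290⟩) (.leaf ⟨9455109541099376488457, 23615293712411714920451, 9453958027175929069573, 4724675141247151640581, 37783546364343948951556, 9452805950096134914056, 37782392879270812741642⟩)) (.leaf ⟨42510522843763669213192, 37785851081040972509185, 42510522844244705558534, 47235196014204846899204, 42505912283851307094022, 5766015310251438082,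 4724672889447287660547⟩)) (.node (.node (.leaf ⟨42503606722454576177158, 23614138539451026022401, 23612985898940275634185, 4729285700884652630022, 28336507555320550166532, 42504759925227934220290, 18898690148009236254726⟩) (.leaf ⟨28343425084554399981577, 33058872067934111420426, 4726979857875472506882, 42512828123960418787333, 23617599555283506458630, 23621056350022245814281, 9450499825268313591817⟩)) (.leaf ⟨33057719146429454254089, 18896384024006048628742, 37783543831137827721219, 47229431969975447334917, 37789308156911024103434, 47227126408097629741056, 42504759643821643399173⟩))) (.node (.node (.node (.leaf ⟨9225624386541727746, 42504757110821798051848, 47234042529612847661066, 14171713668451959582720, 28343422551348178075658, 4722369297825721774085, 18898691274390078775300⟩) (.leaf ⟨33060024707551424708616, 37788157487412355792903, 14171713950064475918336, 14170558213328981757960, 4614501180645576713, 42509370203802657923075, 14174018103811495718920⟩)) (.leaf ⟨28338811990611182256133, 23614139665213477109763, 14177477150006384283655, 5764889547766775812, 3459891100972498951, 28344577724515176435718,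 18897536945167041306626⟩)) (.node (.node (.leaf ⟨18897539196760646234116, 23615293149530598416388, 42508217845591618654213, 23619904835411536547845, 9447039653448412852226, 4726980420687886307332, 23617597022283577180168⟩) (.leaf ⟨18899842225638517784580, 4730438904345356427265, 18889466494909570641929, 33056565380568703864836, 18897537507979522252801, 4726980702231649591301, 47234043092975134707714⟩)) (.leaf ⟨23614138820444916064265, 47230582921361392435201, 9451650776860417077256, 23623363318587785756681, 33062330550629307539458, 42503605033329703804931, 23619905117230060310534⟩)))) (.node (.node (.node (.node (.leaf ⟨14170558213672629473283, 8073265694466154505, 42509370485896109924360, 37784697596655114928136, 18898689866465523281928, 14170560465541095489543, 14171711416171092791296⟩) (.leaf ⟨2306687777875464199, 37780086191905522622466, 14175170744184706441224, 14176323384214370164741, 4726979576400445464579, 33064637801150826942473, 47231738094528357236736⟩)) (.leaf ⟨42507063516437267107850, 4733897386903180709896, 37781239394885106147331, 42507065768512009019396, 9452804823783877660678,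 14177476305306525900806, 28339965475615632527369⟩)) (.node (.node (.leaf ⟨14175170744184589004808, 33060024989576173989888, 9225343049054326790, 37788157486793880518658, 9444734091708000645121, 37789310127235944939530, 37788156642643845087236⟩) (.leaf ⟨33060026678357314789385, 18889466776247209033734, 42505911158088822439939, 42509370485758771609604, 28337658787631615442948, 37780085910361742540807, 9449346059545069264902⟩)) (.leaf ⟨28345728112951268773895, 18894079869571834085381, 9444735217745396776968, 37789309000923670917123, 4723519967667802877956, 9225342980217384963, 47230584610211252666375⟩))) (.node (.node (.node (.leaf ⟨4732744183786124623873, 14175170462297345785856, 28337660476618897911818, 47223667643652411256838, 18892925822098517020676, 9225624386491396105, 9448191730734197669891⟩) (.leaf ⟨28345730364682362953737, 37783543830588004761602, 23616444381979085897736, 33061177347581071626242, 9448193982121811943427, 14167101700889852788746, 4731590418337590423557⟩)) (.leaf ⟨42511675483793316118538, 37781239113410045542401, 9444734936682669838337, 37790463611346874273795, 47231736123928508121096,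 28338813398329713524745, 9447040216329562918915⟩)) (.node (.node (.leaf ⟨47231736123653630222343, 28341116426589109776387, 33061177347581054844935, 23615293149530598416388, 42508217845591618654213, 28338811709686078775302, 9447039653448412852226⟩) (.leaf ⟨14177476868668829741060, 28344576035596630269956, 4725827499733035257863, 28345730646225958481921, 9455109822299525623811, 33060026115613402361860, 37785851644403209207810⟩)) (.leaf ⟨33060026115613402361860, 4725827499733035257863, 14172864900694406070281, 28345730646225958481921, 37781239676428785582087, 42503606722798089699336, 23614140509500985053191⟩)))))))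

def reps15 : Tree (M7) :=
  (.node (.node (.node (.node (.node (.node (.node (.leaf ⟨281474976710656, 1152921504606846976, 4722366482869645213696, 1, 4096, 16777216, 68719476736⟩) (.leaf ⟨47228278766995729575944, 42503605596417230409736, 14169406699061869805578, 14178631196998564319240, 28342269629637463126025, 42503606440635951742986, 42501300316770236665866⟩)) (.node (.leaf ⟨14171711979602132889607, 14170559057822698475520, 37778932989063277326338, 42507062953556066738186, 18899844477026064924675, 14178629226605074976773, 11530060089591353345⟩) (.leaf ⟨33057718864748402995208, 14170558213741382483973, 23619903709992749924357, 47229430280919428653058, 42508217564254064103434, 23615293149668070932485, 37789310689842149990400⟩))) (.node (.node (.leaf ⟨6918655614809833472, 37788156361375077146624, 47225972079218089029637, 23616444663935115735047, 8072702744462360581, 18899843351332316540934, 33058872630884048072712⟩) (.leaf ⟨23615291460680687845385, 4724672888897632473091, 23617597584958669475844, 42510522281363521933318, 23622210115402161201162, 42502453801156060651528, 18891773463475177693189⟩))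 (.leaf ⟨14176325635533097160711, 42503605877754751373314, 42512828124029004062726, 4724672889035021127685, 28341116989470377271297, 42502452956524905000965, 14178629227017408618505⟩))) (.node (.node (.node (.leaf ⟨28334198897424130396167, 23619904835480239230978, 28338812553973519646722, 47227123593691426455558, 33057720553873040474120, 42509369078177729634313, 9448193419240443756551⟩) (.leaf ⟨42508217564254064103434, 14169405855255465332736, 14170558213741382483973, 4729286264178186670089, 28343423395429544390662, 18900997680349212327939, 23619903709992749924357⟩)) (.leaf ⟨47231736123928508121096, 23619903146767901798402, 42511676328768052404232, 9447041060548384915457, 37781239113410045542401, 9444734936682669838337, 14168252933750741049352⟩)) (.node (.node (.leaf ⟨14168254059032273227785, 37787004565907816091651, 37788157768887433170950, 47228278203702229094408, 18897537508116961206274, 4730437215426759897088, 2308095152758988804⟩) (.leaf ⟨42508216156604453658628, 4724672607491341705223, 33064636957138146566144, 23623361911350425034761, 18891772900387734962176, 42505911157745141182466, 47224819720800891310087⟩))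 (.leaf ⟨4729285700884652630022, 28336507555320550166532, 42504759925227934220290, 18898690148009236254726, 42503606722454576177158, 23614138539451026022401, 23612985898940275634185⟩)))) (.node (.node (.node (.node (.leaf ⟨9224498555371159555, 47230583202836251672583, 28345728112951184859143, 33064638082900748697606, 42501300598176510656515, 37789310408298504159235, 47235194607104790900743⟩) (.leaf ⟨18896383742187407446021, 14174019511254964543493, 33061178755436874063875, 4724673170922432102409, 14175171025178546155521, 9452804260696619503624, 4725826655308256137220⟩)) (.leaf ⟨33065790722999098302471, 9225624386491396105, 42510521718138673836040, 47225972360555576455178, 37783546082800269537280, 28337660476618897911818, 47223667643652411256838⟩)) (.node (.node (.leaf ⟨37788157487274916847616, 14167101419483662680073, 42507062953556066738186, 18899844477026064924675, 37780087317736626102278, 11530060089591353345, 37787004565495482433540⟩) (.leaf ⟨14175171025453524721670, 33068096847345765851142, 42502451830487676657664, 28342270755812331782146, 47232889327114401128456, 28343423676767149228033,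 37781239676497370845189⟩)) (.leaf ⟨23621056631428654047241, 37790461078621822918656, 23623361911075547127808, 33068097129026968092681, 42510521999544847212545, 37788157206006048243719, 4732744465673334321155⟩))) (.node (.node (.node (.leaf ⟨14171713949583355703296, 42511676609761908908038, 18899844477163604578311, 18895230539001749327878, 42508217001029350227974, 9451651621147975368712, 28345728956688987353088⟩) (.leaf ⟨37781238550528895508481, 4732745591161008181255, 14168255184932163325955, 42509370485758771634184, 4732742776411140423687, 47223667362108832497668, 37783545519575471763456⟩)) (.leaf ⟨23616444382047872516105, 10376575153927655434, 9451652465435533672456, 14168253215019576074241, 4729286264040730943488, 28337660195281494343682, 23621056912766107926537⟩)) (.node (.node (.leaf ⟨37778931863644406845440, 42501298346514052055040, 4722366483075971420160, 5765733422941077506, 10377982391321886724, 37778931863644390064128, 8071013482201350150⟩) (.leaf ⟨33066942518466376142855, 18896383460506272292869, 9451652465572922294278, 42508217845454263566344, 23623363881194225692672, 14175172714097226563584,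 42503606159229677752325⟩)) (.leaf ⟨9453958027038439780362, 37784697034117444829191, 5764889135550586888, 9449346341019945299975, 47225970671911975292929, 47228278766995897356296, 42509370203940231053314⟩))))) (.node (.node (.node (.node (.node (.leaf ⟨33065789315074375036931, 37782392879889405444100, 14175172714578179022848, 14176322820852066295811, 8073265694382268418, 42505911439288837345288, 14172865182306804973571⟩) (.leaf ⟨23622210115539516276739, 14169406699268028256263, 6917810708776239108, 3460735525902643204, 23622209271320694251525, 18894078180996801372162, 23616445789216513732614⟩)) (.node (.leaf ⟨33058872349340284776453, 4732744184404566372358, 33058872912358974439432, 28342269910837545152516, 6919500039790276608, 8071295369595584517, 37788157205799956910080⟩) (.leaf ⟨42502453519199997280263, 10377982941111271432, 37781239113822463078405, 37782391190764600184842, 23611835229510444277769, 33066943363028661321734, 42502451267469020504067⟩))) (.node (.node (.leaf ⟨14169407262217948123143, 18895232791076306685952, 23614139383669747359754, 23616444100916509954048, 18891772900800152494087,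 18898689585471448707080, 42505912284263640764421⟩) (.leaf ⟨23618751632844353728513, 9447039935129480867846, 37784698159605018001408, 18892926103504807817223, 23619903709923963334660, 18894077617840622436352, 18897536382217054363651⟩)) (.leaf ⟨28341117271289085571076, 14178628664204927709188, 47230582921361291776001, 47234042529750370521096, 4726980702712685936647, 9448192856496615206921, 42504757955384083234820⟩))) (.node (.node (.node (.leaf ⟨42508218690154121953282, 42504759081352810201088, 37784697596448855822336, 42505912002857266061314, 37789310408504763224065, 4731589855112725557255, 23612987587790203019267⟩) (.leaf ⟨18894080150771949633540, 4723521375180276404230, 42505910031982790705159, 18897536382010946261001, 4726980139487804276746, 23612986462371231842306, 9456264714541286309889⟩)) (.leaf ⟨18900995991155872104458, 42504758799396797181952, 4729284293990755110915, 33065791285880349011976, 14169405854705709502467, 18896384023662417707018, 18897538634291695620103⟩)) (.node (.node (.leaf ⟨23614140790769769779209, 47230584891686111948801, 42507063234962290388995, 28335353507984688824322,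 33062332520954161287170, 9455110104392910528520, 23619903709855327723526⟩) (.leaf ⟨33062331113647980425223, 42510522281500809924609, 18897538915354472878083, 18898689304134011617282, 37785850237028308893697, 23623363881400300228612, 23614139946207316824067⟩)) (.leaf ⟨33066943925635101261831, 33060024426076447969288, 37780087318149026840585, 9447041060823279599624, 18895232228401264762883, 4723521093842604404745, 33068095721170981109764⟩)))) (.node (.node (.node (.node (.leaf ⟨14169407262355470942218, 14170559620772584763396, 37783544394018994552840, 33060026396607342718976, 9224498005497909253, 14170560464922620227586, 9444734936751422844938⟩) (.leaf ⟨42510523407125905944577, 5764889135533809667, 47234041122787820576769, 42505911721244984606722, 14172864619769201983492, 9452804823990069641223, 4726980421168939438083⟩)) (.leaf ⟨9453957463744805076992, 37784697596448855822336, 42505912002857266061314, 14169406136592852099082, 4731589855112725557255, 28345728957307412303880, 9450497854943493369865⟩)) (.node (.node (.leaf ⟨47231736123653630222343, 23617597022283577180168, 33061177347581054844935,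 28343423395567016906759, 9450498699505996668934, 23619904835411536547845, 9447039653448412852226⟩) (.leaf ⟨2305843490317168649, 18900997116918222581767, 33058871786390297812999, 42512829531816271585284, 9449344652032746745856, 33062331958622616031241, 4612249105886887936⟩)) (.leaf ⟨47234043937606273617924, 33064636957138146566144, 28335354633747190288386, 33066943643953966116864, 9452805386596375347209, 47224819720800891310087, 42508216156604453658628⟩))) (.node (.node (.node (.leaf ⟨47235196577360908398596, 3459891032336904195, 47230584609592777375748, 23612985336540078051335, 18894079869777992495110, 9444735218088994172931, 37789309000923670937608⟩) (.leaf ⟨28335352663353717706756, 23614139946207316828168, 33062331114129016782852, 42510522280882334605322, 33061177629124667117571, 33060024145219896246274, 37785850236547272568842⟩)) (.leaf ⟨28338812553836063907842, 23619904835617694953474, 4731589855387653767174, 33057719146292048822275, 42509371611521222729730, 42510523406850994499591, 28334198897767711002628⟩)) (.node (.node (.leaf ⟨4728133342742366396421, 47235194888167517880323, 14174019511048822890506,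 14169405854980469985281, 18894078744015507849217, 9225624317738377225, 37788157205868726722562⟩) (.leaf ⟨28342270473856251600902, 4730439185201706848260, 33064636112094791499783, 42507064924018443325445, 9455110104186802434050, 23618749943719464550408, 28337658787975313526791⟩)) (.leaf ⟨37778931863644390064128, 8071013482201350150, 14167099448677789343744, 42501298346514052055040, 47223664829246224769024, 6919499352478056457, 2307250384097247239⟩)))))) (.node (.node (.node (.node (.node (.node (.leaf ⟨9453958590263287914506, 47225972924055403134986, 4723521937855251222531, 14168252652207044833281, 47232891016170302373896, 14168253214607208910851, 37788158050293707218946⟩) (.leaf ⟨42502453801155993575424, 4725826373764559933448, 37781238832416038096902, 18890621105195368615942, 23616445508428866007042, 23615292586374469779457, 14175171869809685045253⟩)) (.node (.leaf ⟨33066943081622437629958, 28343425084416927477762, 4724672888897632473091, 23617597584958669475844, 9448194263734093389829, 23622210115402161201162, 9456262743941554671619⟩) (.leaf ⟨47231736124134834343939, 9452804824196228055042,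 9448193138040428834817, 37785851925946888650756, 6920343914947829763, 42505911721038826192903, 4724672326428648284161⟩))) (.node (.node (.leaf ⟨18900995991224574803971, 42509369078177729634313, 9448193419240443756551, 23611832414898065793028, 23619904835480239230978, 23619903991124095676425, 4731589855181445005317⟩) (.leaf ⟨14176323384214370164741, 4726979576400445464579, 18894078743946788380674, 47231738094528357236736, 10378545753642508292, 14178630353192092700681, 37783545800912908881923⟩)) (.leaf ⟨23623363881194225692672, 18896383460506272292869, 14175172714097226563584, 9451652465572922294278, 42503606159229677752325, 42508217845454263566344, 33066942518466376142855⟩))) (.node (.node (.node (.leaf ⟨47232891015551827062787, 37790463329871931150339, 37788158049950109798409, 9453958589644812587009, 47225972923711805730817, 47235194606898766680067, 37790463893371606806529⟩) (.leaf ⟨4723521375180276404230, 28345730082726383480841, 9452803416890080755716, 42502451830556329013258, 18897536382010946261001, 18894080150771949633540, 47231736405609811046401⟩)) (.leaf ⟨33057719709379424456713, 14174017540724036235266,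 2252143511748613, 33064636956725913591813, 33061178473961914142725, 37778932989131946479617, 47227124719591215869956⟩)) (.node (.node (.leaf ⟨33064636957138264010753, 9224216736813834242, 37788156361100148875273, 47230584610073780195333, 47235196295542451765256, 37784699003892442075146, 37789308719860943953921⟩) (.leaf ⟨14169407825099114946565, 37789309563942377365512, 23617598992402306080777, 9450500388355789852676, 42508218408266710929409, 42509370204352581492742, 4723520811886742376451⟩)) (.leaf ⟨14169407543624289263617, 4731589855456373272580, 23612986180896305471496, 9450500388561998589954, 42504758236309287337984, 14174018103605236637696, 9452805387283570135042⟩)))) (.node (.node (.node (.node (.leaf ⟨9448193419240443756551, 28334198897424130396167, 23619904835480239230978, 28338812553973519646722, 47227123593691426455558, 33057720553873040474120, 42509369078177729634313⟩) (.leaf ⟨4733896542340761268227, 37785851925878236254218, 14177478275837554888714, 33061178192143356801025, 3459609419820589058, 37782391753920762355721, 4729284856872089690118⟩)) (.leaf ⟨9447040779142144479238, 33058873475240292261895,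 33063482909115291820038, 42508217845660388458501, 9451652465366730293251, 23612986180277880504320, 14171711416652213022720⟩)) (.node (.node (.leaf ⟨18899844477369662308360, 37780087317736626065413, 1155173922962952193, 14171711979258535493636, 37788157487068758446080, 37778932989406874730505, 42507062953899664084993⟩) (.leaf ⟨9450499825199644422144, 9450499825337083383815, 42508217845866530103304, 4722369016213306093570, 14169406980949146640387, 47227123874891474944009, 11530622627194376198⟩)) (.leaf ⟨42503605596417079390210, 28335352945240994500611, 23622211523120575057925, 28339966038702924242953, 33063484316833789517825, 47225972360761835524106, 42511675202661953581057⟩))) (.node (.node (.node (.leaf ⟨18895230539001749327878, 9450499544068265095173, 9451651621147975368712, 23612987587652713725952, 37787002595514259619840, 9447039935335706415109, 18899844477163604578311⟩) (.leaf ⟨47223667643996126081030, 18898690429965232525316, 9224217011607863298, 42504757110821714145288, 4724673733253792808961, 37787004846970408808448, 28343425084622968483850⟩)) (.leaf ⟨8072702881951682563, 23611833259048201920521,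 42510522562494750273540, 4732742776686152540168, 47227126126966183301120, 33065789596961685389320, 37788157205525045444616⟩)) (.node (.node (.leaf ⟨4729284575122218311682, 5766577847921565702, 33061179599861854535685, 14175172151009834172423, 23622210678420716679170, 18898689866946492522501, 8071858456954404865⟩) (.leaf ⟨42509371329840137924616, 42511674921255696367625, 9448193138177918124038, 14171713949514636226564, 37788156079418963423233, 23621056349609912180744, 4732743058504609173510⟩)) (.leaf ⟨33063482909115291820038, 9450498699437226864646, 9451652465366730293251, 28345730364063820574720, 37787005128445402300416, 42511675765955470843909, 33058873475240292261895⟩))))) (.node (.node (.node (.node (.node (.leaf ⟨47232891016170302373896, 37790463330490406412296, 37788158050293707218946, 42504757954834327408641, 4732743621042212188161, 47235194607242364100616, 14168252652207044833281⟩) (.leaf ⟨18892926666454710890504, 37778932989406874701834, 9451652746704351932425, 37787004847107830972419, 14170560183585116037125, 42503607003654523990021, 33058873193971339784196⟩)) (.leaf ⟨18900997680486785511429,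 8072421132113805314, 9451650776929170112521, 8072984288074698759, 42503606159641893928964, 33068094877089665150977, 18899843913938689363978⟩)) (.node (.node (.leaf ⟨4723520248799249313795, 14174017541205173248001, 14169407825236671369226, 33064636957138264010753, 9224216736813834242, 14170560183997466447874, 47230584610073780195333⟩) (.leaf ⟨18896384305412289085449, 23618751914181874708482, 33057720272123118747653, 18897538353022860558344, 28344576598409195032585, 42503606722660633960455, 14172865744981930803204⟩)) (.leaf ⟨18898691274527618400266, 33062330832585236684809, 37785851081315749765122, 23614141072519657975816, 23612985899215203893248, 18896385149562358099970, 9444733810782846849034⟩))) (.node (.node (.node (.leaf ⟨14176323102670690717705, 9448193982121694502922, 4724673170853712637953, 4733898231740394115075, 14178628945267554004993, 47227126408028910288904, 37780087036330318503944⟩) (.leaf ⟨28336506710758113951746, 18898691837065221398534, 8072139588384063498, 47229429999444418383874, 5765733423075319813, 18897538915766739415045, 37783545800844239699975⟩)) (.leaf ⟨33068094595339793743876,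 14175171306997137031173, 28342271036668849967113, 33064636675319723479045, 9448192856565452120066, 18898689303515519533057, 23611834103198153474053⟩)) (.node (.node (.leaf ⟨167772160, 687194767360, 281474976710656, 1152921504606846976, 47223664828696452136960, 1, 40960⟩) (.leaf ⟨14177478557037754339336, 10378264003737583626, 4725827217845741703178, 42511676609693256544266, 4725826092495607468040, 33068094595408580345864, 28341117271151529168905⟩)) (.leaf ⟨42501299190320456540164, 9444734373801385537543, 10378264553644396551, 4733896261071993339912, 18897538634360515764224, 18898692118402725597192, 42503605877892173537281⟩)))) (.node (.node (.node (.node (.leaf ⟨37788155516675168444425, 42504759362827770138634, 4732745028760844120074, 47235196577223519805443, 14168255185000882778122, 47232888482277154127875, 37790461922496896573443⟩) (.leaf ⟨47223665392264914419719, 37783544675356549066752, 14177476586712917364737, 4732743057886133899268, 37790463892821850988547, 9449346341157434560520, 47225970671705699397639⟩)) (.leaf ⟨14167100574715051249665, 9455112074717730713606, 42507065205768297918466,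 18899844195551054688263, 14171713668314503839752, 33065790723067717103619, 37788157205937412677638⟩)) (.node (.node (.leaf ⟨33058872067934010744836, 18895230539001749327878, 9450499544068265095173, 42507064923949639954435, 23612987587652713725952, 14171713949583355703296, 42511676609761908908038⟩) (.leaf ⟨47232888482895629398024, 14168254621982243430403, 37788155517018765791234, 42504759362209294884865, 4732745028417246756865, 4723519967530498170883, 37790461359615696187402⟩)) (.leaf ⟨47225972360761835524106, 9447041342435661742090, 9455110948680535932937, 23623363599856620822536, 23622211523120575057925, 28339966038702924242953, 18895232228263825805322⟩))) (.node (.node (.node (.leaf ⟨9448192012415383146506, 9448192575296600281090, 42509371329977610424325, 28339964068171979198465, 42507063798393280167937, 4732744184198374391811, 23623362192756715823113⟩) (.leaf ⟨14177476305306525900806, 23618751069481982795778, 42507063516437267107850, 47224819158194434613251, 14177477150212509175816, 9451650776585606303751, 9452804823783877660678⟩)) (.leaf ⟨14177476868394035732490, 4725825810539728609285, 18890619415933141131272,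 18890619416001860632581, 33068094595271057510404, 14176323102808129679362, 3459890894881165320⟩)) (.node (.node (.leaf ⟨9451653028179311874058, 4733897387384217018371, 14177477149594033856515, 42507065768443289571335, 9452804824264914001925, 14177476305650123313157, 23618751069825580142601⟩) (.leaf ⟨4613375074513190913, 14171711979739605368839, 4728133624148606865410, 23614139383807135989762, 6918654927598276614, 18892927229542136827909, 33064636393844679651333⟩)) (.leaf ⟨18896383460506272292869, 14175172714097226563584, 9451652465572922294278, 42503606159229677752325, 42508217845454263566344, 33066942518466376142855, 23623363881194225692672⟩)))))))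

def reps : Tree (M7) :=
  (.node (.node (.node (.node reps0 reps8) (.node reps4 reps12)) (.node (.node reps2 reps10) (.node reps6 reps14))) (.node (.node (.node reps1 reps9) (.node reps5 reps13)) (.node (.node reps3 reps11) (.node reps7 reps15))))

def borel0 : Tree (M7) :=
  (.node (.node (.node (.leaf ⟨1, 4096, 16777216, 68719476736, 281474976710656, 1152921504606846976, 4722366482869645213696⟩) (.leaf ⟨18900995146730941988871, 28338811991298528010249, 9453958308444697038850, 28334200586067849019398, 14171712823752134782981, 18897537226710670397446, 33065788752124471951370⟩)) (.node (.leaf ⟨18897537789798146650121, 33062331395604077367305, 33062332239754079256585, 14169407262080509186055, 14175169899828378353670, 3460453775997685767, 47228276514989891665923⟩) (.leaf ⟨18900997680280543182856, 18891772619462597947401, 14176322820714627375112, 9456263870185109200905, 37781239676291363405830, 14172864900625736949769, 9456264714266324520961⟩))) (.node (.node (.leaf ⟨47230583765511327223815, 18895232509876358897668, 28336505303658192211976, 4612811918418157571, 3460453776115126272, 37787003439389450715146,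 33061177910943224455172⟩) (.leaf ⟨14169407825305390817281, 33064636956657227694090, 3461016588545712130, 37788156361443746287618, 47230584609730182782982, 47235196295542451744771, 14174017540724136873994⟩)) (.leaf ⟨47225972923574282883081, 42504759362415453282308, 4729286263903409414146, 23621058601615984988168, 4732744747217097601028, 37778934678188132958216, 9449344652376327348227⟩)))

def borel1 : Tree (M7) :=
  (.node (.node (.node (.leaf ⟨11530059608437567488, 23611832414348343509001, 11530059677157040128, 11529778202180333568, 3461579950782455808, 42501298345826890809351, 33056565380087667490821⟩) (.leaf ⟨28338812553767361191941, 42511675484068177264642, 47231737531028513775620, 23617597022214857703427, 18897536663485939724295, 28343424239923277893636, 42508217001098120040454⟩)) (.node (.leaf ⟨33061177066655766847496, 42511675765543086862341, 18892926384979801292807, 33064635831032098095104, 23618751351369259565057, 37784697878130058067968, 23619905117298863652868⟩) (.leaf ⟨28343424521535643189253, 28342271036943593664518, 6918373933691469831, 18894079306690549800970, 18896384868568400949253,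 37782391472308329938949, 37778932707725756354564⟩))) (.node (.node (.leaf ⟨18889466212953675026440, 18889467057928310632458, 28341116989264285933572, 42505912565532375138312, 37784697877855180177408, 33062331676941497700356, 23621057194241067880455⟩) (.leaf ⟨23612987587790203019267, 42505912002857266061314, 9450497854943493369865, 37789310408504763224065, 9453957463744805076992, 47227123593760145948676, 14174018948648759500800⟩)) (.leaf ⟨23622209552727068942343, 4731590699537588592647, 23623364163356430708746, 42511675202387025342472, 18892926667004584161287, 37784697315042682470402, 14169407262080475627524⟩)))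

def borel2 : Tree (M7) :=
  (.node (.node (.node (.leaf ⟨28342269629431338250249, 9451651621079172022275, 4729284856734684307456, 28337658788112718917641, 10379108909838274561, 37790461922909263794177, 23621058319934883364866⟩) (.leaf ⟨10377419578807431178, 47232890171676619198465, 42511675765268208959498, 4725827499870641987592, 33068094595408529993736, 23617597866571118678018, 37781240521334768816131⟩)) (.node (.leaf ⟨14169407543967886610442, 23612986180415269130243, 42504758236927762628608, 42505911158432335958018, 47227123593760095629316, 9450500388218401226761, 37784698440873903431680⟩) (.leaf ⟨18898689303652975259657, 37785850236547272568842, 28335352663353717706756, 28344576598134384250883, 33062331114129016782852, 9448194264215096168449, 18897538915972948205576⟩))) (.node (.node (.leaf ⟨42512827561079117725706, 47224820565500615471107, 33063485161258736431106, 42501298346445416448010, 10376856628921135105, 33061179037118109843464, 42510524251757011275784⟩) (.leaf ⟨37780085910567900979209, 47234043374381408743427, 37778933271019391049734, 47235196577017361342466, 42511675765611823116288,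 33060025552594712682504, 18891773745225049079812⟩)) (.leaf ⟨37783543830588071886855, 9452803979427784441859, 14176325072445620895754, 9455112074442970247170, 28343424802804394397699, 42504758799740411342853, 47234043937606206529541⟩)))

def borel3 : Tree (M7) :=
  (.node (.node (.node (.leaf ⟨47232889045707992862727, 42503606722179614388227, 14172864901175442407426, 23614140509569704566788, 23612985899490132111361, 18898690430102688264196, 37781239676909821898756⟩) (.leaf ⟨37778934114756975435778, 9444733810164220563464, 47223667643446219276289, 8070450669770768384, 6917529508710973440, 37778934396231952146435, 10376293953895923712⟩)) (.node (.leaf ⟨8071013482201350149, 14167099449296264663040, 9444732966426619445248, 4722366483419568840704, 6919499352478056450, 10377982391321886727, 37778931863025914753024⟩) (.leaf ⟨23617598429864770146308, 9447040216673277710338, 47228279048539526410245, 23614138539450925326342, 9450499825199594082314, 42507063797843624992770, 42502452393643788492805⟩))) (.node (.node (.leaf ⟨37783545519300509978632, 28341119241270258061319, 37787003721414116114437, 28341118115439137812484,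 28345729801594937032709, 37785851081384519565320, 37784697596723817644032⟩) (.leaf ⟨23619905116817793773573, 47223665955008810074112, 42502452675324839747590, 23611834103472964251654, 23616445226885102723075, 33065790722999131848704, 42507063516574722826247⟩)) (.leaf ⟨9445886732287470473221, 42504758236515479363591, 14169406136318074822664, 3461579469863550977, 23622210960308027002882, 18896383460712413958152, 14169408106574192332805⟩)))

def borel4 : Tree (M7) :=
  (.node (.node (.node (.leaf ⟨18895230820614114676741, 37787004002614181371913, 5764608004204810246, 18896385431449601331208, 18898690429552865333252, 14167099449021319614471, 4722367327844398284804⟩) (.leaf ⟨33056567913843511037961, 37780087599349024989192, 8071576638363549697, 37783545801462631124997, 47225973205324187840521, 33058871223646653775881, 18899842225432376156168⟩)) (.node (.leaf ⟨37780085347961511354373, 4611686705655717896, 47228276515402208518149, 9449345215394899558407, 47232891016032964091913, 18889467057928260304904, 23621058038803453734913⟩) (.leaf ⟨18889467057584662933507, 14178631197479701323781, 47228276514783733256198,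 47232891015689366671362, 23621058038322417385482, 8070451219593699336, 42509371330321191010311⟩))) (.node (.node (.leaf ⟨33068097410020891688963, 14167101700683778261000, 33068096284189771440128, 33063485723865092468738, 28342271318624829472776, 14177475742700287328260, 14176325354470336643080⟩) (.leaf ⟨4724672607972445167621, 9455112074374250790921, 14175172714028507086855, 28343424803010552799240, 9452803979771381837832, 42504758799396813946886, 37782391471896080171018⟩)) (.leaf ⟨28342270755743612289028, 37788156360962659598338, 23612987024840249585667, 4731592388181374291973, 11530060158344400905, 28344576035802872561664, 42505912847144857919496⟩)))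

def borel5 : Tree (M7) :=
  (.node (.node (.node (.leaf ⟨37781237706516181581828, 37782391190970691502088, 18890619134595687251971, 37778932707657003335688, 18890620260564246470656, 18895230820476608589826, 23616445226816383254536⟩) (.leaf ⟨28335353789390996389894, 23618751351438012596229, 28339964349509567262728, 33064635830963462504451, 18895232791076306702339, 4729285982634557591557, 23619904554005346385928⟩)) (.node (.leaf ⟨42503604752129621786634, 9447040498148136988674, 28345729238782372241416, 28344575472509271445509, 23617597584889966764041, 18896385149768550064129, 47234042811293966049281⟩) (.leaf ⟨37784697315111418744838, 5766015447723950084, 37787002313901860732933, 18896384586749810089989, 28342271599549983248391, 33063484316971161378817, 23612986462233876779014⟩))) (.node (.node (.leaf ⟨33065791567492664025094, 28337659632262787899402, 28339965756540819869698, 37787003439526822563845, 9455112074717747478536, 47225972923574316466183, 14167101982502318792712⟩) (.leaf ⟨42504757392159218343946, 14176324791176936833026, 23615292023905485623297, 14168254340850847330309, 9449346622563641487361,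 11530341014745153539, 18889466494634776604681⟩)) (.leaf ⟨18895231947063810875397, 23621057757122368925696, 18896385149699763474436, 23618752758469349101575, 14170559620910006951944, 3460453638659403784, 37788156361168801259526⟩)))

def borel6 : Tree (M7) :=
  (.node (.node (.node (.leaf ⟨18897537508460592140293, 18890620260701752533001, 18894079025146903928837, 37785849955553348960258, 14167100574989878845441, 2252212214460421, 4725826373558250536964⟩) (.leaf ⟨9455110666861810843650, 28335353789184804409352, 23622208989639643009030, 23618752477337885904905, 33063484598377368264714, 4732744465467276566538, 9447039372042189176833⟩)) (.node (.leaf ⟨11530060089541021706, 14175172151147239587847, 37782391472170840657920, 14167100574715135143945, 9450497573468600573953, 18891772619462530826243, 14168254903388450365445⟩) (.leaf ⟨23615291460955498639370, 47223667643652528685061, 33060026115475980177412, 9224216668010459145, 42504757110615555735555, 4724673733253792821258, 14171711697783609110528⟩))) (.node (.node (.leaf ⟨37780085347755352948738, 9447039653654571253763, 18895231946582808109064, 4723520811886742351874,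 33068096566077031464967, 33066942518603697651716, 33060026959351154479107⟩) (.leaf ⟨4732745309960775147527, 14175172713891068133384, 37788155798631198265350, 4723520249074211094533, 37790463330009370071042, 42507064360931000594442, 47223665392127475449859⟩)) (.leaf ⟨18894079587890631843850, 47231737249691009568769, 47228279048676982165509, 18889468465234407616514, 4732744747079658676226, 33056565380568703864839, 18891771775106269855751⟩)))

def borel7 : Tree (M7) :=
  (.node (.node (.node (.leaf ⟨18894077899246896427015, 14175170744253308481537, 37789310690323236671488, 42512830376035110359048, 33061177629605703487491, 9453956619388644761608, 37783544956694120402954⟩) (.leaf ⟨14177478556900315369474, 47232890452670660243461, 33066944488928668844036, 9451650494835751682053, 14167101982227457646599, 28342269911112439853060, 28337658225094079586312⟩)) (.node (.leaf ⟨23621056349403887988741, 23622208989914453811201, 33058872068002814115850, 14170560746603772133385, 47223667081183510937603, 9451653028247913902081, 14171712542002296950786⟩) (.leaf ⟨42508216719416984866826, 9447040216329680363529, 9451652746635515011074,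 47228279048195929047046, 42502452393575069011974, 23614138538969889017861, 28341118115713881477124⟩))) (.node (.node (.leaf ⟨28343424802598252711945, 47228277922708339056642, 9451652746773071405058, 42502451830418839719942, 23621056068066366988297, 23618752476788264288261, 18891774026631339855882⟩) (.leaf ⟨47229431969906627190793, 23616444663660237840385, 37790463611415627325441, 23614139101919859216385, 37789308438111173234697, 9451652746635565350920, 18895231946995007528966⟩)) (.leaf ⟨18896384586818529529862, 18895232228332612378625, 37784697315455016132613, 37787002313833141268486, 28342271599549983252484, 28345730083069896970246, 6919218427391393796⟩)))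

def borel8 : Tree (M7) :=
  (.node (.node (.node (.leaf ⟨9445886169337349287945, 10378827297389051907, 37783545801119151165445, 18897538915766756204547, 42504759925365322825729, 37790463611484279693319, 23621055786797414490118⟩) (.leaf ⟨37788155517156221530122, 4722368453469410439172, 23621056912834911281157, 42512828124441388023811, 42509369359309142532096, 37783546082250480160778, 42509368796977647624201⟩)) (.node (.leaf ⟨4733898513284056776706, 37790461641571809906696, 37789308719586116382721, 23615292868399168757763, 9451652184235283869701, 9455110948543080173577, 9445887857912415543298⟩) (.leaf ⟨4732744465879576645640, 23618752195313287573508, 4730439467226556821508, 14168252370663315111943, 42504759081077781311497, 47229429999856768786442, 9448193982190413955076⟩))) (.node (.node (.leaf ⟨42507063235099729334279, 18899843350920100343808, 4732743058023639961604, 42509369922258961711113, 33061178192624326053888, 47235196014342302638084, 23612985617808913108994⟩) (.leaf ⟨18900995990949713702916, 9455110948817941336072, 3460453844884951050, 47227124156366518751242, 37785852206940879339525,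 10377138447595900928, 9455110385661863002114⟩)) (.leaf ⟨47230584610073780195333, 18894079587959351312394, 47235196295542451765256, 3461016794704138249, 14174017541205173248001, 14170560183997466447874, 37789308719860943953921⟩)))

def borel9 : Tree (M7) :=
  (.node (.node (.node (.leaf ⟨23619902864880474034176, 2814955959091203, 42507062953349841186816, 2814955975868418, 2814887256391683, 845112292671498, 33066941673628978139136⟩) (.leaf ⟨3458764513837350914, 11529215046202691594, 33056565943381067300864, 28334200867680147210240, 10376293541629407240, 42501300035157703524352, 9223372037022556168⟩)) (.node (.leaf ⟨23614141072519607623684, 28336505021839550976001, 42510521999476178059273, 28335352382291041091593, 18892926947861085573125, 4728132497905069072389, 42511675202661987131397⟩) (.leaf ⟨4726979576675390480390, 23621057193966257078278, 28343424239579646951431, 18896385431380814737414, 28341119241476433268741, 18889467620740892229636, 28338812272361137524737⟩))) (.node (.node (.leaf ⟨14168252652207044833281, 4725825528927312949251, 14168253214607208910851, 14170558494803908104201, 42504757954834327408641,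 4732743621042212188161, 4723521937855251222531⟩) (.leaf ⟨47232888201214393593866, 37782392598414378438656, 28336505303864249982979, 14175170744047183630339, 42503605596417213636616, 23615293430936889217025, 33061177629537067900935⟩)) (.leaf ⟨18894077617703284117512, 23617598711339629428746, 9455110385661846257669, 37785851081109641625600, 18898690711027858817028, 23616444945410159558663, 18897536382354593951744⟩)))

def borel10 : Tree (M7) :=
  (.node (.node (.node (.leaf ⟨33065791567011678015491, 2306968977991016455, 42511676047293042167809, 47235194606898649268227, 42501300598313815412740, 33064638082969401073664, 42501299753889053028356⟩) (.leaf ⟨4731592388662410641413, 33061179880855744552962, 23612987587790219780098, 42510523970350837964808, 37783546363862795157506, 37778934115031920427009, 23616446915254027288584⟩)) (.node (.leaf ⟨37783545519918951727106, 47232889326976895037449, 47232889327182986346504, 14169405573161929416714, 14177476587262673182729, 33061178192074637320195, 9225905930254696453⟩) (.leaf ⟨33064636393707240689674, 18899845040250996936714, 10378263866416046084, 42509370204215142522881,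 1970943463288839, 9444735499014147960836, 18897536663760851214340⟩))) (.node (.node (.leaf ⟨4723521374974117945349, 23612986461890195517449, 42505910032463827042308, 42502451830762487431169, 33061177066106011029513, 18894080150771949633543, 47231736405403652603914⟩) (.leaf ⟨37783545800912841768963, 18898691555521441333248, 9225343049054326790, 37788157486793880518658, 42501300316838939361290, 37789310127235944939530, 14170559902453770235911⟩)) (.leaf ⟨14171713105089773187074, 4731590981012733034504, 14169407544105308807170, 9225905449134485509, 47227125563878790934530, 14177478556968967741441, 33064637801013387993096⟩)))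

def borel11 : Tree (M7) :=
  (.node (.node (.node (.leaf ⟨14176325636014133501956, 28341116989676535697418, 9455110666724388655106, 9456263588503990857733, 42512828124372601409541, 37780087318148926152713, 4724672889378618482694⟩) (.leaf ⟨42512828124097807400961, 33061177629056048300036, 47224818876375994765318, 42509368796496560914436, 18894077617497075359746, 47228277641095839498250, 23623362755912844472329⟩)) (.node (.leaf ⟨8071576432238698504, 14171712260527404105729, 47230584046986421346311, 23622209271114636496899, 3460172301088088064, 33061179318318225444868, 18895231665451311321092⟩) (.leaf ⟨33056566224924864151557, 9449346340813837189127, 14178629789554978095108, 18898691837065254952962, 9452804542583845961736, 23621056912285004464135, 42509370204077686824965⟩))) (.node (.node (.leaf ⟨18892927511360744476680, 9444735217607823626247, 2307813402803736583, 18894079869503047507968, 42511676328767934963713, 42501300035363878764548, 47235196577223637217283⟩) (.leaf ⟨9224779686700150792, 37788156361374959685637, 33063484598652279742469, 23621057757053649436672, 18896385149768482988039, 23618752758538068582404,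 37788156924256327852040⟩)) (.leaf ⟨28344576598477847437316, 9447039090704601075718, 14170558495216241745926, 37785851644128230666249, 9455109822574386749450, 9445888702681010167816, 4731592388318762917891⟩)))

def borel12 : Tree (M7) :=
  (.node (.node (.node (.leaf ⟨9444734373801536552964, 10377419510238973959, 47235196577567234621448, 33064636675250970468352, 18892927510879708143619, 42511676328424337608714, 9444735218226298888196⟩) (.leaf ⟨37785850799909526056968, 37783544674875596627976, 14171712542208472121350, 23612987024977671766022, 37784698441148697423872, 23617599837102164430852, 28341117833964010094596⟩)) (.node (.leaf ⟨14178629226948655611911, 3459045988948262914, 9452806231639814336512, 33060024989301312847876, 9450499825268330373129, 5767422341655064585, 47234043374106581151745⟩) (.leaf ⟨23615293712824166027266, 18891773463475093778440, 37783546082593993674755, 42502454082150034591753, 42505910876338951045127, 37783546082387952697348, 8071295163504304136⟩))) (.node (.node (.leaf ⟨14175171588472231202825, 18895231665520064352259, 37778931863300876574727, 18896386275393511919622,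 6917529508811657221, 18892926666454761230343, 47223665673327658168324⟩) (.leaf ⟨37789310690117027921929, 47223665673465046802441, 4733897949853016666122, 28343423677316854718471, 2533824613359625, 42503604752060969390080, 18897539197310351736839⟩)) (.leaf ⟨23617597866433797173255, 47231737812709716017156, 14178628664204776734724, 42510522844175885414402, 47230584891686212608001, 42504759362759050686468, 47234042811225263317000⟩)))

def borel13 : Tree (M7) :=
  (.node (.node (.node (.leaf ⟨47225971235205509292037, 23618750506807007924225, 9445887576506225410053, 37790461641296831352841, 37788158050362342793223, 9447040498285592731650, 9456262744285235908614⟩) (.leaf ⟨18895232228263825805322, 4732744184335779799041, 9447041342435661742090, 42503605596417079390210, 28335352945240994500611, 28336505021977040265222, 28339966038702924242953⟩)) (.node (.leaf ⟨37790461922496896573443, 14170561028422446878722, 9453957182269845184513, 47225971516336771203073, 47235196577223519805443, 14168255185000882778122, 4725828062820461195272⟩) (.leaf ⟨37787004565632854302726, 28343422269598340227078, 33064636393844696440835,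 42502454082218619842569, 42510524532888440958986, 2308376765124325384, 14178629227154814033927⟩))) (.node (.node (.leaf ⟨37783545519644090585090, 47231735842728543547393, 33060026396813635379209, 28341117833689249619968, 9447041342023462322186, 14175169899553651458057, 28341117270807998930947⟩) (.leaf ⟨4723521937992774066186, 47225971235274195218440, 9455109822574353190915, 14174017259386582368261, 28341116989264252395522, 42508217282847974629378, 47228277922502180610057⟩)) (.leaf ⟨33057720553598145789962, 47229432251587896578051, 37789310689910869479427, 33061177911012078161927, 9453957745357220769792, 18892925259423424720904, 33062332521091600252938⟩)))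

def borel14 : Tree (M7) :=
  (.node (.node (.node (.leaf ⟨47231737812572277084165, 18889468465028249186306, 47234042248481535430665, 18889465931959768195076, 18899842225157481447431, 33061178192074637316097, 47228278485658342805505⟩) (.leaf ⟨37778934396575599828996, 28338813116854736797700, 28343424802873231282184, 37789310971248423997449, 47227124438253778780165, 18899845040319582208007, 42508215874923251400710⟩)) (.leaf ⟨9449344652376260214791, 42512830094422627610625, 18894077617497125720066, 33061179599380767834116, 4730438059576694685697, 4733896824296807895045, 23623363600337623597065⟩)) (.node (.node (.leaf ⟨47227125282197605490689, 4725825810951995162626, 47231737249828448530440, 9444733810714043490310, 9453958589850971029513, 28345729801663606190082, 14178631478954527059971⟩) (.leaf ⟨18894077617909425799176, 18895231383701423153155, 4729285138209577132037, 23619904272530285789192, 23623363600131532275717, 28339964912184575672326, 28339965756884366950408⟩)) (.leaf ⟨14176323947095486644233, 28343423114298165043201, 37790463048740535042053, 42509370767164978511873, 11531186058234462216,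 18889468465303227740162, 9453956619594736111626⟩)))

def borel15 : Tree (M7) :=
  (.node (.node (.node (.leaf ⟨9451653028385336090628, 37790462485859284324358, 9447041623910755893249, 23614140790701050327045, 37781238551009948618761, 9451651057854357479430, 47225972923849110487042⟩) (.leaf ⟨4611686087297867779, 47228276514783649341446, 42509369359996236595207, 47232888482414492426242, 33056566506537195958280, 28337659914150064701441, 14178629227154746937349⟩)) (.leaf ⟨28336506711170481131525, 4729285701365688979458, 47225972079286858846216, 37790463611621718650888, 9451653309654238240770, 47225972924192691085314, 9447041061098107195402⟩)) (.node (.node (.leaf ⟨18891773745362555138055, 37778933833488207486986, 14175172432759722344456, 9447041623567158489094, 33060026115063763972099, 9450498418305897889801, 14176323947164256440325⟩) (.leaf ⟨23614141072656996278282, 18891772619187669725194, 14176323383801969393666, 47223665673808627384328, 9450498136418470080522, 37783544956350606876674, 28343422832891924594693⟩)) (.leaf ⟨14171711416102457208840, 14176323384283089637381, 47224818594900900577286,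 14178630915660993007625, 42508217564254181556234, 47223667362246153994243, 47234043655787582070788⟩)))

def borel : Tree (M7) :=
  (.node (.node (.node (.node borel0 borel8) (.node borel4 borel12)) (.node (.node borel2 borel10) (.node borel6 borel14))) (.node (.node (.node borel1 borel9) (.node borel5 borel13)) (.node (.node borel3 borel11) (.node borel7 borel15))))

def schX0 : Tree (ℕ × ℕ) :=
  (.node (.node (.node (.node (.node (.node (.node (.leaf (1, 0)) (.leaf (1358, 0))) (.node (.leaf (793, 0)) (.leaf (1556, 18)))) (.node (.node (.leaf (436, 0)) (.leaf (1418, 28))) (.leaf (1108, 0)))) (.node (.node (.node (.leaf (233, 0)) (.leaf (1054, 60))) (.leaf (961, 0))) (.node (.node (.leaf (531, 94)) (.leaf (1064, 24))) (.leaf (1165, 24))))) (.node (.node (.node (.node (.leaf (122, 0)) (.leaf (1354, 80))) (.leaf (881, 0))) (.node (.node (.leaf (535, 0)) (.leaf (493, 62))) (.leaf (1015, 101)))) (.node (.node (.node (.leaf (338, 0)) (.leaf (1287, 45))) (.leaf (1037, 0))) (.node (.node (.leaf (661, 102)) (.leaf (479, 33))) (.leaf (748, 5)))))) (.node (.node (.node (.node (.node (.leaf (61, 0)) (.leaf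 (266, 56))) (.node (.leaf (834, 0)) (.leaf (1566, 8)))) (.node (.node (.leaf (486, 0)) (.leaf (1095, 40))) (.leaf (1144, 0)))) (.node (.node (.node (.leaf (2, 0)) (.leaf (541, 31))) (.leaf (996, 0))) (.node (.node (.leaf (146, 25)) (.leaf (837, 104))) (.leaf (1273, 0))))) (.node (.node (.node (.node (.leaf (176, 0)) (.leaf (1424, 0))) (.leaf (138, 103))) (.node (.node (.leaf (579, 0)) (.leaf (382, 74))) (.leaf (1219, 0)))) (.node (.node (.node (.leaf (387, 0)) (.leaf (1348, 7))) (.leaf (582, 83))) (.node (.node (.leaf (749, 0)) (.leaf (1232, 42))) (.leaf (1169, 87))))))) (.node (.node (.node (.node (.node (.node (.leaf (31, 0)) (.leaf (726, 55))) (.node (.leaf (383, 0)) (.leaf (815, 78)))) (.node (.node (.leaf (462, 0)) (.leaf (1498, 47))) (.leaf (1126, 0)))) (.node (.node (.node (.leaf (260, 0)) (.leaf (889, 91))) (.leaf (978, 0))) (.node (.node (.leaf (646, 0)) (.leaf (1553, 12))) (.leaf (1260, 0))))) (.node (.node (.node (.node (.leaf (149, 0)) (.leaf (1009, 86))) (.leaf (823, 20))) (.node (.node (.leaf (560, 0)) (.leaf (1546, 0))) (.leaf (586, 89)))) (.node (.node (.node (.leaf (364, 0))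 (.leaf (1488, 0))) (.leaf (1052, 0))) (.node (.node (.leaf (725, 0)) (.leaf (1364, 61))) (.leaf (1318, 0)))))) (.node (.node (.node (.node (.node (.leaf (91, 0)) (.leaf (1310, 83))) (.node (.leaf (863, 0)) (.leaf (1386, 23)))) (.node (.node (.leaf (511, 0)) (.leaf (912, 55))) (.leaf (1166, 0)))) (.node (.node (.node (.leaf (312, 0)) (.leaf (1471, 0))) (.leaf (234, 18))) (.node (.node (.leaf (687, 0)) (.leaf (705, 34))) (.leaf (264, 67))))) (.node (.node (.node (.node (.leaf (206, 0)) (.leaf (1434, 0))) (.leaf (938, 0))) (.node (.node (.leaf (601, 0)) (.leaf (1560, 0))) (.leaf (964, 52)))) (.node (.node (.node (.leaf (410, 0)) (.leaf (1504, 0))) (.leaf (1092, 0))) (.node (.node (.leaf (771, 0)) (.leaf (1233, 29))) (.leaf (566, 42))))))))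

def schX1 : Tree (ℕ × ℕ) :=
  (.node (.node (.node (.node (.node (.node (.node (.leaf (3, 0)) (.leaf (1359, 0))) (.node (.leaf (795, 0)) (.leaf (839, 106)))) (.node (.node (.leaf (438, 0)) (.leaf (1183, 83))) (.leaf (1109, 0)))) (.node (.node (.node (.leaf (230, 51)) (.leaf (1445, 0))) (.leaf (962, 0))) (.node (.node (.leaf (622, 0)) (.leaf (422, 60))) (.leaf (376, 60))))) (.node (.node (.node (.node (.leaf (124, 0)) (.leaf (1402, 0))) (.leaf (883, 0))) (.node (.node (.leaf (536, 0)) (.leaf (1541, 0))) (.leaf (454, 57)))) (.node (.node (.node (.leaf (340, 0)) (.leaf (1044, 89))) (.leaf (927, 90))) (.node (.node (.leaf (706, 0)) (.leaf (1028, 44))) (.leaf (1303, 0)))))) (.node (.node (.node (.node (.node (.leaf (63, 0)) (.leaf (1017, 8))) (.node (.leaf (836, 0)) (.leaf (1245, 14)))) (.node (.node (.leaf (488, 0)) (.leaf (1306, 40))) (.leaf (1146, 0)))) (.node (.node (.node (.leaf (30, 45)) (.leaf (1463, 0))) (.leaf (998, 0))) (.node (.node (.leaf (666, 0)) (.leaf (1283, 78))) (.leaf (1274, 0))))) (.node (.node (.node (.node (.leaf (178, 0)) (.leaf (1133, 25))) (.leaf (919, 0))) (.node (.node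 (.leaf (581, 0)) (.leaf (1325, 24))) (.leaf (228, 38)))) (.node (.node (.node (.leaf (389, 0)) (.leaf (487, 6))) (.leaf (289, 76))) (.node (.node (.leaf (750, 0)) (.leaf (744, 23))) (.leaf (784, 74))))))) (.node (.node (.node (.node (.node (.node (.leaf (33, 0)) (.leaf (1074, 63))) (.node (.leaf (818, 0)) (.leaf (1580, 36)))) (.node (.node (.leaf (464, 0)) (.leaf (1524, 0))) (.leaf (1128, 0)))) (.node (.node (.node (.leaf (50, 80)) (.leaf (937, 57))) (.leaf (979, 0))) (.node (.node (.leaf (648, 0)) (.leaf (623, 54))) (.leaf (1262, 0))))) (.node (.node (.node (.node (.leaf (151, 0)) (.leaf (131, 108))) (.leaf (899, 0))) (.node (.node (.leaf (562, 0)) (.leaf (255, 96))) (.leaf (1202, 0)))) (.node (.node (.node (.leaf (365, 0)) (.leaf (402, 75))) (.leaf (407, 102))) (.node (.node (.leaf (596, 30)) (.leaf (1382, 108))) (.leaf (1319, 0)))))) (.node (.node (.node (.node (.node (.leaf (93, 0)) (.leaf (283, 28))) (.node (.leaf (865, 0)) (.leaf (1410, 82)))) (.node (.node (.leaf (513, 0)) (.leaf (1478, 44))) (.leaf (1167, 0)))) (.node (.node (.node (.leaf (314, 0)) (.leaf (1415, 81))) (.leaf (1016, 0)))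 (.node (.node (.leaf (203, 83)) (.leaf (300, 106))) (.leaf (1226, 100))))) (.node (.node (.node (.node (.leaf (208, 0)) (.leaf (1435, 0))) (.leaf (900, 49))) (.node (.node (.leaf (603, 0)) (.leaf (870, 1))) (.leaf (1234, 0)))) (.node (.node (.node (.leaf (412, 0)) (.leaf (619, 0))) (.leaf (1048, 19))) (.node (.node (.leaf (773, 0)) (.leaf (1022, 19))) (.leaf (1102, 67))))))))

def schX2 : Tree (ℕ × ℕ) :=
  (.node (.node (.node (.node (.node (.node (.node (.leaf (5, 0)) (.leaf (429, 94))) (.node (.leaf (651, 45)) (.leaf (1337, 75)))) (.node (.node (.leaf (440, 0)) (.leaf (484, 21))) (.leaf (1111, 0)))) (.node (.node (.node (.leaf (236, 0)) (.leaf (928, 80))) (.leaf (214, 44))) (.node (.node (.leaf (624, 0)) (.leaf (604, 100))) (.leaf (425, 0))))) (.node (.node (.node (.node (.leaf (126, 0)) (.leaf (1404, 0))) (.leaf (885, 0))) (.node (.node (.leaf (378, 25)) (.leaf (1351, 2))) (.leaf (860, 65)))) (.node (.node (.node (.leaf (342, 0)) (.leaf (953, 38))) (.leaf (955, 9))) (.node (.node (.leaf (708, 0)) (.leaf (1090, 54))) (.leaf (341, 98)))))) (.node (.node (.node (.node (.node (.leaf (65, 0)) (.leaf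 (1383, 0))) (.node (.leaf (838, 0)) (.leaf (854, 45)))) (.node (.node (.leaf (212, 5)) (.leaf (1531, 0))) (.leaf (625, 76)))) (.node (.node (.node (.leaf (287, 0)) (.leaf (1181, 57))) (.leaf (1000, 0))) (.node (.node (.leaf (667, 0)) (.leaf (791, 91))) (.leaf (1114, 109))))) (.node (.node (.node (.node (.leaf (180, 0)) (.leaf (1393, 95))) (.leaf (921, 0))) (.node (.node (.leaf (302, 0)) (.leaf (1551, 0))) (.leaf (533, 38)))) (.node (.node (.node (.leaf (390, 0)) (.leaf (1495, 71))) (.leaf (22, 0))) (.node (.node (.leaf (752, 0)) (.leaf (311, 16))) (.leaf (1327, 0))))))) (.node (.node (.node (.node (.node (.node (.leaf (35, 0)) (.leaf (450, 87))) (.node (.leaf (244, 38)) (.leaf (645, 44)))) (.node (.node (.leaf (466, 0)) (.leaf (1525, 0))) (.leaf (1129, 0)))) (.node (.node (.node (.leaf (263, 0)) (.leaf (1315, 11))) (.leaf (980, 0))) (.node (.node (.leaf (650, 0)) (.leaf (1510, 4))) (.leaf (1148, 31))))) (.node (.node (.node (.node (.leaf (153, 0)) (.leaf (1391, 86))) (.leaf (778, 71))) (.node (.node (.leaf (563, 0)) (.leaf (1380, 86))) (.leaf (1204, 0)))) (.node (.node (.node (.leaf (366, 0))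 (.leaf (1489, 0))) (.leaf (1055, 0))) (.node (.node (.leaf (727, 0)) (.leaf (1535, 75))) (.leaf (893, 40)))))) (.node (.node (.node (.node (.node (.leaf (95, 0)) (.leaf (1098, 21))) (.node (.leaf (755, 45)) (.leaf (1585, 108)))) (.node (.node (.leaf (443, 30)) (.leaf (575, 30))) (.leaf (951, 22)))) (.node (.node (.node (.leaf (96, 75)) (.leaf (1086, 33))) (.leaf (20, 0))) (.node (.node (.leaf (690, 0)) (.leaf (1002, 59))) (.leaf (787, 45))))) (.node (.node (.node (.node (.leaf (210, 0)) (.leaf (446, 84))) (.leaf (940, 0))) (.node (.node (.leaf (598, 38)) (.leaf (617, 95))) (.leaf (1236, 0)))) (.node (.node (.node (.leaf (414, 0)) (.leaf (1439, 40))) (.leaf (1093, 0))) (.node (.node (.leaf (775, 0)) (.leaf (1589, 61))) (.leaf (495, 62))))))))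

def schX3 : Tree (ℕ × ℕ) :=
  (.node (.node (.node (.node (.node (.node (.node (.leaf (7, 0)) (.leaf (1193, 95))) (.node (.leaf (797, 0)) (.leaf (1141, 16)))) (.node (.node (.leaf (441, 0)) (.leaf (1518, 0))) (.leaf (680, 48)))) (.node (.node (.node (.leaf (238, 0)) (.leaf (1268, 9))) (.leaf (235, 18))) (.node (.node (.leaf (626, 0)) (.leaf (895, 85))) (.leaf (223, 37))))) (.node (.node (.node (.node (.leaf (128, 0)) (.leaf (1088, 94))) (.leaf (886, 0))) (.node (.node (.leaf (119, 25)) (.leaf (1542, 0))) (.leaf (239, 64)))) (.node (.node (.node (.leaf (344, 0)) (.leaf (588, 45))) (.leaf (395, 80))) (.node (.node (.leaf (627, 73)) (.leaf (655, 34))) (.leaf (1304, 0)))))) (.node (.node (.node (.node (.node (.leaf (67, 0)) (.leaf (1333, 57))) (.node (.leaf (840, 0)) (.leaf (1592, 31)))) (.node (.node (.leaf (29, 25)) (.leaf (746, 54))) (.leaf (1149, 0)))) (.node (.node (.node (.leaf (288, 0)) (.leaf (901, 1))) (.leaf (1001, 0))) (.node (.node (.leaf (259, 2)) (.leaf (307, 34))) (.leaf (1276, 0))))) (.node (.node (.node (.node (.leaf (76, 30)) (.leaf (1071, 77))) (.leaf (688, 67))) (.node (.node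 (.leaf (291, 102)) (.leaf (1360, 7))) (.leaf (1222, 0)))) (.node (.node (.node (.leaf (392, 0)) (.leaf (504, 73))) (.leaf (1075, 0))) (.node (.node (.leaf (400, 45)) (.leaf (1588, 0))) (.leaf (1328, 0))))))) (.node (.node (.node (.node (.node (.node (.leaf (37, 0)) (.leaf (1289, 84))) (.node (.leaf (40, 16)) (.leaf (1384, 104)))) (.node (.node (.leaf (468, 0)) (.leaf (1221, 1))) (.leaf (710, 89)))) (.node (.node (.node (.leaf (64, 102)) (.leaf (1317, 6))) (.leaf (806, 78))) (.node (.node (.leaf (652, 0)) (.leaf (1270, 78))) (.leaf (106, 25))))) (.node (.node (.node (.node (.leaf (155, 0)) (.leaf (1417, 0))) (.leaf (902, 0))) (.node (.node (.leaf (565, 0)) (.leaf (1355, 31))) (.leaf (1205, 0)))) (.node (.node (.node (.leaf (368, 0)) (.leaf (1490, 0))) (.leaf (1056, 0))) (.node (.node (.leaf (729, 0)) (.leaf (1284, 85))) (.leaf (1320, 0)))))) (.node (.node (.node (.node (.node (.leaf (97, 0)) (.leaf (1213, 1))) (.node (.leaf (14, 0)) (.leaf (1548, 75)))) (.node (.node (.leaf (516, 0)) (.leaf (1501, 58))) (.leaf (615, 25)))) (.node (.node (.node (.leaf (317, 0)) (.leaf (1170, 63))) (.leaf (98, 80)))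 (.node (.node (.leaf (313, 45)) (.leaf (720, 91))) (.leaf (346, 103))))) (.node (.node (.node (.node (.leaf (211, 0)) (.leaf (1309, 27))) (.leaf (942, 0))) (.node (.node (.leaf (606, 0)) (.leaf (1561, 0))) (.leaf (674, 90)))) (.node (.node (.node (.leaf (416, 0)) (.leaf (1186, 79))) (.leaf (590, 0))) (.node (.node (.leaf (776, 0)) (.leaf (1282, 55))) (.leaf (852, 62))))))))

def schX4 : Tree (ℕ × ℕ) :=
  (.node (.node (.node (.node (.node (.node (.node (.leaf (9, 0)) (.leaf (1362, 0))) (.node (.leaf (799, 0)) (.leaf (1591, 17)))) (.node (.node (.leaf (222, 80)) (.leaf (1053, 84))) (.leaf (1066, 48)))) (.node (.node (.node (.leaf (240, 0)) (.leaf (252, 52))) (.leaf (965, 0))) (.node (.node (.leaf (628, 0)) (.leaf (572, 90))) (.leaf (1251, 0))))) (.node (.node (.node (.node (.leaf (130, 0)) (.leaf (668, 2))) (.leaf (888, 0))) (.node (.node (.leaf (538, 0)) (.leaf (827, 63))) (.leaf (1185, 0)))) (.node (.node (.node (.leaf (345, 0)) (.leaf (437, 80))) (.leaf (1040, 0))) (.node (.node (.leaf (711, 0)) (.leaf (1020, 26))) (.leaf (1305, 0)))))) (.node (.node (.node (.node (.node (.leaf (69, 0)) (.leaf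 (1255, 92))) (.node (.leaf (658, 64)) (.leaf (1594, 42)))) (.node (.node (.leaf (491, 0)) (.leaf (891, 40))) (.leaf (1150, 0)))) (.node (.node (.node (.leaf (290, 0)) (.leaf (1465, 0))) (.leaf (1003, 0))) (.node (.node (.leaf (669, 0)) (.leaf (1120, 70))) (.leaf (1278, 0))))) (.node (.node (.node (.node (.leaf (183, 0)) (.leaf (969, 0))) (.leaf (923, 0))) (.node (.node (.leaf (583, 0)) (.leaf (1230, 19))) (.leaf (1223, 0)))) (.node (.node (.node (.leaf (394, 0)) (.leaf (1499, 0))) (.leaf (1077, 0))) (.node (.node (.leaf (754, 0)) (.leaf (1587, 7))) (.leaf (1330, 0))))))) (.node (.node (.node (.node (.node (.node (.leaf (39, 0)) (.leaf (324, 76))) (.node (.leaf (819, 0)) (.leaf (1259, 12)))) (.node (.node (.leaf (470, 0)) (.leaf (561, 102))) (.leaf (977, 39)))) (.node (.node (.node (.leaf (265, 0)) (.leaf (1026, 88))) (.leaf (983, 0))) (.node (.node (.leaf (654, 0)) (.leaf (1528, 98))) (.leaf (1201, 36))))) (.node (.node (.node (.node (.leaf (157, 0)) (.leaf (678, 48))) (.leaf (904, 0))) (.node (.node (.leaf (56, 45)) (.leaf (948, 49))) (.leaf (1206, 0)))) (.node (.node (.node (.leaf (370, 0))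 (.leaf (1161, 75))) (.leaf (1057, 0))) (.node (.node (.leaf (731, 0)) (.leaf (1583, 0))) (.leaf (326, 67)))))) (.node (.node (.node (.node (.node (.leaf (99, 0)) (.leaf (1392, 0))) (.node (.leaf (339, 45)) (.leaf (1211, 28)))) (.node (.node (.leaf (518, 0)) (.leaf (1500, 64))) (.leaf (1168, 0)))) (.node (.node (.node (.leaf (318, 0)) (.leaf (1475, 0))) (.leaf (524, 89))) (.node (.node (.leaf (316, 80)) (.leaf (1547, 54))) (.leaf (917, 78))))) (.node (.node (.node (.node (.leaf (213, 0)) (.leaf (1157, 59))) (.leaf (874, 49))) (.node (.node (.leaf (397, 86)) (.leaf (1297, 54))) (.leaf (164, 25)))) (.node (.node (.node (.leaf (417, 0)) (.leaf (922, 54))) (.leaf (1094, 0))) (.node (.node (.leaf (777, 0)) (.leaf (1530, 63))) (.leaf (1347, 0))))))))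

def schX5 : Tree (ℕ × ℕ) :=
  (.node (.node (.node (.node (.node (.node (.node (.leaf (11, 0)) (.leaf (1363, 0))) (.node (.leaf (801, 0)) (.leaf (762, 55)))) (.node (.node (.leaf (303, 80)) (.leaf (1125, 22))) (.leaf (1113, 0)))) (.node (.node (.node (.leaf (242, 0)) (.leaf (739, 57))) (.leaf (967, 0))) (.node (.node (.leaf (630, 0)) (.leaf (1036, 39))) (.leaf (1253, 0))))) (.node (.node (.node (.node (.leaf (132, 0)) (.leaf (1407, 0))) (.leaf (84, 25))) (.node (.node (.leaf (540, 0)) (.leaf (1431, 102))) (.leaf (1187, 0)))) (.node (.node (.node (.leaf (347, 0)) (.leaf (1474, 40))) (.leaf (1042, 0))) (.node (.node (.leaf (713, 0)) (.leaf (1577, 103))) (.leaf (1073, 107)))))) (.node (.node (.node (.node (.node (.leaf (71, 0)) (.leaf (1385, 0))) (.node (.leaf (842, 0)) (.leaf (1554, 36)))) (.node (.node (.leaf (492, 0)) (.leaf (1421, 14))) (.leaf (1151, 0)))) (.node (.node (.node (.leaf (273, 77)) (.leaf (1466, 0))) (.leaf (1004, 0))) (.node (.node (.leaf (671, 0)) (.leaf (1568, 74))) (.leaf (1279, 0))))) (.node (.node (.node (.node (.leaf (184, 0)) (.leaf (1118, 8))) (.leaf (925, 0))) (.node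 (.node (.leaf (585, 0)) (.leaf (1555, 0))) (.leaf (906, 58)))) (.node (.node (.node (.leaf (396, 0)) (.leaf (800, 105))) (.leaf (319, 14))) (.node (.node (.leaf (100, 57)) (.leaf (1430, 78))) (.leaf (1332, 0))))))) (.node (.node (.node (.node (.node (.node (.leaf (41, 0)) (.leaf (1372, 0))) (.node (.leaf (821, 0)) (.leaf (1444, 50)))) (.node (.node (.leaf (62, 77)) (.leaf (205, 91))) (.leaf (685, 107)))) (.node (.node (.node (.leaf (267, 0)) (.leaf (804, 52))) (.leaf (984, 0))) (.node (.node (.leaf (656, 0)) (.leaf (1572, 2))) (.leaf (1264, 0))))) (.node (.node (.node (.node (.leaf (159, 0)) (.leaf (250, 48))) (.leaf (862, 73))) (.node (.node (.leaf (66, 82)) (.leaf (968, 102))) (.leaf (1110, 0)))) (.node (.node (.node (.leaf (371, 0)) (.leaf (1479, 21))) (.leaf (559, 103))) (.node (.node (.leaf (733, 0)) (.leaf (1534, 42))) (.leaf (413, 12)))))) (.node (.node (.node (.node (.node (.leaf (101, 0)) (.leaf (1286, 49))) (.node (.leaf (490, 20)) (.leaf (1196, 28)))) (.node (.node (.leaf (520, 0)) (.leaf (388, 101))) (.leaf (1039, 30)))) (.node (.node (.node (.leaf (320, 0)) (.leaf (551, 65))) (.leaf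 (1021, 0))) (.node (.node (.leaf (694, 0)) (.leaf (1523, 94))) (.leaf (1292, 0))))) (.node (.node (.node (.node (.leaf (215, 0)) (.leaf (856, 5))) (.leaf (944, 0))) (.node (.node (.leaf (608, 0)) (.leaf (537, 58))) (.leaf (1238, 0)))) (.node (.node (.node (.leaf (419, 0)) (.leaf (1505, 0))) (.leaf (1032, 45))) (.node (.node (.leaf (779, 0)) (.leaf (1426, 59))) (.leaf (1349, 0))))))))

def schX6 : Tree (ℕ × ℕ) :=
  (.node (.node (.node (.node (.node (.node (.node (.leaf (13, 0)) (.leaf (697, 7))) (.node (.leaf (803, 0)) (.leaf (1552, 79)))) (.node (.node (.leaf (445, 0)) (.leaf (1295, 24))) (.leaf (580, 96)))) (.node (.node (.node (.leaf (243, 0)) (.leaf (1447, 0))) (.leaf (156, 25))) (.node (.node (.leaf (631, 0)) (.leaf (1494, 50))) (.leaf (506, 73))))) (.node (.node (.node (.node (.leaf (134, 0)) (.leaf (197, 90))) (.leaf (115, 48))) (.node (.node (.leaf (542, 0)) (.leaf (1457, 100))) (.leaf (1178, 31)))) (.node (.node (.node (.leaf (349, 0)) (.leaf (469, 23))) (.leaf (905, 43))) (.node (.node (.leaf (715, 0)) (.leaf (1512, 83))) (.leaf (154, 108)))))) (.node (.node (.node (.node (.node (.leaf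 (73, 0)) (.leaf (237, 102))) (.node (.leaf (843, 0)) (.leaf (1584, 75)))) (.node (.node (.leaf (494, 0)) (.leaf (1368, 19))) (.leaf (1153, 0)))) (.node (.node (.node (.leaf (293, 0)) (.leaf (1451, 87))) (.leaf (1005, 0))) (.node (.node (.leaf (673, 0)) (.leaf (1011, 73))) (.leaf (361, 93))))) (.node (.node (.node (.node (.leaf (186, 0)) (.leaf (1425, 0))) (.leaf (926, 0))) (.node (.node (.leaf (587, 0)) (.leaf (1514, 39))) (.leaf (359, 50)))) (.node (.node (.node (.leaf (398, 0)) (.leaf (1041, 8))) (.leaf (1080, 0))) (.node (.node (.leaf (34, 57)) (.leaf (647, 78))) (.leaf (1334, 0))))))) (.node (.node (.node (.node (.node (.node (.leaf (43, 0)) (.leaf (420, 2))) (.node (.leaf (639, 0)) (.leaf (1491, 97)))) (.node (.node (.leaf (472, 0)) (.leaf (1218, 66))) (.leaf (321, 19)))) (.node (.node (.node (.leaf (269, 0)) (.leaf (1173, 34))) (.leaf (367, 29))) (.node (.node (.leaf (657, 0)) (.leaf (887, 87))) (.leaf (1107, 35))))) (.node (.node (.node (.node (.leaf (160, 0)) (.leaf (1163, 85))) (.leaf (907, 0))) (.node (.node (.leaf (568, 0)) (.leaf (1387, 34))) (.leaf (1208, 0)))) (.node (.node (.node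 (.leaf (373, 0)) (.leaf (712, 65))) (.leaf (489, 27))) (.node (.node (.leaf (735, 0)) (.leaf (1484, 93))) (.leaf (1280, 95)))))) (.node (.node (.node (.node (.node (.leaf (103, 0)) (.leaf (1121, 95))) (.node (.leaf (167, 60)) (.leaf (716, 94)))) (.node (.node (.leaf (94, 75)) (.leaf (1312, 10))) (.leaf (1171, 0)))) (.node (.node (.node (.leaf (322, 0)) (.leaf (1353, 40))) (.leaf (1023, 0))) (.node (.node (.leaf (696, 0)) (.leaf (1143, 10))) (.leaf (1293, 0))))) (.node (.node (.node (.node (.leaf (217, 0)) (.leaf (1189, 74))) (.leaf (946, 0))) (.node (.node (.leaf (610, 0)) (.leaf (1562, 0))) (.leaf (1239, 0)))) (.node (.node (.node (.leaf (421, 0)) (.leaf (1506, 0))) (.leaf (1096, 0))) (.node (.node (.leaf (781, 0)) (.leaf (1446, 55))) (.leaf (1058, 44))))))))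

def schX7 : Tree (ℕ × ℕ) :=
  (.node (.node (.node (.node (.node (.node (.node (.leaf (15, 0)) (.leaf (1365, 0))) (.node (.leaf (805, 0)) (.leaf (332, 25)))) (.node (.node (.leaf (447, 0)) (.leaf (943, 97))) (.leaf (1115, 0)))) (.node (.node (.node (.leaf (121, 102)) (.leaf (1448, 0))) (.leaf (970, 0))) (.node (.node (.leaf (633, 0)) (.leaf (1567, 0))) (.leaf (292, 73))))) (.node (.node (.node (.node (.leaf (46, 45)) (.leaf (1409, 0))) (.leaf (569, 22))) (.node (.node (.leaf (544, 0)) (.leaf (1007, 33))) (.leaf (1190, 0)))) (.node (.node (.node (.leaf (182, 77)) (.leaf (1345, 50))) (.leaf (363, 78))) (.node (.node (.leaf (717, 0)) (.leaf (523, 56))) (.leaf (876, 80)))))) (.node (.node (.node (.node (.node (.leaf (75, 0)) (.leaf (643, 83))) (.node (.leaf (845, 0)) (.leaf (920, 70)))) (.node (.node (.leaf (496, 0)) (.leaf (92, 51))) (.leaf (1155, 0)))) (.node (.node (.node (.leaf (295, 0)) (.leaf (309, 22))) (.leaf (1006, 0))) (.node (.node (.leaf (675, 0)) (.leaf (432, 97))) (.leaf (1147, 18))))) (.node (.node (.node (.node (.leaf (188, 0)) (.leaf (1139, 107))) (.leaf (691, 105))) (.node (.node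 (.leaf (589, 0)) (.leaf (1416, 14))) (.leaf (605, 25)))) (.node (.node (.node (.leaf (74, 107)) (.leaf (452, 57))) (.leaf (1082, 0))) (.node (.node (.leaf (757, 0)) (.leaf (1220, 41))) (.leaf (1336, 0))))))) (.node (.node (.node (.node (.node (.node (.leaf (45, 0)) (.leaf (1375, 0))) (.node (.leaf (824, 0)) (.leaf (1235, 1)))) (.node (.node (.leaf (474, 0)) (.leaf (1323, 17))) (.leaf (174, 19)))) (.node (.node (.node (.leaf (270, 0)) (.leaf (780, 74))) (.leaf (60, 25))) (.node (.node (.leaf (545, 16)) (.leaf (1172, 76))) (.leaf (686, 67))))) (.node (.node (.node (.node (.leaf (4, 45)) (.leaf (1419, 0))) (.leaf (908, 0))) (.node (.node (.leaf (570, 0)) (.leaf (1321, 35))) (.leaf (1210, 0)))) (.node (.node (.node (.leaf (375, 0)) (.leaf (1156, 90))) (.leaf (1061, 0))) (.node (.node (.leaf (736, 0)) (.leaf (1403, 30))) (.leaf (1322, 0)))))) (.node (.node (.node (.node (.node (.leaf (105, 0)) (.leaf (1179, 78))) (.node (.leaf (869, 0)) (.leaf (768, 75)))) (.node (.node (.leaf (522, 0)) (.leaf (1536, 0))) (.leaf (42, 5)))) (.node (.node (.node (.leaf (323, 0)) (.leaf (1423, 45))) (.leaf (1025, 0)))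 (.node (.node (.leaf (698, 0)) (.leaf (459, 102))) (.leaf (813, 12))))) (.node (.node (.node (.node (.leaf (162, 98)) (.leaf (1438, 0))) (.leaf (947, 0))) (.node (.node (.leaf (611, 0)) (.leaf (1563, 0))) (.leaf (1240, 0)))) (.node (.node (.node (.leaf (423, 0)) (.leaf (770, 55))) (.leaf (1097, 0))) (.node (.node (.leaf (783, 0)) (.leaf (1574, 50))) (.leaf (722, 44))))))))

def schX8 : Tree (ℕ × ℕ) :=
  (.node (.node (.node (.node (.node (.node (.node (.leaf (17, 0)) (.leaf (567, 20))) (.node (.leaf (807, 0)) (.leaf (1539, 75)))) (.node (.node (.leaf (448, 0)) (.leaf (723, 71))) (.leaf (1116, 0)))) (.node (.node (.node (.leaf (245, 0)) (.leaf (1450, 0))) (.leaf (467, 39))) (.node (.node (.leaf (635, 0)) (.leaf (609, 35))) (.leaf (1043, 61))))) (.node (.node (.node (.node (.leaf (136, 0)) (.leaf (1411, 0))) (.leaf (707, 89))) (.node (.node (.leaf (546, 0)) (.leaf (497, 70))) (.leaf (1192, 0)))) (.node (.node (.node (.leaf (350, 0)) (.leaf (1078, 9))) (.leaf (108, 65))) (.node (.node (.leaf (719, 0)) (.leaf (104, 0))) (.leaf (1135, 83)))))) (.node (.node (.node (.node (.node (.leaf (77, 0)) (.leaf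 (1388, 0))) (.node (.leaf (847, 0)) (.leaf (1207, 76)))) (.node (.node (.leaf (498, 0)) (.leaf (1105, 42))) (.leaf (825, 75)))) (.node (.node (.node (.leaf (297, 0)) (.leaf (1237, 22))) (.leaf (1008, 0))) (.node (.node (.leaf (677, 0)) (.leaf (1261, 83))) (.leaf (670, 42))))) (.node (.node (.node (.node (.leaf (190, 0)) (.leaf (802, 102))) (.leaf (692, 11))) (.node (.node (.leaf (591, 0)) (.leaf (1558, 0))) (.leaf (1225, 0)))) (.node (.node (.node (.leaf (195, 22)) (.leaf (636, 45))) (.leaf (1083, 0))) (.node (.node (.leaf (759, 0)) (.leaf (1579, 107))) (.leaf (1338, 0))))))) (.node (.node (.node (.node (.node (.node (.leaf (47, 0)) (.leaf (1241, 13))) (.node (.leaf (473, 26)) (.leaf (1492, 90)))) (.node (.node (.leaf (476, 0)) (.leaf (1275, 44))) (.leaf (1132, 0)))) (.node (.node (.node (.leaf (272, 0)) (.leaf (1455, 0))) (.leaf (986, 0))) (.node (.node (.leaf (660, 0)) (.leaf (1573, 0))) (.leaf (1267, 0))))) (.node (.node (.node (.node (.leaf (163, 0)) (.leaf (1069, 31))) (.leaf (411, 25))) (.node (.node (.leaf (44, 3)) (.leaf (850, 107))) (.leaf (1212, 0)))) (.node (.node (.node (.leaf (172,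 99)) (.leaf (963, 11))) (.leaf (1062, 0))) (.node (.node (.leaf (738, 0)) (.leaf (1571, 9))) (.leaf (1100, 45)))))) (.node (.node (.node (.node (.node (.leaf (107, 0)) (.leaf (1395, 0))) (.node (.leaf (871, 0)) (.leaf (1569, 101)))) (.node (.node (.leaf (26, 75)) (.leaf (672, 95))) (.leaf (945, 48)))) (.node (.node (.node (.leaf (24, 65)) (.leaf (1462, 29))) (.leaf (1027, 0))) (.node (.node (.leaf (699, 0)) (.leaf (1570, 32))) (.leaf (602, 48))))) (.node (.node (.node (.node (.leaf (219, 0)) (.leaf (1440, 0))) (.leaf (949, 0))) (.node (.node (.leaf (612, 0)) (.leaf (1299, 16))) (.leaf (1242, 0)))) (.node (.node (.node (.leaf (424, 0)) (.leaf (1371, 46))) (.leaf (465, 63))) (.node (.node (.leaf (785, 0)) (.leaf (1357, 32))) (.leaf (1257, 83))))))))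

def schX9 : Tree (ℕ × ℕ) :=
  (.node (.node (.node (.node (.node (.node (.node (.leaf (19, 0)) (.leaf (1252, 19))) (.node (.leaf (808, 0)) (.leaf (1159, 34)))) (.node (.node (.leaf (207, 25)) (.leaf (941, 53))) (.leaf (753, 45)))) (.node (.node (.node (.leaf (247, 0)) (.leaf (995, 0))) (.leaf (880, 75))) (.node (.node (.leaf (637, 0)) (.leaf (873, 19))) (.leaf (225, 43))))) (.node (.node (.node (.node (.leaf (18, 102)) (.leaf (1412, 0))) (.leaf (890, 0))) (.node (.node (.leaf (548, 0)) (.leaf (1449, 38))) (.leaf (1194, 0)))) (.node (.node (.node (.leaf (351, 0)) (.leaf (1406, 3))) (.leaf (1045, 0))) (.node (.node (.leaf (330, 32)) (.leaf (858, 36))) (.leaf (1308, 0)))))) (.node (.node (.node (.node (.node (.leaf (79, 0)) (.leaf (1390, 0))) (.node (.leaf (849, 0)) (.leaf (1271, 37)))) (.node (.node (.leaf (499, 0)) (.leaf (1335, 11))) (.leaf (1035, 71)))) (.node (.node (.node (.leaf (299, 0)) (.leaf (1377, 10))) (.leaf (1010, 0))) (.node (.node (.leaf (191, 45)) (.leaf (1526, 72))) (.leaf (594, 17))))) (.node (.node (.node (.node (.leaf (192, 0)) (.leaf (1374, 34))) (.leaf (929, 0))) (.node (.node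 (.leaf (593, 0)) (.leaf (82, 0))) (.leaf (1227, 0)))) (.node (.node (.node (.leaf (38, 38)) (.leaf (564, 77))) (.leaf (1085, 0))) (.node (.node (.leaf (709, 81)) (.leaf (1508, 92))) (.leaf (1339, 0))))))) (.node (.node (.node (.node (.node (.node (.leaf (49, 0)) (.leaf (1376, 0))) (.node (.leaf (826, 0)) (.leaf (298, 25)))) (.node (.node (.leaf (478, 0)) (.leaf (997, 93))) (.leaf (1134, 0)))) (.node (.node (.node (.leaf (274, 0)) (.leaf (1089, 34))) (.leaf (987, 0))) (.node (.node (.leaf (113, 93)) (.leaf (439, 95))) (.leaf (1269, 0))))) (.node (.node (.node (.node (.leaf (27, 65)) (.leaf (724, 42))) (.leaf (471, 29))) (.node (.node (.leaf (510, 58)) (.leaf (903, 2))) (.leaf (1076, 91)))) (.node (.node (.node (.leaf (377, 0)) (.leaf (1493, 0))) (.leaf (1063, 0))) (.node (.node (.leaf (343, 7)) (.leaf (1533, 15))) (.leaf (1177, 104)))))) (.node (.node (.node (.node (.node (.leaf (109, 0)) (.leaf (1272, 49))) (.node (.leaf (279, 3)) (.leaf (1532, 74)))) (.node (.node (.leaf (525, 0)) (.leaf (1482, 21))) (.leaf (1084, 22)))) (.node (.node (.node (.leaf (325, 0)) (.leaf (659, 2))) (.leaf (1029, 0)))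 (.node (.node (.leaf (220, 80)) (.leaf (918, 81))) (.leaf (1224, 27))))) (.node (.node (.node (.node (.leaf (221, 0)) (.leaf (1158, 95))) (.leaf (950, 0))) (.node (.node (.leaf (613, 0)) (.leaf (1564, 0))) (.leaf (985, 76)))) (.node (.node (.node (.leaf (426, 0)) (.leaf (334, 35))) (.leaf (1059, 100))) (.node (.node (.leaf (786, 0)) (.leaf (1291, 45))) (.leaf (1352, 0))))))))

def schX10 : Tree (ℕ × ℕ) :=
  (.node (.node (.node (.node (.node (.node (.node (.leaf (21, 0)) (.leaf (1366, 0))) (.node (.leaf (810, 0)) (.leaf (555, 66)))) (.node (.node (.leaf (451, 0)) (.leaf (1520, 28))) (.leaf (1119, 0)))) (.node (.node (.node (.leaf (249, 0)) (.leaf (1265, 45))) (.leaf (704, 24))) (.node (.node (.leaf (638, 0)) (.leaf (1483, 16))) (.leaf (1249, 101))))) (.node (.node (.node (.node (.leaf (139, 0)) (.leaf (1216, 101))) (.leaf (892, 0))) (.node (.node (.leaf (514, 67)) (.leaf (1472, 72))) (.leaf (482, 28)))) (.node (.node (.node (.leaf (201, 25)) (.leaf (1485, 0))) (.leaf (543, 43))) (.node (.node (.leaf (592, 25)) (.leaf (1034, 74))) (.leaf (957, 89)))))) (.node (.node (.node (.node (.node (.leaf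 (81, 0)) (.leaf (294, 67))) (.node (.leaf (851, 0)) (.leaf (521, 24)))) (.node (.node (.leaf (501, 0)) (.leaf (830, 67))) (.leaf (1130, 96)))) (.node (.node (.node (.leaf (301, 0)) (.leaf (1467, 0))) (.leaf (1012, 0))) (.node (.node (.leaf (642, 83)) (.leaf (1329, 48))) (.leaf (1047, 40))))) (.node (.node (.node (.node (.leaf (194, 0)) (.leaf (1427, 0))) (.leaf (268, 36))) (.node (.node (.leaf (595, 0)) (.leaf (973, 102))) (.leaf (1229, 0)))) (.node (.node (.node (.leaf (158, 96)) (.leaf (1248, 9))) (.leaf (1087, 0))) (.node (.node (.leaf (689, 5)) (.leaf (348, 23))) (.leaf (1340, 0))))))) (.node (.node (.node (.node (.node (.node (.leaf (51, 0)) (.leaf (1378, 0))) (.node (.leaf (336, 65)) (.leaf (1578, 39)))) (.node (.node (.leaf (480, 0)) (.leaf (1527, 0))) (.leaf (1136, 0)))) (.node (.node (.node (.leaf (276, 0)) (.leaf (1458, 0))) (.leaf (988, 0))) (.node (.node (.leaf (662, 0)) (.leaf (1550, 10))) (.leaf (1191, 15))))) (.node (.node (.node (.node (.leaf (166, 0)) (.leaf (1145, 36))) (.leaf (909, 0))) (.node (.node (.leaf (573, 0)) (.leaf (1369, 22))) (.leaf (271, 91)))) (.node (.node (.node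 (.leaf (379, 0)) (.leaf (427, 108))) (.leaf (972, 16))) (.node (.node (.leaf (111, 25)) (.leaf (1519, 88))) (.leaf (577, 19)))))) (.node (.node (.node (.node (.node (.leaf (110, 0)) (.leaf (1396, 0))) (.node (.leaf (508, 58)) (.leaf (571, 62)))) (.node (.node (.leaf (527, 0)) (.leaf (664, 1))) (.leaf (1174, 0)))) (.node (.node (.node (.leaf (327, 0)) (.leaf (1154, 5))) (.leaf (1031, 0))) (.node (.node (.leaf (701, 0)) (.leaf (1507, 93))) (.leaf (539, 17))))) (.node (.node (.node (.node (.leaf (10, 38)) (.leaf (832, 21))) (.leaf (456, 53))) (.node (.node (.leaf (315, 98)) (.leaf (820, 5))) (.leaf (866, 61)))) (.node (.node (.node (.leaf (428, 0)) (.leaf (846, 80))) (.leaf (734, 16))) (.node (.node (.leaf (148, 92)) (.leaf (477, 63))) (.leaf (380, 105))))))))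

def schX11 : Tree (ℕ × ℕ) :=
  (.node (.node (.node (.node (.node (.node (.node (.leaf (23, 0)) (.leaf (1131, 77))) (.node (.leaf (812, 0)) (.leaf (1575, 100)))) (.node (.node (.leaf (453, 0)) (.leaf (1030, 31))) (.leaf (742, 25)))) (.node (.node (.node (.leaf (251, 0)) (.leaf (1379, 52))) (.leaf (444, 24))) (.node (.node (.leaf (640, 0)) (.leaf (1516, 32))) (.leaf (884, 22))))) (.node (.node (.node (.node (.leaf (141, 0)) (.leaf (1370, 13))) (.leaf (894, 0))) (.node (.node (.leaf (550, 0)) (.leaf (1529, 66))) (.leaf (1195, 0)))) (.node (.node (.node (.leaf (354, 0)) (.leaf (1188, 15))) (.leaf (1046, 0))) (.node (.node (.leaf (721, 0)) (.leaf (1581, 0))) (.leaf (848, 80)))))) (.node (.node (.node (.node (.node (.leaf (83, 0)) (.leaf (1346, 0))) (.node (.leaf (853, 0)) (.leaf (811, 78)))) (.node (.node (.leaf (503, 0)) (.leaf (584, 94))) (.leaf (1160, 0)))) (.node (.node (.node (.leaf (16, 45)) (.leaf (54, 0))) (.leaf (1013, 0))) (.node (.node (.leaf (679, 0)) (.leaf (1428, 98))) (.leaf (1285, 0))))) (.node (.node (.node (.node (.leaf (196, 0)) (.leaf (1429, 0))) (.leaf (529, 31))) (.node (.node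 (.leaf (597, 0)) (.leaf (1436, 26))) (.leaf (226, 77)))) (.node (.node (.node (.leaf (401, 0)) (.leaf (1502, 0))) (.leaf (751, 91))) (.node (.node (.leaf (763, 0)) (.leaf (1050, 5))) (.leaf (1342, 0))))))) (.node (.node (.node (.node (.node (.node (.leaf (53, 0)) (.leaf (512, 59))) (.node (.leaf (828, 0)) (.leaf (1117, 25)))) (.node (.node (.leaf (129, 104)) (.leaf (1473, 54))) (.leaf (1137, 0)))) (.node (.node (.node (.leaf (278, 0)) (.leaf (123, 73))) (.leaf (989, 0))) (.node (.node (.leaf (663, 0)) (.leaf (932, 16))) (.leaf (634, 27))))) (.node (.node (.node (.node (.leaf (168, 0)) (.leaf (1228, 65))) (.leaf (911, 0))) (.node (.node (.leaf (369, 25)) (.leaf (758, 91))) (.leaf (1214, 0)))) (.node (.node (.node (.leaf (381, 0)) (.leaf (386, 90))) (.leaf (1065, 0))) (.node (.node (.leaf (741, 0)) (.leaf (1138, 6))) (.leaf (1324, 0)))))) (.node (.node (.node (.node (.node (.leaf (112, 0)) (.leaf (374, 87))) (.node (.leaf (809, 106)) (.leaf (399, 8)))) (.node (.node (.leaf (209, 20)) (.leaf (1373, 8))) (.leaf (1175, 0)))) (.node (.node (.node (.leaf (329, 0)) (.leaf (798, 5))) (.leaf (52, 80)))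 (.node (.node (.leaf (702, 0)) (.leaf (792, 69))) (.leaf (872, 79))))) (.node (.node (.node (.node (.leaf (224, 0)) (.leaf (1441, 0))) (.leaf (952, 0))) (.node (.node (.leaf (614, 0)) (.leaf (1182, 35))) (.leaf (553, 61)))) (.node (.node (.node (.leaf (430, 0)) (.leaf (1509, 0))) (.leaf (1099, 0))) (.node (.node (.leaf (788, 0)) (.leaf (481, 65))) (.leaf (449, 85))))))))

def schX12 : Tree (ℕ × ℕ) :=
  (.node (.node (.node (.node (.node (.node (.node (.leaf (25, 0)) (.leaf (1331, 66))) (.node (.leaf (814, 0)) (.leaf (1437, 58)))) (.node (.node (.leaf (455, 0)) (.leaf (1521, 0))) (.leaf (910, 107)))) (.node (.node (.node (.leaf (253, 0)) (.leaf (682, 43))) (.leaf (372, 25))) (.node (.node (.leaf (641, 0)) (.leaf (1543, 25))) (.leaf (991, 27))))) (.node (.node (.node (.node (.leaf (143, 0)) (.leaf (629, 26))) (.leaf (896, 0))) (.node (.node (.leaf (552, 0)) (.leaf (1263, 19))) (.leaf (1197, 0)))) (.node (.node (.node (.leaf (356, 0)) (.leaf (765, 60))) (.leaf (935, 70))) (.node (.node (.leaf (676, 98)) (.leaf (766, 104))) (.leaf (1311, 0)))))) (.node (.node (.node (.node (.node (.leaf (85, 0))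 (.leaf (1112, 62))) (.node (.leaf (855, 0)) (.leaf (1389, 28)))) (.node (.node (.leaf (505, 0)) (.leaf (216, 16))) (.leaf (547, 101)))) (.node (.node (.node (.leaf (304, 0)) (.leaf (844, 65))) (.leaf (127, 83))) (.node (.node (.leaf (681, 0)) (.leaf (1294, 29))) (.leaf (1079, 89))))) (.node (.node (.node (.node (.leaf (198, 0)) (.leaf (817, 16))) (.leaf (142, 30))) (.node (.node (.leaf (599, 0)) (.leaf (1559, 0))) (.leaf (1231, 0)))) (.node (.node (.node (.leaf (403, 0)) (.leaf (882, 90))) (.leaf (475, 91))) (.node (.node (.leaf (764, 0)) (.leaf (1477, 93))) (.leaf (152, 82))))))) (.node (.node (.node (.node (.node (.node (.leaf (55, 0)) (.leaf (1184, 38))) (.node (.leaf (829, 0)) (.leaf (1203, 92)))) (.node (.node (.leaf (262, 93)) (.leaf (169, 0))) (.leaf (833, 94)))) (.node (.node (.node (.leaf (280, 0)) (.leaf (1459, 0))) (.leaf (990, 0))) (.node (.node (.leaf (261, 10)) (.leaf (1538, 70))) (.leaf (1018, 15))))) (.node (.node (.node (.node (.leaf (170, 0)) (.leaf (48, 0))) (.leaf (913, 0))) (.node (.node (.leaf (576, 0)) (.leaf (80, 0))) (.leaf (1215, 0)))) (.node (.node (.node (.leaf (72,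 38)) (.leaf (1496, 0))) (.leaf (1067, 0))) (.node (.node (.leaf (286, 90)) (.leaf (649, 106))) (.leaf (179, 102)))))) (.node (.node (.node (.node (.node (.leaf (114, 0)) (.leaf (1398, 0))) (.leaf (737, 4))) (.node (.node (.leaf (528, 0)) (.leaf (328, 90))) (.leaf (1176, 0)))) (.node (.node (.node (.leaf (331, 0)) (.leaf (1024, 34))) (.leaf (1033, 0))) (.node (.node (.leaf (150, 92)) (.leaf (1405, 94))) (.leaf (1296, 0))))) (.node (.node (.node (.node (.leaf (88, 43)) (.leaf (1038, 30))) (.leaf (954, 0))) (.node (.node (.leaf (616, 0)) (.leaf (1517, 80))) (.leaf (1246, 0)))) (.node (.node (.node (.leaf (431, 0)) (.leaf (1511, 0))) (.leaf (1101, 0))) (.node (.node (.leaf (790, 0)) (.leaf (822, 59))) (.leaf (982, 91))))))))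

def schX13 : Tree (ℕ × ℕ) :=
  (.node (.node (.node (.node (.node (.node (.node (.leaf (0, 20)) (.leaf (1290, 54))) (.node (.leaf (816, 0)) (.leaf (1243, 90)))) (.node (.node (.leaf (457, 0)) (.leaf (1469, 109))) (.leaf (1122, 0)))) (.node (.node (.node (.leaf (254, 0)) (.leaf (1452, 0))) (.leaf (878, 10))) (.node (.node (.leaf (68, 39)) (.leaf (1565, 80))) (.leaf (125, 62))))) (.node (.node (.node (.node (.leaf (144, 0)) (.leaf (463, 77))) (.leaf (502, 54))) (.node (.node (.leaf (554, 0)) (.leaf (1537, 49))) (.leaf (189, 65)))) (.node (.node (.node (.leaf (358, 0)) (.leaf (761, 53))) (.leaf (1049, 0))) (.node (.node (.leaf (165, 44)) (.leaf (181, 72))) (.leaf (1313, 0)))))) (.node (.node (.node (.node (.node (.leaf (86, 0)) (.leaf (867, 74))) (.node (.leaf (857, 0)) (.leaf (1476, 64)))) (.node (.node (.leaf (507, 0)) (.leaf (257, 101))) (.leaf (1162, 0)))) (.node (.node (.node (.leaf (306, 0)) (.leaf (1468, 0))) (.leaf (59, 83))) (.node (.node (.leaf (683, 0)) (.leaf (393, 98))) (.leaf (760, 59))))) (.node (.node (.node (.node (.leaf (200, 0)) (.leaf (1302, 50))) (.leaf (933, 0))) (.node (.node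 (.leaf (199, 70)) (.leaf (1557, 104))) (.leaf (1198, 6)))) (.node (.node (.node (.leaf (405, 0)) (.leaf (695, 83))) (.leaf (353, 25))) (.node (.node (.leaf (732, 73)) (.leaf (1400, 49))) (.leaf (1343, 0))))))) (.node (.node (.node (.node (.node (.node (.leaf (57, 0)) (.leaf (1381, 0))) (.node (.leaf (831, 0)) (.leaf (1593, 17)))) (.node (.node (.leaf (232, 25)) (.leaf (1250, 67))) (.leaf (1140, 0)))) (.node (.node (.node (.leaf (282, 0)) (.leaf (1460, 0))) (.leaf (796, 47))) (.node (.node (.leaf (246, 104)) (.leaf (1341, 64))) (.leaf (277, 103))))) (.node (.node (.node (.node (.leaf (171, 0)) (.leaf (281, 25))) (.leaf (915, 0))) (.node (.node (.leaf (578, 0)) (.leaf (137, 2))) (.leaf (461, 86)))) (.node (.node (.node (.leaf (218, 25)) (.leaf (1454, 49))) (.leaf (1068, 0))) (.node (.node (.leaf (743, 0)) (.leaf (730, 71))) (.leaf (177, 43)))))) (.node (.node (.node (.node (.node (.leaf (116, 0)) (.leaf (1399, 0))) (.leaf (875, 0))) (.node (.node (.leaf (530, 0)) (.leaf (1277, 64))) (.leaf (782, 74)))) (.node (.node (.node (.leaf (333, 0)) (.leaf (515, 63))) (.leaf (914, 43))) (.node (.node (.leaf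 (241, 25)) (.leaf (1487, 19))) (.leaf (1298, 0))))) (.node (.node (.node (.node (.leaf (227, 0)) (.leaf (1442, 0))) (.leaf (956, 0))) (.node (.node (.leaf (8, 0)) (.leaf (1522, 102))) (.leaf (728, 108)))) (.node (.node (.node (.leaf (433, 0)) (.leaf (1513, 0))) (.leaf (1103, 0))) (.node (.node (.leaf (140, 107)) (.leaf (971, 6))) (.leaf (718, 85))))))))

def schX14 : Tree (ℕ × ℕ) :=
  (.node (.node (.node (.node (.node (.node (.node (.leaf (28, 0)) (.leaf (714, 92))) (.node (.leaf (418, 101)) (.leaf (574, 20)))) (.node (.node (.leaf (458, 0)) (.leaf (864, 102))) (.leaf (1123, 0)))) (.node (.node (.node (.leaf (256, 0)) (.leaf (1361, 59))) (.leaf (974, 0))) (.node (.node (.leaf (644, 0)) (.leaf (992, 18))) (.leaf (1258, 0))))) (.node (.node (.node (.node (.leaf (145, 0)) (.leaf (1414, 0))) (.leaf (898, 0))) (.node (.node (.leaf (556, 0)) (.leaf (1544, 0))) (.leaf (1199, 0)))) (.node (.node (.node (.leaf (360, 0)) (.leaf (1486, 0))) (.leaf (1051, 0))) (.node (.node (.leaf (248, 98)) (.leaf (1307, 77))) (.leaf (1314, 0)))))) (.node (.node (.node (.node (.node (.leaf (87, 0)) (.leaf (868, 19))) (.node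 (.leaf (859, 0)) (.leaf (391, 22)))) (.node (.node (.leaf (509, 0)) (.leaf (939, 106))) (.leaf (924, 30)))) (.node (.node (.node (.leaf (308, 0)) (.leaf (794, 74))) (.leaf (1014, 0))) (.node (.node (.leaf (684, 0)) (.leaf (1244, 86))) (.leaf (1288, 0))))) (.node (.node (.node (.node (.leaf (202, 0)) (.leaf (693, 66))) (.leaf (934, 0))) (.node (.node (.leaf (600, 0)) (.leaf (653, 102))) (.leaf (275, 28)))) (.node (.node (.node (.leaf (406, 0)) (.leaf (1503, 0))) (.leaf (404, 65))) (.node (.node (.leaf (767, 0)) (.leaf (1590, 0))) (.leaf (774, 6))))))) (.node (.node (.node (.node (.node (.node (.leaf (58, 0)) (.leaf (1266, 59))) (.node (.leaf (187, 49)) (.leaf (1209, 58)))) (.node (.node (.leaf (483, 0)) (.leaf (966, 59))) (.leaf (1142, 0)))) (.node (.node (.node (.leaf (117, 99)) (.leaf (1127, 13))) (.leaf (993, 0))) (.node (.node (.leaf (78, 10)) (.leaf (1464, 104))) (.leaf (135, 103))))) (.node (.node (.node (.node (.leaf (173, 0)) (.leaf (1281, 96))) (.leaf (415, 100))) (.node (.node (.leaf (355, 103)) (.leaf (1350, 80))) (.leaf (1060, 10)))) (.node (.node (.node (.leaf (384, 0)) (.leaf (1497,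 0))) (.leaf (1070, 0))) (.node (.node (.leaf (745, 0)) (.leaf (1367, 84))) (.leaf (549, 90)))))) (.node (.node (.node (.node (.node (.leaf (118, 0)) (.leaf (975, 106))) (.leaf (877, 0))) (.node (.node (.leaf (532, 0)) (.leaf (1481, 45))) (.leaf (835, 49)))) (.node (.node (.node (.leaf (335, 0)) (.leaf (1480, 0))) (.leaf (175, 45))) (.node (.node (.leaf (703, 0)) (.leaf (1394, 15))) (.leaf (1300, 0))))) (.node (.node (.node (.node (.leaf (229, 0)) (.leaf (1397, 26))) (.leaf (958, 0))) (.node (.node (.leaf (618, 0)) (.leaf (1019, 54))) (.leaf (1247, 0)))) (.node (.node (.node (.leaf (434, 0)) (.leaf (305, 64))) (.leaf (1104, 0))) (.node (.node (.leaf (193, 77)) (.leaf (500, 51))) (.leaf (1356, 0))))))))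

def schX15 : Tree (ℕ × ℕ) :=
  (.node (.node (.node (.node (.node (.node (.node (.leaf (6, 90)) (.leaf (357, 61))) (.node (.leaf (526, 36)) (.leaf (621, 5)))) (.node (.node (.leaf (460, 0)) (.leaf (1456, 42))) (.leaf (1124, 0)))) (.node (.node (.node (.leaf (258, 0)) (.leaf (841, 15))) (.leaf (976, 0))) (.node (.node (.leaf (607, 95)) (.leaf (1152, 40))) (.leaf (756, 5))))) (.node (.node (.node (.node (.leaf (147, 0)) (.leaf (296, 5))) (.leaf (789, 0))) (.node (.node (.leaf (558, 0)) (.leaf (1545, 0))) (.leaf (1200, 0)))) (.node (.node (.node (.leaf (362, 0)) (.leaf (1432, 80))) (.leaf (897, 10))) (.node (.node (.leaf (90, 103)) (.leaf (1582, 0))) (.leaf (1316, 0)))))) (.node (.node (.node (.node (.node (.leaf (89, 0)) (.leaf (185, 19))) (.node (.leaf (861, 0)) (.leaf (557, 39)))) (.node (.node (.leaf (284, 12)) (.leaf (981, 44))) (.leaf (1164, 0)))) (.node (.node (.node (.leaf (310, 0)) (.leaf (1470, 0))) (.leaf (930, 73))) (.node (.node (.leaf (352, 28)) (.leaf (1256, 28))) (.leaf (1254, 5))))) (.node (.node (.node (.node (.leaf (204, 0)) (.leaf (1433, 0))) (.leaf (936, 0))) (.node (.node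 (.leaf (36, 71)) (.leaf (772, 49))) (.leaf (999, 65)))) (.node (.node (.node (.leaf (408, 0)) (.leaf (632, 52))) (.leaf (1091, 0))) (.node (.node (.leaf (769, 0)) (.leaf (1453, 87))) (.leaf (1344, 0))))))) (.node (.node (.node (.node (.node (.node (.leaf (12, 45)) (.leaf (517, 84))) (.node (.leaf (442, 51)) (.leaf (1595, 0)))) (.node (.node (.leaf (485, 0)) (.leaf (1413, 40))) (.leaf (519, 66)))) (.node (.node (.node (.leaf (285, 0)) (.leaf (1326, 95))) (.leaf (994, 0))) (.node (.node (.leaf (32, 10)) (.leaf (1576, 0))) (.leaf (740, 1))))) (.node (.node (.node (.node (.leaf (133, 20)) (.leaf (1422, 0))) (.leaf (916, 0))) (.node (.node (.leaf (161, 90)) (.leaf (1549, 0))) (.leaf (1217, 0)))) (.node (.node (.node (.leaf (385, 0)) (.leaf (959, 19))) (.leaf (1072, 0))) (.node (.node (.leaf (747, 0)) (.leaf (1586, 0))) (.leaf (409, 80)))))) (.node (.node (.node (.node (.node (.leaf (120, 0)) (.leaf (1401, 0))) (.leaf (879, 0))) (.node (.node (.leaf (534, 0)) (.leaf (1540, 0))) (.leaf (1180, 0)))) (.node (.node (.node (.leaf (337, 0)) (.leaf (102, 65))) (.leaf (700, 31))) (.node (.node (.leaf (70,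 25)) (.leaf (1420, 0))) (.leaf (1301, 0))))) (.node (.node (.node (.node (.leaf (231, 0)) (.leaf (1443, 0))) (.leaf (960, 0))) (.node (.node (.leaf (620, 0)) (.leaf (1461, 90))) (.leaf (1081, 49)))) (.node (.node (.node (.leaf (435, 0)) (.leaf (1515, 0))) (.leaf (1106, 0))) (.node (.node (.leaf (665, 55)) (.leaf (1408, 50))) (.leaf (931, 19))))))))

def schX : Tree (ℕ × ℕ) :=
  (.node (.node (.node (.node schX0 schX8) (.node schX4 schX12)) (.node (.node schX2 schX10) (.node schX6 schX14))) (.node (.node (.node schX1 schX9) (.node schX5 schX13)) (.node (.node schX3 schX11) (.node schX7 schX15))))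

def schY0 : Tree (ℕ × ℕ) :=
  (.node (.node (.node (.node (.node (.node (.node (.leaf (2, 0)) (.leaf (1150, 85))) (.node (.leaf (794, 0)) (.leaf (1212, 47)))) (.node (.node (.leaf (437, 0)) (.leaf (1517, 0))) (.leaf (285, 50)))) (.node (.node (.node (.leaf (234, 0)) (.leaf (998, 92))) (.leaf (666, 38))) (.node (.node (.leaf (511, 0)) (.leaf (1566, 0))) (.leaf (696, 75))))) (.node (.node (.node (.node (.leaf (123, 0)) (.leaf (1247, 31))) (.leaf (882, 0))) (.node (.node (.leaf (157, 26)) (.leaf (767, 15))) (.leaf (1182, 0)))) (.node (.node (.node (.leaf (339, 0)) (.leaf (1482, 0))) (.leaf (1038, 0))) (.node (.node (.leaf (705, 0)) (.leaf (1077, 94))) (.leaf (599, 90)))))) (.node (.node (.node (.node (.node (.leaf (62, 0)) (.leaf (1288, 102))) (.node (.leaf (835, 0)) (.leaf (1274, 96)))) (.node (.node (.leaf (487, 0)) (.leaf (1260, 30))) (.leaf (1145, 0)))) (.node (.node (.node (.leaf (63, 45)) (.leaf (1462, 0))) (.leaf (997, 0))) (.node (.node (.leaf (351, 0)) (.leaf (1505, 65))) (.leaf (812, 73))))) (.node (.node (.node (.node (.leaf (177, 0)) (.leaf (460, 86))) (.leaf (918, 0))) (.node (.node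 (.leaf (580, 0)) (.leaf (1167, 5))) (.leaf (1220, 0)))) (.node (.node (.node (.leaf (388, 0)) (.leaf (1412, 85))) (.leaf (947, 83))) (.node (.node (.leaf (217, 99)) (.leaf (1435, 45))) (.leaf (1267, 11))))))) (.node (.node (.node (.node (.node (.node (.leaf (32, 0)) (.leaf (1369, 0))) (.node (.leaf (817, 0)) (.leaf (1176, 94)))) (.node (.node (.leaf (463, 0)) (.leaf (1523, 0))) (.leaf (1127, 0)))) (.node (.node (.node (.leaf (261, 0)) (.leaf (936, 51))) (.leaf (736, 37))) (.node (.node (.leaf (647, 0)) (.leaf (1004, 14))) (.leaf (1261, 0))))) (.node (.node (.node (.node (.leaf (150, 0)) (.leaf (1415, 0))) (.leaf (546, 103))) (.node (.node (.leaf (561, 0)) (.leaf (1547, 0))) (.leaf (1201, 0)))) (.node (.node (.node (.leaf (245, 25)) (.leaf (1194, 34))) (.leaf (1053, 0))) (.node (.node (.leaf (726, 0)) (.leaf (612, 104))) (.leaf (1082, 96)))))) (.node (.node (.node (.node (.node (.leaf (92, 0)) (.leaf (249, 0))) (.node (.leaf (864, 0)) (.leaf (1544, 97)))) (.node (.node (.leaf (512, 0)) (.leaf (1358, 88))) (.leaf (816, 74)))) (.node (.node (.node (.leaf (313, 0)) (.leaf (1472, 0))) (.leaf (371,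 77))) (.node (.node (.leaf (688, 0)) (.leaf (1452, 10))) (.leaf (890, 93))))) (.node (.node (.node (.node (.leaf (207, 0)) (.leaf (656, 20))) (.leaf (939, 0))) (.node (.node (.leaf (602, 0)) (.leaf (462, 0))) (.leaf (904, 28)))) (.node (.node (.node (.leaf (411, 0)) (.leaf (438, 91))) (.leaf (899, 25))) (.node (.node (.leaf (772, 0)) (.leaf (1046, 40))) (.leaf (1346, 0))))))))

def schY1 : Tree (ℕ × ℕ) :=
  (.node (.node (.node (.node (.node (.node (.node (.leaf (4, 0)) (.leaf (1360, 0))) (.node (.leaf (796, 0)) (.leaf (805, 68)))) (.node (.node (.leaf (439, 0)) (.leaf (1301, 39))) (.leaf (1110, 0)))) (.node (.node (.node (.leaf (235, 0)) (.leaf (1446, 0))) (.leaf (377, 44))) (.node (.node (.leaf (623, 0)) (.leaf (1234, 15))) (.leaf (1166, 30))))) (.node (.node (.node (.node (.leaf (125, 0)) (.leaf (1403, 0))) (.leaf (884, 0))) (.node (.node (.leaf (537, 0)) (.leaf (499, 15))) (.leaf (1183, 0)))) (.node (.node (.node (.leaf (341, 0)) (.leaf (1296, 38))) (.leaf (828, 102))) (.node (.node (.leaf (707, 0)) (.leaf (1521, 21))) (.leaf (814, 75)))))) (.node (.node (.node (.node (.node (.leaf (64, 0))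 (.leaf (769, 14))) (.node (.leaf (837, 0)) (.leaf (970, 88)))) (.node (.node (.leaf (489, 0)) (.leaf (1513, 1))) (.leaf (1147, 0)))) (.node (.node (.node (.leaf (286, 0)) (.leaf (1464, 0))) (.leaf (999, 0))) (.node (.node (.leaf (616, 3)) (.leaf (788, 38))) (.leaf (1275, 0))))) (.node (.node (.node (.node (.leaf (179, 0)) (.leaf (1419, 35))) (.leaf (920, 0))) (.node (.node (.leaf (582, 0)) (.leaf (1550, 0))) (.leaf (824, 38)))) (.node (.node (.node (.leaf (337, 45)) (.leaf (958, 84))) (.leaf (1074, 0))) (.node (.node (.leaf (751, 0)) (.leaf (1443, 107))) (.leaf (1326, 0))))))) (.node (.node (.node (.node (.node (.node (.leaf (34, 0)) (.leaf (1305, 11))) (.node (.leaf (210, 49)) (.leaf (548, 32)))) (.node (.node (.leaf (465, 0)) (.leaf (1447, 33))) (.leaf (247, 36)))) (.node (.node (.node (.leaf (262, 0)) (.leaf (1445, 105))) (.leaf (677, 86))) (.node (.node (.leaf (649, 0)) (.leaf (1251, 101))) (.leaf (1001, 55))))) (.node (.node (.node (.node (.leaf (152, 0)) (.leaf (1003, 14))) (.leaf (900, 0))) (.node (.node (.leaf (33, 45)) (.leaf (256, 0))) (.leaf (1203, 0)))) (.node (.node (.node (.leaf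 (15, 0)) (.leaf (675, 43))) (.leaf (1054, 0))) (.node (.node (.leaf (628, 73)) (.leaf (1409, 25))) (.leaf (749, 96)))))) (.node (.node (.node (.node (.node (.leaf (94, 0)) (.leaf (979, 93))) (.node (.leaf (866, 0)) (.leaf (842, 107)))) (.node (.node (.leaf (514, 0)) (.leaf (1330, 62))) (.leaf (954, 98)))) (.node (.node (.node (.leaf (315, 0)) (.leaf (1473, 0))) (.leaf (1017, 0))) (.node (.node (.leaf (689, 0)) (.leaf (448, 38))) (.leaf (591, 93))))) (.node (.node (.node (.node (.leaf (209, 0)) (.leaf (1339, 13))) (.leaf (269, 36))) (.node (.node (.leaf (604, 0)) (.leaf (1195, 61))) (.leaf (1235, 0)))) (.node (.node (.node (.leaf (413, 0)) (.leaf (213, 0))) (.leaf (993, 33))) (.node (.node (.leaf (774, 0)) (.leaf (552, 109))) (.leaf (1072, 0))))))))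

def schY2 : Tree (ℕ × ℕ) :=
  (.node (.node (.node (.node (.node (.node (.node (.leaf (6, 0)) (.leaf (1361, 0))) (.node (.leaf (485, 8)) (.leaf (1320, 71)))) (.node (.node (.leaf (65, 80)) (.leaf (725, 73))) (.leaf (859, 0)))) (.node (.node (.node (.leaf (237, 0)) (.leaf (1190, 74))) (.leaf (963, 0))) (.node (.node (.leaf (625, 0)) (.leaf (457, 43))) (.leaf (171, 45))))) (.node (.node (.node (.node (.leaf (127, 0)) (.leaf (1405, 0))) (.leaf (323, 77))) (.node (.node (.leaf (53, 88)) (.leaf (1344, 48))) (.leaf (1184, 0)))) (.node (.node (.node (.leaf (343, 0)) (.leaf (1483, 0))) (.leaf (1039, 0))) (.node (.node (.leaf (709, 0)) (.leaf (847, 25))) (.leaf (132, 39)))))) (.node (.node (.node (.node (.node (.leaf (66, 0)) (.leaf (1384, 0))) (.node (.leaf (839, 0)) (.leaf (1187, 3)))) (.node (.node (.leaf (490, 0)) (.leaf (1532, 0))) (.leaf (1148, 0)))) (.node (.node (.node (.leaf (55, 27)) (.leaf (1429, 3))) (.leaf (885, 65))) (.node (.node (.leaf (287, 43)) (.leaf (1442, 34))) (.leaf (118, 0))))) (.node (.node (.node (.node (.leaf (181, 0)) (.leaf (186, 36))) (.leaf (922, 0))) (.node (.node (.leaf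 (565, 77)) (.leaf (1552, 0))) (.leaf (1221, 0)))) (.node (.node (.node (.leaf (391, 0)) (.leaf (299, 71))) (.leaf (509, 25))) (.node (.node (.leaf (43, 0)) (.leaf (1587, 0))) (.leaf (576, 30))))))) (.node (.node (.node (.node (.node (.node (.leaf (36, 0)) (.leaf (389, 7))) (.node (.leaf (318, 76)) (.leaf (1573, 7)))) (.node (.node (.leaf (467, 0)) (.leaf (1202, 1))) (.leaf (208, 67)))) (.node (.node (.node (.leaf (9, 0)) (.leaf (1454, 0))) (.leaf (981, 0))) (.node (.node (.leaf (651, 0)) (.leaf (1571, 0))) (.leaf (606, 6))))) (.node (.node (.node (.node (.leaf (154, 0)) (.leaf (1416, 0))) (.leaf (901, 0))) (.node (.node (.leaf (564, 0)) (.leaf (1264, 95))) (.leaf (754, 20)))) (.node (.node (.node (.leaf (367, 0)) (.leaf (996, 75))) (.leaf (938, 106))) (.node (.node (.leaf (728, 0)) (.leaf (1460, 68))) (.leaf (925, 84)))))) (.node (.node (.node (.node (.node (.leaf (96, 0)) (.leaf (1366, 1))) (.node (.leaf (192, 65)) (.leaf (703, 6)))) (.node (.node (.leaf (515, 0)) (.leaf (650, 10))) (.leaf (702, 104)))) (.node (.node (.node (.leaf (316, 0)) (.leaf (1404, 9))) (.leaf (1018, 0))) (.node (.node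 (.leaf (691, 0)) (.leaf (1579, 0))) (.leaf (843, 90))))) (.node (.node (.node (.node (.leaf (130, 71)) (.leaf (1436, 0))) (.leaf (941, 0))) (.node (.node (.leaf (605, 0)) (.leaf (1540, 108))) (.leaf (1237, 0)))) (.node (.node (.node (.leaf (415, 0)) (.leaf (1502, 38))) (.leaf (188, 90))) (.node (.node (.leaf (109, 65)) (.leaf (967, 8))) (.leaf (1210, 62))))))))

def schY3 : Tree (ℕ × ℕ) :=
  (.node (.node (.node (.node (.node (.node (.node (.leaf (8, 0)) (.leaf (1356, 31))) (.node (.leaf (798, 0)) (.leaf (1562, 16)))) (.node (.node (.leaf (442, 0)) (.leaf (1395, 85))) (.leaf (1112, 0)))) (.node (.node (.node (.leaf (239, 0)) (.leaf (280, 20))) (.leaf (964, 0))) (.node (.node (.leaf (627, 0)) (.leaf (1094, 81))) (.leaf (1250, 0))))) (.node (.node (.node (.node (.leaf (129, 0)) (.leaf (1406, 0))) (.leaf (887, 0))) (.node (.node (.leaf (202, 0)) (.leaf (1411, 98))) (.leaf (362, 77)))) (.node (.node (.node (.leaf (87, 63)) (.leaf (513, 4))) (.leaf (527, 45))) (.node (.node (.leaf (710, 0)) (.leaf (1085, 40))) (.leaf (501, 62)))))) (.node (.node (.node (.node (.node (.leaf (68, 0)) (.leaf (622, 67)))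 (.node (.leaf (841, 0)) (.leaf (503, 0)))) (.node (.node (.leaf (23, 0)) (.leaf (1497, 95))) (.leaf (1140, 34)))) (.node (.node (.node (.leaf (289, 0)) (.leaf (1304, 27))) (.leaf (1002, 0))) (.node (.node (.leaf (668, 0)) (.leaf (1555, 46))) (.leaf (1277, 0))))) (.node (.node (.node (.node (.leaf (182, 0)) (.leaf (1185, 65))) (.leaf (306, 99))) (.node (.node (.leaf (381, 102)) (.leaf (1553, 0))) (.leaf (1113, 12)))) (.node (.node (.node (.leaf (393, 0)) (.leaf (1327, 99))) (.leaf (1076, 0))) (.node (.node (.leaf (753, 0)) (.leaf (731, 78))) (.leaf (1329, 0))))))) (.node (.node (.node (.node (.node (.node (.leaf (38, 0)) (.leaf (1370, 0))) (.node (.leaf (600, 101)) (.leaf (1180, 43)))) (.node (.node (.leaf (469, 0)) (.leaf (851, 16))) (.leaf (91, 0)))) (.node (.node (.node (.leaf (264, 0)) (.leaf (1111, 44))) (.leaf (982, 0))) (.node (.node (.leaf (653, 0)) (.leaf (1560, 67))) (.leaf (1239, 28))))) (.node (.node (.node (.node (.leaf (156, 0)) (.leaf (1008, 67))) (.leaf (903, 0))) (.node (.node (.leaf (566, 0)) (.leaf (1293, 49))) (.leaf (1164, 85)))) (.node (.node (.node (.leaf (369, 0)) (.leaf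 (1491, 0))) (.leaf (491, 47))) (.node (.node (.leaf (730, 0)) (.leaf (1458, 22))) (.leaf (838, 16)))))) (.node (.node (.node (.node (.node (.leaf (98, 0)) (.leaf (1160, 107))) (.node (.leaf (568, 45)) (.leaf (1388, 68)))) (.node (.node (.leaf (517, 0)) (.leaf (1489, 85))) (.leaf (358, 91)))) (.node (.node (.node (.leaf (143, 16)) (.leaf (1474, 0))) (.leaf (1019, 0))) (.node (.node (.leaf (692, 0)) (.leaf (1576, 4))) (.leaf (1291, 0))))) (.node (.node (.node (.node (.leaf (212, 0)) (.leaf (1080, 0))) (.leaf (943, 0))) (.node (.node (.leaf (139, 103)) (.leaf (1300, 54))) (.leaf (635, 82)))) (.node (.node (.node (.leaf (120, 25)) (.leaf (1174, 65))) (.leaf (86, 0))) (.node (.node (.leaf (743, 25)) (.leaf (1215, 61))) (.leaf (818, 74))))))))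

def schY4 : Tree (ℕ × ℕ) :=
  (.node (.node (.node (.node (.node (.node (.node (.leaf (10, 0)) (.leaf (698, 35))) (.node (.leaf (800, 0)) (.leaf (474, 42)))) (.node (.node (.leaf (443, 0)) (.leaf (1322, 0))) (.leaf (687, 37)))) (.node (.node (.node (.leaf (241, 0)) (.leaf (1269, 5))) (.leaf (966, 0))) (.node (.node (.leaf (629, 0)) (.leaf (763, 96))) (.leaf (1252, 0))))) (.node (.node (.node (.node (.leaf (131, 0)) (.leaf (984, 102))) (.leaf (498, 65))) (.node (.node (.leaf (539, 0)) (.leaf (603, 93))) (.leaf (1186, 0)))) (.node (.node (.node (.leaf (346, 0)) (.leaf (1392, 77))) (.leaf (1041, 0))) (.node (.node (.leaf (712, 0)) (.leaf (1475, 43))) (.leaf (711, 38)))))) (.node (.node (.node (.node (.node (.leaf (70, 0)) (.leaf (909, 99))) (.node (.leaf (717, 28)) (.leaf (1005, 33)))) (.node (.node (.leaf (364, 68)) (.leaf (1533, 0))) (.leaf (116, 19)))) (.node (.node (.node (.leaf (291, 0)) (.leaf (1223, 0))) (.leaf (898, 51))) (.node (.node (.leaf (670, 0)) (.leaf (1340, 84))) (.leaf (1092, 5))))) (.node (.node (.node (.node (.leaf (5, 0)) (.leaf (624, 54))) (.leaf (924, 0))) (.node (.node (.leaf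 (584, 0)) (.leaf (1554, 0))) (.leaf (562, 65)))) (.node (.node (.node (.leaf (395, 0)) (.leaf (1500, 0))) (.leaf (1078, 0))) (.node (.node (.leaf (755, 0)) (.leaf (1338, 26))) (.leaf (1331, 0))))))) (.node (.node (.node (.node (.node (.node (.leaf (40, 0)) (.leaf (1371, 0))) (.node (.leaf (820, 0)) (.leaf (1583, 90)))) (.node (.node (.leaf (471, 0)) (.leaf (1168, 0))) (.leaf (579, 25)))) (.node (.node (.node (.leaf (266, 0)) (.leaf (530, 94))) (.leaf (278, 38))) (.node (.node (.leaf (655, 0)) (.leaf (1572, 0))) (.leaf (1263, 0))))) (.node (.node (.node (.node (.leaf (158, 0)) (.leaf (206, 75))) (.leaf (905, 0))) (.node (.node (.leaf (567, 0)) (.leaf (1279, 18))) (.leaf (1134, 56)))) (.node (.node (.node (.leaf (350, 25)) (.leaf (1492, 0))) (.leaf (1058, 0))) (.node (.node (.leaf (732, 0)) (.leaf (980, 12))) (.leaf (1033, 88)))))) (.node (.node (.node (.node (.node (.leaf (100, 0)) (.leaf (660, 102))) (.node (.leaf (494, 95)) (.leaf (1595, 82)))) (.node (.node (.leaf (519, 0)) (.leaf (1040, 8))) (.leaf (1169, 0)))) (.node (.node (.node (.leaf (319, 0)) (.leaf (779, 65))) (.leaf (1020, 0))) (.node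 (.node (.leaf (693, 0)) (.leaf (1075, 5))) (.leaf (1276, 78))))) (.node (.node (.node (.node (.leaf (214, 0)) (.leaf (1437, 0))) (.leaf (81, 67))) (.node (.node (.leaf (607, 0)) (.leaf (1014, 64))) (.leaf (107, 0)))) (.node (.node (.node (.leaf (418, 0)) (.leaf (581, 86))) (.leaf (1095, 0))) (.node (.node (.leaf (778, 0)) (.leaf (1417, 78))) (.leaf (1348, 0))))))))

def schY5 : Tree (ℕ × ℕ) :=
  (.node (.node (.node (.node (.node (.node (.node (.leaf (12, 0)) (.leaf (1364, 0))) (.node (.leaf (802, 0)) (.leaf (861, 15)))) (.node (.node (.leaf (444, 0)) (.leaf (961, 55))) (.leaf (1114, 0)))) (.node (.node (.node (.leaf (114, 10)) (.leaf (1025, 60))) (.leaf (968, 0))) (.node (.node (.leaf (540, 90)) (.leaf (986, 46))) (.leaf (1108, 75))))) (.node (.node (.node (.node (.leaf (133, 0)) (.leaf (863, 45))) (.leaf (373, 44))) (.node (.node (.leaf (541, 0)) (.leaf (532, 102))) (.leaf (1188, 0)))) (.node (.node (.node (.leaf (348, 0)) (.leaf (190, 0))) (.leaf (1043, 0))) (.node (.node (.leaf (714, 0)) (.leaf (333, 0))) (.leaf (1306, 0)))))) (.node (.node (.node (.node (.node (.leaf (72, 0)) (.leaf (1386,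 0))) (.node (.leaf (458, 28)) (.leaf (1582, 8)))) (.node (.node (.leaf (493, 0)) (.leaf (855, 98))) (.leaf (1152, 0)))) (.node (.node (.node (.leaf (292, 0)) (.leaf (735, 101))) (.leaf (550, 90))) (.node (.node (.leaf (672, 0)) (.leaf (1349, 73))) (.leaf (1280, 0))))) (.node (.node (.node (.node (.leaf (185, 0)) (.leaf (706, 98))) (.leaf (254, 103))) (.node (.node (.leaf (586, 0)) (.leaf (1342, 2))) (.leaf (1224, 0)))) (.node (.node (.node (.leaf (397, 0)) (.leaf (1010, 33))) (.leaf (1079, 0))) (.node (.node (.leaf (93, 2)) (.leaf (1407, 83))) (.leaf (1333, 0))))))) (.node (.node (.node (.node (.node (.node (.leaf (42, 0)) (.leaf (1373, 0))) (.node (.leaf (822, 0)) (.leaf (836, 34)))) (.node (.node (.leaf (21, 0)) (.leaf (394, 4))) (.leaf (944, 68)))) (.node (.node (.node (.leaf (268, 0)) (.leaf (416, 26))) (.leaf (985, 0))) (.node (.node (.leaf (608, 84)) (.leaf (1383, 93))) (.leaf (1265, 0))))) (.node (.node (.node (.node (.leaf (11, 25)) (.leaf (1418, 0))) (.leaf (906, 0))) (.node (.node (.leaf (375, 26)) (.leaf (907, 78))) (.leaf (1207, 0)))) (.node (.node (.node (.leaf (372, 0)) (.leaf (1278,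 83))) (.leaf (1059, 0))) (.node (.node (.leaf (734, 0)) (.leaf (1128, 25))) (.leaf (1321, 0)))))) (.node (.node (.node (.node (.node (.leaf (102, 0)) (.leaf (1393, 0))) (.node (.leaf (867, 0)) (.leaf (1029, 72)))) (.node (.node (.leaf (159, 20)) (.leaf (713, 8))) (.leaf (1170, 0)))) (.node (.node (.node (.leaf (321, 0)) (.leaf (1476, 0))) (.leaf (1022, 0))) (.node (.node (.leaf (695, 0)) (.leaf (325, 0))) (.leaf (554, 24))))) (.node (.node (.node (.node (.leaf (216, 0)) (.leaf (807, 14))) (.leaf (945, 0))) (.node (.node (.leaf (609, 0)) (.leaf (1324, 93))) (.leaf (136, 65)))) (.node (.node (.node (.leaf (420, 0)) (.leaf (797, 91))) (.leaf (956, 78))) (.node (.node (.leaf (780, 0)) (.leaf (1091, 75))) (.leaf (436, 2))))))))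

def schY6 : Tree (ℕ × ℕ) :=
  (.node (.node (.node (.node (.node (.node (.node (.leaf (14, 0)) (.leaf (1362, 4))) (.node (.leaf (804, 0)) (.leaf (781, 77)))) (.node (.node (.leaf (446, 0)) (.leaf (1519, 0))) (.leaf (733, 59)))) (.node (.node (.node (.leaf (101, 45)) (.leaf (662, 55))) (.leaf (969, 0))) (.node (.node (.leaf (632, 0)) (.leaf (1531, 105))) (.leaf (1254, 0))))) (.node (.node (.node (.node (.leaf (3, 0)) (.leaf (1408, 0))) (.leaf (578, 103))) (.node (.node (.leaf (543, 0)) (.leaf (472, 28))) (.leaf (1189, 0)))) (.node (.node (.node (.leaf (75, 65)) (.leaf (1484, 0))) (.leaf (1044, 0))) (.node (.node (.leaf (716, 0)) (.leaf (1559, 62))) (.leaf (215, 95)))))) (.node (.node (.node (.node (.node (.leaf (74, 0)) (.leaf (611, 96))) (.node (.leaf (844, 0)) (.leaf (840, 17)))) (.node (.node (.leaf (495, 0)) (.leaf (1534, 0))) (.leaf (1154, 0)))) (.node (.node (.node (.leaf (294, 0)) (.leaf (308, 36))) (.leaf (282, 42))) (.node (.node (.leaf (674, 0)) (.leaf (1137, 61))) (.leaf (1281, 0))))) (.node (.node (.node (.node (.leaf (187, 0)) (.leaf (1126, 24))) (.leaf (525, 60))) (.node (.node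 (.leaf (588, 0)) (.leaf (1556, 0))) (.leaf (492, 95)))) (.node (.node (.node (.leaf (399, 0)) (.leaf (1501, 0))) (.leaf (1081, 0))) (.node (.node (.leaf (756, 0)) (.leaf (1401, 71))) (.leaf (1335, 0))))))) (.node (.node (.node (.node (.node (.node (.leaf (44, 0)) (.leaf (1374, 0))) (.node (.leaf (823, 0)) (.leaf (1385, 0)))) (.node (.node (.leaf (473, 0)) (.leaf (1526, 0))) (.leaf (1130, 0)))) (.node (.node (.node (.leaf (39, 2)) (.leaf (445, 45))) (.leaf (310, 55))) (.node (.node (.leaf (658, 0)) (.leaf (301, 0))) (.leaf (1222, 24))))) (.node (.node (.node (.node (.leaf (161, 0)) (.leaf (1144, 89))) (.leaf (871, 22))) (.node (.node (.leaf (569, 0)) (.leaf (276, 9))) (.leaf (1209, 0)))) (.node (.node (.node (.leaf (374, 0)) (.leaf (233, 77))) (.leaf (1060, 0))) (.node (.node (.leaf (410, 102)) (.leaf (1584, 0))) (.leaf (1246, 40)))))) (.node (.node (.node (.node (.node (.leaf (104, 0)) (.leaf (1394, 0))) (.node (.leaf (868, 0)) (.leaf (1563, 85)))) (.node (.node (.leaf (521, 0)) (.leaf (1490, 20))) (.leaf (1172, 0)))) (.node (.node (.node (.leaf (219, 38)) (.leaf (1027, 42))) (.leaf (1024, 0)))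 (.node (.node (.leaf (697, 0)) (.leaf (1381, 57))) (.leaf (795, 12))))) (.node (.node (.node (.node (.leaf (218, 0)) (.leaf (648, 86))) (.leaf (764, 45))) (.node (.node (.leaf (518, 91)) (.leaf (1398, 6))) (.leaf (428, 108)))) (.node (.node (.node (.leaf (422, 0)) (.leaf (1507, 0))) (.leaf (641, 78))) (.node (.node (.leaf (782, 0)) (.leaf (1467, 17))) (.leaf (1208, 79))))))))

def schY7 : Tree (ℕ × ℕ) :=
  (.node (.node (.node (.node (.node (.node (.node (.leaf (16, 0)) (.leaf (952, 102))) (.node (.leaf (806, 0)) (.leaf (1593, 0)))) (.node (.node (.leaf (160, 0)) (.leaf (1520, 0))) (.leaf (196, 20)))) (.node (.node (.node (.leaf (244, 0)) (.leaf (1449, 0))) (.leaf (971, 0))) (.node (.node (.leaf (634, 0)) (.leaf (1365, 93))) (.leaf (155, 46))))) (.node (.node (.node (.node (.leaf (135, 0)) (.leaf (1410, 0))) (.leaf (889, 0))) (.node (.node (.leaf (545, 0)) (.leaf (771, 8))) (.leaf (1191, 0)))) (.node (.node (.node (.leaf (45, 65)) (.leaf (327, 0))) (.leaf (229, 102))) (.node (.node (.leaf (718, 0)) (.leaf (1551, 37))) (.leaf (1307, 0)))))) (.node (.node (.node (.node (.node (.leaf (76, 0)) (.leaf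 (1387, 0))) (.node (.leaf (846, 0)) (.leaf (1506, 14)))) (.node (.node (.leaf (497, 0)) (.leaf (583, 51))) (.leaf (1156, 0)))) (.node (.node (.node (.leaf (296, 0)) (.leaf (360, 77))) (.leaf (1007, 0))) (.node (.node (.leaf (676, 0)) (.leaf (601, 34))) (.leaf (1282, 0))))) (.node (.node (.node (.node (.leaf (189, 0)) (.leaf (1426, 0))) (.leaf (927, 0))) (.node (.node (.leaf (590, 0)) (.leaf (1557, 0))) (.leaf (112, 58)))) (.node (.node (.node (.leaf (400, 0)) (.leaf (347, 32))) (.leaf (679, 10))) (.node (.node (.leaf (758, 0)) (.leaf (1588, 99))) (.leaf (1337, 0))))))) (.node (.node (.node (.node (.node (.node (.leaf (46, 0)) (.leaf (1119, 90))) (.node (.leaf (344, 23)) (.leaf (1253, 33)))) (.node (.node (.leaf (475, 0)) (.leaf (435, 30))) (.leaf (1131, 0)))) (.node (.node (.node (.leaf (271, 0)) (.leaf (875, 15))) (.leaf (965, 77))) (.node (.node (.leaf (659, 0)) (.leaf (384, 0))) (.leaf (1266, 0))))) (.node (.node (.node (.node (.leaf (162, 0)) (.leaf (1420, 0))) (.leaf (434, 25))) (.node (.node (.leaf (571, 0)) (.leaf (1548, 0))) (.leaf (1211, 0)))) (.node (.node (.node (.leaf (242, 109))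 (.leaf (1465, 24))) (.leaf (916, 77))) (.node (.node (.leaf (737, 0)) (.leaf (1319, 39))) (.leaf (1045, 38)))))) (.node (.node (.node (.node (.node (.leaf (106, 0)) (.leaf (597, 23))) (.node (.leaf (870, 0)) (.leaf (646, 0)))) (.node (.node (.leaf (523, 0)) (.leaf (1537, 0))) (.leaf (542, 104)))) (.node (.node (.node (.leaf (89, 45)) (.leaf (883, 72))) (.leaf (1026, 0))) (.node (.node (.leaf (198, 65)) (.leaf (1580, 0))) (.leaf (412, 92))))) (.node (.node (.node (.node (.leaf (7, 0)) (.leaf (1439, 0))) (.leaf (948, 0))) (.node (.node (.leaf (447, 4)) (.leaf (892, 26))) (.leaf (1241, 0)))) (.node (.node (.node (.leaf (408, 44)) (.leaf (1468, 55))) (.leaf (451, 28))) (.node (.node (.leaf (784, 0)) (.leaf (1545, 32))) (.leaf (1350, 0))))))))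

def schY8 : Tree (ℕ × ℕ) :=
  (.node (.node (.node (.node (.node (.node (.node (.leaf (18, 0)) (.leaf (896, 70))) (.node (.leaf (356, 45)) (.leaf (1594, 0)))) (.node (.node (.leaf (449, 0)) (.leaf (1229, 42))) (.leaf (1117, 0)))) (.node (.node (.node (.leaf (246, 0)) (.leaf (1334, 0))) (.leaf (972, 0))) (.node (.node (.leaf (636, 0)) (.leaf (1568, 0))) (.leaf (1255, 0))))) (.node (.node (.node (.node (.leaf (137, 0)) (.leaf (573, 41))) (.leaf (260, 89))) (.node (.node (.leaf (547, 0)) (.leaf (1240, 56))) (.leaf (1193, 0)))) (.node (.node (.node (.leaf (47, 90)) (.leaf (1273, 104))) (.leaf (79, 0))) (.node (.node (.leaf (180, 5)) (.leaf (829, 65))) (.leaf (126, 0)))))) (.node (.node (.node (.node (.node (.leaf (78, 0)) (.leaf (1389, 0))) (.node (.leaf (848, 0)) (.leaf (1336, 98)))) (.node (.node (.leaf (200, 20)) (.leaf (1459, 67))) (.leaf (1157, 0)))) (.node (.node (.node (.leaf (298, 0)) (.leaf (793, 69))) (.leaf (1009, 0))) (.node (.node (.leaf (168, 45)) (.leaf (1577, 0))) (.leaf (1283, 0))))) (.node (.node (.node (.node (.leaf (191, 0)) (.leaf (1376, 34))) (.leaf (928, 0))) (.node (.node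 (.leaf (592, 0)) (.leaf (272, 0))) (.leaf (1226, 0)))) (.node (.node (.node (.leaf (17, 0)) (.leaf (741, 87))) (.leaf (1084, 0))) (.node (.node (.leaf (760, 0)) (.leaf (1000, 60))) (.leaf (631, 102))))))) (.node (.node (.node (.node (.node (.node (.leaf (48, 0)) (.leaf (1129, 68))) (.node (.leaf (825, 0)) (.leaf (831, 19)))) (.node (.node (.leaf (477, 0)) (.leaf (1308, 62))) (.leaf (1133, 0)))) (.node (.node (.node (.leaf (273, 0)) (.leaf (1456, 0))) (.leaf (962, 51))) (.node (.node (.leaf (661, 0)) (.leaf (949, 60))) (.leaf (1268, 0))))) (.node (.node (.node (.node (.leaf (164, 0)) (.leaf (1115, 57))) (.leaf (613, 6))) (.node (.node (.leaf (184, 108)) (.leaf (783, 82))) (.leaf (1213, 0)))) (.node (.node (.node (.leaf (376, 0)) (.leaf (1399, 78))) (.leaf (652, 51))) (.node (.node (.leaf (431, 32)) (.leaf (1093, 24))) (.leaf (1323, 0)))))) (.node (.node (.node (.node (.node (.leaf (108, 0)) (.leaf (1219, 6))) (.node (.leaf (480, 3)) (.leaf (1524, 88)))) (.node (.node (.leaf (524, 0)) (.leaf (1538, 0))) (.leaf (886, 26)))) (.node (.node (.node (.leaf (324, 0)) (.leaf (801, 94))) (.leaf (1028, 0)))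 (.node (.node (.leaf (73, 8)) (.leaf (1424, 7))) (.leaf (1294, 0))))) (.node (.node (.node (.node (.leaf (220, 0)) (.leaf (1006, 78))) (.leaf (335, 109))) (.node (.node (.leaf (77, 15)) (.leaf (1205, 17))) (.leaf (1070, 36)))) (.node (.node (.node (.leaf (425, 0)) (.leaf (349, 38))) (.leaf (1098, 0))) (.node (.node (.leaf (752, 34)) (.leaf (826, 53))) (.leaf (1351, 0))))))))

def schY9 : Tree (ℕ × ℕ) :=
  (.node (.node (.node (.node (.node (.node (.node (.leaf (20, 0)) (.leaf (1311, 65))) (.node (.leaf (809, 0)) (.leaf (1581, 42)))) (.node (.node (.leaf (450, 0)) (.leaf (708, 35))) (.leaf (1118, 0)))) (.node (.node (.node (.leaf (248, 0)) (.leaf (1451, 0))) (.leaf (630, 91))) (.node (.node (.leaf (170, 61)) (.leaf (1414, 49))) (.leaf (544, 103))))) (.node (.node (.node (.node (.leaf (138, 0)) (.leaf (946, 11))) (.leaf (891, 0))) (.node (.node (.leaf (549, 0)) (.leaf (719, 107))) (.leaf (1122, 74)))) (.node (.node (.node (.leaf (352, 0)) (.leaf (587, 103))) (.leaf (421, 2))) (.node (.node (.leaf (486, 57)) (.leaf (1217, 21))) (.leaf (1309, 0)))))) (.node (.node (.node (.node (.node (.leaf (80,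 0)) (.leaf (1352, 2))) (.node (.leaf (850, 0)) (.leaf (1480, 77)))) (.node (.node (.leaf (500, 0)) (.leaf (1466, 107))) (.leaf (1158, 0)))) (.node (.node (.node (.leaf (300, 0)) (.leaf (1231, 30))) (.leaf (1011, 0))) (.node (.node (.leaf (37, 0)) (.leaf (1023, 104))) (.leaf (1284, 0))))) (.node (.node (.node (.node (.leaf (193, 0)) (.leaf (267, 92))) (.leaf (930, 0))) (.node (.node (.leaf (594, 0)) (.leaf (1314, 102))) (.leaf (1228, 0)))) (.node (.node (.node (.leaf (368, 29)) (.leaf (1104, 69))) (.leaf (1086, 0))) (.node (.node (.leaf (761, 0)) (.leaf (673, 3))) (.leaf (1061, 82))))))) (.node (.node (.node (.node (.node (.node (.leaf (50, 0)) (.leaf (1377, 0))) (.node (.leaf (51, 0)) (.leaf (1455, 101)))) (.node (.node (.leaf (479, 0)) (.leaf (942, 14))) (.leaf (1135, 0)))) (.node (.node (.node (.leaf (275, 0)) (.leaf (1457, 0))) (.leaf (694, 101))) (.node (.node (.leaf (35, 0)) (.leaf (1097, 50))) (.leaf (1270, 0))))) (.node (.node (.node (.node (.leaf (165, 0)) (.leaf (1343, 4))) (.leaf (757, 5))) (.node (.node (.leaf (572, 0)) (.leaf (1372, 58))) (.leaf (466, 91)))) (.node (.node (.node (.leaf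 (378, 0)) (.leaf (1441, 37))) (.leaf (1037, 80))) (.node (.node (.leaf (739, 0)) (.leaf (1063, 108))) (.leaf (785, 50)))))) (.node (.node (.node (.node (.node (.leaf (19, 25)) (.leaf (370, 32))) (.node (.leaf (872, 0)) (.leaf (1206, 97)))) (.node (.node (.leaf (526, 0)) (.leaf (1313, 6))) (.leaf (1173, 0)))) (.node (.node (.node (.leaf (326, 0)) (.leaf (1477, 0))) (.leaf (1030, 0))) (.node (.node (.leaf (700, 0)) (.leaf (1067, 108))) (.leaf (853, 16))))) (.node (.node (.node (.node (.leaf (222, 0)) (.leaf (684, 78))) (.leaf (951, 0))) (.node (.node (.leaf (288, 98)) (.leaf (1565, 0))) (.leaf (1243, 0)))) (.node (.node (.node (.leaf (427, 0)) (.leaf (1508, 0))) (.leaf (908, 20))) (.node (.node (.leaf (270, 92)) (.leaf (1292, 2))) (.leaf (610, 91))))))))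

def schY10 : Tree (ℕ × ℕ) :=
  (.node (.node (.node (.node (.node (.node (.node (.leaf (22, 0)) (.leaf (978, 51))) (.node (.leaf (811, 0)) (.leaf (1558, 71)))) (.node (.node (.leaf (452, 0)) (.leaf (990, 30))) (.leaf (1120, 0)))) (.node (.node (.node (.leaf (250, 0)) (.leaf (312, 75))) (.leaf (671, 38))) (.node (.node (.leaf (639, 0)) (.leaf (1564, 81))) (.leaf (1256, 0))))) (.node (.node (.node (.node (.leaf (140, 0)) (.leaf (1413, 0))) (.leaf (893, 0))) (.node (.node (.leaf (322, 12)) (.leaf (1303, 80))) (.leaf (902, 83)))) (.node (.node (.node (.leaf (353, 0)) (.leaf (253, 20))) (.leaf (366, 93))) (.node (.node (.leaf (720, 0)) (.leaf (1390, 73))) (.leaf (1171, 8)))))) (.node (.node (.node (.node (.node (.leaf (82, 0)) (.leaf (921, 52))) (.node (.leaf (852, 0)) (.leaf (522, 0)))) (.node (.node (.leaf (502, 0)) (.leaf (385, 0))) (.leaf (1159, 0)))) (.node (.node (.node (.leaf (302, 0)) (.leaf (1096, 105))) (.leaf (865, 108))) (.node (.node (.leaf (678, 0)) (.leaf (913, 55))) (.leaf (505, 22))))) (.node (.node (.node (.node (.leaf (195, 0)) (.leaf (1428, 0))) (.leaf (931, 0))) (.node (.node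 (.leaf (596, 0)) (.leaf (1450, 98))) (.leaf (738, 48)))) (.node (.node (.node (.leaf (176, 69)) (.leaf (392, 71))) (.leaf (1088, 0))) (.node (.node (.leaf (762, 0)) (.leaf (1503, 73))) (.leaf (1341, 0))))))) (.node (.node (.node (.node (.node (.node (.leaf (52, 0)) (.leaf (1379, 0))) (.node (.leaf (827, 0)) (.leaf (1151, 90)))) (.node (.node (.leaf (240, 104)) (.leaf (1528, 0))) (.leaf (470, 58)))) (.node (.node (.node (.leaf (277, 0)) (.leaf (1448, 78))) (.leaf (528, 58))) (.node (.node (.leaf (304, 90)) (.leaf (1574, 0))) (.leaf (433, 19))))) (.node (.node (.node (.node (.leaf (167, 0)) (.leaf (398, 77))) (.leaf (910, 0))) (.node (.node (.leaf (574, 0)) (.leaf (265, 0))) (.leaf (103, 0)))) (.node (.node (.node (.leaf (380, 0)) (.leaf (1494, 0))) (.leaf (1064, 0))) (.node (.node (.leaf (740, 0)) (.leaf (478, 49))) (.leaf (488, 24)))))) (.node (.node (.node (.node (.node (.leaf (111, 0)) (.leaf (1109, 72))) (.node (.leaf (516, 87)) (.leaf (1242, 53)))) (.node (.node (.leaf (221, 57)) (.leaf (869, 20))) (.leaf (663, 20)))) (.node (.node (.node (.leaf (328, 0)) (.leaf (1478, 0))) (.leaf (1032,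 0))) (.node (.node (.leaf (97, 64)) (.leaf (406, 83))) (.leaf (640, 6))))) (.node (.node (.node (.node (.leaf (223, 0)) (.leaf (1425, 38))) (.leaf (667, 0))) (.node (.node (.leaf (563, 53)) (.leaf (1518, 62))) (.leaf (1244, 0)))) (.node (.node (.node (.leaf (429, 0)) (.leaf (1227, 24))) (.leaf (538, 105))) (.node (.node (.leaf (787, 0)) (.leaf (1591, 0))) (.leaf (1353, 0))))))))

def schY11 : Tree (ℕ × ℕ) :=
  (.node (.node (.node (.node (.node (.node (.node (.leaf (24, 0)) (.leaf (681, 32))) (.node (.leaf (813, 0)) (.leaf (808, 50)))) (.node (.node (.leaf (454, 0)) (.leaf (1136, 50))) (.leaf (1121, 0)))) (.node (.node (.node (.leaf (252, 0)) (.leaf (1055, 30))) (.leaf (67, 0))) (.node (.node (.leaf (258, 30)) (.leaf (1471, 65))) (.leaf (1257, 0))))) (.node (.node (.node (.node (.leaf (142, 0)) (.leaf (593, 68))) (.leaf (895, 0))) (.node (.node (.leaf (551, 0)) (.leaf (1031, 46))) (.leaf (1196, 0)))) (.node (.node (.node (.leaf (355, 0)) (.leaf (1106, 60))) (.leaf (1047, 0))) (.node (.node (.leaf (722, 0)) (.leaf (1496, 1))) (.leaf (1310, 0)))))) (.node (.node (.node (.node (.node (.leaf (84,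 0)) (.leaf (1103, 0))) (.node (.leaf (854, 0)) (.leaf (881, 58)))) (.node (.node (.leaf (504, 0)) (.leaf (620, 33))) (.leaf (1161, 0)))) (.node (.node (.node (.leaf (303, 0)) (.leaf (1200, 65))) (.leaf (314, 57))) (.node (.node (.leaf (680, 0)) (.leaf (1578, 0))) (.leaf (1286, 0))))) (.node (.node (.node (.node (.leaf (197, 0)) (.leaf (1430, 0))) (.leaf (243, 25))) (.node (.node (.leaf (598, 0)) (.leaf (974, 77))) (.leaf (1230, 0)))) (.node (.node (.node (.leaf (402, 0)) (.leaf (1192, 66))) (.leaf (1089, 0))) (.node (.node (.leaf (151, 13)) (.leaf (1470, 93))) (.leaf (293, 26))))))) (.node (.node (.node (.node (.node (.node (.leaf (54, 0)) (.leaf (1380, 0))) (.node (.leaf (535, 39)) (.leaf (1318, 106)))) (.node (.node (.leaf (481, 0)) (.leaf (1529, 0))) (.leaf (1138, 0)))) (.node (.node (.node (.leaf (279, 0)) (.leaf (1042, 23))) (.leaf (124, 0))) (.node (.node (.leaf (426, 4)) (.leaf (701, 15))) (.leaf (417, 13))))) (.node (.node (.node (.node (.leaf (169, 0)) (.leaf (1016, 45))) (.leaf (912, 0))) (.node (.node (.leaf (575, 0)) (.leaf (759, 32))) (.leaf (166, 0)))) (.node (.node (.node (.leaf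 (141, 38)) (.leaf (1495, 0))) (.leaf (1066, 0))) (.node (.node (.leaf (595, 24)) (.leaf (1332, 11))) (.leaf (1325, 0)))))) (.node (.node (.node (.node (.node (.leaf (113, 0)) (.leaf (1397, 0))) (.node (.leaf (873, 0)) (.leaf (1363, 93)))) (.node (.node (.leaf (25, 0)) (.leaf (1052, 82))) (.leaf (290, 105)))) (.node (.node (.node (.leaf (330, 0)) (.leaf (654, 82))) (.leaf (690, 8))) (.node (.node (.leaf (520, 36)) (.leaf (638, 33))) (.leaf (1295, 0))))) (.node (.node (.node (.node (.leaf (225, 0)) (.leaf (1396, 93))) (.leaf (953, 0))) (.node (.node (.leaf (615, 0)) (.leaf (745, 105))) (.leaf (1245, 0)))) (.node (.node (.node (.leaf (204, 83)) (.leaf (1510, 0))) (.leaf (1100, 0))) (.node (.node (.leaf (789, 0)) (.leaf (1592, 0))) (.leaf (960, 5))))))))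

def schY12 : Tree (ℕ × ℕ) :=
  (.node (.node (.node (.node (.node (.node (.node (.leaf (26, 0)) (.leaf (1367, 0))) (.node (.leaf (815, 0)) (.leaf (1586, 4)))) (.node (.node (.leaf (456, 0)) (.leaf (1522, 0))) (.leaf (396, 48)))) (.node (.node (.node (.leaf (57, 25)) (.leaf (637, 29))) (.leaf (973, 0))) (.node (.node (.leaf (642, 0)) (.leaf (1569, 0))) (.leaf (163, 90))))) (.node (.node (.node (.node (.leaf (41, 8)) (.leaf (894, 69))) (.leaf (897, 0))) (.node (.node (.leaf (553, 0)) (.leaf (1543, 0))) (.leaf (1198, 0)))) (.node (.node (.node (.leaf (357, 0)) (.leaf (194, 0))) (.leaf (1048, 0))) (.node (.node (.leaf (297, 44)) (.leaf (405, 52))) (.leaf (1312, 0)))))) (.node (.node (.node (.node (.node (.leaf (1, 0)) (.leaf (1391, 0))) (.node (.leaf (856, 0)) (.leaf (983, 100)))) (.node (.node (.leaf (506, 0)) (.leaf (1515, 41))) (.leaf (923, 41)))) (.node (.node (.node (.leaf (305, 0)) (.leaf (1433, 109))) (.leaf (570, 25))) (.node (.node (.leaf (682, 0)) (.leaf (1378, 66))) (.leaf (1287, 0))))) (.node (.node (.node (.node (.leaf (199, 0)) (.leaf (1175, 101))) (.leaf (932, 0))) (.node (.node (.leaf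 (183, 37)) (.leaf (1438, 68))) (.leaf (1232, 0)))) (.node (.node (.node (.leaf (404, 0)) (.leaf (1142, 14))) (.leaf (83, 0))) (.node (.node (.leaf (765, 0)) (.leaf (1589, 0))) (.leaf (1123, 54))))))) (.node (.node (.node (.node (.node (.node (.leaf (56, 0)) (.leaf (1153, 24))) (.node (.leaf (830, 0)) (.leaf (976, 61)))) (.node (.node (.leaf (482, 0)) (.leaf (1422, 8))) (.leaf (1139, 0)))) (.node (.node (.node (.leaf (281, 0)) (.leaf (1440, 109))) (.leaf (991, 0))) (.node (.node (.leaf (455, 102)) (.leaf (1567, 3))) (.leaf (1271, 0))))) (.node (.node (.node (.node (.leaf (85, 25)) (.leaf (1298, 89))) (.leaf (914, 0))) (.node (.node (.leaf (577, 0)) (.leaf (1499, 53))) (.leaf (727, 77)))) (.node (.node (.node (.leaf (382, 0)) (.leaf (507, 9))) (.leaf (773, 5))) (.node (.node (.leaf (742, 0)) (.leaf (1099, 92))) (.leaf (988, 36)))))) (.node (.node (.node (.node (.node (.leaf (115, 0)) (.leaf (1155, 90))) (.leaf (874, 0))) (.node (.node (.leaf (529, 0)) (.leaf (1539, 0))) (.leaf (1177, 0)))) (.node (.node (.node (.leaf (332, 0)) (.leaf (803, 63))) (.leaf (1034, 0))) (.node (.node (.leaf (614, 1))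 (.leaf (1488, 71))) (.leaf (1297, 0))))) (.node (.node (.node (.node (.leaf (226, 0)) (.leaf (173, 0))) (.leaf (955, 0))) (.node (.node (.leaf (617, 0)) (.leaf (1214, 61))) (.leaf (1065, 108)))) (.node (.node (.node (.leaf (432, 0)) (.leaf (1512, 0))) (.leaf (1102, 0))) (.node (.node (.leaf (791, 0)) (.leaf (1546, 97))) (.leaf (1354, 0))))))))

def schY13 : Tree (ℕ × ℕ) :=
  (.node (.node (.node (.node (.node (.node (.node (.leaf (27, 0)) (.leaf (1049, 92))) (.node (.leaf (144, 59)) (.leaf (1590, 72)))) (.node (.node (.leaf (122, 74)) (.leaf (1511, 67))) (.leaf (776, 21)))) (.node (.node (.node (.leaf (255, 0)) (.leaf (1162, 75))) (.leaf (496, 105))) (.node (.node (.leaf (643, 0)) (.leaf (1542, 42))) (.leaf (589, 9))))) (.node (.node (.node (.node (.leaf (61, 15)) (.leaf (1068, 73))) (.leaf (464, 82))) (.node (.node (.leaf (555, 0)) (.leaf (810, 96))) (.leaf (1013, 23)))) (.node (.node (.node (.leaf (359, 0)) (.leaf (626, 10))) (.leaf (1050, 0))) (.node (.node (.leaf (723, 0)) (.leaf (483, 98))) (.leaf (857, 98)))))) (.node (.node (.node (.node (.node (.leaf (28, 65)) (.leaf (295, 11))) (.node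 (.leaf (858, 0)) (.leaf (1316, 31)))) (.node (.node (.leaf (508, 0)) (.leaf (1504, 91))) (.leaf (95, 0)))) (.node (.node (.node (.leaf (307, 0)) (.leaf (1469, 0))) (.leaf (453, 28))) (.node (.node (.leaf (440, 2)) (.leaf (1493, 96))) (.leaf (1056, 76))))) (.node (.node (.node (.node (.leaf (201, 0)) (.leaf (1431, 0))) (.leaf (683, 36))) (.node (.node (.leaf (110, 25)) (.leaf (274, 0))) (.leaf (750, 55)))) (.node (.node (.node (.leaf (69, 79)) (.leaf (1012, 37))) (.leaf (236, 104))) (.node (.node (.leaf (766, 0)) (.leaf (1197, 91))) (.leaf (790, 17))))))) (.node (.node (.node (.node (.node (.node (.leaf (0, 0)) (.leaf (329, 32))) (.node (.leaf (832, 0)) (.leaf (929, 29)))) (.node (.node (.leaf (338, 45)) (.leaf (1530, 0))) (.leaf (1141, 0)))) (.node (.node (.node (.leaf (283, 0)) (.leaf (1149, 109))) (.leaf (992, 0))) (.node (.node (.leaf (664, 0)) (.leaf (1536, 106))) (.leaf (441, 105))))) (.node (.node (.node (.node (.leaf (172, 0)) (.leaf (1421, 0))) (.leaf (476, 28))) (.node (.node (.leaf (379, 102)) (.leaf (1463, 32))) (.leaf (1216, 0)))) (.node (.node (.node (.leaf (383, 0)) (.leaf (777,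 84))) (.leaf (1069, 0))) (.node (.node (.leaf (744, 0)) (.leaf (1585, 0))) (.leaf (419, 38)))))) (.node (.node (.node (.node (.node (.leaf (117, 0)) (.leaf (1400, 0))) (.leaf (876, 0))) (.node (.node (.leaf (531, 0)) (.leaf (879, 57))) (.leaf (1178, 0)))) (.node (.node (.node (.leaf (334, 0)) (.leaf (1479, 0))) (.leaf (987, 99))) (.node (.node (.leaf (669, 39)) (.leaf (933, 19))) (.leaf (1299, 0))))) (.node (.node (.node (.node (.leaf (228, 0)) (.leaf (1427, 45))) (.leaf (957, 0))) (.node (.node (.leaf (365, 93)) (.leaf (1486, 70))) (.leaf (251, 107)))) (.node (.node (.node (.leaf (342, 90)) (.leaf (1514, 0))) (.leaf (340, 95))) (.node (.node (.leaf (345, 77)) (.leaf (1527, 15))) (.leaf (1355, 0))))))))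

def schY14 : Tree (ℕ × ℕ) :=
  (.node (.node (.node (.node (.node (.node (.node (.leaf (29, 0)) (.leaf (145, 0))) (.node (.leaf (128, 101)) (.leaf (729, 48)))) (.node (.node (.leaf (459, 0)) (.leaf (1021, 92))) (.leaf (424, 45)))) (.node (.node (.node (.leaf (257, 0)) (.leaf (819, 99))) (.leaf (975, 0))) (.node (.node (.leaf (468, 108)) (.leaf (1570, 0))) (.leaf (1238, 54))))) (.node (.node (.node (.node (.leaf (146, 0)) (.leaf (401, 34))) (.leaf (58, 0))) (.node (.node (.leaf (557, 0)) (.leaf (799, 59))) (.leaf (888, 15)))) (.node (.node (.node (.leaf (361, 0)) (.leaf (1487, 0))) (.leaf (633, 106))) (.node (.node (.leaf (560, 103)) (.leaf (877, 95))) (.leaf (1315, 0)))))) (.node (.node (.node (.node (.node (.leaf (88, 0)) (.leaf (331, 19))) (.node (.leaf (860, 0)) (.leaf (1051, 5)))) (.node (.node (.leaf (510, 0)) (.leaf (1485, 29))) (.leaf (1163, 0)))) (.node (.node (.node (.leaf (309, 0)) (.leaf (657, 64))) (.leaf (1015, 0))) (.node (.node (.leaf (685, 0)) (.leaf (1561, 60))) (.leaf (1289, 0))))) (.node (.node (.node (.node (.leaf (203, 0)) (.leaf (1432, 0))) (.leaf (935, 0))) (.node (.node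 (.leaf (430, 29)) (.leaf (1541, 22))) (.leaf (775, 90)))) (.node (.node (.node (.leaf (407, 0)) (.leaf (715, 53))) (.leaf (1090, 0))) (.node (.node (.leaf (768, 0)) (.leaf (1525, 39))) (.leaf (1057, 19))))))) (.node (.node (.node (.node (.node (.node (.leaf (59, 0)) (.leaf (1382, 0))) (.node (.leaf (833, 0)) (.leaf (1347, 1)))) (.node (.node (.leaf (484, 0)) (.leaf (231, 0))) (.leaf (1062, 25)))) (.node (.node (.node (.leaf (284, 0)) (.leaf (1461, 0))) (.leaf (786, 68))) (.node (.node (.leaf (665, 0)) (.leaf (1575, 0))) (.leaf (989, 7))))) (.node (.node (.node (.node (.leaf (174, 0)) (.leaf (585, 56))) (.leaf (211, 4))) (.node (.node (.leaf (31, 25)) (.leaf (940, 70))) (.leaf (390, 21)))) (.node (.node (.node (.leaf (263, 45)) (.leaf (238, 70))) (.leaf (1071, 0))) (.node (.node (.leaf (746, 0)) (.leaf (1359, 101))) (.leaf (387, 80)))))) (.node (.node (.node (.node (.node (.leaf (119, 0)) (.leaf (747, 105))) (.leaf (878, 0))) (.node (.node (.leaf (533, 0)) (.leaf (834, 11))) (.leaf (1179, 0)))) (.node (.node (.node (.leaf (336, 0)) (.leaf (1116, 0))) (.leaf (1035, 0))) (.node (.node (.leaf (704,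 0)) (.leaf (1083, 53))) (.leaf (1225, 23))))) (.node (.node (.node (.node (.leaf (230, 0)) (.leaf (414, 24))) (.leaf (959, 0))) (.node (.node (.leaf (619, 0)) (.leaf (1402, 54))) (.leaf (1248, 0)))) (.node (.node (.node (.leaf (317, 80)) (.leaf (994, 7))) (.leaf (1105, 0))) (.node (.node (.leaf (227, 89)) (.leaf (1549, 77))) (.leaf (845, 25))))))))

def schY15 : Tree (ℕ × ℕ) :=
  (.node (.node (.node (.node (.node (.node (.node (.leaf (30, 0)) (.leaf (1368, 0))) (.node (.leaf (147, 45)) (.leaf (556, 93)))) (.node (.node (.leaf (461, 0)) (.leaf (1258, 29))) (.leaf (1125, 0)))) (.node (.node (.node (.leaf (259, 0)) (.leaf (1453, 0))) (.leaf (977, 0))) (.node (.node (.leaf (645, 0)) (.leaf (1262, 7))) (.leaf (1259, 0))))) (.node (.node (.node (.node (.leaf (148, 0)) (.leaf (915, 70))) (.leaf (224, 37))) (.node (.node (.leaf (559, 0)) (.leaf (1199, 51))) (.leaf (1087, 33)))) (.node (.node (.node (.leaf (363, 0)) (.leaf (1434, 3))) (.leaf (699, 85))) (.node (.node (.leaf (724, 0)) (.leaf (1132, 64))) (.leaf (1317, 0)))))) (.node (.node (.node (.node (.node (.leaf (90, 0)) (.leaf (153, 0))) (.node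 (.leaf (862, 0)) (.leaf (721, 20)))) (.node (.node (.leaf (423, 14)) (.leaf (1535, 0))) (.leaf (1165, 0)))) (.node (.node (.node (.leaf (311, 0)) (.leaf (919, 30))) (.leaf (403, 18))) (.node (.node (.leaf (686, 0)) (.leaf (821, 39))) (.leaf (1290, 0))))) (.node (.node (.node (.node (.leaf (205, 0)) (.leaf (911, 55))) (.leaf (937, 0))) (.node (.node (.leaf (178, 31)) (.leaf (1509, 89))) (.leaf (1233, 0)))) (.node (.node (.node (.leaf (409, 0)) (.leaf (558, 26))) (.leaf (320, 14))) (.node (.node (.leaf (770, 0)) (.leaf (1124, 106))) (.leaf (1345, 0))))))) (.node (.node (.node (.node (.node (.node (.leaf (60, 0)) (.leaf (1285, 100))) (.node (.leaf (134, 45)) (.leaf (950, 15)))) (.node (.node (.leaf (71, 57)) (.leaf (1236, 65))) (.leaf (1143, 0)))) (.node (.node (.node (.leaf (49, 90)) (.leaf (534, 96))) (.leaf (995, 0))) (.node (.node (.leaf (644, 96)) (.leaf (1328, 33))) (.leaf (1272, 0))))) (.node (.node (.node (.node (.leaf (175, 0)) (.leaf (1423, 0))) (.leaf (917, 0))) (.node (.node (.leaf (536, 14)) (.leaf (1375, 106))) (.leaf (1218, 0)))) (.node (.node (.node (.leaf (386, 0)) (.leaf (1498,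 0))) (.leaf (1073, 0))) (.node (.node (.leaf (748, 0)) (.leaf (618, 67))) (.leaf (926, 105)))))) (.node (.node (.node (.node (.node (.leaf (121, 0)) (.leaf (849, 42))) (.leaf (880, 0))) (.node (.node (.leaf (149, 5)) (.leaf (354, 17))) (.leaf (1181, 0)))) (.node (.node (.node (.leaf (13, 0)) (.leaf (1481, 0))) (.leaf (1036, 0))) (.node (.node (.leaf (105, 90)) (.leaf (1204, 95))) (.leaf (1302, 0))))) (.node (.node (.node (.node (.leaf (232, 0)) (.leaf (1444, 0))) (.leaf (934, 17))) (.node (.node (.leaf (621, 0)) (.leaf (1101, 45))) (.leaf (1249, 0)))) (.node (.node (.node (.leaf (99, 64)) (.leaf (1516, 0))) (.leaf (1107, 0))) (.node (.node (.leaf (792, 0)) (.leaf (1146, 42))) (.leaf (1357, 0))))))))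

def schY : Tree (ℕ × ℕ) :=
  (.node (.node (.node (.node schY0 schY8) (.node schY4 schY12)) (.node (.node schY2 schY10) (.node schY6 schY14))) (.node (.node (.node schY1 schY9) (.node schY5 schY13)) (.node (.node schY3 schY11) (.node schY7 schY15))))

def borelTab0 : Tree (ℕ) :=
  (.node (.node (.node (.node (.node (.node (.node (.node (.node (.node (.leaf 0) (.leaf 106)) (.leaf 63)) (.node (.node (.leaf 86) (.leaf 63)) (.leaf 79))) (.node (.node (.node (.leaf 73) (.leaf 69)) (.leaf 36)) (.node (.node (.leaf 69) (.leaf 46)) (.leaf 53)))) (.node (.node (.node (.node (.leaf 26) (.leaf 23)) (.leaf 9)) (.node (.node (.leaf 43) (.leaf 109)) (.leaf 6))) (.node (.node (.node (.leaf 49) (.leaf 96)) (.leaf 93)) (.node (.node (.leaf 56) (.leaf 103)) (.leaf 59))))) (.node (.node (.node (.node (.node (.leaf 18) (.leaf 24)) (.leaf 61)) (.node (.node (.leaf 14) (.leaf 51)) (.leaf 8))) (.node (.node (.node (.leaf 41) (.leaf 68)) (.leaf 94)) (.node (.node (.leaf 58) (.leaf 64)) (.leaf 81)))) (.node (.node (.node (.node (.leaf 24) (.leaf 71)) (.leaf 38)) (.node (.node (.leaf 71) (.leaf 108)) (.leaf 94))) (.node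 (.node (.node (.leaf 68) (.leaf 64)) (.leaf 11)) (.node (.node (.leaf 94) (.leaf 11)) (.leaf 8)))))) (.node (.node (.node (.node (.node (.node (.leaf 29) (.leaf 5)) (.leaf 42)) (.node (.node (.leaf 55) (.leaf 82)) (.leaf 59))) (.node (.node (.node (.leaf 62) (.leaf 38)) (.leaf 95)) (.node (.node (.leaf 89) (.leaf 35)) (.leaf 2)))) (.node (.node (.node (.node (.leaf 25) (.leaf 2)) (.leaf 49)) (.node (.node (.leaf 2) (.leaf 68)) (.leaf 95))) (.node (.node (.node (.leaf 9) (.leaf 5)) (.leaf 102)) (.node (.node (.leaf 15) (.leaf 52)) (.leaf 68))))) (.node (.node (.node (.node (.node (.leaf 77) (.leaf 3)) (.leaf 10)) (.node (.node (.leaf 64) (.leaf 80)) (.leaf 17))) (.node (.node (.node (.leaf 0) (.leaf 77)) (.leaf 54)) (.node (.node (.leaf 7) (.leaf 13)) (.leaf 50)))) (.node (.node (.node (.node (.leaf 34) (.leaf 100)) (.leaf 7)) (.node (.node (.leaf 80) (.leaf 37)) (.leaf 64))) (.node (.node (.node (.leaf 37) (.leaf 73)) (.leaf 70)) (.node (.leaf 34) (.leaf 97))))))) (.node (.node (.node (.node (.node (.node (.node (.leaf 64) (.leaf 71)) (.leaf 7)) (.node (.node (.leaf 21) (.leaf 107)) (.leaf 84)))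 (.node (.node (.node (.leaf 107) (.leaf 64)) (.leaf 1)) (.node (.node (.leaf 64) (.leaf 60)) (.leaf 97)))) (.node (.node (.node (.node (.leaf 91) (.leaf 57)) (.leaf 24)) (.node (.node (.leaf 87) (.leaf 74)) (.leaf 81))) (.node (.node (.node (.leaf 94) (.leaf 81)) (.leaf 107)) (.node (.node (.leaf 1) (.leaf 47)) (.leaf 4))))) (.node (.node (.node (.node (.node (.leaf 72) (.leaf 29)) (.leaf 56)) (.node (.node (.leaf 19) (.leaf 96)) (.leaf 72))) (.node (.node (.node (.leaf 96) (.leaf 52)) (.leaf 19)) (.node (.node (.leaf 12) (.leaf 79)) (.leaf 66)))) (.node (.node (.node (.node (.leaf 99) (.leaf 86)) (.leaf 2)) (.node (.node (.leaf 96) (.leaf 62)) (.leaf 59))) (.node (.node (.node (.leaf 52) (.leaf 49)) (.leaf 106)) (.node (.node (.leaf 99) (.leaf 45)) (.leaf 62)))))) (.node (.node (.node (.node (.node (.node (.leaf 53) (.leaf 30)) (.leaf 6)) (.node (.node (.leaf 60) (.leaf 106)) (.leaf 33))) (.node (.node (.node (.leaf 17) (.leaf 33)) (.leaf 20)) (.node (.node (.leaf 3) (.leaf 40)) (.leaf 86)))) (.node (.node (.node (.node (.leaf 30) (.leaf 66)) (.leaf 53)) (.node (.node (.leaf 27) (.leaf 63))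 (.leaf 30))) (.node (.node (.node (.leaf 53) (.leaf 0)) (.leaf 16)) (.node (.node (.leaf 70) (.leaf 16)) (.leaf 83))))) (.node (.node (.node (.node (.node (.leaf 2) (.leaf 38)) (.leaf 105)) (.node (.node (.leaf 88) (.leaf 55)) (.leaf 101))) (.node (.node (.node (.leaf 5) (.leaf 51)) (.leaf 8)) (.node (.node (.leaf 32) (.leaf 8)) (.leaf 75)))) (.node (.node (.node (.node (.leaf 28) (.leaf 25)) (.leaf 51)) (.node (.node (.leaf 15) (.leaf 61)) (.leaf 38))) (.node (.node (.node (.leaf 12) (.leaf 78)) (.leaf 25)) (.node (.leaf 8) (.leaf 21)))))))) (.node (.node (.node (.node (.node (.node (.node (.node (.leaf 32) (.leaf 38)) (.leaf 55)) (.node (.node (.leaf 98) (.leaf 85)) (.leaf 32))) (.node (.node (.node (.leaf 35) (.leaf 82)) (.leaf 88)) (.node (.node (.leaf 82) (.leaf 58)) (.leaf 15)))) (.node (.node (.node (.node (.leaf 68) (.leaf 95)) (.leaf 12)) (.node (.node (.leaf 65) (.leaf 92)) (.leaf 38))) (.node (.node (.node (.leaf 2) (.leaf 108)) (.leaf 45)) (.node (.node (.leaf 68) (.leaf 95)) (.leaf 82))))) (.node (.node (.node (.node (.node (.leaf 20) (.leaf 37)) (.leaf 23)) (.node (.node (.leaf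 67) (.leaf 23)) (.leaf 90))) (.node (.node (.node (.leaf 103) (.leaf 0)) (.leaf 107)) (.node (.node (.leaf 90) (.leaf 107)) (.leaf 73)))) (.node (.node (.node (.node (.leaf 107) (.leaf 23)) (.leaf 70)) (.node (.node (.leaf 43) (.leaf 30)) (.leaf 37))) (.node (.node (.node (.leaf 0) (.leaf 97)) (.leaf 3)) (.node (.node (.leaf 17) (.leaf 83)) (.leaf 10)))))) (.node (.node (.node (.node (.node (.node (.leaf 101) (.leaf 87)) (.leaf 24)) (.node (.node (.leaf 28) (.leaf 64)) (.leaf 41))) (.node (.node (.node (.leaf 94) (.leaf 61)) (.leaf 48)) (.node (.node (.leaf 41) (.leaf 57)) (.leaf 54)))) (.node (.node (.node (.node (.leaf 98) (.leaf 34)) (.leaf 61)) (.node (.node (.leaf 94) (.leaf 101)) (.leaf 47))) (.node (.node (.node (.leaf 81) (.leaf 77)) (.leaf 4)) (.node (.node (.leaf 38) (.leaf 34)) (.leaf 21))))) (.node (.node (.node (.node (.node (.leaf 99) (.leaf 26)) (.leaf 43)) (.node (.node (.leaf 76) (.leaf 22)) (.leaf 39))) (.node (.node (.node (.leaf 93) (.leaf 69)) (.leaf 86)) (.node (.node (.leaf 69) (.leaf 66)) (.leaf 32)))) (.node (.node (.node (.node (.leaf 16) (.leaf 42)) (.leaf 89)) (.node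 (.node (.leaf 23) (.leaf 99)) (.leaf 106))) (.node (.node (.node (.leaf 29) (.leaf 66)) (.leaf 2)) (.node (.leaf 66) (.leaf 9))))))) (.node (.node (.node (.node (.node (.node (.node (.leaf 96) (.leaf 43)) (.leaf 60)) (.node (.node (.leaf 93) (.leaf 19)) (.leaf 6))) (.node (.node (.node (.leaf 30) (.leaf 106)) (.leaf 103)) (.node (.node (.leaf 46) (.leaf 13)) (.leaf 60)))) (.node (.node (.node (.node (.leaf 63) (.leaf 80)) (.leaf 36)) (.node (.node (.leaf 70) (.leaf 56)) (.leaf 33))) (.node (.node (.node (.leaf 26) (.leaf 43)) (.leaf 50)) (.node (.node (.leaf 103) (.leaf 39)) (.leaf 36))))) (.node (.node (.node (.node (.node (.leaf 55) (.leaf 11)) (.leaf 88)) (.node (.node (.leaf 91) (.leaf 38)) (.leaf 55))) (.node (.node (.node (.leaf 108) (.leaf 104)) (.leaf 81)) (.node (.node (.leaf 55) (.leaf 41)) (.leaf 78)))) (.node (.node (.node (.node (.leaf 81) (.leaf 98)) (.leaf 35)) (.node (.node (.leaf 38) (.leaf 94)) (.leaf 71))) (.node (.node (.node (.leaf 85) (.leaf 11)) (.leaf 38)) (.node (.leaf 61) (.leaf 75)))))) (.node (.node (.node (.node (.node (.node (.leaf 6) (.leaf 82)) (.leaf 109)) (.node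 (.node (.leaf 92) (.leaf 89)) (.leaf 25))) (.node (.node (.node (.leaf 79) (.leaf 105)) (.leaf 2)) (.node (.node (.leaf 75) (.leaf 82)) (.leaf 99)))) (.node (.node (.node (.node (.leaf 82) (.leaf 109)) (.leaf 75)) (.node (.node (.leaf 109) (.leaf 25)) (.leaf 82))) (.node (.node (.node (.leaf 16) (.leaf 32)) (.leaf 109)) (.node (.node (.leaf 2) (.leaf 59)) (.leaf 35))))) (.node (.node (.node (.node (.node (.leaf 94) (.leaf 10)) (.leaf 57)) (.node (.node (.leaf 90) (.leaf 7)) (.leaf 84))) (.node (.node (.node (.leaf 27) (.leaf 4)) (.leaf 40)) (.node (.node (.leaf 44) (.leaf 50)) (.leaf 37)))) (.node (.node (.node (.node (.leaf 1) (.leaf 47)) (.leaf 4)) (.node (.node (.leaf 77) (.leaf 34)) (.leaf 70))) (.node (.node (.node (.leaf 104) (.leaf 80)) (.leaf 107)) (.node (.leaf 50) (.leaf 64))))))))) (.node (.node (.node (.node (.node (.node (.node (.node (.node (.leaf 16) (.leaf 42)) (.leaf 99)) (.node (.node (.leaf 32) (.leaf 39)) (.leaf 56))) (.node (.node (.node (.leaf 89) (.leaf 5)) (.leaf 12)) (.node (.node (.leaf 26) (.leaf 12)) (.leaf 39)))) (.node (.node (.node (.node (.leaf 72) (.leaf 39))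 (.leaf 46)) (.node (.node (.leaf 19) (.leaf 65)) (.leaf 22))) (.node (.node (.node (.leaf 66) (.leaf 42)) (.leaf 9)) (.node (.node (.leaf 22) (.leaf 29)) (.leaf 5))))) (.node (.node (.node (.node (.node (.leaf 94) (.leaf 90)) (.leaf 17)) (.node (.node (.leaf 41) (.leaf 37)) (.leaf 34))) (.node (.node (.node (.leaf 67) (.leaf 44)) (.leaf 41)) (.node (.node (.leaf 74) (.leaf 0)) (.leaf 7)))) (.node (.node (.node (.node (.leaf 71) (.leaf 97)) (.leaf 24)) (.node (.node (.leaf 57) (.leaf 14)) (.leaf 20))) (.node (.node (.node (.leaf 44) (.leaf 80)) (.leaf 67)) (.node (.node (.leaf 31) (.leaf 77)) (.leaf 84)))))) (.node (.node (.node (.node (.node (.node (.leaf 65) (.leaf 101)) (.leaf 108)) (.node (.node (.leaf 61) (.leaf 78)) (.leaf 15))) (.node (.node (.node (.leaf 78) (.leaf 75)) (.leaf 11)) (.node (.node (.leaf 35) (.leaf 1)) (.leaf 78)))) (.node (.node (.node (.node (.leaf 11) (.leaf 18)) (.leaf 95)) (.node (.node (.leaf 108) (.leaf 95)) (.leaf 21))) (.node (.node (.node (.leaf 95) (.leaf 11)) (.leaf 38)) (.node (.node (.leaf 91) (.leaf 8)) (.leaf 95))))) (.node (.node (.node (.node (.node (.leaf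 13) (.leaf 100)) (.leaf 26)) (.node (.node (.leaf 100) (.leaf 46)) (.leaf 23))) (.node (.node (.node (.leaf 86) (.leaf 33)) (.leaf 70)) (.node (.node (.leaf 43) (.leaf 100)) (.leaf 86)))) (.node (.node (.node (.node (.leaf 90) (.leaf 76)) (.leaf 103)) (.node (.node (.leaf 46) (.leaf 73)) (.leaf 0))) (.node (.node (.node (.leaf 103) (.leaf 90)) (.leaf 66)) (.node (.leaf 100) (.leaf 33))))))) (.node (.node (.node (.node (.node (.node (.node (.leaf 80) (.leaf 57)) (.leaf 73)) (.node (.node (.leaf 87) (.leaf 43)) (.leaf 40))) (.node (.node (.node (.leaf 14) (.leaf 0)) (.leaf 37)) (.node (.node (.leaf 10) (.leaf 77)) (.leaf 83)))) (.node (.node (.node (.node (.leaf 77) (.leaf 63)) (.leaf 60)) (.node (.node (.leaf 24) (.leaf 20)) (.leaf 107))) (.node (.node (.node (.leaf 30) (.leaf 37)) (.leaf 33)) (.node (.node (.leaf 57) (.leaf 3)) (.leaf 20))))) (.node (.node (.node (.node (.node (.leaf 9) (.leaf 95)) (.leaf 72)) (.node (.node (.leaf 55) (.leaf 72)) (.leaf 28))) (.node (.node (.node (.leaf 62) (.leaf 18)) (.leaf 75)) (.node (.node (.leaf 28) (.leaf 55)) (.leaf 12)))) (.node (.node (.node (.node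 (.leaf 55) (.leaf 52)) (.leaf 108)) (.node (.node (.leaf 72) (.leaf 78)) (.leaf 105))) (.node (.node (.node (.leaf 19) (.leaf 85)) (.leaf 42)) (.node (.leaf 75) (.leaf 108)))))) (.node (.node (.node (.node (.node (.node (.leaf 79) (.leaf 106)) (.leaf 93)) (.node (.node (.leaf 76) (.leaf 42)) (.leaf 69))) (.node (.node (.node (.leaf 53) (.leaf 19)) (.leaf 56)) (.node (.node (.leaf 19) (.leaf 36)) (.leaf 63)))) (.node (.node (.node (.node (.leaf 106) (.leaf 83)) (.leaf 29)) (.node (.node (.leaf 13) (.leaf 79)) (.leaf 6))) (.node (.node (.node (.leaf 39) (.leaf 16)) (.leaf 23)) (.node (.node (.leaf 66) (.leaf 72)) (.leaf 109))))) (.node (.node (.node (.node (.node (.leaf 108) (.leaf 64)) (.leaf 31)) (.node (.node (.leaf 54) (.leaf 81)) (.leaf 68))) (.node (.node (.node (.leaf 81) (.leaf 88)) (.leaf 24)) (.node (.node (.leaf 78) (.leaf 94)) (.leaf 81)))) (.node (.node (.node (.node (.leaf 54) (.leaf 101)) (.leaf 28)) (.node (.node (.leaf 41) (.leaf 87)) (.leaf 24))) (.node (.node (.node (.leaf 78) (.leaf 44)) (.leaf 11)) (.node (.leaf 94) (.leaf 78)))))))) (.node (.node (.node (.node (.node (.node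 (.node (.node (.leaf 48) (.leaf 24)) (.leaf 81)) (.node (.node (.leaf 15) (.leaf 51)) (.leaf 108))) (.node (.node (.node (.leaf 41) (.leaf 78)) (.leaf 64)) (.node (.node (.leaf 38) (.leaf 24)) (.leaf 1)))) (.node (.node (.node (.node (.leaf 105) (.leaf 101)) (.leaf 58)) (.node (.node (.leaf 31) (.leaf 48)) (.leaf 54))) (.node (.node (.node (.leaf 108) (.leaf 24)) (.leaf 81)) (.node (.node (.leaf 35) (.leaf 11)) (.leaf 98))))) (.node (.node (.node (.node (.node (.leaf 106) (.leaf 103)) (.leaf 40)) (.node (.node (.leaf 103) (.leaf 9)) (.leaf 16))) (.node (.node (.node (.leaf 10) (.leaf 76)) (.leaf 3)) (.node (.node (.leaf 106) (.leaf 93)) (.leaf 109)))) (.node (.node (.node (.node (.leaf 63) (.leaf 49)) (.leaf 66)) (.node (.node (.leaf 20) (.leaf 46)) (.leaf 83))) (.node (.node (.node (.leaf 76) (.leaf 23)) (.leaf 89)) (.node (.node (.leaf 3) (.leaf 99)) (.leaf 96)))))) (.node (.node (.node (.node (.node (.node (.leaf 17) (.leaf 74)) (.leaf 80)) (.node (.node (.leaf 44) (.leaf 0)) (.leaf 77))) (.node (.node (.node (.leaf 0) (.leaf 47)) (.leaf 74)) (.node (.node (.leaf 107) (.leaf 104)) (.leaf 10))))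 (.node (.node (.node (.node (.leaf 74) (.leaf 50)) (.leaf 7)) (.node (.node (.leaf 30) (.leaf 57)) (.leaf 104))) (.node (.node (.node (.leaf 67) (.leaf 94)) (.leaf 40)) (.node (.node (.leaf 24) (.leaf 90)) (.leaf 47))))) (.node (.node (.node (.node (.node (.leaf 35) (.leaf 82)) (.leaf 69)) (.node (.node (.leaf 42) (.leaf 99)) (.leaf 95))) (.node (.node (.node (.leaf 69) (.leaf 25)) (.leaf 102)) (.node (.node (.leaf 105) (.leaf 42)) (.leaf 19)))) (.node (.node (.node (.node (.leaf 72) (.leaf 89)) (.leaf 65)) (.node (.node (.leaf 59) (.leaf 25)) (.leaf 42))) (.node (.node (.node (.leaf 95) (.leaf 32)) (.leaf 49)) (.node (.leaf 42) (.leaf 55))))))) (.node (.node (.node (.node (.node (.node (.node (.leaf 3) (.leaf 29)) (.leaf 96)) (.node (.node (.leaf 109) (.leaf 36)) (.leaf 92))) (.node (.node (.node (.leaf 46) (.leaf 42)) (.leaf 29)) (.node (.node (.leaf 102) (.leaf 99)) (.leaf 26)))) (.node (.node (.node (.node (.leaf 49) (.leaf 96)) (.leaf 2)) (.node (.node (.leaf 66) (.leaf 2)) (.leaf 59))) (.node (.node (.node (.leaf 72) (.leaf 59)) (.leaf 26)) (.node (.node (.leaf 79) (.leaf 106)) (.leaf 52)))))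 (.node (.node (.node (.node (.node (.leaf 21) (.leaf 47)) (.leaf 104)) (.node (.node (.leaf 7) (.leaf 14)) (.leaf 61))) (.node (.node (.node (.leaf 74) (.leaf 41)) (.leaf 37)) (.node (.node (.leaf 91) (.leaf 27)) (.leaf 104)))) (.node (.node (.node (.node (.leaf 8) (.leaf 64)) (.leaf 21)) (.node (.node (.leaf 14) (.leaf 11)) (.leaf 17))) (.node (.node (.node (.leaf 1) (.leaf 37)) (.leaf 24)) (.node (.leaf 47) (.leaf 41)))))) (.node (.node (.node (.node (.node (.node (.leaf 82) (.leaf 48)) (.leaf 55)) (.node (.node (.leaf 108) (.leaf 65)) (.leaf 52))) (.node (.node (.node (.leaf 5) (.leaf 91)) (.leaf 68)) (.node (.node (.leaf 42) (.leaf 78)) (.leaf 55)))) (.node (.node (.node (.node (.leaf 48) (.leaf 35)) (.leaf 42)) (.node (.node (.leaf 85) (.leaf 31)) (.leaf 18))) (.node (.node (.node (.leaf 102) (.leaf 48)) (.leaf 45)) (.node (.node (.leaf 108) (.leaf 5)) (.leaf 72))))) (.node (.node (.node (.node (.node (.leaf 30) (.leaf 46)) (.leaf 93)) (.node (.node (.leaf 107) (.leaf 73)) (.leaf 100))) (.node (.node (.node (.leaf 73) (.leaf 60)) (.leaf 57)) (.node (.node (.leaf 80) (.leaf 16)) (.leaf 43))))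 (.node (.node (.node (.node (.leaf 67) (.leaf 93)) (.leaf 70)) (.node (.node (.leaf 33) (.leaf 70)) (.leaf 67))) (.node (.node (.node (.leaf 50) (.leaf 56)) (.leaf 93)) (.node (.leaf 107) (.leaf 0))))))))))

def borelTab1 : Tree (ℕ) :=
  (.node (.node (.node (.node (.node (.node (.node (.node (.node (.node (.leaf 1) (.leaf 107)) (.leaf 64)) (.node (.node (.leaf 87) (.leaf 64)) (.leaf 70))) (.node (.node (.node (.leaf 74) (.leaf 60)) (.leaf 37)) (.node (.node (.leaf 60) (.leaf 47)) (.leaf 54)))) (.node (.node (.node (.node (.leaf 27) (.leaf 24)) (.leaf 0)) (.node (.node (.leaf 44) (.leaf 100)) (.leaf 7))) (.node (.node (.node (.leaf 40) (.leaf 97)) (.leaf 94)) (.node (.node (.leaf 57) (.leaf 104)) (.leaf 50))))) (.node (.node (.node (.node (.node (.leaf 19) (.leaf 25)) (.leaf 62)) (.node (.node (.leaf 15) (.leaf 52)) (.leaf 9))) (.node (.node (.node (.leaf 42) (.leaf 69)) (.leaf 95)) (.node (.node (.leaf 59) (.leaf 65)) (.leaf 82)))) (.node (.node (.node (.node (.leaf 25) (.leaf 72)) (.leaf 39)) (.node (.node (.leaf 72) (.leaf 109)) (.leaf 95))) (.node (.node (.node (.leaf 69) (.leaf 65)) (.leaf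 12)) (.node (.node (.leaf 95) (.leaf 12)) (.leaf 9)))))) (.node (.node (.node (.node (.node (.node (.leaf 20) (.leaf 6)) (.leaf 43)) (.node (.node (.leaf 56) (.leaf 83)) (.leaf 50))) (.node (.node (.node (.leaf 63) (.leaf 39)) (.leaf 96)) (.node (.node (.leaf 80) (.leaf 36)) (.leaf 3)))) (.node (.node (.node (.node (.leaf 26) (.leaf 3)) (.leaf 40)) (.node (.node (.leaf 3) (.leaf 69)) (.leaf 96))) (.node (.node (.node (.leaf 0) (.leaf 6)) (.leaf 103)) (.node (.node (.leaf 16) (.leaf 53)) (.leaf 69))))) (.node (.node (.node (.node (.node (.leaf 78) (.leaf 4)) (.leaf 11)) (.node (.node (.leaf 65) (.leaf 81)) (.leaf 18))) (.node (.node (.node (.leaf 1) (.leaf 78)) (.leaf 55)) (.node (.node (.leaf 8) (.leaf 14)) (.leaf 51)))) (.node (.node (.node (.node (.leaf 35) (.leaf 101)) (.leaf 8)) (.node (.node (.leaf 81) (.leaf 38)) (.leaf 65))) (.node (.node (.node (.leaf 38) (.leaf 74)) (.leaf 71)) (.node (.leaf 35) (.leaf 98))))))) (.node (.node (.node (.node (.node (.node (.node (.leaf 65) (.leaf 72)) (.leaf 8)) (.node (.node (.leaf 22) (.leaf 108)) (.leaf 85))) (.node (.node (.node (.leaf 108) (.leaf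 65)) (.leaf 2)) (.node (.node (.leaf 65) (.leaf 61)) (.leaf 98)))) (.node (.node (.node (.node (.leaf 92) (.leaf 58)) (.leaf 25)) (.node (.node (.leaf 88) (.leaf 75)) (.leaf 82))) (.node (.node (.node (.leaf 95) (.leaf 82)) (.leaf 108)) (.node (.node (.leaf 2) (.leaf 48)) (.leaf 5))))) (.node (.node (.node (.node (.node (.leaf 73) (.leaf 20)) (.leaf 57)) (.node (.node (.leaf 10) (.leaf 97)) (.leaf 73))) (.node (.node (.node (.leaf 97) (.leaf 53)) (.leaf 10)) (.node (.node (.leaf 13) (.leaf 70)) (.leaf 67)))) (.node (.node (.node (.node (.leaf 90) (.leaf 87)) (.leaf 3)) (.node (.node (.leaf 97) (.leaf 63)) (.leaf 50))) (.node (.node (.node (.leaf 53) (.leaf 40)) (.leaf 107)) (.node (.node (.leaf 90) (.leaf 46)) (.leaf 63)))))) (.node (.node (.node (.node (.node (.node (.leaf 54) (.leaf 31)) (.leaf 7)) (.node (.node (.leaf 61) (.leaf 107)) (.leaf 34))) (.node (.node (.node (.leaf 18) (.leaf 34)) (.leaf 21)) (.node (.node (.leaf 4) (.leaf 41)) (.leaf 87)))) (.node (.node (.node (.node (.leaf 31) (.leaf 67)) (.leaf 54)) (.node (.node (.leaf 28) (.leaf 64)) (.leaf 31))) (.node (.node (.node (.leaf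 54) (.leaf 1)) (.leaf 17)) (.node (.node (.leaf 71) (.leaf 17)) (.leaf 84))))) (.node (.node (.node (.node (.node (.leaf 3) (.leaf 39)) (.leaf 106)) (.node (.node (.leaf 89) (.leaf 56)) (.leaf 102))) (.node (.node (.node (.leaf 6) (.leaf 52)) (.leaf 9)) (.node (.node (.leaf 33) (.leaf 9)) (.leaf 76)))) (.node (.node (.node (.node (.leaf 29) (.leaf 26)) (.leaf 52)) (.node (.node (.leaf 16) (.leaf 62)) (.leaf 39))) (.node (.node (.node (.leaf 13) (.leaf 79)) (.leaf 26)) (.node (.leaf 9) (.leaf 22)))))))) (.node (.node (.node (.node (.node (.node (.node (.node (.leaf 33) (.leaf 39)) (.leaf 56)) (.node (.node (.leaf 99) (.leaf 86)) (.leaf 33))) (.node (.node (.node (.leaf 36) (.leaf 83)) (.leaf 89)) (.node (.node (.leaf 83) (.leaf 59)) (.leaf 16)))) (.node (.node (.node (.node (.leaf 69) (.leaf 96)) (.leaf 13)) (.node (.node (.leaf 66) (.leaf 93)) (.leaf 39))) (.node (.node (.node (.leaf 3) (.leaf 109)) (.leaf 46)) (.node (.node (.leaf 69) (.leaf 96)) (.leaf 83))))) (.node (.node (.node (.node (.node (.leaf 21) (.leaf 38)) (.leaf 24)) (.node (.node (.leaf 68) (.leaf 24)) (.leaf 91))) (.node (.node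 (.node (.leaf 104) (.leaf 1)) (.leaf 108)) (.node (.node (.leaf 91) (.leaf 108)) (.leaf 74)))) (.node (.node (.node (.node (.leaf 108) (.leaf 24)) (.leaf 71)) (.node (.node (.leaf 44) (.leaf 31)) (.leaf 38))) (.node (.node (.node (.leaf 1) (.leaf 98)) (.leaf 4)) (.node (.node (.leaf 18) (.leaf 84)) (.leaf 11)))))) (.node (.node (.node (.node (.node (.node (.leaf 102) (.leaf 88)) (.leaf 25)) (.node (.node (.leaf 29) (.leaf 65)) (.leaf 42))) (.node (.node (.node (.leaf 95) (.leaf 62)) (.leaf 49)) (.node (.node (.leaf 42) (.leaf 58)) (.leaf 55)))) (.node (.node (.node (.node (.leaf 99) (.leaf 35)) (.leaf 62)) (.node (.node (.leaf 95) (.leaf 102)) (.leaf 48))) (.node (.node (.node (.leaf 82) (.leaf 78)) (.leaf 5)) (.node (.node (.leaf 39) (.leaf 35)) (.leaf 22))))) (.node (.node (.node (.node (.node (.leaf 90) (.leaf 27)) (.leaf 44)) (.node (.node (.leaf 77) (.leaf 23)) (.leaf 30))) (.node (.node (.node (.leaf 94) (.leaf 60)) (.leaf 87)) (.node (.node (.leaf 60) (.leaf 67)) (.leaf 33)))) (.node (.node (.node (.node (.leaf 17) (.leaf 43)) (.leaf 80)) (.node (.node (.leaf 24) (.leaf 90)) (.leaf 107)))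 (.node (.node (.node (.leaf 20) (.leaf 67)) (.leaf 3)) (.node (.leaf 67) (.leaf 0))))))) (.node (.node (.node (.node (.node (.node (.node (.leaf 97) (.leaf 44)) (.leaf 61)) (.node (.node (.leaf 94) (.leaf 10)) (.leaf 7))) (.node (.node (.node (.leaf 31) (.leaf 107)) (.leaf 104)) (.node (.node (.leaf 47) (.leaf 14)) (.leaf 61)))) (.node (.node (.node (.node (.leaf 64) (.leaf 81)) (.leaf 37)) (.node (.node (.leaf 71) (.leaf 57)) (.leaf 34))) (.node (.node (.node (.leaf 27) (.leaf 44)) (.leaf 51)) (.node (.node (.leaf 104) (.leaf 30)) (.leaf 37))))) (.node (.node (.node (.node (.node (.leaf 56) (.leaf 12)) (.leaf 89)) (.node (.node (.leaf 92) (.leaf 39)) (.leaf 56))) (.node (.node (.node (.leaf 109) (.leaf 105)) (.leaf 82)) (.node (.node (.leaf 56) (.leaf 42)) (.leaf 79)))) (.node (.node (.node (.node (.leaf 82) (.leaf 99)) (.leaf 36)) (.node (.node (.leaf 39) (.leaf 95)) (.leaf 72))) (.node (.node (.node (.leaf 86) (.leaf 12)) (.leaf 39)) (.node (.leaf 62) (.leaf 76)))))) (.node (.node (.node (.node (.node (.node (.leaf 7) (.leaf 83)) (.leaf 100)) (.node (.node (.leaf 93) (.leaf 80)) (.leaf 26)))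 (.node (.node (.node (.leaf 70) (.leaf 106)) (.leaf 3)) (.node (.node (.leaf 76) (.leaf 83)) (.leaf 90)))) (.node (.node (.node (.node (.leaf 83) (.leaf 100)) (.leaf 76)) (.node (.node (.leaf 100) (.leaf 26)) (.leaf 83))) (.node (.node (.node (.leaf 17) (.leaf 33)) (.leaf 100)) (.node (.node (.leaf 3) (.leaf 50)) (.leaf 36))))) (.node (.node (.node (.node (.node (.leaf 95) (.leaf 11)) (.leaf 58)) (.node (.node (.leaf 91) (.leaf 8)) (.leaf 85))) (.node (.node (.node (.leaf 28) (.leaf 5)) (.leaf 41)) (.node (.node (.leaf 45) (.leaf 51)) (.leaf 38)))) (.node (.node (.node (.node (.leaf 2) (.leaf 48)) (.leaf 5)) (.node (.node (.leaf 78) (.leaf 35)) (.leaf 71))) (.node (.node (.node (.leaf 105) (.leaf 81)) (.leaf 108)) (.node (.leaf 51) (.leaf 65))))))))) (.node (.node (.node (.node (.node (.node (.node (.node (.node (.leaf 17) (.leaf 43)) (.leaf 90)) (.node (.node (.leaf 33) (.leaf 30)) (.leaf 57))) (.node (.node (.node (.leaf 80) (.leaf 6)) (.leaf 13)) (.node (.node (.leaf 27) (.leaf 13)) (.leaf 30)))) (.node (.node (.node (.node (.leaf 73) (.leaf 30)) (.leaf 47)) (.node (.node (.leaf 10) (.leaf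 66)) (.leaf 23))) (.node (.node (.node (.leaf 67) (.leaf 43)) (.leaf 0)) (.node (.node (.leaf 23) (.leaf 20)) (.leaf 6))))) (.node (.node (.node (.node (.node (.leaf 95) (.leaf 91)) (.leaf 18)) (.node (.node (.leaf 42) (.leaf 38)) (.leaf 35))) (.node (.node (.node (.leaf 68) (.leaf 45)) (.leaf 42)) (.node (.node (.leaf 75) (.leaf 1)) (.leaf 8)))) (.node (.node (.node (.node (.leaf 72) (.leaf 98)) (.leaf 25)) (.node (.node (.leaf 58) (.leaf 15)) (.leaf 21))) (.node (.node (.node (.leaf 45) (.leaf 81)) (.leaf 68)) (.node (.node (.leaf 32) (.leaf 78)) (.leaf 85)))))) (.node (.node (.node (.node (.node (.node (.leaf 66) (.leaf 102)) (.leaf 109)) (.node (.node (.leaf 62) (.leaf 79)) (.leaf 16))) (.node (.node (.node (.leaf 79) (.leaf 76)) (.leaf 12)) (.node (.node (.leaf 36) (.leaf 2)) (.leaf 79)))) (.node (.node (.node (.node (.leaf 12) (.leaf 19)) (.leaf 96)) (.node (.node (.leaf 109) (.leaf 96)) (.leaf 22))) (.node (.node (.node (.leaf 96) (.leaf 12)) (.leaf 39)) (.node (.node (.leaf 92) (.leaf 9)) (.leaf 96))))) (.node (.node (.node (.node (.node (.leaf 14) (.leaf 101)) (.leaf 27)) (.node (.node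 (.leaf 101) (.leaf 47)) (.leaf 24))) (.node (.node (.node (.leaf 87) (.leaf 34)) (.leaf 71)) (.node (.node (.leaf 44) (.leaf 101)) (.leaf 87)))) (.node (.node (.node (.node (.leaf 91) (.leaf 77)) (.leaf 104)) (.node (.node (.leaf 47) (.leaf 74)) (.leaf 1))) (.node (.node (.node (.leaf 104) (.leaf 91)) (.leaf 67)) (.node (.leaf 101) (.leaf 34))))))) (.node (.node (.node (.node (.node (.node (.node (.leaf 81) (.leaf 58)) (.leaf 74)) (.node (.node (.leaf 88) (.leaf 44)) (.leaf 41))) (.node (.node (.node (.leaf 15) (.leaf 1)) (.leaf 38)) (.node (.node (.leaf 11) (.leaf 78)) (.leaf 84)))) (.node (.node (.node (.node (.leaf 78) (.leaf 64)) (.leaf 61)) (.node (.node (.leaf 25) (.leaf 21)) (.leaf 108))) (.node (.node (.node (.leaf 31) (.leaf 38)) (.leaf 34)) (.node (.node (.leaf 58) (.leaf 4)) (.leaf 21))))) (.node (.node (.node (.node (.node (.leaf 0) (.leaf 96)) (.leaf 73)) (.node (.node (.leaf 56) (.leaf 73)) (.leaf 29))) (.node (.node (.node (.leaf 63) (.leaf 19)) (.leaf 76)) (.node (.node (.leaf 29) (.leaf 56)) (.leaf 13)))) (.node (.node (.node (.node (.leaf 56) (.leaf 53)) (.leaf 109)) (.node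 (.node (.leaf 73) (.leaf 79)) (.leaf 106))) (.node (.node (.node (.leaf 10) (.leaf 86)) (.leaf 43)) (.node (.leaf 76) (.leaf 109)))))) (.node (.node (.node (.node (.node (.node (.leaf 70) (.leaf 107)) (.leaf 94)) (.node (.node (.leaf 77) (.leaf 43)) (.leaf 60))) (.node (.node (.node (.leaf 54) (.leaf 10)) (.leaf 57)) (.node (.node (.leaf 10) (.leaf 37)) (.leaf 64)))) (.node (.node (.node (.node (.leaf 107) (.leaf 84)) (.leaf 20)) (.node (.node (.leaf 14) (.leaf 70)) (.leaf 7))) (.node (.node (.node (.leaf 30) (.leaf 17)) (.leaf 24)) (.node (.node (.leaf 67) (.leaf 73)) (.leaf 100))))) (.node (.node (.node (.node (.node (.leaf 109) (.leaf 65)) (.leaf 32)) (.node (.node (.leaf 55) (.leaf 82)) (.leaf 69))) (.node (.node (.node (.leaf 82) (.leaf 89)) (.leaf 25)) (.node (.node (.leaf 79) (.leaf 95)) (.leaf 82)))) (.node (.node (.node (.node (.leaf 55) (.leaf 102)) (.leaf 29)) (.node (.node (.leaf 42) (.leaf 88)) (.leaf 25))) (.node (.node (.node (.leaf 79) (.leaf 45)) (.leaf 12)) (.node (.leaf 95) (.leaf 79)))))))) (.node (.node (.node (.node (.node (.node (.node (.node (.leaf 49) (.leaf 25)) (.leaf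 82)) (.node (.node (.leaf 16) (.leaf 52)) (.leaf 109))) (.node (.node (.node (.leaf 42) (.leaf 79)) (.leaf 65)) (.node (.node (.leaf 39) (.leaf 25)) (.leaf 2)))) (.node (.node (.node (.node (.leaf 106) (.leaf 102)) (.leaf 59)) (.node (.node (.leaf 32) (.leaf 49)) (.leaf 55))) (.node (.node (.node (.leaf 109) (.leaf 25)) (.leaf 82)) (.node (.node (.leaf 36) (.leaf 12)) (.leaf 99))))) (.node (.node (.node (.node (.node (.leaf 107) (.leaf 104)) (.leaf 41)) (.node (.node (.leaf 104) (.leaf 0)) (.leaf 17))) (.node (.node (.node (.leaf 11) (.leaf 77)) (.leaf 4)) (.node (.node (.leaf 107) (.leaf 94)) (.leaf 100)))) (.node (.node (.node (.node (.leaf 64) (.leaf 40)) (.leaf 67)) (.node (.node (.leaf 21) (.leaf 47)) (.leaf 84))) (.node (.node (.node (.leaf 77) (.leaf 24)) (.leaf 80)) (.node (.node (.leaf 4) (.leaf 90)) (.leaf 97)))))) (.node (.node (.node (.node (.node (.node (.leaf 18) (.leaf 75)) (.leaf 81)) (.node (.node (.leaf 45) (.leaf 1)) (.leaf 78))) (.node (.node (.node (.leaf 1) (.leaf 48)) (.leaf 75)) (.node (.node (.leaf 108) (.leaf 105)) (.leaf 11)))) (.node (.node (.node (.node (.leaf 75)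 (.leaf 51)) (.leaf 8)) (.node (.node (.leaf 31) (.leaf 58)) (.leaf 105))) (.node (.node (.node (.leaf 68) (.leaf 95)) (.leaf 41)) (.node (.node (.leaf 25) (.leaf 91)) (.leaf 48))))) (.node (.node (.node (.node (.node (.leaf 36) (.leaf 83)) (.leaf 60)) (.node (.node (.leaf 43) (.leaf 90)) (.leaf 96))) (.node (.node (.node (.leaf 60) (.leaf 26)) (.leaf 103)) (.node (.node (.leaf 106) (.leaf 43)) (.leaf 10)))) (.node (.node (.node (.node (.leaf 73) (.leaf 80)) (.leaf 66)) (.node (.node (.leaf 50) (.leaf 26)) (.leaf 43))) (.node (.node (.node (.leaf 96) (.leaf 33)) (.leaf 40)) (.node (.leaf 43) (.leaf 56))))))) (.node (.node (.node (.node (.node (.node (.node (.leaf 4) (.leaf 20)) (.leaf 97)) (.node (.node (.leaf 100) (.leaf 37)) (.leaf 93))) (.node (.node (.node (.leaf 47) (.leaf 43)) (.leaf 20)) (.node (.node (.leaf 103) (.leaf 90)) (.leaf 27)))) (.node (.node (.node (.node (.leaf 40) (.leaf 97)) (.leaf 3)) (.node (.node (.leaf 67) (.leaf 3)) (.leaf 50))) (.node (.node (.node (.leaf 73) (.leaf 50)) (.leaf 27)) (.node (.node (.leaf 70) (.leaf 107)) (.leaf 53))))) (.node (.node (.node (.node (.node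 (.leaf 22) (.leaf 48)) (.leaf 105)) (.node (.node (.leaf 8) (.leaf 15)) (.leaf 62))) (.node (.node (.node (.leaf 75) (.leaf 42)) (.leaf 38)) (.node (.node (.leaf 92) (.leaf 28)) (.leaf 105)))) (.node (.node (.node (.node (.leaf 9) (.leaf 65)) (.leaf 22)) (.node (.node (.leaf 15) (.leaf 12)) (.leaf 18))) (.node (.node (.node (.leaf 2) (.leaf 38)) (.leaf 25)) (.node (.leaf 48) (.leaf 42)))))) (.node (.node (.node (.node (.node (.node (.leaf 83) (.leaf 49)) (.leaf 56)) (.node (.node (.leaf 109) (.leaf 66)) (.leaf 53))) (.node (.node (.node (.leaf 6) (.leaf 92)) (.leaf 69)) (.node (.node (.leaf 43) (.leaf 79)) (.leaf 56)))) (.node (.node (.node (.node (.leaf 49) (.leaf 36)) (.leaf 43)) (.node (.node (.leaf 86) (.leaf 32)) (.leaf 19))) (.node (.node (.node (.leaf 103) (.leaf 49)) (.leaf 46)) (.node (.node (.leaf 109) (.leaf 6)) (.leaf 73))))) (.node (.node (.node (.node (.node (.leaf 31) (.leaf 47)) (.leaf 94)) (.node (.node (.leaf 108) (.leaf 74)) (.leaf 101))) (.node (.node (.node (.leaf 74) (.leaf 61)) (.leaf 58)) (.node (.node (.leaf 81) (.leaf 17)) (.leaf 44)))) (.node (.node (.node (.node (.leaf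 68) (.leaf 94)) (.leaf 71)) (.node (.node (.leaf 34) (.leaf 71)) (.leaf 68))) (.node (.node (.node (.leaf 51) (.leaf 57)) (.leaf 94)) (.node (.leaf 108) (.leaf 1))))))))))

def borelTab2 : Tree (ℕ) :=
  (.node (.node (.node (.node (.node (.node (.node (.node (.node (.node (.leaf 2) (.leaf 108)) (.leaf 65)) (.node (.node (.leaf 8) (.leaf 65)) (.leaf 71))) (.node (.node (.node (.leaf 75) (.leaf 61)) (.leaf 38)) (.node (.node (.leaf 61) (.leaf 48)) (.leaf 45)))) (.node (.node (.node (.node (.leaf 28) (.leaf 25)) (.leaf 21)) (.node (.node (.leaf 45) (.leaf 101)) (.leaf 8))) (.node (.node (.node (.leaf 41) (.leaf 18)) (.leaf 95)) (.node (.node (.leaf 58) (.leaf 105)) (.leaf 51))))) (.node (.node (.node (.node (.node (.leaf 10) (.leaf 6)) (.leaf 63)) (.node (.node (.leaf 16) (.leaf 53)) (.leaf 0))) (.node (.node (.node (.leaf 43) (.leaf 60)) (.leaf 96)) (.node (.node (.leaf 60) (.leaf 66)) (.leaf 83)))) (.node (.node (.node (.node (.leaf 7) (.leaf 73)) (.leaf 30)) (.node (.node (.leaf 73) (.leaf 0)) (.leaf 96))) (.node (.node (.node (.leaf 60) (.leaf 66)) (.leaf 93)) (.node (.node (.leaf 96) (.leaf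 13)) (.leaf 0)))))) (.node (.node (.node (.node (.node (.node (.leaf 41) (.leaf 7)) (.leaf 44)) (.node (.node (.leaf 57) (.leaf 24)) (.leaf 51))) (.node (.node (.node (.leaf 64) (.leaf 30)) (.leaf 57)) (.node (.node (.leaf 81) (.leaf 37)) (.leaf 4)))) (.node (.node (.node (.node (.leaf 27) (.leaf 4)) (.leaf 41)) (.node (.node (.leaf 54) (.leaf 60)) (.leaf 97))) (.node (.node (.node (.leaf 1) (.leaf 7)) (.leaf 104)) (.node (.node (.leaf 17) (.leaf 54)) (.leaf 71))))) (.node (.node (.node (.node (.node (.leaf 79) (.leaf 5)) (.leaf 12)) (.node (.node (.leaf 66) (.leaf 82)) (.leaf 79))) (.node (.node (.node (.leaf 42) (.leaf 79)) (.leaf 56)) (.node (.node (.leaf 9) (.leaf 5)) (.leaf 52)))) (.node (.node (.node (.node (.leaf 36) (.leaf 32)) (.leaf 9)) (.node (.node (.leaf 82) (.leaf 39)) (.leaf 66))) (.node (.node (.node (.leaf 39) (.leaf 75)) (.leaf 72)) (.node (.leaf 16) (.leaf 99))))))) (.node (.node (.node (.node (.node (.node (.node (.leaf 66) (.leaf 73)) (.leaf 9)) (.node (.node (.leaf 23) (.leaf 109)) (.leaf 66))) (.node (.node (.node (.leaf 59) (.leaf 66)) (.leaf 3)) (.node (.node (.leaf 66)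 (.leaf 103)) (.leaf 99)))) (.node (.node (.node (.node (.leaf 93) (.leaf 9)) (.leaf 26)) (.node (.node (.leaf 89) (.leaf 76)) (.leaf 83))) (.node (.node (.node (.leaf 96) (.leaf 83)) (.leaf 109)) (.node (.node (.leaf 83) (.leaf 49)) (.leaf 6))))) (.node (.node (.node (.node (.node (.leaf 74) (.leaf 21)) (.leaf 58)) (.node (.node (.leaf 31) (.leaf 98)) (.leaf 74))) (.node (.node (.node (.leaf 98) (.leaf 54)) (.leaf 11)) (.node (.node (.leaf 14) (.leaf 71)) (.leaf 98)))) (.node (.node (.node (.node (.leaf 91) (.leaf 88)) (.leaf 54)) (.node (.node (.leaf 98) (.leaf 64)) (.leaf 51))) (.node (.node (.node (.leaf 54) (.leaf 61)) (.leaf 108)) (.node (.node (.leaf 91) (.leaf 47)) (.leaf 64)))))) (.node (.node (.node (.node (.node (.node (.leaf 55) (.leaf 32)) (.leaf 39)) (.node (.node (.leaf 62) (.leaf 108)) (.leaf 35))) (.node (.node (.node (.leaf 19) (.leaf 25)) (.leaf 22)) (.node (.node (.leaf 5) (.leaf 42)) (.leaf 88)))) (.node (.node (.node (.node (.leaf 32) (.leaf 68)) (.leaf 55)) (.node (.node (.leaf 29) (.leaf 65)) (.leaf 72))) (.node (.node (.node (.leaf 45) (.leaf 2)) (.leaf 18)) (.node (.node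 (.leaf 72) (.leaf 48)) (.leaf 85))))) (.node (.node (.node (.node (.node (.leaf 54) (.leaf 30)) (.leaf 107)) (.node (.node (.leaf 80) (.leaf 17)) (.leaf 103))) (.node (.node (.node (.leaf 7) (.leaf 53)) (.leaf 10)) (.node (.node (.leaf 34) (.leaf 0)) (.leaf 77)))) (.node (.node (.node (.node (.leaf 20) (.leaf 27)) (.leaf 53)) (.node (.node (.leaf 87) (.leaf 63)) (.leaf 30))) (.node (.node (.node (.leaf 14) (.leaf 70)) (.leaf 27)) (.node (.leaf 0) (.leaf 103)))))))) (.node (.node (.node (.node (.node (.node (.node (.node (.leaf 34) (.leaf 30)) (.leaf 17)) (.node (.node (.leaf 90) (.leaf 87)) (.leaf 34))) (.node (.node (.node (.leaf 37) (.leaf 24)) (.leaf 80)) (.node (.node (.leaf 84) (.leaf 50)) (.leaf 17)))) (.node (.node (.node (.node (.leaf 60) (.leaf 97)) (.leaf 14)) (.node (.node (.leaf 67) (.leaf 94)) (.leaf 40))) (.node (.node (.node (.leaf 54) (.leaf 100)) (.leaf 47)) (.node (.node (.leaf 60) (.leaf 57)) (.leaf 84))))) (.node (.node (.node (.node (.node (.leaf 62) (.leaf 39)) (.leaf 25)) (.node (.node (.leaf 69) (.leaf 15)) (.leaf 92))) (.node (.node (.node (.leaf 105) (.leaf 2)) (.leaf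 59)) (.node (.node (.leaf 92) (.leaf 109)) (.leaf 75)))) (.node (.node (.node (.node (.leaf 109) (.leaf 25)) (.leaf 72)) (.node (.node (.leaf 35) (.leaf 32)) (.leaf 39))) (.node (.node (.node (.leaf 2) (.leaf 99)) (.leaf 5)) (.node (.node (.leaf 19) (.leaf 85)) (.leaf 52)))))) (.node (.node (.node (.node (.node (.node (.leaf 103) (.leaf 89)) (.leaf 26)) (.node (.node (.leaf 30) (.leaf 66)) (.leaf 43))) (.node (.node (.node (.leaf 96) (.leaf 63)) (.leaf 40)) (.node (.node (.leaf 43) (.leaf 59)) (.leaf 36)))) (.node (.node (.node (.node (.leaf 90) (.leaf 36)) (.leaf 33)) (.node (.node (.leaf 96) (.leaf 103)) (.leaf 49))) (.node (.node (.node (.leaf 83) (.leaf 29)) (.leaf 6)) (.node (.node (.leaf 30) (.leaf 36)) (.leaf 23))))) (.node (.node (.node (.node (.node (.leaf 91) (.leaf 58)) (.leaf 45)) (.node (.node (.leaf 78) (.leaf 24)) (.leaf 31))) (.node (.node (.node (.leaf 95) (.leaf 61)) (.leaf 88)) (.node (.node (.leaf 81) (.leaf 68)) (.leaf 34)))) (.node (.node (.node (.node (.leaf 48) (.leaf 44)) (.leaf 81)) (.node (.node (.leaf 25) (.leaf 1)) (.leaf 108))) (.node (.node (.node (.leaf 21) (.leaf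 68)) (.leaf 55)) (.node (.leaf 68) (.leaf 1))))))) (.node (.node (.node (.node (.node (.node (.node (.leaf 98) (.leaf 35)) (.leaf 62)) (.node (.node (.leaf 95) (.leaf 11)) (.leaf 8))) (.node (.node (.node (.leaf 32) (.leaf 108)) (.leaf 105)) (.node (.node (.leaf 78) (.leaf 15)) (.leaf 62)))) (.node (.node (.node (.node (.leaf 55) (.leaf 82)) (.leaf 38)) (.node (.node (.leaf 72) (.leaf 88)) (.leaf 35))) (.node (.node (.node (.leaf 28) (.leaf 45)) (.leaf 92)) (.node (.node (.leaf 105) (.leaf 31)) (.leaf 38))))) (.node (.node (.node (.node (.node (.leaf 57) (.leaf 13)) (.leaf 90)) (.node (.node (.leaf 93) (.leaf 30)) (.leaf 57))) (.node (.node (.node (.leaf 100) (.leaf 87)) (.leaf 83)) (.node (.node (.leaf 57) (.leaf 43)) (.leaf 70)))) (.node (.node (.node (.node (.leaf 83) (.leaf 90)) (.leaf 37)) (.node (.node (.leaf 30) (.leaf 96)) (.leaf 43))) (.node (.node (.node (.leaf 47) (.leaf 13)) (.leaf 30)) (.node (.leaf 63) (.leaf 77)))))) (.node (.node (.node (.node (.node (.node (.leaf 8) (.leaf 84)) (.leaf 101)) (.node (.node (.leaf 94) (.leaf 81)) (.leaf 97))) (.node (.node (.node (.leaf 91) (.leaf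 107)) (.leaf 4)) (.node (.node (.leaf 77) (.leaf 24)) (.leaf 91)))) (.node (.node (.node (.node (.leaf 84) (.leaf 11)) (.leaf 77)) (.node (.node (.leaf 101) (.leaf 27)) (.leaf 84))) (.node (.node (.node (.leaf 18) (.leaf 34)) (.leaf 101)) (.node (.node (.leaf 54) (.leaf 51)) (.leaf 37))))) (.node (.node (.node (.node (.node (.leaf 96) (.leaf 12)) (.leaf 59)) (.node (.node (.leaf 23) (.leaf 9)) (.leaf 86))) (.node (.node (.node (.leaf 29) (.leaf 6)) (.leaf 42)) (.node (.node (.leaf 46) (.leaf 52)) (.leaf 99)))) (.node (.node (.node (.node (.leaf 3) (.leaf 49)) (.leaf 96)) (.node (.node (.leaf 79) (.leaf 36)) (.leaf 72))) (.node (.node (.node (.leaf 106) (.leaf 12)) (.leaf 109)) (.node (.leaf 52) (.leaf 66))))))))) (.node (.node (.node (.node (.node (.node (.node (.node (.node (.leaf 18) (.leaf 94)) (.leaf 91)) (.node (.node (.leaf 34) (.leaf 31)) (.leaf 58))) (.node (.node (.node (.leaf 81) (.leaf 7)) (.leaf 14)) (.node (.node (.leaf 58) (.leaf 14)) (.leaf 31)))) (.node (.node (.node (.node (.leaf 14) (.leaf 31)) (.leaf 48)) (.node (.node (.leaf 11) (.leaf 27)) (.leaf 24))) (.node (.node (.node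 (.leaf 68) (.leaf 44)) (.leaf 21)) (.node (.node (.leaf 24) (.leaf 21)) (.leaf 7))))) (.node (.node (.node (.node (.node (.leaf 96) (.leaf 92)) (.leaf 79)) (.node (.node (.leaf 43) (.leaf 39)) (.leaf 36))) (.node (.node (.node (.leaf 69) (.leaf 26)) (.leaf 43)) (.node (.node (.leaf 76) (.leaf 2)) (.leaf 9)))) (.node (.node (.node (.node (.leaf 73) (.leaf 99)) (.leaf 26)) (.node (.node (.leaf 59) (.leaf 16)) (.leaf 63))) (.node (.node (.node (.leaf 26) (.leaf 82)) (.leaf 69)) (.node (.node (.leaf 33) (.leaf 29)) (.leaf 86)))))) (.node (.node (.node (.node (.node (.node (.leaf 67) (.leaf 103)) (.leaf 100)) (.node (.node (.leaf 63) (.leaf 70)) (.leaf 87))) (.node (.node (.node (.leaf 80) (.leaf 77)) (.leaf 13)) (.node (.node (.leaf 37) (.leaf 83)) (.leaf 70)))) (.node (.node (.node (.node (.leaf 13) (.leaf 20)) (.leaf 97)) (.node (.node (.leaf 100) (.leaf 97)) (.leaf 23))) (.node (.node (.node (.leaf 97) (.leaf 13)) (.leaf 30)) (.node (.node (.leaf 63) (.leaf 0)) (.leaf 97))))) (.node (.node (.node (.node (.node (.leaf 15) (.leaf 102)) (.leaf 28)) (.node (.node (.leaf 32) (.leaf 48)) (.leaf 25)))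 (.node (.node (.node (.leaf 88) (.leaf 35)) (.leaf 72)) (.node (.node (.leaf 45) (.leaf 102)) (.leaf 8)))) (.node (.node (.node (.node (.leaf 92) (.leaf 78)) (.leaf 95)) (.node (.node (.leaf 48) (.leaf 75)) (.leaf 2))) (.node (.node (.node (.leaf 105) (.leaf 22)) (.leaf 68)) (.node (.leaf 102) (.leaf 35))))))) (.node (.node (.node (.node (.node (.node (.node (.leaf 82) (.leaf 59)) (.leaf 75)) (.node (.node (.leaf 39) (.leaf 45)) (.leaf 42))) (.node (.node (.node (.leaf 16) (.leaf 2)) (.leaf 39)) (.node (.node (.leaf 12) (.leaf 79)) (.leaf 75)))) (.node (.node (.node (.node (.leaf 79) (.leaf 65)) (.leaf 102)) (.node (.node (.leaf 26) (.leaf 22)) (.leaf 109))) (.node (.node (.node (.leaf 32) (.leaf 99)) (.leaf 35)) (.node (.node (.leaf 59) (.leaf 5)) (.leaf 22))))) (.node (.node (.node (.node (.node (.leaf 1) (.leaf 57)) (.leaf 74)) (.node (.node (.leaf 57) (.leaf 74)) (.leaf 20))) (.node (.node (.node (.leaf 64) (.leaf 10)) (.leaf 77)) (.node (.node (.leaf 31) (.leaf 57)) (.leaf 14)))) (.node (.node (.node (.node (.leaf 17) (.leaf 54)) (.leaf 100)) (.node (.node (.leaf 74) (.leaf 80)) (.leaf 107)))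 (.node (.node (.node (.leaf 11) (.leaf 87)) (.leaf 94)) (.node (.leaf 77) (.leaf 100)))))) (.node (.node (.node (.node (.node (.node (.leaf 91) (.leaf 108)) (.leaf 95)) (.node (.node (.leaf 78) (.leaf 95)) (.leaf 61))) (.node (.node (.node (.leaf 55) (.leaf 11)) (.leaf 88)) (.node (.node (.leaf 11) (.leaf 38)) (.leaf 65)))) (.node (.node (.node (.node (.leaf 108) (.leaf 85)) (.leaf 21)) (.node (.node (.leaf 5) (.leaf 71)) (.leaf 8))) (.node (.node (.node (.leaf 31) (.leaf 18)) (.leaf 25)) (.node (.node (.leaf 68) (.leaf 74)) (.leaf 11))))) (.node (.node (.node (.node (.node (.leaf 100) (.leaf 66)) (.leaf 33)) (.node (.node (.leaf 56) (.leaf 83)) (.leaf 70))) (.node (.node (.node (.leaf 53) (.leaf 80)) (.leaf 26)) (.node (.node (.leaf 70) (.leaf 76)) (.leaf 83)))) (.node (.node (.node (.node (.leaf 56) (.leaf 73)) (.leaf 20)) (.node (.node (.leaf 43) (.leaf 89)) (.leaf 26))) (.node (.node (.node (.leaf 70) (.leaf 46)) (.leaf 13)) (.node (.leaf 76) (.leaf 70)))))))) (.node (.node (.node (.node (.node (.node (.node (.node (.leaf 50) (.leaf 26)) (.leaf 83)) (.node (.node (.leaf 17) (.leaf 23)) (.leaf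 100))) (.node (.node (.node (.leaf 43) (.leaf 70)) (.leaf 47)) (.node (.node (.leaf 30) (.leaf 26)) (.leaf 3)))) (.node (.node (.node (.node (.leaf 107) (.leaf 103)) (.leaf 50)) (.node (.node (.leaf 3) (.leaf 40)) (.leaf 56))) (.node (.node (.node (.leaf 100) (.leaf 26)) (.leaf 83)) (.node (.node (.leaf 37) (.leaf 13)) (.leaf 100))))) (.node (.node (.node (.node (.node (.leaf 108) (.leaf 105)) (.leaf 42)) (.node (.node (.leaf 105) (.leaf 1)) (.leaf 48))) (.node (.node (.node (.leaf 52) (.leaf 78)) (.leaf 5)) (.node (.node (.leaf 108) (.leaf 85)) (.leaf 101)))) (.node (.node (.node (.node (.leaf 65) (.leaf 61)) (.leaf 68)) (.node (.node (.leaf 22) (.leaf 48)) (.leaf 85))) (.node (.node (.node (.leaf 78) (.leaf 25)) (.leaf 81)) (.node (.node (.leaf 105) (.leaf 91)) (.leaf 98)))))) (.node (.node (.node (.node (.node (.node (.leaf 19) (.leaf 56)) (.leaf 82)) (.node (.node (.leaf 46) (.leaf 2)) (.leaf 79))) (.node (.node (.node (.leaf 2) (.leaf 49)) (.leaf 76)) (.node (.node (.leaf 59) (.leaf 106)) (.leaf 12)))) (.node (.node (.node (.node (.leaf 56) (.leaf 52)) (.leaf 9)) (.node (.node (.leaf 32)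 (.leaf 9)) (.leaf 106))) (.node (.node (.node (.leaf 69) (.leaf 96)) (.leaf 82)) (.node (.node (.leaf 26) (.leaf 92)) (.leaf 49))))) (.node (.node (.node (.node (.node (.leaf 37) (.leaf 84)) (.leaf 81)) (.node (.node (.leaf 44) (.leaf 91)) (.leaf 97))) (.node (.node (.node (.leaf 61) (.leaf 97)) (.leaf 104)) (.node (.node (.leaf 107) (.leaf 44)) (.leaf 11)))) (.node (.node (.node (.node (.leaf 74) (.leaf 81)) (.leaf 67)) (.node (.node (.leaf 51) (.leaf 27)) (.leaf 94))) (.node (.node (.node (.leaf 57) (.leaf 34)) (.leaf 41)) (.node (.leaf 44) (.leaf 57))))))) (.node (.node (.node (.node (.node (.node (.node (.leaf 5) (.leaf 21)) (.leaf 18)) (.node (.node (.leaf 101) (.leaf 38)) (.leaf 94))) (.node (.node (.node (.leaf 48) (.leaf 94)) (.leaf 21)) (.node (.node (.leaf 104) (.leaf 91)) (.leaf 28)))) (.node (.node (.node (.node (.leaf 41) (.leaf 98)) (.leaf 4)) (.node (.node (.leaf 68) (.leaf 4)) (.leaf 71))) (.node (.node (.node (.leaf 15) (.leaf 51)) (.leaf 28)) (.node (.node (.leaf 71) (.leaf 28)) (.leaf 54))))) (.node (.node (.node (.node (.node (.leaf 103) (.leaf 49)) (.leaf 106)) (.node (.node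 (.leaf 9) (.leaf 106)) (.leaf 63))) (.node (.node (.node (.leaf 76) (.leaf 43)) (.leaf 99)) (.node (.node (.leaf 93) (.leaf 29)) (.leaf 106)))) (.node (.node (.node (.node (.leaf 0) (.leaf 66)) (.leaf 23)) (.node (.node (.leaf 106) (.leaf 13)) (.leaf 19))) (.node (.node (.node (.leaf 3) (.leaf 39)) (.leaf 26)) (.node (.leaf 49) (.leaf 13)))))) (.node (.node (.node (.node (.node (.node (.leaf 84) (.leaf 40)) (.leaf 57)) (.node (.node (.leaf 0) (.leaf 67)) (.leaf 54))) (.node (.node (.node (.leaf 7) (.leaf 93)) (.leaf 60)) (.node (.node (.leaf 44) (.leaf 70)) (.leaf 17)))) (.node (.node (.node (.node (.leaf 40) (.leaf 37)) (.leaf 94)) (.node (.node (.leaf 87) (.leaf 33)) (.leaf 10))) (.node (.node (.node (.leaf 104) (.leaf 50)) (.leaf 47)) (.node (.node (.leaf 100) (.leaf 7)) (.leaf 74))))) (.node (.node (.node (.node (.node (.leaf 32) (.leaf 79)) (.leaf 95)) (.node (.node (.leaf 109) (.leaf 75)) (.leaf 102))) (.node (.node (.node (.leaf 75) (.leaf 62)) (.leaf 59)) (.node (.node (.leaf 12) (.leaf 18)) (.leaf 45)))) (.node (.node (.node (.node (.leaf 19) (.leaf 95)) (.leaf 72)) (.node (.node (.leaf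 35) (.leaf 2)) (.leaf 69))) (.node (.node (.node (.leaf 52) (.leaf 58)) (.leaf 85)) (.node (.leaf 109) (.leaf 2))))))))))

def borelTab3 : Tree (ℕ) :=
  (.node (.node (.node (.node (.node (.node (.node (.node (.node (.node (.leaf 3) (.leaf 109)) (.leaf 66)) (.node (.node (.leaf 9) (.leaf 66)) (.leaf 72))) (.node (.node (.node (.leaf 76) (.leaf 62)) (.leaf 39)) (.node (.node (.leaf 62) (.leaf 49)) (.leaf 46)))) (.node (.node (.node (.node (.leaf 29) (.leaf 26)) (.leaf 22)) (.node (.node (.leaf 46) (.leaf 102)) (.leaf 9))) (.node (.node (.node (.leaf 42) (.leaf 19)) (.leaf 96)) (.node (.node (.leaf 59) (.leaf 106)) (.leaf 52))))) (.node (.node (.node (.node (.node (.leaf 11) (.leaf 7)) (.leaf 64)) (.node (.node (.leaf 17) (.leaf 54)) (.leaf 1))) (.node (.node (.node (.leaf 44) (.leaf 61)) (.leaf 97)) (.node (.node (.leaf 61) (.leaf 67)) (.leaf 84)))) (.node (.node (.node (.node (.leaf 8) (.leaf 74)) (.leaf 31)) (.node (.node (.leaf 74) (.leaf 1)) (.leaf 97))) (.node (.node (.node (.leaf 61) (.leaf 67)) (.leaf 94)) (.node (.node (.leaf 97) (.leaf 14)) (.leaf 1)))))) (.node (.node (.node (.node (.node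 (.node (.leaf 42) (.leaf 8)) (.leaf 45)) (.node (.node (.leaf 58) (.leaf 25)) (.leaf 52))) (.node (.node (.node (.leaf 65) (.leaf 31)) (.leaf 58)) (.node (.node (.leaf 82) (.leaf 38)) (.leaf 5)))) (.node (.node (.node (.node (.leaf 28) (.leaf 5)) (.leaf 42)) (.node (.node (.leaf 55) (.leaf 61)) (.leaf 98))) (.node (.node (.node (.leaf 2) (.leaf 8)) (.leaf 105)) (.node (.node (.leaf 18) (.leaf 55)) (.leaf 72))))) (.node (.node (.node (.node (.node (.leaf 70) (.leaf 6)) (.leaf 13)) (.node (.node (.leaf 67) (.leaf 83)) (.leaf 70))) (.node (.node (.node (.leaf 43) (.leaf 70)) (.leaf 57)) (.node (.node (.leaf 0) (.leaf 6)) (.leaf 53)))) (.node (.node (.node (.node (.leaf 37) (.leaf 33)) (.leaf 0)) (.node (.node (.leaf 83) (.leaf 30)) (.leaf 67))) (.node (.node (.node (.leaf 30) (.leaf 76)) (.leaf 73)) (.node (.leaf 17) (.leaf 90))))))) (.node (.node (.node (.node (.node (.node (.node (.leaf 67) (.leaf 74)) (.leaf 0)) (.node (.node (.leaf 24) (.leaf 100)) (.leaf 67))) (.node (.node (.node (.leaf 50) (.leaf 67)) (.leaf 4)) (.node (.node (.leaf 67) (.leaf 104)) (.leaf 90)))) (.node (.node (.node (.node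 (.leaf 94) (.leaf 0)) (.leaf 27)) (.node (.node (.leaf 80) (.leaf 77)) (.leaf 84))) (.node (.node (.node (.leaf 97) (.leaf 84)) (.leaf 100)) (.node (.node (.leaf 84) (.leaf 40)) (.leaf 7))))) (.node (.node (.node (.node (.node (.leaf 75) (.leaf 22)) (.leaf 59)) (.node (.node (.leaf 32) (.leaf 99)) (.leaf 75))) (.node (.node (.node (.leaf 99) (.leaf 55)) (.leaf 12)) (.node (.node (.leaf 15) (.leaf 72)) (.leaf 99)))) (.node (.node (.node (.node (.leaf 92) (.leaf 89)) (.leaf 55)) (.node (.node (.leaf 99) (.leaf 65)) (.leaf 52))) (.node (.node (.node (.leaf 55) (.leaf 62)) (.leaf 109)) (.node (.node (.leaf 92) (.leaf 48)) (.leaf 65)))))) (.node (.node (.node (.node (.node (.node (.leaf 56) (.leaf 33)) (.leaf 30)) (.node (.node (.leaf 63) (.leaf 109)) (.leaf 36))) (.node (.node (.node (.leaf 10) (.leaf 26)) (.leaf 23)) (.node (.node (.leaf 6) (.leaf 43)) (.leaf 89)))) (.node (.node (.node (.node (.leaf 33) (.leaf 69)) (.leaf 56)) (.node (.node (.leaf 20) (.leaf 66)) (.leaf 73))) (.node (.node (.node (.leaf 46) (.leaf 3)) (.leaf 19)) (.node (.node (.leaf 73) (.leaf 49)) (.leaf 86))))) (.node (.node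 (.node (.node (.node (.leaf 55) (.leaf 31)) (.leaf 108)) (.node (.node (.leaf 81) (.leaf 18)) (.leaf 104))) (.node (.node (.node (.leaf 8) (.leaf 54)) (.leaf 11)) (.node (.node (.leaf 35) (.leaf 1)) (.leaf 78)))) (.node (.node (.node (.node (.leaf 21) (.leaf 28)) (.leaf 54)) (.node (.node (.leaf 88) (.leaf 64)) (.leaf 31))) (.node (.node (.node (.leaf 15) (.leaf 71)) (.leaf 28)) (.node (.leaf 1) (.leaf 104)))))))) (.node (.node (.node (.node (.node (.node (.node (.node (.leaf 35) (.leaf 31)) (.leaf 18)) (.node (.node (.leaf 91) (.leaf 88)) (.leaf 35))) (.node (.node (.node (.leaf 38) (.leaf 25)) (.leaf 81)) (.node (.node (.leaf 85) (.leaf 51)) (.leaf 18)))) (.node (.node (.node (.node (.leaf 61) (.leaf 98)) (.leaf 15)) (.node (.node (.leaf 68) (.leaf 95)) (.leaf 41))) (.node (.node (.node (.leaf 55) (.leaf 101)) (.leaf 48)) (.node (.node (.leaf 61) (.leaf 58)) (.leaf 85))))) (.node (.node (.node (.node (.node (.leaf 63) (.leaf 30)) (.leaf 26)) (.node (.node (.leaf 60) (.leaf 16)) (.leaf 93))) (.node (.node (.node (.leaf 106) (.leaf 3)) (.leaf 50)) (.node (.node (.leaf 93) (.leaf 100)) (.leaf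 76)))) (.node (.node (.node (.node (.leaf 100) (.leaf 26)) (.leaf 73)) (.node (.node (.leaf 36) (.leaf 33)) (.leaf 30))) (.node (.node (.node (.leaf 3) (.leaf 90)) (.leaf 6)) (.node (.node (.leaf 10) (.leaf 86)) (.leaf 53)))))) (.node (.node (.node (.node (.node (.node (.leaf 104) (.leaf 80)) (.leaf 27)) (.node (.node (.leaf 31) (.leaf 67)) (.leaf 44))) (.node (.node (.node (.leaf 97) (.leaf 64)) (.leaf 41)) (.node (.node (.leaf 44) (.leaf 50)) (.leaf 37)))) (.node (.node (.node (.node (.leaf 91) (.leaf 37)) (.leaf 34)) (.node (.node (.leaf 97) (.leaf 104)) (.leaf 40))) (.node (.node (.node (.leaf 84) (.leaf 20)) (.leaf 7)) (.node (.node (.leaf 31) (.leaf 37)) (.leaf 24))))) (.node (.node (.node (.node (.node (.leaf 92) (.leaf 59)) (.leaf 46)) (.node (.node (.leaf 79) (.leaf 25)) (.leaf 32))) (.node (.node (.node (.leaf 96) (.leaf 62)) (.leaf 89)) (.node (.node (.leaf 82) (.leaf 69)) (.leaf 35)))) (.node (.node (.node (.node (.leaf 49) (.leaf 45)) (.leaf 82)) (.node (.node (.leaf 26) (.leaf 2)) (.leaf 109))) (.node (.node (.node (.leaf 22) (.leaf 69)) (.leaf 56)) (.node (.leaf 69) (.leaf 2)))))))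 (.node (.node (.node (.node (.node (.node (.node (.leaf 99) (.leaf 36)) (.leaf 63)) (.node (.node (.leaf 96) (.leaf 12)) (.leaf 9))) (.node (.node (.node (.leaf 33) (.leaf 109)) (.leaf 106)) (.node (.node (.leaf 79) (.leaf 16)) (.leaf 63)))) (.node (.node (.node (.node (.leaf 56) (.leaf 83)) (.leaf 39)) (.node (.node (.leaf 73) (.leaf 89)) (.leaf 36))) (.node (.node (.node (.leaf 29) (.leaf 46)) (.leaf 93)) (.node (.node (.leaf 106) (.leaf 32)) (.leaf 39))))) (.node (.node (.node (.node (.node (.leaf 58) (.leaf 14)) (.leaf 91)) (.node (.node (.leaf 94) (.leaf 31)) (.leaf 58))) (.node (.node (.node (.leaf 101) (.leaf 88)) (.leaf 84)) (.node (.node (.leaf 58) (.leaf 44)) (.leaf 71)))) (.node (.node (.node (.node (.leaf 84) (.leaf 91)) (.leaf 38)) (.node (.node (.leaf 31) (.leaf 97)) (.leaf 44))) (.node (.node (.node (.leaf 48) (.leaf 14)) (.leaf 31)) (.node (.leaf 64) (.leaf 78)))))) (.node (.node (.node (.node (.node (.node (.leaf 9) (.leaf 85)) (.leaf 102)) (.node (.node (.leaf 95) (.leaf 82)) (.leaf 98))) (.node (.node (.node (.leaf 92) (.leaf 108)) (.leaf 5)) (.node (.node (.leaf 78) (.leaf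 25)) (.leaf 92)))) (.node (.node (.node (.node (.leaf 85) (.leaf 12)) (.leaf 78)) (.node (.node (.leaf 102) (.leaf 28)) (.leaf 85))) (.node (.node (.node (.leaf 19) (.leaf 35)) (.leaf 102)) (.node (.node (.leaf 55) (.leaf 52)) (.leaf 38))))) (.node (.node (.node (.node (.node (.leaf 97) (.leaf 13)) (.leaf 50)) (.node (.node (.leaf 24) (.leaf 0)) (.leaf 87))) (.node (.node (.node (.leaf 20) (.leaf 7)) (.leaf 43)) (.node (.node (.leaf 47) (.leaf 53)) (.leaf 90)))) (.node (.node (.node (.node (.leaf 4) (.leaf 40)) (.leaf 97)) (.node (.node (.leaf 70) (.leaf 37)) (.leaf 73))) (.node (.node (.node (.leaf 107) (.leaf 13)) (.leaf 100)) (.node (.leaf 53) (.leaf 67))))))))) (.node (.node (.node (.node (.node (.node (.node (.node (.node (.leaf 19) (.leaf 95)) (.leaf 92)) (.node (.node (.leaf 35) (.leaf 32)) (.leaf 59))) (.node (.node (.node (.leaf 82) (.leaf 8)) (.leaf 15)) (.node (.node (.leaf 59) (.leaf 15)) (.leaf 32)))) (.node (.node (.node (.node (.leaf 15) (.leaf 32)) (.leaf 49)) (.node (.node (.leaf 12) (.leaf 28)) (.leaf 25))) (.node (.node (.node (.leaf 69) (.leaf 45)) (.leaf 22)) (.node (.node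 (.leaf 25) (.leaf 22)) (.leaf 8))))) (.node (.node (.node (.node (.node (.leaf 97) (.leaf 93)) (.leaf 70)) (.node (.node (.leaf 44) (.leaf 30)) (.leaf 37))) (.node (.node (.node (.leaf 60) (.leaf 27)) (.leaf 44)) (.node (.node (.leaf 77) (.leaf 3)) (.leaf 0)))) (.node (.node (.node (.node (.leaf 74) (.leaf 90)) (.leaf 27)) (.node (.node (.leaf 50) (.leaf 17)) (.leaf 64))) (.node (.node (.node (.leaf 27) (.leaf 83)) (.leaf 60)) (.node (.node (.leaf 34) (.leaf 20)) (.leaf 87)))))) (.node (.node (.node (.node (.node (.node (.leaf 68) (.leaf 104)) (.leaf 101)) (.node (.node (.leaf 64) (.leaf 71)) (.leaf 88))) (.node (.node (.node (.leaf 81) (.leaf 78)) (.leaf 14)) (.node (.node (.leaf 38) (.leaf 84)) (.leaf 71)))) (.node (.node (.node (.node (.leaf 14) (.leaf 21)) (.leaf 98)) (.node (.node (.leaf 101) (.leaf 98)) (.leaf 24))) (.node (.node (.node (.leaf 98) (.leaf 14)) (.leaf 31)) (.node (.node (.leaf 64) (.leaf 1)) (.leaf 98))))) (.node (.node (.node (.node (.node (.leaf 16) (.leaf 103)) (.leaf 29)) (.node (.node (.leaf 33) (.leaf 49)) (.leaf 26))) (.node (.node (.node (.leaf 89) (.leaf 36)) (.leaf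 73)) (.node (.node (.leaf 46) (.leaf 103)) (.leaf 9)))) (.node (.node (.node (.node (.leaf 93) (.leaf 79)) (.leaf 96)) (.node (.node (.leaf 49) (.leaf 76)) (.leaf 3))) (.node (.node (.node (.leaf 106) (.leaf 23)) (.leaf 69)) (.node (.leaf 103) (.leaf 36))))))) (.node (.node (.node (.node (.node (.node (.node (.leaf 83) (.leaf 50)) (.leaf 76)) (.node (.node (.leaf 30) (.leaf 46)) (.leaf 43))) (.node (.node (.node (.leaf 17) (.leaf 3)) (.leaf 30)) (.node (.node (.leaf 13) (.leaf 70)) (.leaf 76)))) (.node (.node (.node (.node (.leaf 70) (.leaf 66)) (.leaf 103)) (.node (.node (.leaf 27) (.leaf 23)) (.leaf 100))) (.node (.node (.node (.leaf 33) (.leaf 90)) (.leaf 36)) (.node (.node (.leaf 50) (.leaf 6)) (.leaf 23))))) (.node (.node (.node (.node (.node (.leaf 2) (.leaf 58)) (.leaf 75)) (.node (.node (.leaf 58) (.leaf 75)) (.leaf 21))) (.node (.node (.node (.leaf 65) (.leaf 11)) (.leaf 78)) (.node (.node (.leaf 32) (.leaf 58)) (.leaf 15)))) (.node (.node (.node (.node (.leaf 18) (.leaf 55)) (.leaf 101)) (.node (.node (.leaf 75) (.leaf 81)) (.leaf 108))) (.node (.node (.node (.leaf 12) (.leaf 88)) (.leaf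 95)) (.node (.leaf 78) (.leaf 101)))))) (.node (.node (.node (.node (.node (.node (.leaf 92) (.leaf 109)) (.leaf 96)) (.node (.node (.leaf 79) (.leaf 96)) (.leaf 62))) (.node (.node (.node (.leaf 56) (.leaf 12)) (.leaf 89)) (.node (.node (.leaf 12) (.leaf 39)) (.leaf 66)))) (.node (.node (.node (.node (.leaf 109) (.leaf 86)) (.leaf 22)) (.node (.node (.leaf 6) (.leaf 72)) (.leaf 9))) (.node (.node (.node (.leaf 32) (.leaf 19)) (.leaf 26)) (.node (.node (.leaf 69) (.leaf 75)) (.leaf 12))))) (.node (.node (.node (.node (.node (.leaf 101) (.leaf 67)) (.leaf 34)) (.node (.node (.leaf 57) (.leaf 84)) (.leaf 71))) (.node (.node (.node (.leaf 54) (.leaf 81)) (.leaf 27)) (.node (.node (.leaf 71) (.leaf 77)) (.leaf 84)))) (.node (.node (.node (.node (.leaf 57) (.leaf 74)) (.leaf 21)) (.node (.node (.leaf 44) (.leaf 80)) (.leaf 27))) (.node (.node (.node (.leaf 71) (.leaf 47)) (.leaf 14)) (.node (.leaf 77) (.leaf 71)))))))) (.node (.node (.node (.node (.node (.node (.node (.node (.leaf 51) (.leaf 27)) (.leaf 84)) (.node (.node (.leaf 18) (.leaf 24)) (.leaf 101))) (.node (.node (.node (.leaf 44) (.leaf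 71)) (.leaf 48)) (.node (.node (.leaf 31) (.leaf 27)) (.leaf 4)))) (.node (.node (.node (.node (.leaf 108) (.leaf 104)) (.leaf 51)) (.node (.node (.leaf 4) (.leaf 41)) (.leaf 57))) (.node (.node (.node (.leaf 101) (.leaf 27)) (.leaf 84)) (.node (.node (.leaf 38) (.leaf 14)) (.leaf 101))))) (.node (.node (.node (.node (.node (.leaf 109) (.leaf 106)) (.leaf 43)) (.node (.node (.leaf 106) (.leaf 2)) (.leaf 49))) (.node (.node (.node (.leaf 53) (.leaf 79)) (.leaf 6)) (.node (.node (.leaf 109) (.leaf 86)) (.leaf 102)))) (.node (.node (.node (.node (.leaf 66) (.leaf 62)) (.leaf 69)) (.node (.node (.leaf 23) (.leaf 49)) (.leaf 86))) (.node (.node (.node (.leaf 79) (.leaf 26)) (.leaf 82)) (.node (.node (.leaf 106) (.leaf 92)) (.leaf 99)))))) (.node (.node (.node (.node (.node (.node (.leaf 10) (.leaf 57)) (.leaf 83)) (.node (.node (.leaf 47) (.leaf 3)) (.leaf 70))) (.node (.node (.node (.leaf 3) (.leaf 40)) (.leaf 77)) (.node (.node (.leaf 50) (.leaf 107)) (.leaf 13)))) (.node (.node (.node (.node (.leaf 57) (.leaf 53)) (.leaf 0)) (.node (.node (.leaf 33) (.leaf 0)) (.leaf 107))) (.node (.node (.node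 (.leaf 60) (.leaf 97)) (.leaf 83)) (.node (.node (.leaf 27) (.leaf 93)) (.leaf 40))))) (.node (.node (.node (.node (.node (.leaf 38) (.leaf 85)) (.leaf 82)) (.node (.node (.leaf 45) (.leaf 92)) (.leaf 98))) (.node (.node (.node (.leaf 62) (.leaf 98)) (.leaf 105)) (.node (.node (.leaf 108) (.leaf 45)) (.leaf 12)))) (.node (.node (.node (.node (.leaf 75) (.leaf 82)) (.leaf 68)) (.node (.node (.leaf 52) (.leaf 28)) (.leaf 95))) (.node (.node (.node (.leaf 58) (.leaf 35)) (.leaf 42)) (.node (.leaf 45) (.leaf 58))))))) (.node (.node (.node (.node (.node (.node (.node (.leaf 6) (.leaf 22)) (.leaf 19)) (.node (.node (.leaf 102) (.leaf 39)) (.leaf 95))) (.node (.node (.node (.leaf 49) (.leaf 95)) (.leaf 22)) (.node (.node (.leaf 105) (.leaf 92)) (.leaf 29)))) (.node (.node (.node (.node (.leaf 42) (.leaf 99)) (.leaf 5)) (.node (.node (.leaf 69) (.leaf 5)) (.leaf 72))) (.node (.node (.node (.leaf 16) (.leaf 52)) (.leaf 29)) (.node (.node (.leaf 72) (.leaf 29)) (.leaf 55))))) (.node (.node (.node (.node (.node (.leaf 104) (.leaf 40)) (.leaf 107)) (.node (.node (.leaf 0) (.leaf 107)) (.leaf 64))) (.node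 (.node (.node (.leaf 77) (.leaf 44)) (.leaf 90)) (.node (.node (.leaf 94) (.leaf 20)) (.leaf 107)))) (.node (.node (.node (.node (.leaf 1) (.leaf 67)) (.leaf 24)) (.node (.node (.leaf 107) (.leaf 14)) (.leaf 10))) (.node (.node (.node (.leaf 4) (.leaf 30)) (.leaf 27)) (.node (.leaf 40) (.leaf 14)))))) (.node (.node (.node (.node (.node (.node (.leaf 85) (.leaf 41)) (.leaf 58)) (.node (.node (.leaf 1) (.leaf 68)) (.leaf 55))) (.node (.node (.node (.leaf 8) (.leaf 94)) (.leaf 61)) (.node (.node (.leaf 45) (.leaf 71)) (.leaf 18)))) (.node (.node (.node (.node (.leaf 41) (.leaf 38)) (.leaf 95)) (.node (.node (.leaf 88) (.leaf 34)) (.leaf 11))) (.node (.node (.node (.leaf 105) (.leaf 51)) (.leaf 48)) (.node (.node (.leaf 101) (.leaf 8)) (.leaf 75))))) (.node (.node (.node (.node (.node (.leaf 33) (.leaf 70)) (.leaf 96)) (.node (.node (.leaf 100) (.leaf 76)) (.leaf 103))) (.node (.node (.node (.leaf 76) (.leaf 63)) (.leaf 50)) (.node (.node (.leaf 13) (.leaf 19)) (.leaf 46)))) (.node (.node (.node (.node (.leaf 10) (.leaf 96)) (.leaf 73)) (.node (.node (.leaf 36) (.leaf 3)) (.leaf 60))) (.node (.node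 (.node (.leaf 53) (.leaf 59)) (.leaf 86)) (.node (.leaf 100) (.leaf 3))))))))))

def borelTab4 : Tree (ℕ) :=
  (.node (.node (.node (.node (.node (.node (.node (.node (.node (.node (.leaf 4) (.leaf 100)) (.leaf 27)) (.node (.node (.leaf 0) (.leaf 67)) (.leaf 73))) (.node (.node (.node (.leaf 77) (.leaf 33)) (.leaf 30)) (.node (.node (.leaf 63) (.leaf 40)) (.leaf 47)))) (.node (.node (.node (.node (.leaf 20) (.leaf 27)) (.leaf 23)) (.node (.node (.leaf 47) (.leaf 103)) (.leaf 10))) (.node (.node (.node (.leaf 14) (.leaf 10)) (.leaf 97)) (.node (.node (.leaf 50) (.leaf 67)) (.leaf 53))))) (.node (.node (.node (.node (.node (.leaf 52) (.leaf 8)) (.leaf 65)) (.node (.node (.leaf 18) (.leaf 45)) (.leaf 2))) (.node (.node (.node (.leaf 45) (.leaf 62)) (.leaf 18)) (.node (.node (.leaf 62) (.leaf 68)) (.leaf 85)))) (.node (.node (.node (.node (.leaf 9) (.leaf 75)) (.leaf 32)) (.node (.node (.leaf 65) (.leaf 2)) (.leaf 98))) (.node (.node (.node (.leaf 62) (.leaf 68)) (.leaf 95)) (.node (.node (.leaf 98) (.leaf 15)) (.leaf 42)))))) (.node (.node (.node (.node (.node (.node (.leaf 43) (.leaf 9)) (.leaf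 46)) (.node (.node (.leaf 9) (.leaf 26)) (.leaf 53))) (.node (.node (.node (.leaf 66) (.leaf 32)) (.leaf 59)) (.node (.node (.leaf 83) (.leaf 39)) (.leaf 96)))) (.node (.node (.node (.node (.leaf 29) (.leaf 6)) (.leaf 13)) (.node (.node (.leaf 56) (.leaf 62)) (.leaf 99))) (.node (.node (.node (.leaf 3) (.leaf 69)) (.leaf 106)) (.node (.node (.leaf 19) (.leaf 56)) (.leaf 73))))) (.node (.node (.node (.node (.node (.leaf 71) (.leaf 78)) (.leaf 14)) (.node (.node (.leaf 68) (.leaf 84)) (.leaf 71))) (.node (.node (.node (.leaf 44) (.leaf 71)) (.leaf 58)) (.node (.node (.leaf 21) (.leaf 7)) (.leaf 54)))) (.node (.node (.node (.node (.leaf 68) (.leaf 34)) (.leaf 1)) (.node (.node (.leaf 84) (.leaf 51)) (.leaf 68))) (.node (.node (.node (.leaf 31) (.leaf 77)) (.leaf 14)) (.node (.leaf 18) (.leaf 91))))))) (.node (.node (.node (.node (.node (.node (.node (.leaf 68) (.leaf 65)) (.leaf 1)) (.node (.node (.leaf 25) (.leaf 101)) (.leaf 68))) (.node (.node (.node (.leaf 51) (.leaf 68)) (.leaf 5)) (.node (.node (.leaf 98) (.leaf 105)) (.leaf 91)))) (.node (.node (.node (.node (.leaf 85) (.leaf 1)) (.leaf 28))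 (.node (.node (.leaf 81) (.leaf 108)) (.leaf 85))) (.node (.node (.node (.leaf 98) (.leaf 85)) (.leaf 11)) (.node (.node (.leaf 85) (.leaf 41)) (.leaf 8))))) (.node (.node (.node (.node (.node (.leaf 76) (.leaf 23)) (.leaf 60)) (.node (.node (.leaf 33) (.leaf 90)) (.leaf 76))) (.node (.node (.node (.leaf 90) (.leaf 36)) (.leaf 13)) (.node (.node (.leaf 16) (.leaf 73)) (.leaf 90)))) (.node (.node (.node (.node (.leaf 93) (.leaf 80)) (.leaf 56)) (.node (.node (.leaf 90) (.leaf 66)) (.leaf 23))) (.node (.node (.node (.leaf 36) (.leaf 63)) (.leaf 100)) (.node (.leaf 93) (.leaf 66)))))) (.node (.node (.node (.node (.node (.node (.leaf 57) (.leaf 34)) (.leaf 31)) (.node (.node (.leaf 64) (.leaf 100)) (.leaf 107))) (.node (.node (.node (.leaf 31) (.leaf 27)) (.leaf 24)) (.node (.node (.leaf 7) (.leaf 94)) (.leaf 80)))) (.node (.node (.node (.node (.leaf 34) (.leaf 70)) (.leaf 57)) (.node (.node (.leaf 21) (.leaf 67)) (.leaf 74))) (.node (.node (.node (.leaf 47) (.leaf 4)) (.leaf 10)) (.node (.node (.leaf 14) (.leaf 40)) (.leaf 87))))) (.node (.node (.node (.node (.node (.leaf 56) (.leaf 32)) (.leaf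 109)) (.node (.node (.leaf 12) (.leaf 19)) (.leaf 105))) (.node (.node (.node (.leaf 9) (.leaf 55)) (.leaf 12)) (.node (.node (.leaf 36) (.leaf 2)) (.leaf 29)))) (.node (.node (.node (.node (.leaf 22) (.leaf 29)) (.leaf 46)) (.node (.node (.leaf 89) (.leaf 65)) (.leaf 32))) (.node (.node (.node (.leaf 16) (.leaf 2)) (.leaf 29)) (.node (.leaf 2) (.leaf 105)))))))) (.node (.node (.node (.node (.node (.node (.node (.node (.leaf 36) (.leaf 32)) (.leaf 19)) (.node (.node (.leaf 92) (.leaf 89)) (.leaf 16))) (.node (.node (.node (.leaf 99) (.leaf 26)) (.leaf 82)) (.node (.node (.leaf 86) (.leaf 92)) (.leaf 19)))) (.node (.node (.node (.node (.leaf 62) (.leaf 49)) (.leaf 16)) (.node (.node (.leaf 69) (.leaf 96)) (.leaf 42))) (.node (.node (.node (.leaf 56) (.leaf 102)) (.leaf 49)) (.node (.node (.leaf 102) (.leaf 59)) (.leaf 86))))) (.node (.node (.node (.node (.node (.leaf 64) (.leaf 31)) (.leaf 27)) (.node (.node (.leaf 81) (.leaf 17)) (.leaf 94))) (.node (.node (.node (.leaf 107) (.leaf 4)) (.leaf 51)) (.node (.node (.leaf 94) (.leaf 101)) (.leaf 37)))) (.node (.node (.node (.node (.leaf 101) (.leaf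 27)) (.leaf 14)) (.node (.node (.leaf 37) (.leaf 34)) (.leaf 31))) (.node (.node (.node (.leaf 4) (.leaf 1)) (.leaf 7)) (.node (.node (.leaf 11) (.leaf 87)) (.leaf 54)))))) (.node (.node (.node (.node (.node (.node (.leaf 105) (.leaf 81)) (.leaf 58)) (.node (.node (.leaf 32) (.leaf 68)) (.leaf 45))) (.node (.node (.node (.leaf 98) (.leaf 55)) (.leaf 42)) (.node (.node (.leaf 45) (.leaf 51)) (.leaf 38)))) (.node (.node (.node (.node (.leaf 92) (.leaf 38)) (.leaf 35)) (.node (.node (.leaf 98) (.leaf 105)) (.leaf 62))) (.node (.node (.node (.leaf 75) (.leaf 21)) (.leaf 8)) (.node (.node (.leaf 32) (.leaf 68)) (.leaf 25))))) (.node (.node (.node (.node (.node (.leaf 63) (.leaf 50)) (.leaf 47)) (.node (.node (.leaf 70) (.leaf 6)) (.leaf 33))) (.node (.node (.node (.leaf 97) (.leaf 63)) (.leaf 90)) (.node (.node (.leaf 83) (.leaf 60)) (.leaf 36)))) (.node (.node (.node (.node (.leaf 40) (.leaf 46)) (.leaf 83)) (.node (.node (.leaf 97) (.leaf 3)) (.leaf 100))) (.node (.node (.node (.leaf 23) (.leaf 60)) (.leaf 57)) (.node (.leaf 60) (.leaf 83))))))) (.node (.node (.node (.node (.node (.node (.node (.leaf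 100) (.leaf 37)) (.leaf 64)) (.node (.node (.leaf 97) (.leaf 94)) (.leaf 0))) (.node (.node (.node (.leaf 34) (.leaf 100)) (.leaf 67)) (.node (.node (.leaf 70) (.leaf 17)) (.leaf 64)))) (.node (.node (.node (.node (.leaf 57) (.leaf 84)) (.leaf 30)) (.node (.node (.leaf 14) (.leaf 80)) (.leaf 37))) (.node (.node (.node (.leaf 20) (.leaf 47)) (.leaf 94)) (.node (.node (.leaf 107) (.leaf 33)) (.leaf 40))))) (.node (.node (.node (.node (.node (.leaf 59) (.leaf 15)) (.leaf 92)) (.node (.node (.leaf 95) (.leaf 32)) (.leaf 9))) (.node (.node (.node (.leaf 32) (.leaf 89)) (.leaf 85)) (.node (.node (.leaf 59) (.leaf 35)) (.leaf 72)))) (.node (.node (.node (.node (.leaf 85) (.leaf 22)) (.leaf 39)) (.node (.node (.leaf 32) (.leaf 98)) (.leaf 45))) (.node (.node (.node (.leaf 49) (.leaf 15)) (.leaf 32)) (.node (.leaf 55) (.leaf 79)))))) (.node (.node (.node (.node (.node (.node (.leaf 0) (.leaf 66)) (.leaf 103)) (.node (.node (.leaf 96) (.leaf 83)) (.leaf 99))) (.node (.node (.node (.leaf 93) (.leaf 109)) (.leaf 6)) (.node (.node (.leaf 30) (.leaf 26)) (.leaf 93)))) (.node (.node (.node (.node (.leaf 66)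 (.leaf 13)) (.leaf 79)) (.node (.node (.leaf 103) (.leaf 89)) (.leaf 86))) (.node (.node (.node (.leaf 10) (.leaf 36)) (.leaf 73)) (.node (.node (.leaf 56) (.leaf 53)) (.leaf 39))))) (.node (.node (.node (.node (.node (.leaf 98) (.leaf 14)) (.leaf 71)) (.node (.node (.leaf 25) (.leaf 1)) (.leaf 88))) (.node (.node (.node (.leaf 21) (.leaf 38)) (.leaf 44)) (.node (.node (.leaf 48) (.leaf 54)) (.leaf 91)))) (.node (.node (.node (.node (.leaf 5) (.leaf 41)) (.leaf 98)) (.node (.node (.leaf 71) (.leaf 38)) (.leaf 14))) (.node (.node (.node (.leaf 28) (.leaf 14)) (.leaf 101)) (.node (.leaf 54) (.leaf 68))))))))) (.node (.node (.node (.node (.node (.node (.node (.node (.node (.leaf 20) (.leaf 96)) (.leaf 93)) (.node (.node (.leaf 36) (.leaf 3)) (.leaf 50))) (.node (.node (.node (.leaf 83) (.leaf 9)) (.leaf 106)) (.node (.node (.leaf 50) (.leaf 16)) (.leaf 33)))) (.node (.node (.node (.node (.leaf 16) (.leaf 33)) (.leaf 40)) (.node (.node (.leaf 93) (.leaf 29)) (.leaf 26))) (.node (.node (.node (.leaf 60) (.leaf 46)) (.leaf 23)) (.node (.node (.leaf 26) (.leaf 23)) (.leaf 70))))) (.node (.node (.node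 (.node (.node (.leaf 98) (.leaf 94)) (.leaf 71)) (.node (.node (.leaf 45) (.leaf 31)) (.leaf 68))) (.node (.node (.node (.leaf 81) (.leaf 28)) (.leaf 45)) (.node (.node (.leaf 78) (.leaf 54)) (.leaf 1)))) (.node (.node (.node (.node (.leaf 75) (.leaf 1)) (.leaf 28)) (.node (.node (.leaf 51) (.leaf 18)) (.leaf 65))) (.node (.node (.node (.leaf 28) (.leaf 84)) (.leaf 61)) (.node (.node (.leaf 25) (.leaf 21)) (.leaf 88)))))) (.node (.node (.node (.node (.node (.node (.leaf 69) (.leaf 95)) (.leaf 102)) (.node (.node (.leaf 65) (.leaf 72)) (.leaf 89))) (.node (.node (.node (.leaf 82) (.leaf 79)) (.leaf 15)) (.node (.node (.leaf 99) (.leaf 85)) (.leaf 72)))) (.node (.node (.node (.node (.leaf 6) (.leaf 22)) (.leaf 99)) (.node (.node (.leaf 102) (.leaf 49)) (.leaf 25))) (.node (.node (.node (.leaf 99) (.leaf 15)) (.leaf 72)) (.node (.node (.leaf 65) (.leaf 2)) (.leaf 99))))) (.node (.node (.node (.node (.node (.leaf 17) (.leaf 104)) (.leaf 30)) (.node (.node (.leaf 34) (.leaf 40)) (.leaf 27))) (.node (.node (.node (.leaf 80) (.leaf 107)) (.leaf 74)) (.node (.node (.leaf 47) (.leaf 104)) (.leaf 0))))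 (.node (.node (.node (.node (.leaf 94) (.leaf 70)) (.leaf 97)) (.node (.node (.leaf 40) (.leaf 77)) (.leaf 54))) (.node (.node (.node (.leaf 67) (.leaf 24)) (.leaf 60)) (.node (.leaf 104) (.leaf 37))))))) (.node (.node (.node (.node (.node (.node (.node (.leaf 84) (.leaf 51)) (.leaf 38)) (.node (.node (.leaf 31) (.leaf 47)) (.leaf 44))) (.node (.node (.node (.leaf 18) (.leaf 54)) (.leaf 31)) (.node (.node (.leaf 14) (.leaf 71)) (.leaf 77)))) (.node (.node (.node (.node (.leaf 71) (.leaf 67)) (.leaf 104)) (.node (.node (.leaf 28) (.leaf 24)) (.leaf 11))) (.node (.node (.node (.leaf 84) (.leaf 91)) (.leaf 37)) (.node (.node (.leaf 51) (.leaf 77)) (.leaf 24))))) (.node (.node (.node (.node (.node (.leaf 83) (.leaf 59)) (.leaf 76)) (.node (.node (.leaf 59) (.leaf 56)) (.leaf 22))) (.node (.node (.node (.leaf 66) (.leaf 12)) (.leaf 29)) (.node (.node (.leaf 33) (.leaf 59)) (.leaf 16)))) (.node (.node (.node (.node (.leaf 19) (.leaf 56)) (.leaf 102)) (.node (.node (.leaf 56) (.leaf 82)) (.leaf 109))) (.node (.node (.node (.leaf 13) (.leaf 89)) (.leaf 96)) (.node (.leaf 79) (.leaf 32)))))) (.node (.node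 (.node (.node (.node (.node (.leaf 93) (.leaf 100)) (.leaf 97)) (.node (.node (.leaf 80) (.leaf 97)) (.leaf 63))) (.node (.node (.node (.leaf 57) (.leaf 13)) (.leaf 80)) (.node (.node (.leaf 13) (.leaf 30)) (.leaf 27)))) (.node (.node (.node (.node (.leaf 100) (.leaf 87)) (.leaf 103)) (.node (.node (.leaf 7) (.leaf 73)) (.leaf 0))) (.node (.node (.node (.leaf 33) (.leaf 20)) (.leaf 27)) (.node (.node (.leaf 60) (.leaf 76)) (.leaf 13))))) (.node (.node (.node (.node (.node (.leaf 102) (.leaf 98)) (.leaf 35)) (.node (.node (.leaf 58) (.leaf 85)) (.leaf 72))) (.node (.node (.node (.leaf 55) (.leaf 82)) (.leaf 28)) (.node (.node (.leaf 2) (.leaf 78)) (.leaf 85)))) (.node (.node (.node (.node (.leaf 88) (.leaf 75)) (.leaf 22)) (.node (.node (.leaf 45) (.leaf 102)) (.leaf 28))) (.node (.node (.node (.leaf 72) (.leaf 48)) (.leaf 5)) (.node (.leaf 78) (.leaf 72)))))))) (.node (.node (.node (.node (.node (.node (.node (.node (.leaf 52) (.leaf 28)) (.leaf 85)) (.node (.node (.leaf 79) (.leaf 25)) (.leaf 102))) (.node (.node (.node (.leaf 45) (.leaf 72)) (.leaf 49)) (.node (.node (.leaf 32) (.leaf 28))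 (.leaf 105)))) (.node (.node (.node (.node (.leaf 109) (.leaf 105)) (.leaf 92)) (.node (.node (.leaf 5) (.leaf 42)) (.leaf 58))) (.node (.node (.node (.leaf 102) (.leaf 58)) (.leaf 85)) (.node (.node (.leaf 39) (.leaf 15)) (.leaf 102))))) (.node (.node (.node (.node (.node (.leaf 100) (.leaf 67)) (.leaf 44)) (.node (.node (.leaf 107) (.leaf 3)) (.leaf 40))) (.node (.node (.node (.leaf 54) (.leaf 70)) (.leaf 7)) (.node (.node (.leaf 0) (.leaf 87)) (.leaf 103)))) (.node (.node (.node (.node (.leaf 27) (.leaf 63)) (.leaf 60)) (.node (.node (.leaf 24) (.leaf 50)) (.leaf 87))) (.node (.node (.node (.leaf 70) (.leaf 27)) (.leaf 54)) (.node (.node (.leaf 107) (.leaf 93)) (.leaf 90)))))) (.node (.node (.node (.node (.node (.node (.leaf 31) (.leaf 58)) (.leaf 84)) (.node (.node (.leaf 48) (.leaf 54)) (.leaf 71))) (.node (.node (.node (.leaf 4) (.leaf 41)) (.leaf 108)) (.node (.node (.leaf 51) (.leaf 108)) (.leaf 14)))) (.node (.node (.node (.node (.leaf 58) (.leaf 54)) (.leaf 1)) (.node (.node (.leaf 84) (.leaf 1)) (.leaf 108))) (.node (.node (.node (.leaf 61) (.leaf 98)) (.leaf 84)) (.node (.node (.leaf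 28) (.leaf 94)) (.leaf 61))))) (.node (.node (.node (.node (.node (.leaf 39) (.leaf 86)) (.leaf 83)) (.node (.node (.leaf 46) (.leaf 93)) (.leaf 49))) (.node (.node (.node (.leaf 33) (.leaf 99)) (.leaf 106)) (.node (.node (.leaf 109) (.leaf 26)) (.leaf 13)))) (.node (.node (.node (.node (.leaf 76) (.leaf 53)) (.leaf 69)) (.node (.node (.leaf 53) (.leaf 29)) (.leaf 96))) (.node (.node (.node (.leaf 59) (.leaf 36)) (.leaf 43)) (.node (.leaf 26) (.leaf 59))))))) (.node (.node (.node (.node (.node (.node (.node (.leaf 7) (.leaf 23)) (.leaf 10)) (.node (.node (.leaf 103) (.leaf 30)) (.leaf 76))) (.node (.node (.node (.leaf 50) (.leaf 96)) (.leaf 23)) (.node (.node (.leaf 106) (.leaf 63)) (.leaf 20)))) (.node (.node (.node (.node (.leaf 43) (.leaf 100)) (.leaf 6)) (.node (.node (.leaf 60) (.leaf 6)) (.leaf 73))) (.node (.node (.node (.leaf 17) (.leaf 53)) (.leaf 20)) (.node (.node (.leaf 43) (.leaf 20)) (.leaf 56))))) (.node (.node (.node (.node (.node (.leaf 105) (.leaf 41)) (.leaf 108)) (.node (.node (.leaf 22) (.leaf 108)) (.leaf 65))) (.node (.node (.node (.leaf 78) (.leaf 45)) (.leaf 91)) (.node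 (.node (.leaf 95) (.leaf 21)) (.leaf 28)))) (.node (.node (.node (.node (.leaf 2) (.leaf 68)) (.leaf 15)) (.node (.node (.leaf 108) (.leaf 15)) (.leaf 11))) (.node (.node (.node (.leaf 5) (.leaf 51)) (.leaf 28)) (.node (.leaf 41) (.leaf 15)))))) (.node (.node (.node (.node (.node (.node (.leaf 86) (.leaf 42)) (.leaf 9)) (.node (.node (.leaf 2) (.leaf 69)) (.leaf 56))) (.node (.node (.node (.leaf 9) (.leaf 86)) (.leaf 62)) (.node (.node (.leaf 46) (.leaf 72)) (.leaf 19)))) (.node (.node (.node (.node (.leaf 42) (.leaf 39)) (.leaf 96)) (.node (.node (.leaf 89) (.leaf 35)) (.leaf 52))) (.node (.node (.node (.leaf 86) (.leaf 52)) (.leaf 49)) (.node (.node (.leaf 102) (.leaf 69)) (.leaf 76))))) (.node (.node (.node (.node (.node (.leaf 84) (.leaf 71)) (.leaf 97)) (.node (.node (.leaf 101) (.leaf 37)) (.leaf 104))) (.node (.node (.node (.leaf 77) (.leaf 64)) (.leaf 71)) (.node (.node (.leaf 14) (.leaf 10)) (.leaf 47)))) (.node (.node (.node (.node (.leaf 11) (.leaf 97)) (.leaf 74)) (.node (.node (.leaf 107) (.leaf 4)) (.leaf 61))) (.node (.node (.node (.leaf 54) (.leaf 50)) (.leaf 87)) (.node (.leaf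 101) (.leaf 54))))))))))

def borelTab5 : Tree (ℕ) :=
  (.node (.node (.node (.node (.node (.node (.node (.node (.node (.node (.leaf 5) (.leaf 101)) (.leaf 28)) (.node (.node (.leaf 1) (.leaf 68)) (.leaf 74))) (.node (.node (.node (.leaf 78) (.leaf 34)) (.leaf 31)) (.node (.node (.leaf 64) (.leaf 41)) (.leaf 48)))) (.node (.node (.node (.node (.leaf 21) (.leaf 28)) (.leaf 24)) (.node (.node (.leaf 48) (.leaf 104)) (.leaf 11))) (.node (.node (.node (.leaf 15) (.leaf 11)) (.leaf 98)) (.node (.node (.leaf 51) (.leaf 68)) (.leaf 54))))) (.node (.node (.node (.node (.node (.leaf 53) (.leaf 9)) (.leaf 66)) (.node (.node (.leaf 19) (.leaf 46)) (.leaf 3))) (.node (.node (.node (.leaf 46) (.leaf 63)) (.leaf 19)) (.node (.node (.leaf 63) (.leaf 69)) (.leaf 86)))) (.node (.node (.node (.node (.leaf 0) (.leaf 76)) (.leaf 33)) (.node (.node (.leaf 66) (.leaf 3)) (.leaf 99))) (.node (.node (.node (.leaf 63) (.leaf 69)) (.leaf 96)) (.node (.node (.leaf 99) (.leaf 16)) (.leaf 43)))))) (.node (.node (.node (.node (.node (.node (.leaf 44) (.leaf 0)) (.leaf 47)) (.node (.node (.leaf 0) (.leaf 27)) (.leaf 54)))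 (.node (.node (.node (.leaf 67) (.leaf 33)) (.leaf 50)) (.node (.node (.leaf 84) (.leaf 30)) (.leaf 97)))) (.node (.node (.node (.node (.leaf 20) (.leaf 7)) (.leaf 14)) (.node (.node (.leaf 57) (.leaf 63)) (.leaf 90))) (.node (.node (.node (.leaf 4) (.leaf 60)) (.leaf 107)) (.node (.node (.leaf 10) (.leaf 57)) (.leaf 74))))) (.node (.node (.node (.node (.node (.leaf 72) (.leaf 79)) (.leaf 15)) (.node (.node (.leaf 69) (.leaf 85)) (.leaf 72))) (.node (.node (.node (.leaf 45) (.leaf 72)) (.leaf 59)) (.node (.node (.leaf 22) (.leaf 8)) (.leaf 55)))) (.node (.node (.node (.node (.leaf 69) (.leaf 35)) (.leaf 2)) (.node (.node (.leaf 85) (.leaf 52)) (.leaf 69))) (.node (.node (.node (.leaf 32) (.leaf 78)) (.leaf 15)) (.node (.leaf 19) (.leaf 92))))))) (.node (.node (.node (.node (.node (.node (.node (.leaf 69) (.leaf 66)) (.leaf 2)) (.node (.node (.leaf 26) (.leaf 102)) (.leaf 69))) (.node (.node (.node (.leaf 52) (.leaf 69)) (.leaf 6)) (.node (.node (.leaf 99) (.leaf 106)) (.leaf 92)))) (.node (.node (.node (.node (.leaf 86) (.leaf 2)) (.leaf 29)) (.node (.node (.leaf 82) (.leaf 109)) (.leaf 86)))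 (.node (.node (.node (.leaf 99) (.leaf 86)) (.leaf 12)) (.node (.node (.leaf 86) (.leaf 42)) (.leaf 9))))) (.node (.node (.node (.node (.node (.leaf 77) (.leaf 24)) (.leaf 61)) (.node (.node (.leaf 34) (.leaf 91)) (.leaf 77))) (.node (.node (.node (.leaf 91) (.leaf 37)) (.leaf 14)) (.node (.node (.leaf 17) (.leaf 74)) (.leaf 91)))) (.node (.node (.node (.node (.leaf 94) (.leaf 81)) (.leaf 57)) (.node (.node (.leaf 91) (.leaf 67)) (.leaf 24))) (.node (.node (.node (.leaf 37) (.leaf 64)) (.leaf 101)) (.node (.leaf 94) (.leaf 67)))))) (.node (.node (.node (.node (.node (.node (.leaf 58) (.leaf 35)) (.leaf 32)) (.node (.node (.leaf 65) (.leaf 101)) (.leaf 108))) (.node (.node (.node (.leaf 32) (.leaf 28)) (.leaf 25)) (.node (.node (.leaf 8) (.leaf 95)) (.leaf 81)))) (.node (.node (.node (.node (.leaf 35) (.leaf 71)) (.leaf 58)) (.node (.node (.leaf 22) (.leaf 68)) (.leaf 75))) (.node (.node (.node (.leaf 48) (.leaf 5)) (.leaf 11)) (.node (.node (.leaf 15) (.leaf 41)) (.leaf 88))))) (.node (.node (.node (.node (.node (.leaf 57) (.leaf 33)) (.leaf 100)) (.node (.node (.leaf 13) (.leaf 10)) (.leaf 106)))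 (.node (.node (.node (.leaf 0) (.leaf 56)) (.leaf 13)) (.node (.node (.leaf 37) (.leaf 3)) (.leaf 20)))) (.node (.node (.node (.node (.leaf 23) (.leaf 20)) (.leaf 47)) (.node (.node (.leaf 80) (.leaf 66)) (.leaf 33))) (.node (.node (.node (.leaf 17) (.leaf 3)) (.leaf 20)) (.node (.leaf 3) (.leaf 106)))))))) (.node (.node (.node (.node (.node (.node (.node (.node (.leaf 37) (.leaf 33)) (.leaf 10)) (.node (.node (.leaf 93) (.leaf 80)) (.leaf 17))) (.node (.node (.node (.leaf 90) (.leaf 27)) (.leaf 83)) (.node (.node (.leaf 87) (.leaf 93)) (.leaf 10)))) (.node (.node (.node (.node (.leaf 63) (.leaf 40)) (.leaf 17)) (.node (.node (.leaf 60) (.leaf 97)) (.leaf 43))) (.node (.node (.node (.leaf 57) (.leaf 103)) (.leaf 40)) (.node (.node (.leaf 103) (.leaf 50)) (.leaf 87))))) (.node (.node (.node (.node (.node (.leaf 65) (.leaf 32)) (.leaf 28)) (.node (.node (.leaf 82) (.leaf 18)) (.leaf 95))) (.node (.node (.node (.leaf 108) (.leaf 5)) (.leaf 52)) (.node (.node (.leaf 95) (.leaf 102)) (.leaf 38)))) (.node (.node (.node (.node (.leaf 102) (.leaf 28)) (.leaf 15)) (.node (.node (.leaf 38) (.leaf 35))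 (.leaf 32))) (.node (.node (.node (.leaf 5) (.leaf 2)) (.leaf 8)) (.node (.node (.leaf 12) (.leaf 88)) (.leaf 55)))))) (.node (.node (.node (.node (.node (.node (.leaf 106) (.leaf 82)) (.leaf 59)) (.node (.node (.leaf 33) (.leaf 69)) (.leaf 46))) (.node (.node (.node (.leaf 99) (.leaf 56)) (.leaf 43)) (.node (.node (.leaf 46) (.leaf 52)) (.leaf 39)))) (.node (.node (.node (.node (.leaf 93) (.leaf 39)) (.leaf 36)) (.node (.node (.leaf 99) (.leaf 106)) (.leaf 63))) (.node (.node (.node (.leaf 76) (.leaf 22)) (.leaf 9)) (.node (.node (.leaf 33) (.leaf 69)) (.leaf 26))))) (.node (.node (.node (.node (.node (.leaf 64) (.leaf 51)) (.leaf 48)) (.node (.node (.leaf 71) (.leaf 7)) (.leaf 34))) (.node (.node (.node (.leaf 98) (.leaf 64)) (.leaf 91)) (.node (.node (.leaf 84) (.leaf 61)) (.leaf 37)))) (.node (.node (.node (.node (.leaf 41) (.leaf 47)) (.leaf 84)) (.node (.node (.leaf 98) (.leaf 4)) (.leaf 101))) (.node (.node (.node (.leaf 24) (.leaf 61)) (.leaf 58)) (.node (.leaf 61) (.leaf 84))))))) (.node (.node (.node (.node (.node (.node (.node (.leaf 101) (.leaf 38)) (.leaf 65)) (.node (.node (.leaf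 98) (.leaf 95)) (.leaf 1))) (.node (.node (.node (.leaf 35) (.leaf 101)) (.leaf 68)) (.node (.node (.leaf 71) (.leaf 18)) (.leaf 65)))) (.node (.node (.node (.node (.leaf 58) (.leaf 85)) (.leaf 31)) (.node (.node (.leaf 15) (.leaf 81)) (.leaf 38))) (.node (.node (.node (.leaf 21) (.leaf 48)) (.leaf 95)) (.node (.node (.leaf 108) (.leaf 34)) (.leaf 41))))) (.node (.node (.node (.node (.node (.leaf 50) (.leaf 16)) (.leaf 93)) (.node (.node (.leaf 96) (.leaf 33)) (.leaf 0))) (.node (.node (.node (.leaf 33) (.leaf 80)) (.leaf 86)) (.node (.node (.leaf 50) (.leaf 36)) (.leaf 73)))) (.node (.node (.node (.node (.leaf 86) (.leaf 23)) (.leaf 30)) (.node (.node (.leaf 33) (.leaf 99)) (.leaf 46))) (.node (.node (.node (.leaf 40) (.leaf 16)) (.leaf 33)) (.node (.leaf 56) (.leaf 70)))))) (.node (.node (.node (.node (.node (.node (.leaf 1) (.leaf 67)) (.leaf 104)) (.node (.node (.leaf 97) (.leaf 84)) (.leaf 90))) (.node (.node (.node (.leaf 94) (.leaf 100)) (.leaf 7)) (.node (.node (.leaf 31) (.leaf 27)) (.leaf 94)))) (.node (.node (.node (.node (.leaf 67) (.leaf 14)) (.leaf 70)) (.node (.node (.leaf 104)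 (.leaf 80)) (.leaf 87))) (.node (.node (.node (.leaf 11) (.leaf 37)) (.leaf 74)) (.node (.node (.leaf 57) (.leaf 54)) (.leaf 30))))) (.node (.node (.node (.node (.node (.leaf 99) (.leaf 15)) (.leaf 72)) (.node (.node (.leaf 26) (.leaf 2)) (.leaf 89))) (.node (.node (.node (.leaf 22) (.leaf 39)) (.leaf 45)) (.node (.node (.leaf 49) (.leaf 55)) (.leaf 92)))) (.node (.node (.node (.node (.leaf 6) (.leaf 42)) (.leaf 99)) (.node (.node (.leaf 72) (.leaf 39)) (.leaf 15))) (.node (.node (.node (.leaf 29) (.leaf 15)) (.leaf 102)) (.node (.leaf 55) (.leaf 69))))))))) (.node (.node (.node (.node (.node (.node (.node (.node (.node (.leaf 21) (.leaf 97)) (.leaf 94)) (.node (.node (.leaf 37) (.leaf 4)) (.leaf 51))) (.node (.node (.node (.leaf 84) (.leaf 0)) (.leaf 107)) (.node (.node (.leaf 51) (.leaf 17)) (.leaf 34)))) (.node (.node (.node (.node (.leaf 17) (.leaf 34)) (.leaf 41)) (.node (.node (.leaf 94) (.leaf 20)) (.leaf 27))) (.node (.node (.node (.leaf 61) (.leaf 47)) (.leaf 24)) (.node (.node (.leaf 27) (.leaf 24)) (.leaf 71))))) (.node (.node (.node (.node (.node (.leaf 99) (.leaf 95)) (.leaf 72))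 (.node (.node (.leaf 46) (.leaf 32)) (.leaf 69))) (.node (.node (.node (.leaf 82) (.leaf 29)) (.leaf 46)) (.node (.node (.leaf 79) (.leaf 55)) (.leaf 2)))) (.node (.node (.node (.node (.leaf 76) (.leaf 2)) (.leaf 29)) (.node (.node (.leaf 52) (.leaf 19)) (.leaf 66))) (.node (.node (.node (.leaf 29) (.leaf 85)) (.leaf 62)) (.node (.node (.leaf 26) (.leaf 22)) (.leaf 89)))))) (.node (.node (.node (.node (.node (.node (.leaf 60) (.leaf 96)) (.leaf 103)) (.node (.node (.leaf 66) (.leaf 73)) (.leaf 80))) (.node (.node (.node (.leaf 83) (.leaf 70)) (.leaf 16)) (.node (.node (.leaf 90) (.leaf 86)) (.leaf 73)))) (.node (.node (.node (.node (.leaf 7) (.leaf 23)) (.leaf 90)) (.node (.node (.leaf 103) (.leaf 40)) (.leaf 26))) (.node (.node (.node (.leaf 90) (.leaf 16)) (.leaf 73)) (.node (.node (.leaf 66) (.leaf 3)) (.leaf 90))))) (.node (.node (.node (.node (.node (.leaf 18) (.leaf 105)) (.leaf 31)) (.node (.node (.leaf 35) (.leaf 41)) (.leaf 28))) (.node (.node (.node (.leaf 81) (.leaf 108)) (.leaf 75)) (.node (.node (.leaf 48) (.leaf 105)) (.leaf 1)))) (.node (.node (.node (.node (.leaf 95) (.leaf 71))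 (.leaf 98)) (.node (.node (.leaf 41) (.leaf 78)) (.leaf 55))) (.node (.node (.node (.leaf 68) (.leaf 25)) (.leaf 61)) (.node (.leaf 105) (.leaf 38))))))) (.node (.node (.node (.node (.node (.node (.node (.leaf 85) (.leaf 52)) (.leaf 39)) (.node (.node (.leaf 32) (.leaf 48)) (.leaf 45))) (.node (.node (.node (.leaf 19) (.leaf 55)) (.leaf 32)) (.node (.node (.leaf 15) (.leaf 72)) (.leaf 78)))) (.node (.node (.node (.node (.leaf 72) (.leaf 68)) (.leaf 105)) (.node (.node (.leaf 29) (.leaf 25)) (.leaf 12))) (.node (.node (.node (.leaf 85) (.leaf 92)) (.leaf 38)) (.node (.node (.leaf 52) (.leaf 78)) (.leaf 25))))) (.node (.node (.node (.node (.node (.leaf 84) (.leaf 50)) (.leaf 77)) (.node (.node (.leaf 50) (.leaf 57)) (.leaf 23))) (.node (.node (.node (.leaf 67) (.leaf 13)) (.leaf 20)) (.node (.node (.leaf 34) (.leaf 50)) (.leaf 17)))) (.node (.node (.node (.node (.leaf 10) (.leaf 57)) (.leaf 103)) (.node (.node (.leaf 57) (.leaf 83)) (.leaf 100))) (.node (.node (.node (.leaf 14) (.leaf 80)) (.leaf 97)) (.node (.leaf 70) (.leaf 33)))))) (.node (.node (.node (.node (.node (.node (.leaf 94) (.leaf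 101)) (.leaf 98)) (.node (.node (.leaf 81) (.leaf 98)) (.leaf 64))) (.node (.node (.node (.leaf 58) (.leaf 14)) (.leaf 81)) (.node (.node (.leaf 14) (.leaf 31)) (.leaf 28)))) (.node (.node (.node (.node (.leaf 101) (.leaf 88)) (.leaf 104)) (.node (.node (.leaf 8) (.leaf 74)) (.leaf 1))) (.node (.node (.node (.leaf 34) (.leaf 21)) (.leaf 28)) (.node (.node (.leaf 61) (.leaf 77)) (.leaf 14))))) (.node (.node (.node (.node (.node (.leaf 103) (.leaf 99)) (.leaf 36)) (.node (.node (.leaf 59) (.leaf 86)) (.leaf 73))) (.node (.node (.node (.leaf 56) (.leaf 83)) (.leaf 29)) (.node (.node (.leaf 3) (.leaf 79)) (.leaf 86)))) (.node (.node (.node (.node (.leaf 89) (.leaf 76)) (.leaf 23)) (.node (.node (.leaf 46) (.leaf 103)) (.leaf 29))) (.node (.node (.node (.leaf 73) (.leaf 49)) (.leaf 6)) (.node (.leaf 79) (.leaf 73)))))))) (.node (.node (.node (.node (.node (.node (.node (.node (.leaf 53) (.leaf 29)) (.leaf 86)) (.node (.node (.leaf 70) (.leaf 26)) (.leaf 103))) (.node (.node (.node (.leaf 46) (.leaf 73)) (.leaf 40)) (.node (.node (.leaf 33) (.leaf 29)) (.leaf 106)))) (.node (.node (.node (.node (.leaf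 100) (.leaf 106)) (.leaf 93)) (.node (.node (.leaf 6) (.leaf 43)) (.leaf 59))) (.node (.node (.node (.leaf 103) (.leaf 59)) (.leaf 86)) (.node (.node (.leaf 30) (.leaf 16)) (.leaf 103))))) (.node (.node (.node (.node (.node (.leaf 101) (.leaf 68)) (.leaf 45)) (.node (.node (.leaf 108) (.leaf 4)) (.leaf 41))) (.node (.node (.node (.leaf 55) (.leaf 71)) (.leaf 8)) (.node (.node (.leaf 1) (.leaf 88)) (.leaf 104)))) (.node (.node (.node (.node (.leaf 28) (.leaf 64)) (.leaf 61)) (.node (.node (.leaf 25) (.leaf 51)) (.leaf 88))) (.node (.node (.node (.leaf 71) (.leaf 28)) (.leaf 55)) (.node (.node (.leaf 108) (.leaf 94)) (.leaf 91)))))) (.node (.node (.node (.node (.node (.node (.leaf 32) (.leaf 59)) (.leaf 85)) (.node (.node (.leaf 49) (.leaf 55)) (.leaf 72))) (.node (.node (.node (.leaf 5) (.leaf 42)) (.leaf 109)) (.node (.node (.leaf 52) (.leaf 109)) (.leaf 15)))) (.node (.node (.node (.node (.leaf 59) (.leaf 55)) (.leaf 2)) (.node (.node (.leaf 85) (.leaf 2)) (.leaf 109))) (.node (.node (.node (.leaf 62) (.leaf 99)) (.leaf 85)) (.node (.node (.leaf 29) (.leaf 95)) (.leaf 62))))) (.node (.node (.node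 (.node (.node (.leaf 30) (.leaf 87)) (.leaf 84)) (.node (.node (.leaf 47) (.leaf 94)) (.leaf 40))) (.node (.node (.node (.leaf 34) (.leaf 90)) (.leaf 107)) (.node (.node (.leaf 100) (.leaf 27)) (.leaf 14)))) (.node (.node (.node (.node (.leaf 77) (.leaf 54)) (.leaf 60)) (.node (.node (.leaf 54) (.leaf 20)) (.leaf 97))) (.node (.node (.node (.leaf 50) (.leaf 37)) (.leaf 44)) (.node (.leaf 27) (.leaf 50))))))) (.node (.node (.node (.node (.node (.node (.node (.leaf 8) (.leaf 24)) (.leaf 11)) (.node (.node (.leaf 104) (.leaf 31)) (.leaf 77))) (.node (.node (.node (.leaf 51) (.leaf 97)) (.leaf 24)) (.node (.node (.leaf 107) (.leaf 64)) (.leaf 21)))) (.node (.node (.node (.node (.leaf 44) (.leaf 101)) (.leaf 7)) (.node (.node (.leaf 61) (.leaf 7)) (.leaf 74))) (.node (.node (.node (.leaf 18) (.leaf 54)) (.leaf 21)) (.node (.node (.leaf 44) (.leaf 21)) (.leaf 57))))) (.node (.node (.node (.node (.node (.leaf 106) (.leaf 42)) (.leaf 109)) (.node (.node (.leaf 23) (.leaf 109)) (.leaf 66))) (.node (.node (.node (.leaf 79) (.leaf 46)) (.leaf 92)) (.node (.node (.leaf 96) (.leaf 22)) (.leaf 29)))) (.node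 (.node (.node (.node (.leaf 3) (.leaf 69)) (.leaf 16)) (.node (.node (.leaf 109) (.leaf 16)) (.leaf 12))) (.node (.node (.node (.leaf 6) (.leaf 52)) (.leaf 29)) (.node (.leaf 42) (.leaf 16)))))) (.node (.node (.node (.node (.node (.node (.leaf 87) (.leaf 43)) (.leaf 0)) (.node (.node (.leaf 3) (.leaf 60)) (.leaf 57))) (.node (.node (.node (.leaf 0) (.leaf 87)) (.leaf 63)) (.node (.node (.leaf 47) (.leaf 73)) (.leaf 10)))) (.node (.node (.node (.node (.leaf 43) (.leaf 30)) (.leaf 97)) (.node (.node (.leaf 80) (.leaf 36)) (.leaf 53))) (.node (.node (.node (.leaf 87) (.leaf 53)) (.leaf 40)) (.node (.node (.leaf 103) (.leaf 60)) (.leaf 77))))) (.node (.node (.node (.node (.node (.leaf 85) (.leaf 72)) (.leaf 98)) (.node (.node (.leaf 102) (.leaf 38)) (.leaf 105))) (.node (.node (.node (.leaf 78) (.leaf 65)) (.leaf 72)) (.node (.node (.leaf 15) (.leaf 11)) (.leaf 48)))) (.node (.node (.node (.node (.leaf 12) (.leaf 98)) (.leaf 75)) (.node (.node (.leaf 108) (.leaf 5)) (.leaf 62))) (.node (.node (.node (.leaf 55) (.leaf 51)) (.leaf 88)) (.node (.leaf 102) (.leaf 55))))))))))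

def borelTab6 : Tree (ℕ) :=
  (.node (.node (.node (.node (.node (.node (.node (.node (.node (.node (.leaf 6) (.leaf 102)) (.leaf 29)) (.node (.node (.leaf 2) (.leaf 69)) (.leaf 65))) (.node (.node (.node (.leaf 29) (.leaf 35)) (.leaf 32)) (.node (.node (.leaf 65) (.leaf 82)) (.leaf 49)))) (.node (.node (.node (.node (.leaf 22) (.leaf 89)) (.leaf 25)) (.node (.node (.leaf 49) (.leaf 105)) (.leaf 12))) (.node (.node (.node (.leaf 16) (.leaf 12)) (.leaf 99)) (.node (.node (.leaf 92) (.leaf 69)) (.leaf 55))))) (.node (.node (.node (.node (.node (.leaf 54) (.leaf 0)) (.leaf 67)) (.node (.node (.leaf 21) (.leaf 47)) (.leaf 4))) (.node (.node (.node (.leaf 47) (.leaf 64)) (.leaf 10)) (.node (.node (.leaf 64) (.leaf 60)) (.leaf 47)))) (.node (.node (.node (.node (.leaf 1) (.leaf 77)) (.leaf 84)) (.node (.node (.leaf 67) (.leaf 4)) (.leaf 90))) (.node (.node (.node (.leaf 64) (.leaf 70)) (.leaf 97)) (.node (.node (.leaf 90) (.leaf 17)) (.leaf 44)))))) (.node (.node (.node (.node (.node (.node (.leaf 45) (.leaf 1)) (.leaf 78)) (.node (.node (.leaf 1) (.leaf 28)) (.leaf 55))) (.node (.node (.node (.leaf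 68) (.leaf 85)) (.leaf 51)) (.node (.node (.leaf 85) (.leaf 31)) (.leaf 98)))) (.node (.node (.node (.node (.leaf 21) (.leaf 8)) (.leaf 15)) (.node (.node (.leaf 58) (.leaf 64)) (.leaf 1))) (.node (.node (.node (.leaf 105) (.leaf 61)) (.leaf 108)) (.node (.node (.leaf 11) (.leaf 88)) (.leaf 75))))) (.node (.node (.node (.node (.node (.leaf 43) (.leaf 70)) (.leaf 16)) (.node (.node (.leaf 60) (.leaf 66)) (.leaf 73))) (.node (.node (.node (.leaf 46) (.leaf 73)) (.leaf 60)) (.node (.node (.leaf 23) (.leaf 9)) (.leaf 56)))) (.node (.node (.node (.node (.leaf 60) (.leaf 36)) (.leaf 3)) (.node (.node (.leaf 66) (.leaf 53)) (.leaf 60))) (.node (.node (.node (.leaf 33) (.leaf 79)) (.leaf 16)) (.node (.leaf 10) (.leaf 63))))))) (.node (.node (.node (.node (.node (.node (.node (.leaf 70) (.leaf 67)) (.leaf 3)) (.node (.node (.leaf 27) (.leaf 73)) (.leaf 60))) (.node (.node (.node (.leaf 53) (.leaf 60)) (.leaf 77)) (.node (.node (.leaf 90) (.leaf 107)) (.leaf 93)))) (.node (.node (.node (.node (.leaf 87) (.leaf 3)) (.leaf 20)) (.node (.node (.leaf 53) (.leaf 100)) (.leaf 87))) (.node (.node (.node (.leaf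 90) (.leaf 87)) (.leaf 13)) (.node (.node (.leaf 87) (.leaf 43)) (.leaf 10))))) (.node (.node (.node (.node (.node (.leaf 78) (.leaf 25)) (.leaf 62)) (.node (.node (.leaf 35) (.leaf 92)) (.leaf 108))) (.node (.node (.node (.leaf 22) (.leaf 38)) (.leaf 15)) (.node (.node (.leaf 18) (.leaf 65)) (.leaf 92)))) (.node (.node (.node (.node (.leaf 95) (.leaf 12)) (.leaf 58)) (.node (.node (.leaf 92) (.leaf 68)) (.leaf 25))) (.node (.node (.node (.leaf 38) (.leaf 65)) (.leaf 102)) (.node (.leaf 85) (.leaf 68)))))) (.node (.node (.node (.node (.node (.node (.leaf 59) (.leaf 16)) (.leaf 33)) (.node (.node (.leaf 66) (.leaf 102)) (.leaf 109))) (.node (.node (.node (.leaf 33) (.leaf 29)) (.leaf 26)) (.node (.node (.leaf 69) (.leaf 96)) (.leaf 82)))) (.node (.node (.node (.node (.leaf 16) (.leaf 72)) (.leaf 59)) (.node (.node (.leaf 23) (.leaf 19)) (.leaf 76))) (.node (.node (.node (.leaf 49) (.leaf 6)) (.leaf 53)) (.node (.node (.leaf 16) (.leaf 42)) (.leaf 89))))) (.node (.node (.node (.node (.node (.leaf 58) (.leaf 34)) (.leaf 11)) (.node (.node (.leaf 14) (.leaf 11)) (.leaf 107))) (.node (.node (.node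 (.leaf 1) (.leaf 17)) (.leaf 14)) (.node (.node (.leaf 38) (.leaf 4)) (.leaf 21)))) (.node (.node (.node (.node (.leaf 24) (.leaf 21)) (.leaf 48)) (.node (.node (.leaf 81) (.leaf 67)) (.leaf 84))) (.node (.node (.node (.leaf 48) (.leaf 4)) (.leaf 21)) (.node (.leaf 4) (.leaf 107)))))))) (.node (.node (.node (.node (.node (.node (.node (.node (.leaf 38) (.leaf 84)) (.leaf 11)) (.node (.node (.leaf 94) (.leaf 81)) (.leaf 18))) (.node (.node (.node (.leaf 91) (.leaf 28)) (.leaf 84)) (.node (.node (.leaf 8) (.leaf 94)) (.leaf 11)))) (.node (.node (.node (.node (.leaf 5) (.leaf 41)) (.leaf 18)) (.node (.node (.leaf 61) (.leaf 18)) (.leaf 44))) (.node (.node (.node (.leaf 58) (.leaf 104)) (.leaf 61)) (.node (.node (.leaf 104) (.leaf 51)) (.leaf 88))))) (.node (.node (.node (.node (.node (.leaf 66) (.leaf 33)) (.leaf 89)) (.node (.node (.leaf 83) (.leaf 19)) (.leaf 96))) (.node (.node (.node (.leaf 109) (.leaf 96)) (.leaf 53)) (.node (.node (.leaf 96) (.leaf 103)) (.leaf 39)))) (.node (.node (.node (.node (.leaf 103) (.leaf 29)) (.leaf 16)) (.node (.node (.leaf 39) (.leaf 36)) (.leaf 3))) (.node (.node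 (.node (.leaf 96) (.leaf 3)) (.leaf 9)) (.node (.node (.leaf 13) (.leaf 39)) (.leaf 56)))))) (.node (.node (.node (.node (.node (.node (.leaf 107) (.leaf 83)) (.leaf 50)) (.node (.node (.leaf 34) (.leaf 60)) (.leaf 7))) (.node (.node (.node (.leaf 100) (.leaf 57)) (.leaf 44)) (.node (.node (.leaf 47) (.leaf 23)) (.leaf 30)))) (.node (.node (.node (.node (.leaf 94) (.leaf 40)) (.leaf 37)) (.node (.node (.leaf 90) (.leaf 107)) (.leaf 64))) (.node (.node (.node (.leaf 77) (.leaf 23)) (.leaf 0)) (.node (.node (.leaf 84) (.leaf 60)) (.leaf 27))))) (.node (.node (.node (.node (.node (.leaf 65) (.leaf 52)) (.leaf 49)) (.node (.node (.leaf 2) (.leaf 8)) (.leaf 35))) (.node (.node (.node (.leaf 99) (.leaf 65)) (.leaf 92)) (.node (.node (.leaf 85) (.leaf 62)) (.leaf 69)))) (.node (.node (.node (.node (.leaf 42) (.leaf 48)) (.leaf 75)) (.node (.node (.leaf 99) (.leaf 5)) (.leaf 102))) (.node (.node (.node (.leaf 25) (.leaf 102)) (.leaf 59)) (.node (.leaf 62) (.leaf 85))))))) (.node (.node (.node (.node (.node (.node (.node (.leaf 102) (.leaf 39)) (.leaf 66)) (.node (.node (.leaf 49) (.leaf 96)) (.leaf 2)))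 (.node (.node (.node (.leaf 36) (.leaf 102)) (.leaf 69)) (.node (.node (.leaf 72) (.leaf 19)) (.leaf 46)))) (.node (.node (.node (.node (.leaf 59) (.leaf 86)) (.leaf 72)) (.node (.node (.leaf 16) (.leaf 82)) (.leaf 39))) (.node (.node (.node (.leaf 22) (.leaf 109)) (.leaf 96)) (.node (.node (.leaf 109) (.leaf 35)) (.leaf 42))))) (.node (.node (.node (.node (.node (.leaf 51) (.leaf 87)) (.leaf 94)) (.node (.node (.leaf 97) (.leaf 34)) (.leaf 1))) (.node (.node (.node (.leaf 34) (.leaf 81)) (.leaf 87)) (.node (.node (.leaf 71) (.leaf 37)) (.leaf 74)))) (.node (.node (.node (.node (.leaf 47) (.leaf 24)) (.leaf 31)) (.node (.node (.leaf 34) (.leaf 101)) (.leaf 47))) (.node (.node (.node (.leaf 41) (.leaf 17)) (.leaf 84)) (.node (.leaf 57) (.leaf 71)))))) (.node (.node (.node (.node (.node (.node (.leaf 42) (.leaf 68)) (.leaf 105)) (.node (.node (.leaf 98) (.leaf 75)) (.leaf 91))) (.node (.node (.node (.leaf 95) (.leaf 101)) (.leaf 38)) (.node (.node (.leaf 32) (.leaf 28)) (.leaf 95)))) (.node (.node (.node (.node (.leaf 68) (.leaf 15)) (.leaf 71)) (.node (.node (.leaf 95) (.leaf 81)) (.leaf 88)))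 (.node (.node (.node (.leaf 12) (.leaf 38)) (.leaf 75)) (.node (.node (.leaf 58) (.leaf 55)) (.leaf 51))))) (.node (.node (.node (.node (.node (.leaf 90) (.leaf 16)) (.leaf 73)) (.node (.node (.leaf 27) (.leaf 3)) (.leaf 90))) (.node (.node (.node (.leaf 103) (.leaf 30)) (.leaf 46)) (.node (.node (.leaf 40) (.leaf 36)) (.leaf 93)))) (.node (.node (.node (.node (.leaf 7) (.leaf 13)) (.leaf 90)) (.node (.node (.leaf 73) (.leaf 30)) (.leaf 16))) (.node (.node (.node (.leaf 20) (.leaf 16)) (.leaf 103)) (.node (.leaf 37) (.leaf 60))))))))) (.node (.node (.node (.node (.node (.node (.node (.node (.node (.leaf 22) (.leaf 98)) (.leaf 95)) (.node (.node (.leaf 68) (.leaf 5)) (.leaf 52))) (.node (.node (.node (.leaf 85) (.leaf 1)) (.leaf 108)) (.node (.node (.leaf 52) (.leaf 18)) (.leaf 25)))) (.node (.node (.node (.node (.leaf 18) (.leaf 35)) (.leaf 82)) (.node (.node (.leaf 95) (.leaf 21)) (.leaf 28))) (.node (.node (.node (.leaf 62) (.leaf 78)) (.leaf 25)) (.node (.node (.leaf 28) (.leaf 25)) (.leaf 72))))) (.node (.node (.node (.node (.node (.leaf 90) (.leaf 77)) (.leaf 73)) (.node (.node (.leaf 47)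 (.leaf 33)) (.leaf 60))) (.node (.node (.node (.leaf 83) (.leaf 20)) (.leaf 47)) (.node (.node (.leaf 80) (.leaf 56)) (.leaf 3)))) (.node (.node (.node (.node (.leaf 37) (.leaf 3)) (.leaf 20)) (.node (.node (.leaf 53) (.leaf 20)) (.leaf 67))) (.node (.node (.node (.leaf 20) (.leaf 86)) (.leaf 33)) (.node (.node (.leaf 27) (.leaf 23)) (.leaf 80)))))) (.node (.node (.node (.node (.node (.node (.leaf 81) (.leaf 97)) (.leaf 104)) (.node (.node (.leaf 67) (.leaf 14)) (.leaf 81))) (.node (.node (.node (.leaf 84) (.leaf 71)) (.leaf 87)) (.node (.node (.leaf 91) (.leaf 87)) (.leaf 74)))) (.node (.node (.node (.node (.leaf 8) (.leaf 24)) (.leaf 91)) (.node (.node (.leaf 44) (.leaf 41)) (.leaf 27))) (.node (.node (.node (.leaf 91) (.leaf 17)) (.leaf 74)) (.node (.node (.leaf 67) (.leaf 4)) (.leaf 1))))) (.node (.node (.node (.node (.node (.leaf 19) (.leaf 106)) (.leaf 32)) (.node (.node (.leaf 36) (.leaf 42)) (.leaf 89))) (.node (.node (.node (.leaf 13) (.leaf 109)) (.leaf 76)) (.node (.node (.leaf 49) (.leaf 86)) (.leaf 2)))) (.node (.node (.node (.node (.leaf 96) (.leaf 2)) (.leaf 99)) (.node (.node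 (.leaf 42) (.leaf 79)) (.leaf 56))) (.node (.node (.node (.leaf 69) (.leaf 26)) (.leaf 62)) (.node (.leaf 86) (.leaf 39))))))) (.node (.node (.node (.node (.node (.node (.node (.leaf 86) (.leaf 53)) (.leaf 30)) (.node (.node (.leaf 33) (.leaf 49)) (.leaf 26))) (.node (.node (.node (.leaf 20) (.leaf 56)) (.leaf 33)) (.node (.node (.leaf 16) (.leaf 43)) (.leaf 79)))) (.node (.node (.node (.node (.leaf 73) (.leaf 19)) (.leaf 106)) (.node (.node (.leaf 20) (.leaf 26)) (.leaf 13))) (.node (.node (.node (.leaf 86) (.leaf 93)) (.leaf 39)) (.node (.node (.leaf 23) (.leaf 79)) (.leaf 26))))) (.node (.node (.node (.node (.node (.leaf 85) (.leaf 51)) (.leaf 78)) (.node (.node (.leaf 71) (.leaf 58)) (.leaf 24))) (.node (.node (.node (.leaf 68) (.leaf 14)) (.leaf 21)) (.node (.node (.leaf 35) (.leaf 51)) (.leaf 48)))) (.node (.node (.node (.node (.leaf 11) (.leaf 58)) (.leaf 45)) (.node (.node (.leaf 58) (.leaf 84)) (.leaf 101))) (.node (.node (.node (.leaf 15) (.leaf 101)) (.leaf 98)) (.node (.leaf 71) (.leaf 34)))))) (.node (.node (.node (.node (.node (.node (.leaf 95) (.leaf 102)) (.leaf 49)) (.node (.node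 (.leaf 82) (.leaf 99)) (.leaf 65))) (.node (.node (.node (.leaf 59) (.leaf 5)) (.leaf 82)) (.node (.node (.leaf 15) (.leaf 32)) (.leaf 29)))) (.node (.node (.node (.node (.leaf 102) (.leaf 89)) (.leaf 105)) (.node (.node (.leaf 9) (.leaf 75)) (.leaf 42))) (.node (.node (.node (.leaf 25) (.leaf 22)) (.leaf 29)) (.node (.node (.leaf 62) (.leaf 109)) (.leaf 15))))) (.node (.node (.node (.node (.node (.leaf 44) (.leaf 90)) (.leaf 37)) (.node (.node (.leaf 50) (.leaf 47)) (.leaf 74))) (.node (.node (.node (.leaf 57) (.leaf 84)) (.leaf 30)) (.node (.node (.leaf 4) (.leaf 70)) (.leaf 87)))) (.node (.node (.node (.node (.leaf 80) (.leaf 77)) (.leaf 24)) (.node (.node (.leaf 7) (.leaf 104)) (.leaf 20))) (.node (.node (.node (.leaf 74) (.leaf 40)) (.leaf 7)) (.node (.leaf 70) (.leaf 14)))))))) (.node (.node (.node (.node (.node (.node (.node (.node (.leaf 54) (.leaf 20)) (.leaf 47)) (.node (.node (.leaf 71) (.leaf 27)) (.leaf 104))) (.node (.node (.node (.leaf 47) (.leaf 14)) (.leaf 41)) (.node (.node (.leaf 34) (.leaf 20)) (.leaf 107)))) (.node (.node (.node (.node (.leaf 101) (.leaf 107)) (.leaf 94))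 (.node (.node (.leaf 7) (.leaf 44)) (.leaf 61))) (.node (.node (.node (.leaf 44) (.leaf 50)) (.leaf 87)) (.node (.node (.leaf 31) (.leaf 87)) (.leaf 104))))) (.node (.node (.node (.node (.node (.leaf 32) (.leaf 69)) (.leaf 46)) (.node (.node (.leaf 109) (.leaf 105)) (.leaf 42))) (.node (.node (.node (.leaf 56) (.leaf 72)) (.leaf 69)) (.node (.node (.leaf 2) (.leaf 89)) (.leaf 105)))) (.node (.node (.node (.node (.leaf 29) (.leaf 65)) (.leaf 62)) (.node (.node (.leaf 6) (.leaf 52)) (.leaf 89))) (.node (.node (.node (.leaf 72) (.leaf 29)) (.leaf 56)) (.node (.node (.leaf 109) (.leaf 95)) (.leaf 22)))))) (.node (.node (.node (.node (.node (.node (.leaf 33) (.leaf 50)) (.leaf 86)) (.node (.node (.leaf 50) (.leaf 56)) (.leaf 73))) (.node (.node (.node (.leaf 6) (.leaf 43)) (.leaf 100)) (.node (.node (.leaf 53) (.leaf 100)) (.leaf 106)))) (.node (.node (.node (.node (.leaf 50) (.leaf 56)) (.leaf 83)) (.node (.node (.leaf 86) (.leaf 3)) (.leaf 100))) (.node (.node (.node (.leaf 63) (.leaf 100)) (.leaf 86)) (.node (.node (.leaf 20) (.leaf 96)) (.leaf 63))))) (.node (.node (.node (.node (.node (.leaf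 31) (.leaf 8)) (.leaf 85)) (.node (.node (.leaf 48) (.leaf 95)) (.leaf 41))) (.node (.node (.node (.leaf 35) (.leaf 91)) (.leaf 108)) (.node (.node (.leaf 11) (.leaf 28)) (.leaf 15)))) (.node (.node (.node (.node (.leaf 108) (.leaf 55)) (.leaf 61)) (.node (.node (.leaf 55) (.leaf 41)) (.leaf 98))) (.node (.node (.node (.leaf 51) (.leaf 38)) (.leaf 35)) (.node (.leaf 28) (.leaf 51))))))) (.node (.node (.node (.node (.node (.node (.node (.leaf 9) (.leaf 15)) (.leaf 12)) (.node (.node (.leaf 105) (.leaf 32)) (.leaf 78))) (.node (.node (.node (.leaf 52) (.leaf 98)) (.leaf 25)) (.node (.node (.leaf 29) (.leaf 65)) (.leaf 22)))) (.node (.node (.node (.node (.leaf 35) (.leaf 102)) (.leaf 8)) (.node (.node (.leaf 62) (.leaf 38)) (.leaf 75))) (.node (.node (.node (.leaf 19) (.leaf 55)) (.leaf 62)) (.node (.node (.leaf 45) (.leaf 22)) (.leaf 58))))) (.node (.node (.node (.node (.node (.leaf 107) (.leaf 43)) (.leaf 0)) (.node (.node (.leaf 24) (.leaf 100)) (.leaf 67))) (.node (.node (.node (.leaf 70) (.leaf 7)) (.leaf 93)) (.node (.node (.leaf 97) (.leaf 23)) (.leaf 20)))) (.node (.node (.node (.node (.leaf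 4) (.leaf 60)) (.leaf 17)) (.node (.node (.leaf 100) (.leaf 17)) (.leaf 93))) (.node (.node (.node (.leaf 77) (.leaf 53)) (.leaf 20)) (.node (.leaf 43) (.leaf 17)))))) (.node (.node (.node (.node (.node (.node (.leaf 88) (.leaf 44)) (.leaf 1)) (.node (.node (.leaf 4) (.leaf 61)) (.leaf 88))) (.node (.node (.node (.leaf 21) (.leaf 88)) (.leaf 64)) (.node (.node (.leaf 48) (.leaf 14)) (.leaf 11)))) (.node (.node (.node (.node (.leaf 44) (.leaf 51)) (.leaf 98)) (.node (.node (.leaf 81) (.leaf 37)) (.leaf 54))) (.node (.node (.node (.leaf 88) (.leaf 54)) (.leaf 41)) (.node (.node (.leaf 44) (.leaf 61)) (.leaf 78))))) (.node (.node (.node (.node (.node (.leaf 86) (.leaf 73)) (.leaf 99)) (.node (.node (.leaf 73) (.leaf 39)) (.leaf 106))) (.node (.node (.node (.leaf 79) (.leaf 66)) (.leaf 73)) (.node (.node (.leaf 16) (.leaf 12)) (.leaf 109)))) (.node (.node (.node (.node (.leaf 13) (.leaf 99)) (.leaf 56)) (.node (.node (.leaf 109) (.leaf 6)) (.leaf 63))) (.node (.node (.node (.leaf 56) (.leaf 93)) (.leaf 89)) (.node (.leaf 103) (.leaf 56))))))))))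

def borelTab7 : Tree (ℕ) :=
  (.node (.node (.node (.node (.node (.node (.node (.node (.node (.node (.leaf 7) (.leaf 103)) (.leaf 20)) (.node (.node (.leaf 3) (.leaf 60)) (.leaf 66))) (.node (.node (.node (.leaf 20) (.leaf 36)) (.leaf 33)) (.node (.node (.leaf 66) (.leaf 83)) (.leaf 40)))) (.node (.node (.node (.node (.leaf 23) (.leaf 80)) (.leaf 26)) (.node (.node (.leaf 40) (.leaf 106)) (.leaf 13))) (.node (.node (.node (.leaf 17) (.leaf 13)) (.leaf 90)) (.node (.node (.leaf 93) (.leaf 60)) (.leaf 56))))) (.node (.node (.node (.node (.node (.leaf 55) (.leaf 1)) (.leaf 68)) (.node (.node (.leaf 22) (.leaf 48)) (.leaf 5))) (.node (.node (.node (.leaf 48) (.leaf 65)) (.leaf 11)) (.node (.node (.leaf 65) (.leaf 61)) (.leaf 48)))) (.node (.node (.node (.node (.leaf 2) (.leaf 78)) (.leaf 85)) (.node (.node (.leaf 68) (.leaf 5)) (.leaf 91))) (.node (.node (.node (.leaf 65) (.leaf 71)) (.leaf 98)) (.node (.node (.leaf 91) (.leaf 18)) (.leaf 45)))))) (.node (.node (.node (.node (.node (.node (.leaf 46) (.leaf 2)) (.leaf 79)) (.node (.node (.leaf 2) (.leaf 29)) (.leaf 56))) (.node (.node (.node (.leaf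 69) (.leaf 86)) (.leaf 52)) (.node (.node (.leaf 86) (.leaf 32)) (.leaf 99)))) (.node (.node (.node (.node (.leaf 22) (.leaf 9)) (.leaf 16)) (.node (.node (.leaf 59) (.leaf 65)) (.leaf 2))) (.node (.node (.node (.leaf 106) (.leaf 62)) (.leaf 109)) (.node (.node (.leaf 12) (.leaf 89)) (.leaf 76))))) (.node (.node (.node (.node (.node (.leaf 44) (.leaf 71)) (.leaf 17)) (.node (.node (.leaf 61) (.leaf 67)) (.leaf 74))) (.node (.node (.node (.leaf 47) (.leaf 74)) (.leaf 61)) (.node (.node (.leaf 24) (.leaf 0)) (.leaf 57)))) (.node (.node (.node (.node (.leaf 61) (.leaf 37)) (.leaf 4)) (.node (.node (.leaf 67) (.leaf 54)) (.leaf 61))) (.node (.node (.node (.leaf 34) (.leaf 70)) (.leaf 17)) (.node (.leaf 11) (.leaf 64))))))) (.node (.node (.node (.node (.node (.node (.node (.leaf 71) (.leaf 68)) (.leaf 4)) (.node (.node (.leaf 28) (.leaf 74)) (.leaf 61))) (.node (.node (.node (.leaf 54) (.leaf 61)) (.leaf 78)) (.node (.node (.leaf 91) (.leaf 108)) (.leaf 94)))) (.node (.node (.node (.node (.leaf 88) (.leaf 4)) (.leaf 21)) (.node (.node (.leaf 54) (.leaf 101)) (.leaf 88))) (.node (.node (.node (.leaf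 91) (.leaf 88)) (.leaf 14)) (.node (.node (.leaf 88) (.leaf 44)) (.leaf 11))))) (.node (.node (.node (.node (.node (.leaf 79) (.leaf 26)) (.leaf 63)) (.node (.node (.leaf 36) (.leaf 93)) (.leaf 109))) (.node (.node (.node (.leaf 23) (.leaf 39)) (.leaf 16)) (.node (.node (.leaf 19) (.leaf 66)) (.leaf 93)))) (.node (.node (.node (.node (.leaf 96) (.leaf 13)) (.leaf 59)) (.node (.node (.leaf 93) (.leaf 69)) (.leaf 26))) (.node (.node (.node (.leaf 39) (.leaf 66)) (.leaf 103)) (.node (.leaf 86) (.leaf 69)))))) (.node (.node (.node (.node (.node (.node (.leaf 50) (.leaf 17)) (.leaf 34)) (.node (.node (.leaf 67) (.leaf 103)) (.leaf 100))) (.node (.node (.node (.leaf 34) (.leaf 20)) (.leaf 27)) (.node (.node (.leaf 60) (.leaf 97)) (.leaf 83)))) (.node (.node (.node (.node (.leaf 17) (.leaf 73)) (.leaf 50)) (.node (.node (.leaf 24) (.leaf 10)) (.leaf 77))) (.node (.node (.node (.leaf 40) (.leaf 7)) (.leaf 54)) (.node (.node (.leaf 17) (.leaf 43)) (.leaf 80))))) (.node (.node (.node (.node (.node (.leaf 59) (.leaf 35)) (.leaf 12)) (.node (.node (.leaf 15) (.leaf 12)) (.leaf 108))) (.node (.node (.node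 (.leaf 2) (.leaf 18)) (.leaf 15)) (.node (.node (.leaf 39) (.leaf 5)) (.leaf 22)))) (.node (.node (.node (.node (.leaf 25) (.leaf 22)) (.leaf 49)) (.node (.node (.leaf 82) (.leaf 68)) (.leaf 85))) (.node (.node (.node (.leaf 49) (.leaf 5)) (.leaf 22)) (.node (.leaf 5) (.leaf 108)))))))) (.node (.node (.node (.node (.node (.node (.node (.node (.leaf 39) (.leaf 85)) (.leaf 12)) (.node (.node (.leaf 95) (.leaf 82)) (.leaf 19))) (.node (.node (.node (.leaf 92) (.leaf 29)) (.leaf 85)) (.node (.node (.leaf 9) (.leaf 95)) (.leaf 12)))) (.node (.node (.node (.node (.leaf 6) (.leaf 42)) (.leaf 19)) (.node (.node (.leaf 62) (.leaf 19)) (.leaf 45))) (.node (.node (.node (.leaf 59) (.leaf 105)) (.leaf 62)) (.node (.node (.leaf 105) (.leaf 52)) (.leaf 89))))) (.node (.node (.node (.node (.node (.leaf 67) (.leaf 34)) (.leaf 80)) (.node (.node (.leaf 84) (.leaf 10)) (.leaf 97))) (.node (.node (.node (.leaf 100) (.leaf 97)) (.leaf 54)) (.node (.node (.leaf 97) (.leaf 104)) (.leaf 30)))) (.node (.node (.node (.node (.leaf 104) (.leaf 20)) (.leaf 17)) (.node (.node (.leaf 30) (.leaf 37)) (.leaf 4))) (.node (.node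 (.node (.leaf 97) (.leaf 4)) (.leaf 0)) (.node (.node (.leaf 14) (.leaf 30)) (.leaf 57)))))) (.node (.node (.node (.node (.node (.node (.leaf 108) (.leaf 84)) (.leaf 51)) (.node (.node (.leaf 35) (.leaf 61)) (.leaf 8))) (.node (.node (.node (.leaf 101) (.leaf 58)) (.leaf 45)) (.node (.node (.leaf 48) (.leaf 24)) (.leaf 31)))) (.node (.node (.node (.node (.leaf 95) (.leaf 41)) (.leaf 38)) (.node (.node (.leaf 91) (.leaf 108)) (.leaf 65))) (.node (.node (.node (.leaf 78) (.leaf 24)) (.leaf 1)) (.node (.node (.leaf 85) (.leaf 61)) (.leaf 28))))) (.node (.node (.node (.node (.node (.leaf 66) (.leaf 53)) (.leaf 40)) (.node (.node (.leaf 3) (.leaf 9)) (.leaf 36))) (.node (.node (.node (.leaf 90) (.leaf 66)) (.leaf 93)) (.node (.node (.leaf 86) (.leaf 63)) (.leaf 60)))) (.node (.node (.node (.node (.leaf 43) (.leaf 49)) (.leaf 76)) (.node (.node (.leaf 90) (.leaf 6)) (.leaf 103))) (.node (.node (.node (.leaf 26) (.leaf 103)) (.leaf 50)) (.node (.leaf 63) (.leaf 86))))))) (.node (.node (.node (.node (.node (.node (.node (.leaf 103) (.leaf 30)) (.leaf 67)) (.node (.node (.leaf 40) (.leaf 97)) (.leaf 3)))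 (.node (.node (.node (.leaf 37) (.leaf 103)) (.leaf 60)) (.node (.node (.leaf 73) (.leaf 10)) (.leaf 47)))) (.node (.node (.node (.node (.leaf 50) (.leaf 87)) (.leaf 73)) (.node (.node (.leaf 17) (.leaf 83)) (.leaf 30))) (.node (.node (.node (.leaf 23) (.leaf 100)) (.leaf 97)) (.node (.node (.leaf 100) (.leaf 36)) (.leaf 43))))) (.node (.node (.node (.node (.node (.leaf 52) (.leaf 88)) (.leaf 95)) (.node (.node (.leaf 98) (.leaf 35)) (.leaf 2))) (.node (.node (.node (.leaf 35) (.leaf 82)) (.leaf 88)) (.node (.node (.leaf 72) (.leaf 38)) (.leaf 75)))) (.node (.node (.node (.node (.leaf 48) (.leaf 25)) (.leaf 32)) (.node (.node (.leaf 35) (.leaf 102)) (.leaf 48))) (.node (.node (.node (.leaf 42) (.leaf 18)) (.leaf 85)) (.node (.leaf 58) (.leaf 72)))))) (.node (.node (.node (.node (.node (.node (.leaf 43) (.leaf 69)) (.leaf 106)) (.node (.node (.leaf 99) (.leaf 76)) (.leaf 92))) (.node (.node (.node (.leaf 96) (.leaf 102)) (.leaf 39)) (.node (.node (.leaf 33) (.leaf 29)) (.leaf 96)))) (.node (.node (.node (.node (.leaf 69) (.leaf 16)) (.leaf 72)) (.node (.node (.leaf 96) (.leaf 82)) (.leaf 89)))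 (.node (.node (.node (.leaf 13) (.leaf 39)) (.leaf 76)) (.node (.node (.leaf 59) (.leaf 56)) (.leaf 52))))) (.node (.node (.node (.node (.node (.leaf 91) (.leaf 17)) (.leaf 74)) (.node (.node (.leaf 28) (.leaf 4)) (.leaf 91))) (.node (.node (.node (.leaf 104) (.leaf 31)) (.leaf 47)) (.node (.node (.leaf 41) (.leaf 37)) (.leaf 94)))) (.node (.node (.node (.node (.leaf 8) (.leaf 14)) (.leaf 91)) (.node (.node (.leaf 74) (.leaf 31)) (.leaf 17))) (.node (.node (.node (.leaf 21) (.leaf 17)) (.leaf 104)) (.node (.leaf 38) (.leaf 61))))))))) (.node (.node (.node (.node (.node (.node (.node (.node (.node (.leaf 23) (.leaf 99)) (.leaf 96)) (.node (.node (.leaf 69) (.leaf 6)) (.leaf 53))) (.node (.node (.node (.leaf 86) (.leaf 2)) (.leaf 109)) (.node (.node (.leaf 53) (.leaf 19)) (.leaf 26)))) (.node (.node (.node (.node (.leaf 19) (.leaf 36)) (.leaf 83)) (.node (.node (.leaf 96) (.leaf 22)) (.leaf 29))) (.node (.node (.node (.leaf 63) (.leaf 79)) (.leaf 26)) (.node (.node (.leaf 29) (.leaf 26)) (.leaf 73))))) (.node (.node (.node (.node (.node (.leaf 91) (.leaf 78)) (.leaf 74)) (.node (.node (.leaf 48)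 (.leaf 34)) (.leaf 61))) (.node (.node (.node (.leaf 84) (.leaf 21)) (.leaf 48)) (.node (.node (.leaf 81) (.leaf 57)) (.leaf 4)))) (.node (.node (.node (.node (.leaf 38) (.leaf 4)) (.leaf 21)) (.node (.node (.leaf 54) (.leaf 21)) (.leaf 68))) (.node (.node (.node (.leaf 21) (.leaf 87)) (.leaf 34)) (.node (.node (.leaf 28) (.leaf 24)) (.leaf 81)))))) (.node (.node (.node (.node (.node (.node (.leaf 82) (.leaf 98)) (.leaf 105)) (.node (.node (.leaf 68) (.leaf 15)) (.leaf 82))) (.node (.node (.node (.leaf 85) (.leaf 72)) (.leaf 88)) (.node (.node (.leaf 92) (.leaf 88)) (.leaf 75)))) (.node (.node (.node (.node (.leaf 9) (.leaf 25)) (.leaf 92)) (.node (.node (.leaf 45) (.leaf 42)) (.leaf 28))) (.node (.node (.node (.leaf 92) (.leaf 18)) (.leaf 75)) (.node (.node (.leaf 68) (.leaf 5)) (.leaf 2))))) (.node (.node (.node (.node (.node (.leaf 10) (.leaf 107)) (.leaf 33)) (.node (.node (.leaf 37) (.leaf 43)) (.leaf 80))) (.node (.node (.node (.leaf 14) (.leaf 100)) (.leaf 77)) (.node (.node (.leaf 40) (.leaf 87)) (.leaf 3)))) (.node (.node (.node (.node (.leaf 97) (.leaf 3)) (.leaf 90)) (.node (.node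 (.leaf 43) (.leaf 70)) (.leaf 57))) (.node (.node (.node (.leaf 60) (.leaf 27)) (.leaf 63)) (.node (.leaf 87) (.leaf 30))))))) (.node (.node (.node (.node (.node (.node (.node (.leaf 87) (.leaf 54)) (.leaf 31)) (.node (.node (.leaf 34) (.leaf 40)) (.leaf 27))) (.node (.node (.node (.leaf 21) (.leaf 57)) (.leaf 34)) (.node (.node (.leaf 17) (.leaf 44)) (.leaf 70)))) (.node (.node (.node (.node (.leaf 74) (.leaf 10)) (.leaf 107)) (.node (.node (.leaf 21) (.leaf 27)) (.leaf 14))) (.node (.node (.node (.leaf 87) (.leaf 94)) (.leaf 30)) (.node (.node (.leaf 24) (.leaf 70)) (.leaf 27))))) (.node (.node (.node (.node (.node (.leaf 86) (.leaf 52)) (.leaf 79)) (.node (.node (.leaf 72) (.leaf 59)) (.leaf 25))) (.node (.node (.node (.leaf 69) (.leaf 15)) (.leaf 22)) (.node (.node (.leaf 36) (.leaf 52)) (.leaf 49)))) (.node (.node (.node (.node (.leaf 12) (.leaf 59)) (.leaf 46)) (.node (.node (.leaf 59) (.leaf 85)) (.leaf 102))) (.node (.node (.node (.leaf 16) (.leaf 102)) (.leaf 99)) (.node (.leaf 72) (.leaf 35)))))) (.node (.node (.node (.node (.node (.node (.leaf 96) (.leaf 103)) (.leaf 40)) (.node (.node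 (.leaf 83) (.leaf 90)) (.leaf 66))) (.node (.node (.node (.leaf 50) (.leaf 6)) (.leaf 83)) (.node (.node (.leaf 16) (.leaf 33)) (.leaf 20)))) (.node (.node (.node (.node (.leaf 103) (.leaf 80)) (.leaf 106)) (.node (.node (.leaf 0) (.leaf 76)) (.leaf 43))) (.node (.node (.node (.leaf 26) (.leaf 23)) (.leaf 20)) (.node (.node (.leaf 63) (.leaf 100)) (.leaf 16))))) (.node (.node (.node (.node (.node (.leaf 45) (.leaf 91)) (.leaf 38)) (.node (.node (.leaf 51) (.leaf 48)) (.leaf 75))) (.node (.node (.node (.leaf 58) (.leaf 85)) (.leaf 31)) (.node (.node (.leaf 5) (.leaf 71)) (.leaf 88)))) (.node (.node (.node (.node (.leaf 81) (.leaf 78)) (.leaf 25)) (.node (.node (.leaf 8) (.leaf 105)) (.leaf 21))) (.node (.node (.node (.leaf 75) (.leaf 41)) (.leaf 8)) (.node (.leaf 71) (.leaf 15)))))))) (.node (.node (.node (.node (.node (.node (.node (.node (.leaf 55) (.leaf 21)) (.leaf 48)) (.node (.node (.leaf 72) (.leaf 28)) (.leaf 105))) (.node (.node (.node (.leaf 48) (.leaf 15)) (.leaf 42)) (.node (.node (.leaf 35) (.leaf 21)) (.leaf 108)))) (.node (.node (.node (.node (.leaf 102) (.leaf 108)) (.leaf 95))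 (.node (.node (.leaf 8) (.leaf 45)) (.leaf 62))) (.node (.node (.node (.leaf 45) (.leaf 51)) (.leaf 88)) (.node (.node (.leaf 32) (.leaf 88)) (.leaf 105))))) (.node (.node (.node (.node (.node (.leaf 33) (.leaf 60)) (.leaf 47)) (.node (.node (.leaf 100) (.leaf 106)) (.leaf 43))) (.node (.node (.node (.leaf 57) (.leaf 73)) (.leaf 60)) (.node (.node (.leaf 3) (.leaf 80)) (.leaf 106)))) (.node (.node (.node (.node (.leaf 20) (.leaf 66)) (.leaf 63)) (.node (.node (.leaf 7) (.leaf 53)) (.leaf 80))) (.node (.node (.node (.leaf 73) (.leaf 20)) (.leaf 57)) (.node (.node (.leaf 100) (.leaf 96)) (.leaf 23)))))) (.node (.node (.node (.node (.node (.node (.leaf 34) (.leaf 51)) (.leaf 87)) (.node (.node (.leaf 51) (.leaf 57)) (.leaf 74))) (.node (.node (.node (.leaf 7) (.leaf 44)) (.leaf 101)) (.node (.node (.leaf 54) (.leaf 101)) (.leaf 107)))) (.node (.node (.node (.node (.leaf 51) (.leaf 57)) (.leaf 84)) (.node (.node (.leaf 87) (.leaf 4)) (.leaf 101))) (.node (.node (.node (.leaf 64) (.leaf 101)) (.leaf 87)) (.node (.node (.leaf 21) (.leaf 97)) (.leaf 64))))) (.node (.node (.node (.node (.node (.leaf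 32) (.leaf 9)) (.leaf 86)) (.node (.node (.leaf 49) (.leaf 96)) (.leaf 42))) (.node (.node (.node (.leaf 36) (.leaf 92)) (.leaf 109)) (.node (.node (.leaf 12) (.leaf 29)) (.leaf 16)))) (.node (.node (.node (.node (.leaf 109) (.leaf 56)) (.leaf 62)) (.node (.node (.leaf 56) (.leaf 42)) (.leaf 99))) (.node (.node (.node (.leaf 52) (.leaf 39)) (.leaf 36)) (.node (.leaf 29) (.leaf 52))))))) (.node (.node (.node (.node (.node (.node (.node (.leaf 0) (.leaf 16)) (.leaf 13)) (.node (.node (.leaf 106) (.leaf 33)) (.leaf 79))) (.node (.node (.node (.leaf 53) (.leaf 99)) (.leaf 26)) (.node (.node (.leaf 20) (.leaf 66)) (.leaf 23)))) (.node (.node (.node (.node (.leaf 36) (.leaf 103)) (.leaf 9)) (.node (.node (.leaf 63) (.leaf 39)) (.leaf 76))) (.node (.node (.node (.leaf 10) (.leaf 56)) (.leaf 63)) (.node (.node (.leaf 46) (.leaf 23)) (.leaf 59))))) (.node (.node (.node (.node (.node (.leaf 108) (.leaf 44)) (.leaf 1)) (.node (.node (.leaf 25) (.leaf 101)) (.leaf 68))) (.node (.node (.node (.leaf 71) (.leaf 8)) (.leaf 94)) (.node (.node (.leaf 98) (.leaf 24)) (.leaf 21)))) (.node (.node (.node (.node (.leaf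 5) (.leaf 61)) (.leaf 18)) (.node (.node (.leaf 101) (.leaf 18)) (.leaf 94))) (.node (.node (.node (.leaf 78) (.leaf 54)) (.leaf 21)) (.node (.leaf 44) (.leaf 18)))))) (.node (.node (.node (.node (.node (.node (.leaf 89) (.leaf 45)) (.leaf 2)) (.node (.node (.leaf 5) (.leaf 62)) (.leaf 89))) (.node (.node (.node (.leaf 22) (.leaf 89)) (.leaf 65)) (.node (.node (.leaf 49) (.leaf 15)) (.leaf 12)))) (.node (.node (.node (.node (.leaf 45) (.leaf 52)) (.leaf 99)) (.node (.node (.leaf 82) (.leaf 38)) (.leaf 55))) (.node (.node (.node (.leaf 89) (.leaf 55)) (.leaf 42)) (.node (.node (.leaf 45) (.leaf 62)) (.leaf 79))))) (.node (.node (.node (.node (.node (.leaf 87) (.leaf 74)) (.leaf 90)) (.node (.node (.leaf 74) (.leaf 30)) (.leaf 107))) (.node (.node (.node (.leaf 70) (.leaf 67)) (.leaf 74)) (.node (.node (.leaf 17) (.leaf 13)) (.leaf 100)))) (.node (.node (.node (.node (.leaf 14) (.leaf 90)) (.leaf 57)) (.node (.node (.leaf 100) (.leaf 7)) (.leaf 64))) (.node (.node (.node (.leaf 57) (.leaf 94)) (.leaf 80)) (.node (.leaf 104) (.leaf 57))))))))))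

def borelTab8 : Tree (ℕ) :=
  (.node (.node (.node (.node (.node (.node (.node (.node (.node (.node (.leaf 8) (.leaf 44)) (.leaf 21)) (.node (.node (.leaf 4) (.leaf 61)) (.leaf 67))) (.node (.node (.node (.leaf 21) (.leaf 37)) (.leaf 34)) (.node (.node (.leaf 28) (.leaf 84)) (.leaf 41)))) (.node (.node (.node (.node (.leaf 74) (.leaf 81)) (.leaf 27)) (.node (.node (.leaf 41) (.leaf 67)) (.leaf 14))) (.node (.node (.node (.leaf 18) (.leaf 14)) (.leaf 1)) (.node (.node (.leaf 94) (.leaf 61)) (.leaf 57))))) (.node (.node (.node (.node (.node (.leaf 56) (.leaf 2)) (.leaf 19)) (.node (.node (.leaf 23) (.leaf 49)) (.leaf 6))) (.node (.node (.node (.leaf 49) (.leaf 46)) (.leaf 12)) (.node (.node (.leaf 66) (.leaf 62)) (.leaf 49)))) (.node (.node (.node (.node (.leaf 3) (.leaf 79)) (.leaf 86)) (.node (.node (.leaf 69) (.leaf 6)) (.leaf 22))) (.node (.node (.node (.leaf 46) (.leaf 72)) (.leaf 99)) (.node (.node (.leaf 92) (.leaf 79)) (.leaf 46)))))) (.node (.node (.node (.node (.node (.node (.leaf 47) (.leaf 3)) (.leaf 70)) (.node (.node (.leaf 3) (.leaf 20)) (.leaf 17))) (.node (.node (.node (.leaf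 70) (.leaf 87)) (.leaf 53)) (.node (.node (.leaf 87) (.leaf 3)) (.leaf 90)))) (.node (.node (.node (.node (.leaf 23) (.leaf 10)) (.leaf 17)) (.node (.node (.leaf 50) (.leaf 66)) (.leaf 3))) (.node (.node (.node (.leaf 107) (.leaf 63)) (.leaf 100)) (.node (.node (.leaf 93) (.leaf 80)) (.leaf 77))))) (.node (.node (.node (.node (.node (.leaf 45) (.leaf 72)) (.leaf 18)) (.node (.node (.leaf 102) (.leaf 68)) (.leaf 75))) (.node (.node (.node (.leaf 48) (.leaf 75)) (.leaf 62)) (.node (.node (.leaf 25) (.leaf 1)) (.leaf 88)))) (.node (.node (.node (.node (.leaf 62) (.leaf 38)) (.leaf 105)) (.node (.node (.leaf 68) (.leaf 55)) (.leaf 62))) (.node (.node (.node (.leaf 35) (.leaf 92)) (.leaf 18)) (.node (.leaf 12) (.leaf 65))))))) (.node (.node (.node (.node (.node (.node (.node (.leaf 72) (.leaf 69)) (.leaf 5)) (.node (.node (.leaf 89) (.leaf 75)) (.leaf 62))) (.node (.node (.node (.leaf 55) (.leaf 62)) (.leaf 79)) (.node (.node (.leaf 92) (.leaf 109)) (.leaf 85)))) (.node (.node (.node (.node (.leaf 89) (.leaf 5)) (.leaf 62)) (.node (.node (.leaf 55) (.leaf 102)) (.leaf 89))) (.node (.node (.node (.leaf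 92) (.leaf 39)) (.leaf 15)) (.node (.node (.leaf 89) (.leaf 45)) (.leaf 12))))) (.node (.node (.node (.node (.node (.leaf 70) (.leaf 97)) (.leaf 64)) (.node (.node (.leaf 37) (.leaf 94)) (.leaf 100))) (.node (.node (.node (.leaf 24) (.leaf 30)) (.leaf 17)) (.node (.node (.leaf 20) (.leaf 67)) (.leaf 94)))) (.node (.node (.node (.node (.leaf 57) (.leaf 14)) (.leaf 50)) (.node (.node (.leaf 94) (.leaf 70)) (.leaf 27))) (.node (.node (.node (.leaf 30) (.leaf 67)) (.leaf 44)) (.node (.leaf 87) (.leaf 60)))))) (.node (.node (.node (.node (.node (.node (.leaf 71) (.leaf 18)) (.leaf 35)) (.node (.node (.leaf 68) (.leaf 44)) (.leaf 101))) (.node (.node (.node (.leaf 35) (.leaf 21)) (.leaf 58)) (.node (.node (.leaf 61) (.leaf 98)) (.leaf 84)))) (.node (.node (.node (.node (.leaf 18) (.leaf 74)) (.leaf 51)) (.node (.node (.leaf 15) (.leaf 11)) (.leaf 78))) (.node (.node (.node (.leaf 41) (.leaf 8)) (.leaf 55)) (.node (.node (.leaf 18) (.leaf 44)) (.leaf 101))))) (.node (.node (.node (.node (.node (.leaf 50) (.leaf 36)) (.leaf 13)) (.node (.node (.leaf 16) (.leaf 13)) (.leaf 60))) (.node (.node (.node (.leaf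 83) (.leaf 19)) (.leaf 16)) (.node (.node (.leaf 30) (.leaf 96)) (.leaf 23)))) (.node (.node (.node (.node (.leaf 26) (.leaf 103)) (.leaf 40)) (.node (.node (.leaf 83) (.leaf 69)) (.leaf 86))) (.node (.node (.node (.leaf 40) (.leaf 6)) (.leaf 23)) (.node (.leaf 96) (.leaf 109)))))))) (.node (.node (.node (.node (.node (.node (.node (.node (.leaf 40) (.leaf 86)) (.leaf 13)) (.node (.node (.leaf 96) (.leaf 53)) (.leaf 10))) (.node (.node (.node (.leaf 93) (.leaf 20)) (.leaf 66)) (.node (.node (.leaf 0) (.leaf 96)) (.leaf 13)))) (.node (.node (.node (.node (.leaf 7) (.leaf 43)) (.leaf 10)) (.node (.node (.leaf 33) (.leaf 10)) (.leaf 46))) (.node (.node (.node (.leaf 50) (.leaf 106)) (.leaf 63)) (.node (.node (.leaf 106) (.leaf 53)) (.leaf 90))))) (.node (.node (.node (.node (.node (.leaf 68) (.leaf 35)) (.leaf 81)) (.node (.node (.leaf 85) (.leaf 11)) (.leaf 18))) (.node (.node (.node (.leaf 12) (.leaf 98)) (.leaf 55)) (.node (.node (.leaf 98) (.leaf 95)) (.leaf 31)))) (.node (.node (.node (.node (.leaf 105) (.leaf 41)) (.leaf 18)) (.node (.node (.leaf 31) (.leaf 38)) (.leaf 5))) (.node (.node (.node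 (.leaf 98) (.leaf 5)) (.leaf 1)) (.node (.node (.leaf 5) (.leaf 31)) (.leaf 58)))))) (.node (.node (.node (.node (.node (.node (.leaf 109) (.leaf 76)) (.leaf 52)) (.node (.node (.leaf 36) (.leaf 62)) (.leaf 9))) (.node (.node (.node (.leaf 102) (.leaf 59)) (.leaf 46)) (.node (.node (.leaf 109) (.leaf 25)) (.leaf 32)))) (.node (.node (.node (.node (.leaf 76) (.leaf 42)) (.leaf 39)) (.node (.node (.leaf 92) (.leaf 59)) (.leaf 66))) (.node (.node (.node (.leaf 79) (.leaf 25)) (.leaf 42)) (.node (.node (.leaf 86) (.leaf 62)) (.leaf 29))))) (.node (.node (.node (.node (.node (.leaf 67) (.leaf 54)) (.leaf 61)) (.node (.node (.leaf 4) (.leaf 0)) (.leaf 37))) (.node (.node (.node (.leaf 91) (.leaf 27)) (.leaf 94)) (.node (.node (.leaf 87) (.leaf 64)) (.leaf 61)))) (.node (.node (.node (.node (.leaf 44) (.leaf 40)) (.leaf 77)) (.node (.node (.leaf 91) (.leaf 7)) (.leaf 44))) (.node (.node (.node (.leaf 97) (.leaf 104)) (.leaf 51)) (.node (.leaf 64) (.leaf 87))))))) (.node (.node (.node (.node (.node (.node (.node (.leaf 104) (.leaf 31)) (.leaf 98)) (.node (.node (.leaf 41) (.leaf 98)) (.leaf 4))) (.node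 (.node (.node (.leaf 38) (.leaf 44)) (.leaf 61)) (.node (.node (.leaf 74) (.leaf 11)) (.leaf 48)))) (.node (.node (.node (.node (.leaf 51) (.leaf 88)) (.leaf 74)) (.node (.node (.leaf 18) (.leaf 84)) (.leaf 51))) (.node (.node (.node (.leaf 74) (.leaf 101)) (.leaf 98)) (.node (.node (.leaf 101) (.leaf 108)) (.leaf 44))))) (.node (.node (.node (.node (.node (.leaf 23) (.leaf 89)) (.leaf 96)) (.node (.node (.leaf 99) (.leaf 16)) (.leaf 3))) (.node (.node (.node (.leaf 36) (.leaf 83)) (.leaf 39)) (.node (.node (.leaf 73) (.leaf 39)) (.leaf 76)))) (.node (.node (.node (.node (.leaf 49) (.leaf 26)) (.leaf 33)) (.node (.node (.leaf 16) (.leaf 103)) (.leaf 49))) (.node (.node (.node (.leaf 43) (.leaf 19)) (.leaf 86)) (.node (.leaf 59) (.leaf 43)))))) (.node (.node (.node (.node (.node (.node (.leaf 44) (.leaf 60)) (.leaf 107)) (.node (.node (.leaf 100) (.leaf 77)) (.leaf 93))) (.node (.node (.node (.leaf 97) (.leaf 103)) (.leaf 30)) (.node (.node (.leaf 34) (.leaf 20)) (.leaf 57)))) (.node (.node (.node (.node (.leaf 60) (.leaf 17)) (.leaf 44)) (.node (.node (.leaf 97) (.leaf 83)) (.leaf 80))) (.node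 (.node (.node (.leaf 14) (.leaf 40)) (.leaf 77)) (.node (.node (.leaf 50) (.leaf 57)) (.leaf 53))))) (.node (.node (.node (.node (.node (.leaf 92) (.leaf 48)) (.leaf 75)) (.node (.node (.leaf 29) (.leaf 5)) (.leaf 92))) (.node (.node (.node (.leaf 105) (.leaf 32)) (.leaf 48)) (.node (.node (.leaf 82) (.leaf 38)) (.leaf 95)))) (.node (.node (.node (.node (.leaf 69) (.leaf 15)) (.leaf 92)) (.node (.node (.leaf 75) (.leaf 72)) (.leaf 18))) (.node (.node (.node (.leaf 22) (.leaf 18)) (.leaf 95)) (.node (.leaf 39) (.leaf 62))))))))) (.node (.node (.node (.node (.node (.node (.node (.node (.node (.leaf 24) (.leaf 90)) (.leaf 57)) (.node (.node (.leaf 60) (.leaf 7)) (.leaf 54))) (.node (.node (.node (.leaf 87) (.leaf 84)) (.leaf 100)) (.node (.node (.leaf 54) (.leaf 10)) (.leaf 27)))) (.node (.node (.node (.node (.leaf 10) (.leaf 37)) (.leaf 84)) (.node (.node (.leaf 97) (.leaf 23)) (.leaf 30))) (.node (.node (.node (.leaf 4) (.leaf 70)) (.leaf 27)) (.node (.node (.leaf 20) (.leaf 97)) (.leaf 74))))) (.node (.node (.node (.node (.node (.leaf 22) (.leaf 79)) (.leaf 75)) (.node (.node (.leaf 49) (.leaf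 25)) (.leaf 62))) (.node (.node (.node (.leaf 85) (.leaf 22)) (.leaf 109)) (.node (.node (.leaf 82) (.leaf 58)) (.leaf 5)))) (.node (.node (.node (.node (.leaf 39) (.leaf 5)) (.leaf 22)) (.node (.node (.leaf 45) (.leaf 22)) (.leaf 69))) (.node (.node (.node (.leaf 22) (.leaf 88)) (.leaf 35)) (.node (.node (.leaf 29) (.leaf 25)) (.leaf 12)))))) (.node (.node (.node (.node (.node (.node (.leaf 83) (.leaf 99)) (.leaf 106)) (.node (.node (.leaf 20) (.leaf 16)) (.leaf 83))) (.node (.node (.node (.leaf 86) (.leaf 73)) (.leaf 89)) (.node (.node (.leaf 93) (.leaf 89)) (.leaf 56)))) (.node (.node (.node (.node (.leaf 0) (.leaf 26)) (.leaf 63)) (.node (.node (.leaf 46) (.leaf 43)) (.leaf 29))) (.node (.node (.node (.leaf 93) (.leaf 79)) (.leaf 76)) (.node (.node (.leaf 69) (.leaf 6)) (.leaf 3))))) (.node (.node (.node (.node (.node (.leaf 11) (.leaf 28)) (.leaf 34)) (.node (.node (.leaf 38) (.leaf 44)) (.leaf 81))) (.node (.node (.node (.leaf 15) (.leaf 101)) (.leaf 78)) (.node (.node (.leaf 61) (.leaf 88)) (.leaf 4)))) (.node (.node (.node (.node (.leaf 18) (.leaf 4)) (.leaf 91)) (.node (.node (.leaf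 44) (.leaf 91)) (.leaf 58))) (.node (.node (.node (.leaf 61) (.leaf 28)) (.leaf 4)) (.node (.leaf 88) (.leaf 31))))))) (.node (.node (.node (.node (.node (.node (.node (.leaf 88) (.leaf 45)) (.leaf 32)) (.node (.node (.leaf 35) (.leaf 41)) (.leaf 28))) (.node (.node (.node (.leaf 22) (.leaf 58)) (.leaf 35)) (.node (.node (.leaf 48) (.leaf 45)) (.leaf 71)))) (.node (.node (.node (.node (.leaf 65) (.leaf 11)) (.leaf 108)) (.node (.node (.leaf 22) (.leaf 58)) (.leaf 15))) (.node (.node (.node (.leaf 88) (.leaf 95)) (.leaf 52)) (.node (.node (.leaf 25) (.leaf 71)) (.leaf 28))))) (.node (.node (.node (.node (.node (.leaf 87) (.leaf 53)) (.leaf 80)) (.node (.node (.leaf 73) (.leaf 50)) (.leaf 26))) (.node (.node (.node (.leaf 60) (.leaf 106)) (.leaf 23)) (.node (.node (.leaf 37) (.leaf 53)) (.leaf 40)))) (.node (.node (.node (.node (.leaf 13) (.leaf 50)) (.leaf 47)) (.node (.node (.leaf 50) (.leaf 86)) (.leaf 73))) (.node (.node (.node (.leaf 87) (.leaf 103)) (.leaf 90)) (.node (.leaf 73) (.leaf 36)))))) (.node (.node (.node (.node (.node (.node (.leaf 97) (.leaf 104)) (.leaf 41)) (.node (.node (.leaf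 84) (.leaf 91)) (.leaf 27))) (.node (.node (.node (.leaf 71) (.leaf 7)) (.leaf 84)) (.node (.node (.leaf 17) (.leaf 84)) (.leaf 21)))) (.node (.node (.node (.node (.leaf 104) (.leaf 101)) (.leaf 107)) (.node (.node (.leaf 1) (.leaf 77)) (.leaf 44))) (.node (.node (.node (.leaf 27) (.leaf 24)) (.leaf 21)) (.node (.node (.leaf 4) (.leaf 101)) (.leaf 17))))) (.node (.node (.node (.node (.node (.leaf 46) (.leaf 92)) (.leaf 39)) (.node (.node (.leaf 92) (.leaf 49)) (.leaf 76))) (.node (.node (.node (.leaf 59) (.leaf 86)) (.leaf 32)) (.node (.node (.leaf 6) (.leaf 72)) (.leaf 39)))) (.node (.node (.node (.node (.leaf 82) (.leaf 79)) (.leaf 6)) (.node (.node (.leaf 9) (.leaf 106)) (.leaf 22))) (.node (.node (.node (.leaf 76) (.leaf 82)) (.leaf 9)) (.node (.leaf 72) (.leaf 16)))))))) (.node (.node (.node (.node (.node (.node (.node (.node (.leaf 56) (.leaf 22)) (.leaf 49)) (.node (.node (.leaf 73) (.leaf 29)) (.leaf 86))) (.node (.node (.node (.leaf 109) (.leaf 16)) (.leaf 43)) (.node (.node (.leaf 36) (.leaf 62)) (.leaf 109)))) (.node (.node (.node (.node (.leaf 103) (.leaf 59)) (.leaf 96)) (.node (.node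 (.leaf 9) (.leaf 46)) (.leaf 63))) (.node (.node (.node (.leaf 46) (.leaf 52)) (.leaf 89)) (.node (.node (.leaf 3) (.leaf 89)) (.leaf 106))))) (.node (.node (.node (.node (.node (.leaf 34) (.leaf 61)) (.leaf 48)) (.node (.node (.leaf 11) (.leaf 107)) (.leaf 44))) (.node (.node (.node (.leaf 58) (.leaf 74)) (.leaf 61)) (.node (.node (.leaf 4) (.leaf 81)) (.leaf 68)))) (.node (.node (.node (.node (.leaf 21) (.leaf 67)) (.leaf 4)) (.node (.node (.leaf 8) (.leaf 54)) (.leaf 81))) (.node (.node (.node (.leaf 74) (.leaf 41)) (.leaf 58)) (.node (.node (.leaf 101) (.leaf 97)) (.leaf 24)))))) (.node (.node (.node (.node (.node (.node (.leaf 35) (.leaf 52)) (.leaf 8)) (.node (.node (.leaf 52) (.leaf 58)) (.leaf 75))) (.node (.node (.node (.leaf 8) (.leaf 35)) (.leaf 102)) (.node (.node (.leaf 55) (.leaf 102)) (.leaf 108)))) (.node (.node (.node (.node (.leaf 52) (.leaf 58)) (.leaf 85)) (.node (.node (.leaf 88) (.leaf 5)) (.leaf 32))) (.node (.node (.node (.leaf 55) (.leaf 102)) (.leaf 88)) (.node (.node (.leaf 22) (.leaf 18)) (.leaf 65))))) (.node (.node (.node (.node (.node (.leaf 4) (.leaf 0)) (.leaf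 87)) (.node (.node (.leaf 40) (.leaf 57)) (.leaf 43))) (.node (.node (.node (.leaf 37) (.leaf 93)) (.leaf 0)) (.node (.node (.leaf 13) (.leaf 20)) (.leaf 17)))) (.node (.node (.node (.node (.leaf 100) (.leaf 57)) (.leaf 63)) (.node (.node (.leaf 17) (.leaf 43)) (.leaf 90))) (.node (.node (.node (.leaf 53) (.leaf 30)) (.leaf 37)) (.node (.leaf 20) (.leaf 23))))))) (.node (.node (.node (.node (.node (.node (.node (.leaf 21) (.leaf 17)) (.leaf 14)) (.node (.node (.leaf 107) (.leaf 84)) (.leaf 70))) (.node (.node (.node (.leaf 54) (.leaf 90)) (.leaf 97)) (.node (.node (.leaf 21) (.leaf 67)) (.leaf 24)))) (.node (.node (.node (.node (.leaf 37) (.leaf 104)) (.leaf 0)) (.node (.node (.leaf 4) (.leaf 30)) (.leaf 77))) (.node (.node (.node (.leaf 11) (.leaf 57)) (.leaf 64)) (.node (.node (.leaf 47) (.leaf 24)) (.leaf 60))))) (.node (.node (.node (.node (.node (.leaf 109) (.leaf 45)) (.leaf 2)) (.node (.node (.leaf 26) (.leaf 102)) (.leaf 19))) (.node (.node (.node (.leaf 2) (.leaf 9)) (.leaf 95)) (.node (.node (.leaf 99) (.leaf 15)) (.leaf 22)))) (.node (.node (.node (.node (.leaf 6) (.leaf 102)) (.leaf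 19)) (.node (.node (.leaf 102) (.leaf 19)) (.leaf 95))) (.node (.node (.node (.leaf 79) (.leaf 55)) (.leaf 22)) (.node (.leaf 36) (.leaf 19)))))) (.node (.node (.node (.node (.node (.node (.leaf 80) (.leaf 26)) (.leaf 3)) (.node (.node (.leaf 6) (.leaf 63)) (.leaf 80))) (.node (.node (.node (.leaf 23) (.leaf 80)) (.leaf 66)) (.node (.node (.leaf 50) (.leaf 16)) (.leaf 13)))) (.node (.node (.node (.node (.leaf 26) (.leaf 53)) (.leaf 90)) (.node (.node (.leaf 83) (.leaf 100)) (.leaf 56))) (.node (.node (.node (.leaf 80) (.leaf 56)) (.leaf 13)) (.node (.node (.leaf 46) (.leaf 63)) (.leaf 70))))) (.node (.node (.node (.node (.node (.leaf 88) (.leaf 75)) (.leaf 1)) (.node (.node (.leaf 75) (.leaf 31)) (.leaf 108))) (.node (.node (.node (.leaf 71) (.leaf 98)) (.leaf 75)) (.node (.node (.leaf 18) (.leaf 14)) (.leaf 101)))) (.node (.node (.node (.node (.leaf 15) (.leaf 91)) (.leaf 58)) (.node (.node (.leaf 101) (.leaf 8)) (.leaf 55))) (.node (.node (.node (.leaf 88) (.leaf 95)) (.leaf 81)) (.node (.leaf 105) (.leaf 58))))))))))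

def borelTab9 : Tree (ℕ) :=
  (.node (.node (.node (.node (.node (.node (.node (.node (.node (.node (.leaf 9) (.leaf 45)) (.leaf 22)) (.node (.node (.leaf 5) (.leaf 62)) (.leaf 68))) (.node (.node (.node (.leaf 22) (.leaf 38)) (.leaf 35)) (.node (.node (.leaf 29) (.leaf 85)) (.leaf 42)))) (.node (.node (.node (.node (.leaf 75) (.leaf 82)) (.leaf 28)) (.node (.node (.leaf 42) (.leaf 68)) (.leaf 15))) (.node (.node (.node (.leaf 19) (.leaf 15)) (.leaf 2)) (.node (.node (.leaf 95) (.leaf 62)) (.leaf 58))))) (.node (.node (.node (.node (.node (.leaf 57) (.leaf 3)) (.leaf 10)) (.node (.node (.leaf 24) (.leaf 40)) (.leaf 7))) (.node (.node (.node (.leaf 40) (.leaf 47)) (.leaf 13)) (.node (.node (.leaf 67) (.leaf 63)) (.leaf 40)))) (.node (.node (.node (.node (.leaf 4) (.leaf 70)) (.leaf 87)) (.node (.node (.leaf 60) (.leaf 7)) (.leaf 23))) (.node (.node (.node (.leaf 47) (.leaf 73)) (.leaf 90)) (.node (.node (.leaf 93) (.leaf 70)) (.leaf 47)))))) (.node (.node (.node (.node (.node (.node (.leaf 48) (.leaf 4)) (.leaf 71)) (.node (.node (.leaf 4) (.leaf 21)) (.leaf 18))) (.node (.node (.node (.leaf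 71) (.leaf 88)) (.leaf 54)) (.node (.node (.leaf 88) (.leaf 4)) (.leaf 91)))) (.node (.node (.node (.node (.leaf 24) (.leaf 11)) (.leaf 18)) (.node (.node (.leaf 51) (.leaf 67)) (.leaf 4))) (.node (.node (.node (.leaf 108) (.leaf 64)) (.leaf 101)) (.node (.node (.leaf 94) (.leaf 81)) (.leaf 78))))) (.node (.node (.node (.node (.node (.leaf 46) (.leaf 73)) (.leaf 19)) (.node (.node (.leaf 103) (.leaf 69)) (.leaf 76))) (.node (.node (.node (.leaf 49) (.leaf 76)) (.leaf 63)) (.node (.node (.leaf 26) (.leaf 2)) (.leaf 89)))) (.node (.node (.node (.node (.leaf 63) (.leaf 39)) (.leaf 106)) (.node (.node (.leaf 69) (.leaf 56)) (.leaf 63))) (.node (.node (.node (.leaf 36) (.leaf 93)) (.leaf 19)) (.node (.leaf 13) (.leaf 66))))))) (.node (.node (.node (.node (.node (.node (.node (.leaf 73) (.leaf 60)) (.leaf 6)) (.node (.node (.leaf 80) (.leaf 76)) (.leaf 63))) (.node (.node (.node (.leaf 56) (.leaf 63)) (.leaf 70)) (.node (.node (.leaf 93) (.leaf 100)) (.leaf 86)))) (.node (.node (.node (.node (.leaf 80) (.leaf 6)) (.leaf 63)) (.node (.node (.leaf 56) (.leaf 103)) (.leaf 80))) (.node (.node (.node (.leaf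 93) (.leaf 30)) (.leaf 16)) (.node (.node (.leaf 80) (.leaf 46)) (.leaf 13))))) (.node (.node (.node (.node (.node (.leaf 71) (.leaf 98)) (.leaf 65)) (.node (.node (.leaf 38) (.leaf 95)) (.leaf 101))) (.node (.node (.node (.leaf 25) (.leaf 31)) (.leaf 18)) (.node (.node (.leaf 21) (.leaf 68)) (.leaf 95)))) (.node (.node (.node (.node (.leaf 58) (.leaf 15)) (.leaf 51)) (.node (.node (.leaf 95) (.leaf 71)) (.leaf 28))) (.node (.node (.node (.leaf 31) (.leaf 68)) (.leaf 45)) (.node (.leaf 88) (.leaf 61)))))) (.node (.node (.node (.node (.node (.node (.leaf 72) (.leaf 19)) (.leaf 36)) (.node (.node (.leaf 69) (.leaf 45)) (.leaf 102))) (.node (.node (.node (.leaf 36) (.leaf 22)) (.leaf 59)) (.node (.node (.leaf 62) (.leaf 99)) (.leaf 85)))) (.node (.node (.node (.node (.leaf 19) (.leaf 75)) (.leaf 52)) (.node (.node (.leaf 16) (.leaf 12)) (.leaf 79))) (.node (.node (.node (.leaf 42) (.leaf 9)) (.leaf 56)) (.node (.node (.leaf 19) (.leaf 45)) (.leaf 102))))) (.node (.node (.node (.node (.node (.leaf 51) (.leaf 37)) (.leaf 14)) (.node (.node (.leaf 17) (.leaf 14)) (.leaf 61))) (.node (.node (.node (.leaf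 84) (.leaf 10)) (.leaf 17)) (.node (.node (.leaf 31) (.leaf 97)) (.leaf 24)))) (.node (.node (.node (.node (.leaf 27) (.leaf 104)) (.leaf 41)) (.node (.node (.leaf 84) (.leaf 60)) (.leaf 87))) (.node (.node (.node (.leaf 41) (.leaf 7)) (.leaf 24)) (.node (.leaf 97) (.leaf 100)))))))) (.node (.node (.node (.node (.node (.node (.node (.node (.leaf 41) (.leaf 87)) (.leaf 14)) (.node (.node (.leaf 97) (.leaf 54)) (.leaf 11))) (.node (.node (.node (.leaf 94) (.leaf 21)) (.leaf 67)) (.node (.node (.leaf 1) (.leaf 97)) (.leaf 14)))) (.node (.node (.node (.node (.leaf 8) (.leaf 44)) (.leaf 11)) (.node (.node (.leaf 34) (.leaf 11)) (.leaf 47))) (.node (.node (.node (.leaf 51) (.leaf 107)) (.leaf 64)) (.node (.node (.leaf 107) (.leaf 54)) (.leaf 91))))) (.node (.node (.node (.node (.node (.leaf 69) (.leaf 36)) (.leaf 82)) (.node (.node (.leaf 86) (.leaf 12)) (.leaf 19))) (.node (.node (.node (.leaf 13) (.leaf 99)) (.leaf 56)) (.node (.node (.leaf 99) (.leaf 96)) (.leaf 32)))) (.node (.node (.node (.node (.leaf 106) (.leaf 42)) (.leaf 19)) (.node (.node (.leaf 32) (.leaf 39)) (.leaf 6))) (.node (.node (.node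 (.leaf 99) (.leaf 6)) (.leaf 2)) (.node (.node (.leaf 6) (.leaf 32)) (.leaf 59)))))) (.node (.node (.node (.node (.node (.node (.leaf 100) (.leaf 77)) (.leaf 53)) (.node (.node (.leaf 37) (.leaf 63)) (.leaf 0))) (.node (.node (.node (.leaf 103) (.leaf 50)) (.leaf 47)) (.node (.node (.leaf 100) (.leaf 26)) (.leaf 33)))) (.node (.node (.node (.node (.leaf 77) (.leaf 43)) (.leaf 30)) (.node (.node (.leaf 93) (.leaf 50)) (.leaf 67))) (.node (.node (.node (.leaf 70) (.leaf 26)) (.leaf 43)) (.node (.node (.leaf 87) (.leaf 63)) (.leaf 20))))) (.node (.node (.node (.node (.node (.leaf 68) (.leaf 55)) (.leaf 62)) (.node (.node (.leaf 5) (.leaf 1)) (.leaf 38))) (.node (.node (.node (.leaf 92) (.leaf 28)) (.leaf 95)) (.node (.node (.leaf 88) (.leaf 65)) (.leaf 62)))) (.node (.node (.node (.node (.leaf 45) (.leaf 41)) (.leaf 78)) (.node (.node (.leaf 92) (.leaf 8)) (.leaf 45))) (.node (.node (.node (.leaf 98) (.leaf 105)) (.leaf 52)) (.node (.leaf 65) (.leaf 88))))))) (.node (.node (.node (.node (.node (.node (.node (.leaf 105) (.leaf 32)) (.leaf 99)) (.node (.node (.leaf 42) (.leaf 99)) (.leaf 5))) (.node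 (.node (.node (.leaf 39) (.leaf 45)) (.leaf 62)) (.node (.node (.leaf 75) (.leaf 12)) (.leaf 49)))) (.node (.node (.node (.node (.leaf 52) (.leaf 89)) (.leaf 75)) (.node (.node (.leaf 19) (.leaf 85)) (.leaf 52))) (.node (.node (.node (.leaf 75) (.leaf 102)) (.leaf 99)) (.node (.node (.leaf 102) (.leaf 109)) (.leaf 45))))) (.node (.node (.node (.node (.node (.leaf 24) (.leaf 80)) (.leaf 97)) (.node (.node (.leaf 90) (.leaf 17)) (.leaf 4))) (.node (.node (.node (.leaf 37) (.leaf 84)) (.leaf 30)) (.node (.node (.leaf 74) (.leaf 30)) (.leaf 77)))) (.node (.node (.node (.node (.leaf 40) (.leaf 27)) (.leaf 34)) (.node (.node (.leaf 17) (.leaf 104)) (.leaf 40))) (.node (.node (.node (.leaf 44) (.leaf 10)) (.leaf 87)) (.node (.leaf 50) (.leaf 44)))))) (.node (.node (.node (.node (.node (.node (.leaf 45) (.leaf 61)) (.leaf 108)) (.node (.node (.leaf 101) (.leaf 78)) (.leaf 94))) (.node (.node (.node (.leaf 98) (.leaf 104)) (.leaf 31)) (.node (.node (.leaf 35) (.leaf 21)) (.leaf 58)))) (.node (.node (.node (.node (.leaf 61) (.leaf 18)) (.leaf 45)) (.node (.node (.leaf 98) (.leaf 84)) (.leaf 81))) (.node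 (.node (.node (.leaf 15) (.leaf 41)) (.leaf 78)) (.node (.node (.leaf 51) (.leaf 58)) (.leaf 54))))) (.node (.node (.node (.node (.node (.leaf 93) (.leaf 49)) (.leaf 76)) (.node (.node (.leaf 20) (.leaf 6)) (.leaf 93))) (.node (.node (.node (.leaf 106) (.leaf 33)) (.leaf 49)) (.node (.node (.leaf 83) (.leaf 39)) (.leaf 96)))) (.node (.node (.node (.node (.leaf 60) (.leaf 16)) (.leaf 93)) (.node (.node (.leaf 76) (.leaf 73)) (.leaf 19))) (.node (.node (.node (.leaf 23) (.leaf 19)) (.leaf 96)) (.node (.leaf 30) (.leaf 63))))))))) (.node (.node (.node (.node (.node (.node (.node (.node (.node (.leaf 25) (.leaf 91)) (.leaf 58)) (.node (.node (.leaf 61) (.leaf 8)) (.leaf 55))) (.node (.node (.node (.leaf 88) (.leaf 85)) (.leaf 101)) (.node (.node (.leaf 55) (.leaf 11)) (.leaf 28)))) (.node (.node (.node (.node (.leaf 11) (.leaf 38)) (.leaf 85)) (.node (.node (.leaf 98) (.leaf 24)) (.leaf 31))) (.node (.node (.node (.leaf 5) (.leaf 71)) (.leaf 28)) (.node (.node (.leaf 21) (.leaf 98)) (.leaf 75))))) (.node (.node (.node (.node (.node (.leaf 23) (.leaf 70)) (.leaf 76)) (.node (.node (.leaf 40) (.leaf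 26)) (.leaf 63))) (.node (.node (.node (.leaf 86) (.leaf 23)) (.leaf 100)) (.node (.node (.leaf 83) (.leaf 59)) (.leaf 6)))) (.node (.node (.node (.node (.leaf 30) (.leaf 6)) (.leaf 23)) (.node (.node (.leaf 46) (.leaf 23)) (.leaf 60))) (.node (.node (.node (.leaf 23) (.leaf 89)) (.leaf 36)) (.node (.node (.leaf 20) (.leaf 26)) (.leaf 13)))))) (.node (.node (.node (.node (.node (.node (.leaf 84) (.leaf 90)) (.leaf 107)) (.node (.node (.leaf 21) (.leaf 17)) (.leaf 84))) (.node (.node (.node (.leaf 87) (.leaf 74)) (.leaf 80)) (.node (.node (.leaf 94) (.leaf 80)) (.leaf 57)))) (.node (.node (.node (.node (.leaf 1) (.leaf 27)) (.leaf 64)) (.node (.node (.leaf 47) (.leaf 44)) (.leaf 20))) (.node (.node (.node (.leaf 94) (.leaf 70)) (.leaf 77)) (.node (.node (.leaf 60) (.leaf 7)) (.leaf 4))))) (.node (.node (.node (.node (.node (.leaf 12) (.leaf 29)) (.leaf 35)) (.node (.node (.leaf 39) (.leaf 45)) (.leaf 82))) (.node (.node (.node (.leaf 16) (.leaf 102)) (.leaf 79)) (.node (.node (.leaf 62) (.leaf 89)) (.leaf 5)))) (.node (.node (.node (.node (.leaf 19) (.leaf 5)) (.leaf 92)) (.node (.node (.leaf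 45) (.leaf 92)) (.leaf 59))) (.node (.node (.node (.leaf 62) (.leaf 29)) (.leaf 5)) (.node (.leaf 89) (.leaf 32))))))) (.node (.node (.node (.node (.node (.node (.node (.leaf 89) (.leaf 46)) (.leaf 33)) (.node (.node (.leaf 36) (.leaf 42)) (.leaf 29))) (.node (.node (.node (.leaf 23) (.leaf 59)) (.leaf 36)) (.node (.node (.leaf 49) (.leaf 46)) (.leaf 72)))) (.node (.node (.node (.node (.leaf 66) (.leaf 12)) (.leaf 109)) (.node (.node (.leaf 23) (.leaf 59)) (.leaf 16))) (.node (.node (.node (.leaf 89) (.leaf 96)) (.leaf 53)) (.node (.node (.leaf 26) (.leaf 72)) (.leaf 29))))) (.node (.node (.node (.node (.node (.leaf 88) (.leaf 54)) (.leaf 81)) (.node (.node (.leaf 74) (.leaf 51)) (.leaf 27))) (.node (.node (.node (.leaf 61) (.leaf 107)) (.leaf 24)) (.node (.node (.leaf 38) (.leaf 54)) (.leaf 41)))) (.node (.node (.node (.node (.leaf 14) (.leaf 51)) (.leaf 48)) (.node (.node (.leaf 51) (.leaf 87)) (.leaf 74))) (.node (.node (.node (.leaf 88) (.leaf 104)) (.leaf 91)) (.node (.leaf 74) (.leaf 37)))))) (.node (.node (.node (.node (.node (.node (.leaf 98) (.leaf 105)) (.leaf 42)) (.node (.node (.leaf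 85) (.leaf 92)) (.leaf 28))) (.node (.node (.node (.leaf 72) (.leaf 8)) (.leaf 85)) (.node (.node (.leaf 18) (.leaf 85)) (.leaf 22)))) (.node (.node (.node (.node (.leaf 105) (.leaf 102)) (.leaf 108)) (.node (.node (.leaf 2) (.leaf 78)) (.leaf 45))) (.node (.node (.node (.leaf 28) (.leaf 25)) (.leaf 22)) (.node (.node (.leaf 5) (.leaf 102)) (.leaf 18))))) (.node (.node (.node (.node (.node (.leaf 47) (.leaf 93)) (.leaf 30)) (.node (.node (.leaf 93) (.leaf 40)) (.leaf 77))) (.node (.node (.node (.leaf 50) (.leaf 87)) (.leaf 33)) (.node (.node (.leaf 7) (.leaf 73)) (.leaf 30)))) (.node (.node (.node (.node (.leaf 83) (.leaf 70)) (.leaf 7)) (.node (.node (.leaf 0) (.leaf 107)) (.leaf 23))) (.node (.node (.node (.leaf 77) (.leaf 83)) (.leaf 0)) (.node (.leaf 73) (.leaf 17)))))))) (.node (.node (.node (.node (.node (.node (.node (.node (.leaf 57) (.leaf 23)) (.leaf 40)) (.node (.node (.leaf 74) (.leaf 20)) (.leaf 87))) (.node (.node (.node (.leaf 100) (.leaf 17)) (.leaf 44)) (.node (.node (.leaf 37) (.leaf 63)) (.leaf 100)))) (.node (.node (.node (.node (.leaf 104) (.leaf 50)) (.leaf 97)) (.node (.node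 (.leaf 0) (.leaf 47)) (.leaf 64))) (.node (.node (.node (.leaf 47) (.leaf 53)) (.leaf 80)) (.node (.node (.leaf 4) (.leaf 80)) (.leaf 107))))) (.node (.node (.node (.node (.node (.leaf 35) (.leaf 62)) (.leaf 49)) (.node (.node (.leaf 12) (.leaf 108)) (.leaf 45))) (.node (.node (.node (.leaf 59) (.leaf 75)) (.leaf 62)) (.node (.node (.leaf 5) (.leaf 82)) (.leaf 69)))) (.node (.node (.node (.node (.leaf 22) (.leaf 68)) (.leaf 5)) (.node (.node (.leaf 9) (.leaf 55)) (.leaf 82))) (.node (.node (.node (.leaf 75) (.leaf 42)) (.leaf 59)) (.node (.node (.leaf 102) (.leaf 98)) (.leaf 25)))))) (.node (.node (.node (.node (.node (.node (.leaf 36) (.leaf 53)) (.leaf 9)) (.node (.node (.leaf 53) (.leaf 59)) (.leaf 76))) (.node (.node (.node (.leaf 9) (.leaf 36)) (.leaf 103)) (.node (.node (.leaf 56) (.leaf 103)) (.leaf 109)))) (.node (.node (.node (.node (.leaf 53) (.leaf 59)) (.leaf 86)) (.node (.node (.leaf 89) (.leaf 6)) (.leaf 33))) (.node (.node (.node (.leaf 56) (.leaf 103)) (.leaf 89)) (.node (.node (.leaf 23) (.leaf 19)) (.leaf 66))))) (.node (.node (.node (.node (.node (.leaf 5) (.leaf 1)) (.leaf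 88)) (.node (.node (.leaf 41) (.leaf 58)) (.leaf 44))) (.node (.node (.node (.leaf 38) (.leaf 94)) (.leaf 1)) (.node (.node (.leaf 14) (.leaf 21)) (.leaf 18)))) (.node (.node (.node (.node (.leaf 101) (.leaf 58)) (.leaf 64)) (.node (.node (.leaf 18) (.leaf 44)) (.leaf 91))) (.node (.node (.node (.leaf 54) (.leaf 31)) (.leaf 38)) (.node (.leaf 21) (.leaf 24))))))) (.node (.node (.node (.node (.node (.node (.node (.leaf 22) (.leaf 18)) (.leaf 15)) (.node (.node (.leaf 108) (.leaf 85)) (.leaf 71))) (.node (.node (.node (.leaf 55) (.leaf 91)) (.leaf 98)) (.node (.node (.leaf 22) (.leaf 68)) (.leaf 25)))) (.node (.node (.node (.node (.leaf 38) (.leaf 105)) (.leaf 1)) (.node (.node (.leaf 5) (.leaf 31)) (.leaf 78))) (.node (.node (.node (.leaf 12) (.leaf 58)) (.leaf 65)) (.node (.node (.leaf 48) (.leaf 25)) (.leaf 61))))) (.node (.node (.node (.node (.node (.leaf 100) (.leaf 46)) (.leaf 3)) (.node (.node (.leaf 27) (.leaf 103)) (.leaf 10))) (.node (.node (.node (.leaf 3) (.leaf 0)) (.leaf 96)) (.node (.node (.leaf 90) (.leaf 16)) (.leaf 23)))) (.node (.node (.node (.node (.leaf 7) (.leaf 103)) (.leaf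 10)) (.node (.node (.leaf 103) (.leaf 10)) (.leaf 96))) (.node (.node (.node (.leaf 70) (.leaf 56)) (.leaf 23)) (.node (.leaf 37) (.leaf 10)))))) (.node (.node (.node (.node (.node (.node (.leaf 81) (.leaf 27)) (.leaf 4)) (.node (.node (.leaf 7) (.leaf 64)) (.leaf 81))) (.node (.node (.node (.leaf 24) (.leaf 81)) (.leaf 67)) (.node (.node (.leaf 51) (.leaf 17)) (.leaf 14)))) (.node (.node (.node (.node (.leaf 27) (.leaf 54)) (.leaf 91)) (.node (.node (.leaf 84) (.leaf 101)) (.leaf 57))) (.node (.node (.node (.leaf 81) (.leaf 57)) (.leaf 14)) (.node (.node (.leaf 47) (.leaf 64)) (.leaf 71))))) (.node (.node (.node (.node (.node (.leaf 89) (.leaf 76)) (.leaf 2)) (.node (.node (.leaf 76) (.leaf 32)) (.leaf 109))) (.node (.node (.node (.leaf 72) (.leaf 99)) (.leaf 76)) (.node (.node (.leaf 19) (.leaf 15)) (.leaf 102)))) (.node (.node (.node (.node (.leaf 16) (.leaf 92)) (.leaf 59)) (.node (.node (.leaf 102) (.leaf 9)) (.leaf 56))) (.node (.node (.node (.leaf 89) (.leaf 96)) (.leaf 82)) (.node (.leaf 106) (.leaf 59))))))))))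

def borelTab10 : Tree (ℕ) :=
  (.node (.node (.node (.node (.node (.node (.node (.node (.node (.node (.leaf 10) (.leaf 46)) (.leaf 23)) (.node (.node (.leaf 6) (.leaf 33)) (.leaf 69))) (.node (.node (.node (.leaf 23) (.leaf 39)) (.leaf 16)) (.node (.node (.leaf 20) (.leaf 86)) (.leaf 43)))) (.node (.node (.node (.node (.leaf 76) (.leaf 83)) (.leaf 29)) (.node (.node (.leaf 13) (.leaf 69)) (.leaf 16))) (.node (.node (.node (.leaf 10) (.leaf 16)) (.leaf 3)) (.node (.node (.leaf 96) (.leaf 63)) (.leaf 9))))) (.node (.node (.node (.node (.node (.leaf 58) (.leaf 4)) (.leaf 11)) (.node (.node (.leaf 25) (.leaf 41)) (.leaf 38))) (.node (.node (.node (.leaf 61) (.leaf 48)) (.leaf 14)) (.node (.node (.leaf 68) (.leaf 4)) (.leaf 41)))) (.node (.node (.node (.node (.leaf 5) (.leaf 91)) (.leaf 88)) (.node (.node (.leaf 61) (.leaf 8)) (.leaf 24))) (.node (.node (.node (.leaf 48) (.leaf 74)) (.leaf 91)) (.node (.node (.leaf 35) (.leaf 71)) (.leaf 48)))))) (.node (.node (.node (.node (.node (.node (.leaf 49) (.leaf 105)) (.leaf 72)) (.node (.node (.leaf 5) (.leaf 22)) (.leaf 19))) (.node (.node (.node (.leaf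 72) (.leaf 89)) (.leaf 55)) (.node (.node (.leaf 39) (.leaf 5)) (.leaf 92)))) (.node (.node (.node (.node (.leaf 15) (.leaf 12)) (.leaf 19)) (.node (.node (.leaf 52) (.leaf 99)) (.leaf 5))) (.node (.node (.node (.leaf 109) (.leaf 65)) (.leaf 32)) (.node (.node (.leaf 95) (.leaf 82)) (.leaf 79))))) (.node (.node (.node (.node (.node (.leaf 47) (.leaf 74)) (.leaf 20)) (.node (.node (.leaf 104) (.leaf 60)) (.leaf 77))) (.node (.node (.node (.leaf 40) (.leaf 37)) (.leaf 64)) (.node (.node (.leaf 27) (.leaf 3)) (.leaf 80)))) (.node (.node (.node (.node (.leaf 64) (.leaf 30)) (.leaf 107)) (.node (.node (.leaf 60) (.leaf 57)) (.leaf 4))) (.node (.node (.node (.leaf 107) (.leaf 94)) (.leaf 10)) (.node (.leaf 14) (.leaf 67))))))) (.node (.node (.node (.node (.node (.node (.node (.leaf 74) (.leaf 61)) (.leaf 77)) (.node (.node (.leaf 81) (.leaf 77)) (.leaf 64))) (.node (.node (.node (.leaf 57) (.leaf 4)) (.leaf 71)) (.node (.node (.leaf 94) (.leaf 101)) (.leaf 87)))) (.node (.node (.node (.node (.leaf 81) (.leaf 7)) (.leaf 64)) (.node (.node (.leaf 57) (.leaf 104)) (.leaf 101))) (.node (.node (.node (.leaf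 34) (.leaf 31)) (.leaf 17)) (.node (.node (.leaf 81) (.leaf 7)) (.leaf 14))))) (.node (.node (.node (.node (.node (.leaf 3) (.leaf 99)) (.leaf 66)) (.node (.node (.leaf 39) (.leaf 76)) (.leaf 102))) (.node (.node (.node (.leaf 26) (.leaf 32)) (.leaf 79)) (.node (.node (.leaf 22) (.leaf 69)) (.leaf 96)))) (.node (.node (.node (.node (.leaf 59) (.leaf 16)) (.leaf 52)) (.node (.node (.leaf 76) (.leaf 72)) (.leaf 29))) (.node (.node (.node (.leaf 32) (.leaf 69)) (.leaf 46)) (.node (.leaf 89) (.leaf 102)))))) (.node (.node (.node (.node (.node (.node (.leaf 73) (.leaf 10)) (.leaf 37)) (.node (.node (.leaf 70) (.leaf 46)) (.leaf 103))) (.node (.node (.node (.leaf 37) (.leaf 23)) (.leaf 50)) (.node (.node (.leaf 63) (.leaf 90)) (.leaf 67)))) (.node (.node (.node (.node (.leaf 10) (.leaf 76)) (.leaf 23)) (.node (.node (.leaf 17) (.leaf 13)) (.leaf 70))) (.node (.node (.node (.leaf 43) (.leaf 10)) (.leaf 57)) (.node (.node (.leaf 10) (.leaf 46)) (.leaf 103))))) (.node (.node (.node (.node (.node (.leaf 52) (.leaf 68)) (.leaf 15)) (.node (.node (.leaf 18) (.leaf 15)) (.leaf 62))) (.node (.node (.node (.leaf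 85) (.leaf 11)) (.leaf 18)) (.node (.node (.leaf 72) (.leaf 98)) (.leaf 25)))) (.node (.node (.node (.node (.leaf 58) (.leaf 105)) (.leaf 42)) (.node (.node (.leaf 85) (.leaf 81)) (.leaf 88))) (.node (.node (.node (.leaf 42) (.leaf 8)) (.leaf 15)) (.node (.leaf 98) (.leaf 101)))))))) (.node (.node (.node (.node (.node (.node (.node (.node (.leaf 42) (.leaf 88)) (.leaf 15)) (.node (.node (.leaf 19) (.leaf 55)) (.leaf 12))) (.node (.node (.node (.leaf 95) (.leaf 22)) (.leaf 68)) (.node (.node (.leaf 2) (.leaf 98)) (.leaf 5)))) (.node (.node (.node (.node (.leaf 9) (.leaf 45)) (.leaf 52)) (.node (.node (.leaf 35) (.leaf 12)) (.leaf 48))) (.node (.node (.node (.leaf 52) (.leaf 28)) (.leaf 65)) (.node (.node (.leaf 108) (.leaf 55)) (.leaf 92))))) (.node (.node (.node (.node (.node (.leaf 60) (.leaf 107)) (.leaf 83)) (.node (.node (.leaf 87) (.leaf 13)) (.leaf 10))) (.node (.node (.node (.leaf 14) (.leaf 90)) (.leaf 57)) (.node (.node (.leaf 100) (.leaf 97)) (.leaf 33)))) (.node (.node (.node (.node (.leaf 67) (.leaf 43)) (.leaf 10)) (.node (.node (.leaf 33) (.leaf 40)) (.leaf 7))) (.node (.node (.node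 (.leaf 90) (.leaf 7)) (.leaf 83)) (.node (.node (.leaf 7) (.leaf 33)) (.leaf 50)))))) (.node (.node (.node (.node (.node (.node (.leaf 11) (.leaf 78)) (.leaf 54)) (.node (.node (.leaf 38) (.leaf 4)) (.leaf 1))) (.node (.node (.node (.leaf 104) (.leaf 51)) (.leaf 78)) (.node (.node (.leaf 101) (.leaf 27)) (.leaf 34)))) (.node (.node (.node (.node (.leaf 78) (.leaf 44)) (.leaf 31)) (.node (.node (.leaf 34) (.leaf 51)) (.leaf 68))) (.node (.node (.node (.leaf 71) (.leaf 27)) (.leaf 44)) (.node (.node (.leaf 88) (.leaf 64)) (.leaf 41))))) (.node (.node (.node (.node (.node (.leaf 69) (.leaf 56)) (.leaf 63)) (.node (.node (.leaf 6) (.leaf 2)) (.leaf 99))) (.node (.node (.node (.leaf 63) (.leaf 29)) (.leaf 96)) (.node (.node (.leaf 89) (.leaf 46)) (.leaf 63)))) (.node (.node (.node (.node (.leaf 46) (.leaf 83)) (.leaf 79)) (.node (.node (.leaf 93) (.leaf 9)) (.leaf 46))) (.node (.node (.node (.leaf 99) (.leaf 106)) (.leaf 53)) (.node (.leaf 46) (.leaf 89))))))) (.node (.node (.node (.node (.node (.node (.node (.leaf 106) (.leaf 33)) (.leaf 90)) (.node (.node (.leaf 43) (.leaf 90)) (.leaf 96))) (.node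 (.node (.node (.leaf 40) (.leaf 46)) (.leaf 63)) (.node (.node (.leaf 76) (.leaf 93)) (.leaf 40)))) (.node (.node (.node (.node (.leaf 53) (.leaf 90)) (.leaf 76)) (.node (.node (.leaf 10) (.leaf 86)) (.leaf 53))) (.node (.node (.node (.leaf 76) (.leaf 103)) (.leaf 90)) (.node (.node (.leaf 73) (.leaf 100)) (.leaf 46))))) (.node (.node (.node (.node (.node (.leaf 25) (.leaf 81)) (.leaf 98)) (.node (.node (.leaf 1) (.leaf 18)) (.leaf 5))) (.node (.node (.node (.leaf 38) (.leaf 85)) (.leaf 31)) (.node (.node (.leaf 75) (.leaf 31)) (.leaf 108)))) (.node (.node (.node (.node (.leaf 41) (.leaf 28)) (.leaf 25)) (.node (.node (.leaf 18) (.leaf 105)) (.leaf 41))) (.node (.node (.node (.leaf 45) (.leaf 31)) (.leaf 88)) (.node (.leaf 51) (.leaf 45)))))) (.node (.node (.node (.node (.node (.node (.leaf 46) (.leaf 62)) (.leaf 59)) (.node (.node (.leaf 102) (.leaf 79)) (.leaf 95))) (.node (.node (.node (.leaf 99) (.leaf 95)) (.leaf 32)) (.node (.node (.leaf 36) (.leaf 22)) (.leaf 59)))) (.node (.node (.node (.node (.leaf 62) (.leaf 19)) (.leaf 46)) (.node (.node (.leaf 99) (.leaf 85)) (.leaf 12))) (.node (.node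 (.node (.leaf 106) (.leaf 42)) (.leaf 79)) (.node (.node (.leaf 52) (.leaf 9)) (.leaf 55))))) (.node (.node (.node (.node (.node (.leaf 34) (.leaf 40)) (.leaf 77)) (.node (.node (.leaf 21) (.leaf 77)) (.leaf 94))) (.node (.node (.node (.leaf 107) (.leaf 34)) (.leaf 51)) (.node (.node (.leaf 84) (.leaf 30)) (.leaf 97)))) (.node (.node (.node (.node (.leaf 61) (.leaf 17)) (.leaf 94)) (.node (.node (.leaf 37) (.leaf 74)) (.leaf 10))) (.node (.node (.node (.leaf 24) (.leaf 10)) (.leaf 97)) (.node (.leaf 31) (.leaf 4))))))))) (.node (.node (.node (.node (.node (.node (.node (.node (.node (.leaf 26) (.leaf 92)) (.leaf 59)) (.node (.node (.leaf 62) (.leaf 9)) (.leaf 36))) (.node (.node (.node (.leaf 39) (.leaf 86)) (.leaf 102)) (.node (.node (.leaf 56) (.leaf 52)) (.leaf 29)))) (.node (.node (.node (.node (.leaf 12) (.leaf 99)) (.leaf 86)) (.node (.node (.leaf 99) (.leaf 25)) (.leaf 32))) (.node (.node (.node (.leaf 6) (.leaf 72)) (.leaf 29)) (.node (.node (.leaf 62) (.leaf 99)) (.leaf 76))))) (.node (.node (.node (.node (.node (.leaf 24) (.leaf 71)) (.leaf 77)) (.node (.node (.leaf 61) (.leaf 27))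 (.leaf 64))) (.node (.node (.node (.leaf 87) (.leaf 24)) (.leaf 101)) (.node (.node (.leaf 84) (.leaf 50)) (.leaf 77)))) (.node (.node (.node (.node (.leaf 31) (.leaf 7)) (.leaf 74)) (.node (.node (.leaf 47) (.leaf 24)) (.leaf 61))) (.node (.node (.node (.leaf 24) (.leaf 91)) (.leaf 37)) (.node (.node (.leaf 21) (.leaf 27)) (.leaf 14)))))) (.node (.node (.node (.node (.node (.node (.leaf 85) (.leaf 91)) (.leaf 28)) (.node (.node (.leaf 22) (.leaf 18)) (.leaf 85))) (.node (.node (.node (.leaf 88) (.leaf 65)) (.leaf 81)) (.node (.node (.leaf 95) (.leaf 81)) (.leaf 58)))) (.node (.node (.node (.node (.leaf 2) (.leaf 28)) (.leaf 65)) (.node (.node (.leaf 48) (.leaf 45)) (.leaf 41))) (.node (.node (.node (.leaf 85) (.leaf 71)) (.leaf 78)) (.node (.node (.leaf 61) (.leaf 38)) (.leaf 5))))) (.node (.node (.node (.node (.node (.leaf 93) (.leaf 20)) (.leaf 36)) (.node (.node (.leaf 30) (.leaf 26)) (.leaf 83))) (.node (.node (.node (.leaf 17) (.leaf 103)) (.leaf 80)) (.node (.node (.leaf 63) (.leaf 80)) (.leaf 6)))) (.node (.node (.node (.node (.leaf 10) (.leaf 6)) (.leaf 93)) (.node (.node (.leaf 27)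 (.leaf 93)) (.leaf 50))) (.node (.node (.node (.leaf 63) (.leaf 20)) (.leaf 6)) (.node (.leaf 80) (.leaf 3))))))) (.node (.node (.node (.node (.node (.node (.node (.leaf 90) (.leaf 47)) (.leaf 34)) (.node (.node (.leaf 37) (.leaf 13)) (.leaf 20))) (.node (.node (.node (.leaf 24) (.leaf 50)) (.leaf 107)) (.node (.node (.leaf 40) (.leaf 47)) (.leaf 73)))) (.node (.node (.node (.node (.leaf 67) (.leaf 13)) (.leaf 100)) (.node (.node (.leaf 74) (.leaf 50)) (.leaf 17))) (.node (.node (.node (.leaf 80) (.leaf 97)) (.leaf 54)) (.node (.node (.leaf 27) (.leaf 73)) (.leaf 30))))) (.node (.node (.node (.node (.node (.leaf 89) (.leaf 55)) (.leaf 82)) (.node (.node (.leaf 75) (.leaf 52)) (.leaf 59))) (.node (.node (.node (.leaf 102) (.leaf 108)) (.leaf 25)) (.node (.node (.leaf 39) (.leaf 45)) (.leaf 42)))) (.node (.node (.node (.node (.leaf 15) (.leaf 92)) (.leaf 49)) (.node (.node (.leaf 52) (.leaf 88)) (.leaf 75))) (.node (.node (.node (.leaf 89) (.leaf 105)) (.leaf 92)) (.node (.leaf 65) (.leaf 38)))))) (.node (.node (.node (.node (.node (.node (.leaf 99) (.leaf 86)) (.leaf 43)) (.node (.node (.leaf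 86) (.leaf 93)) (.leaf 29))) (.node (.node (.node (.leaf 73) (.leaf 9)) (.leaf 86)) (.node (.node (.leaf 79) (.leaf 86)) (.leaf 23)))) (.node (.node (.node (.node (.leaf 86) (.leaf 103)) (.leaf 109)) (.node (.node (.leaf 3) (.leaf 29)) (.leaf 46))) (.node (.node (.node (.leaf 29) (.leaf 26)) (.leaf 103)) (.node (.node (.leaf 6) (.leaf 103)) (.leaf 19))))) (.node (.node (.node (.node (.node (.leaf 48) (.leaf 94)) (.leaf 51)) (.node (.node (.leaf 94) (.leaf 41)) (.leaf 78))) (.node (.node (.node (.leaf 51) (.leaf 8)) (.leaf 34)) (.node (.node (.leaf 8) (.leaf 74)) (.leaf 31)))) (.node (.node (.node (.node (.leaf 84) (.leaf 71)) (.leaf 8)) (.node (.node (.leaf 1) (.leaf 108)) (.leaf 74))) (.node (.node (.node (.leaf 108) (.leaf 84)) (.leaf 1)) (.node (.leaf 74) (.leaf 18)))))))) (.node (.node (.node (.node (.node (.node (.node (.node (.leaf 58) (.leaf 75)) (.leaf 41)) (.node (.node (.leaf 75) (.leaf 21)) (.leaf 88))) (.node (.node (.node (.leaf 101) (.leaf 18)) (.leaf 45)) (.node (.node (.leaf 68) (.leaf 64)) (.leaf 101)))) (.node (.node (.node (.node (.leaf 95) (.leaf 51)) (.leaf 98)) (.node (.node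 (.leaf 1) (.leaf 78)) (.leaf 65))) (.node (.node (.node (.leaf 48) (.leaf 54)) (.leaf 101)) (.node (.node (.leaf 5) (.leaf 81)) (.leaf 108))))) (.node (.node (.node (.node (.node (.leaf 36) (.leaf 63)) (.leaf 50)) (.node (.node (.leaf 13) (.leaf 109)) (.leaf 46))) (.node (.node (.node (.leaf 50) (.leaf 56)) (.leaf 63)) (.node (.node (.leaf 6) (.leaf 83)) (.leaf 60)))) (.node (.node (.node (.node (.leaf 23) (.leaf 69)) (.leaf 6)) (.node (.node (.leaf 0) (.leaf 56)) (.leaf 53))) (.node (.node (.node (.leaf 56) (.leaf 43)) (.leaf 50)) (.node (.node (.leaf 103) (.leaf 49)) (.leaf 26)))))) (.node (.node (.node (.node (.node (.node (.leaf 37) (.leaf 54)) (.leaf 0)) (.node (.node (.leaf 54) (.leaf 50)) (.leaf 37))) (.node (.node (.node (.leaf 11) (.leaf 37)) (.leaf 104)) (.node (.node (.leaf 57) (.leaf 44)) (.leaf 100)))) (.node (.node (.node (.node (.leaf 54) (.leaf 60)) (.leaf 87)) (.node (.node (.leaf 80) (.leaf 7)) (.leaf 34))) (.node (.node (.node (.leaf 57) (.leaf 104)) (.leaf 80)) (.node (.node (.leaf 74) (.leaf 10)) (.leaf 67))))) (.node (.node (.node (.node (.node (.leaf 6) (.leaf 2)) (.leaf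 89)) (.node (.node (.leaf 82) (.leaf 59)) (.leaf 45))) (.node (.node (.node (.leaf 39) (.leaf 95)) (.leaf 2)) (.node (.node (.leaf 15) (.leaf 22)) (.leaf 79)))) (.node (.node (.node (.node (.leaf 102) (.leaf 59)) (.leaf 55)) (.node (.node (.leaf 19) (.leaf 45)) (.leaf 92))) (.node (.node (.node (.leaf 55) (.leaf 72)) (.leaf 39)) (.node (.leaf 22) (.leaf 25))))))) (.node (.node (.node (.node (.node (.node (.node (.leaf 23) (.leaf 19)) (.leaf 16)) (.node (.node (.leaf 59) (.leaf 86)) (.leaf 72))) (.node (.node (.node (.leaf 56) (.leaf 92)) (.leaf 99)) (.node (.node (.leaf 23) (.leaf 69)) (.leaf 6)))) (.node (.node (.node (.node (.leaf 39) (.leaf 106)) (.leaf 43)) (.node (.node (.leaf 6) (.leaf 32)) (.leaf 79))) (.node (.node (.node (.leaf 13) (.leaf 9)) (.leaf 66)) (.node (.node (.leaf 49) (.leaf 26)) (.leaf 62))))) (.node (.node (.node (.node (.node (.leaf 101) (.leaf 7)) (.leaf 4)) (.node (.node (.leaf 28) (.leaf 104)) (.leaf 11))) (.node (.node (.node (.leaf 4) (.leaf 1)) (.leaf 97)) (.node (.node (.leaf 1) (.leaf 17)) (.leaf 24)))) (.node (.node (.node (.node (.leaf 38) (.leaf 104)) (.leaf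 11)) (.node (.node (.leaf 104) (.leaf 31)) (.leaf 97))) (.node (.node (.node (.leaf 71) (.leaf 57)) (.leaf 74)) (.node (.leaf 38) (.leaf 11)))))) (.node (.node (.node (.node (.node (.node (.leaf 12) (.leaf 28)) (.leaf 5)) (.node (.node (.leaf 8) (.leaf 55)) (.leaf 82))) (.node (.node (.node (.leaf 25) (.leaf 82)) (.leaf 98)) (.node (.node (.leaf 52) (.leaf 18)) (.leaf 15)))) (.node (.node (.node (.node (.leaf 28) (.leaf 55)) (.leaf 92)) (.node (.node (.leaf 75) (.leaf 102)) (.leaf 58))) (.node (.node (.node (.leaf 82) (.leaf 58)) (.leaf 15)) (.node (.node (.leaf 48) (.leaf 65)) (.leaf 2))))) (.node (.node (.node (.node (.node (.leaf 80) (.leaf 77)) (.leaf 3)) (.node (.node (.leaf 77) (.leaf 33)) (.leaf 0))) (.node (.node (.node (.leaf 43) (.leaf 90)) (.leaf 77)) (.node (.node (.leaf 10) (.leaf 107)) (.leaf 103)))) (.node (.node (.node (.node (.leaf 17) (.leaf 63)) (.leaf 50)) (.node (.node (.leaf 103) (.leaf 0)) (.leaf 57))) (.node (.node (.node (.leaf 80) (.leaf 97)) (.leaf 83)) (.node (.leaf 67) (.leaf 50))))))))))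

def borelTab11 : Tree (ℕ) :=
  (.node (.node (.node (.node (.node (.node (.node (.node (.node (.node (.leaf 11) (.leaf 47)) (.leaf 24)) (.node (.node (.leaf 7) (.leaf 34)) (.leaf 60))) (.node (.node (.node (.leaf 24) (.leaf 30)) (.leaf 17)) (.node (.node (.leaf 21) (.leaf 87)) (.leaf 44)))) (.node (.node (.node (.node (.leaf 77) (.leaf 84)) (.leaf 20)) (.node (.node (.leaf 14) (.leaf 60)) (.leaf 17))) (.node (.node (.node (.leaf 11) (.leaf 17)) (.leaf 4)) (.node (.node (.leaf 97) (.leaf 64)) (.leaf 0))))) (.node (.node (.node (.node (.node (.leaf 59) (.leaf 5)) (.leaf 12)) (.node (.node (.leaf 26) (.leaf 42)) (.leaf 39))) (.node (.node (.node (.leaf 62) (.leaf 49)) (.leaf 15)) (.node (.node (.leaf 69) (.leaf 5)) (.leaf 42)))) (.node (.node (.node (.node (.leaf 6) (.leaf 92)) (.leaf 89)) (.node (.node (.leaf 62) (.leaf 9)) (.leaf 25))) (.node (.node (.node (.leaf 49) (.leaf 75)) (.leaf 92)) (.node (.node (.leaf 36) (.leaf 72)) (.leaf 49)))))) (.node (.node (.node (.node (.node (.node (.leaf 40) (.leaf 106)) (.leaf 73)) (.node (.node (.leaf 6) (.leaf 23)) (.leaf 10))) (.node (.node (.node (.leaf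 73) (.leaf 80)) (.leaf 56)) (.node (.node (.leaf 30) (.leaf 6)) (.leaf 93)))) (.node (.node (.node (.node (.leaf 16) (.leaf 13)) (.leaf 10)) (.node (.node (.leaf 53) (.leaf 90)) (.leaf 6))) (.node (.node (.node (.leaf 100) (.leaf 66)) (.leaf 33)) (.node (.node (.leaf 96) (.leaf 83)) (.leaf 70))))) (.node (.node (.node (.node (.node (.leaf 48) (.leaf 75)) (.leaf 21)) (.node (.node (.leaf 105) (.leaf 61)) (.leaf 78))) (.node (.node (.node (.leaf 41) (.leaf 38)) (.leaf 65)) (.node (.node (.leaf 28) (.leaf 4)) (.leaf 81)))) (.node (.node (.node (.node (.leaf 65) (.leaf 31)) (.leaf 108)) (.node (.node (.leaf 61) (.leaf 58)) (.leaf 5))) (.node (.node (.node (.leaf 108) (.leaf 95)) (.leaf 11)) (.node (.leaf 15) (.leaf 68))))))) (.node (.node (.node (.node (.node (.node (.node (.leaf 75) (.leaf 62)) (.leaf 78)) (.node (.node (.leaf 82) (.leaf 78)) (.leaf 65))) (.node (.node (.node (.leaf 58) (.leaf 5)) (.leaf 72)) (.node (.node (.leaf 95) (.leaf 102)) (.leaf 88)))) (.node (.node (.node (.node (.leaf 82) (.leaf 8)) (.leaf 65)) (.node (.node (.leaf 58) (.leaf 105)) (.leaf 102))) (.node (.node (.node (.leaf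 35) (.leaf 32)) (.leaf 18)) (.node (.node (.leaf 82) (.leaf 8)) (.leaf 15))))) (.node (.node (.node (.node (.node (.leaf 4) (.leaf 90)) (.leaf 67)) (.node (.node (.leaf 30) (.leaf 77)) (.leaf 103))) (.node (.node (.node (.leaf 27) (.leaf 33)) (.leaf 70)) (.node (.node (.leaf 23) (.leaf 60)) (.leaf 97)))) (.node (.node (.node (.node (.leaf 50) (.leaf 17)) (.leaf 53)) (.node (.node (.leaf 77) (.leaf 73)) (.leaf 20))) (.node (.node (.node (.leaf 33) (.leaf 60)) (.leaf 47)) (.node (.leaf 80) (.leaf 103)))))) (.node (.node (.node (.node (.node (.node (.leaf 74) (.leaf 11)) (.leaf 38)) (.node (.node (.leaf 71) (.leaf 47)) (.leaf 104))) (.node (.node (.node (.leaf 38) (.leaf 24)) (.leaf 51)) (.node (.node (.leaf 64) (.leaf 91)) (.leaf 68)))) (.node (.node (.node (.node (.leaf 11) (.leaf 77)) (.leaf 24)) (.node (.node (.leaf 18) (.leaf 14)) (.leaf 71))) (.node (.node (.node (.leaf 44) (.leaf 11)) (.leaf 58)) (.node (.node (.leaf 11) (.leaf 47)) (.leaf 104))))) (.node (.node (.node (.node (.node (.leaf 53) (.leaf 69)) (.leaf 16)) (.node (.node (.leaf 19) (.leaf 16)) (.leaf 63))) (.node (.node (.node (.leaf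 86) (.leaf 12)) (.leaf 19)) (.node (.node (.leaf 73) (.leaf 99)) (.leaf 26)))) (.node (.node (.node (.node (.leaf 59) (.leaf 106)) (.leaf 43)) (.node (.node (.leaf 86) (.leaf 82)) (.leaf 89))) (.node (.node (.node (.leaf 43) (.leaf 9)) (.leaf 16)) (.node (.leaf 99) (.leaf 102)))))))) (.node (.node (.node (.node (.node (.node (.node (.node (.leaf 43) (.leaf 89)) (.leaf 16)) (.node (.node (.leaf 10) (.leaf 56)) (.leaf 13))) (.node (.node (.node (.leaf 96) (.leaf 23)) (.leaf 69)) (.node (.node (.leaf 3) (.leaf 99)) (.leaf 6)))) (.node (.node (.node (.node (.leaf 0) (.leaf 46)) (.leaf 53)) (.node (.node (.leaf 36) (.leaf 13)) (.leaf 49))) (.node (.node (.node (.leaf 53) (.leaf 29)) (.leaf 66)) (.node (.node (.leaf 109) (.leaf 56)) (.leaf 93))))) (.node (.node (.node (.node (.node (.leaf 61) (.leaf 108)) (.leaf 84)) (.node (.node (.leaf 88) (.leaf 14)) (.leaf 11))) (.node (.node (.node (.leaf 15) (.leaf 91)) (.leaf 58)) (.node (.node (.leaf 101) (.leaf 98)) (.leaf 34)))) (.node (.node (.node (.node (.leaf 68) (.leaf 44)) (.leaf 11)) (.node (.node (.leaf 34) (.leaf 41)) (.leaf 8))) (.node (.node (.node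 (.leaf 91) (.leaf 8)) (.leaf 84)) (.node (.node (.leaf 8) (.leaf 34)) (.leaf 51)))))) (.node (.node (.node (.node (.node (.node (.leaf 12) (.leaf 79)) (.leaf 55)) (.node (.node (.leaf 39) (.leaf 5)) (.leaf 2))) (.node (.node (.node (.leaf 105) (.leaf 52)) (.leaf 79)) (.node (.node (.leaf 102) (.leaf 28)) (.leaf 35)))) (.node (.node (.node (.node (.leaf 79) (.leaf 45)) (.leaf 32)) (.node (.node (.leaf 35) (.leaf 52)) (.leaf 69))) (.node (.node (.node (.leaf 72) (.leaf 28)) (.leaf 45)) (.node (.node (.leaf 89) (.leaf 65)) (.leaf 42))))) (.node (.node (.node (.node (.node (.leaf 60) (.leaf 57)) (.leaf 64)) (.node (.node (.leaf 7) (.leaf 3)) (.leaf 90))) (.node (.node (.node (.leaf 64) (.leaf 20)) (.leaf 97)) (.node (.node (.leaf 80) (.leaf 47)) (.leaf 64)))) (.node (.node (.node (.node (.leaf 47) (.leaf 84)) (.leaf 70)) (.node (.node (.leaf 94) (.leaf 0)) (.leaf 47))) (.node (.node (.node (.leaf 90) (.leaf 107)) (.leaf 54)) (.node (.leaf 47) (.leaf 80))))))) (.node (.node (.node (.node (.node (.node (.node (.leaf 107) (.leaf 34)) (.leaf 91)) (.node (.node (.leaf 44) (.leaf 91)) (.leaf 97))) (.node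 (.node (.node (.leaf 41) (.leaf 47)) (.leaf 64)) (.node (.node (.leaf 77) (.leaf 94)) (.leaf 41)))) (.node (.node (.node (.node (.leaf 54) (.leaf 91)) (.leaf 77)) (.node (.node (.leaf 11) (.leaf 87)) (.leaf 54))) (.node (.node (.node (.leaf 77) (.leaf 104)) (.leaf 91)) (.node (.node (.leaf 74) (.leaf 101)) (.leaf 47))))) (.node (.node (.node (.node (.node (.leaf 26) (.leaf 82)) (.leaf 99)) (.node (.node (.leaf 2) (.leaf 19)) (.leaf 6))) (.node (.node (.node (.leaf 39) (.leaf 86)) (.leaf 32)) (.node (.node (.leaf 76) (.leaf 32)) (.leaf 109)))) (.node (.node (.node (.node (.leaf 42) (.leaf 29)) (.leaf 26)) (.node (.node (.leaf 19) (.leaf 106)) (.leaf 42))) (.node (.node (.node (.leaf 46) (.leaf 32)) (.leaf 89)) (.node (.leaf 52) (.leaf 46)))))) (.node (.node (.node (.node (.node (.node (.leaf 47) (.leaf 63)) (.leaf 50)) (.node (.node (.leaf 103) (.leaf 70)) (.leaf 96))) (.node (.node (.node (.leaf 90) (.leaf 96)) (.leaf 33)) (.node (.node (.leaf 37) (.leaf 23)) (.leaf 50)))) (.node (.node (.node (.node (.leaf 63) (.leaf 10)) (.leaf 47)) (.node (.node (.leaf 90) (.leaf 86)) (.leaf 13))) (.node (.node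 (.node (.leaf 107) (.leaf 43)) (.leaf 70)) (.node (.node (.leaf 53) (.leaf 0)) (.leaf 56))))) (.node (.node (.node (.node (.node (.leaf 35) (.leaf 41)) (.leaf 78)) (.node (.node (.leaf 22) (.leaf 78)) (.leaf 95))) (.node (.node (.node (.leaf 108) (.leaf 35)) (.leaf 52)) (.node (.node (.leaf 85) (.leaf 31)) (.leaf 98)))) (.node (.node (.node (.node (.leaf 62) (.leaf 18)) (.leaf 95)) (.node (.node (.leaf 38) (.leaf 75)) (.leaf 11))) (.node (.node (.node (.leaf 25) (.leaf 11)) (.leaf 98)) (.node (.leaf 32) (.leaf 5))))))))) (.node (.node (.node (.node (.node (.node (.node (.node (.node (.leaf 27) (.leaf 93)) (.leaf 50)) (.node (.node (.leaf 63) (.leaf 0)) (.leaf 37))) (.node (.node (.node (.leaf 30) (.leaf 87)) (.leaf 103)) (.node (.node (.leaf 57) (.leaf 53)) (.leaf 20)))) (.node (.node (.node (.node (.leaf 13) (.leaf 90)) (.leaf 87)) (.node (.node (.leaf 90) (.leaf 26)) (.leaf 33))) (.node (.node (.node (.leaf 7) (.leaf 73)) (.leaf 20)) (.node (.node (.leaf 63) (.leaf 90)) (.leaf 77))))) (.node (.node (.node (.node (.node (.leaf 25) (.leaf 72)) (.leaf 78)) (.node (.node (.leaf 62) (.leaf 28))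 (.leaf 65))) (.node (.node (.node (.leaf 88) (.leaf 25)) (.leaf 102)) (.node (.node (.leaf 85) (.leaf 51)) (.leaf 78)))) (.node (.node (.node (.node (.leaf 32) (.leaf 8)) (.leaf 75)) (.node (.node (.leaf 48) (.leaf 25)) (.leaf 62))) (.node (.node (.node (.leaf 25) (.leaf 92)) (.leaf 38)) (.node (.node (.leaf 22) (.leaf 28)) (.leaf 15)))))) (.node (.node (.node (.node (.node (.node (.leaf 86) (.leaf 92)) (.leaf 29)) (.node (.node (.leaf 23) (.leaf 19)) (.leaf 86))) (.node (.node (.node (.leaf 89) (.leaf 66)) (.leaf 82)) (.node (.node (.leaf 96) (.leaf 82)) (.leaf 59)))) (.node (.node (.node (.node (.leaf 3) (.leaf 29)) (.leaf 66)) (.node (.node (.leaf 49) (.leaf 46)) (.leaf 42))) (.node (.node (.node (.leaf 86) (.leaf 72)) (.leaf 79)) (.node (.node (.leaf 62) (.leaf 39)) (.leaf 6))))) (.node (.node (.node (.node (.node (.leaf 94) (.leaf 21)) (.leaf 37)) (.node (.node (.leaf 31) (.leaf 27)) (.leaf 84))) (.node (.node (.node (.leaf 18) (.leaf 104)) (.leaf 81)) (.node (.node (.leaf 64) (.leaf 81)) (.leaf 7)))) (.node (.node (.node (.node (.leaf 11) (.leaf 7)) (.leaf 94)) (.node (.node (.leaf 28)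 (.leaf 94)) (.leaf 51))) (.node (.node (.node (.leaf 64) (.leaf 21)) (.leaf 7)) (.node (.leaf 81) (.leaf 4))))))) (.node (.node (.node (.node (.node (.node (.node (.leaf 91) (.leaf 48)) (.leaf 35)) (.node (.node (.leaf 38) (.leaf 14)) (.leaf 21))) (.node (.node (.node (.leaf 25) (.leaf 51)) (.leaf 108)) (.node (.node (.leaf 41) (.leaf 48)) (.leaf 74)))) (.node (.node (.node (.node (.leaf 68) (.leaf 14)) (.leaf 101)) (.node (.node (.leaf 75) (.leaf 51)) (.leaf 18))) (.node (.node (.node (.leaf 81) (.leaf 98)) (.leaf 55)) (.node (.node (.leaf 28) (.leaf 74)) (.leaf 31))))) (.node (.node (.node (.node (.node (.leaf 80) (.leaf 56)) (.leaf 83)) (.node (.node (.leaf 76) (.leaf 53)) (.leaf 50))) (.node (.node (.node (.leaf 103) (.leaf 109)) (.leaf 26)) (.node (.node (.leaf 30) (.leaf 46)) (.leaf 43)))) (.node (.node (.node (.node (.leaf 16) (.leaf 93)) (.leaf 40)) (.node (.node (.leaf 53) (.leaf 89)) (.leaf 76))) (.node (.node (.node (.leaf 80) (.leaf 106)) (.leaf 93)) (.node (.leaf 66) (.leaf 39)))))) (.node (.node (.node (.node (.node (.node (.leaf 90) (.leaf 87)) (.leaf 44)) (.node (.node (.leaf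 87) (.leaf 94)) (.leaf 20))) (.node (.node (.node (.leaf 74) (.leaf 0)) (.leaf 87)) (.node (.node (.leaf 70) (.leaf 87)) (.leaf 24)))) (.node (.node (.node (.node (.leaf 87) (.leaf 104)) (.leaf 100)) (.node (.node (.leaf 4) (.leaf 20)) (.leaf 47))) (.node (.node (.node (.leaf 20) (.leaf 27)) (.leaf 104)) (.node (.node (.leaf 7) (.leaf 104)) (.leaf 10))))) (.node (.node (.node (.node (.node (.leaf 49) (.leaf 95)) (.leaf 52)) (.node (.node (.leaf 95) (.leaf 42)) (.leaf 79))) (.node (.node (.node (.leaf 52) (.leaf 9)) (.leaf 35)) (.node (.node (.leaf 9) (.leaf 75)) (.leaf 32)))) (.node (.node (.node (.node (.leaf 85) (.leaf 72)) (.leaf 9)) (.node (.node (.leaf 2) (.leaf 109)) (.leaf 75))) (.node (.node (.node (.leaf 109) (.leaf 85)) (.leaf 2)) (.node (.leaf 75) (.leaf 19)))))))) (.node (.node (.node (.node (.node (.node (.node (.node (.leaf 59) (.leaf 76)) (.leaf 42)) (.node (.node (.leaf 76) (.leaf 22)) (.leaf 89))) (.node (.node (.node (.leaf 102) (.leaf 19)) (.leaf 46)) (.node (.node (.leaf 69) (.leaf 65)) (.leaf 102)))) (.node (.node (.node (.node (.leaf 96) (.leaf 52)) (.leaf 99)) (.node (.node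 (.leaf 2) (.leaf 79)) (.leaf 66))) (.node (.node (.node (.leaf 49) (.leaf 55)) (.leaf 102)) (.node (.node (.leaf 6) (.leaf 82)) (.leaf 109))))) (.node (.node (.node (.node (.node (.leaf 37) (.leaf 64)) (.leaf 51)) (.node (.node (.leaf 14) (.leaf 100)) (.leaf 47))) (.node (.node (.node (.leaf 51) (.leaf 57)) (.leaf 64)) (.node (.node (.leaf 7) (.leaf 84)) (.leaf 61)))) (.node (.node (.node (.node (.leaf 24) (.leaf 60)) (.leaf 7)) (.node (.node (.leaf 1) (.leaf 57)) (.leaf 54))) (.node (.node (.node (.leaf 57) (.leaf 44)) (.leaf 51)) (.node (.node (.leaf 104) (.leaf 40)) (.leaf 27)))))) (.node (.node (.node (.node (.node (.node (.leaf 38) (.leaf 55)) (.leaf 1)) (.node (.node (.leaf 55) (.leaf 51)) (.leaf 38))) (.node (.node (.node (.leaf 12) (.leaf 38)) (.leaf 105)) (.node (.node (.leaf 58) (.leaf 45)) (.leaf 101)))) (.node (.node (.node (.node (.leaf 55) (.leaf 61)) (.leaf 88)) (.node (.node (.leaf 81) (.leaf 8)) (.leaf 35))) (.node (.node (.node (.leaf 58) (.leaf 105)) (.leaf 81)) (.node (.node (.leaf 75) (.leaf 11)) (.leaf 68))))) (.node (.node (.node (.node (.node (.leaf 7) (.leaf 3)) (.leaf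 80)) (.node (.node (.leaf 83) (.leaf 50)) (.leaf 46))) (.node (.node (.node (.leaf 30) (.leaf 96)) (.leaf 3)) (.node (.node (.leaf 16) (.leaf 23)) (.leaf 70)))) (.node (.node (.node (.node (.leaf 103) (.leaf 50)) (.leaf 56)) (.node (.node (.leaf 10) (.leaf 46)) (.leaf 93))) (.node (.node (.node (.leaf 56) (.leaf 73)) (.leaf 30)) (.node (.leaf 23) (.leaf 26))))))) (.node (.node (.node (.node (.node (.node (.node (.leaf 24) (.leaf 10)) (.leaf 17)) (.node (.node (.leaf 50) (.leaf 87)) (.leaf 73))) (.node (.node (.node (.leaf 57) (.leaf 93)) (.leaf 90)) (.node (.node (.leaf 24) (.leaf 60)) (.leaf 7)))) (.node (.node (.node (.node (.leaf 30) (.leaf 107)) (.leaf 44)) (.node (.node (.leaf 7) (.leaf 33)) (.leaf 70))) (.node (.node (.node (.leaf 14) (.leaf 0)) (.leaf 67)) (.node (.node (.leaf 40) (.leaf 27)) (.leaf 63))))) (.node (.node (.node (.node (.node (.leaf 102) (.leaf 8)) (.leaf 5)) (.node (.node (.leaf 29) (.leaf 105)) (.leaf 12))) (.node (.node (.node (.leaf 5) (.leaf 2)) (.leaf 98)) (.node (.node (.leaf 2) (.leaf 18)) (.leaf 25)))) (.node (.node (.node (.node (.leaf 39) (.leaf 105)) (.leaf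 12)) (.node (.node (.leaf 105) (.leaf 32)) (.leaf 98))) (.node (.node (.node (.leaf 72) (.leaf 58)) (.leaf 75)) (.node (.leaf 39) (.leaf 12)))))) (.node (.node (.node (.node (.node (.node (.leaf 13) (.leaf 29)) (.leaf 6)) (.node (.node (.leaf 9) (.leaf 56)) (.leaf 83))) (.node (.node (.node (.leaf 26) (.leaf 83)) (.leaf 99)) (.node (.node (.leaf 53) (.leaf 19)) (.leaf 16)))) (.node (.node (.node (.node (.leaf 29) (.leaf 56)) (.leaf 93)) (.node (.node (.leaf 76) (.leaf 103)) (.leaf 59))) (.node (.node (.node (.leaf 83) (.leaf 59)) (.leaf 16)) (.node (.node (.leaf 49) (.leaf 66)) (.leaf 3))))) (.node (.node (.node (.node (.node (.leaf 81) (.leaf 78)) (.leaf 4)) (.node (.node (.leaf 78) (.leaf 34)) (.leaf 1))) (.node (.node (.node (.leaf 44) (.leaf 91)) (.leaf 78)) (.node (.node (.leaf 11) (.leaf 108)) (.leaf 104)))) (.node (.node (.node (.node (.leaf 18) (.leaf 64)) (.leaf 51)) (.node (.node (.leaf 104) (.leaf 1)) (.leaf 58))) (.node (.node (.node (.leaf 81) (.leaf 98)) (.leaf 84)) (.node (.leaf 68) (.leaf 51))))))))))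

def borelTab12 : Tree (ℕ) :=
  (.node (.node (.node (.node (.node (.node (.node (.node (.node (.node (.leaf 12) (.leaf 48)) (.leaf 25)) (.node (.node (.leaf 38) (.leaf 35)) (.leaf 61))) (.node (.node (.node (.leaf 25) (.leaf 31)) (.leaf 18)) (.node (.node (.leaf 22) (.leaf 88)) (.leaf 35)))) (.node (.node (.node (.node (.leaf 78) (.leaf 85)) (.leaf 42)) (.node (.node (.leaf 15) (.leaf 61)) (.leaf 18))) (.node (.node (.node (.leaf 12) (.leaf 48)) (.leaf 5)) (.node (.node (.leaf 98) (.leaf 65)) (.leaf 1))))) (.node (.node (.node (.node (.node (.leaf 50) (.leaf 96)) (.leaf 13)) (.node (.node (.leaf 27) (.leaf 43)) (.leaf 30))) (.node (.node (.node (.leaf 63) (.leaf 40)) (.leaf 16)) (.node (.node (.leaf 70) (.leaf 6)) (.leaf 43)))) (.node (.node (.node (.node (.leaf 77) (.leaf 93)) (.leaf 80)) (.node (.node (.leaf 63) (.leaf 10)) (.leaf 26))) (.node (.node (.node (.leaf 40) (.leaf 76)) (.leaf 63)) (.node (.node (.leaf 37) (.leaf 73)) (.leaf 40)))))) (.node (.node (.node (.node (.node (.node (.leaf 61) (.leaf 107)) (.leaf 74)) (.node (.node (.leaf 7) (.leaf 74)) (.leaf 11))) (.node (.node (.node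 (.leaf 74) (.leaf 81)) (.leaf 17)) (.node (.node (.leaf 31) (.leaf 7)) (.leaf 94)))) (.node (.node (.node (.node (.leaf 17) (.leaf 14)) (.leaf 11)) (.node (.node (.leaf 104) (.leaf 91)) (.leaf 7))) (.node (.node (.node (.leaf 101) (.leaf 67)) (.leaf 34)) (.node (.node (.leaf 97) (.leaf 84)) (.leaf 91))))) (.node (.node (.node (.node (.node (.leaf 49) (.leaf 76)) (.leaf 22)) (.node (.node (.leaf 106) (.leaf 62)) (.leaf 29))) (.node (.node (.node (.leaf 82) (.leaf 39)) (.leaf 66)) (.node (.node (.leaf 29) (.leaf 106)) (.leaf 82)))) (.node (.node (.node (.node (.leaf 66) (.leaf 72)) (.leaf 109)) (.node (.node (.leaf 62) (.leaf 59)) (.leaf 6))) (.node (.node (.node (.leaf 109) (.leaf 96)) (.leaf 12)) (.node (.leaf 106) (.leaf 69))))))) (.node (.node (.node (.node (.node (.node (.node (.leaf 76) (.leaf 63)) (.leaf 79)) (.node (.node (.leaf 83) (.leaf 79)) (.leaf 46))) (.node (.node (.node (.leaf 10) (.leaf 6)) (.leaf 73)) (.node (.node (.leaf 96) (.leaf 73)) (.leaf 89)))) (.node (.node (.node (.node (.leaf 83) (.leaf 69)) (.leaf 66)) (.node (.node (.leaf 59) (.leaf 106)) (.leaf 103))) (.node (.node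 (.node (.leaf 36) (.leaf 33)) (.leaf 19)) (.node (.node (.leaf 53) (.leaf 9)) (.leaf 16))))) (.node (.node (.node (.node (.node (.leaf 5) (.leaf 91)) (.leaf 68)) (.node (.node (.leaf 51) (.leaf 78)) (.leaf 104))) (.node (.node (.node (.leaf 28) (.leaf 34)) (.leaf 71)) (.node (.node (.leaf 24) (.leaf 61)) (.leaf 18)))) (.node (.node (.node (.node (.leaf 51) (.leaf 18)) (.leaf 104)) (.node (.node (.leaf 78) (.leaf 74)) (.leaf 21))) (.node (.node (.node (.leaf 34) (.leaf 81)) (.leaf 48)) (.node (.leaf 81) (.leaf 104)))))) (.node (.node (.node (.node (.node (.node (.leaf 75) (.leaf 12)) (.leaf 99)) (.node (.node (.leaf 72) (.leaf 48)) (.leaf 105))) (.node (.node (.node (.leaf 39) (.leaf 15)) (.leaf 52)) (.node (.node (.leaf 65) (.leaf 92)) (.leaf 69)))) (.node (.node (.node (.node (.leaf 12) (.leaf 78)) (.leaf 25)) (.node (.node (.leaf 19) (.leaf 15)) (.leaf 2))) (.node (.node (.node (.leaf 35) (.leaf 12)) (.leaf 59)) (.node (.node (.leaf 12) (.leaf 78)) (.leaf 105))))) (.node (.node (.node (.node (.node (.leaf 104) (.leaf 60)) (.leaf 17)) (.node (.node (.leaf 10) (.leaf 87)) (.leaf 64))) (.node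 (.node (.node (.leaf 87) (.leaf 13)) (.leaf 20)) (.node (.node (.leaf 74) (.leaf 90)) (.leaf 27)))) (.node (.node (.node (.node (.leaf 50) (.leaf 107)) (.leaf 44)) (.node (.node (.leaf 47) (.leaf 83)) (.leaf 80))) (.node (.node (.node (.leaf 44) (.leaf 0)) (.leaf 17)) (.node (.leaf 90) (.leaf 74)))))))) (.node (.node (.node (.node (.node (.node (.node (.node (.leaf 44) (.leaf 80)) (.leaf 87)) (.node (.node (.leaf 11) (.leaf 57)) (.leaf 14))) (.node (.node (.node (.leaf 97) (.leaf 74)) (.leaf 60)) (.node (.node (.leaf 4) (.leaf 90)) (.leaf 7)))) (.node (.node (.node (.node (.leaf 1) (.leaf 47)) (.leaf 54)) (.node (.node (.leaf 37) (.leaf 14)) (.leaf 50))) (.node (.node (.node (.leaf 104) (.leaf 20)) (.leaf 67)) (.node (.node (.leaf 100) (.leaf 17)) (.leaf 94))))) (.node (.node (.node (.node (.node (.leaf 102) (.leaf 109)) (.leaf 85)) (.node (.node (.leaf 89) (.leaf 5)) (.leaf 12))) (.node (.node (.node (.leaf 16) (.leaf 92)) (.leaf 9)) (.node (.node (.leaf 102) (.leaf 99)) (.leaf 35)))) (.node (.node (.node (.node (.leaf 69) (.leaf 45)) (.leaf 12)) (.node (.node (.leaf 26) (.leaf 42)) (.leaf 9)))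 (.node (.node (.node (.leaf 92) (.leaf 9)) (.leaf 85)) (.node (.node (.leaf 9) (.leaf 35)) (.leaf 92)))))) (.node (.node (.node (.node (.node (.node (.leaf 13) (.leaf 70)) (.leaf 56)) (.node (.node (.leaf 40) (.leaf 6)) (.leaf 3))) (.node (.node (.node (.leaf 106) (.leaf 53)) (.leaf 70)) (.node (.node (.leaf 103) (.leaf 29)) (.leaf 16)))) (.node (.node (.node (.node (.leaf 70) (.leaf 46)) (.leaf 3)) (.node (.node (.leaf 36) (.leaf 53)) (.leaf 60))) (.node (.node (.node (.leaf 73) (.leaf 90)) (.leaf 46)) (.node (.node (.leaf 80) (.leaf 66)) (.leaf 43))))) (.node (.node (.node (.node (.node (.leaf 61) (.leaf 88)) (.leaf 65)) (.node (.node (.leaf 8) (.leaf 4)) (.leaf 91))) (.node (.node (.node (.leaf 65) (.leaf 21)) (.leaf 98)) (.node (.node (.leaf 101) (.leaf 48)) (.leaf 65)))) (.node (.node (.node (.node (.leaf 78) (.leaf 85)) (.leaf 71)) (.node (.node (.leaf 95) (.leaf 21)) (.leaf 48))) (.node (.node (.node (.leaf 91) (.leaf 108)) (.leaf 45)) (.node (.leaf 48) (.leaf 81))))))) (.node (.node (.node (.node (.node (.node (.node (.leaf 108) (.leaf 25)) (.leaf 92)) (.node (.node (.leaf 45) (.leaf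 92)) (.leaf 98))) (.node (.node (.node (.leaf 42) (.leaf 48)) (.leaf 65)) (.node (.node (.leaf 108) (.leaf 95)) (.leaf 42)))) (.node (.node (.node (.node (.leaf 45) (.leaf 92)) (.leaf 78)) (.node (.node (.leaf 12) (.leaf 8)) (.leaf 55))) (.node (.node (.node (.leaf 78) (.leaf 105)) (.leaf 22)) (.node (.node (.leaf 75) (.leaf 102)) (.leaf 48))))) (.node (.node (.node (.node (.node (.leaf 27) (.leaf 83)) (.leaf 100)) (.node (.node (.leaf 3) (.leaf 10)) (.leaf 7))) (.node (.node (.node (.leaf 30) (.leaf 47)) (.leaf 33)) (.node (.node (.leaf 77) (.leaf 33)) (.leaf 100)))) (.node (.node (.node (.node (.leaf 43) (.leaf 20)) (.leaf 27)) (.node (.node (.leaf 10) (.leaf 107)) (.leaf 13))) (.node (.node (.node (.leaf 7) (.leaf 33)) (.leaf 80)) (.node (.leaf 53) (.leaf 47)))))) (.node (.node (.node (.node (.node (.node (.leaf 48) (.leaf 64)) (.leaf 51)) (.node (.node (.leaf 104) (.leaf 71)) (.leaf 58))) (.node (.node (.node (.leaf 1) (.leaf 97)) (.leaf 34)) (.node (.node (.leaf 38) (.leaf 74)) (.leaf 51)))) (.node (.node (.node (.node (.leaf 64) (.leaf 31)) (.leaf 48)) (.node (.node (.leaf 91) (.leaf 87))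 (.leaf 14))) (.node (.node (.node (.leaf 108) (.leaf 44)) (.leaf 71)) (.node (.node (.leaf 104) (.leaf 1)) (.leaf 57))))) (.node (.node (.node (.node (.node (.leaf 36) (.leaf 42)) (.leaf 79)) (.node (.node (.leaf 103) (.leaf 79)) (.leaf 96))) (.node (.node (.node (.leaf 109) (.leaf 36)) (.leaf 53)) (.node (.node (.leaf 86) (.leaf 32)) (.leaf 49)))) (.node (.node (.node (.node (.leaf 63) (.leaf 19)) (.leaf 76)) (.node (.node (.leaf 39) (.leaf 76)) (.leaf 12))) (.node (.node (.node (.leaf 26) (.leaf 52)) (.leaf 99)) (.node (.leaf 33) (.leaf 6))))))))) (.node (.node (.node (.node (.node (.node (.node (.node (.node (.leaf 28) (.leaf 34)) (.leaf 51)) (.node (.node (.leaf 64) (.leaf 1)) (.leaf 38))) (.node (.node (.node (.leaf 31) (.leaf 88)) (.leaf 104)) (.node (.node (.leaf 88) (.leaf 54)) (.leaf 21)))) (.node (.node (.node (.node (.leaf 64) (.leaf 91)) (.leaf 88)) (.node (.node (.leaf 91) (.leaf 98)) (.leaf 34))) (.node (.node (.node (.leaf 8) (.leaf 74)) (.leaf 41)) (.node (.node (.leaf 64) (.leaf 91)) (.leaf 78))))) (.node (.node (.node (.node (.node (.leaf 26) (.leaf 73)) (.leaf 29)) (.node (.node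 (.leaf 63) (.leaf 29)) (.leaf 66))) (.node (.node (.node (.leaf 89) (.leaf 6)) (.leaf 103)) (.node (.node (.leaf 86) (.leaf 52)) (.leaf 79)))) (.node (.node (.node (.node (.leaf 33) (.leaf 9)) (.leaf 76)) (.node (.node (.leaf 49) (.leaf 26)) (.leaf 33))) (.node (.node (.node (.leaf 6) (.leaf 93)) (.leaf 39)) (.node (.node (.leaf 23) (.leaf 89)) (.leaf 16)))))) (.node (.node (.node (.node (.node (.node (.leaf 87) (.leaf 93)) (.leaf 20)) (.node (.node (.leaf 24) (.leaf 10)) (.leaf 47))) (.node (.node (.node (.leaf 90) (.leaf 67)) (.leaf 83)) (.node (.node (.leaf 97) (.leaf 53)) (.leaf 50)))) (.node (.node (.node (.node (.leaf 4) (.leaf 30)) (.leaf 67)) (.node (.node (.leaf 40) (.leaf 47)) (.leaf 43))) (.node (.node (.node (.leaf 87) (.leaf 73)) (.leaf 70)) (.node (.node (.leaf 34) (.leaf 30)) (.leaf 7))))) (.node (.node (.node (.node (.node (.leaf 95) (.leaf 22)) (.leaf 38)) (.node (.node (.leaf 72) (.leaf 28)) (.leaf 85))) (.node (.node (.node (.leaf 19) (.leaf 105)) (.leaf 82)) (.node (.node (.leaf 65) (.leaf 82)) (.leaf 38)))) (.node (.node (.node (.node (.leaf 12) (.leaf 8)) (.leaf 85)) (.node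 (.node (.leaf 29) (.leaf 95)) (.leaf 52))) (.node (.node (.node (.leaf 65) (.leaf 62)) (.leaf 8)) (.node (.leaf 82) (.leaf 5))))))) (.node (.node (.node (.node (.node (.node (.node (.leaf 92) (.leaf 49)) (.leaf 36)) (.node (.node (.leaf 99) (.leaf 15)) (.leaf 22))) (.node (.node (.node (.leaf 26) (.leaf 52)) (.leaf 109)) (.node (.node (.leaf 42) (.leaf 49)) (.leaf 66)))) (.node (.node (.node (.node (.leaf 69) (.leaf 15)) (.leaf 32)) (.node (.node (.leaf 76) (.leaf 52)) (.leaf 19))) (.node (.node (.node (.leaf 82) (.leaf 49)) (.leaf 56)) (.node (.node (.leaf 29) (.leaf 75)) (.leaf 32))))) (.node (.node (.node (.node (.node (.leaf 81) (.leaf 17)) (.leaf 84)) (.node (.node (.leaf 77) (.leaf 54)) (.leaf 51))) (.node (.node (.node (.leaf 104) (.leaf 100)) (.leaf 27)) (.node (.node (.leaf 51) (.leaf 47)) (.leaf 44)))) (.node (.node (.node (.node (.leaf 87) (.leaf 94)) (.leaf 41)) (.node (.node (.leaf 54) (.leaf 90)) (.leaf 77))) (.node (.node (.node (.leaf 81) (.leaf 107)) (.leaf 34)) (.node (.leaf 67) (.leaf 30)))))) (.node (.node (.node (.node (.node (.node (.leaf 2) (.leaf 88)) (.leaf 45)) (.node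 (.node (.leaf 88) (.leaf 85)) (.leaf 21))) (.node (.node (.node (.leaf 75) (.leaf 1)) (.leaf 8)) (.node (.node (.leaf 71) (.leaf 88)) (.leaf 25)))) (.node (.node (.node (.node (.leaf 88) (.leaf 105)) (.leaf 101)) (.node (.node (.leaf 105) (.leaf 21)) (.leaf 48))) (.node (.node (.node (.leaf 21) (.leaf 28)) (.leaf 105)) (.node (.node (.leaf 8) (.leaf 105)) (.leaf 31))))) (.node (.node (.node (.node (.node (.leaf 40) (.leaf 96)) (.leaf 53)) (.node (.node (.leaf 96) (.leaf 43)) (.leaf 80))) (.node (.node (.node (.leaf 23) (.leaf 0)) (.leaf 36)) (.node (.node (.leaf 0) (.leaf 56)) (.leaf 33)))) (.node (.node (.node (.node (.leaf 86) (.leaf 43)) (.leaf 0)) (.node (.node (.leaf 3) (.leaf 100)) (.leaf 76))) (.node (.node (.node (.leaf 100) (.leaf 86)) (.leaf 3)) (.node (.leaf 56) (.leaf 10)))))))) (.node (.node (.node (.node (.node (.node (.node (.node (.leaf 60) (.leaf 77)) (.leaf 43)) (.node (.node (.leaf 77) (.leaf 103)) (.leaf 80))) (.node (.node (.node (.leaf 103) (.leaf 10)) (.leaf 7)) (.node (.node (.leaf 60) (.leaf 66)) (.leaf 103)))) (.node (.node (.node (.node (.leaf 97) (.leaf 53)) (.leaf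 90)) (.node (.node (.leaf 83) (.leaf 70)) (.leaf 67))) (.node (.node (.node (.leaf 40) (.leaf 56)) (.leaf 103)) (.node (.node (.leaf 7) (.leaf 83)) (.leaf 0))))) (.node (.node (.node (.node (.node (.leaf 38) (.leaf 65)) (.leaf 52)) (.node (.node (.leaf 15) (.leaf 101)) (.leaf 78))) (.node (.node (.node (.leaf 92) (.leaf 58)) (.leaf 65)) (.node (.node (.leaf 8) (.leaf 75)) (.leaf 62)))) (.node (.node (.node (.node (.leaf 25) (.leaf 82)) (.leaf 8)) (.node (.node (.leaf 2) (.leaf 58)) (.leaf 55))) (.node (.node (.node (.leaf 58) (.leaf 45)) (.leaf 52)) (.node (.node (.leaf 95) (.leaf 41)) (.leaf 28)))))) (.node (.node (.node (.node (.node (.node (.leaf 39) (.leaf 36)) (.leaf 2)) (.node (.node (.leaf 56) (.leaf 52)) (.leaf 39))) (.node (.node (.node (.leaf 13) (.leaf 39)) (.leaf 106)) (.node (.node (.leaf 9) (.leaf 46)) (.leaf 102)))) (.node (.node (.node (.node (.leaf 36) (.leaf 62)) (.leaf 89)) (.node (.node (.leaf 82) (.leaf 69)) (.leaf 36))) (.node (.node (.node (.leaf 59) (.leaf 106)) (.leaf 12)) (.node (.node (.leaf 76) (.leaf 12)) (.leaf 69))))) (.node (.node (.node (.node (.node (.leaf 8)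 (.leaf 4)) (.leaf 101)) (.node (.node (.leaf 84) (.leaf 51)) (.leaf 47))) (.node (.node (.node (.leaf 31) (.leaf 57)) (.leaf 4)) (.node (.node (.leaf 17) (.leaf 24)) (.leaf 71)))) (.node (.node (.node (.node (.leaf 104) (.leaf 51)) (.leaf 57)) (.node (.node (.leaf 11) (.leaf 47)) (.leaf 34))) (.node (.node (.node (.leaf 18) (.leaf 74)) (.leaf 31)) (.node (.leaf 24) (.leaf 27))))))) (.node (.node (.node (.node (.node (.node (.node (.leaf 25) (.leaf 11)) (.leaf 48)) (.node (.node (.leaf 51) (.leaf 88)) (.leaf 74))) (.node (.node (.node (.leaf 58) (.leaf 34)) (.leaf 91)) (.node (.node (.leaf 25) (.leaf 61)) (.leaf 8)))) (.node (.node (.node (.node (.leaf 31) (.leaf 108)) (.leaf 45)) (.node (.node (.leaf 8) (.leaf 34)) (.leaf 91))) (.node (.node (.node (.leaf 5) (.leaf 1)) (.leaf 68)) (.node (.node (.leaf 41) (.leaf 58)) (.leaf 64))))) (.node (.node (.node (.node (.node (.leaf 73) (.leaf 9)) (.leaf 6)) (.node (.node (.leaf 20) (.leaf 86)) (.leaf 13))) (.node (.node (.node (.leaf 6) (.leaf 3)) (.leaf 50)) (.node (.node (.leaf 3) (.leaf 19)) (.leaf 26)))) (.node (.node (.node (.node (.leaf 30) (.leaf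 106)) (.leaf 13)) (.node (.node (.leaf 86) (.leaf 33)) (.leaf 99))) (.node (.node (.node (.leaf 73) (.leaf 59)) (.leaf 76)) (.node (.leaf 30) (.leaf 93)))))) (.node (.node (.node (.node (.node (.node (.leaf 14) (.leaf 20)) (.leaf 7)) (.node (.node (.leaf 10) (.leaf 57)) (.leaf 84))) (.node (.node (.node (.leaf 27) (.leaf 84)) (.leaf 90)) (.node (.node (.leaf 54) (.leaf 10)) (.leaf 87)))) (.node (.node (.node (.node (.leaf 20) (.leaf 57)) (.leaf 34)) (.node (.node (.leaf 77) (.leaf 104)) (.leaf 50))) (.node (.node (.node (.leaf 84) (.leaf 60)) (.leaf 17)) (.node (.node (.leaf 40) (.leaf 67)) (.leaf 4))))) (.node (.node (.node (.node (.node (.leaf 82) (.leaf 29)) (.leaf 5)) (.node (.node (.leaf 79) (.leaf 35)) (.leaf 2))) (.node (.node (.node (.leaf 45) (.leaf 92)) (.leaf 79)) (.node (.node (.leaf 52) (.leaf 109)) (.leaf 105)))) (.node (.node (.node (.node (.leaf 79) (.leaf 65)) (.leaf 52)) (.node (.node (.leaf 105) (.leaf 42)) (.leaf 59))) (.node (.node (.node (.leaf 82) (.leaf 99)) (.leaf 75)) (.node (.leaf 69) (.leaf 52))))))))))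

def borelTab13 : Tree (ℕ) :=
  (.node (.node (.node (.node (.node (.node (.node (.node (.node (.node (.leaf 13) (.leaf 49)) (.leaf 26)) (.node (.node (.leaf 39) (.leaf 36)) (.leaf 62))) (.node (.node (.node (.leaf 26) (.leaf 32)) (.leaf 19)) (.node (.node (.leaf 23) (.leaf 89)) (.leaf 36)))) (.node (.node (.node (.node (.leaf 79) (.leaf 86)) (.leaf 43)) (.node (.node (.leaf 16) (.leaf 62)) (.leaf 19))) (.node (.node (.node (.leaf 13) (.leaf 49)) (.leaf 6)) (.node (.node (.leaf 99) (.leaf 66)) (.leaf 2))))) (.node (.node (.node (.node (.node (.leaf 51) (.leaf 97)) (.leaf 14)) (.node (.node (.leaf 28) (.leaf 44)) (.leaf 31))) (.node (.node (.node (.leaf 64) (.leaf 41)) (.leaf 17)) (.node (.node (.leaf 71) (.leaf 7)) (.leaf 44)))) (.node (.node (.node (.node (.leaf 78) (.leaf 94)) (.leaf 81)) (.node (.node (.leaf 64) (.leaf 11)) (.leaf 27))) (.node (.node (.node (.leaf 41) (.leaf 77)) (.leaf 64)) (.node (.node (.leaf 38) (.leaf 74)) (.leaf 41)))))) (.node (.node (.node (.node (.node (.node (.leaf 62) (.leaf 108)) (.leaf 75)) (.node (.node (.leaf 8) (.leaf 75)) (.leaf 12))) (.node (.node (.node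 (.leaf 75) (.leaf 82)) (.leaf 18)) (.node (.node (.leaf 32) (.leaf 8)) (.leaf 95)))) (.node (.node (.node (.node (.leaf 18) (.leaf 15)) (.leaf 12)) (.node (.node (.leaf 105) (.leaf 92)) (.leaf 8))) (.node (.node (.node (.leaf 102) (.leaf 68)) (.leaf 35)) (.node (.node (.leaf 98) (.leaf 85)) (.leaf 92))))) (.node (.node (.node (.node (.node (.leaf 40) (.leaf 77)) (.leaf 23)) (.node (.node (.leaf 107) (.leaf 63)) (.leaf 20))) (.node (.node (.node (.leaf 83) (.leaf 30)) (.leaf 67)) (.node (.node (.leaf 20) (.leaf 107)) (.leaf 83)))) (.node (.node (.node (.node (.leaf 67) (.leaf 73)) (.leaf 100)) (.node (.node (.leaf 63) (.leaf 50)) (.leaf 7))) (.node (.node (.node (.leaf 100) (.leaf 97)) (.leaf 13)) (.node (.leaf 107) (.leaf 60))))))) (.node (.node (.node (.node (.node (.node (.node (.leaf 77) (.leaf 64)) (.leaf 70)) (.node (.node (.leaf 84) (.leaf 70)) (.leaf 47))) (.node (.node (.node (.leaf 11) (.leaf 7)) (.leaf 74)) (.node (.node (.leaf 97) (.leaf 74)) (.leaf 80)))) (.node (.node (.node (.node (.leaf 84) (.leaf 60)) (.leaf 67)) (.node (.node (.leaf 50) (.leaf 107)) (.leaf 104))) (.node (.node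 (.node (.leaf 37) (.leaf 34)) (.leaf 10)) (.node (.node (.leaf 54) (.leaf 0)) (.leaf 17))))) (.node (.node (.node (.node (.node (.leaf 6) (.leaf 92)) (.leaf 69)) (.node (.node (.leaf 52) (.leaf 79)) (.leaf 105))) (.node (.node (.node (.leaf 29) (.leaf 35)) (.leaf 72)) (.node (.node (.leaf 25) (.leaf 62)) (.leaf 19)))) (.node (.node (.node (.node (.leaf 52) (.leaf 19)) (.leaf 105)) (.node (.node (.leaf 79) (.leaf 75)) (.leaf 22))) (.node (.node (.node (.leaf 35) (.leaf 82)) (.leaf 49)) (.node (.leaf 82) (.leaf 105)))))) (.node (.node (.node (.node (.node (.node (.leaf 76) (.leaf 13)) (.leaf 90)) (.node (.node (.leaf 73) (.leaf 49)) (.leaf 106))) (.node (.node (.node (.leaf 30) (.leaf 16)) (.leaf 53)) (.node (.node (.leaf 66) (.leaf 93)) (.leaf 60)))) (.node (.node (.node (.node (.leaf 13) (.leaf 79)) (.leaf 26)) (.node (.node (.leaf 10) (.leaf 16)) (.leaf 3))) (.node (.node (.node (.leaf 36) (.leaf 13)) (.leaf 50)) (.node (.node (.leaf 13) (.leaf 79)) (.leaf 106))))) (.node (.node (.node (.node (.node (.leaf 105) (.leaf 61)) (.leaf 18)) (.node (.node (.leaf 11) (.leaf 88)) (.leaf 65))) (.node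 (.node (.node (.leaf 88) (.leaf 14)) (.leaf 21)) (.node (.node (.leaf 75) (.leaf 91)) (.leaf 28)))) (.node (.node (.node (.node (.leaf 51) (.leaf 108)) (.leaf 45)) (.node (.node (.leaf 48) (.leaf 84)) (.leaf 81))) (.node (.node (.node (.leaf 45) (.leaf 1)) (.leaf 18)) (.node (.leaf 91) (.leaf 75)))))))) (.node (.node (.node (.node (.node (.node (.node (.node (.leaf 45) (.leaf 81)) (.leaf 88)) (.node (.node (.leaf 12) (.leaf 58)) (.leaf 15))) (.node (.node (.node (.leaf 98) (.leaf 75)) (.leaf 61)) (.node (.node (.leaf 5) (.leaf 91)) (.leaf 8)))) (.node (.node (.node (.node (.leaf 2) (.leaf 48)) (.leaf 55)) (.node (.node (.leaf 38) (.leaf 15)) (.leaf 51))) (.node (.node (.node (.leaf 105) (.leaf 21)) (.leaf 68)) (.node (.node (.leaf 101) (.leaf 18)) (.leaf 95))))) (.node (.node (.node (.node (.node (.leaf 103) (.leaf 100)) (.leaf 86)) (.node (.node (.leaf 80) (.leaf 6)) (.leaf 13))) (.node (.node (.node (.leaf 17) (.leaf 93)) (.leaf 0)) (.node (.node (.leaf 103) (.leaf 90)) (.leaf 36)))) (.node (.node (.node (.node (.leaf 60) (.leaf 46)) (.leaf 13)) (.node (.node (.leaf 27) (.leaf 43)) (.leaf 0)))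 (.node (.node (.node (.leaf 93) (.leaf 0)) (.leaf 86)) (.node (.node (.leaf 0) (.leaf 36)) (.leaf 93)))))) (.node (.node (.node (.node (.node (.node (.leaf 14) (.leaf 71)) (.leaf 57)) (.node (.node (.leaf 41) (.leaf 7)) (.leaf 4))) (.node (.node (.node (.leaf 107) (.leaf 54)) (.leaf 71)) (.node (.node (.leaf 104) (.leaf 20)) (.leaf 17)))) (.node (.node (.node (.node (.leaf 71) (.leaf 47)) (.leaf 4)) (.node (.node (.leaf 37) (.leaf 54)) (.leaf 61))) (.node (.node (.node (.leaf 74) (.leaf 91)) (.leaf 47)) (.node (.node (.leaf 81) (.leaf 67)) (.leaf 44))))) (.node (.node (.node (.node (.node (.leaf 62) (.leaf 89)) (.leaf 66)) (.node (.node (.leaf 9) (.leaf 5)) (.leaf 92))) (.node (.node (.node (.leaf 66) (.leaf 22)) (.leaf 99)) (.node (.node (.leaf 102) (.leaf 49)) (.leaf 66)))) (.node (.node (.node (.node (.leaf 79) (.leaf 86)) (.leaf 72)) (.node (.node (.leaf 96) (.leaf 22)) (.leaf 49))) (.node (.node (.node (.leaf 92) (.leaf 109)) (.leaf 46)) (.node (.leaf 49) (.leaf 82))))))) (.node (.node (.node (.node (.node (.node (.node (.leaf 109) (.leaf 26)) (.leaf 93)) (.node (.node (.leaf 46) (.leaf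 93)) (.leaf 99))) (.node (.node (.node (.leaf 43) (.leaf 49)) (.leaf 66)) (.node (.node (.leaf 109) (.leaf 96)) (.leaf 43)))) (.node (.node (.node (.node (.leaf 46) (.leaf 93)) (.leaf 79)) (.node (.node (.leaf 13) (.leaf 9)) (.leaf 56))) (.node (.node (.node (.leaf 79) (.leaf 106)) (.leaf 23)) (.node (.node (.leaf 76) (.leaf 103)) (.leaf 49))))) (.node (.node (.node (.node (.node (.leaf 28) (.leaf 84)) (.leaf 101)) (.node (.node (.leaf 4) (.leaf 11)) (.leaf 8))) (.node (.node (.node (.leaf 31) (.leaf 48)) (.leaf 34)) (.node (.node (.leaf 78) (.leaf 34)) (.leaf 101)))) (.node (.node (.node (.node (.leaf 44) (.leaf 21)) (.leaf 28)) (.node (.node (.leaf 11) (.leaf 108)) (.leaf 14))) (.node (.node (.node (.leaf 8) (.leaf 34)) (.leaf 81)) (.node (.leaf 54) (.leaf 48)))))) (.node (.node (.node (.node (.node (.node (.leaf 49) (.leaf 65)) (.leaf 52)) (.node (.node (.leaf 105) (.leaf 72)) (.leaf 59))) (.node (.node (.node (.leaf 2) (.leaf 98)) (.leaf 35)) (.node (.node (.leaf 39) (.leaf 75)) (.leaf 52)))) (.node (.node (.node (.node (.leaf 65) (.leaf 32)) (.leaf 49)) (.node (.node (.leaf 92) (.leaf 88))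 (.leaf 15))) (.node (.node (.node (.leaf 109) (.leaf 45)) (.leaf 72)) (.node (.node (.leaf 105) (.leaf 2)) (.leaf 58))))) (.node (.node (.node (.node (.node (.leaf 37) (.leaf 43)) (.leaf 70)) (.node (.node (.leaf 104) (.leaf 70)) (.leaf 97))) (.node (.node (.node (.leaf 100) (.leaf 37)) (.leaf 54)) (.node (.node (.leaf 87) (.leaf 33)) (.leaf 40)))) (.node (.node (.node (.node (.leaf 64) (.leaf 10)) (.leaf 77)) (.node (.node (.leaf 30) (.leaf 77)) (.leaf 13))) (.node (.node (.node (.leaf 27) (.leaf 53)) (.leaf 90)) (.node (.leaf 34) (.leaf 7))))))))) (.node (.node (.node (.node (.node (.node (.node (.node (.node (.leaf 29) (.leaf 35)) (.leaf 52)) (.node (.node (.leaf 65) (.leaf 2)) (.leaf 39))) (.node (.node (.node (.leaf 32) (.leaf 89)) (.leaf 105)) (.node (.node (.leaf 89) (.leaf 55)) (.leaf 22)))) (.node (.node (.node (.node (.leaf 65) (.leaf 92)) (.leaf 89)) (.node (.node (.leaf 92) (.leaf 99)) (.leaf 35))) (.node (.node (.node (.leaf 9) (.leaf 75)) (.leaf 42)) (.node (.node (.leaf 65) (.leaf 92)) (.leaf 79))))) (.node (.node (.node (.node (.node (.leaf 27) (.leaf 74)) (.leaf 20)) (.node (.node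 (.leaf 64) (.leaf 20)) (.leaf 67))) (.node (.node (.node (.leaf 80) (.leaf 7)) (.leaf 104)) (.node (.node (.leaf 87) (.leaf 53)) (.leaf 70)))) (.node (.node (.node (.node (.leaf 34) (.leaf 0)) (.leaf 77)) (.node (.node (.leaf 40) (.leaf 27)) (.leaf 34))) (.node (.node (.node (.leaf 7) (.leaf 94)) (.leaf 30)) (.node (.node (.leaf 24) (.leaf 80)) (.leaf 17)))))) (.node (.node (.node (.node (.node (.node (.leaf 88) (.leaf 94)) (.leaf 21)) (.node (.node (.leaf 25) (.leaf 11)) (.leaf 48))) (.node (.node (.node (.leaf 91) (.leaf 68)) (.leaf 84)) (.node (.node (.leaf 98) (.leaf 54)) (.leaf 51)))) (.node (.node (.node (.node (.leaf 5) (.leaf 31)) (.leaf 68)) (.node (.node (.leaf 41) (.leaf 48)) (.leaf 44))) (.node (.node (.node (.leaf 88) (.leaf 74)) (.leaf 71)) (.node (.node (.leaf 35) (.leaf 31)) (.leaf 8))))) (.node (.node (.node (.node (.node (.leaf 96) (.leaf 23)) (.leaf 39)) (.node (.node (.leaf 73) (.leaf 29)) (.leaf 86))) (.node (.node (.node (.leaf 10) (.leaf 106)) (.leaf 83)) (.node (.node (.leaf 66) (.leaf 83)) (.leaf 39)))) (.node (.node (.node (.node (.leaf 13) (.leaf 9)) (.leaf 86)) (.node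 (.node (.leaf 20) (.leaf 96)) (.leaf 53))) (.node (.node (.node (.leaf 66) (.leaf 63)) (.leaf 9)) (.node (.leaf 83) (.leaf 6))))))) (.node (.node (.node (.node (.node (.node (.node (.leaf 93) (.leaf 40)) (.leaf 37)) (.node (.node (.leaf 90) (.leaf 16)) (.leaf 23))) (.node (.node (.node (.leaf 27) (.leaf 53)) (.leaf 100)) (.node (.node (.leaf 43) (.leaf 40)) (.leaf 67)))) (.node (.node (.node (.node (.leaf 60) (.leaf 16)) (.leaf 33)) (.node (.node (.leaf 77) (.leaf 53)) (.leaf 10))) (.node (.node (.node (.leaf 83) (.leaf 40)) (.leaf 57)) (.node (.node (.leaf 20) (.leaf 76)) (.leaf 33))))) (.node (.node (.node (.node (.node (.leaf 82) (.leaf 18)) (.leaf 85)) (.node (.node (.leaf 78) (.leaf 55)) (.leaf 52))) (.node (.node (.node (.leaf 105) (.leaf 101)) (.leaf 28)) (.node (.node (.leaf 52) (.leaf 48)) (.leaf 45)))) (.node (.node (.node (.node (.leaf 88) (.leaf 95)) (.leaf 42)) (.node (.node (.leaf 55) (.leaf 91)) (.leaf 78))) (.node (.node (.node (.leaf 82) (.leaf 108)) (.leaf 35)) (.node (.leaf 68) (.leaf 31)))))) (.node (.node (.node (.node (.node (.node (.leaf 3) (.leaf 89)) (.leaf 46)) (.node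 (.node (.leaf 89) (.leaf 86)) (.leaf 22))) (.node (.node (.node (.leaf 76) (.leaf 2)) (.leaf 9)) (.node (.node (.leaf 72) (.leaf 89)) (.leaf 26)))) (.node (.node (.node (.node (.leaf 89) (.leaf 106)) (.leaf 102)) (.node (.node (.leaf 106) (.leaf 22)) (.leaf 49))) (.node (.node (.node (.leaf 22) (.leaf 29)) (.leaf 106)) (.node (.node (.leaf 9) (.leaf 106)) (.leaf 32))))) (.node (.node (.node (.node (.node (.leaf 41) (.leaf 97)) (.leaf 54)) (.node (.node (.leaf 97) (.leaf 44)) (.leaf 81))) (.node (.node (.node (.leaf 24) (.leaf 1)) (.leaf 37)) (.node (.node (.leaf 1) (.leaf 57)) (.leaf 34)))) (.node (.node (.node (.node (.leaf 87) (.leaf 44)) (.leaf 1)) (.node (.node (.leaf 4) (.leaf 101)) (.leaf 77))) (.node (.node (.node (.leaf 101) (.leaf 87)) (.leaf 4)) (.node (.leaf 57) (.leaf 11)))))))) (.node (.node (.node (.node (.node (.node (.node (.node (.leaf 61) (.leaf 78)) (.leaf 44)) (.node (.node (.leaf 78) (.leaf 104)) (.leaf 81))) (.node (.node (.node (.leaf 104) (.leaf 11)) (.leaf 8)) (.node (.node (.leaf 61) (.leaf 67)) (.leaf 104)))) (.node (.node (.node (.node (.leaf 98) (.leaf 54)) (.leaf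 91)) (.node (.node (.leaf 84) (.leaf 71)) (.leaf 68))) (.node (.node (.node (.leaf 41) (.leaf 57)) (.leaf 104)) (.node (.node (.leaf 8) (.leaf 84)) (.leaf 1))))) (.node (.node (.node (.node (.node (.leaf 39) (.leaf 66)) (.leaf 53)) (.node (.node (.leaf 16) (.leaf 102)) (.leaf 79))) (.node (.node (.node (.leaf 93) (.leaf 59)) (.leaf 66)) (.node (.node (.leaf 9) (.leaf 76)) (.leaf 63)))) (.node (.node (.node (.node (.leaf 26) (.leaf 83)) (.leaf 9)) (.node (.node (.leaf 3) (.leaf 59)) (.leaf 56))) (.node (.node (.node (.leaf 59) (.leaf 46)) (.leaf 53)) (.node (.node (.leaf 96) (.leaf 42)) (.leaf 29)))))) (.node (.node (.node (.node (.node (.node (.leaf 30) (.leaf 37)) (.leaf 3)) (.node (.node (.leaf 57) (.leaf 53)) (.leaf 30))) (.node (.node (.node (.leaf 14) (.leaf 30)) (.leaf 107)) (.node (.node (.leaf 0) (.leaf 47)) (.leaf 103)))) (.node (.node (.node (.node (.leaf 37) (.leaf 63)) (.leaf 80)) (.node (.node (.leaf 83) (.leaf 60)) (.leaf 37))) (.node (.node (.node (.leaf 50) (.leaf 107)) (.leaf 13)) (.node (.node (.leaf 77) (.leaf 13)) (.leaf 60))))) (.node (.node (.node (.node (.node (.leaf 9)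 (.leaf 5)) (.leaf 102)) (.node (.node (.leaf 85) (.leaf 52)) (.leaf 48))) (.node (.node (.node (.leaf 32) (.leaf 58)) (.leaf 5)) (.node (.node (.leaf 18) (.leaf 25)) (.leaf 72)))) (.node (.node (.node (.node (.leaf 105) (.leaf 52)) (.leaf 58)) (.node (.node (.leaf 12) (.leaf 48)) (.leaf 35))) (.node (.node (.node (.leaf 19) (.leaf 75)) (.leaf 32)) (.node (.leaf 25) (.leaf 28))))))) (.node (.node (.node (.node (.node (.node (.node (.leaf 26) (.leaf 12)) (.leaf 49)) (.node (.node (.leaf 52) (.leaf 89)) (.leaf 75))) (.node (.node (.node (.leaf 59) (.leaf 35)) (.leaf 92)) (.node (.node (.leaf 26) (.leaf 62)) (.leaf 9)))) (.node (.node (.node (.node (.leaf 32) (.leaf 109)) (.leaf 46)) (.node (.node (.leaf 9) (.leaf 35)) (.leaf 92))) (.node (.node (.node (.leaf 6) (.leaf 2)) (.leaf 69)) (.node (.node (.leaf 42) (.leaf 59)) (.leaf 65))))) (.node (.node (.node (.node (.node (.leaf 74) (.leaf 0)) (.leaf 7)) (.node (.node (.leaf 21) (.leaf 87)) (.leaf 14))) (.node (.node (.node (.leaf 7) (.leaf 4)) (.leaf 51)) (.node (.node (.leaf 4) (.leaf 10)) (.leaf 27)))) (.node (.node (.node (.node (.leaf 31) (.leaf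 107)) (.leaf 14)) (.node (.node (.leaf 87) (.leaf 34)) (.leaf 90))) (.node (.node (.node (.leaf 74) (.leaf 50)) (.leaf 77)) (.node (.leaf 31) (.leaf 94)))))) (.node (.node (.node (.node (.node (.node (.leaf 15) (.leaf 21)) (.leaf 8)) (.node (.node (.leaf 11) (.leaf 58)) (.leaf 85))) (.node (.node (.node (.leaf 28) (.leaf 85)) (.leaf 91)) (.node (.node (.leaf 55) (.leaf 11)) (.leaf 88)))) (.node (.node (.node (.node (.leaf 21) (.leaf 58)) (.leaf 35)) (.node (.node (.leaf 78) (.leaf 105)) (.leaf 51))) (.node (.node (.node (.leaf 85) (.leaf 61)) (.leaf 18)) (.node (.node (.leaf 41) (.leaf 68)) (.leaf 5))))) (.node (.node (.node (.node (.node (.leaf 83) (.leaf 20)) (.leaf 6)) (.node (.node (.leaf 70) (.leaf 36)) (.leaf 3))) (.node (.node (.node (.leaf 46) (.leaf 93)) (.leaf 70)) (.node (.node (.leaf 53) (.leaf 100)) (.leaf 106)))) (.node (.node (.node (.node (.leaf 70) (.leaf 66)) (.leaf 53)) (.node (.node (.leaf 106) (.leaf 43)) (.leaf 50))) (.node (.node (.node (.leaf 83) (.leaf 90)) (.leaf 76)) (.node (.leaf 60) (.leaf 53))))))))))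

def borelTab14 : Tree (ℕ) :=
  (.node (.node (.node (.node (.node (.node (.node (.node (.node (.node (.leaf 14) (.leaf 40)) (.leaf 97)) (.node (.node (.leaf 30) (.leaf 37)) (.leaf 63))) (.node (.node (.node (.leaf 27) (.leaf 3)) (.leaf 10)) (.node (.node (.leaf 24) (.leaf 80)) (.leaf 37)))) (.node (.node (.node (.node (.leaf 70) (.leaf 87)) (.leaf 44)) (.node (.node (.leaf 17) (.leaf 63)) (.leaf 20))) (.node (.node (.node (.leaf 64) (.leaf 40)) (.leaf 7)) (.node (.node (.leaf 90) (.leaf 27)) (.leaf 3))))) (.node (.node (.node (.node (.node (.leaf 92) (.leaf 98)) (.leaf 15)) (.node (.node (.leaf 29) (.leaf 35)) (.leaf 32))) (.node (.node (.node (.leaf 65) (.leaf 42)) (.leaf 49)) (.node (.node (.leaf 72) (.leaf 8)) (.leaf 45)))) (.node (.node (.node (.node (.leaf 79) (.leaf 95)) (.leaf 82)) (.node (.node (.leaf 55) (.leaf 12)) (.leaf 28))) (.node (.node (.node (.leaf 42) (.leaf 78)) (.leaf 65)) (.node (.node (.leaf 39) (.leaf 75)) (.leaf 82)))))) (.node (.node (.node (.node (.node (.node (.leaf 63) (.leaf 109)) (.leaf 76)) (.node (.node (.leaf 69) (.leaf 76)) (.leaf 13))) (.node (.node (.node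 (.leaf 76) (.leaf 83)) (.leaf 19)) (.node (.node (.leaf 33) (.leaf 9)) (.leaf 76)))) (.node (.node (.node (.node (.leaf 19) (.leaf 16)) (.leaf 93)) (.node (.node (.leaf 106) (.leaf 93)) (.leaf 9))) (.node (.node (.node (.leaf 103) (.leaf 19)) (.leaf 36)) (.node (.node (.leaf 99) (.leaf 86)) (.leaf 93))))) (.node (.node (.node (.node (.node (.leaf 41) (.leaf 108)) (.leaf 24)) (.node (.node (.leaf 108) (.leaf 64)) (.leaf 21))) (.node (.node (.node (.leaf 84) (.leaf 31)) (.leaf 68)) (.node (.node (.leaf 41) (.leaf 108)) (.leaf 84)))) (.node (.node (.node (.node (.leaf 98) (.leaf 74)) (.leaf 101)) (.node (.node (.leaf 64) (.leaf 71)) (.leaf 8))) (.node (.node (.node (.leaf 101) (.leaf 98)) (.leaf 64)) (.node (.leaf 108) (.leaf 61))))))) (.node (.node (.node (.node (.node (.node (.node (.leaf 78) (.leaf 55)) (.leaf 71)) (.node (.node (.leaf 85) (.leaf 71)) (.leaf 48))) (.node (.node (.node (.leaf 12) (.leaf 8)) (.leaf 75)) (.node (.node (.leaf 18) (.leaf 75)) (.leaf 81)))) (.node (.node (.node (.node (.leaf 75) (.leaf 61)) (.leaf 68)) (.node (.node (.leaf 51) (.leaf 28)) (.leaf 105))) (.node (.node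 (.node (.leaf 38) (.leaf 35)) (.leaf 31)) (.node (.node (.leaf 55) (.leaf 1)) (.leaf 18))))) (.node (.node (.node (.node (.node (.leaf 7) (.leaf 93)) (.leaf 70)) (.node (.node (.leaf 53) (.leaf 70)) (.leaf 106))) (.node (.node (.node (.leaf 20) (.leaf 16)) (.leaf 73)) (.node (.node (.leaf 26) (.leaf 63)) (.leaf 10)))) (.node (.node (.node (.node (.leaf 53) (.leaf 10)) (.leaf 106)) (.node (.node (.leaf 70) (.leaf 76)) (.leaf 103))) (.node (.node (.node (.leaf 17) (.leaf 83)) (.leaf 40)) (.node (.leaf 83) (.leaf 106)))))) (.node (.node (.node (.node (.node (.node (.leaf 77) (.leaf 14)) (.leaf 91)) (.node (.node (.leaf 74) (.leaf 40)) (.leaf 67))) (.node (.node (.node (.leaf 51) (.leaf 17)) (.leaf 54)) (.node (.node (.leaf 67) (.leaf 34)) (.leaf 61)))) (.node (.node (.node (.node (.leaf 14) (.leaf 81)) (.leaf 27)) (.node (.node (.leaf 11) (.leaf 17)) (.leaf 4))) (.node (.node (.node (.leaf 37) (.leaf 14)) (.leaf 51)) (.node (.node (.leaf 64) (.leaf 70)) (.leaf 107))))) (.node (.node (.node (.node (.node (.leaf 106) (.leaf 62)) (.leaf 19)) (.node (.node (.leaf 52) (.leaf 89)) (.leaf 66))) (.node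 (.node (.node (.leaf 89) (.leaf 15)) (.leaf 22)) (.node (.node (.leaf 76) (.leaf 92)) (.leaf 89)))) (.node (.node (.node (.node (.leaf 52) (.leaf 109)) (.leaf 26)) (.node (.node (.leaf 49) (.leaf 85)) (.leaf 82))) (.node (.node (.node (.leaf 46) (.leaf 42)) (.leaf 19)) (.node (.leaf 92) (.leaf 76)))))))) (.node (.node (.node (.node (.node (.node (.node (.node (.leaf 46) (.leaf 82)) (.leaf 89)) (.node (.node (.leaf 13) (.leaf 59)) (.leaf 106))) (.node (.node (.node (.leaf 49) (.leaf 76)) (.leaf 62)) (.node (.node (.leaf 6) (.leaf 22)) (.leaf 9)))) (.node (.node (.node (.node (.leaf 3) (.leaf 109)) (.leaf 56)) (.node (.node (.leaf 39) (.leaf 16)) (.leaf 52))) (.node (.node (.node (.leaf 106) (.leaf 22)) (.leaf 69)) (.node (.node (.leaf 33) (.leaf 19)) (.leaf 96))))) (.node (.node (.node (.node (.node (.leaf 104) (.leaf 101)) (.leaf 87)) (.node (.node (.leaf 101) (.leaf 7)) (.leaf 14))) (.node (.node (.node (.leaf 18) (.leaf 94)) (.leaf 1)) (.node (.node (.leaf 104) (.leaf 91)) (.leaf 107)))) (.node (.node (.node (.node (.leaf 61) (.leaf 47)) (.leaf 64)) (.node (.node (.leaf 28) (.leaf 44)) (.leaf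 1))) (.node (.node (.node (.leaf 94) (.leaf 21)) (.leaf 87)) (.node (.node (.leaf 1) (.leaf 37)) (.leaf 94)))))) (.node (.node (.node (.node (.node (.node (.leaf 15) (.leaf 72)) (.leaf 88)) (.node (.node (.leaf 42) (.leaf 8)) (.leaf 5))) (.node (.node (.node (.leaf 108) (.leaf 45)) (.leaf 72)) (.node (.node (.leaf 105) (.leaf 21)) (.leaf 18)))) (.node (.node (.node (.node (.leaf 72) (.leaf 48)) (.leaf 5)) (.node (.node (.leaf 38) (.leaf 55)) (.leaf 102))) (.node (.node (.node (.leaf 65) (.leaf 92)) (.leaf 48)) (.node (.node (.leaf 82) (.leaf 98)) (.leaf 45))))) (.node (.node (.node (.node (.node (.leaf 33) (.leaf 80)) (.leaf 67)) (.node (.node (.leaf 0) (.leaf 97)) (.leaf 93))) (.node (.node (.node (.leaf 67) (.leaf 23)) (.leaf 100)) (.node (.node (.leaf 103) (.leaf 40)) (.leaf 67)))) (.node (.node (.node (.node (.leaf 70) (.leaf 87)) (.leaf 73)) (.node (.node (.leaf 57) (.leaf 23)) (.leaf 40))) (.node (.node (.node (.leaf 93) (.leaf 100)) (.leaf 47)) (.node (.leaf 40) (.leaf 53))))))) (.node (.node (.node (.node (.node (.node (.node (.leaf 1) (.leaf 27)) (.leaf 94)) (.node (.node (.leaf 47)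 (.leaf 34)) (.leaf 90))) (.node (.node (.node (.leaf 44) (.leaf 40)) (.leaf 27)) (.node (.node (.leaf 100) (.leaf 97)) (.leaf 44)))) (.node (.node (.node (.node (.leaf 47) (.leaf 94)) (.leaf 70)) (.node (.node (.leaf 64) (.leaf 0)) (.leaf 57))) (.node (.node (.node (.leaf 70) (.leaf 107)) (.leaf 24)) (.node (.node (.leaf 77) (.leaf 104)) (.leaf 50))))) (.node (.node (.node (.node (.node (.leaf 29) (.leaf 85)) (.leaf 102)) (.node (.node (.leaf 5) (.leaf 12)) (.leaf 69))) (.node (.node (.node (.leaf 72) (.leaf 49)) (.leaf 35)) (.node (.node (.leaf 79) (.leaf 25)) (.leaf 102)))) (.node (.node (.node (.node (.leaf 45) (.leaf 62)) (.leaf 29)) (.node (.node (.leaf 12) (.leaf 109)) (.leaf 15))) (.node (.node (.node (.leaf 9) (.leaf 35)) (.leaf 82)) (.node (.leaf 45) (.leaf 49)))))) (.node (.node (.node (.node (.node (.node (.leaf 40) (.leaf 46)) (.leaf 53)) (.node (.node (.leaf 106) (.leaf 73)) (.leaf 50))) (.node (.node (.node (.leaf 3) (.leaf 99)) (.leaf 36)) (.node (.node (.leaf 40) (.leaf 76)) (.leaf 53)))) (.node (.node (.node (.node (.leaf 46) (.leaf 33)) (.leaf 40)) (.node (.node (.leaf 93) (.leaf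 39)) (.leaf 16))) (.node (.node (.node (.leaf 100) (.leaf 46)) (.leaf 43)) (.node (.node (.leaf 106) (.leaf 3)) (.leaf 59))))) (.node (.node (.node (.node (.node (.leaf 38) (.leaf 44)) (.leaf 91)) (.node (.node (.leaf 105) (.leaf 71)) (.leaf 98))) (.node (.node (.node (.leaf 101) (.leaf 68)) (.leaf 55)) (.node (.node (.leaf 88) (.leaf 34)) (.leaf 41)))) (.node (.node (.node (.node (.leaf 65) (.leaf 11)) (.leaf 78)) (.node (.node (.leaf 31) (.leaf 78)) (.leaf 65))) (.node (.node (.node (.leaf 58) (.leaf 54)) (.leaf 91)) (.node (.leaf 35) (.leaf 8))))))))) (.node (.node (.node (.node (.node (.node (.node (.node (.node (.leaf 30) (.leaf 36)) (.leaf 53)) (.node (.node (.leaf 66) (.leaf 83)) (.leaf 30))) (.node (.node (.node (.leaf 33) (.leaf 80)) (.leaf 86)) (.node (.node (.leaf 80) (.leaf 56)) (.leaf 23)))) (.node (.node (.node (.node (.leaf 66) (.leaf 93)) (.leaf 80)) (.node (.node (.leaf 63) (.leaf 90)) (.leaf 36))) (.node (.node (.node (.leaf 0) (.leaf 76)) (.leaf 43)) (.node (.node (.leaf 66) (.leaf 93)) (.leaf 80))))) (.node (.node (.node (.node (.node (.leaf 28) (.leaf 75)) (.leaf 21)) (.node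 (.node (.leaf 65) (.leaf 21)) (.leaf 98))) (.node (.node (.node (.leaf 101) (.leaf 8)) (.leaf 105)) (.node (.node (.leaf 88) (.leaf 105)) (.leaf 71)))) (.node (.node (.node (.node (.leaf 35) (.leaf 21)) (.leaf 78)) (.node (.node (.leaf 41) (.leaf 28)) (.leaf 35))) (.node (.node (.node (.leaf 8) (.leaf 95)) (.leaf 31)) (.node (.node (.leaf 15) (.leaf 81)) (.leaf 18)))))) (.node (.node (.node (.node (.node (.node (.leaf 89) (.leaf 85)) (.leaf 22)) (.node (.node (.leaf 26) (.leaf 12)) (.leaf 49))) (.node (.node (.node (.leaf 92) (.leaf 69)) (.leaf 85)) (.node (.node (.leaf 49) (.leaf 55)) (.leaf 52)))) (.node (.node (.node (.node (.leaf 96) (.leaf 32)) (.leaf 69)) (.node (.node (.leaf 42) (.leaf 109)) (.leaf 45))) (.node (.node (.node (.leaf 89) (.leaf 75)) (.leaf 2)) (.node (.node (.leaf 36) (.leaf 32)) (.leaf 9))))) (.node (.node (.node (.node (.node (.leaf 97) (.leaf 24)) (.leaf 41)) (.node (.node (.leaf 74) (.leaf 20)) (.leaf 87))) (.node (.node (.node (.leaf 11) (.leaf 67)) (.leaf 84)) (.node (.node (.leaf 67) (.leaf 84)) (.leaf 30)))) (.node (.node (.node (.node (.leaf 14) (.leaf 0)) (.leaf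 87)) (.node (.node (.leaf 21) (.leaf 97)) (.leaf 104))) (.node (.node (.node (.leaf 27) (.leaf 64)) (.leaf 0)) (.node (.leaf 84) (.leaf 7))))))) (.node (.node (.node (.node (.node (.node (.node (.leaf 94) (.leaf 41)) (.leaf 68)) (.node (.node (.leaf 91) (.leaf 17)) (.leaf 24))) (.node (.node (.node (.leaf 28) (.leaf 104)) (.leaf 101)) (.node (.node (.leaf 44) (.leaf 41)) (.leaf 68)))) (.node (.node (.node (.node (.leaf 61) (.leaf 17)) (.leaf 34)) (.node (.node (.leaf 78) (.leaf 54)) (.leaf 31))) (.node (.node (.node (.leaf 24) (.leaf 41)) (.leaf 58)) (.node (.node (.leaf 21) (.leaf 37)) (.leaf 34))))) (.node (.node (.node (.node (.node (.leaf 53) (.leaf 19)) (.leaf 86)) (.node (.node (.leaf 79) (.leaf 36)) (.leaf 53))) (.node (.node (.node (.leaf 106) (.leaf 102)) (.leaf 89)) (.node (.node (.leaf 53) (.leaf 49)) (.leaf 46)))) (.node (.node (.node (.node (.leaf 89) (.leaf 96)) (.leaf 43)) (.node (.node (.leaf 36) (.leaf 92)) (.leaf 79))) (.node (.node (.node (.leaf 83) (.leaf 109)) (.leaf 36)) (.node (.leaf 69) (.leaf 73)))))) (.node (.node (.node (.node (.node (.node (.leaf 4) (.leaf 80)) (.leaf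 47)) (.node (.node (.leaf 90) (.leaf 87)) (.leaf 23))) (.node (.node (.node (.leaf 77) (.leaf 3)) (.leaf 0)) (.node (.node (.leaf 73) (.leaf 80)) (.leaf 97)))) (.node (.node (.node (.node (.leaf 80) (.leaf 107)) (.leaf 73)) (.node (.node (.leaf 107) (.leaf 23)) (.leaf 40))) (.node (.node (.node (.leaf 23) (.leaf 30)) (.leaf 107)) (.node (.node (.leaf 0) (.leaf 107)) (.leaf 33))))) (.node (.node (.node (.node (.node (.leaf 42) (.leaf 18)) (.leaf 55)) (.node (.node (.leaf 98) (.leaf 45)) (.leaf 82))) (.node (.node (.node (.leaf 25) (.leaf 2)) (.leaf 38)) (.node (.node (.leaf 42) (.leaf 58)) (.leaf 35)))) (.node (.node (.node (.node (.leaf 9) (.leaf 45)) (.leaf 2)) (.node (.node (.leaf 5) (.leaf 32)) (.leaf 78))) (.node (.node (.node (.leaf 102) (.leaf 88)) (.leaf 105)) (.node (.leaf 58) (.leaf 12)))))))) (.node (.node (.node (.node (.node (.node (.node (.node (.leaf 62) (.leaf 79)) (.leaf 45)) (.node (.node (.leaf 29) (.leaf 105)) (.leaf 82))) (.node (.node (.node (.leaf 105) (.leaf 12)) (.leaf 9)) (.node (.node (.leaf 62) (.leaf 68)) (.leaf 95)))) (.node (.node (.node (.node (.leaf 99) (.leaf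 55)) (.leaf 22)) (.node (.node (.leaf 85) (.leaf 72)) (.leaf 69))) (.node (.node (.node (.leaf 42) (.leaf 89)) (.leaf 105)) (.node (.node (.leaf 9) (.leaf 85)) (.leaf 2))))) (.node (.node (.node (.node (.node (.leaf 30) (.leaf 27)) (.leaf 54)) (.node (.node (.leaf 17) (.leaf 103)) (.leaf 70))) (.node (.node (.node (.leaf 94) (.leaf 50)) (.leaf 67)) (.node (.node (.leaf 10) (.leaf 77)) (.leaf 64)))) (.node (.node (.node (.node (.leaf 97) (.leaf 84)) (.leaf 0)) (.node (.node (.leaf 4) (.leaf 60)) (.leaf 57))) (.node (.node (.node (.leaf 50) (.leaf 47)) (.leaf 104)) (.node (.node (.leaf 97) (.leaf 43)) (.leaf 20)))))) (.node (.node (.node (.node (.node (.node (.leaf 51) (.leaf 38)) (.leaf 4)) (.node (.node (.leaf 58) (.leaf 104)) (.leaf 31))) (.node (.node (.node (.leaf 15) (.leaf 31)) (.leaf 28)) (.node (.node (.leaf 1) (.leaf 48)) (.leaf 104)))) (.node (.node (.node (.node (.leaf 38) (.leaf 64)) (.leaf 81)) (.node (.node (.leaf 25) (.leaf 61)) (.leaf 38))) (.node (.node (.node (.leaf 51) (.leaf 108)) (.leaf 14)) (.node (.node (.leaf 78) (.leaf 14)) (.leaf 81))))) (.node (.node (.node (.node (.node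 (.leaf 0) (.leaf 6)) (.leaf 103)) (.node (.node (.leaf 86) (.leaf 53)) (.leaf 109))) (.node (.node (.node (.leaf 3) (.leaf 59)) (.leaf 6)) (.node (.node (.leaf 19) (.leaf 6)) (.leaf 73)))) (.node (.node (.node (.node (.leaf 106) (.leaf 23)) (.leaf 59)) (.node (.node (.leaf 13) (.leaf 49)) (.leaf 36))) (.node (.node (.node (.leaf 10) (.leaf 76)) (.leaf 33)) (.node (.leaf 6) (.leaf 29))))))) (.node (.node (.node (.node (.node (.node (.node (.leaf 27) (.leaf 13)) (.leaf 40)) (.node (.node (.leaf 53) (.leaf 80)) (.leaf 57))) (.node (.node (.node (.leaf 60) (.leaf 36)) (.leaf 93)) (.node (.node (.leaf 27) (.leaf 33)) (.leaf 0)))) (.node (.node (.node (.node (.leaf 33) (.leaf 0)) (.leaf 47)) (.node (.node (.leaf 0) (.leaf 36)) (.leaf 93))) (.node (.node (.node (.leaf 7) (.leaf 3)) (.leaf 60)) (.node (.node (.leaf 13) (.leaf 50)) (.leaf 66))))) (.node (.node (.node (.node (.node (.leaf 75) (.leaf 1)) (.leaf 8)) (.node (.node (.leaf 62) (.leaf 88)) (.leaf 15))) (.node (.node (.node (.leaf 8) (.leaf 5)) (.leaf 52)) (.node (.node (.leaf 5) (.leaf 11)) (.leaf 58)))) (.node (.node (.node (.node (.leaf 32)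 (.leaf 108)) (.leaf 5)) (.node (.node (.leaf 88) (.leaf 35)) (.leaf 91))) (.node (.node (.node (.leaf 75) (.leaf 71)) (.leaf 78)) (.node (.leaf 32) (.leaf 95)))))) (.node (.node (.node (.node (.node (.node (.leaf 16) (.leaf 22)) (.leaf 69)) (.node (.node (.leaf 12) (.leaf 59)) (.leaf 86))) (.node (.node (.node (.leaf 29) (.leaf 66)) (.leaf 92)) (.node (.node (.leaf 56) (.leaf 12)) (.leaf 89)))) (.node (.node (.node (.node (.leaf 22) (.leaf 59)) (.leaf 36)) (.node (.node (.leaf 79) (.leaf 106)) (.leaf 92))) (.node (.node (.node (.leaf 66) (.leaf 62)) (.leaf 19)) (.node (.node (.leaf 42) (.leaf 19)) (.leaf 6))))) (.node (.node (.node (.node (.node (.leaf 24) (.leaf 21)) (.leaf 7)) (.node (.node (.leaf 71) (.leaf 107)) (.leaf 4))) (.node (.node (.node (.leaf 47) (.leaf 94)) (.leaf 91)) (.node (.node (.leaf 54) (.leaf 101)) (.leaf 107)))) (.node (.node (.node (.node (.leaf 71) (.leaf 67)) (.leaf 54)) (.node (.node (.leaf 67) (.leaf 44)) (.leaf 51))) (.node (.node (.node (.leaf 84) (.leaf 91)) (.leaf 77)) (.node (.leaf 61) (.leaf 104))))))))))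

def borelTab15 : Tree (ℕ) :=
  (.node (.node (.node (.node (.node (.node (.node (.node (.node (.node (.leaf 15) (.leaf 41)) (.leaf 98)) (.node (.node (.leaf 31) (.leaf 38)) (.leaf 64))) (.node (.node (.node (.leaf 28) (.leaf 4)) (.leaf 11)) (.node (.node (.leaf 25) (.leaf 81)) (.leaf 38)))) (.node (.node (.node (.node (.leaf 71) (.leaf 88)) (.leaf 45)) (.node (.node (.leaf 18) (.leaf 64)) (.leaf 21))) (.node (.node (.node (.leaf 65) (.leaf 41)) (.leaf 8)) (.node (.node (.leaf 91) (.leaf 28)) (.leaf 4))))) (.node (.node (.node (.node (.node (.leaf 93) (.leaf 99)) (.leaf 16)) (.node (.node (.leaf 20) (.leaf 36)) (.leaf 33))) (.node (.node (.node (.leaf 66) (.leaf 43)) (.leaf 40)) (.node (.node (.leaf 73) (.leaf 9)) (.leaf 46)))) (.node (.node (.node (.node (.leaf 70) (.leaf 96)) (.leaf 83)) (.node (.node (.leaf 56) (.leaf 13)) (.leaf 29))) (.node (.node (.node (.leaf 43) (.leaf 79)) (.leaf 66)) (.node (.node (.leaf 30) (.leaf 76)) (.leaf 83)))))) (.node (.node (.node (.node (.node (.node (.leaf 64) (.leaf 100)) (.leaf 77)) (.node (.node (.leaf 60) (.leaf 77)) (.leaf 14))) (.node (.node (.node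 (.leaf 77) (.leaf 84)) (.leaf 10)) (.node (.node (.leaf 34) (.leaf 0)) (.leaf 77)))) (.node (.node (.node (.node (.leaf 10) (.leaf 17)) (.leaf 94)) (.node (.node (.leaf 107) (.leaf 94)) (.leaf 0))) (.node (.node (.node (.leaf 104) (.leaf 10)) (.leaf 37)) (.node (.node (.leaf 90) (.leaf 87)) (.leaf 94))))) (.node (.node (.node (.node (.node (.leaf 42) (.leaf 109)) (.leaf 25)) (.node (.node (.leaf 109) (.leaf 65)) (.leaf 22))) (.node (.node (.node (.leaf 85) (.leaf 32)) (.leaf 69)) (.node (.node (.leaf 42) (.leaf 109)) (.leaf 85)))) (.node (.node (.node (.node (.leaf 99) (.leaf 75)) (.leaf 102)) (.node (.node (.leaf 65) (.leaf 72)) (.leaf 9))) (.node (.node (.node (.leaf 102) (.leaf 99)) (.leaf 65)) (.node (.leaf 109) (.leaf 62))))))) (.node (.node (.node (.node (.node (.node (.node (.leaf 79) (.leaf 56)) (.leaf 72)) (.node (.node (.leaf 86) (.leaf 72)) (.leaf 49))) (.node (.node (.node (.leaf 13) (.leaf 9)) (.leaf 76)) (.node (.node (.leaf 19) (.leaf 76)) (.leaf 82)))) (.node (.node (.node (.node (.leaf 76) (.leaf 62)) (.leaf 69)) (.node (.node (.leaf 52) (.leaf 29)) (.leaf 106))) (.node (.node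 (.node (.leaf 39) (.leaf 36)) (.leaf 32)) (.node (.node (.leaf 56) (.leaf 2)) (.leaf 19))))) (.node (.node (.node (.node (.node (.leaf 8) (.leaf 94)) (.leaf 71)) (.node (.node (.leaf 54) (.leaf 71)) (.leaf 107))) (.node (.node (.node (.leaf 21) (.leaf 17)) (.leaf 74)) (.node (.node (.leaf 27) (.leaf 64)) (.leaf 11)))) (.node (.node (.node (.node (.leaf 54) (.leaf 11)) (.leaf 107)) (.node (.node (.leaf 71) (.leaf 77)) (.leaf 104))) (.node (.node (.node (.leaf 18) (.leaf 84)) (.leaf 41)) (.node (.leaf 84) (.leaf 107)))))) (.node (.node (.node (.node (.node (.node (.leaf 78) (.leaf 15)) (.leaf 92)) (.node (.node (.leaf 75) (.leaf 41)) (.leaf 68))) (.node (.node (.node (.leaf 52) (.leaf 18)) (.leaf 55)) (.node (.node (.leaf 68) (.leaf 35)) (.leaf 62)))) (.node (.node (.node (.node (.leaf 15) (.leaf 82)) (.leaf 28)) (.node (.node (.leaf 12) (.leaf 18)) (.leaf 5))) (.node (.node (.node (.leaf 38) (.leaf 15)) (.leaf 52)) (.node (.node (.leaf 65) (.leaf 71)) (.leaf 108))))) (.node (.node (.node (.node (.node (.leaf 107) (.leaf 63)) (.leaf 10)) (.node (.node (.leaf 53) (.leaf 80)) (.leaf 67))) (.node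 (.node (.node (.leaf 80) (.leaf 16)) (.leaf 23)) (.node (.node (.leaf 77) (.leaf 93)) (.leaf 80)))) (.node (.node (.node (.node (.leaf 53) (.leaf 100)) (.leaf 27)) (.node (.node (.leaf 40) (.leaf 86)) (.leaf 83))) (.node (.node (.node (.leaf 47) (.leaf 43)) (.leaf 10)) (.node (.leaf 93) (.leaf 77)))))))) (.node (.node (.node (.node (.node (.node (.node (.node (.leaf 47) (.leaf 83)) (.leaf 80)) (.node (.node (.leaf 14) (.leaf 50)) (.leaf 107))) (.node (.node (.node (.leaf 40) (.leaf 77)) (.leaf 63)) (.node (.node (.leaf 7) (.leaf 23)) (.leaf 0)))) (.node (.node (.node (.node (.leaf 4) (.leaf 100)) (.leaf 57)) (.node (.node (.leaf 30) (.leaf 17)) (.leaf 53))) (.node (.node (.node (.leaf 107) (.leaf 23)) (.leaf 60)) (.node (.node (.leaf 34) (.leaf 10)) (.leaf 97))))) (.node (.node (.node (.node (.node (.leaf 105) (.leaf 102)) (.leaf 88)) (.node (.node (.leaf 102) (.leaf 8)) (.leaf 15))) (.node (.node (.node (.leaf 19) (.leaf 95)) (.leaf 2)) (.node (.node (.leaf 105) (.leaf 92)) (.leaf 108)))) (.node (.node (.node (.node (.leaf 62) (.leaf 48)) (.leaf 65)) (.node (.node (.leaf 29) (.leaf 45)) (.leaf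 2))) (.node (.node (.node (.leaf 95) (.leaf 22)) (.leaf 88)) (.node (.node (.leaf 2) (.leaf 38)) (.leaf 95)))))) (.node (.node (.node (.node (.node (.node (.leaf 16) (.leaf 73)) (.leaf 89)) (.node (.node (.leaf 43) (.leaf 9)) (.leaf 6))) (.node (.node (.node (.leaf 109) (.leaf 46)) (.leaf 73)) (.node (.node (.leaf 106) (.leaf 22)) (.leaf 19)))) (.node (.node (.node (.node (.leaf 73) (.leaf 49)) (.leaf 6)) (.node (.node (.leaf 39) (.leaf 56)) (.leaf 103))) (.node (.node (.node (.leaf 66) (.leaf 93)) (.leaf 49)) (.node (.node (.leaf 83) (.leaf 99)) (.leaf 46))))) (.node (.node (.node (.node (.node (.leaf 34) (.leaf 81)) (.leaf 68)) (.node (.node (.leaf 1) (.leaf 98)) (.leaf 94))) (.node (.node (.node (.leaf 68) (.leaf 24)) (.leaf 101)) (.node (.node (.leaf 104) (.leaf 41)) (.leaf 68)))) (.node (.node (.node (.node (.leaf 71) (.leaf 88)) (.leaf 74)) (.node (.node (.leaf 58) (.leaf 24)) (.leaf 41))) (.node (.node (.node (.leaf 94) (.leaf 101)) (.leaf 48)) (.node (.leaf 41) (.leaf 54))))))) (.node (.node (.node (.node (.node (.node (.node (.leaf 2) (.leaf 28)) (.leaf 95)) (.node (.node (.leaf 48)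 (.leaf 35)) (.leaf 91))) (.node (.node (.node (.leaf 45) (.leaf 41)) (.leaf 28)) (.node (.node (.leaf 101) (.leaf 98)) (.leaf 45)))) (.node (.node (.node (.node (.leaf 48) (.leaf 95)) (.leaf 71)) (.node (.node (.leaf 65) (.leaf 1)) (.leaf 58))) (.node (.node (.node (.leaf 71) (.leaf 108)) (.leaf 25)) (.node (.node (.leaf 78) (.leaf 105)) (.leaf 51))))) (.node (.node (.node (.node (.node (.leaf 20) (.leaf 86)) (.leaf 103)) (.node (.node (.leaf 6) (.leaf 13)) (.leaf 60))) (.node (.node (.node (.leaf 73) (.leaf 40)) (.leaf 36)) (.node (.node (.leaf 70) (.leaf 26)) (.leaf 103)))) (.node (.node (.node (.node (.leaf 46) (.leaf 63)) (.leaf 20)) (.node (.node (.leaf 13) (.leaf 100)) (.leaf 16))) (.node (.node (.node (.leaf 0) (.leaf 36)) (.leaf 83)) (.node (.leaf 46) (.leaf 40)))))) (.node (.node (.node (.node (.node (.node (.leaf 41) (.leaf 47)) (.leaf 54)) (.node (.node (.leaf 107) (.leaf 74)) (.leaf 51))) (.node (.node (.node (.leaf 4) (.leaf 90)) (.leaf 37)) (.node (.node (.leaf 41) (.leaf 77)) (.leaf 54)))) (.node (.node (.node (.node (.leaf 47) (.leaf 34)) (.leaf 41)) (.node (.node (.leaf 94) (.leaf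 30)) (.leaf 17))) (.node (.node (.node (.leaf 101) (.leaf 47)) (.leaf 44)) (.node (.node (.leaf 107) (.leaf 4)) (.leaf 50))))) (.node (.node (.node (.node (.node (.leaf 39) (.leaf 45)) (.leaf 92)) (.node (.node (.leaf 106) (.leaf 72)) (.leaf 99))) (.node (.node (.node (.leaf 102) (.leaf 69)) (.leaf 56)) (.node (.node (.leaf 89) (.leaf 35)) (.leaf 42)))) (.node (.node (.node (.node (.leaf 66) (.leaf 12)) (.leaf 79)) (.node (.node (.leaf 32) (.leaf 79)) (.leaf 66))) (.node (.node (.node (.leaf 59) (.leaf 55)) (.leaf 92)) (.node (.leaf 36) (.leaf 9))))))))) (.node (.node (.node (.node (.node (.node (.node (.node (.node (.leaf 31) (.leaf 37)) (.leaf 54)) (.node (.node (.leaf 67) (.leaf 84)) (.leaf 31))) (.node (.node (.node (.leaf 34) (.leaf 81)) (.leaf 87)) (.node (.node (.leaf 81) (.leaf 57)) (.leaf 24)))) (.node (.node (.node (.node (.leaf 67) (.leaf 94)) (.leaf 81)) (.node (.node (.leaf 64) (.leaf 91)) (.leaf 37))) (.node (.node (.node (.leaf 1) (.leaf 77)) (.leaf 44)) (.node (.node (.leaf 67) (.leaf 94)) (.leaf 81))))) (.node (.node (.node (.node (.node (.leaf 29) (.leaf 76)) (.leaf 22)) (.node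 (.node (.leaf 66) (.leaf 22)) (.leaf 99))) (.node (.node (.node (.leaf 102) (.leaf 9)) (.leaf 106)) (.node (.node (.leaf 89) (.leaf 106)) (.leaf 72)))) (.node (.node (.node (.node (.leaf 36) (.leaf 22)) (.leaf 79)) (.node (.node (.leaf 42) (.leaf 29)) (.leaf 36))) (.node (.node (.node (.leaf 9) (.leaf 96)) (.leaf 32)) (.node (.node (.leaf 16) (.leaf 82)) (.leaf 19)))))) (.node (.node (.node (.node (.node (.node (.leaf 80) (.leaf 86)) (.leaf 23)) (.node (.node (.leaf 27) (.leaf 13)) (.leaf 40))) (.node (.node (.node (.leaf 93) (.leaf 60)) (.leaf 86)) (.node (.node (.leaf 40) (.leaf 56)) (.leaf 53)))) (.node (.node (.node (.node (.leaf 97) (.leaf 33)) (.leaf 60)) (.node (.node (.leaf 43) (.leaf 100)) (.leaf 46))) (.node (.node (.node (.leaf 80) (.leaf 76)) (.leaf 3)) (.node (.node (.leaf 37) (.leaf 33)) (.leaf 0))))) (.node (.node (.node (.node (.node (.leaf 98) (.leaf 25)) (.leaf 42)) (.node (.node (.leaf 75) (.leaf 21)) (.leaf 88))) (.node (.node (.node (.leaf 12) (.leaf 68)) (.leaf 85)) (.node (.node (.leaf 68) (.leaf 85)) (.leaf 31)))) (.node (.node (.node (.node (.leaf 15) (.leaf 1)) (.leaf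 88)) (.node (.node (.leaf 22) (.leaf 98)) (.leaf 105))) (.node (.node (.node (.leaf 28) (.leaf 65)) (.leaf 1)) (.node (.leaf 85) (.leaf 8))))))) (.node (.node (.node (.node (.node (.node (.node (.leaf 95) (.leaf 42)) (.leaf 69)) (.node (.node (.leaf 92) (.leaf 18)) (.leaf 25))) (.node (.node (.node (.leaf 29) (.leaf 105)) (.leaf 102)) (.node (.node (.leaf 45) (.leaf 42)) (.leaf 69)))) (.node (.node (.node (.node (.leaf 62) (.leaf 18)) (.leaf 35)) (.node (.node (.leaf 79) (.leaf 55)) (.leaf 32))) (.node (.node (.node (.leaf 25) (.leaf 42)) (.leaf 59)) (.node (.node (.leaf 22) (.leaf 38)) (.leaf 35))))) (.node (.node (.node (.node (.node (.leaf 54) (.leaf 10)) (.leaf 87)) (.node (.node (.leaf 70) (.leaf 37)) (.leaf 54))) (.node (.node (.node (.leaf 107) (.leaf 103)) (.leaf 80)) (.node (.node (.leaf 54) (.leaf 40)) (.leaf 47)))) (.node (.node (.node (.node (.leaf 80) (.leaf 97)) (.leaf 44)) (.node (.node (.leaf 37) (.leaf 93)) (.leaf 70))) (.node (.node (.node (.leaf 84) (.leaf 100)) (.leaf 37)) (.node (.leaf 60) (.leaf 74)))))) (.node (.node (.node (.node (.node (.node (.leaf 5) (.leaf 81)) (.leaf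 48)) (.node (.node (.leaf 91) (.leaf 88)) (.leaf 24))) (.node (.node (.node (.leaf 78) (.leaf 4)) (.leaf 1)) (.node (.node (.leaf 74) (.leaf 81)) (.leaf 98)))) (.node (.node (.node (.node (.leaf 81) (.leaf 108)) (.leaf 74)) (.node (.node (.leaf 108) (.leaf 24)) (.leaf 41))) (.node (.node (.node (.leaf 24) (.leaf 31)) (.leaf 108)) (.node (.node (.leaf 1) (.leaf 108)) (.leaf 34))))) (.node (.node (.node (.node (.node (.leaf 43) (.leaf 19)) (.leaf 56)) (.node (.node (.leaf 99) (.leaf 46)) (.leaf 83))) (.node (.node (.node (.leaf 26) (.leaf 3)) (.leaf 39)) (.node (.node (.leaf 43) (.leaf 59)) (.leaf 36)))) (.node (.node (.node (.node (.leaf 0) (.leaf 46)) (.leaf 3)) (.node (.node (.leaf 6) (.leaf 33)) (.leaf 79))) (.node (.node (.node (.leaf 103) (.leaf 89)) (.leaf 106)) (.node (.leaf 59) (.leaf 13)))))))) (.node (.node (.node (.node (.node (.node (.node (.node (.leaf 63) (.leaf 70)) (.leaf 46)) (.node (.node (.leaf 20) (.leaf 106)) (.leaf 83))) (.node (.node (.node (.leaf 106) (.leaf 13)) (.leaf 0)) (.node (.node (.leaf 63) (.leaf 69)) (.leaf 96)))) (.node (.node (.node (.node (.leaf 90) (.leaf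 56)) (.leaf 23)) (.node (.node (.leaf 86) (.leaf 73)) (.leaf 60))) (.node (.node (.node (.leaf 43) (.leaf 80)) (.leaf 106)) (.node (.node (.leaf 0) (.leaf 86)) (.leaf 3))))) (.node (.node (.node (.node (.node (.leaf 31) (.leaf 28)) (.leaf 55)) (.node (.node (.leaf 18) (.leaf 104)) (.leaf 71))) (.node (.node (.node (.leaf 95) (.leaf 51)) (.leaf 68)) (.node (.node (.leaf 11) (.leaf 78)) (.leaf 65)))) (.node (.node (.node (.node (.leaf 98) (.leaf 85)) (.leaf 1)) (.node (.node (.leaf 5) (.leaf 61)) (.leaf 58))) (.node (.node (.node (.leaf 51) (.leaf 48)) (.leaf 105)) (.node (.node (.leaf 98) (.leaf 44)) (.leaf 21)))))) (.node (.node (.node (.node (.node (.node (.leaf 52) (.leaf 39)) (.leaf 5)) (.node (.node (.leaf 59) (.leaf 105)) (.leaf 32))) (.node (.node (.node (.leaf 16) (.leaf 32)) (.leaf 29)) (.node (.node (.leaf 2) (.leaf 49)) (.leaf 105)))) (.node (.node (.node (.node (.leaf 39) (.leaf 65)) (.leaf 82)) (.node (.node (.leaf 26) (.leaf 62)) (.leaf 39))) (.node (.node (.node (.leaf 52) (.leaf 109)) (.leaf 15)) (.node (.node (.leaf 79) (.leaf 15)) (.leaf 82))))) (.node (.node (.node (.node (.node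 (.leaf 1) (.leaf 7)) (.leaf 104)) (.node (.node (.leaf 87) (.leaf 54)) (.leaf 100))) (.node (.node (.node (.leaf 4) (.leaf 50)) (.leaf 7)) (.node (.node (.leaf 10) (.leaf 7)) (.leaf 74)))) (.node (.node (.node (.node (.leaf 107) (.leaf 24)) (.leaf 50)) (.node (.node (.leaf 14) (.leaf 40)) (.leaf 37))) (.node (.node (.node (.leaf 11) (.leaf 77)) (.leaf 34)) (.node (.leaf 7) (.leaf 20))))))) (.node (.node (.node (.node (.node (.node (.node (.leaf 28) (.leaf 14)) (.leaf 41)) (.node (.node (.leaf 54) (.leaf 81)) (.leaf 58))) (.node (.node (.node (.leaf 61) (.leaf 37)) (.leaf 94)) (.node (.node (.leaf 28) (.leaf 34)) (.leaf 1)))) (.node (.node (.node (.node (.leaf 34) (.leaf 1)) (.leaf 48)) (.node (.node (.leaf 1) (.leaf 37)) (.leaf 94))) (.node (.node (.node (.leaf 8) (.leaf 4)) (.leaf 61)) (.node (.node (.leaf 14) (.leaf 51)) (.leaf 67))))) (.node (.node (.node (.node (.node (.leaf 76) (.leaf 2)) (.leaf 9)) (.node (.node (.leaf 63) (.leaf 89)) (.leaf 16))) (.node (.node (.node (.leaf 9) (.leaf 6)) (.leaf 53)) (.node (.node (.leaf 6) (.leaf 12)) (.leaf 59)))) (.node (.node (.node (.node (.leaf 33)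 (.leaf 109)) (.leaf 6)) (.node (.node (.leaf 89) (.leaf 36)) (.leaf 92))) (.node (.node (.node (.leaf 76) (.leaf 72)) (.leaf 79)) (.node (.leaf 33) (.leaf 96)))))) (.node (.node (.node (.node (.node (.node (.leaf 17) (.leaf 23)) (.leaf 60)) (.node (.node (.leaf 13) (.leaf 50)) (.leaf 87))) (.node (.node (.node (.leaf 20) (.leaf 67)) (.leaf 93)) (.node (.node (.leaf 57) (.leaf 13)) (.leaf 80)))) (.node (.node (.node (.node (.leaf 23) (.leaf 50)) (.leaf 37)) (.node (.node (.leaf 70) (.leaf 107)) (.leaf 93))) (.node (.node (.node (.leaf 67) (.leaf 63)) (.leaf 10)) (.node (.node (.leaf 43) (.leaf 10)) (.leaf 7))))) (.node (.node (.node (.node (.node (.leaf 25) (.leaf 22)) (.leaf 8)) (.node (.node (.leaf 72) (.leaf 108)) (.leaf 5))) (.node (.node (.node (.leaf 48) (.leaf 95)) (.leaf 92)) (.node (.node (.leaf 55) (.leaf 102)) (.leaf 108)))) (.node (.node (.node (.node (.leaf 72) (.leaf 68)) (.leaf 55)) (.node (.node (.leaf 68) (.leaf 45)) (.leaf 52))) (.node (.node (.node (.leaf 85) (.leaf 92)) (.leaf 78)) (.node (.leaf 62) (.leaf 105))))))))))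

def borelTab : Tree (ℕ) :=
  (.node (.node (.node (.node borelTab0 borelTab8) (.node borelTab4 borelTab12)) (.node (.node borelTab2 borelTab10) (.node borelTab6 borelTab14))) (.node (.node (.node borelTab1 borelTab9) (.node borelTab5 borelTab13)) (.node (.node borelTab3 borelTab11) (.node borelTab7 borelTab15))))

def conjTab0 : Tree (ℕ × ℕ × ℕ) :=
  (.node (.node (.node (.node (.node (.node (.node (.leaf (0, 0, 0)) (.leaf (2, 99, 36))) (.node (.leaf (2, 31, 73)) (.leaf (7, 17, 87)))) (.node (.node (.leaf (15, 42, 33)) (.leaf (11, 18, 33))) (.leaf (3, 95, 70)))) (.node (.node (.node (.leaf (12, 44, 90)) (.leaf (7, 4, 59))) (.leaf (8, 104, 17))) (.node (.node (.leaf (15, 104, 21)) (.leaf (7, 12, 64))) (.leaf (15, 88, 89))))) (.node (.node (.node (.node (.leaf (11, 55, 82)) (.leaf (3, 25, 88))) (.leaf (17, 96, 51))) (.node (.node (.leaf (2, 84, 47)) (.leaf (13, 7, 3))) (.leaf (15, 90, 73)))) (.node (.node (.node (.leaf (14, 62, 51)) (.leaf (2, 41, 109))) (.leaf (2, 75, 21))) (.node (.node (.leaf (17, 97, 57)) (.leaf (7, 65, 38))) (.leaf (5, 3, 53)))))) (.node (.node (.node (.node (.node (.leaf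 (7, 25, 45)) (.leaf (17, 109, 14))) (.node (.leaf (12, 44, 32)) (.leaf (4, 74, 39)))) (.node (.node (.leaf (2, 40, 43)) (.leaf (14, 108, 62))) (.leaf (14, 100, 49)))) (.node (.node (.node (.leaf (2, 5, 48)) (.leaf (16, 22, 52))) (.leaf (12, 10, 57))) (.node (.node (.leaf (14, 5, 82)) (.leaf (14, 26, 95))) (.leaf (15, 21, 28))))) (.node (.node (.node (.node (.leaf (3, 48, 4)) (.leaf (8, 63, 14))) (.leaf (15, 91, 107))) (.node (.node (.leaf (13, 78, 11)) (.leaf (15, 12, 64))) (.leaf (3, 50, 57)))) (.node (.node (.node (.leaf (8, 1, 67)) (.leaf (8, 105, 82))) (.leaf (15, 63, 14))) (.node (.node (.leaf (2, 39, 105)) (.leaf (2, 16, 18))) (.leaf (15, 12, 47))))))) (.node (.node (.node (.node (.node (.node (.leaf (9, 0, 0)) (.leaf (8, 41, 22))) (.node (.leaf (9, 93, 3)) (.leaf (7, 92, 54)))) (.node (.node (.leaf (14, 61, 77)) (.leaf (9, 56, 41))) (.leaf (3, 47, 72)))) (.node (.node (.node (.leaf (3, 3, 109)) (.leaf (4, 25, 80))) (.leaf (8, 14, 86))) (.node (.node (.leaf (15, 0, 5)) (.leaf (6, 83, 79))) (.leaf (4, 1, 104))))) (.node (.node (.node (.node (.leaf (16, 90, 57)) (.leaf (7, 7, 99))) (.leaf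 (16, 23, 4))) (.node (.node (.leaf (7, 65, 43)) (.leaf (10, 80, 98))) (.leaf (12, 16, 61)))) (.node (.node (.node (.leaf (3, 67, 103)) (.leaf (5, 9, 47))) (.leaf (7, 104, 27))) (.node (.node (.leaf (11, 6, 32)) (.leaf (12, 11, 44))) (.leaf (4, 63, 72)))))) (.node (.node (.node (.node (.node (.leaf (4, 76, 84)) (.leaf (2, 33, 13))) (.node (.leaf (9, 101, 79)) (.leaf (6, 95, 85)))) (.node (.node (.leaf (7, 51, 91)) (.leaf (14, 53, 12))) (.leaf (8, 92, 53)))) (.node (.node (.node (.leaf (9, 95, 66)) (.leaf (5, 59, 52))) (.leaf (16, 16, 66))) (.node (.node (.leaf (4, 4, 26)) (.leaf (2, 27, 12))) (.leaf (7, 69, 73))))) (.node (.node (.node (.node (.leaf (7, 3, 16)) (.leaf (4, 3, 50))) (.leaf (2, 73, 42))) (.node (.node (.leaf (8, 54, 2)) (.leaf (2, 77, 50))) (.leaf (4, 7, 41)))) (.node (.node (.node (.leaf (4, 32, 51)) (.leaf (3, 12, 71))) (.leaf (6, 82, 35))) (.node (.node (.leaf (15, 98, 56)) (.leaf (4, 4, 37))) (.leaf (15, 10, 82))))))))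

def conjTab1 : Tree (ℕ × ℕ × ℕ) :=
  (.node (.node (.node (.node (.node (.node (.node (.leaf (1, 0, 0)) (.leaf (15, 17, 10))) (.node (.leaf (12, 88, 68)) (.leaf (10, 53, 84)))) (.node (.node (.leaf (7, 6, 42)) (.leaf (9, 58, 83))) (.leaf (9, 24, 7)))) (.node (.node (.node (.leaf (2, 49, 91)) (.leaf (10, 84, 7))) (.leaf (2, 10, 104))) (.node (.node (.leaf (6, 27, 91)) (.leaf (3, 70, 60))) (.leaf (8, 63, 72))))) (.node (.node (.node (.node (.leaf (7, 59, 29)) (.leaf (14, 35, 14))) (.leaf (5, 56, 51))) (.node (.node (.leaf (12, 27, 96)) (.leaf (11, 26, 29))) (.leaf (5, 99, 3)))) (.node (.node (.node (.leaf (16, 99, 106)) (.leaf (2, 14, 70))) (.leaf (9, 80, 78))) (.node (.node (.leaf (14, 46, 41)) (.leaf (5, 74, 57))) (.leaf (10, 94, 38)))))) (.node (.node (.node (.node (.node (.leaf (8, 90, 5)) (.leaf (4, 7, 54))) (.node (.leaf (7, 26, 79)) (.leaf (14, 48, 108)))) (.node (.node (.leaf (10, 58, 106)) (.leaf (14, 17, 7))) (.leaf (15, 21, 71)))) (.node (.node (.node (.leaf (4, 81, 69)) (.leaf (16, 73, 107))) (.leaf (3, 85, 85))) (.node (.node (.leaf (11, 12, 38)) (.leaf (17, 42, 49))) (.leaf (4, 30,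 17))))) (.node (.node (.node (.node (.leaf (5, 45, 5)) (.leaf (4, 15, 98))) (.leaf (14, 41, 70))) (.node (.node (.leaf (2, 71, 79)) (.leaf (8, 92, 94))) (.leaf (17, 18, 58)))) (.node (.node (.node (.leaf (11, 88, 7)) (.leaf (12, 6, 3))) (.leaf (8, 94, 69))) (.node (.node (.leaf (6, 7, 7)) (.leaf (6, 41, 57))) (.leaf (2, 55, 17))))))) (.node (.node (.node (.node (.node (.node (.leaf (10, 0, 0)) (.leaf (8, 87, 75))) (.node (.leaf (7, 95, 26)) (.leaf (15, 12, 74)))) (.node (.node (.leaf (12, 105, 75)) (.leaf (15, 79, 24))) (.leaf (15, 24, 42)))) (.node (.node (.node (.leaf (2, 50, 106)) (.leaf (15, 80, 6))) (.leaf (14, 72, 88))) (.node (.node (.leaf (10, 72, 40)) (.leaf (7, 27, 63))) (.leaf (4, 104, 33))))) (.node (.node (.node (.node (.leaf (14, 35, 19)) (.leaf (9, 105, 107))) (.leaf (4, 31, 92))) (.node (.node (.leaf (2, 29, 1)) (.leaf (8, 15, 103))) (.leaf (3, 96, 54)))) (.node (.node (.node (.leaf (2, 22, 85)) (.leaf (3, 78, 32))) (.leaf (16, 64, 56))) (.node (.node (.leaf (12, 91, 35)) (.leaf (17, 23, 6))) (.leaf (2, 16, 10)))))) (.node (.node (.node (.node (.node (.leaf (13, 108, 1)) (.leaf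 (17, 56, 61))) (.node (.leaf (5, 74, 32)) (.leaf (10, 38, 91)))) (.node (.node (.leaf (11, 73, 92)) (.leaf (7, 29, 102))) (.leaf (15, 18, 61)))) (.node (.node (.node (.leaf (11, 106, 104)) (.leaf (11, 77, 78))) (.leaf (16, 58, 69))) (.node (.node (.leaf (13, 0, 20)) (.leaf (4, 4, 67))) (.leaf (6, 10, 38))))) (.node (.node (.node (.node (.leaf (1, 76, 6)) (.leaf (15, 33, 59))) (.leaf (3, 20, 98))) (.node (.node (.leaf (5, 61, 41)) (.leaf (14, 108, 8))) (.leaf (16, 97, 81)))) (.node (.node (.node (.leaf (5, 95, 11)) (.leaf (14, 103, 65))) (.leaf (11, 54, 108))) (.node (.node (.leaf (13, 72, 22)) (.leaf (10, 29, 14))) (.leaf (2, 13, 54))))))))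

def conjTab2 : Tree (ℕ × ℕ × ℕ) :=
  (.node (.node (.node (.node (.node (.node (.node (.leaf (2, 0, 0)) (.leaf (2, 26, 57))) (.node (.leaf (9, 45, 90)) (.leaf (6, 33, 44)))) (.node (.node (.leaf (17, 103, 15)) (.leaf (15, 51, 13))) (.leaf (16, 37, 71)))) (.node (.node (.node (.leaf (4, 31, 11)) (.leaf (10, 51, 81))) (.leaf (2, 60, 44))) (.node (.node (.leaf (3, 79, 47)) (.leaf (7, 76, 19))) (.leaf (10, 83, 58))))) (.node (.node (.node (.node (.leaf (7, 90, 53)) (.leaf (5, 40, 2))) (.leaf (7, 61, 12))) (.node (.node (.leaf (11, 53, 95)) (.leaf (16, 83, 98))) (.leaf (14, 13, 102)))) (.node (.node (.node (.leaf (6, 51, 31)) (.leaf (18, 55, 24))) (.leaf (14, 41, 86))) (.node (.node (.leaf (17, 70, 9)) (.leaf (15, 98, 44))) (.leaf (16, 99, 92)))))) (.node (.node (.node (.node (.node (.leaf (2, 71, 94)) (.leaf (11, 3, 30))) (.node (.leaf (9, 46, 35)) (.leaf (11, 73, 54)))) (.node (.node (.leaf (16, 77, 86)) (.leaf (3, 47, 61))) (.leaf (5, 84, 58)))) (.node (.node (.node (.leaf (10, 57, 25)) (.leaf (14, 36, 50))) (.leaf (1, 83, 80))) (.node (.node (.leaf (14, 44, 81)) (.leaf (7, 107, 7))) (.leaf (5,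 64, 50))))) (.node (.node (.node (.node (.leaf (9, 50, 80)) (.leaf (2, 45, 95))) (.leaf (6, 55, 6))) (.node (.node (.leaf (6, 3, 76)) (.leaf (16, 35, 30))) (.leaf (14, 91, 43)))) (.node (.node (.node (.leaf (12, 26, 88)) (.leaf (12, 64, 18))) (.leaf (16, 86, 36))) (.node (.node (.leaf (16, 78, 51)) (.leaf (4, 90, 76))) (.leaf (10, 81, 26))))))) (.node (.node (.node (.node (.node (.node (.leaf (9, 25, 45)) (.leaf (16, 28, 63))) (.node (.leaf (10, 53, 47)) (.leaf (6, 33, 14)))) (.node (.node (.leaf (3, 72, 108)) (.leaf (14, 75, 18))) (.leaf (3, 41, 24)))) (.node (.node (.node (.leaf (11, 51, 89)) (.leaf (16, 102, 42))) (.leaf (7, 38, 57))) (.node (.node (.leaf (10, 15, 78)) (.leaf (4, 94, 35))) (.leaf (16, 91, 37))))) (.node (.node (.node (.node (.leaf (4, 57, 83)) (.leaf (9, 86, 31))) (.leaf (11, 83, 17))) (.node (.node (.leaf (9, 11, 101)) (.leaf (12, 62, 101))) (.leaf (4, 77, 10)))) (.node (.node (.node (.leaf (9, 101, 106)) (.leaf (8, 60, 78))) (.leaf (6, 79, 66))) (.node (.node (.leaf (9, 109, 22)) (.leaf (10, 28, 69))) (.leaf (16, 51, 93)))))) (.node (.node (.node (.node (.node (.leaf (5,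 38, 43)) (.leaf (9, 90, 47))) (.node (.leaf (9, 16, 59)) (.leaf (6, 27, 75)))) (.node (.node (.leaf (2, 96, 11)) (.leaf (6, 20, 30))) (.leaf (8, 107, 34)))) (.node (.node (.node (.leaf (12, 27, 56)) (.leaf (1, 33, 3))) (.leaf (2, 8, 37))) (.node (.node (.leaf (14, 46, 16)) (.leaf (17, 1, 46))) (.leaf (6, 52, 16))))) (.node (.node (.node (.node (.leaf (8, 95, 16)) (.leaf (4, 45, 62))) (.leaf (6, 10, 98))) (.node (.node (.leaf (6, 42, 58)) (.leaf (6, 7, 92))) (.leaf (12, 25, 8)))) (.node (.node (.node (.leaf (17, 54, 16)) (.leaf (10, 36, 74))) (.leaf (3, 6, 29))) (.node (.node (.leaf (4, 6, 59)) (.leaf (12, 63, 69))) (.leaf (6, 49, 67))))))))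

def conjTab3 : Tree (ℕ × ℕ × ℕ) :=
  (.node (.node (.node (.node (.node (.node (.node (.leaf (3, 0, 0)) (.leaf (12, 86, 31))) (.node (.leaf (10, 31, 79)) (.leaf (4, 23, 31)))) (.node (.node (.leaf (3, 107, 14)) (.leaf (17, 84, 43))) (.leaf (15, 43, 57)))) (.node (.node (.node (.leaf (3, 20, 53)) (.leaf (12, 21, 51))) (.leaf (8, 71, 84))) (.node (.node (.leaf (8, 90, 95)) (.leaf (2, 40, 93))) (.leaf (10, 52, 30))))) (.node (.node (.node (.node (.leaf (3, 0, 20)) (.leaf (4, 64, 60))) (.leaf (10, 87, 35))) (.node (.node (.leaf (12, 0, 20)) (.leaf (3, 97, 75))) (.leaf (12, 23, 100)))) (.node (.node (.node (.leaf (18, 0, 0)) (.leaf (12, 94, 83))) (.leaf (16, 84, 34))) (.node (.node (.leaf (6, 18, 48)) (.leaf (14, 9, 73))) (.leaf (16, 47, 85)))))) (.node (.node (.node (.node (.node (.leaf (4, 75, 78)) (.leaf (17, 32, 4))) (.node (.leaf (9, 76, 94)) (.leaf (7, 27, 13)))) (.node (.node (.leaf (4, 45, 90)) (.leaf (17, 100, 70))) (.leaf (10, 51, 11)))) (.node (.node (.node (.leaf (16, 19, 13)) (.leaf (8, 105, 105))) (.leaf (12, 72, 107))) (.node (.node (.leaf (1, 100, 7)) (.leaf (7, 54, 107))) (.leaf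 (17, 89, 11))))) (.node (.node (.node (.node (.leaf (7, 38, 90)) (.leaf (8, 80, 36))) (.leaf (8, 19, 81))) (.node (.node (.leaf (14, 44, 96)) (.leaf (4, 36, 44))) (.leaf (17, 97, 74)))) (.node (.node (.node (.leaf (17, 48, 42)) (.leaf (7, 26, 100))) (.leaf (16, 8, 99))) (.node (.node (.leaf (6, 104, 8)) (.leaf (18, 92, 70))) (.leaf (4, 39, 9))))))) (.node (.node (.node (.node (.node (.node (.leaf (2, 7, 60)) (.leaf (12, 105, 10))) (.node (.leaf (12, 76, 25)) (.leaf (8, 51, 15)))) (.node (.node (.leaf (2, 13, 49)) (.leaf (4, 86, 103))) (.leaf (10, 56, 60)))) (.node (.node (.node (.leaf (12, 22, 48)) (.leaf (14, 43, 83))) (.leaf (3, 47, 36))) (.node (.node (.leaf (5, 4, 59)) (.leaf (8, 83, 93))) (.leaf (10, 58, 101))))) (.node (.node (.node (.node (.leaf (4, 0, 20)) (.leaf (10, 60, 31))) (.leaf (11, 105, 100))) (.node (.node (.leaf (11, 76, 19)) (.leaf (3, 71, 1))) (.leaf (9, 90, 1)))) (.node (.node (.node (.leaf (7, 92, 108)) (.leaf (4, 61, 36))) (.leaf (8, 51, 55))) (.node (.node (.leaf (9, 102, 57)) (.leaf (7, 7, 84))) (.leaf (18, 95, 6)))))) (.node (.node (.node (.node (.node (.leaf (15, 104,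 66)) (.leaf (9, 34, 50))) (.node (.leaf (2, 4, 69)) (.leaf (11, 25, 64)))) (.node (.node (.leaf (4, 33, 71)) (.leaf (3, 95, 105))) (.leaf (15, 54, 36)))) (.node (.node (.node (.leaf (8, 54, 54)) (.leaf (15, 3, 29))) (.leaf (8, 74, 42))) (.node (.node (.leaf (11, 34, 93)) (.leaf (8, 87, 33))) (.leaf (4, 24, 87))))) (.node (.node (.node (.node (.leaf (4, 45, 70)) (.leaf (15, 89, 79))) (.leaf (3, 25, 62))) (.node (.node (.leaf (13, 87, 9)) (.leaf (12, 99, 47))) (.leaf (3, 63, 30)))) (.node (.node (.node (.leaf (9, 25, 25)) (.leaf (2, 17, 83))) (.leaf (16, 45, 90))) (.node (.node (.leaf (16, 7, 53)) (.leaf (16, 68, 108))) (.leaf (16, 34, 55))))))))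

def conjTab4 : Tree (ℕ × ℕ × ℕ) :=
  (.node (.node (.node (.node (.node (.node (.node (.leaf (4, 0, 0)) (.leaf (12, 77, 79))) (.node (.leaf (14, 30, 75)) (.leaf (17, 26, 63)))) (.node (.node (.leaf (12, 107, 11)) (.leaf (9, 38, 98))) (.leaf (2, 96, 8)))) (.node (.node (.node (.leaf (7, 0, 20)) (.leaf (17, 74, 8))) (.leaf (8, 84, 41))) (.node (.node (.leaf (15, 70, 63)) (.leaf (7, 71, 23))) (.leaf (4, 78, 1))))) (.node (.node (.node (.node (.leaf (14, 38, 45)) (.leaf (16, 9, 44))) (.leaf (9, 36, 76))) (.node (.node (.leaf (6, 17, 88)) (.leaf (12, 98, 58))) (.leaf (6, 36, 2)))) (.node (.node (.node (.leaf (15, 65, 20)) (.leaf (9, 55, 56))) (.leaf (8, 82, 30))) (.node (.node (.leaf (11, 87, 2)) (.leaf (14, 48, 3))) (.leaf (2, 10, 4)))))) (.node (.node (.node (.node (.node (.leaf (6, 25, 45)) (.leaf (7, 5, 78))) (.node (.leaf (2, 44, 6)) (.leaf (11, 84, 26)))) (.node (.node (.leaf (8, 65, 70)) (.leaf (6, 95, 105))) (.leaf (15, 0, 77)))) (.node (.node (.node (.leaf (15, 45, 45)) (.leaf (14, 13, 22))) (.leaf (8, 45, 62))) (.node (.node (.leaf (7, 87, 15)) (.leaf (8, 52, 88))) (.leaf (10, 7, 37)))))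 (.node (.node (.node (.node (.leaf (13, 14, 7)) (.leaf (4, 94, 15))) (.leaf (9, 68, 58))) (.node (.node (.leaf (15, 63, 91)) (.leaf (15, 107, 99))) (.leaf (2, 4, 59)))) (.node (.node (.node (.leaf (3, 46, 96)) (.leaf (10, 56, 23))) (.leaf (4, 65, 97))) (.node (.node (.leaf (2, 0, 90)) (.leaf (12, 51, 63))) (.leaf (8, 100, 83))))))) (.node (.node (.node (.node (.node (.node (.leaf (5, 13, 38)) (.leaf (7, 93, 83))) (.node (.leaf (11, 87, 97)) (.leaf (7, 94, 69)))) (.node (.node (.leaf (4, 3, 56)) (.leaf (2, 98, 97))) (.leaf (16, 43, 105)))) (.node (.node (.node (.leaf (10, 103, 21)) (.leaf (15, 54, 76))) (.leaf (14, 38, 25))) (.node (.node (.leaf (15, 51, 70)) (.leaf (17, 89, 13))) (.leaf (4, 48, 75))))) (.node (.node (.node (.node (.leaf (12, 25, 40)) (.leaf (10, 27, 10))) (.leaf (15, 82, 105))) (.node (.node (.leaf (6, 62, 3)) (.leaf (8, 10, 6))) (.leaf (6, 5, 24)))) (.node (.node (.node (.leaf (11, 45, 90)) (.leaf (12, 100, 52))) (.leaf (7, 94, 94))) (.node (.node (.leaf (7, 41, 104)) (.leaf (3, 83, 87))) (.leaf (4, 10, 34)))))) (.node (.node (.node (.node (.node (.leaf (2, 40, 53)) (.leaf (16,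 86, 76))) (.node (.leaf (13, 105, 8)) (.leaf (7, 28, 31)))) (.node (.node (.leaf (10, 19, 103)) (.leaf (8, 8, 50))) (.leaf (3, 28, 59)))) (.node (.node (.node (.leaf (16, 4, 29)) (.leaf (14, 74, 46))) (.leaf (4, 89, 73))) (.node (.node (.leaf (16, 34, 18)) (.leaf (7, 89, 22))) (.leaf (8, 92, 26))))) (.node (.node (.node (.node (.leaf (6, 0, 20)) (.leaf (8, 60, 11))) (.leaf (12, 19, 87))) (.node (.node (.leaf (2, 16, 68)) (.leaf (11, 36, 39))) (.leaf (5, 76, 1)))) (.node (.node (.node (.leaf (13, 2, 5)) (.leaf (12, 57, 9))) (.leaf (4, 94, 93))) (.node (.node (.leaf (15, 54, 84)) (.leaf (15, 94, 1))) (.leaf (4, 32, 43))))))))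

def conjTab5 : Tree (ℕ × ℕ × ℕ) :=
  (.node (.node (.node (.node (.node (.node (.node (.leaf (5, 0, 0)) (.leaf (6, 71, 9))) (.node (.leaf (12, 97, 105)) (.leaf (9, 61, 67)))) (.node (.node (.leaf (16, 0, 62)) (.leaf (11, 95, 58))) (.leaf (10, 11, 104)))) (.node (.node (.node (.leaf (5, 85, 49)) (.leaf (17, 79, 68))) (.leaf (15, 80, 109))) (.node (.node (.leaf (12, 47, 50)) (.leaf (9, 107, 29))) (.leaf (11, 54, 55))))) (.node (.node (.node (.node (.leaf (7, 75, 96)) (.leaf (4, 81, 79))) (.leaf (14, 69, 64))) (.node (.node (.leaf (6, 4, 106)) (.leaf (11, 52, 63))) (.leaf (9, 1, 37)))) (.node (.node (.node (.leaf (1, 75, 2)) (.leaf (14, 42, 13))) (.leaf (6, 32, 103))) (.node (.node (.leaf (16, 9, 39)) (.leaf (9, 85, 46))) (.leaf (10, 74, 94)))))) (.node (.node (.node (.node (.node (.leaf (5, 50, 44)) (.leaf (18, 27, 71))) (.node (.leaf (16, 78, 82)) (.leaf (3, 89, 46)))) (.node (.node (.leaf (2, 69, 64)) (.leaf (9, 36, 9))) (.leaf (14, 90, 92)))) (.node (.node (.node (.leaf (11, 100, 27)) (.leaf (2, 72, 51))) (.leaf (16, 54, 83))) (.node (.node (.leaf (7, 96, 40)) (.leaf (10, 19, 43))) (.leaf (4,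 21, 53))))) (.node (.node (.node (.node (.leaf (5, 44, 14)) (.leaf (4, 38, 105))) (.leaf (13, 103, 25))) (.node (.node (.leaf (3, 54, 33)) (.leaf (6, 1, 78))) (.leaf (12, 52, 89)))) (.node (.node (.node (.leaf (10, 0, 20)) (.leaf (15, 61, 78))) (.leaf (7, 11, 18))) (.node (.node (.leaf (18, 27, 20)) (.leaf (11, 49, 44))) (.leaf (9, 84, 72))))))) (.node (.node (.node (.node (.node (.node (.leaf (3, 72, 48)) (.leaf (16, 78, 96))) (.node (.leaf (4, 9, 68)) (.leaf (7, 0, 52)))) (.node (.node (.leaf (12, 46, 5)) (.leaf (17, 106, 2))) (.leaf (4, 29, 8)))) (.node (.node (.node (.leaf (8, 73, 102)) (.leaf (2, 102, 56))) (.leaf (5, 61, 33))) (.node (.node (.leaf (10, 4, 89)) (.leaf (8, 106, 24))) (.leaf (10, 74, 19))))) (.node (.node (.node (.node (.leaf (16, 25, 25)) (.leaf (16, 108, 72))) (.leaf (8, 35, 74))) (.node (.node (.leaf (8, 74, 87)) (.leaf (11, 96, 9))) (.leaf (3, 14, 101)))) (.node (.node (.node (.leaf (11, 3, 18)) (.leaf (7, 22, 61))) (.leaf (14, 35, 29))) (.node (.node (.leaf (6, 13, 36)) (.leaf (12, 96, 73))) (.leaf (7, 98, 101)))))) (.node (.node (.node (.node (.node (.leaf (2, 44, 46))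 (.leaf (3, 100, 51))) (.node (.leaf (4, 61, 64)) (.leaf (10, 23, 9)))) (.node (.node (.leaf (14, 25, 27)) (.leaf (10, 81, 66))) (.leaf (7, 17, 93)))) (.node (.node (.node (.leaf (5, 84, 13)) (.leaf (4, 40, 102))) (.leaf (8, 53, 91))) (.node (.node (.leaf (3, 14, 41)) (.leaf (8, 8, 109))) (.leaf (7, 4, 50))))) (.node (.node (.node (.node (.leaf (2, 101, 32)) (.leaf (11, 32, 102))) (.leaf (10, 69, 67))) (.node (.node (.leaf (14, 35, 30)) (.leaf (16, 44, 10))) (.leaf (7, 96, 34)))) (.node (.node (.node (.leaf (3, 51, 102)) (.leaf (16, 97, 79))) (.leaf (16, 4, 40))) (.node (.node (.leaf (16, 97, 12)) (.leaf (14, 40, 1))) (.leaf (12, 94, 29))))))))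

def conjTab6 : Tree (ℕ × ℕ × ℕ) :=
  (.node (.node (.node (.node (.node (.node (.node (.leaf (3, 45, 25)) (.leaf (5, 75, 12))) (.node (.leaf (13, 80, 23)) (.leaf (4, 94, 94)))) (.node (.node (.leaf (10, 83, 8)) (.leaf (17, 25, 3))) (.leaf (16, 56, 103)))) (.node (.node (.node (.leaf (8, 89, 7)) (.leaf (15, 11, 22))) (.leaf (15, 25, 48))) (.node (.node (.leaf (14, 15, 36)) (.leaf (14, 39, 99))) (.leaf (12, 97, 2))))) (.node (.node (.node (.node (.leaf (8, 90, 25)) (.leaf (3, 97, 76))) (.leaf (10, 0, 45))) (.node (.node (.leaf (14, 40, 2)) (.leaf (10, 45, 55))) (.leaf (2, 59, 75)))) (.node (.node (.node (.leaf (16, 39, 68)) (.leaf (16, 33, 43))) (.leaf (4, 76, 82))) (.node (.node (.leaf (12, 79, 23)) (.leaf (18, 7, 1))) (.leaf (5, 74, 64)))))) (.node (.node (.node (.node (.node (.leaf (13, 0, 0)) (.leaf (3, 26, 83))) (.node (.leaf (4, 77, 30)) (.leaf (8, 60, 8)))) (.node (.node (.leaf (14, 84, 94)) (.leaf (3, 66, 17))) (.leaf (17, 38, 73)))) (.node (.node (.node (.leaf (16, 108, 102)) (.leaf (9, 6, 75))) (.leaf (13, 18, 24))) (.node (.node (.leaf (5, 48, 36)) (.leaf (2, 78, 31))) (.leaf (9, 38,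 48))))) (.node (.node (.node (.node (.leaf (16, 74, 28)) (.leaf (6, 47, 68))) (.leaf (5, 49, 65))) (.node (.node (.leaf (9, 18, 108)) (.leaf (17, 10, 71))) (.leaf (9, 106, 84)))) (.node (.node (.node (.leaf (2, 53, 77)) (.leaf (7, 103, 85))) (.leaf (2, 23, 34))) (.node (.node (.leaf (5, 3, 61)) (.leaf (9, 90, 88))) (.leaf (9, 102, 95))))))) (.node (.node (.node (.node (.node (.node (.leaf (6, 0, 90)) (.leaf (6, 79, 96))) (.node (.leaf (15, 17, 37)) (.leaf (6, 14, 87)))) (.node (.node (.leaf (4, 4, 63)) (.leaf (14, 94, 6))) (.leaf (12, 71, 14)))) (.node (.node (.node (.leaf (17, 0, 0)) (.leaf (5, 84, 63))) (.leaf (13, 48, 10))) (.node (.node (.leaf (4, 75, 28)) (.leaf (12, 26, 26))) (.leaf (7, 85, 89))))) (.node (.node (.node (.node (.leaf (15, 45, 25)) (.leaf (9, 85, 6))) (.leaf (16, 51, 61))) (.node (.node (.leaf (10, 20, 5)) (.leaf (10, 42, 65))) (.leaf (8, 88, 106)))) (.node (.node (.node (.leaf (4, 61, 91)) (.leaf (2, 18, 89))) (.leaf (17, 99, 72))) (.node (.node (.leaf (14, 0, 20)) (.leaf (11, 50, 22))) (.leaf (14, 72, 28)))))) (.node (.node (.node (.node (.node (.leaf (9, 16, 49)) (.leaf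 (3, 45, 50))) (.node (.leaf (15, 83, 11)) (.leaf (4, 44, 100)))) (.node (.node (.leaf (16, 1, 35)) (.leaf (14, 93, 37))) (.leaf (11, 64, 88)))) (.node (.node (.node (.leaf (14, 42, 56)) (.leaf (6, 90, 1))) (.leaf (9, 21, 89))) (.node (.node (.leaf (6, 58, 109)) (.leaf (8, 34, 61))) (.leaf (7, 34, 17))))) (.node (.node (.node (.node (.leaf (4, 60, 23)) (.leaf (9, 23, 19))) (.leaf (11, 55, 52))) (.node (.node (.leaf (16, 81, 100)) (.leaf (7, 63, 62))) (.leaf (3, 45, 95)))) (.node (.node (.node (.leaf (4, 69, 88)) (.leaf (11, 45, 77))) (.leaf (10, 12, 33))) (.node (.node (.leaf (6, 13, 33)) (.leaf (2, 98, 67))) (.leaf (15, 14, 23))))))))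

def conjTab7 : Tree (ℕ × ℕ × ℕ) :=
  (.node (.node (.node (.node (.node (.node (.node (.leaf (6, 0, 0)) (.leaf (12, 78, 33))) (.node (.leaf (15, 36, 55)) (.leaf (4, 90, 48)))) (.node (.node (.leaf (13, 75, 28)) (.leaf (4, 101, 86))) (.leaf (11, 101, 24)))) (.node (.node (.node (.leaf (16, 76, 32)) (.leaf (10, 53, 64))) (.leaf (3, 65, 42))) (.node (.node (.leaf (11, 79, 4)) (.leaf (15, 93, 65))) (.leaf (6, 98, 43))))) (.node (.node (.node (.node (.leaf (12, 77, 12)) (.leaf (9, 57, 70))) (.leaf (2, 53, 72))) (.node (.node (.leaf (11, 105, 75)) (.leaf (17, 95, 69))) (.leaf (4, 106, 58)))) (.node (.node (.node (.leaf (4, 65, 25)) (.leaf (16, 73, 77))) (.leaf (4, 62, 81))) (.node (.node (.leaf (8, 32, 73)) (.leaf (10, 1, 49))) (.leaf (5, 91, 42)))))) (.node (.node (.node (.node (.node (.leaf (12, 60, 98)) (.leaf (6, 24, 39))) (.node (.leaf (14, 99, 79)) (.leaf (14, 31, 67)))) (.node (.node (.leaf (14, 2, 91)) (.leaf (15, 96, 103))) (.leaf (11, 79, 51)))) (.node (.node (.node (.leaf (14, 7, 26)) (.leaf (14, 102, 90))) (.leaf (14, 101, 80))) (.node (.node (.leaf (5, 50, 34)) (.leaf (14, 65, 55))) (.leaf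 (10, 2, 105))))) (.node (.node (.node (.node (.leaf (3, 29, 91)) (.leaf (14, 60, 48))) (.leaf (10, 49, 93))) (.node (.node (.leaf (7, 90, 98)) (.leaf (8, 3, 80))) (.leaf (11, 23, 80)))) (.node (.node (.node (.leaf (14, 69, 59)) (.leaf (9, 79, 44))) (.leaf (10, 12, 27))) (.node (.node (.leaf (8, 90, 57)) (.leaf (7, 70, 106))) (.leaf (9, 52, 34))))))) (.node (.node (.node (.node (.node (.node (.leaf (2, 40, 103)) (.leaf (6, 66, 72))) (.node (.leaf (15, 104, 26)) (.leaf (9, 102, 87)))) (.node (.node (.leaf (15, 52, 58)) (.leaf (15, 54, 101))) (.leaf (6, 8, 74)))) (.node (.node (.node (.leaf (12, 46, 95)) (.leaf (12, 22, 94))) (.leaf (8, 77, 58))) (.node (.node (.leaf (9, 38, 43)) (.leaf (12, 29, 64))) (.leaf (18, 80, 8))))) (.node (.node (.node (.node (.leaf (14, 9, 11)) (.leaf (9, 103, 8))) (.leaf (16, 59, 19))) (.node (.node (.leaf (14, 8, 52)) (.leaf (7, 70, 9))) (.leaf (3, 29, 21)))) (.node (.node (.node (.leaf (7, 89, 11)) (.leaf (17, 99, 59))) (.leaf (7, 93, 30))) (.node (.node (.leaf (2, 53, 99)) (.leaf (15, 87, 108))) (.leaf (15, 74, 12)))))) (.node (.node (.node (.node (.node (.leaf (2,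 0, 20)) (.leaf (8, 30, 27))) (.node (.leaf (14, 71, 35)) (.leaf (17, 44, 64)))) (.node (.node (.leaf (14, 58, 85)) (.leaf (7, 102, 77))) (.leaf (15, 61, 97)))) (.node (.node (.node (.leaf (11, 88, 62)) (.leaf (2, 16, 88))) (.leaf (11, 30, 43))) (.node (.node (.leaf (9, 86, 51)) (.leaf (8, 69, 100))) (.leaf (12, 5, 16))))) (.node (.node (.node (.node (.leaf (8, 45, 90)) (.leaf (11, 24, 49))) (.leaf (9, 54, 96))) (.node (.node (.leaf (9, 65, 61)) (.leaf (14, 70, 4))) (.leaf (10, 100, 52)))) (.node (.node (.node (.leaf (15, 44, 92)) (.leaf (8, 78, 66))) (.leaf (11, 72, 87))) (.node (.node (.leaf (10, 56, 80)) (.leaf (9, 106, 24))) (.leaf (6, 28, 70))))))))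

def conjTab8 : Tree (ℕ × ℕ × ℕ) :=
  (.node (.node (.node (.node (.node (.node (.node (.leaf (7, 0, 0)) (.leaf (11, 42, 6))) (.node (.leaf (9, 64, 15)) (.leaf (14, 62, 60)))) (.node (.node (.leaf (8, 74, 97)) (.leaf (8, 21, 107))) (.leaf (8, 63, 4)))) (.node (.node (.node (.leaf (9, 102, 5)) (.leaf (7, 37, 74))) (.leaf (3, 0, 40))) (.node (.node (.leaf (17, 38, 40)) (.leaf (9, 75, 62))) (.leaf (15, 27, 80))))) (.node (.node (.node (.node (.leaf (16, 54, 33)) (.leaf (4, 105, 52))) (.leaf (9, 91, 4))) (.node (.node (.leaf (3, 15, 2)) (.leaf (18, 10, 3))) (.leaf (3, 89, 86)))) (.node (.node (.node (.leaf (2, 49, 74)) (.leaf (4, 21, 89))) (.leaf (5, 53, 31))) (.node (.node (.leaf (15, 47, 88)) (.leaf (3, 57, 13))) (.leaf (8, 84, 1)))))) (.node (.node (.node (.node (.node (.leaf (11, 45, 45)) (.leaf (7, 93, 10))) (.node (.leaf (12, 50, 71)) (.leaf (9, 89, 2)))) (.node (.node (.leaf (9, 16, 74)) (.leaf (7, 81, 55))) (.leaf (10, 2, 56)))) (.node (.node (.node (.leaf (2, 45, 5)) (.leaf (9, 10, 11))) (.leaf (5, 21, 69))) (.node (.node (.leaf (9, 100, 16)) (.leaf (3, 21, 66))) (.leaf (6, 60, 47))))) (.node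 (.node (.node (.node (.leaf (1, 38, 8)) (.leaf (12, 53, 78))) (.leaf (3, 63, 16))) (.node (.node (.leaf (16, 51, 101)) (.leaf (16, 21, 22))) (.leaf (10, 25, 70)))) (.node (.node (.node (.leaf (7, 34, 67)) (.leaf (16, 73, 50))) (.leaf (11, 31, 91))) (.node (.node (.leaf (4, 97, 16)) (.leaf (7, 94, 14))) (.leaf (3, 62, 31))))))) (.node (.node (.node (.node (.node (.node (.leaf (10, 78, 3)) (.leaf (6, 82, 100))) (.node (.leaf (11, 35, 96)) (.leaf (9, 44, 10)))) (.node (.node (.leaf (16, 98, 80)) (.leaf (15, 15, 46))) (.leaf (2, 10, 27)))) (.node (.node (.node (.leaf (15, 57, 60)) (.leaf (3, 71, 27))) (.leaf (10, 69, 44))) (.node (.node (.leaf (14, 13, 24)) (.leaf (4, 64, 22))) (.leaf (15, 67, 30))))) (.node (.node (.node (.node (.leaf (9, 77, 85)) (.leaf (13, 25, 26))) (.leaf (2, 27, 7))) (.node (.node (.leaf (7, 108, 103)) (.leaf (9, 74, 33))) (.leaf (8, 87, 38)))) (.node (.node (.node (.leaf (12, 22, 81)) (.leaf (6, 21, 64))) (.leaf (2, 20, 26))) (.node (.node (.leaf (11, 89, 10)) (.leaf (7, 91, 33))) (.leaf (15, 45, 93)))))) (.node (.node (.node (.node (.node (.leaf (11, 90, 5)) (.leaf (15, 33,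 49))) (.node (.leaf (13, 107, 27)) (.leaf (18, 96, 2)))) (.node (.node (.leaf (11, 0, 20)) (.leaf (3, 1, 3))) (.leaf (6, 23, 37)))) (.node (.node (.node (.leaf (3, 71, 107)) (.leaf (17, 71, 48))) (.leaf (11, 51, 109))) (.node (.node (.leaf (5, 64, 40)) (.leaf (14, 54, 47))) (.leaf (5, 47, 37))))) (.node (.node (.node (.node (.leaf (11, 88, 37)) (.leaf (18, 41, 27))) (.leaf (6, 46, 41))) (.node (.node (.leaf (11, 3, 68)) (.leaf (14, 16, 78))) (.leaf (14, 106, 21)))) (.node (.node (.node (.leaf (11, 85, 50)) (.leaf (17, 103, 65))) (.leaf (3, 80, 15))) (.node (.node (.leaf (6, 53, 51)) (.leaf (8, 93, 56))) (.leaf (15, 106, 2))))))))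

def conjTab9 : Tree (ℕ × ℕ × ℕ) :=
  (.node (.node (.node (.node (.node (.node (.node (.leaf (3, 3, 99)) (.leaf (4, 44, 109))) (.node (.leaf (4, 91, 66)) (.leaf (10, 52, 16)))) (.node (.node (.leaf (17, 72, 44)) (.leaf (3, 17, 100))) (.leaf (14, 18, 103)))) (.node (.node (.node (.leaf (2, 24, 71)) (.leaf (10, 26, 96))) (.leaf (9, 52, 12))) (.node (.node (.leaf (12, 35, 72)) (.leaf (10, 95, 99))) (.leaf (14, 100, 34))))) (.node (.node (.node (.node (.leaf (11, 42, 1)) (.leaf (9, 107, 39))) (.leaf (4, 79, 85))) (.node (.node (.leaf (15, 64, 67)) (.leaf (7, 0, 70))) (.leaf (12, 44, 62)))) (.node (.node (.node (.leaf (18, 7, 25)) (.leaf (17, 39, 60))) (.leaf (6, 82, 10))) (.node (.node (.leaf (1, 61, 1)) (.leaf (6, 0, 22))) (.leaf (10, 35, 107)))))) (.node (.node (.node (.node (.node (.leaf (1, 24, 4)) (.leaf (15, 74, 86))) (.node (.leaf (10, 68, 86)) (.leaf (8, 66, 76)))) (.node (.node (.leaf (15, 85, 68)) (.leaf (18, 19, 22))) (.leaf (6, 30, 65)))) (.node (.node (.node (.leaf (17, 44, 54)) (.leaf (11, 102, 76))) (.leaf (11, 42, 41))) (.node (.node (.leaf (3, 51, 22)) (.leaf (4, 55, 108))) (.leaf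 (12, 89, 80))))) (.node (.node (.node (.node (.leaf (4, 65, 5)) (.leaf (6, 41, 26))) (.leaf (11, 95, 86))) (.node (.node (.leaf (14, 5, 39)) (.leaf (14, 54, 33))) (.leaf (13, 51, 21)))) (.node (.node (.node (.leaf (10, 15, 28)) (.leaf (11, 106, 61))) (.leaf (4, 0, 40))) (.node (.node (.leaf (3, 33, 37)) (.leaf (12, 98, 27))) (.leaf (14, 91, 87))))))) (.node (.node (.node (.node (.node (.node (.leaf (11, 0, 0)) (.leaf (12, 101, 86))) (.node (.leaf (9, 52, 99)) (.leaf (3, 25, 93)))) (.node (.node (.leaf (7, 2, 68)) (.leaf (3, 16, 35))) (.leaf (3, 37, 6)))) (.node (.node (.node (.leaf (10, 24, 2)) (.leaf (15, 45, 43))) (.leaf (14, 3, 40))) (.node (.node (.leaf (3, 66, 67)) (.leaf (4, 21, 2))) (.leaf (6, 0, 40))))) (.node (.node (.node (.node (.leaf (16, 0, 5)) (.leaf (10, 76, 76))) (.leaf (16, 91, 67))) (.node (.node (.leaf (5, 81, 46)) (.leaf (10, 79, 73))) (.leaf (17, 1, 1)))) (.node (.node (.node (.leaf (9, 0, 20)) (.leaf (15, 0, 53))) (.leaf (11, 27, 69))) (.node (.node (.leaf (9, 44, 100)) (.leaf (6, 7, 54))) (.leaf (12, 58, 77)))))) (.node (.node (.node (.node (.node (.leaf (9, 62, 65)) (.leaf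 (3, 28, 79))) (.node (.leaf (5, 91, 68)) (.leaf (8, 96, 104)))) (.node (.node (.leaf (13, 11, 2)) (.leaf (11, 41, 74))) (.leaf (13, 72, 4)))) (.node (.node (.node (.leaf (6, 109, 89)) (.leaf (9, 90, 71))) (.leaf (15, 92, 4))) (.node (.node (.leaf (17, 81, 10)) (.leaf (4, 109, 49))) (.leaf (7, 15, 49))))) (.node (.node (.node (.node (.leaf (8, 0, 45)) (.leaf (12, 12, 24))) (.leaf (6, 76, 4))) (.node (.node (.leaf (11, 95, 46)) (.leaf (16, 42, 17))) (.leaf (11, 109, 3)))) (.node (.node (.node (.leaf (15, 35, 81)) (.leaf (15, 66, 35))) (.leaf (5, 108, 6))) (.node (.node (.leaf (9, 92, 103)) (.leaf (7, 76, 71))) (.leaf (14, 23, 107))))))))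

def conjTab10 : Tree (ℕ × ℕ × ℕ) :=
  (.node (.node (.node (.node (.node (.node (.node (.leaf (2, 76, 41)) (.leaf (3, 80, 65))) (.node (.leaf (14, 53, 42)) (.leaf (10, 5, 32)))) (.node (.node (.leaf (16, 34, 8)) (.leaf (10, 59, 68))) (.leaf (6, 69, 21)))) (.node (.node (.node (.leaf (12, 94, 19)) (.leaf (12, 29, 49))) (.leaf (4, 74, 4))) (.node (.node (.leaf (4, 11, 12)) (.leaf (9, 55, 93))) (.leaf (15, 68, 7))))) (.node (.node (.node (.node (.leaf (2, 94, 84)) (.leaf (3, 78, 10))) (.leaf (15, 11, 95))) (.node (.node (.leaf (3, 71, 77)) (.leaf (10, 97, 102))) (.leaf (9, 104, 17)))) (.node (.node (.node (.leaf (7, 90, 48)) (.leaf (11, 23, 60))) (.leaf (12, 25, 85))) (.node (.node (.leaf (8, 51, 35)) (.leaf (9, 105, 82))) (.leaf (4, 62, 47)))))) (.node (.node (.node (.node (.node (.leaf (14, 0, 0)) (.leaf (14, 26, 105))) (.node (.leaf (8, 34, 31)) (.leaf (7, 82, 32)))) (.node (.node (.leaf (6, 0, 77)) (.leaf (16, 36, 109))) (.leaf (2, 105, 101)))) (.node (.node (.node (.leaf (6, 59, 63)) (.leaf (12, 89, 28))) (.leaf (11, 57, 40))) (.node (.node (.leaf (5, 26, 60)) (.leaf (7, 82, 2))) (.leaf (16,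 52, 14))))) (.node (.node (.node (.node (.leaf (3, 51, 89)) (.leaf (16, 27, 94))) (.leaf (12, 73, 13))) (.node (.node (.leaf (12, 30, 30)) (.leaf (7, 20, 76))) (.leaf (11, 28, 15)))) (.node (.node (.node (.leaf (8, 51, 3)) (.leaf (16, 48, 65))) (.leaf (17, 11, 7))) (.node (.node (.leaf (9, 31, 69)) (.leaf (8, 88, 23))) (.leaf (3, 33, 63))))))) (.node (.node (.node (.node (.node (.node (.leaf (12, 0, 0)) (.leaf (6, 98, 19))) (.node (.leaf (6, 32, 108)) (.leaf (6, 23, 69)))) (.node (.node (.leaf (16, 78, 91)) (.leaf (2, 9, 96))) (.leaf (11, 48, 23)))) (.node (.node (.node (.leaf (3, 18, 12)) (.leaf (16, 37, 31))) (.leaf (12, 77, 92))) (.node (.node (.leaf (10, 69, 34)) (.leaf (7, 51, 21))) (.leaf (11, 18, 21))))) (.node (.node (.node (.node (.leaf (11, 101, 34)) (.leaf (15, 49, 16))) (.leaf (2, 24, 38))) (.node (.node (.leaf (7, 39, 4)) (.leaf (8, 41, 52))) (.leaf (8, 34, 101)))) (.node (.node (.node (.leaf (2, 95, 108)) (.leaf (18, 7, 5))) (.leaf (8, 56, 28))) (.node (.node (.leaf (11, 35, 85)) (.leaf (16, 61, 97))) (.leaf (15, 109, 15)))))) (.node (.node (.node (.node (.node (.leaf (16, 0, 0))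 (.leaf (12, 1, 91))) (.node (.leaf (14, 3, 5)) (.leaf (6, 19, 82)))) (.node (.node (.leaf (12, 95, 43)) (.leaf (4, 69, 38))) (.leaf (3, 1, 78)))) (.node (.node (.node (.leaf (9, 10, 81)) (.leaf (10, 1, 59))) (.leaf (14, 37, 101))) (.node (.node (.leaf (10, 97, 17)) (.leaf (14, 50, 32))) (.leaf (8, 10, 64))))) (.node (.node (.node (.node (.leaf (16, 52, 24)) (.leaf (15, 66, 72))) (.leaf (16, 12, 73))) (.node (.node (.leaf (12, 0, 97)) (.leaf (9, 74, 28))) (.leaf (2, 104, 100)))) (.node (.node (.node (.leaf (2, 42, 3)) (.leaf (2, 95, 58))) (.leaf (14, 66, 100))) (.node (.node (.leaf (15, 85, 8)) (.leaf (16, 43, 60))) (.leaf (11, 40, 8))))))))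

def conjTab11 : Tree (ℕ × ℕ × ℕ) :=
  (.node (.node (.node (.node (.node (.node (.node (.leaf (2, 45, 25)) (.leaf (6, 64, 71))) (.node (.leaf (17, 74, 56)) (.leaf (9, 91, 30)))) (.node (.node (.leaf (8, 102, 40)) (.leaf (2, 53, 22))) (.leaf (9, 55, 86)))) (.node (.node (.node (.leaf (5, 7, 30)) (.leaf (3, 53, 74))) (.leaf (16, 72, 88))) (.node (.node (.leaf (9, 50, 105)) (.leaf (14, 84, 84))) (.leaf (2, 93, 24))))) (.node (.node (.node (.node (.leaf (11, 51, 99)) (.leaf (6, 44, 11))) (.leaf (16, 0, 20))) (.node (.node (.leaf (3, 12, 68)) (.leaf (4, 95, 107))) (.leaf (14, 21, 61)))) (.node (.node (.node (.leaf (10, 102, 90)) (.leaf (18, 49, 4))) (.leaf (15, 20, 17))) (.node (.node (.leaf (6, 97, 23)) (.leaf (8, 63, 99))) (.leaf (5, 104, 10)))))) (.node (.node (.node (.node (.node (.leaf (7, 28, 81)) (.leaf (6, 46, 101))) (.node (.leaf (17, 83, 18)) (.leaf (6, 57, 97)))) (.node (.node (.leaf (8, 96, 85)) (.leaf (11, 10, 12))) (.leaf (8, 79, 96)))) (.node (.node (.node (.leaf (14, 25, 57)) (.leaf (14, 86, 38))) (.leaf (3, 50, 81))) (.node (.node (.leaf (14, 56, 89)) (.leaf (16, 53, 104))) (.leaf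 (12, 20, 102))))) (.node (.node (.node (.node (.leaf (16, 97, 41)) (.leaf (16, 43, 15))) (.leaf (18, 36, 29))) (.node (.node (.leaf (10, 15, 61)) (.leaf (17, 62, 5))) (.leaf (11, 81, 14)))) (.node (.node (.node (.leaf (17, 1, 55)) (.leaf (8, 94, 51))) (.leaf (14, 98, 98))) (.node (.node (.leaf (8, 46, 92)) (.leaf (6, 78, 46))) (.leaf (6, 15, 61))))))) (.node (.node (.node (.node (.node (.node (.leaf (9, 51, 64)) (.leaf (5, 10, 67))) (.node (.leaf (16, 20, 45)) (.leaf (14, 75, 53)))) (.node (.node (.leaf (3, 89, 28)) (.leaf (12, 20, 84))) (.leaf (11, 106, 84)))) (.node (.node (.node (.leaf (10, 11, 12)) (.leaf (6, 72, 56))) (.leaf (9, 54, 26))) (.node (.node (.leaf (16, 101, 49)) (.leaf (12, 102, 41))) (.leaf (2, 101, 2))))) (.node (.node (.node (.node (.leaf (3, 41, 34)) (.leaf (13, 41, 29))) (.leaf (15, 50, 100))) (.node (.node (.leaf (3, 98, 55)) (.leaf (17, 37, 17))) (.leaf (14, 46, 106)))) (.node (.node (.node (.leaf (13, 108, 6)) (.leaf (6, 59, 13))) (.leaf (6, 103, 27))) (.node (.node (.leaf (8, 103, 12)) (.leaf (3, 34, 7))) (.leaf (12, 34, 54)))))) (.node (.node (.node (.node (.node (.leaf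 (4, 25, 45)) (.leaf (8, 31, 19))) (.node (.leaf (16, 83, 84)) (.leaf (11, 87, 101)))) (.node (.node (.leaf (5, 105, 39)) (.leaf (4, 94, 29))) (.leaf (15, 96, 32)))) (.node (.node (.node (.leaf (5, 5, 4)) (.leaf (6, 32, 60))) (.leaf (3, 16, 56))) (.node (.node (.leaf (5, 54, 8)) (.leaf (3, 15, 82))) (.leaf (12, 43, 108))))) (.node (.node (.node (.node (.leaf (16, 45, 70)) (.leaf (8, 84, 60))) (.leaf (3, 64, 84))) (.node (.node (.leaf (3, 91, 11)) (.leaf (6, 76, 15))) (.leaf (6, 30, 80)))) (.node (.node (.node (.leaf (2, 7, 80)) (.leaf (15, 36, 19))) (.leaf (16, 0, 95))) (.node (.node (.leaf (17, 107, 12)) (.leaf (6, 47, 49))) (.leaf (12, 22, 53))))))))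

def conjTab12 : Tree (ℕ × ℕ × ℕ) :=
  (.node (.node (.node (.node (.node (.node (.node (.leaf (8, 0, 0)) (.leaf (4, 108, 24))) (.node (.leaf (2, 65, 82)) (.leaf (4, 5, 99)))) (.node (.node (.leaf (11, 32, 67)) (.leaf (7, 29, 46))) (.leaf (14, 67, 10)))) (.node (.node (.node (.leaf (12, 77, 42)) (.leaf (14, 49, 71))) (.leaf (2, 16, 30))) (.node (.node (.leaf (15, 80, 9)) (.leaf (14, 42, 68))) (.leaf (11, 52, 57))))) (.node (.node (.node (.node (.leaf (8, 80, 20)) (.leaf (15, 45, 62))) (.leaf (12, 24, 37))) (.node (.node (.leaf (14, 9, 23)) (.leaf (11, 37, 28))) (.leaf (7, 25, 75)))) (.node (.node (.node (.leaf (6, 22, 62)) (.leaf (11, 24, 106))) (.leaf (10, 87, 75))) (.node (.node (.leaf (11, 103, 48)) (.leaf (15, 24, 41))) (.leaf (12, 0, 82)))))) (.node (.node (.node (.node (.node (.leaf (2, 7, 40)) (.leaf (10, 24, 82))) (.node (.leaf (12, 43, 99)) (.leaf (16, 78, 27)))) (.node (.node (.leaf (14, 62, 44)) (.leaf (11, 59, 16))) (.leaf (8, 41, 98)))) (.node (.node (.node (.leaf (8, 33, 29)) (.leaf (7, 5, 1))) (.leaf (15, 54, 75))) (.node (.node (.leaf (4, 67, 42)) (.leaf (14, 13, 31))) (.leaf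 (10, 59, 18))))) (.node (.node (.node (.node (.leaf (2, 60, 98)) (.leaf (14, 68, 76))) (.leaf (8, 48, 47))) (.node (.node (.leaf (2, 61, 86)) (.leaf (2, 85, 33))) (.leaf (2, 83, 107)))) (.node (.node (.node (.leaf (3, 66, 97)) (.leaf (11, 16, 59))) (.leaf (17, 32, 67))) (.node (.node (.leaf (16, 37, 1)) (.leaf (4, 38, 77))) (.leaf (6, 38, 83))))))) (.node (.node (.node (.node (.node (.node (.leaf (9, 97, 40)) (.leaf (6, 24, 34))) (.node (.leaf (8, 74, 37)) (.leaf (15, 70, 34)))) (.node (.node (.leaf (10, 11, 42)) (.leaf (17, 49, 53))) (.leaf (3, 25, 43)))) (.node (.node (.node (.leaf (2, 40, 35)) (.leaf (8, 8, 9))) (.leaf (8, 80, 65))) (.node (.node (.leaf (2, 32, 23)) (.leaf (8, 83, 79))) (.leaf (12, 24, 59))))) (.node (.node (.node (.node (.leaf (15, 0, 90)) (.leaf (10, 3, 1))) (.leaf (7, 71, 65))) (.node (.node (.leaf (16, 62, 16)) (.leaf (9, 106, 42))) (.leaf (15, 94, 85)))) (.node (.node (.node (.leaf (8, 18, 44)) (.leaf (4, 14, 65))) (.leaf (15, 27, 52))) (.node (.node (.leaf (17, 97, 52)) (.leaf (7, 52, 60))) (.leaf (8, 47, 48)))))) (.node (.node (.node (.node (.node (.leaf (16, 79, 21))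 (.leaf (10, 63, 48))) (.leaf (7, 106, 41))) (.node (.node (.leaf (2, 56, 87)) (.leaf (4, 30, 106))) (.leaf (9, 38, 53)))) (.node (.node (.node (.leaf (1, 45, 5)) (.leaf (16, 1, 89))) (.leaf (2, 19, 66))) (.node (.node (.leaf (8, 24, 39)) (.leaf (16, 74, 23))) (.leaf (2, 69, 29))))) (.node (.node (.node (.node (.leaf (7, 34, 97)) (.leaf (2, 52, 78))) (.leaf (9, 6, 18))) (.node (.node (.leaf (12, 57, 34)) (.leaf (3, 32, 44))) (.leaf (10, 71, 4)))) (.node (.node (.node (.leaf (16, 63, 64)) (.leaf (10, 70, 54))) (.leaf (9, 105, 27))) (.node (.node (.leaf (11, 106, 66)) (.leaf (9, 38, 38))) (.leaf (9, 22, 14))))))))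

def conjTab13 : Tree (ℕ × ℕ × ℕ) :=
  (.node (.node (.node (.node (.node (.node (.node (.leaf (1, 29, 9)) (.leaf (7, 83, 72))) (.node (.leaf (10, 62, 72)) (.leaf (7, 69, 8)))) (.node (.node (.leaf (3, 61, 9)) (.leaf (8, 96, 13))) (.leaf (7, 53, 28)))) (.node (.node (.node (.leaf (16, 58, 87)) (.leaf (15, 89, 106))) (.leaf (14, 74, 104))) (.node (.node (.leaf (9, 77, 102)) (.leaf (14, 42, 58))) (.leaf (4, 109, 27))))) (.node (.node (.node (.node (.leaf (9, 60, 21)) (.leaf (14, 26, 15))) (.leaf (6, 12, 53))) (.node (.node (.leaf (8, 93, 21)) (.leaf (12, 1, 4))) (.leaf (9, 78, 63)))) (.node (.node (.node (.leaf (3, 51, 52)) (.leaf (12, 13, 55))) (.leaf (10, 2, 62))) (.node (.node (.leaf (6, 101, 81)) (.leaf (15, 80, 3))) (.leaf (18, 74, 23)))))) (.node (.node (.node (.node (.node (.leaf (15, 0, 0)) (.leaf (10, 47, 6))) (.node (.leaf (3, 12, 8)) (.leaf (12, 3, 21)))) (.node (.node (.leaf (10, 78, 53)) (.leaf (8, 39, 68))) (.leaf (11, 4, 81)))) (.node (.node (.node (.leaf (15, 66, 102)) (.leaf (6, 107, 86))) (.leaf (10, 59, 97))) (.node (.node (.leaf (4, 57, 18)) (.leaf (3, 59, 38))) (.leaf (17,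 13, 19))))) (.node (.node (.node (.node (.leaf (3, 45, 5)) (.leaf (11, 75, 65))) (.leaf (2, 36, 92))) (.node (.node (.leaf (3, 28, 104)) (.leaf (6, 24, 29))) (.leaf (12, 81, 46)))) (.node (.node (.node (.leaf (17, 68, 41)) (.leaf (12, 32, 104))) (.leaf (5, 39, 55))) (.node (.node (.leaf (10, 40, 57)) (.leaf (12, 6, 6))) (.leaf (11, 20, 47))))))) (.node (.node (.node (.node (.node (.node (.leaf (2, 45, 45)) (.leaf (16, 78, 11))) (.node (.leaf (15, 19, 69)) (.leaf (12, 33, 66)))) (.node (.node (.leaf (4, 61, 74)) (.leaf (10, 52, 100))) (.leaf (12, 80, 109)))) (.node (.node (.node (.leaf (15, 16, 50)) (.leaf (4, 62, 6))) (.leaf (4, 79, 46))) (.node (.node (.leaf (7, 11, 3)) (.leaf (14, 24, 97))) (.leaf (10, 10, 83))))) (.node (.node (.node (.node (.leaf (11, 106, 94)) (.leaf (18, 55, 9))) (.leaf (12, 77, 17))) (.node (.node (.leaf (9, 97, 60)) (.leaf (7, 104, 82))) (.leaf (10, 56, 85)))) (.node (.node (.node (.leaf (7, 38, 5)) (.leaf (14, 59, 109))) (.leaf (15, 94, 27))) (.node (.node (.leaf (6, 23, 59)) (.leaf (6, 57, 55))) (.leaf (16, 76, 2)))))) (.node (.node (.node (.node (.node (.leaf (7, 60,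 51)) (.leaf (9, 50, 13))) (.leaf (8, 81, 46))) (.node (.node (.leaf (8, 3, 108)) (.leaf (4, 56, 14))) (.leaf (11, 74, 103)))) (.node (.node (.node (.leaf (16, 37, 6)) (.leaf (4, 3, 3))) (.leaf (6, 88, 99))) (.node (.node (.leaf (12, 62, 60)) (.leaf (8, 26, 89))) (.leaf (14, 70, 69))))) (.node (.node (.node (.node (.leaf (10, 94, 88)) (.leaf (4, 40, 21))) (.leaf (15, 49, 54))) (.node (.node (.leaf (18, 64, 21)) (.leaf (11, 43, 83))) (.leaf (2, 53, 102)))) (.node (.node (.node (.leaf (11, 8, 105)) (.leaf (10, 59, 51))) (.leaf (15, 81, 87))) (.node (.node (.leaf (10, 15, 36)) (.leaf (3, 12, 106))) (.leaf (8, 82, 71))))))))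

def conjTab14 : Tree (ℕ × ℕ × ℕ) :=
  (.node (.node (.node (.node (.node (.node (.node (.leaf (3, 0, 90)) (.leaf (5, 85, 56))) (.node (.leaf (2, 57, 62)) (.leaf (4, 74, 7)))) (.node (.node (.leaf (12, 91, 15)) (.leaf (2, 86, 52))) (.leaf (16, 7, 3)))) (.node (.node (.node (.leaf (12, 78, 93)) (.leaf (8, 63, 49))) (.leaf (12, 17, 106))) (.node (.node (.leaf (16, 11, 38)) (.leaf (15, 85, 18))) (.leaf (11, 41, 71))))) (.node (.node (.node (.node (.leaf (5, 50, 54)) (.leaf (2, 41, 14))) (.leaf (15, 63, 51))) (.node (.node (.leaf (11, 74, 98)) (.leaf (14, 67, 17))) (.leaf (16, 73, 47)))) (.node (.node (.node (.leaf (6, 25, 5)) (.leaf (15, 23, 104))) (.leaf (12, 37, 39))) (.node (.node (.leaf (12, 42, 7)) (.leaf (12, 92, 36))) (.leaf (5, 35, 35)))))) (.node (.node (.node (.node (.node (.leaf (11, 70, 70)) (.leaf (16, 81, 46))) (.node (.leaf (14, 91, 93)) (.leaf (12, 6, 76)))) (.node (.node (.leaf (3, 3, 94)) (.leaf (15, 47, 98))) (.leaf (15, 105, 31)))) (.node (.node (.node (.leaf (7, 19, 37)) (.leaf (15, 89, 40))) (.leaf (14, 88, 54))) (.node (.node (.leaf (16, 16, 26)) (.leaf (9, 0, 68))) (.leaf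 (17, 54, 47))))) (.node (.node (.node (.node (.leaf (2, 22, 65)) (.leaf (10, 89, 24))) (.leaf (3, 27, 19))) (.node (.node (.leaf (7, 65, 56)) (.leaf (11, 107, 107))) (.leaf (2, 56, 9)))) (.node (.node (.node (.leaf (10, 92, 87)) (.leaf (7, 92, 58))) (.leaf (10, 66, 109))) (.node (.node (.leaf (18, 39, 28)) (.leaf (10, 95, 22))) (.leaf (2, 33, 63))))))) (.node (.node (.node (.node (.node (.node (.leaf (2, 61, 16)) (.leaf (6, 96, 42))) (.node (.leaf (12, 31, 22)) (.leaf (3, 31, 69)))) (.node (.node (.leaf (10, 83, 108)) (.leaf (2, 95, 55))) (.leaf (8, 97, 63)))) (.node (.node (.node (.leaf (16, 9, 54)) (.leaf (11, 74, 53))) (.leaf (16, 84, 9))) (.node (.node (.leaf (17, 74, 66)) (.leaf (14, 3, 72))) (.leaf (17, 103, 45))))) (.node (.node (.node (.node (.leaf (11, 79, 11)) (.leaf (3, 13, 64))) (.leaf (10, 74, 29))) (.node (.node (.leaf (9, 36, 36)) (.leaf (7, 15, 105))) (.leaf (7, 60, 86)))) (.node (.node (.node (.leaf (5, 0, 45)) (.leaf (6, 22, 32))) (.leaf (9, 109, 52))) (.node (.node (.leaf (7, 67, 88)) (.leaf (6, 24, 12))) (.leaf (8, 101, 77)))))) (.node (.node (.node (.node (.node (.leaf (3,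 25, 45)) (.leaf (3, 18, 49))) (.leaf (11, 29, 36))) (.node (.node (.leaf (9, 52, 109)) (.leaf (6, 100, 94))) (.leaf (8, 82, 10)))) (.node (.node (.node (.leaf (3, 44, 26)) (.leaf (4, 102, 55))) (.leaf (3, 81, 23))) (.node (.node (.leaf (10, 48, 13)) (.leaf (3, 12, 18))) (.leaf (9, 35, 23))))) (.node (.node (.node (.node (.leaf (4, 53, 95)) (.leaf (11, 53, 56))) (.leaf (7, 59, 39))) (.node (.node (.leaf (11, 51, 79)) (.leaf (10, 37, 95))) (.leaf (8, 93, 59)))) (.node (.node (.node (.leaf (9, 86, 91)) (.leaf (8, 87, 18))) (.leaf (6, 109, 52))) (.node (.node (.leaf (2, 8, 19)) (.leaf (10, 15, 15))) (.leaf (12, 109, 74))))))))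

def conjTab15 : Tree (ℕ × ℕ × ℕ) :=
  (.node (.node (.node (.node (.node (.node (.node (.leaf (6, 25, 25)) (.leaf (10, 97, 77))) (.node (.leaf (5, 43, 48)) (.leaf (2, 86, 76)))) (.node (.node (.leaf (16, 100, 58)) (.leaf (5, 47, 7))) (.leaf (10, 101, 50)))) (.node (.node (.node (.leaf (16, 104, 7)) (.leaf (15, 23, 94))) (.leaf (14, 60, 74))) (.node (.node (.leaf (4, 24, 32)) (.leaf (7, 19, 35))) (.leaf (10, 80, 39))))) (.node (.node (.node (.node (.leaf (3, 18, 92)) (.leaf (16, 23, 74))) (.leaf (11, 54, 35))) (.node (.node (.leaf (9, 51, 54)) (.leaf (15, 42, 83))) (.leaf (3, 26, 39)))) (.node (.node (.node (.leaf (5, 93, 66)) (.leaf (7, 1, 6))) (.leaf (12, 13, 38))) (.node (.node (.leaf (9, 39, 92)) (.leaf (11, 27, 31))) (.leaf (10, 54, 41)))))) (.node (.node (.node (.node (.node (.leaf (15, 98, 96)) (.leaf (6, 103, 107))) (.node (.leaf (4, 65, 57)) (.leaf (4, 98, 61)))) (.node (.node (.leaf (6, 74, 104)) (.leaf (6, 32, 50))) (.leaf (18, 58, 7)))) (.node (.node (.node (.leaf (9, 27, 104)) (.leaf (9, 49, 32))) (.leaf (2, 89, 39))) (.node (.node (.leaf (11, 66, 72)) (.leaf (17, 10, 62))) (.leaf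 (9, 4, 97))))) (.node (.node (.node (.node (.leaf (6, 107, 93)) (.leaf (7, 69, 109))) (.leaf (6, 85, 18))) (.node (.node (.leaf (11, 9, 73)) (.leaf (16, 64, 48))) (.leaf (4, 107, 19)))) (.node (.node (.node (.leaf (12, 44, 70)) (.leaf (16, 45, 78))) (.leaf (2, 39, 15))) (.node (.node (.leaf (3, 57, 73)) (.leaf (6, 106, 102))) (.leaf (10, 18, 71))))))) (.node (.node (.node (.node (.node (.node (.leaf (8, 54, 32)) (.leaf (11, 72, 42))) (.node (.leaf (10, 103, 63)) (.leaf (12, 49, 1)))) (.node (.node (.leaf (7, 57, 25)) (.leaf (3, 86, 58))) (.leaf (2, 52, 28)))) (.node (.node (.node (.leaf (2, 76, 81)) (.leaf (14, 46, 9))) (.leaf (7, 81, 24))) (.node (.node (.leaf (4, 7, 96)) (.leaf (4, 9, 101))) (.leaf (7, 84, 44))))) (.node (.node (.node (.node (.leaf (2, 105, 61)) (.leaf (6, 34, 95))) (.leaf (7, 106, 66))) (.node (.node (.leaf (7, 109, 92)) (.leaf (6, 21, 73))) (.leaf (14, 42, 63)))) (.node (.node (.node (.leaf (7, 55, 80)) (.leaf (9, 19, 73))) (.leaf (9, 90, 77))) (.node (.node (.leaf (4, 4, 13)) (.leaf (7, 7, 36))) (.leaf (12, 60, 103)))))) (.node (.node (.node (.node (.node (.leaf (12, 0,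 45)) (.leaf (17, 76, 50))) (.leaf (3, 100, 80))) (.node (.node (.leaf (10, 7, 92)) (.leaf (16, 27, 59))) (.leaf (6, 98, 84)))) (.node (.node (.node (.leaf (5, 29, 9)) (.leaf (6, 13, 28))) (.leaf (7, 48, 47))) (.node (.node (.leaf (11, 45, 25)) (.leaf (15, 28, 39))) (.leaf (16, 72, 75))))) (.node (.node (.node (.node (.leaf (12, 0, 65)) (.leaf (9, 70, 55))) (.leaf (15, 72, 38))) (.node (.node (.leaf (11, 48, 13)) (.leaf (10, 48, 46))) (.leaf (5, 0, 62)))) (.node (.node (.node (.leaf (12, 59, 67)) (.leaf (7, 38, 95))) (.leaf (14, 46, 66))) (.node (.node (.leaf (18, 99, 26)) (.leaf (6, 74, 17))) (.leaf (8, 15, 43))))))))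

def conjTab : Tree (ℕ × ℕ × ℕ) :=
  (.node (.node (.node (.node conjTab0 conjTab8) (.node conjTab4 conjTab12)) (.node (.node conjTab2 conjTab10) (.node conjTab6 conjTab14))) (.node (.node (.node conjTab1 conjTab9) (.node conjTab5 conjTab13)) (.node (.node conjTab3 conjTab11) (.node conjTab7 conjTab15))))

def classReps : List (ℕ) := [0, 1, 2, 3, 4, 5, 7, 8, 12, 16, 17, 25, 26, 38, 42, 45, 58, 150, 195]

def classPow0 : Tree (ℕ) :=
  (.node (.node (.node (.node (.node (.node (.node (.node (.leaf 6) (.leaf 15)) (.leaf 10)) (.node (.leaf 10) (.leaf 6))) (.node (.node (.leaf 11) (.leaf 6)) (.node (.leaf 6) (.leaf 7)))) (.node (.node (.node (.leaf 11) (.leaf 6)) (.node (.leaf 10) (.leaf 10))) (.node (.node (.leaf 10) (.leaf 7)) (.node (.leaf 10) (.leaf 19))))) (.node (.node (.node (.node (.leaf 10) (.leaf 6)) (.node (.leaf 10) (.leaf 19))) (.node (.node (.leaf 10) (.leaf 6)) (.node (.leaf 7) (.leaf 11)))) (.node (.node (.node (.leaf 6) (.leaf 15)) (.node (.leaf 15) (.leaf 10))) (.node (.node (.leaf 7) (.leaf 11)) (.node (.leaf 11) (.leaf 19)))))) (.node (.node (.node (.node (.node (.node (.leaf 10)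 (.leaf 19)) (.leaf 6)) (.node (.leaf 11) (.leaf 6))) (.node (.node (.leaf 15) (.leaf 19)) (.node (.leaf 6) (.leaf 10)))) (.node (.node (.node (.leaf 10) (.leaf 6)) (.node (.leaf 6) (.leaf 10))) (.node (.node (.leaf 7) (.leaf 10)) (.node (.leaf 10) (.leaf 10))))) (.node (.node (.node (.node (.leaf 10) (.leaf 10)) (.node (.leaf 7) (.leaf 6))) (.node (.node (.leaf 11) (.leaf 7)) (.node (.leaf 10) (.leaf 19)))) (.node (.node (.node (.leaf 6) (.leaf 15)) (.node (.leaf 6) (.leaf 19))) (.node (.node (.leaf 11) (.leaf 6)) (.node (.leaf 6) (.leaf 6))))))) (.node (.node (.node (.node (.node (.node (.node (.leaf 10) (.leaf 15)) (.leaf 15)) (.node (.leaf 7) (.leaf 15))) (.node (.node (.leaf 19) (.leaf 6)) (.node (.leaf 7) (.leaf 7)))) (.node (.node (.node (.leaf 11) (.leaf 15)) (.node (.leaf 10) (.leaf 11))) (.node (.node (.leaf 19) (.leaf 6)) (.node (.leaf 7) (.leaf 7))))) (.node (.node (.node (.node (.leaf 11) (.leaf 10)) (.node (.leaf 6) (.leaf 7))) (.node (.node (.leaf 15) (.leaf 10)) (.node (.leaf 10) (.leaf 10)))) (.node (.node (.node (.leaf 6) (.leaf 15)) (.node (.leaf 10) (.leaf 6))) (.node (.node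 (.leaf 10) (.leaf 10)) (.node (.leaf 7) (.leaf 19)))))) (.node (.node (.node (.node (.node (.leaf 10) (.leaf 19)) (.node (.leaf 7) (.leaf 11))) (.node (.node (.leaf 6) (.leaf 6)) (.node (.leaf 15) (.leaf 15)))) (.node (.node (.node (.leaf 19) (.leaf 10)) (.node (.leaf 10) (.leaf 11))) (.node (.node (.leaf 10) (.leaf 10)) (.node (.leaf 6) (.leaf 10))))) (.node (.node (.node (.node (.leaf 11) (.leaf 10)) (.node (.leaf 10) (.leaf 15))) (.node (.node (.leaf 11) (.leaf 15)) (.node (.leaf 11) (.leaf 15)))) (.node (.node (.node (.leaf 6) (.leaf 10)) (.node (.leaf 10) (.leaf 7))) (.node (.node (.leaf 15) (.leaf 6)) (.node (.leaf 15) (.leaf 7))))))))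

def classPow1 : Tree (ℕ) :=
  (.node (.node (.node (.node (.node (.node (.node (.node (.leaf 10) (.leaf 6)) (.leaf 19)) (.node (.leaf 19) (.leaf 19))) (.node (.node (.leaf 11) (.leaf 19)) (.node (.leaf 15) (.leaf 7)))) (.node (.node (.node (.leaf 6) (.leaf 6)) (.node (.leaf 6) (.leaf 6))) (.node (.node (.leaf 15) (.leaf 11)) (.node (.leaf 6) (.leaf 15))))) (.node (.node (.node (.node (.leaf 6) (.leaf 11)) (.node (.leaf 7) (.leaf 7))) (.node (.node (.leaf 10) (.leaf 10)) (.node (.leaf 10) (.leaf 10)))) (.node (.node (.node (.leaf 6) (.leaf 10)) (.node (.leaf 19) (.leaf 10))) (.node (.node (.leaf 10) (.leaf 19)) (.node (.leaf 6) (.leaf 7)))))) (.node (.node (.node (.node (.node (.node (.leaf 10) (.leaf 15)) (.leaf 10)) (.node (.leaf 6) (.leaf 19))) (.node (.node (.leaf 10) (.leaf 10)) (.node (.leaf 6) (.leaf 19)))) (.node (.node (.node (.leaf 19) (.leaf 19)) (.node (.leaf 19) (.leaf 19))) (.node (.node (.leaf 6) (.leaf 19)) (.node (.leaf 6) (.leaf 7))))) (.node (.node (.node (.node (.leaf 10) (.leaf 10)) (.node (.leaf 19) (.leaf 10))) (.node (.node (.leaf 7) (.leaf 10)) (.node (.leaf 11) (.leaf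 6)))) (.node (.node (.node (.leaf 10) (.leaf 6)) (.node (.leaf 11) (.leaf 19))) (.node (.node (.leaf 6) (.leaf 11)) (.node (.leaf 6) (.leaf 10))))))) (.node (.node (.node (.node (.node (.node (.node (.leaf 10) (.leaf 10)) (.leaf 10)) (.node (.leaf 7) (.leaf 10))) (.node (.node (.leaf 10) (.leaf 6)) (.node (.leaf 15) (.leaf 11)))) (.node (.node (.node (.leaf 19) (.leaf 7)) (.node (.leaf 19) (.leaf 10))) (.node (.node (.leaf 10) (.leaf 7)) (.node (.leaf 11) (.leaf 15))))) (.node (.node (.node (.node (.leaf 10) (.leaf 11)) (.node (.leaf 7) (.leaf 11))) (.node (.node (.leaf 19) (.leaf 6)) (.node (.leaf 6) (.leaf 10)))) (.node (.node (.node (.leaf 19) (.leaf 11)) (.node (.leaf 10) (.leaf 11))) (.node (.node (.leaf 7) (.leaf 7)) (.node (.leaf 19) (.leaf 15)))))) (.node (.node (.node (.node (.node (.leaf 10) (.leaf 10)) (.node (.leaf 19) (.leaf 10))) (.node (.node (.leaf 10) (.leaf 19)) (.node (.leaf 15) (.leaf 11)))) (.node (.node (.node (.leaf 6) (.leaf 6)) (.node (.leaf 19) (.leaf 10))) (.node (.node (.leaf 19) (.leaf 19)) (.node (.leaf 10) (.leaf 6))))) (.node (.node (.node (.node (.leaf 19) (.leaf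 19)) (.node (.leaf 7) (.leaf 6))) (.node (.node (.leaf 15) (.leaf 7)) (.node (.leaf 7) (.leaf 10)))) (.node (.node (.node (.leaf 7) (.leaf 10)) (.node (.leaf 11) (.leaf 6))) (.node (.node (.leaf 15) (.leaf 10)) (.node (.leaf 10) (.leaf 6))))))))

def classPow2 : Tree (ℕ) :=
  (.node (.node (.node (.node (.node (.node (.node (.node (.leaf 10) (.leaf 19)) (.leaf 6)) (.node (.leaf 15) (.leaf 10))) (.node (.node (.leaf 15) (.leaf 10)) (.node (.leaf 10) (.leaf 10)))) (.node (.node (.node (.leaf 6) (.leaf 6)) (.node (.leaf 6) (.leaf 15))) (.node (.node (.leaf 6) (.leaf 19)) (.node (.leaf 15) (.leaf 6))))) (.node (.node (.node (.node (.leaf 10) (.leaf 7)) (.node (.leaf 10) (.leaf 11))) (.node (.node (.leaf 19) (.leaf 10)) (.node (.leaf 6) (.leaf 10)))) (.node (.node (.node (.leaf 10) (.leaf 6)) (.node (.leaf 19) (.leaf 10))) (.node (.node (.leaf 6) (.leaf 11)) (.node (.leaf 10) (.leaf 6)))))) (.node (.node (.node (.node (.node (.node (.leaf 10) (.leaf 19)) (.leaf 15)) (.node (.leaf 6) (.leaf 15))) (.node (.node (.leaf 10) (.leaf 19)) (.node (.leaf 7) (.leaf 10)))) (.node (.node (.node (.leaf 7) (.leaf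 19)) (.node (.leaf 19) (.leaf 19))) (.node (.node (.leaf 6) (.leaf 10)) (.node (.leaf 19) (.leaf 19))))) (.node (.node (.node (.node (.leaf 10) (.leaf 19)) (.node (.leaf 15) (.leaf 19))) (.node (.node (.leaf 7) (.leaf 10)) (.node (.leaf 6) (.leaf 19)))) (.node (.node (.node (.leaf 10) (.leaf 10)) (.node (.leaf 6) (.leaf 10))) (.node (.node (.leaf 11) (.leaf 10)) (.node (.leaf 7) (.leaf 15))))))) (.node (.node (.node (.node (.node (.node (.node (.leaf 10) (.leaf 6)) (.leaf 19)) (.node (.leaf 6) (.leaf 6))) (.node (.node (.leaf 11) (.leaf 19)) (.node (.leaf 15) (.leaf 10)))) (.node (.node (.node (.leaf 11) (.leaf 7)) (.node (.leaf 10) (.leaf 7))) (.node (.node (.leaf 15) (.leaf 15)) (.node (.leaf 15) (.leaf 10))))) (.node (.node (.node (.node (.leaf 10) (.leaf 6)) (.node (.leaf 7) (.leaf 10))) (.node (.node (.leaf 11) (.leaf 15)) (.node (.leaf 10) (.leaf 15)))) (.node (.node (.node (.leaf 19) (.leaf 10)) (.node (.leaf 11) (.leaf 10))) (.node (.node (.leaf 6) (.leaf 6)) (.node (.leaf 19) (.leaf 7)))))) (.node (.node (.node (.node (.node (.leaf 11) (.leaf 10)) (.node (.leaf 10) (.leaf 10))) (.node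 (.node (.leaf 15) (.leaf 6)) (.node (.leaf 19) (.leaf 6)))) (.node (.node (.node (.leaf 19) (.leaf 19)) (.node (.leaf 11) (.leaf 7))) (.node (.node (.leaf 7) (.leaf 6)) (.node (.leaf 15) (.leaf 7))))) (.node (.node (.node (.node (.leaf 19) (.leaf 6)) (.node (.leaf 6) (.leaf 10))) (.node (.node (.leaf 19) (.leaf 15)) (.node (.leaf 6) (.leaf 10)))) (.node (.node (.node (.leaf 10) (.leaf 10)) (.node (.leaf 15) (.leaf 6))) (.node (.node (.leaf 19) (.leaf 10)) (.node (.leaf 11) (.leaf 15))))))))

def classPow3 : Tree (ℕ) :=
  (.node (.node (.node (.node (.node (.node (.node (.node (.leaf 10) (.leaf 15)) (.leaf 19)) (.node (.leaf 15) (.leaf 19))) (.node (.node (.leaf 7) (.leaf 10)) (.node (.leaf 10) (.leaf 10)))) (.node (.node (.node (.leaf 19) (.leaf 19)) (.node (.leaf 7) (.leaf 15))) (.node (.node (.leaf 10) (.leaf 6)) (.node (.leaf 6) (.leaf 7))))) (.node (.node (.node (.node (.leaf 10) (.leaf 19)) (.node (.leaf 15) (.leaf 6))) (.node (.node (.leaf 10) (.leaf 10)) (.node (.leaf 7) (.leaf 10)))) (.node (.node (.node (.leaf 19) (.leaf 10)) (.node (.leaf 10) (.leaf 7))) (.node (.node (.leaf 6) (.leaf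 10)) (.node (.leaf 15) (.leaf 10)))))) (.node (.node (.node (.node (.node (.node (.leaf 6) (.leaf 6)) (.leaf 11)) (.node (.leaf 19) (.leaf 6))) (.node (.node (.leaf 19) (.leaf 19)) (.node (.leaf 11) (.leaf 15)))) (.node (.node (.node (.leaf 6) (.leaf 6)) (.node (.leaf 10) (.leaf 7))) (.node (.node (.leaf 6) (.leaf 7)) (.node (.leaf 10) (.leaf 7))))) (.node (.node (.node (.node (.leaf 10) (.leaf 19)) (.node (.leaf 10) (.leaf 10))) (.node (.node (.leaf 6) (.leaf 7)) (.node (.leaf 7) (.leaf 10)))) (.node (.node (.node (.leaf 10) (.leaf 10)) (.node (.leaf 19) (.leaf 15))) (.node (.node (.leaf 19) (.leaf 10)) (.node (.leaf 10) (.leaf 7))))))) (.node (.node (.node (.node (.node (.node (.node (.leaf 10) (.leaf 10)) (.leaf 11)) (.node (.leaf 6) (.leaf 6))) (.node (.node (.leaf 11) (.leaf 6)) (.node (.leaf 6) (.leaf 10)))) (.node (.node (.node (.leaf 15) (.leaf 7)) (.node (.leaf 10) (.leaf 15))) (.node (.node (.leaf 10) (.leaf 10)) (.node (.leaf 15) (.leaf 11))))) (.node (.node (.node (.node (.leaf 10) (.leaf 11)) (.node (.leaf 7) (.leaf 15))) (.node (.node (.leaf 10) (.leaf 6)) (.node (.leaf 10) (.leaf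 19)))) (.node (.node (.node (.leaf 15) (.leaf 19)) (.node (.leaf 10) (.leaf 10))) (.node (.node (.leaf 10) (.leaf 15)) (.node (.leaf 10) (.leaf 6)))))) (.node (.node (.node (.node (.node (.leaf 10) (.leaf 10)) (.node (.leaf 7) (.leaf 15))) (.node (.node (.leaf 7) (.leaf 6)) (.node (.leaf 11) (.leaf 11)))) (.node (.node (.node (.leaf 15) (.leaf 19)) (.node (.leaf 10) (.leaf 11))) (.node (.node (.leaf 15) (.leaf 11)) (.node (.leaf 19) (.leaf 10))))) (.node (.node (.node (.node (.leaf 19) (.leaf 19)) (.node (.leaf 11) (.leaf 15))) (.node (.node (.leaf 15) (.leaf 6)) (.node (.leaf 15) (.leaf 15)))) (.node (.node (.node (.leaf 19) (.leaf 6)) (.node (.leaf 7) (.leaf 19))) (.node (.node (.leaf 10) (.leaf 6)) (.node (.leaf 11) (.leaf 15))))))))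

def classPow4 : Tree (ℕ) :=
  (.node (.node (.node (.node (.node (.node (.node (.node (.leaf 10) (.leaf 7)) (.leaf 10)) (.node (.leaf 7) (.leaf 10))) (.node (.node (.leaf 19) (.leaf 6)) (.node (.leaf 7) (.leaf 10)))) (.node (.node (.node (.leaf 19) (.leaf 15)) (.node (.leaf 19) (.leaf 19))) (.node (.node (.leaf 15) (.leaf 6)) (.node (.leaf 10) (.leaf 19))))) (.node (.node (.node (.node (.leaf 10) (.leaf 7)) (.node (.leaf 15) (.leaf 15))) (.node (.node (.leaf 11) (.leaf 15)) (.node (.leaf 19) (.leaf 15)))) (.node (.node (.node (.leaf 19) (.leaf 7)) (.node (.leaf 10) (.leaf 15))) (.node (.node (.leaf 7) (.leaf 10)) (.node (.leaf 6) (.leaf 15)))))) (.node (.node (.node (.node (.node (.node (.leaf 10) (.leaf 19)) (.leaf 6)) (.node (.leaf 15) (.leaf 6))) (.node (.node (.leaf 6) (.leaf 10)) (.node (.leaf 6) (.leaf 10)))) (.node (.node (.node (.leaf 6) (.leaf 15)) (.node (.leaf 10) (.leaf 11))) (.node (.node (.leaf 10) (.leaf 6)) (.node (.leaf 15) (.leaf 10))))) (.node (.node (.node (.node (.leaf 11) (.leaf 15)) (.node (.leaf 10) (.leaf 7))) (.node (.node (.leaf 7) (.leaf 7)) (.node (.leaf 10) (.leaf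 7)))) (.node (.node (.node (.leaf 19) (.leaf 19)) (.node (.leaf 19) (.leaf 15))) (.node (.node (.leaf 6) (.leaf 11)) (.node (.leaf 6) (.leaf 7))))))) (.node (.node (.node (.node (.node (.node (.node (.leaf 11) (.leaf 19)) (.leaf 15)) (.node (.leaf 7) (.leaf 10))) (.node (.node (.leaf 19) (.leaf 7)) (.node (.leaf 10) (.leaf 10)))) (.node (.node (.node (.leaf 10) (.leaf 19)) (.node (.leaf 7) (.leaf 6))) (.node (.node (.leaf 15) (.leaf 10)) (.node (.leaf 10) (.leaf 19))))) (.node (.node (.node (.node (.leaf 10) (.leaf 15)) (.node (.leaf 10) (.leaf 7))) (.node (.node (.leaf 15) (.leaf 15)) (.node (.leaf 6) (.leaf 7)))) (.node (.node (.node (.leaf 6) (.leaf 7)) (.node (.leaf 6) (.leaf 6))) (.node (.node (.leaf 11) (.leaf 11)) (.node (.leaf 10) (.leaf 15)))))) (.node (.node (.node (.node (.node (.leaf 10) (.leaf 11)) (.node (.leaf 15) (.leaf 7))) (.node (.node (.leaf 7) (.leaf 19)) (.node (.leaf 10) (.leaf 15)))) (.node (.node (.node (.leaf 19) (.leaf 19)) (.node (.leaf 6) (.leaf 10))) (.node (.node (.leaf 15) (.leaf 10)) (.node (.leaf 7) (.leaf 11))))) (.node (.node (.node (.node (.leaf 11) (.leaf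 19)) (.node (.leaf 7) (.leaf 10))) (.node (.node (.leaf 6) (.leaf 15)) (.node (.leaf 15) (.leaf 19)))) (.node (.node (.node (.leaf 15) (.leaf 6)) (.node (.leaf 15) (.leaf 10))) (.node (.node (.leaf 6) (.leaf 10)) (.node (.leaf 7) (.leaf 6))))))))

def classPow5 : Tree (ℕ) :=
  (.node (.node (.node (.node (.node (.node (.node (.node (.leaf 6) (.leaf 7)) (.leaf 6)) (.node (.leaf 15) (.leaf 6))) (.node (.node (.leaf 7) (.leaf 10)) (.node (.leaf 10) (.leaf 19)))) (.node (.node (.node (.leaf 19) (.leaf 10)) (.node (.leaf 7) (.leaf 10))) (.node (.node (.leaf 19) (.leaf 6)) (.node (.leaf 7) (.leaf 6))))) (.node (.node (.node (.node (.leaf 10) (.leaf 7)) (.node (.leaf 7) (.leaf 10))) (.node (.node (.leaf 10) (.leaf 6)) (.node (.leaf 6) (.leaf 6)))) (.node (.node (.node (.leaf 19) (.leaf 6)) (.node (.leaf 10) (.leaf 7))) (.node (.node (.leaf 19) (.leaf 10)) (.node (.leaf 11) (.leaf 6)))))) (.node (.node (.node (.node (.node (.node (.leaf 10) (.leaf 10)) (.leaf 10)) (.node (.leaf 11) (.leaf 10))) (.node (.node (.leaf 11) (.leaf 15)) (.node (.leaf 15) (.leaf 19)))) (.node (.node (.node (.leaf 6) (.leaf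 10)) (.node (.leaf 10) (.leaf 15))) (.node (.node (.leaf 10) (.leaf 15)) (.node (.leaf 10) (.leaf 7))))) (.node (.node (.node (.node (.leaf 10) (.leaf 7)) (.node (.leaf 6) (.leaf 6))) (.node (.node (.leaf 7) (.leaf 11)) (.node (.leaf 19) (.leaf 10)))) (.node (.node (.node (.leaf 19) (.leaf 6)) (.node (.leaf 6) (.leaf 10))) (.node (.node (.leaf 19) (.leaf 6)) (.node (.leaf 19) (.leaf 15))))))) (.node (.node (.node (.node (.node (.node (.node (.leaf 10) (.leaf 15)) (.leaf 11)) (.node (.leaf 11) (.leaf 19))) (.node (.node (.leaf 6) (.leaf 6)) (.node (.leaf 6) (.leaf 19)))) (.node (.node (.node (.leaf 19) (.leaf 10)) (.node (.leaf 11) (.leaf 11))) (.node (.node (.leaf 10) (.leaf 10)) (.node (.leaf 6) (.leaf 6))))) (.node (.node (.node (.node (.leaf 6) (.leaf 7)) (.node (.leaf 10) (.leaf 15))) (.node (.node (.leaf 6) (.leaf 19)) (.node (.leaf 19) (.leaf 6)))) (.node (.node (.node (.leaf 15) (.leaf 10)) (.node (.leaf 7) (.leaf 15))) (.node (.node (.leaf 6) (.leaf 10)) (.node (.leaf 19) (.leaf 7)))))) (.node (.node (.node (.node (.node (.leaf 10) (.leaf 15)) (.node (.leaf 6) (.leaf 19))) (.node (.node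 (.leaf 19) (.leaf 10)) (.node (.leaf 7) (.leaf 6)))) (.node (.node (.node (.leaf 6) (.leaf 15)) (.node (.leaf 6) (.leaf 10))) (.node (.node (.leaf 7) (.leaf 6)) (.node (.leaf 10) (.leaf 6))))) (.node (.node (.node (.node (.leaf 6) (.leaf 7)) (.node (.leaf 10) (.leaf 6))) (.node (.node (.leaf 10) (.leaf 7)) (.node (.leaf 10) (.leaf 15)))) (.node (.node (.node (.leaf 7) (.leaf 19)) (.node (.leaf 6) (.leaf 7))) (.node (.node (.leaf 10) (.leaf 19)) (.node (.leaf 6) (.leaf 7))))))))

def classPow6 : Tree (ℕ) :=
  (.node (.node (.node (.node (.node (.node (.node (.node (.leaf 10) (.leaf 19)) (.leaf 19)) (.node (.leaf 15) (.leaf 10))) (.node (.node (.leaf 10) (.leaf 19)) (.node (.leaf 11) (.leaf 10)))) (.node (.node (.node (.leaf 10) (.leaf 6)) (.node (.leaf 19) (.leaf 10))) (.node (.node (.leaf 6) (.leaf 19)) (.node (.leaf 10) (.leaf 11))))) (.node (.node (.node (.node (.leaf 11) (.leaf 11)) (.node (.leaf 19) (.leaf 15))) (.node (.node (.leaf 10) (.leaf 15)) (.node (.leaf 6) (.leaf 10)))) (.node (.node (.node (.leaf 7) (.leaf 19)) (.node (.leaf 15) (.leaf 19))) (.node (.node (.leaf 15) (.leaf 6)) (.node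 (.leaf 6) (.leaf 19)))))) (.node (.node (.node (.node (.node (.node (.leaf 10) (.leaf 6)) (.leaf 15)) (.node (.leaf 10) (.leaf 10))) (.node (.node (.leaf 10) (.leaf 10)) (.node (.leaf 15) (.leaf 19)))) (.node (.node (.node (.leaf 7) (.leaf 19)) (.node (.leaf 10) (.leaf 11))) (.node (.node (.leaf 10) (.leaf 6)) (.node (.leaf 6) (.leaf 7))))) (.node (.node (.node (.node (.leaf 10) (.leaf 6)) (.node (.leaf 19) (.leaf 11))) (.node (.node (.leaf 11) (.leaf 7)) (.node (.leaf 15) (.leaf 10)))) (.node (.node (.node (.leaf 7) (.leaf 10)) (.node (.leaf 7) (.leaf 10))) (.node (.node (.leaf 15) (.leaf 11)) (.node (.leaf 6) (.leaf 10))))))) (.node (.node (.node (.node (.node (.node (.node (.leaf 10) (.leaf 10)) (.leaf 10)) (.node (.leaf 10) (.leaf 7))) (.node (.node (.leaf 7) (.leaf 10)) (.node (.leaf 6) (.leaf 7)))) (.node (.node (.node (.leaf 6) (.leaf 10)) (.node (.leaf 6) (.leaf 7))) (.node (.node (.leaf 10) (.leaf 10)) (.node (.leaf 6) (.leaf 7))))) (.node (.node (.node (.node (.leaf 10) (.leaf 15)) (.node (.leaf 15) (.leaf 10))) (.node (.node (.leaf 19) (.leaf 7)) (.node (.leaf 19) (.leaf 19)))) (.node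 (.node (.node (.leaf 19) (.leaf 15)) (.node (.leaf 7) (.leaf 15))) (.node (.node (.leaf 11) (.leaf 6)) (.node (.leaf 6) (.leaf 6)))))) (.node (.node (.node (.node (.node (.leaf 10) (.leaf 11)) (.node (.leaf 19) (.leaf 7))) (.node (.node (.leaf 10) (.leaf 10)) (.node (.leaf 6) (.leaf 10)))) (.node (.node (.node (.leaf 19) (.leaf 7)) (.node (.leaf 19) (.leaf 6))) (.node (.node (.leaf 19) (.leaf 10)) (.node (.leaf 7) (.leaf 10))))) (.node (.node (.node (.node (.leaf 7) (.leaf 15)) (.node (.leaf 7) (.leaf 7))) (.node (.node (.leaf 6) (.leaf 15)) (.node (.leaf 19) (.leaf 10)))) (.node (.node (.node (.leaf 11) (.leaf 10)) (.node (.leaf 7) (.leaf 19))) (.node (.node (.leaf 15) (.leaf 6)) (.node (.leaf 6) (.leaf 15))))))))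

def classPow7 : Tree (ℕ) :=
  (.node (.node (.node (.node (.node (.node (.node (.node (.leaf 10) (.leaf 7)) (.leaf 7)) (.node (.leaf 6) (.leaf 15))) (.node (.node (.leaf 19) (.leaf 7)) (.node (.leaf 19) (.leaf 6)))) (.node (.node (.node (.leaf 6) (.leaf 10)) (.node (.leaf 6) (.leaf 11))) (.node (.node (.leaf 15) (.leaf 15)) (.node (.leaf 15) (.leaf 10))))) (.node (.node (.node (.node (.leaf 10) (.leaf 19)) (.node (.leaf 19) (.leaf 15))) (.node (.node (.leaf 15) (.leaf 10)) (.node (.leaf 10) (.leaf 10)))) (.node (.node (.node (.leaf 19) (.leaf 10)) (.node (.leaf 10) (.leaf 10))) (.node (.node (.leaf 15) (.leaf 10)) (.node (.leaf 10) (.leaf 15)))))) (.node (.node (.node (.node (.node (.node (.leaf 10) (.leaf 15)) (.leaf 15)) (.node (.leaf 11) (.leaf 6))) (.node (.node (.leaf 19) (.leaf 11)) (.node (.leaf 10) (.leaf 6)))) (.node (.node (.node (.leaf 19) (.leaf 15)) (.node (.leaf 11) (.leaf 10))) (.node (.node (.leaf 19) (.leaf 19)) (.node (.leaf 10) (.leaf 6))))) (.node (.node (.node (.node (.leaf 10) (.leaf 7)) (.node (.leaf 19) (.leaf 10))) (.node (.node (.leaf 7) (.leaf 6)) (.node (.leaf 6)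 (.leaf 7)))) (.node (.node (.node (.leaf 19) (.leaf 19)) (.node (.leaf 6) (.leaf 7))) (.node (.node (.leaf 6) (.leaf 19)) (.node (.leaf 6) (.leaf 6))))))) (.node (.node (.node (.node (.node (.node (.node (.leaf 10) (.leaf 15)) (.leaf 7)) (.node (.leaf 10) (.leaf 11))) (.node (.node (.leaf 11) (.leaf 15)) (.node (.leaf 10) (.leaf 15)))) (.node (.node (.node (.leaf 19) (.leaf 7)) (.node (.leaf 7) (.leaf 7))) (.node (.node (.leaf 19) (.leaf 19)) (.node (.leaf 7) (.leaf 11))))) (.node (.node (.node (.node (.leaf 10) (.leaf 11)) (.node (.leaf 10) (.leaf 6))) (.node (.node (.leaf 10) (.leaf 6)) (.node (.leaf 11) (.leaf 19)))) (.node (.node (.node (.leaf 6) (.leaf 10)) (.node (.leaf 19) (.leaf 6))) (.node (.node (.leaf 15) (.leaf 10)) (.node (.leaf 10) (.leaf 10)))))) (.node (.node (.node (.node (.node (.leaf 6) (.leaf 19)) (.node (.leaf 6) (.leaf 15))) (.node (.node (.leaf 19) (.leaf 11)) (.node (.leaf 7) (.leaf 7)))) (.node (.node (.node (.leaf 19) (.leaf 7)) (.node (.leaf 10) (.leaf 19))) (.node (.node (.leaf 10) (.leaf 15)) (.node (.leaf 6) (.leaf 19))))) (.node (.node (.node (.node (.leaf 6) (.leaf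 6)) (.node (.leaf 6) (.leaf 19))) (.node (.node (.leaf 19) (.leaf 19)) (.node (.leaf 6) (.leaf 6)))) (.node (.node (.node (.leaf 10) (.leaf 11)) (.node (.leaf 10) (.leaf 19))) (.node (.node (.leaf 6) (.leaf 7)) (.node (.leaf 7) (.leaf 7))))))))

def classPow8 : Tree (ℕ) :=
  (.node (.node (.node (.node (.node (.node (.node (.node (.leaf 10) (.leaf 6)) (.leaf 10)) (.node (.leaf 6) (.leaf 11))) (.node (.node (.leaf 10) (.leaf 19)) (.node (.leaf 11) (.leaf 7)))) (.node (.node (.node (.leaf 10) (.leaf 6)) (.node (.leaf 11) (.leaf 15))) (.node (.node (.leaf 11) (.leaf 10)) (.node (.leaf 7) (.leaf 10))))) (.node (.node (.node (.node (.leaf 10) (.leaf 7)) (.node (.leaf 15) (.leaf 11))) (.node (.node (.leaf 7) (.leaf 6)) (.node (.leaf 7) (.leaf 10)))) (.node (.node (.node (.leaf 11) (.leaf 6)) (.node (.leaf 19) (.leaf 6))) (.node (.node (.leaf 19) (.leaf 6)) (.node (.leaf 19) (.leaf 19)))))) (.node (.node (.node (.node (.node (.node (.leaf 11) (.leaf 19)) (.leaf 6)) (.node (.leaf 10) (.leaf 6))) (.node (.node (.leaf 6) (.leaf 6)) (.node (.leaf 10) (.leaf 7)))) (.node (.node (.node (.leaf 10) (.leaf 15))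 (.node (.leaf 6) (.leaf 7))) (.node (.node (.leaf 15) (.leaf 11)) (.node (.leaf 19) (.leaf 6))))) (.node (.node (.node (.node (.leaf 10) (.leaf 15)) (.node (.leaf 10) (.leaf 6))) (.node (.node (.leaf 11) (.leaf 6)) (.node (.leaf 10) (.leaf 7)))) (.node (.node (.node (.leaf 15) (.leaf 19)) (.node (.leaf 10) (.leaf 10))) (.node (.node (.leaf 10) (.leaf 6)) (.node (.leaf 7) (.leaf 19))))))) (.node (.node (.node (.node (.node (.node (.node (.leaf 10) (.leaf 7)) (.leaf 10)) (.node (.leaf 10) (.leaf 11))) (.node (.node (.leaf 10) (.leaf 7)) (.node (.leaf 6) (.leaf 19)))) (.node (.node (.node (.leaf 7) (.leaf 10)) (.node (.leaf 7) (.leaf 6))) (.node (.node (.leaf 19) (.leaf 6)) (.node (.leaf 7) (.leaf 19))))) (.node (.node (.node (.node (.leaf 10) (.leaf 6)) (.node (.leaf 11) (.leaf 10))) (.node (.node (.leaf 15) (.leaf 6)) (.node (.leaf 19) (.leaf 10)))) (.node (.node (.node (.leaf 6) (.leaf 6)) (.node (.leaf 6) (.leaf 15))) (.node (.node (.leaf 19) (.leaf 11)) (.node (.leaf 11) (.leaf 10)))))) (.node (.node (.node (.node (.node (.leaf 10) (.leaf 10)) (.node (.leaf 10) (.leaf 7))) (.node (.node (.leaf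 7) (.leaf 11)) (.node (.leaf 15) (.leaf 19)))) (.node (.node (.node (.leaf 11) (.leaf 15)) (.node (.leaf 6) (.leaf 10))) (.node (.node (.leaf 10) (.leaf 10)) (.node (.leaf 6) (.leaf 6))))) (.node (.node (.node (.node (.leaf 10) (.leaf 19)) (.node (.leaf 10) (.leaf 15))) (.node (.node (.leaf 15) (.leaf 19)) (.node (.leaf 15) (.leaf 10)))) (.node (.node (.node (.leaf 6) (.leaf 15)) (.node (.leaf 10) (.leaf 10))) (.node (.node (.leaf 6) (.leaf 10)) (.node (.leaf 7) (.leaf 7))))))))

def classPow9 : Tree (ℕ) :=
  (.node (.node (.node (.node (.node (.node (.node (.node (.leaf 10) (.leaf 7)) (.leaf 11)) (.node (.leaf 6) (.leaf 10))) (.node (.node (.leaf 6) (.leaf 6)) (.node (.leaf 15) (.leaf 19)))) (.node (.node (.node (.leaf 19) (.leaf 10)) (.node (.leaf 15) (.leaf 10))) (.node (.node (.leaf 6) (.leaf 6)) (.node (.leaf 10) (.leaf 19))))) (.node (.node (.node (.node (.leaf 10) (.leaf 11)) (.node (.leaf 10) (.leaf 11))) (.node (.node (.leaf 19) (.leaf 11)) (.node (.leaf 15) (.leaf 10)))) (.node (.node (.node (.leaf 6) (.leaf 10)) (.node (.leaf 10) (.leaf 6))) (.node (.node (.leaf 19) (.leaf 7)) (.node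 (.leaf 7) (.leaf 15)))))) (.node (.node (.node (.node (.node (.node (.leaf 10) (.leaf 7)) (.leaf 10)) (.node (.leaf 19) (.leaf 15))) (.node (.node (.leaf 11) (.leaf 7)) (.node (.leaf 6) (.leaf 6)))) (.node (.node (.node (.leaf 15) (.leaf 15)) (.node (.leaf 19) (.leaf 10))) (.node (.node (.leaf 10) (.leaf 10)) (.node (.leaf 10) (.leaf 10))))) (.node (.node (.node (.node (.leaf 6) (.leaf 10)) (.node (.leaf 6) (.leaf 7))) (.node (.node (.leaf 6) (.leaf 10)) (.node (.leaf 10) (.leaf 10)))) (.node (.node (.node (.leaf 6) (.leaf 11)) (.node (.leaf 6) (.leaf 10))) (.node (.node (.leaf 6) (.leaf 10)) (.node (.leaf 10) (.leaf 7))))))) (.node (.node (.node (.node (.node (.node (.node (.leaf 6) (.leaf 7)) (.leaf 6)) (.node (.leaf 11) (.leaf 7))) (.node (.node (.leaf 11) (.leaf 10)) (.node (.leaf 6) (.leaf 11)))) (.node (.node (.node (.leaf 19) (.leaf 15)) (.node (.leaf 19) (.leaf 19))) (.node (.node (.leaf 6) (.leaf 11)) (.node (.leaf 6) (.leaf 10))))) (.node (.node (.node (.node (.leaf 10) (.leaf 6)) (.node (.leaf 11) (.leaf 6))) (.node (.node (.leaf 10) (.leaf 10)) (.node (.leaf 10) (.leaf 10)))) (.node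 (.node (.node (.leaf 19) (.leaf 7)) (.node (.leaf 10) (.leaf 6))) (.node (.node (.leaf 15) (.leaf 15)) (.node (.leaf 11) (.leaf 6)))))) (.node (.node (.node (.node (.node (.leaf 10) (.leaf 19)) (.node (.leaf 10) (.leaf 7))) (.node (.node (.leaf 19) (.leaf 15)) (.node (.leaf 11) (.leaf 19)))) (.node (.node (.node (.leaf 19) (.leaf 6)) (.node (.leaf 11) (.leaf 7))) (.node (.node (.leaf 7) (.leaf 19)) (.node (.leaf 7) (.leaf 10))))) (.node (.node (.node (.node (.leaf 19) (.leaf 10)) (.node (.leaf 6) (.leaf 19))) (.node (.node (.leaf 10) (.leaf 7)) (.node (.leaf 6) (.leaf 19)))) (.node (.node (.node (.leaf 10) (.leaf 10)) (.node (.leaf 10) (.leaf 7))) (.node (.node (.leaf 15) (.leaf 10)) (.node (.leaf 6) (.leaf 15))))))))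

def classPow10 : Tree (ℕ) :=
  (.node (.node (.node (.node (.node (.node (.node (.node (.leaf 11) (.leaf 15)) (.leaf 7)) (.node (.leaf 6) (.leaf 10))) (.node (.node (.leaf 10) (.leaf 19)) (.node (.leaf 6) (.leaf 10)))) (.node (.node (.node (.leaf 19) (.leaf 10)) (.node (.leaf 10) (.leaf 10))) (.node (.node (.leaf 6) (.leaf 10)) (.node (.leaf 10) (.leaf 10))))) (.node (.node (.node (.node (.leaf 10) (.leaf 7)) (.node (.leaf 6) (.leaf 6))) (.node (.node (.leaf 7) (.leaf 7)) (.node (.leaf 15) (.leaf 6)))) (.node (.node (.node (.leaf 11) (.leaf 15)) (.node (.leaf 6) (.leaf 6))) (.node (.node (.leaf 6) (.leaf 6)) (.node (.leaf 7) (.leaf 15)))))) (.node (.node (.node (.node (.node (.leaf 10) (.leaf 7)) (.node (.leaf 7) (.leaf 15))) (.node (.node (.leaf 19) (.leaf 11)) (.node (.leaf 10) (.leaf 19)))) (.node (.node (.node (.leaf 7) (.leaf 19)) (.node (.leaf 10) (.leaf 6))) (.node (.node (.leaf 6) (.leaf 6)) (.node (.leaf 7) (.leaf 11))))) (.node (.node (.node (.node (.leaf 10) (.leaf 6)) (.node (.leaf 10) (.leaf 6))) (.node (.node (.leaf 15) (.leaf 6)) (.node (.leaf 15) (.leaf 6)))) (.node (.node (.node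 (.leaf 10) (.leaf 10)) (.node (.leaf 7) (.leaf 19))) (.node (.node (.leaf 11) (.leaf 11)) (.node (.leaf 11) (.leaf 6))))))) (.node (.node (.node (.node (.node (.node (.node (.leaf 10) (.leaf 19)) (.leaf 6)) (.node (.leaf 7) (.leaf 10))) (.node (.node (.leaf 7) (.leaf 6)) (.node (.leaf 19) (.leaf 7)))) (.node (.node (.node (.leaf 7) (.leaf 6)) (.node (.leaf 19) (.leaf 11))) (.node (.node (.leaf 19) (.leaf 6)) (.node (.leaf 6) (.leaf 6))))) (.node (.node (.node (.node (.leaf 11) (.leaf 7)) (.node (.leaf 19) (.leaf 15))) (.node (.node (.leaf 10) (.leaf 15)) (.node (.leaf 6) (.leaf 7)))) (.node (.node (.node (.leaf 6) (.leaf 6)) (.node (.leaf 10) (.leaf 19))) (.node (.node (.leaf 10) (.leaf 6)) (.node (.leaf 15) (.leaf 19)))))) (.node (.node (.node (.node (.node (.leaf 10) (.leaf 6)) (.node (.leaf 10) (.leaf 15))) (.node (.node (.leaf 19) (.leaf 10)) (.node (.leaf 6) (.leaf 6)))) (.node (.node (.node (.leaf 6) (.leaf 10)) (.node (.leaf 11) (.leaf 15))) (.node (.node (.leaf 19) (.leaf 11)) (.node (.leaf 7) (.leaf 10))))) (.node (.node (.node (.node (.leaf 6) (.leaf 19)) (.node (.leaf 10) (.leaf 6)))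 (.node (.node (.leaf 10) (.leaf 19)) (.node (.leaf 10) (.leaf 19)))) (.node (.node (.node (.leaf 15) (.leaf 19)) (.node (.leaf 10) (.leaf 15))) (.node (.node (.leaf 10) (.leaf 6)) (.node (.leaf 6) (.leaf 19))))))))

def classPow11 : Tree (ℕ) :=
  (.node (.node (.node (.node (.node (.node (.node (.node (.leaf 10) (.leaf 7)) (.leaf 19)) (.node (.leaf 15) (.leaf 19))) (.node (.node (.leaf 19) (.leaf 11)) (.node (.leaf 15) (.leaf 7)))) (.node (.node (.node (.leaf 19) (.leaf 10)) (.node (.leaf 10) (.leaf 7))) (.node (.node (.leaf 10) (.leaf 15)) (.node (.leaf 6) (.leaf 15))))) (.node (.node (.node (.node (.leaf 6) (.leaf 15)) (.node (.leaf 10) (.leaf 6))) (.node (.node (.leaf 11) (.leaf 19)) (.node (.leaf 15) (.leaf 10)))) (.node (.node (.node (.leaf 19) (.leaf 6)) (.node (.leaf 10) (.leaf 10))) (.node (.node (.leaf 15) (.leaf 7)) (.node (.leaf 19) (.leaf 7)))))) (.node (.node (.node (.node (.node (.leaf 10) (.leaf 7)) (.node (.leaf 19) (.leaf 15))) (.node (.node (.leaf 10) (.leaf 19)) (.node (.leaf 19) (.leaf 10)))) (.node (.node (.node (.leaf 19) (.leaf 10)) (.node (.leaf 15) (.leaf 15))) (.node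 (.node (.leaf 10) (.leaf 11)) (.node (.leaf 11) (.leaf 19))))) (.node (.node (.node (.node (.leaf 10) (.leaf 19)) (.node (.leaf 19) (.leaf 10))) (.node (.node (.leaf 10) (.leaf 15)) (.node (.leaf 10) (.leaf 15)))) (.node (.node (.node (.leaf 19) (.leaf 19)) (.node (.leaf 10) (.leaf 6))) (.node (.node (.leaf 10) (.leaf 7)) (.node (.leaf 19) (.leaf 10))))))) (.node (.node (.node (.node (.node (.node (.node (.leaf 10) (.leaf 10)) (.leaf 11)) (.node (.leaf 6) (.leaf 10))) (.node (.node (.leaf 11) (.leaf 10)) (.node (.leaf 7) (.leaf 6)))) (.node (.node (.node (.leaf 19) (.leaf 15)) (.node (.leaf 6) (.leaf 19))) (.node (.node (.leaf 19) (.leaf 6)) (.node (.leaf 15) (.leaf 10))))) (.node (.node (.node (.node (.leaf 10) (.leaf 7)) (.node (.leaf 7) (.leaf 10))) (.node (.node (.leaf 15) (.leaf 10)) (.node (.leaf 15) (.leaf 6)))) (.node (.node (.node (.leaf 6) (.leaf 6)) (.node (.leaf 15) (.leaf 7))) (.node (.node (.leaf 10) (.leaf 7)) (.node (.leaf 19) (.leaf 15)))))) (.node (.node (.node (.node (.node (.leaf 10) (.leaf 15)) (.node (.leaf 7) (.leaf 10))) (.node (.node (.leaf 10) (.leaf 6)) (.node (.leaf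 10) (.leaf 10)))) (.node (.node (.node (.leaf 19) (.leaf 10)) (.node (.leaf 7) (.leaf 6))) (.node (.node (.leaf 11) (.leaf 7)) (.node (.leaf 10) (.leaf 11))))) (.node (.node (.node (.node (.leaf 6) (.leaf 15)) (.node (.leaf 7) (.leaf 15))) (.node (.node (.leaf 15) (.leaf 10)) (.node (.leaf 7) (.leaf 11)))) (.node (.node (.node (.leaf 6) (.leaf 19)) (.node (.leaf 11) (.leaf 10))) (.node (.node (.leaf 11) (.leaf 10)) (.node (.leaf 7) (.leaf 6))))))))

def classPow12 : Tree (ℕ) :=
  (.node (.node (.node (.node (.node (.node (.node (.node (.leaf 10) (.leaf 7)) (.leaf 7)) (.node (.leaf 7) (.leaf 11))) (.node (.node (.leaf 10) (.leaf 19)) (.node (.leaf 10) (.leaf 6)))) (.node (.node (.node (.leaf 6) (.leaf 6)) (.node (.leaf 6) (.leaf 7))) (.node (.node (.leaf 10) (.leaf 6)) (.node (.leaf 10) (.leaf 7))))) (.node (.node (.node (.node (.leaf 10) (.leaf 19)) (.node (.leaf 11) (.leaf 15))) (.node (.node (.leaf 19) (.leaf 10)) (.node (.leaf 11) (.leaf 10)))) (.node (.node (.node (.leaf 6) (.leaf 19)) (.node (.leaf 6) (.leaf 19))) (.node (.node (.leaf 11) (.leaf 6)) (.node (.leaf 10) (.leaf 6)))))) (.node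 (.node (.node (.node (.node (.leaf 10) (.leaf 6)) (.node (.leaf 10) (.leaf 10))) (.node (.node (.leaf 11) (.leaf 10)) (.node (.leaf 10) (.leaf 15)))) (.node (.node (.node (.leaf 10) (.leaf 19)) (.node (.leaf 11) (.leaf 10))) (.node (.node (.leaf 10) (.leaf 6)) (.node (.leaf 6) (.leaf 15))))) (.node (.node (.node (.node (.leaf 10) (.leaf 7)) (.node (.leaf 10) (.leaf 6))) (.node (.node (.leaf 15) (.leaf 7)) (.node (.leaf 10) (.leaf 10)))) (.node (.node (.node (.leaf 6) (.leaf 6)) (.node (.leaf 6) (.leaf 10))) (.node (.node (.leaf 15) (.leaf 6)) (.node (.leaf 6) (.leaf 19))))))) (.node (.node (.node (.node (.node (.node (.node (.leaf 10) (.leaf 6)) (.leaf 7)) (.node (.leaf 6) (.leaf 19))) (.node (.node (.leaf 10) (.leaf 6)) (.node (.leaf 10) (.leaf 19)))) (.node (.node (.node (.leaf 6) (.leaf 10)) (.node (.leaf 19) (.leaf 11))) (.node (.node (.leaf 10) (.leaf 6)) (.node (.leaf 10) (.leaf 7))))) (.node (.node (.node (.node (.leaf 10) (.leaf 10)) (.node (.leaf 7) (.leaf 19))) (.node (.node (.leaf 10) (.leaf 10)) (.node (.leaf 10) (.leaf 15)))) (.node (.node (.node (.leaf 10) (.leaf 15)) (.node (.leaf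 6) (.leaf 6))) (.node (.node (.leaf 6) (.leaf 11)) (.node (.leaf 6) (.leaf 19)))))) (.node (.node (.node (.node (.node (.leaf 11) (.leaf 15)) (.node (.leaf 10) (.leaf 6))) (.node (.node (.leaf 10) (.leaf 7)) (.node (.leaf 7) (.leaf 10)))) (.node (.node (.node (.leaf 11) (.leaf 6)) (.node (.leaf 15) (.leaf 6))) (.node (.node (.leaf 6) (.leaf 10)) (.node (.leaf 19) (.leaf 7))))) (.node (.node (.node (.node (.leaf 6) (.leaf 15)) (.node (.leaf 10) (.leaf 10))) (.node (.node (.leaf 19) (.leaf 7)) (.node (.leaf 10) (.leaf 7)))) (.node (.node (.node (.leaf 15) (.leaf 15)) (.node (.leaf 7) (.leaf 10))) (.node (.node (.leaf 7) (.leaf 6)) (.node (.leaf 10) (.leaf 10))))))))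

def classPow13 : Tree (ℕ) :=
  (.node (.node (.node (.node (.node (.node (.node (.node (.leaf 10) (.leaf 15)) (.leaf 10)) (.node (.leaf 6) (.leaf 6))) (.node (.node (.leaf 7) (.leaf 10)) (.node (.leaf 15) (.leaf 19)))) (.node (.node (.node (.leaf 19) (.leaf 10)) (.node (.leaf 7) (.leaf 6))) (.node (.node (.leaf 10) (.leaf 19)) (.node (.leaf 15) (.leaf 11))))) (.node (.node (.node (.node (.leaf 10) (.leaf 7)) (.node (.leaf 10) (.leaf 10))) (.node (.node (.leaf 7) (.leaf 6)) (.node (.leaf 6) (.leaf 6)))) (.node (.node (.node (.leaf 15) (.leaf 15)) (.node (.leaf 7) (.leaf 19))) (.node (.node (.leaf 6) (.leaf 7)) (.node (.leaf 11) (.leaf 7)))))) (.node (.node (.node (.node (.node (.leaf 6) (.leaf 10)) (.node (.leaf 11) (.leaf 10))) (.node (.node (.leaf 10) (.leaf 6)) (.node (.leaf 7) (.leaf 7)))) (.node (.node (.node (.leaf 19) (.leaf 10)) (.node (.leaf 6) (.leaf 19))) (.node (.node (.leaf 10) (.leaf 19)) (.node (.leaf 19) (.leaf 6))))) (.node (.node (.node (.node (.leaf 10) (.leaf 15)) (.node (.leaf 6) (.leaf 7))) (.node (.node (.leaf 10) (.leaf 6)) (.node (.leaf 6) (.leaf 7)))) (.node (.node (.node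 (.leaf 19) (.leaf 19)) (.node (.leaf 10) (.leaf 10))) (.node (.node (.leaf 6) (.leaf 6)) (.node (.leaf 7) (.leaf 7))))))) (.node (.node (.node (.node (.node (.node (.node (.leaf 10) (.leaf 7)) (.leaf 10)) (.node (.leaf 10) (.leaf 19))) (.node (.node (.leaf 7) (.leaf 11)) (.node (.leaf 7) (.leaf 6)))) (.node (.node (.node (.leaf 19) (.leaf 10)) (.node (.leaf 6) (.leaf 10))) (.node (.node (.leaf 19) (.leaf 10)) (.node (.leaf 19) (.leaf 6))))) (.node (.node (.node (.node (.leaf 10) (.leaf 10)) (.node (.leaf 6) (.leaf 7))) (.node (.node (.leaf 11) (.leaf 19)) (.node (.leaf 6) (.leaf 6)))) (.node (.node (.node (.leaf 10) (.leaf 15)) (.node (.leaf 10) (.leaf 7))) (.node (.node (.leaf 7) (.leaf 7)) (.node (.leaf 10) (.leaf 7)))))) (.node (.node (.node (.node (.node (.leaf 10) (.leaf 6)) (.node (.leaf 7) (.leaf 10))) (.node (.node (.leaf 7) (.leaf 6)) (.node (.leaf 11) (.leaf 10)))) (.node (.node (.node (.leaf 19) (.leaf 7)) (.node (.leaf 7) (.leaf 10))) (.node (.node (.leaf 10) (.leaf 19)) (.node (.leaf 19) (.leaf 6))))) (.node (.node (.node (.node (.leaf 19) (.leaf 11)) (.node (.leaf 19) (.leaf 6)))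 (.node (.node (.leaf 10) (.leaf 6)) (.node (.leaf 7) (.leaf 10)))) (.node (.node (.node (.leaf 7) (.leaf 10)) (.node (.leaf 10) (.leaf 6))) (.node (.node (.leaf 6) (.leaf 19)) (.node (.leaf 10) (.leaf 10))))))))

def classPow14 : Tree (ℕ) :=
  (.node (.node (.node (.node (.node (.node (.node (.node (.leaf 10) (.leaf 7)) (.leaf 7)) (.node (.leaf 10) (.leaf 10))) (.node (.node (.leaf 19) (.leaf 15)) (.node (.leaf 15) (.leaf 10)))) (.node (.node (.node (.leaf 10) (.leaf 15)) (.node (.leaf 7) (.leaf 19))) (.node (.node (.leaf 15) (.leaf 19)) (.node (.leaf 11) (.leaf 6))))) (.node (.node (.node (.node (.leaf 10) (.leaf 6)) (.node (.leaf 11) (.leaf 6))) (.node (.node (.leaf 10) (.leaf 11)) (.node (.leaf 19) (.leaf 19)))) (.node (.node (.node (.leaf 7) (.leaf 19)) (.node (.leaf 6) (.leaf 10))) (.node (.node (.leaf 7) (.leaf 10)) (.node (.leaf 19) (.leaf 19)))))) (.node (.node (.node (.node (.node (.leaf 10) (.leaf 7)) (.node (.leaf 10) (.leaf 19))) (.node (.node (.leaf 7) (.leaf 10)) (.node (.leaf 15) (.leaf 19)))) (.node (.node (.node (.leaf 7) (.leaf 7)) (.node (.leaf 11) (.leaf 10))) (.node (.node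 (.leaf 6) (.leaf 10)) (.node (.leaf 10) (.leaf 10))))) (.node (.node (.node (.node (.leaf 7) (.leaf 15)) (.node (.leaf 10) (.leaf 10))) (.node (.node (.leaf 15) (.leaf 10)) (.node (.leaf 10) (.leaf 6)))) (.node (.node (.node (.leaf 15) (.leaf 6)) (.node (.leaf 6) (.leaf 10))) (.node (.node (.leaf 19) (.leaf 6)) (.node (.leaf 10) (.leaf 7))))))) (.node (.node (.node (.node (.node (.node (.node (.leaf 11) (.leaf 19)) (.leaf 6)) (.node (.leaf 7) (.leaf 6))) (.node (.node (.leaf 11) (.leaf 10)) (.node (.leaf 6) (.leaf 19)))) (.node (.node (.node (.leaf 6) (.leaf 10)) (.node (.leaf 10) (.leaf 19))) (.node (.node (.leaf 10) (.leaf 6)) (.node (.leaf 10) (.leaf 7))))) (.node (.node (.node (.node (.leaf 10) (.leaf 7)) (.node (.leaf 6) (.leaf 6))) (.node (.node (.leaf 11) (.leaf 19)) (.node (.leaf 7) (.leaf 11)))) (.node (.node (.node (.leaf 15) (.leaf 10)) (.node (.leaf 6) (.leaf 19))) (.node (.node (.leaf 19) (.leaf 10)) (.node (.leaf 19) (.leaf 15)))))) (.node (.node (.node (.node (.node (.leaf 10) (.leaf 11)) (.node (.leaf 6) (.leaf 19))) (.node (.node (.leaf 10) (.leaf 10)) (.node (.leaf 10) (.leaf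 11)))) (.node (.node (.node (.leaf 11) (.leaf 15)) (.node (.leaf 6) (.leaf 11))) (.node (.node (.leaf 11) (.leaf 10)) (.node (.leaf 11) (.leaf 19))))) (.node (.node (.node (.node (.leaf 10) (.leaf 15)) (.node (.leaf 15) (.leaf 7))) (.node (.node (.leaf 11) (.leaf 6)) (.node (.leaf 19) (.leaf 19)))) (.node (.node (.node (.leaf 11) (.leaf 19)) (.node (.leaf 15) (.leaf 7))) (.node (.node (.leaf 10) (.leaf 10)) (.node (.leaf 10) (.leaf 6))))))))

def classPow15 : Tree (ℕ) :=
  (.node (.node (.node (.node (.node (.node (.node (.node (.leaf 6) (.leaf 7)) (.leaf 15)) (.node (.leaf 6) (.leaf 10))) (.node (.node (.leaf 19) (.leaf 10)) (.node (.leaf 6) (.leaf 19)))) (.node (.node (.node (.leaf 15) (.leaf 19)) (.node (.leaf 7) (.leaf 10))) (.node (.node (.leaf 6) (.leaf 6)) (.node (.leaf 10) (.leaf 11))))) (.node (.node (.node (.node (.leaf 10) (.leaf 11)) (.node (.leaf 19) (.leaf 6))) (.node (.node (.leaf 19) (.leaf 6)) (.node (.leaf 10) (.leaf 10)))) (.node (.node (.node (.leaf 15) (.leaf 15)) (.node (.leaf 6) (.leaf 6))) (.node (.node (.leaf 7) (.leaf 11)) (.node (.leaf 11) (.leaf 6)))))) (.node (.node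 (.node (.node (.node (.leaf 10) (.leaf 15)) (.node (.leaf 6) (.leaf 10))) (.node (.node (.leaf 15) (.leaf 7)) (.node (.leaf 19) (.leaf 7)))) (.node (.node (.node (.leaf 15) (.leaf 19)) (.node (.leaf 15) (.leaf 6))) (.node (.node (.leaf 6) (.leaf 10)) (.node (.leaf 11) (.leaf 6))))) (.node (.node (.node (.node (.leaf 6) (.leaf 6)) (.node (.leaf 10) (.leaf 19))) (.node (.node (.leaf 19) (.leaf 19)) (.node (.leaf 19) (.leaf 6)))) (.node (.node (.node (.leaf 19) (.leaf 6)) (.node (.leaf 6) (.leaf 15))) (.node (.node (.leaf 19) (.leaf 19)) (.node (.leaf 19) (.leaf 15))))))) (.node (.node (.node (.node (.node (.node (.node (.leaf 10) (.leaf 6)) (.leaf 15)) (.node (.leaf 10) (.leaf 6))) (.node (.node (.leaf 19) (.leaf 6)) (.node (.leaf 10) (.leaf 7)))) (.node (.node (.node (.leaf 19) (.leaf 6)) (.node (.leaf 19) (.leaf 7))) (.node (.node (.leaf 10) (.leaf 15)) (.node (.leaf 6) (.leaf 7))))) (.node (.node (.node (.node (.leaf 6) (.leaf 15)) (.node (.leaf 7) (.leaf 7))) (.node (.node (.leaf 7) (.leaf 6)) (.node (.leaf 6) (.leaf 7)))) (.node (.node (.node (.leaf 7) (.leaf 10)) (.node (.leaf 6) (.leaf 6)))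 (.node (.node (.leaf 10) (.leaf 10)) (.node (.leaf 10) (.leaf 10)))))) (.node (.node (.node (.node (.node (.leaf 10) (.leaf 10)) (.node (.leaf 7) (.leaf 15))) (.node (.node (.leaf 6) (.leaf 7)) (.node (.leaf 11) (.leaf 19)))) (.node (.node (.node (.leaf 15) (.leaf 19)) (.node (.leaf 7) (.leaf 11))) (.node (.node (.leaf 19) (.leaf 10)) (.node (.leaf 15) (.leaf 7))))) (.node (.node (.node (.node (.leaf 6) (.leaf 19)) (.node (.leaf 10) (.leaf 10))) (.node (.node (.leaf 15) (.leaf 10)) (.node (.leaf 10) (.leaf 6)))) (.node (.node (.node (.leaf 11) (.leaf 7)) (.node (.leaf 7) (.leaf 19))) (.node (.node (.leaf 11) (.leaf 19)) (.node (.leaf 6) (.leaf 7))))))))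

def classPow : Tree (ℕ) :=
  (.node (.node (.node (.node classPow0 classPow8) (.node classPow4 classPow12)) (.node (.node classPow2 classPow10) (.node classPow6 classPow14))) (.node (.node (.node classPow1 classPow9) (.node classPow5 classPow13)) (.node (.node classPow3 classPow11) (.node classPow7 classPow15))))

def parents0 : Tree (ℕ × Bool) :=
  (.node (.node (.node (.node (.node (.node (.node (.leaf (0, false)) (.leaf (694, true))) (.node (.leaf (304, true)) (.leaf (1335, false)))) (.node (.node (.leaf (142, false)) (.leaf (933, true))) (.leaf (494, true)))) (.node (.node (.node (.leaf (67, false)) (.leaf (805, true))) (.leaf (395, false))) (.node (.node (.leaf (222, false)) (.leaf (1094, true))) (.leaf (588, false))))) (.node (.node (.node (.node (.leaf (33, true)) (.leaf (746, true))) (.leaf (348, false))) (.node (.node (.leaf (181, false)) (.leaf (1007, false))) (.leaf (541, true)))) (.node (.node (.node (.leaf (105, false)) (.leaf (861, true))) (.leaf (446, true))) (.node (.node (.leaf (264, false)) (.leaf (1200, true))) (.leaf (639, false)))))) (.node (.node (.node (.node (.node (.leaf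 (16, true)) (.leaf (723, false))) (.node (.leaf (327, false)) (.leaf (1416, true)))) (.node (.node (.leaf (163, false)) (.leaf (972, true))) (.leaf (516, true)))) (.node (.node (.node (.leaf (86, false)) (.leaf (834, true))) (.leaf (421, true))) (.node (.node (.leaf (243, false)) (.leaf (1144, false))) (.leaf (616, true))))) (.node (.node (.node (.node (.leaf (50, true)) (.leaf (778, true))) (.leaf (373, false))) (.node (.node (.leaf (201, true)) (.leaf (1049, false))) (.leaf (560, true)))) (.node (.node (.node (.leaf (123, false)) (.leaf (894, true))) (.leaf (471, false))) (.node (.node (.leaf (282, false)) (.leaf (1264, false))) (.leaf (669, true))))))) (.node (.node (.node (.node (.node (.node (.leaf (7, true)) (.leaf (708, false))) (.node (.leaf (316, false)) (.leaf (1378, true)))) (.node (.node (.leaf (152, false)) (.leaf (956, false))) (.leaf (503, true)))) (.node (.node (.node (.leaf (77, false)) (.leaf (820, false))) (.leaf (405, false))) (.node (.node (.leaf (231, true)) (.leaf (1120, false))) (.leaf (603, true))))) (.node (.node (.node (.node (.leaf (41, true)) (.leaf (766, false)))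 (.leaf (360, true))) (.node (.node (.leaf (190, true)) (.leaf (1025, true))) (.leaf (552, true)))) (.node (.node (.node (.leaf (113, false)) (.leaf (876, true))) (.leaf (458, true))) (.node (.node (.leaf (273, false)) (.leaf (1232, false))) (.leaf (655, false)))))) (.node (.node (.node (.node (.node (.leaf (24, true)) (.leaf (735, false))) (.node (.leaf (336, false)) (.leaf (1494, true)))) (.node (.node (.leaf (172, false)) (.leaf (995, false))) (.leaf (525, false)))) (.node (.node (.node (.leaf (96, false)) (.leaf (847, false))) (.leaf (432, true))) (.node (.node (.leaf (252, true)) (.leaf (1176, true))) (.leaf (629, false))))) (.node (.node (.node (.node (.leaf (59, false)) (.leaf (794, false))) (.leaf (386, false))) (.node (.node (.leaf (211, false)) (.leaf (1076, false))) (.leaf (575, true)))) (.node (.node (.node (.leaf (132, false)) (.leaf (917, false))) (.leaf (482, false))) (.node (.node (.leaf (295, false)) (.leaf (1287, true))) (.leaf (680, false))))))))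

def parents1 : Tree (ℕ × Bool) :=
  (.node (.node (.node (.node (.node (.node (.node (.leaf (0, false)) (.leaf (695, false))) (.node (.leaf (305, false)) (.leaf (1335, true)))) (.node (.node (.leaf (142, true)) (.leaf (934, true))) (.leaf (495, false)))) (.node (.node (.node (.leaf (67, true)) (.leaf (806, false))) (.leaf (396, false))) (.node (.node (.leaf (223, false)) (.leaf (1095, false))) (.leaf (588, true))))) (.node (.node (.node (.node (.leaf (34, false)) (.leaf (747, true))) (.leaf (348, true))) (.node (.node (.leaf (181, true)) (.leaf (1007, true))) (.leaf (542, true)))) (.node (.node (.node (.leaf (105, true)) (.leaf (863, false))) (.leaf (448, true))) (.node (.node (.leaf (264, true)) (.leaf (1201, true))) (.leaf (640, false)))))) (.node (.node (.node (.node (.node (.leaf (17, false)) (.leaf (724, false))) (.node (.leaf (327, true)) (.leaf (1420, true)))) (.node (.node (.leaf (163, true)) (.leaf (973, false))) (.leaf (517, false)))) (.node (.node (.node (.leaf (86, true)) (.leaf (836, false))) (.leaf (422, false))) (.node (.node (.leaf (244, false)) (.leaf (1147, false))) (.leaf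 (617, false))))) (.node (.node (.node (.node (.leaf (51, false)) (.leaf (779, true))) (.leaf (373, true))) (.node (.node (.leaf (202, true)) (.leaf (1049, true))) (.leaf (561, false)))) (.node (.node (.node (.leaf (123, true)) (.leaf (895, true))) (.leaf (471, true))) (.node (.node (.leaf (283, true)) (.leaf (1269, false))) (.leaf (670, false))))))) (.node (.node (.node (.node (.node (.node (.leaf (8, false)) (.leaf (708, true))) (.node (.leaf (316, true)) (.leaf (1379, true)))) (.node (.node (.leaf (152, true)) (.leaf (956, true))) (.leaf (504, false)))) (.node (.node (.node (.leaf (78, false)) (.leaf (820, true))) (.leaf (406, false))) (.node (.node (.leaf (235, false)) (.leaf (1126, false))) (.leaf (604, false))))) (.node (.node (.node (.node (.leaf (42, false)) (.leaf (766, true))) (.leaf (361, false))) (.node (.node (.leaf (191, false)) (.leaf (1026, true))) (.leaf (553, false)))) (.node (.node (.node (.leaf (113, true)) (.leaf (879, true))) (.leaf (459, false))) (.node (.node (.leaf (273, true)) (.leaf (1234, false))) (.leaf (655, true)))))) (.node (.node (.node (.node (.node (.leaf (25,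 false)) (.leaf (735, true))) (.node (.leaf (336, true)) (.leaf (1501, true)))) (.node (.node (.leaf (172, true)) (.leaf (995, true))) (.leaf (528, true)))) (.node (.node (.node (.leaf (96, true)) (.leaf (848, true))) (.leaf (433, true))) (.node (.node (.leaf (253, false)) (.leaf (1177, true))) (.leaf (629, true))))) (.node (.node (.node (.node (.leaf (59, true)) (.leaf (795, false))) (.leaf (386, true))) (.node (.node (.leaf (211, true)) (.leaf (1077, true))) (.leaf (576, false)))) (.node (.node (.node (.leaf (132, true)) (.leaf (917, true))) (.leaf (483, true))) (.node (.node (.leaf (295, true)) (.leaf (1292, false))) (.leaf (680, true))))))))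

def parents2 : Tree (ℕ × Bool) :=
  (.node (.node (.node (.node (.node (.node (.node (.leaf (0, true)) (.leaf (695, true))) (.node (.leaf (305, true)) (.leaf (1336, true)))) (.node (.node (.leaf (143, false)) (.leaf (935, true))) (.leaf (495, true)))) (.node (.node (.node (.leaf (68, false)) (.leaf (806, true))) (.leaf (396, true))) (.node (.node (.leaf (223, true)) (.leaf (1095, true))) (.leaf (590, false))))) (.node (.node (.node (.node (.leaf (34, true)) (.leaf (750, true))) (.leaf (349, false))) (.node (.node (.leaf (182, false)) (.leaf (1008, true))) (.leaf (544, false)))) (.node (.node (.node (.leaf (106, false)) (.leaf (863, true))) (.leaf (449, false))) (.node (.node (.leaf (265, true)) (.leaf (1203, true))) (.leaf (641, false)))))) (.node (.node (.node (.node (.node (.leaf (17, true)) (.leaf (724, true))) (.node (.leaf (328, false)) (.leaf (1422, true)))) (.node (.node (.leaf (164, false)) (.leaf (974, false))) (.leaf (517, true)))) (.node (.node (.node (.leaf (87, true)) (.leaf (836, true))) (.leaf (422, true))) (.node (.node (.leaf (244, true)) (.leaf (1149, false))) (.leaf (617,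 true))))) (.node (.node (.node (.node (.leaf (51, true)) (.leaf (781, false))) (.leaf (374, false))) (.node (.node (.leaf (203, false)) (.leaf (1050, false))) (.leaf (561, true)))) (.node (.node (.node (.leaf (124, true)) (.leaf (899, true))) (.leaf (472, false))) (.node (.node (.leaf (284, true)) (.leaf (1270, false))) (.leaf (671, false))))))) (.node (.node (.node (.node (.node (.node (.leaf (8, true)) (.leaf (709, false))) (.node (.leaf (317, false)) (.leaf (1380, true)))) (.node (.node (.leaf (153, false)) (.leaf (957, false))) (.leaf (505, false)))) (.node (.node (.node (.leaf (78, true)) (.leaf (821, true))) (.leaf (406, true))) (.node (.node (.leaf (235, true)) (.leaf (1127, true))) (.leaf (604, true))))) (.node (.node (.node (.node (.leaf (42, true)) (.leaf (767, false))) (.leaf (361, true))) (.node (.node (.leaf (192, false)) (.leaf (1028, false))) (.leaf (553, true)))) (.node (.node (.node (.leaf (114, false)) (.leaf (881, false))) (.leaf (459, true))) (.node (.node (.leaf (274, false)) (.leaf (1235, false))) (.leaf (656, false)))))) (.node (.node (.node (.node (.node (.leaf (25, true))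 (.leaf (737, true))) (.node (.leaf (337, false)) (.leaf (1503, false)))) (.node (.node (.leaf (173, false)) (.leaf (996, false))) (.leaf (529, false)))) (.node (.node (.node (.leaf (97, false)) (.leaf (849, false))) (.leaf (434, false))) (.node (.node (.leaf (254, false)) (.leaf (1178, false))) (.leaf (630, false))))) (.node (.node (.node (.node (.leaf (60, false)) (.leaf (795, true))) (.leaf (387, false))) (.node (.node (.leaf (212, false)) (.leaf (1078, true))) (.leaf (576, true)))) (.node (.node (.node (.leaf (133, false)) (.leaf (919, true))) (.leaf (484, false))) (.node (.node (.leaf (296, false)) (.leaf (1292, true))) (.leaf (681, false))))))))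

def parents3 : Tree (ℕ × Bool) :=
  (.node (.node (.node (.node (.node (.node (.node (.leaf (1, false)) (.leaf (696, false))) (.node (.leaf (306, true)) (.leaf (1340, true)))) (.node (.node (.leaf (143, true)) (.leaf (936, true))) (.leaf (496, false)))) (.node (.node (.node (.leaf (68, true)) (.leaf (807, false))) (.leaf (397, true))) (.node (.node (.leaf (224, false)) (.leaf (1096, false))) (.leaf (593, false))))) (.node (.node (.node (.node (.leaf (35, false)) (.leaf (751, false))) (.leaf (352, false))) (.node (.node (.leaf (183, false)) (.leaf (1012, false))) (.leaf (544, true)))) (.node (.node (.node (.leaf (106, true)) (.leaf (864, false))) (.leaf (449, true))) (.node (.node (.leaf (266, false)) (.leaf (1204, false))) (.leaf (642, true)))))) (.node (.node (.node (.node (.node (.leaf (18, false)) (.leaf (725, true))) (.node (.leaf (328, true)) (.leaf (1426, true)))) (.node (.node (.leaf (164, true)) (.leaf (974, true))) (.leaf (518, false)))) (.node (.node (.node (.leaf (88, false)) (.leaf (837, false))) (.leaf (423, false))) (.node (.node (.leaf (245, false)) (.leaf (1151, false))) (.leaf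 (618, true))))) (.node (.node (.node (.node (.leaf (52, false)) (.leaf (782, false))) (.leaf (375, false))) (.node (.node (.leaf (203, true)) (.leaf (1050, true))) (.leaf (565, true)))) (.node (.node (.node (.leaf (125, false)) (.leaf (900, false))) (.leaf (473, true))) (.node (.node (.leaf (286, false)) (.leaf (1270, true))) (.leaf (671, true))))))) (.node (.node (.node (.node (.node (.node (.leaf (9, false)) (.leaf (709, true))) (.node (.leaf (317, true)) (.leaf (1381, false)))) (.node (.node (.leaf (153, true)) (.leaf (957, true))) (.leaf (506, true)))) (.node (.node (.node (.leaf (79, false)) (.leaf (822, false))) (.leaf (407, true))) (.node (.node (.leaf (236, false)) (.leaf (1130, false))) (.leaf (605, false))))) (.node (.node (.node (.node (.leaf (43, false)) (.leaf (767, true))) (.leaf (362, false))) (.node (.node (.leaf (192, true)) (.leaf (1029, false))) (.leaf (554, false)))) (.node (.node (.node (.leaf (115, false)) (.leaf (881, true))) (.leaf (461, true))) (.node (.node (.leaf (274, true)) (.leaf (1235, true))) (.leaf (657, false)))))) (.node (.node (.node (.node (.node (.leaf (26,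 false)) (.leaf (739, false))) (.node (.leaf (338, false)) (.leaf (1506, true)))) (.node (.node (.leaf (173, true)) (.leaf (996, true))) (.leaf (532, false)))) (.node (.node (.node (.leaf (97, true)) (.leaf (849, true))) (.leaf (434, true))) (.node (.node (.leaf (255, false)) (.leaf (1180, false))) (.leaf (631, false))))) (.node (.node (.node (.node (.leaf (60, true)) (.leaf (796, true))) (.leaf (387, true))) (.node (.node (.leaf (213, false)) (.leaf (1080, false))) (.leaf (577, false)))) (.node (.node (.node (.leaf (134, false)) (.leaf (920, false))) (.leaf (484, true))) (.node (.node (.leaf (297, false)) (.leaf (1296, true))) (.leaf (681, true))))))))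

def parents4 : Tree (ℕ × Bool) :=
  (.node (.node (.node (.node (.node (.node (.node (.leaf (1, true)) (.leaf (696, true))) (.node (.leaf (307, false)) (.leaf (1343, false)))) (.node (.node (.leaf (144, false)) (.leaf (937, true))) (.leaf (496, true)))) (.node (.node (.node (.leaf (69, false)) (.leaf (807, true))) (.leaf (398, false))) (.node (.node (.leaf (224, true)) (.leaf (1097, false))) (.leaf (593, true))))) (.node (.node (.node (.node (.leaf (35, true)) (.leaf (752, false))) (.leaf (352, true))) (.node (.node (.leaf (184, true)) (.leaf (1012, true))) (.leaf (545, false)))) (.node (.node (.node (.leaf (107, false)) (.leaf (864, true))) (.leaf (450, false))) (.node (.node (.leaf (266, true)) (.leaf (1205, true))) (.leaf (643, true)))))) (.node (.node (.node (.node (.node (.leaf (18, true)) (.leaf (726, true))) (.node (.leaf (329, false)) (.leaf (1428, true)))) (.node (.node (.leaf (165, true)) (.leaf (975, false))) (.leaf (518, true)))) (.node (.node (.node (.leaf (88, true)) (.leaf (837, true))) (.leaf (423, true))) (.node (.node (.leaf (245, true)) (.leaf (1151, true))) (.leaf (620, true)))))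 (.node (.node (.node (.node (.leaf (52, true)) (.leaf (783, false))) (.leaf (376, false))) (.node (.node (.leaf (204, false)) (.leaf (1051, true))) (.leaf (566, true)))) (.node (.node (.node (.leaf (125, true)) (.leaf (900, true))) (.leaf (474, true))) (.node (.node (.leaf (286, true)) (.leaf (1273, true))) (.leaf (672, false))))))) (.node (.node (.node (.node (.node (.node (.leaf (9, true)) (.leaf (710, true))) (.node (.leaf (318, false)) (.leaf (1382, true)))) (.node (.node (.leaf (154, false)) (.leaf (958, false))) (.leaf (507, false)))) (.node (.node (.node (.leaf (79, true)) (.leaf (822, true))) (.leaf (408, false))) (.node (.node (.leaf (236, true)) (.leaf (1130, true))) (.leaf (607, false))))) (.node (.node (.node (.node (.leaf (43, true)) (.leaf (768, false))) (.leaf (362, true))) (.node (.node (.leaf (193, false)) (.leaf (1029, true))) (.leaf (554, true)))) (.node (.node (.node (.leaf (115, true)) (.leaf (882, false))) (.leaf (463, true))) (.node (.node (.leaf (275, false)) (.leaf (1236, true))) (.leaf (658, false)))))) (.node (.node (.node (.node (.node (.leaf (26, true)) (.leaf (739,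 true))) (.node (.leaf (338, true)) (.leaf (1507, false)))) (.node (.node (.leaf (174, false)) (.leaf (997, false))) (.leaf (532, true)))) (.node (.node (.node (.leaf (98, false)) (.leaf (850, false))) (.leaf (435, true))) (.node (.node (.leaf (256, false)) (.leaf (1181, false))) (.leaf (631, true))))) (.node (.node (.node (.node (.leaf (61, false)) (.leaf (797, false))) (.leaf (388, false))) (.node (.node (.leaf (213, true)) (.leaf (1082, false))) (.leaf (577, true)))) (.node (.node (.node (.leaf (135, true)) (.leaf (920, true))) (.leaf (486, true))) (.node (.node (.leaf (297, true)) (.leaf (1297, false))) (.leaf (682, false))))))))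

def parents5 : Tree (ℕ × Bool) :=
  (.node (.node (.node (.node (.node (.node (.node (.leaf (2, false)) (.leaf (697, false))) (.node (.leaf (307, true)) (.leaf (1345, false)))) (.node (.node (.leaf (144, true)) (.leaf (939, false))) (.leaf (497, false)))) (.node (.node (.node (.leaf (69, true)) (.leaf (808, true))) (.leaf (399, true))) (.node (.node (.leaf (225, false)) (.leaf (1098, true))) (.leaf (594, true))))) (.node (.node (.node (.node (.leaf (36, false)) (.leaf (754, false))) (.leaf (353, false))) (.node (.node (.leaf (185, false)) (.leaf (1013, false))) (.leaf (545, true)))) (.node (.node (.node (.leaf (107, true)) (.leaf (866, true))) (.leaf (450, true))) (.node (.node (.leaf (267, false)) (.leaf (1209, true))) (.leaf (644, false)))))) (.node (.node (.node (.node (.node (.leaf (19, false)) (.leaf (727, false))) (.node (.leaf (329, true)) (.leaf (1432, false)))) (.node (.node (.leaf (166, false)) (.leaf (975, true))) (.leaf (519, false)))) (.node (.node (.node (.leaf (89, true)) (.leaf (838, true))) (.leaf (424, false))) (.node (.node (.leaf (246, false)) (.leaf (1153, false))) (.leaf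 (621, false))))) (.node (.node (.node (.node (.leaf (53, false)) (.leaf (783, true))) (.leaf (377, false))) (.node (.node (.leaf (204, true)) (.leaf (1053, false))) (.leaf (567, false)))) (.node (.node (.node (.leaf (126, false)) (.leaf (901, false))) (.leaf (475, false))) (.node (.node (.leaf (287, false)) (.leaf (1275, false))) (.leaf (672, true))))))) (.node (.node (.node (.node (.node (.node (.leaf (10, false)) (.leaf (713, false))) (.node (.leaf (318, true)) (.leaf (1383, true)))) (.node (.node (.leaf (154, true)) (.leaf (959, false))) (.leaf (507, true)))) (.node (.node (.node (.leaf (80, false)) (.leaf (825, true))) (.leaf (408, true))) (.node (.node (.leaf (237, false)) (.leaf (1131, false))) (.leaf (607, true))))) (.node (.node (.node (.node (.leaf (44, false)) (.leaf (769, false))) (.leaf (363, false))) (.node (.node (.leaf (193, true)) (.leaf (1031, false))) (.leaf (555, false)))) (.node (.node (.node (.leaf (116, false)) (.leaf (882, true))) (.leaf (464, false))) (.node (.node (.leaf (275, true)) (.leaf (1241, false))) (.leaf (658, true)))))) (.node (.node (.node (.node (.node (.leaf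 (27, false)) (.leaf (740, false))) (.node (.leaf (339, false)) (.leaf (1516, true)))) (.node (.node (.leaf (174, true)) (.leaf (997, true))) (.leaf (533, false)))) (.node (.node (.node (.leaf (98, true)) (.leaf (851, false))) (.leaf (436, true))) (.node (.node (.leaf (256, true)) (.leaf (1182, true))) (.leaf (632, false))))) (.node (.node (.node (.node (.leaf (61, true)) (.leaf (797, true))) (.leaf (388, true))) (.node (.node (.leaf (214, false)) (.leaf (1083, true))) (.leaf (578, false)))) (.node (.node (.node (.leaf (136, false)) (.leaf (921, false))) (.leaf (487, false))) (.node (.node (.leaf (298, false)) (.leaf (1298, false))) (.leaf (683, false))))))))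

def parents6 : Tree (ℕ × Bool) :=
  (.node (.node (.node (.node (.node (.node (.node (.leaf (2, true)) (.leaf (697, true))) (.node (.leaf (308, false)) (.leaf (1347, false)))) (.node (.node (.leaf (145, true)) (.leaf (939, true))) (.leaf (497, true)))) (.node (.node (.node (.leaf (70, false)) (.leaf (809, true))) (.leaf (400, false))) (.node (.node (.leaf (226, false)) (.leaf (1102, false))) (.leaf (595, false))))) (.node (.node (.node (.node (.leaf (36, true)) (.leaf (756, false))) (.leaf (353, true))) (.node (.node (.leaf (185, true)) (.leaf (1015, true))) (.leaf (546, false)))) (.node (.node (.node (.leaf (108, false)) (.leaf (867, false))) (.leaf (451, true))) (.node (.node (.leaf (267, true)) (.leaf (1210, true))) (.leaf (644, true)))))) (.node (.node (.node (.node (.node (.leaf (19, true)) (.leaf (728, false))) (.node (.leaf (331, false)) (.leaf (1434, true)))) (.node (.node (.leaf (166, true)) (.leaf (976, false))) (.leaf (519, true)))) (.node (.node (.node (.leaf (90, false)) (.leaf (839, false))) (.leaf (426, true))) (.node (.node (.leaf (246, true)) (.leaf (1153, true))) (.leaf (622,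 false))))) (.node (.node (.node (.node (.leaf (53, true)) (.leaf (784, false))) (.leaf (379, false))) (.node (.node (.leaf (205, false)) (.leaf (1054, true))) (.leaf (567, true)))) (.node (.node (.node (.leaf (126, true)) (.leaf (902, true))) (.leaf (476, true))) (.node (.node (.leaf (288, false)) (.leaf (1275, true))) (.leaf (673, false))))))) (.node (.node (.node (.node (.node (.node (.leaf (10, true)) (.leaf (715, false))) (.node (.leaf (319, false)) (.leaf (1384, false)))) (.node (.node (.leaf (155, false)) (.leaf (959, true))) (.leaf (508, false)))) (.node (.node (.node (.leaf (80, true)) (.leaf (826, false))) (.leaf (410, false))) (.node (.node (.leaf (238, false)) (.leaf (1131, true))) (.leaf (608, true))))) (.node (.node (.node (.node (.leaf (45, false)) (.leaf (769, true))) (.leaf (363, true))) (.node (.node (.leaf (194, false)) (.leaf (1034, false))) (.leaf (555, true)))) (.node (.node (.node (.leaf (116, true)) (.leaf (885, false))) (.leaf (464, true))) (.node (.node (.leaf (276, false)) (.leaf (1242, true))) (.leaf (659, true)))))) (.node (.node (.node (.node (.node (.leaf (27, true))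 (.leaf (740, true))) (.node (.leaf (339, true)) (.leaf (1518, false)))) (.node (.node (.leaf (175, false)) (.leaf (998, false))) (.leaf (533, true)))) (.node (.node (.node (.leaf (99, true)) (.leaf (852, false))) (.leaf (437, false))) (.node (.node (.leaf (257, false)) (.leaf (1184, true))) (.leaf (633, false))))) (.node (.node (.node (.node (.leaf (62, false)) (.leaf (798, false))) (.leaf (389, false))) (.node (.node (.leaf (214, true)) (.leaf (1084, false))) (.leaf (579, false)))) (.node (.node (.node (.leaf (136, true)) (.leaf (921, true))) (.leaf (487, true))) (.node (.node (.leaf (298, true)) (.leaf (1302, true))) (.leaf (686, false))))))))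

def parents7 : Tree (ℕ × Bool) :=
  (.node (.node (.node (.node (.node (.node (.node (.leaf (3, false)) (.leaf (698, false))) (.node (.leaf (308, true)) (.leaf (1356, true)))) (.node (.node (.leaf (146, false)) (.leaf (940, true))) (.leaf (498, false)))) (.node (.node (.node (.leaf (71, true)) (.leaf (810, true))) (.leaf (400, true))) (.node (.node (.leaf (226, true)) (.leaf (1104, true))) (.leaf (595, true))))) (.node (.node (.node (.node (.leaf (37, false)) (.leaf (756, true))) (.leaf (356, false))) (.node (.node (.leaf (186, false)) (.leaf (1016, true))) (.leaf (546, true)))) (.node (.node (.node (.leaf (108, true)) (.leaf (868, false))) (.leaf (452, false))) (.node (.node (.leaf (268, false)) (.leaf (1213, true))) (.leaf (645, false)))))) (.node (.node (.node (.node (.node (.leaf (20, false)) (.leaf (729, false))) (.node (.leaf (331, true)) (.leaf (1438, true)))) (.node (.node (.leaf (167, false)) (.leaf (977, false))) (.leaf (520, false)))) (.node (.node (.node (.leaf (90, true)) (.leaf (839, true))) (.leaf (427, false))) (.node (.node (.leaf (247, false)) (.leaf (1158, false))) (.leaf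 (622, true))))) (.node (.node (.node (.node (.leaf (54, false)) (.leaf (784, true))) (.leaf (379, true))) (.node (.node (.leaf (205, true)) (.leaf (1058, false))) (.leaf (568, false)))) (.node (.node (.node (.leaf (127, false)) (.leaf (904, true))) (.leaf (477, false))) (.node (.node (.leaf (288, true)) (.leaf (1276, false))) (.leaf (673, true))))))) (.node (.node (.node (.node (.node (.node (.leaf (11, false)) (.leaf (715, true))) (.node (.leaf (320, false)) (.leaf (1388, false)))) (.node (.node (.leaf (155, true)) (.leaf (961, false))) (.leaf (508, true)))) (.node (.node (.node (.leaf (81, false)) (.leaf (827, false))) (.leaf (411, false))) (.node (.node (.leaf (238, true)) (.leaf (1133, true))) (.leaf (609, false))))) (.node (.node (.node (.node (.leaf (46, false)) (.leaf (770, false))) (.leaf (364, false))) (.node (.node (.leaf (194, true)) (.leaf (1036, true))) (.leaf (556, false)))) (.node (.node (.node (.leaf (117, false)) (.leaf (886, false))) (.leaf (466, false))) (.node (.node (.leaf (276, true)) (.leaf (1243, true))) (.leaf (660, false)))))) (.node (.node (.node (.node (.node (.leaf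 (28, false)) (.leaf (741, true))) (.node (.leaf (340, true)) (.leaf (1530, true)))) (.node (.node (.leaf (175, true)) (.leaf (998, true))) (.leaf (534, true)))) (.node (.node (.node (.leaf (100, false)) (.leaf (853, true))) (.leaf (437, true))) (.node (.node (.leaf (257, true)) (.leaf (1185, false))) (.leaf (633, true))))) (.node (.node (.node (.node (.leaf (62, true)) (.leaf (799, true))) (.leaf (390, false))) (.node (.node (.leaf (215, false)) (.leaf (1085, false))) (.leaf (579, true)))) (.node (.node (.node (.leaf (137, false)) (.leaf (924, true))) (.leaf (488, false))) (.node (.node (.leaf (299, false)) (.leaf (1306, false))) (.leaf (686, true))))))))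

def parents8 : Tree (ℕ × Bool) :=
  (.node (.node (.node (.node (.node (.node (.node (.leaf (3, true)) (.leaf (698, true))) (.node (.leaf (309, false)) (.leaf (1358, false)))) (.node (.node (.leaf (147, true)) (.leaf (942, false))) (.leaf (499, false)))) (.node (.node (.node (.leaf (72, false)) (.leaf (811, false))) (.leaf (401, false))) (.node (.node (.leaf (227, false)) (.leaf (1106, true))) (.leaf (596, false))))) (.node (.node (.node (.node (.leaf (37, true)) (.leaf (758, false))) (.leaf (356, true))) (.node (.node (.leaf (186, true)) (.leaf (1017, false))) (.leaf (547, false)))) (.node (.node (.node (.leaf (109, false)) (.leaf (869, true))) (.leaf (452, true))) (.node (.node (.leaf (268, true)) (.leaf (1214, false))) (.leaf (645, true)))))) (.node (.node (.node (.node (.node (.leaf (20, true)) (.leaf (730, true))) (.node (.leaf (332, false)) (.leaf (1439, false)))) (.node (.node (.leaf (167, true)) (.leaf (979, false))) (.leaf (521, false)))) (.node (.node (.node (.leaf (91, false)) (.leaf (840, false))) (.leaf (427, true))) (.node (.node (.leaf (248, false)) (.leaf (1159, false))) (.leaf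 (623, false))))) (.node (.node (.node (.node (.leaf (54, true)) (.leaf (785, false))) (.leaf (380, false))) (.node (.node (.leaf (206, false)) (.leaf (1058, true))) (.leaf (569, true)))) (.node (.node (.node (.leaf (127, true)) (.leaf (906, true))) (.leaf (477, true))) (.node (.node (.leaf (289, false)) (.leaf (1276, true))) (.leaf (674, false))))))) (.node (.node (.node (.node (.node (.node (.leaf (11, true)) (.leaf (716, true))) (.node (.leaf (321, false)) (.leaf (1392, false)))) (.node (.node (.leaf (156, false)) (.leaf (963, false))) (.leaf (511, true)))) (.node (.node (.node (.leaf (81, true)) (.leaf (828, false))) (.leaf (413, true))) (.node (.node (.leaf (239, false)) (.leaf (1134, true))) (.leaf (609, true))))) (.node (.node (.node (.node (.leaf (46, true)) (.leaf (771, true))) (.leaf (366, false))) (.node (.node (.leaf (195, false)) (.leaf (1039, true))) (.leaf (556, true)))) (.node (.node (.node (.leaf (117, true)) (.leaf (887, false))) (.leaf (466, true))) (.node (.node (.leaf (278, false)) (.leaf (1244, false))) (.leaf (661, false)))))) (.node (.node (.node (.node (.node (.leaf (28,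 true)) (.leaf (742, false))) (.node (.leaf (342, false)) (.leaf (1531, true)))) (.node (.node (.leaf (176, false)) (.leaf (999, false))) (.leaf (535, false)))) (.node (.node (.node (.leaf (101, false)) (.leaf (854, false))) (.leaf (438, false))) (.node (.node (.leaf (258, false)) (.leaf (1185, true))) (.leaf (635, false))))) (.node (.node (.node (.node (.leaf (63, false)) (.leaf (800, false))) (.leaf (390, true))) (.node (.node (.leaf (216, true)) (.leaf (1085, true))) (.leaf (580, false)))) (.node (.node (.node (.leaf (137, true)) (.leaf (927, true))) (.leaf (488, true))) (.node (.node (.leaf (299, true)) (.leaf (1306, true))) (.leaf (689, false))))))))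

def parents9 : Tree (ℕ × Bool) :=
  (.node (.node (.node (.node (.node (.node (.node (.leaf (4, false)) (.leaf (700, false))) (.node (.leaf (310, true)) (.leaf (1359, false)))) (.node (.node (.leaf (148, false)) (.leaf (942, true))) (.leaf (500, false)))) (.node (.node (.node (.leaf (72, true)) (.leaf (811, true))) (.leaf (401, true))) (.node (.node (.leaf (227, true)) (.leaf (1107, false))) (.leaf (596, true))))) (.node (.node (.node (.node (.leaf (38, false)) (.leaf (759, false))) (.leaf (357, false))) (.node (.node (.leaf (187, false)) (.leaf (1018, true))) (.leaf (547, true)))) (.node (.node (.node (.leaf (109, true)) (.leaf (872, false))) (.leaf (453, false))) (.node (.node (.leaf (269, false)) (.leaf (1215, true))) (.leaf (646, true)))))) (.node (.node (.node (.node (.node (.leaf (21, false)) (.leaf (731, false))) (.node (.leaf (332, true)) (.leaf (1448, true)))) (.node (.node (.leaf (168, false)) (.leaf (981, true))) (.leaf (521, true)))) (.node (.node (.node (.leaf (91, true)) (.leaf (840, true))) (.leaf (428, false))) (.node (.node (.leaf (248, true)) (.leaf (1159, true))) (.leaf (623,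 true))))) (.node (.node (.node (.node (.leaf (55, false)) (.leaf (786, false))) (.leaf (380, true))) (.node (.node (.leaf (206, true)) (.leaf (1061, false))) (.leaf (571, true)))) (.node (.node (.node (.leaf (128, false)) (.leaf (907, true))) (.leaf (478, false))) (.node (.node (.leaf (289, true)) (.leaf (1277, false))) (.leaf (675, false))))))) (.node (.node (.node (.node (.node (.node (.leaf (12, false)) (.leaf (717, false))) (.node (.leaf (321, true)) (.leaf (1395, false)))) (.node (.node (.leaf (156, true)) (.leaf (964, false))) (.leaf (512, false)))) (.node (.node (.node (.leaf (82, false)) (.leaf (828, true))) (.leaf (414, true))) (.node (.node (.leaf (239, true)) (.leaf (1135, false))) (.leaf (610, false))))) (.node (.node (.node (.node (.leaf (47, false)) (.leaf (773, false))) (.leaf (368, false))) (.node (.node (.leaf (196, false)) (.leaf (1040, true))) (.leaf (557, false)))) (.node (.node (.node (.leaf (118, false)) (.leaf (887, true))) (.leaf (467, false))) (.node (.node (.leaf (278, true)) (.leaf (1246, false))) (.leaf (661, true)))))) (.node (.node (.node (.node (.node (.leaf (29,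 false)) (.leaf (742, true))) (.node (.leaf (342, true)) (.leaf (1543, true)))) (.node (.node (.leaf (176, true)) (.leaf (999, true))) (.leaf (536, true)))) (.node (.node (.node (.leaf (101, true)) (.leaf (854, true))) (.leaf (438, true))) (.node (.node (.leaf (259, false)) (.leaf (1188, false))) (.leaf (635, true))))) (.node (.node (.node (.node (.leaf (63, true)) (.leaf (800, true))) (.leaf (391, false))) (.node (.node (.leaf (217, false)) (.leaf (1087, false))) (.leaf (583, true)))) (.node (.node (.node (.leaf (138, false)) (.leaf (928, false))) (.leaf (489, true))) (.node (.node (.leaf (300, false)) (.leaf (1307, true))) (.leaf (689, true))))))))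

def parents10 : Tree (ℕ × Bool) :=
  (.node (.node (.node (.node (.node (.node (.node (.leaf (4, true)) (.leaf (700, true))) (.node (.leaf (311, false)) (.leaf (1360, false)))) (.node (.node (.leaf (148, true)) (.leaf (943, true))) (.leaf (500, true)))) (.node (.node (.node (.leaf (73, true)) (.leaf (813, false))) (.leaf (402, false))) (.node (.node (.leaf (228, false)) (.leaf (1109, true))) (.leaf (597, true))))) (.node (.node (.node (.node (.leaf (38, true)) (.leaf (760, true))) (.leaf (357, true))) (.node (.node (.leaf (187, true)) (.leaf (1020, true))) (.leaf (549, false)))) (.node (.node (.node (.leaf (110, false)) (.leaf (872, true))) (.leaf (453, true))) (.node (.node (.leaf (270, false)) (.leaf (1216, true))) (.leaf (647, false)))))) (.node (.node (.node (.node (.node (.leaf (21, true)) (.leaf (731, true))) (.node (.leaf (333, false)) (.leaf (1451, true)))) (.node (.node (.leaf (168, true)) (.leaf (983, false))) (.leaf (522, false)))) (.node (.node (.node (.leaf (92, false)) (.leaf (841, false))) (.leaf (428, true))) (.node (.node (.leaf (249, false)) (.leaf (1160, false))) (.leaf (624,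 false))))) (.node (.node (.node (.node (.leaf (55, true)) (.leaf (790, true))) (.leaf (382, false))) (.node (.node (.leaf (207, false)) (.leaf (1061, true))) (.leaf (572, true)))) (.node (.node (.node (.leaf (128, true)) (.leaf (910, false))) (.leaf (478, true))) (.node (.node (.leaf (290, true)) (.leaf (1277, true))) (.leaf (675, true))))))) (.node (.node (.node (.node (.node (.node (.leaf (12, true)) (.leaf (717, true))) (.node (.leaf (324, false)) (.leaf (1398, false)))) (.node (.node (.leaf (157, false)) (.leaf (965, true))) (.leaf (512, true)))) (.node (.node (.node (.leaf (82, true)) (.leaf (829, true))) (.leaf (417, false))) (.node (.node (.leaf (240, false)) (.leaf (1136, false))) (.leaf (610, true))))) (.node (.node (.node (.node (.leaf (47, true)) (.leaf (773, true))) (.leaf (368, true))) (.node (.node (.leaf (196, true)) (.leaf (1043, true))) (.leaf (557, true)))) (.node (.node (.node (.leaf (118, true)) (.leaf (888, false))) (.leaf (467, true))) (.node (.node (.leaf (279, false)) (.leaf (1247, true))) (.leaf (664, false)))))) (.node (.node (.node (.node (.node (.leaf (30, false))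 (.leaf (743, false))) (.node (.leaf (343, false)) (.leaf (1544, true)))) (.node (.node (.leaf (177, false)) (.leaf (1000, false))) (.leaf (537, false)))) (.node (.node (.node (.leaf (102, false)) (.leaf (855, false))) (.leaf (439, false))) (.node (.node (.leaf (259, true)) (.leaf (1189, false))) (.leaf (636, false))))) (.node (.node (.node (.node (.leaf (64, false)) (.leaf (801, false))) (.leaf (391, true))) (.node (.node (.leaf (217, true)) (.leaf (1089, false))) (.leaf (585, false)))) (.node (.node (.node (.leaf (138, true)) (.leaf (929, false))) (.leaf (490, true))) (.node (.node (.leaf (300, true)) (.leaf (1309, true))) (.leaf (690, true))))))))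

def parents11 : Tree (ℕ × Bool) :=
  (.node (.node (.node (.node (.node (.node (.node (.leaf (5, false)) (.leaf (702, true))) (.node (.leaf (311, true)) (.leaf (1360, true)))) (.node (.node (.leaf (149, false)) (.leaf (947, true))) (.leaf (501, false)))) (.node (.node (.node (.leaf (74, false)) (.leaf (814, true))) (.leaf (402, true))) (.node (.node (.leaf (228, true)) (.leaf (1111, false))) (.leaf (598, false))))) (.node (.node (.node (.node (.leaf (39, false)) (.leaf (763, false))) (.leaf (358, false))) (.node (.node (.leaf (188, false)) (.leaf (1021, true))) (.leaf (550, false)))) (.node (.node (.node (.leaf (110, true)) (.leaf (873, false))) (.leaf (454, false))) (.node (.node (.leaf (270, true)) (.leaf (1218, true))) (.leaf (647, true)))))) (.node (.node (.node (.node (.node (.leaf (22, false)) (.leaf (732, false))) (.node (.leaf (333, true)) (.leaf (1458, true)))) (.node (.node (.leaf (169, false)) (.leaf (984, true))) (.leaf (522, true)))) (.node (.node (.node (.leaf (93, false)) (.leaf (843, false))) (.leaf (429, false))) (.node (.node (.leaf (249, true)) (.leaf (1161, true))) (.leaf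 (624, true))))) (.node (.node (.node (.node (.leaf (56, false)) (.leaf (791, true))) (.leaf (382, true))) (.node (.node (.leaf (207, true)) (.leaf (1063, true))) (.leaf (573, false)))) (.node (.node (.node (.leaf (129, true)) (.leaf (911, true))) (.leaf (479, false))) (.node (.node (.leaf (292, false)) (.leaf (1279, false))) (.leaf (676, false))))))) (.node (.node (.node (.node (.node (.node (.leaf (13, true)) (.leaf (718, false))) (.node (.leaf (324, true)) (.leaf (1399, false)))) (.node (.node (.leaf (157, true)) (.leaf (967, true))) (.leaf (513, false)))) (.node (.node (.node (.leaf (83, false)) (.leaf (830, true))) (.leaf (418, false))) (.node (.node (.leaf (240, true)) (.leaf (1137, false))) (.leaf (612, false))))) (.node (.node (.node (.node (.leaf (48, false)) (.leaf (775, false))) (.leaf (369, false))) (.node (.node (.leaf (197, false)) (.leaf (1044, true))) (.leaf (558, false)))) (.node (.node (.node (.leaf (120, false)) (.leaf (889, true))) (.leaf (468, false))) (.node (.node (.leaf (279, true)) (.leaf (1252, false))) (.leaf (665, false)))))) (.node (.node (.node (.node (.node (.leaf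 (30, true)) (.leaf (744, false))) (.node (.leaf (343, true)) (.leaf (1567, false)))) (.node (.node (.leaf (177, true)) (.leaf (1001, false))) (.leaf (538, true)))) (.node (.node (.node (.leaf (102, true)) (.leaf (855, true))) (.leaf (440, false))) (.node (.node (.leaf (260, true)) (.leaf (1194, false))) (.leaf (636, true))))) (.node (.node (.node (.node (.leaf (64, true)) (.leaf (801, true))) (.leaf (392, false))) (.node (.node (.leaf (218, false)) (.leaf (1089, true))) (.leaf (585, true)))) (.node (.node (.node (.leaf (139, false)) (.leaf (929, true))) (.leaf (491, false))) (.node (.node (.leaf (301, false)) (.leaf (1314, false))) (.leaf (691, true))))))))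

def parents12 : Tree (ℕ × Bool) :=
  (.node (.node (.node (.node (.node (.node (.node (.leaf (5, true)) (.leaf (703, true))) (.node (.leaf (312, true)) (.leaf (1367, true)))) (.node (.node (.leaf (149, true)) (.leaf (949, false))) (.leaf (501, true)))) (.node (.node (.node (.leaf (74, true)) (.leaf (815, false))) (.leaf (403, false))) (.node (.node (.leaf (229, false)) (.leaf (1111, true))) (.leaf (599, false))))) (.node (.node (.node (.node (.leaf (39, true)) (.leaf (763, true))) (.leaf (358, true))) (.node (.node (.leaf (188, true)) (.leaf (1022, false))) (.leaf (550, true)))) (.node (.node (.node (.leaf (111, false)) (.leaf (873, true))) (.leaf (454, true))) (.node (.node (.leaf (271, false)) (.leaf (1222, true))) (.leaf (648, true)))))) (.node (.node (.node (.node (.node (.leaf (22, true)) (.leaf (733, false))) (.node (.leaf (334, false)) (.leaf (1463, true)))) (.node (.node (.leaf (169, true)) (.leaf (987, false))) (.leaf (523, false)))) (.node (.node (.node (.leaf (93, true)) (.leaf (843, true))) (.leaf (430, false))) (.node (.node (.leaf (250, false)) (.leaf (1165, false))) (.leaf (626,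 false))))) (.node (.node (.node (.node (.leaf (56, true)) (.leaf (792, false))) (.leaf (383, false))) (.node (.node (.leaf (208, false)) (.leaf (1064, false))) (.leaf (573, true)))) (.node (.node (.node (.leaf (130, false)) (.leaf (912, false))) (.leaf (479, true))) (.node (.node (.leaf (293, false)) (.leaf (1279, true))) (.leaf (677, false))))))) (.node (.node (.node (.node (.node (.node (.leaf (14, false)) (.leaf (720, false))) (.node (.leaf (325, false)) (.leaf (1401, false)))) (.node (.node (.leaf (158, true)) (.leaf (969, false))) (.leaf (513, true)))) (.node (.node (.node (.leaf (83, true)) (.leaf (831, false))) (.leaf (419, true))) (.node (.node (.leaf (241, false)) (.leaf (1138, true))) (.leaf (612, true))))) (.node (.node (.node (.node (.leaf (48, true)) (.leaf (776, false))) (.leaf (369, true))) (.node (.node (.leaf (197, true)) (.leaf (1045, false))) (.leaf (558, true)))) (.node (.node (.node (.leaf (120, true)) (.leaf (890, true))) (.leaf (468, true))) (.node (.node (.leaf (280, false)) (.leaf (1252, true))) (.leaf (666, false)))))) (.node (.node (.node (.node (.node (.leaf (31, true))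 (.leaf (744, true))) (.leaf (345, true))) (.node (.node (.leaf (178, true)) (.leaf (1002, false))) (.leaf (539, false)))) (.node (.node (.node (.leaf (103, false)) (.leaf (856, false))) (.leaf (441, true))) (.node (.node (.leaf (261, true)) (.leaf (1197, false))) (.leaf (637, false))))) (.node (.node (.node (.node (.leaf (65, false)) (.leaf (802, true))) (.leaf (392, true))) (.node (.node (.leaf (218, true)) (.leaf (1090, false))) (.leaf (586, false)))) (.node (.node (.node (.leaf (139, true)) (.leaf (931, false))) (.leaf (492, false))) (.node (.node (.leaf (301, true)) (.leaf (1314, true))) (.leaf (692, true))))))))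

def parents13 : Tree (ℕ × Bool) :=
  (.node (.node (.node (.node (.node (.node (.node (.leaf (6, false)) (.leaf (704, false))) (.node (.leaf (313, false)) (.leaf (1375, false)))) (.node (.node (.leaf (150, false)) (.leaf (950, false))) (.leaf (502, false)))) (.node (.node (.node (.leaf (75, false)) (.leaf (815, true))) (.leaf (403, true))) (.node (.node (.leaf (229, true)) (.leaf (1117, true))) (.leaf (602, false))))) (.node (.node (.node (.node (.leaf (40, false)) (.leaf (764, false))) (.leaf (359, false))) (.node (.node (.leaf (189, false)) (.leaf (1023, true))) (.leaf (551, false)))) (.node (.node (.node (.leaf (111, true)) (.leaf (874, false))) (.leaf (455, false))) (.node (.node (.leaf (271, true)) (.leaf (1226, false))) (.leaf (652, true)))))) (.node (.node (.node (.node (.node (.leaf (23, false)) (.leaf (733, true))) (.node (.leaf (334, true)) (.leaf (1483, false)))) (.node (.node (.leaf (170, false)) (.leaf (987, true))) (.leaf (523, true)))) (.node (.node (.node (.leaf (94, false)) (.leaf (844, false))) (.leaf (430, true))) (.node (.node (.leaf (250, true)) (.leaf (1167, true))) (.leaf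 (626, true))))) (.node (.node (.node (.node (.leaf (57, false)) (.leaf (792, true))) (.leaf (383, true))) (.node (.node (.leaf (209, false)) (.leaf (1064, true))) (.leaf (574, false)))) (.node (.node (.node (.leaf (130, true)) (.leaf (912, true))) (.leaf (480, false))) (.node (.node (.leaf (293, true)) (.leaf (1280, true))) (.leaf (678, false))))))) (.node (.node (.node (.node (.node (.node (.leaf (14, true)) (.leaf (720, true))) (.node (.leaf (325, true)) (.leaf (1401, true)))) (.node (.node (.leaf (159, false)) (.leaf (969, true))) (.leaf (515, false)))) (.node (.node (.node (.leaf (84, false)) (.leaf (831, true))) (.leaf (420, false))) (.node (.node (.leaf (241, true)) (.leaf (1140, true))) (.leaf (613, false))))) (.node (.node (.node (.node (.leaf (49, false)) (.leaf (776, true))) (.leaf (370, true))) (.node (.node (.leaf (198, false)) (.leaf (1045, true))) (.leaf (559, false)))) (.node (.node (.node (.leaf (121, false)) (.leaf (891, true))) (.leaf (469, false))) (.node (.node (.leaf (280, true)) (.leaf (1254, true))) (.leaf (667, false)))))) (.node (.node (.node (.node (.node (.leaf (32,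 false)) (.leaf (745, false))) (.leaf (346, false))) (.node (.node (.leaf (179, false)) (.leaf (1002, true))) (.leaf (540, false)))) (.node (.node (.node (.leaf (103, true)) (.leaf (856, true))) (.leaf (442, false))) (.node (.node (.leaf (262, false)) (.leaf (1197, true))) (.leaf (637, true))))) (.node (.node (.node (.node (.leaf (65, true)) (.leaf (803, false))) (.leaf (393, false))) (.node (.node (.leaf (219, false)) (.leaf (1090, true))) (.leaf (586, true)))) (.node (.node (.node (.leaf (140, false)) (.leaf (931, true))) (.leaf (492, true))) (.node (.node (.leaf (302, false)) (.leaf (1316, true))) (.leaf (693, false))))))))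

def parents14 : Tree (ℕ × Bool) :=
  (.node (.node (.node (.node (.node (.node (.node (.leaf (6, true)) (.leaf (704, true))) (.node (.leaf (313, true)) (.leaf (1377, true)))) (.node (.node (.leaf (151, false)) (.leaf (952, true))) (.leaf (502, true)))) (.node (.node (.node (.leaf (75, true)) (.leaf (816, false))) (.leaf (404, false))) (.node (.node (.leaf (230, false)) (.leaf (1119, false))) (.leaf (602, true))))) (.node (.node (.node (.node (.leaf (40, true)) (.leaf (764, true))) (.leaf (359, true))) (.node (.node (.leaf (189, true)) (.leaf (1024, false))) (.leaf (551, true)))) (.node (.node (.node (.leaf (112, false)) (.leaf (875, true))) (.leaf (455, true))) (.node (.node (.leaf (272, false)) (.leaf (1230, false))) (.leaf (654, false)))))) (.node (.node (.node (.node (.node (.leaf (23, true)) (.leaf (734, false))) (.node (.leaf (335, false)) (.leaf (1487, false)))) (.node (.node (.leaf (170, true)) (.leaf (993, true))) (.leaf (524, false)))) (.node (.node (.node (.leaf (94, true)) (.leaf (844, true))) (.leaf (431, true))) (.node (.node (.leaf (251, false)) (.leaf (1170, true))) (.leaf (627,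 false))))) (.node (.node (.node (.node (.leaf (58, false)) (.leaf (793, false))) (.leaf (385, false))) (.node (.node (.leaf (210, false)) (.leaf (1065, false))) (.leaf (574, true)))) (.node (.node (.node (.leaf (131, false)) (.leaf (913, false))) (.leaf (481, false))) (.node (.node (.leaf (294, false)) (.leaf (1283, false))) (.leaf (679, false))))))) (.node (.node (.node (.node (.node (.node (.leaf (15, true)) (.leaf (721, true))) (.node (.leaf (326, false)) (.leaf (1408, true)))) (.node (.node (.leaf (161, true)) (.leaf (971, true))) (.leaf (515, true)))) (.node (.node (.node (.leaf (84, true)) (.leaf (832, true))) (.leaf (420, true))) (.node (.node (.leaf (242, false)) (.leaf (1143, false))) (.leaf (614, false))))) (.node (.node (.node (.node (.leaf (49, true)) (.leaf (777, true))) (.leaf (371, false))) (.node (.node (.leaf (200, false)) (.leaf (1046, true))) (.leaf (559, true)))) (.node (.node (.node (.leaf (121, true)) (.leaf (892, false))) (.leaf (469, true))) (.node (.node (.leaf (281, false)) (.leaf (1259, false))) (.leaf (668, false)))))) (.node (.node (.node (.node (.node (.leaf (32,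 true)) (.leaf (745, true))) (.leaf (346, true))) (.node (.node (.leaf (180, false)) (.leaf (1003, false))) (.leaf (540, true)))) (.node (.node (.node (.leaf (104, false)) (.leaf (859, false))) (.leaf (443, false))) (.node (.node (.leaf (262, true)) (.leaf (1199, false))) (.leaf (638, false))))) (.node (.node (.node (.node (.leaf (66, false)) (.leaf (804, false))) (.leaf (394, false))) (.node (.node (.leaf (220, true)) (.leaf (1091, true))) (.leaf (587, false)))) (.node (.node (.node (.leaf (141, false)) (.leaf (932, false))) (.leaf (493, true))) (.node (.node (.leaf (302, true)) (.leaf (1318, true))) (.leaf (693, true))))))))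

def parents15 : Tree (ℕ × Bool) :=
  (.node (.node (.node (.node (.node (.node (.node (.leaf (7, false)) (.leaf (706, true))) (.node (.leaf (314, false)) (.leaf (1378, false)))) (.node (.node (.leaf (151, true)) (.leaf (955, true))) (.leaf (503, false)))) (.node (.node (.node (.leaf (76, false)) (.leaf (817, false))) (.leaf (404, true))) (.node (.node (.leaf (230, true)) (.leaf (1119, true))) (.leaf (603, false))))) (.node (.node (.node (.node (.leaf (41, false)) (.leaf (765, false))) (.leaf (360, false))) (.node (.node (.leaf (190, false)) (.leaf (1025, false))) (.leaf (552, false)))) (.node (.node (.node (.leaf (112, true)) (.leaf (876, false))) (.leaf (456, false))) (.node (.node (.leaf (272, true)) (.leaf (1230, true))) (.leaf (654, true)))))) (.node (.node (.node (.node (.node (.leaf (24, false)) (.leaf (734, true))) (.node (.leaf (335, true)) (.leaf (1492, false)))) (.node (.node (.leaf (171, true)) (.leaf (994, false))) (.leaf (524, true)))) (.node (.node (.node (.leaf (95, true)) (.leaf (846, false))) (.leaf (432, false))) (.node (.node (.leaf (252, false)) (.leaf (1176, false))) (.leaf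 (627, true))))) (.node (.node (.node (.node (.leaf (58, true)) (.leaf (793, true))) (.leaf (385, true))) (.node (.node (.leaf (210, true)) (.leaf (1068, true))) (.leaf (575, false)))) (.node (.node (.node (.leaf (131, true)) (.leaf (916, true))) (.leaf (481, true))) (.node (.node (.leaf (294, true)) (.leaf (1286, true))) (.leaf (679, true))))))) (.node (.node (.node (.node (.node (.node (.leaf (16, false)) (.leaf (722, false))) (.node (.leaf (326, true)) (.leaf (1415, false)))) (.node (.node (.leaf (162, false)) (.leaf (972, false))) (.leaf (516, false)))) (.node (.node (.node (.leaf (85, false)) (.leaf (833, true))) (.leaf (421, false))) (.node (.node (.leaf (242, true)) (.leaf (1143, true))) (.leaf (615, true))))) (.node (.node (.node (.node (.leaf (50, false)) (.leaf (778, false))) (.leaf (372, true))) (.node (.node (.leaf (201, false)) (.leaf (1047, false))) (.leaf (560, false)))) (.node (.node (.node (.leaf (122, true)) (.leaf (894, false))) (.leaf (470, false))) (.node (.node (.leaf (281, true)) (.leaf (1262, false))) (.leaf (668, true)))))) (.node (.node (.node (.node (.node (.leaf (33,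 false)) (.leaf (746, false))) (.leaf (347, true))) (.node (.node (.leaf (180, true)) (.leaf (1005, false))) (.leaf (541, false)))) (.node (.node (.node (.leaf (104, true)) (.leaf (860, false))) (.leaf (446, false))) (.node (.node (.leaf (263, false)) (.leaf (1200, false))) (.leaf (638, true))))) (.node (.node (.node (.node (.leaf (66, true)) (.leaf (805, false))) (.leaf (394, true))) (.node (.node (.leaf (221, true)) (.leaf (1093, false))) (.leaf (587, true)))) (.node (.node (.node (.leaf (141, true)) (.leaf (933, false))) (.leaf (494, false))) (.node (.node (.leaf (304, false)) (.leaf (1327, true))) (.leaf (694, false))))))))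

def parents : Tree (ℕ × Bool) :=
  (.node (.node (.node (.node parents0 parents8) (.node parents4 parents12)) (.node (.node parents2 parents10) (.node parents6 parents14))) (.node (.node (.node parents1 parents9) (.node parents5 parents13)) (.node (.node parents3 parents11) (.node parents7 parents15))))

def witnesses : List (ℕ × ℕ) := [(6, 26), (7, 1), (10, 4), (11, 12), (15, 444), (19, 16)]

def xMat : M7 := ⟨4096, 16777216, 68719476736, 281474976710656, 1152921504606846976, 4722366482869645213696, 1⟩

def yMat : M7 := ⟨37790463330490406412296, 14170558494803908104201, 9453958590263287914506, 47225972924055403134986, 47235194607242364100616, 14168252652207044833281, 4725825528927312949251⟩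

end Cfsg.Agent.Lie.Janko
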