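import Cfsg.Agent.Lib.Lie.JankoData

/-!
Boolean tests for the certificate data for the Janko group of order 175560.
-/

set_option autoImplicit false
set_option maxRecDepth 100000
set_option maxHeartbeats 0

namespace Cfsg.Agent.Lie.Janko

/-- Schreier relation at node `i`. -/
def schCheck (i : ℕ) : Bool :=
  ((reps.get i).mul xMat).beq ((borel.get (schX.get i).2).mul (reps.get (schX.get i).1)) &&
    (Nat.blt (schX.get i).1 1596 && (Nat.blt (schX.get i).2 110 &&
  (((reps.get i).mul yMat).beq ((borel.get (schY.get i).2).mul (reps.get (schY.get i).1)) &&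
    (Nat.blt (schY.get i).1 1596 && Nat.blt (schY.get i).2 110))))

/-- Conjugation relation at node `i`. -/
def conjCheck (i : ℕ) : Bool :=
  (((borel.get (conjTab.get i).2.1).mul (reps.get (classReps.getD (conjTab.get i).1 0))).mul
      (borel.get (conjTab.get i).2.2)).beq (reps.get i) &&
    (Nat.blt (conjTab.get i).1 19 && (Nat.blt (conjTab.get i).2.1 110 && Nat.blt (conjTab.get i).2.2 110))

/-- Multiplication table of the 110 elements. -/
def borelCheck (k : ℕ) : Bool :=
  ((borel.get (k / 110)).mul (borel.get (k % 110))).beq (borel.get (borelTab.get k)) &&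
    Nat.blt (borelTab.get k) 110

/-- The allowed exponents. -/
def allowed : List ℕ := [6, 7, 10, 11, 15, 19]

/-- Power check. -/
def powCheck (k : ℕ) : Bool :=
  (((borel.get (k % 110)).mul (reps.get (classReps.getD (k / 110) 0))).pow (classPow.get k)).beq M7.one &&
    allowed.contains (classPow.get k)

/-- The breadth-first tree. -/
def treeCheck (i : ℕ) : Bool :=
  Nat.blt (parents.get i).1 i &&
    ((reps.get i).beq ((reps.get (parents.get i).1).mul (if (parents.get i).2 then yMat else xMat)) &&
      Nat.blt i 1596)

/-- All entries are reduced. -/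
def goodCheck (i : ℕ) : Bool := (reps.get i).goodB

end Cfsg.Agent.Lie.Janko
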