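import Mathlib
import Cfsg.Prelude.Def_KGroupFacts
import Cfsg.Agent.Lib.Lie.JankoCard
import Cfsg.Agent.Lib.Lie.JankoAutoChecks

/-!
Every automorphism of `J₁` is inner.
-/

set_option autoImplicit false
set_option maxRecDepth 20000
set_option maxHeartbeats 1000000

namespace Cfsg.Agent.Lie.Janko

open Cfsg.Spor

/-- An element of `J₁` realises a packed matrix. -/
def Rep (g : J1) (A : M7) : Prop :=
  A.Good ∧ ((g : GL (Fin 7) (ZMod 11)) : Matrix (Fin 7) (Fin 7) (ZMod 11)) = toMat A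

theorem Rep.mul {g h : J1} {A B : M7} (hg : Rep g A) (hh : Rep h B) : Rep (g * h) (A.mul B) :=
  ⟨good_mul A B, by rw [toMat_mul hg.1 hh.1, Subgroup.coe_mul, Units.val_mul, hg.2, hh.2]⟩

theorem Rep.one : Rep 1 M7.one := ⟨good_one, by rw [toMat_one]; rfl⟩

theorem Rep.pow {g : J1} {A : M7} (hg : Rep g A) : ∀ n, Rep (g ^ n) (A.pow n)
  | 0 => by rw [pow_zero]; exact Rep.one
  | n + 1 => by rw [pow_succ]; exact (hg.pow n).mul hg

theorem Rep.eq {g h : J1} {A B : M7} (hg : Rep g A) (hh : Rep h B) (e : A.beq B = true) : g = h :=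
  Subtype.ext (Units.ext (by rw [hg.2, hh.2, M7.eq_of_beq e]))

theorem Rep.beq_iff {g h : J1} {A B : M7} (hg : Rep g A) (hh : Rep h B) : A.beq B = true ↔ g = h := by
  refine ⟨hg.eq hh, fun e => ?_⟩
  have : A = B := toMat_inj hg.1 hh.1 (by rw [← hg.2, ← hh.2, e])
  rw [this]
  simp [M7.beq]

theorem rep_borel {k : ℕ} (hk : k < 110) : ∃ g : J1, Rep g (borel.get k) := by
  obtain ⟨-, g, hg, eg⟩ := borel_line hk
  exact ⟨⟨g, hg⟩, good_borel hk, eg⟩

theorem rep_reps {i : ℕ} (hi : i < 1596) : ∃ g : J1, Rep g (reps.get i) := by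
  obtain ⟨g, hg, eg⟩ := rep_mem i hi
  exact ⟨⟨g, hg⟩, good_rep hi, eg⟩

theorem rep_coset (g : J1) : ∃ i < 1596, ∃ k < 110, ∃ b r : J1,
    Rep b (borel.get k) ∧ Rep r (reps.get i) ∧ g = b * r := by
  obtain ⟨i, k, hi, hk, e⟩ := inCosets_of_mem g g.2
  obtain ⟨b, hb⟩ := rep_borel hk
  obtain ⟨r, hr⟩ := rep_reps hi
  refine ⟨i, hi, k, hk, b, r, hb, hr, Subtype.ext (Units.ext ?_)⟩
  rw [e, Subgroup.coe_mul, Units.val_mul, hb.2, hr.2]

theorem zP_eq {n : ℕ} (hn : n < 11) : zP n = zMat.pow n := M7.eq_of_beq (all_range zP_ok.1 hn)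

theorem exists_z : ∃ z : J1, Rep z zMat ∧ orderOf z = 11 ∧
    (∀ k < 110, ∀ b : J1, Rep b (borel.get k) → z * b = b * z ^ autExp.get k) := by
  obtain ⟨z, hz⟩ := rep_borel (show 10 < 110 by norm_num)
  haveI : Fact (Nat.Prime 11) := ⟨by norm_num⟩
  refine ⟨z, hz, orderOf_eq_prime ((hz.pow 11).eq Rep.one zP_ok.2.1) fun e => ?_, fun k hk b hb => ?_⟩
  · have := (Rep.beq_iff hz Rep.one).2 e
    rw [show borel.get 10 = zMat from rfl, zP_ok.2.2.1] at this
    exact Bool.noConfusion this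
  · have h := all_range exp_ok hk
    simp only [expCheck, Bool.and_eq_true, Nat.blt_eq] at h
    rw [zP_eq h.2] at h
    exact (Rep.mul hz hb).eq (hb.mul (hz.pow _)) h.1

/-- An element of order 11 is a conjugate of a power of `z`. -/
theorem conj_to_power {z : J1} (hz : orderOf z = 11) (u : J1) (hu : orderOf u = 11) :
    ∃ g : J1, ∃ m : ℕ, 1 ≤ m ∧ m < 11 ∧ u = g⁻¹ * z ^ m * g := by
  haveI : Fact (Nat.Prime 11) := ⟨by norm_num⟩
  have hcard : ∀ w : J1, orderOf w = 11 → Nat.card (Subgroup.zpowers w) = 11 ^ (Nat.card J1).factorization 11 := by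
    intro w hw
    rw [Nat.card_zpowers, hw, card_eq, show (175560 : ℕ).factorization 11 = 1 from ?_, pow_one]
    rw [show (175560 : ℕ) = 11 ^ 1 * 15960 by norm_num, Nat.factorization_mul (by norm_num) (by norm_num),
      Finsupp.add_apply, Nat.factorization_pow_self (by norm_num),
      Nat.factorization_eq_zero_of_not_dvd (by norm_num)]
  obtain ⟨g, hg⟩ := MulAction.exists_smul_eq J1 (Sylow.ofCard _ (hcard z hz)) (Sylow.ofCard _ (hcard u hu))
  have h1 : u ∈ ((g • Sylow.ofCard _ (hcard z hz) : Sylow 11 J1) : Subgroup J1) := by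
    rw [hg, Sylow.coe_ofCard]
    exact Subgroup.mem_zpowers u
  rw [Sylow.coe_subgroup_smul, Sylow.coe_ofCard] at h1
  obtain ⟨w, hw, ew⟩ := h1
  simp only [SetLike.mem_coe, ← mem_powers_iff_mem_zpowers] at hw
  rw [mem_powers_iff_mem_range_orderOf, hz, Finset.mem_image] at hw
  obtain ⟨m, hm, rfl⟩ := hw
  have e : u = g * z ^ m * g⁻¹ := ew.symm
  refine ⟨g⁻¹, m, Nat.pos_of_ne_zero fun h0 => ?_, Finset.mem_range.1 hm, by rw [inv_inv]; exact e⟩
  rw [h0, pow_zero, mul_one, mul_inv_cancel] at e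
  rw [e, orderOf_one] at hu
  omega

theorem evalWord_rep {z c : J1} (hz : Rep z zMat) (hc : Rep c autC) (w : List Bool) :
    ∃ g ∈ Subgroup.closure ({z, c} : Set J1), Rep g (evalWord w) := by
  suffices ∀ (w : List Bool) (g : J1) (A : M7), g ∈ Subgroup.closure ({z, c} : Set J1) → Rep g A →
      ∃ g' ∈ Subgroup.closure ({z, c} : Set J1), Rep g' (w.foldl (fun g b => g.mul (if b then autC else zMat)) A) from
    this w 1 _ (one_mem _) Rep.one
  intro w
  induction w with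
  | nil => exact fun g A hg hA => ⟨g, hg, hA⟩
  | cons b w ih =>
    intro g A hg hA
    cases b
    · exact ih _ _ (mul_mem hg (Subgroup.subset_closure (Or.inl rfl))) (hA.mul hz)
    · exact ih _ _ (mul_mem hg (Subgroup.subset_closure (Or.inr rfl))) (hA.mul hc)

theorem closure_gen {z c : J1} (hz : Rep z zMat) (hc : Rep c autC) :
    Subgroup.closure ({z, c} : Set J1) = ⊤ := by
  obtain ⟨-, -, gx, gy⟩ := start_facts
  obtain ⟨x, hx, ex⟩ := evalWord_rep hz hc autWordX
  obtain ⟨y, hy, ey⟩ := evalWord_rep hz hc autWordY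
  have hX : Rep ⟨jankoX, Subgroup.subset_closure (Or.inl rfl)⟩ xMat := ⟨gx, val_X.symm⟩
  have hY : Rep ⟨jankoY, Subgroup.subset_closure (Or.inr rfl)⟩ yMat := ⟨gy, val_Y.symm⟩
  have e1 := ex.eq hX zP_ok.2.2.2.2.2.1
  have e2 := ey.eq hY zP_ok.2.2.2.2.2.2
  subst e1 e2
  refine top_le_iff.1 fun g _ => ?_
  have hle : J1 ≤ (Subgroup.closure ({z, c} : Set J1)).map J1.subtype := by
    show Subgroup.closure {jankoX, jankoY} ≤ _
    refine (Subgroup.closure_le _).2 ?_
    rintro s (rfl | rfl)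
    · exact ⟨_, hx, rfl⟩
    · exact ⟨_, hy, rfl⟩
  obtain ⟨v, hv, ev⟩ := hle g.2
  rwa [← show v = g from Subtype.ext ev]

/-- Every automorphism of `J₁` is inner. -/
theorem aut_inner (φ : MulAut J1) : ∃ a : J1, φ = MulAut.conj a := by
  obtain ⟨z, hz, hzo, hbz⟩ := exists_z
  obtain ⟨g, m, hm1, hm, em⟩ := conj_to_power hzo (φ z) (by rw [MulEquiv.orderOf_eq, hzo])
  obtain ⟨k, hk, ek⟩ : ∃ k, k < 110 ∧ autExp.get k = m := by
    have h := all_range exp_all (show m - 1 < 10 by omega)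
    simp only [List.any_eq_true, List.mem_range, Nat.beq_eq] at h
    obtain ⟨k, hk, e⟩ := h
    exact ⟨k, hk, by omega⟩
  obtain ⟨b, hb⟩ := rep_borel hk
  have hbm : z ^ m = b⁻¹ * z * b := by rw [mul_assoc, hbz k hk b hb, inv_mul_cancel_left, ek]
  -- an automorphism fixing `z`
  let ψ : MulAut J1 := MulAut.conj (b * g) * φ
  have hψz : ψ z = z := by
    show b * g * φ z * (b * g)⁻¹ = z
    rw [em, hbm]
    group
  obtain ⟨c, hc⟩ : ∃ c : J1, Rep c autC := by
    have h := all_range q_ok (show 1 < 146 by norm_num)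
    simp only [qCheck, Bool.and_eq_true, Nat.blt_eq] at h
    obtain ⟨r, hr⟩ := rep_reps h.2.2.1
    have hi : Rep r⁻¹ (autQsInv.get 1) := by
      refine ⟨good_of_goodB h.2.2.2, ?_⟩
      rw [Subgroup.coe_inv]
      refine Units.inv_eq_of_mul_eq_one_right ?_
      rw [hr.2, ← toMat_mul hr.1 (good_of_goodB h.2.2.2), M7.eq_of_beq h.1, toMat_one]
    refine ⟨r⁻¹ * z ^ 1 * r, ?_⟩
    have := (hi.mul (hz.pow 1)).mul hr
    rw [← zP_eq (by norm_num)] at this
    rw [← M7.eq_of_beq zP_ok.2.2.2.1]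
    exact this
  have hrel : ∀ p ∈ autRels, (z * c ^ p.1) ^ p.2 = 1 := by
    intro p hp
    have h := List.all_eq_true.1 zP_ok.2.2.2.2.1 p hp
    exact ((hz.mul (hc.pow _)).pow _).eq Rep.one h
  have hco : orderOf c = 11 := by
    haveI : Fact (Nat.Prime 11) := ⟨by norm_num⟩
    have h := all_range q_ok (show 1 < 146 by norm_num)
    simp only [qCheck, Bool.and_eq_true, Nat.blt_eq] at h
    obtain ⟨r, hr⟩ := rep_reps h.2.2.1
    have e : r * c = z * r := by
      refine (hr.mul hc).eq (hz.mul hr) ?_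
      have hq : (reps.get (autQs.get 1)).mul autC = zMat.mul (reps.get (autQs.get 1)) := by
        refine toMat_inj (good_mul _ _) (good_mul _ _) ?_
        rw [toMat_mul hr.1 hc.1, ← M7.eq_of_beq zP_ok.2.2.2.1, autCand,
          toMat_mul (good_mul _ _) hr.1, toMat_mul (good_of_goodB h.2.2.2) (by rw [zP_eq (by norm_num)]; exact good_pow _ _),
          ← mul_assoc, ← mul_assoc, ← toMat_mul hr.1 (good_of_goodB h.2.2.2), M7.eq_of_beq h.1, toMat_one, one_mul,
          zP_eq (by norm_num), toMat_pow hz.1, pow_one, toMat_mul hz.1 hr.1]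
      rw [hq]
      simp [M7.beq]
    have hsc : SemiconjBy r c z := e
    exact (hsc.orderOf_eq r).trans hzo
  obtain ⟨g', m', hm1', hm', em'⟩ := conj_to_power hzo (ψ c) (by rw [MulEquiv.orderOf_eq, hco])
  obtain ⟨i, hi, k', hk', b', r, hb', hr, hg'⟩ := rep_coset g'
  have hcert := all_range cert_ok hi
  simp only [certCheck, Bool.and_eq_true, Nat.blt_eq] at hcert
  obtain ⟨hce, hq, hn, hk''⟩ := hcert
  have hqq := all_range q_ok hq
  simp only [qCheck, Bool.and_eq_true, Nat.blt_eq] at hqq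
  obtain ⟨rq, hrq⟩ := rep_reps hqq.2.2.1
  have hrqi : Rep rq⁻¹ (autQsInv.get (autCert.get i).1) := by
    refine ⟨good_of_goodB hqq.2.2.2, ?_⟩
    rw [Subgroup.coe_inv]
    refine Units.inv_eq_of_mul_eq_one_right ?_
    rw [hrq.2, ← toMat_mul hrq.1 (good_of_goodB hqq.2.2.2), M7.eq_of_beq hqq.1, toMat_one]
  obtain ⟨b'', hb''⟩ := rep_borel hk''
  rw [zP_eq hn] at hce
  have ecert : rq * z ^ (autCert.get i).2.1 = b'' * r := (hrq.mul (hz.pow _)).eq (hb''.mul hr) hce
  -- the subgroup generated by `z` is normalised by the borel elements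
  have hnorm : ∀ b : J1, ∀ k < 110, Rep b (borel.get k) → b ∈ Subgroup.normalizer ((Subgroup.zpowers z : Subgroup J1) : Set J1) := by
    intro b k hk hb
    have hsub : (Subgroup.zpowers z).map (MulAut.conj b⁻¹).toMonoidHom = Subgroup.zpowers z := by
      refine Subgroup.eq_of_le_of_card_ge ?_ (by rw [Subgroup.card_map_of_injective (MulAut.conj b⁻¹).injective])
      rw [MonoidHom.map_zpowers, Subgroup.zpowers_le]
      show b⁻¹ * z * b⁻¹⁻¹ ∈ _
      rw [inv_inv, mul_assoc, hbz k hk b hb, inv_mul_cancel_left]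
      exact Subgroup.pow_mem _ (Subgroup.mem_zpowers z) _
    rw [← inv_mem_iff]
    refine Subgroup.mem_normalizer_iff.2 fun y => ?_
    constructor
    · intro hy
      rw [← hsub]
      exact ⟨y, hy, rfl⟩
    · intro hy
      rw [← hsub] at hy
      obtain ⟨v, hv, ev⟩ := hy
      rwa [← show v = y from (MulAut.conj b⁻¹).injective ev]
  have hw : b'' * (b'⁻¹ * z ^ m' * b'⁻¹⁻¹) * b''⁻¹ ∈ Subgroup.zpowers z :=
    (Subgroup.mem_normalizer_iff.1 (hnorm b'' _ hk'' hb'') _).1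
      ((Subgroup.mem_normalizer_iff.1 (inv_mem (hnorm b' _ hk' hb')) _).1
        (Subgroup.pow_mem _ (Subgroup.mem_zpowers z) _))
  rw [← mem_powers_iff_mem_zpowers, mem_powers_iff_mem_range_orderOf, hzo, Finset.mem_image] at hw
  obtain ⟨M, hM, eM⟩ := hw
  rw [Finset.mem_range] at hM
  set n := (autCert.get i).2.1 with hn'
  set q := (autCert.get i).1 with hq'
  have eψ : ψ c = (z ^ n)⁻¹ * (rq⁻¹ * z ^ M * rq) * z ^ n := by
    have hr' : r = b''⁻¹ * rq * z ^ n := by rw [mul_assoc, ecert, inv_mul_cancel_left]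
    rw [em', hg', eM, hr']
    group
  have hM0 : 1 ≤ M := Nat.pos_of_ne_zero fun h0 => by
    rw [h0, pow_zero] at eψ
    have : ψ c = 1 := by rw [eψ]; group
    have hc1 : c = 1 := ψ.injective (by rw [this, map_one])
    rw [hc1, orderOf_one] at hco
    omega
  have hfil := all_range filter_ok (show q * 10 + (M - 1) < 1460 by omega)
  simp only [filterCheck, Bool.or_eq_true, Bool.and_eq_true, Nat.beq_eq, show (q * 10 + (M - 1)) / 10 = q by omega,
    show (q * 10 + (M - 1)) % 10 = M - 1 by omega, show M - 1 + 1 = M by omega, Bool.not_eq_true'] at hfil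
  have hd : Rep (rq⁻¹ * z ^ M * rq) (autCand q M) := by
    have := (hrqi.mul (hz.pow M)).mul hrq
    rw [← zP_eq hM] at this
    exact this
  have hall : autRels.all (wordTest (autCand q M)) = true := by
    refine List.all_eq_true.2 fun p hp => ?_
    refine (Rep.beq_iff ((hz.mul (hd.pow _)).pow _) Rep.one).2 ?_
    have h1 : (z * (ψ c) ^ p.1) ^ p.2 = 1 := by
      conv_lhs => rw [← hψz, ← map_pow, ← map_mul, ← map_pow, hrel p hp, map_one]
    rw [eψ, show (z ^ n)⁻¹ * (rq⁻¹ * z ^ M * rq) * z ^ n = (z ^ n)⁻¹ * (rq⁻¹ * z ^ M * rq) * (z ^ n)⁻¹⁻¹ by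
      rw [inv_inv], conj_pow, inv_inv,
      show z * ((z ^ n)⁻¹ * (rq⁻¹ * z ^ M * rq) ^ p.1 * z ^ n) =
        (z ^ n)⁻¹ * (z * (rq⁻¹ * z ^ M * rq) ^ p.1) * (z ^ n)⁻¹⁻¹ by group, conj_pow] at h1
    rwa [mul_inv_eq_one, mul_eq_left] at h1
  rw [hall] at hfil
  obtain ⟨hq1, hM1⟩ := hfil.resolve_right (by simp)
  have ec : rq⁻¹ * z ^ M * rq = c := by
    refine hd.eq hc ?_
    rw [show q = 1 from hq1, show M = 1 by omega]
    exact zP_ok.2.2.2.1
  rw [ec] at eψ
  -- the automorphism fixing both generators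
  let χ : MulAut J1 := MulAut.conj (z ^ n) * ψ
  have hχ : χ.toMonoidHom = MonoidHom.id J1 := by
    refine MonoidHom.eq_of_eqOn_dense (closure_gen hz hc) ?_
    rintro s (hs | hs)
    · rw [hs]
      show z ^ n * ψ z * (z ^ n)⁻¹ = z
      rw [hψz]
      group
    · rw [Set.mem_singleton_iff.1 hs]
      show z ^ n * ψ c * (z ^ n)⁻¹ = c
      rw [eψ]
      group
  refine ⟨(z ^ n * (b * g))⁻¹, ?_⟩
  have hχ1 : χ = 1 := MulEquiv.ext fun x => DFunLike.congr_fun hχ x
  have : MulAut.conj (z ^ n * (b * g)) * φ = 1 := by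
    rw [map_mul, mul_assoc]
    exact hχ1
  rw [map_inv]
  exact eq_inv_of_mul_eq_one_right this

/-- The outer automorphism group of `J₁` is trivial. -/
theorem card_out : Nat.card (Cfsg.Out J1) = 1 := by
  have h : Cfsg.Inn J1 = ⊤ := top_le_iff.1 fun φ _ => by
    obtain ⟨a, rfl⟩ := aut_inner φ
    exact ⟨a, rfl⟩
  haveI : Subsingleton (Cfsg.Out J1) := by
    show Subsingleton (MulAut J1 ⧸ Cfsg.Inn J1)
    rw [h]
    exact QuotientGroup.subsingleton_quotient_top
  exact Nat.card_of_subsingleton (1 : Cfsg.Out J1)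

end Cfsg.Agent.Lie.Janko
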