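import Mathlib
import Cfsg.Agent.Lib.Solv.SchurSmall
import Cfsg.Agent.Lib.Lie.StemSylow
import Cfsg.Agent.Lib.Lie.JankoOut

/-!
The Schur multiplier of `J₁` is trivial.
-/

set_option autoImplicit false
set_option maxRecDepth 20000

namespace Cfsg.Agent.Lie.Janko

open Cfsg.Spor

theorem rep_four {n : ℕ} (hn : n < 4) : ∃ g : J1, Rep g (fourMat n) := by
  have h := four_ok
  simp only [Bool.and_eq_true, List.all_eq_true, List.mem_range, Nat.blt_eq] at h
  obtain ⟨h1, h2⟩ := h.1.1.1.1.1 n hn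
  obtain ⟨b, hb⟩ := rep_borel h1
  obtain ⟨r, hr⟩ := rep_reps h2
  exact ⟨b * r, hb.mul hr⟩

/-- A Sylow 2-subgroup generated by three involutions which an element permutes as `a ↦ b ↦ c ↦ ab`. -/
theorem exists_four : ∃ a b c h : J1, a * b = b * a ∧ a * c = c * a ∧ b * c = c * b ∧ h * a = b * h ∧
    h * b = c * h ∧ h * c = a * b * h ∧ ∃ P : Sylow 2 J1, (P : Subgroup J1) = Subgroup.closure {a, b, c} := by
  obtain ⟨a, ha⟩ := rep_four (show 0 < 4 by norm_num)
  obtain ⟨b, hb⟩ := rep_four (show 1 < 4 by norm_num)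
  obtain ⟨c, hc⟩ := rep_four (show 2 < 4 by norm_num)
  obtain ⟨h, hh⟩ := rep_four (show 3 < 4 by norm_num)
  have hok := four_ok
  simp only [Bool.and_eq_true, List.all_eq_true, List.mem_range] at hok
  obtain ⟨⟨⟨⟨⟨-, hsq⟩, q1⟩, q2⟩, q3⟩, hd⟩ := hok
  have sa : a * a = 1 := (ha.mul ha).eq Rep.one (hsq 0 (by norm_num)).1
  have sb : b * b = 1 := (hb.mul hb).eq Rep.one (hsq 1 (by norm_num)).1
  have sc : c * c = 1 := (hc.mul hc).eq Rep.one (hsq 2 (by norm_num)).1
  have ab : a * b = b * a := (ha.mul hb).eq (hb.mul ha) ((hsq 0 (by norm_num)).2 1 (by norm_num))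
  have ac : a * c = c * a := (ha.mul hc).eq (hc.mul ha) ((hsq 0 (by norm_num)).2 2 (by norm_num))
  have bc : b * c = c * b := (hb.mul hc).eq (hc.mul hb) ((hsq 1 (by norm_num)).2 2 (by norm_num))
  refine ⟨a, b, c, h, ab, ac, bc, (hh.mul ha).eq (hb.mul hh) q1, (hh.mul hb).eq (hc.mul hh) q2,
    (hh.mul hc).eq ((ha.mul hb).mul hh) q3, ?_⟩
  have hpair : ∀ u ∈ ({a, b, c} : Set J1), ∀ v ∈ ({a, b, c} : Set J1), u * v = v * u := by
    intro u hu v hv
    simp only [Set.mem_insert_iff, Set.mem_singleton_iff] at hu hv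
    rcases hu with hu | hu | hu <;> rcases hv with hv | hv | hv <;> rw [hu, hv]
    exacts [ab, ac, ab.symm, bc, ac.symm, bc.symm]
  haveI : IsMulCommutative (Subgroup.closure ({a, b, c} : Set J1)) := Subgroup.isMulCommutative_closure hpair
  haveI : Fact (Nat.Prime 2) := ⟨by norm_num⟩
  have hexp : ∀ x ∈ Subgroup.closure ({a, b, c} : Set J1), x ^ 2 = 1 := by
    intro x hx
    induction hx using Subgroup.closure_induction with
    | mem s hs =>
      simp only [Set.mem_insert_iff, Set.mem_singleton_iff] at hs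
      rcases hs with hs | hs | hs <;> rw [hs, pow_two]
      exacts [sa, sb, sc]
    | one => exact one_pow 2
    | mul u v hu hv iu iv =>
      have huv : Commute u v := congrArg Subtype.val (mul_comm' (⟨u, hu⟩ : Subgroup.closure ({a, b, c} : Set J1)) ⟨v, hv⟩)
      rw [huv.mul_pow, iu, iv, one_mul]
    | inv u _ iu => rw [inv_pow, iu, inv_one]
  have hp : IsPGroup 2 (Subgroup.closure ({a, b, c} : Set J1)) := fun x =>
    ⟨1, Subtype.ext (by rw [pow_one, SubgroupClass.coe_pow]; exact hexp x x.2)⟩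
  obtain ⟨P, hP⟩ := hp.exists_le_sylow
  refine ⟨P, (Subgroup.eq_of_le_of_card_ge hP ?_).symm⟩
  have hcard : Nat.card (P : Subgroup J1) = 8 := by
    rw [P.card_eq_multiplicity, card_eq, show (175560 : ℕ).factorization 2 = 3 from ?_]
    · norm_num
    rw [show (175560 : ℕ) = 2 ^ 3 * 21945 by norm_num, Nat.factorization_mul (by norm_num) (by norm_num),
      Finsupp.add_apply, Nat.factorization_pow_self (by norm_num),
      Nat.factorization_eq_zero_of_not_dvd (by norm_num)]
  rw [hcard]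
  let els : Fin 8 → J1 := ![1, a, b, c, a * b, a * c, b * c, a * b * c]
  have hels : ∀ i : Fin 8, Rep (els i) (eight.getD i M7.one) := by
    intro i
    fin_cases i
    exacts [Rep.one, ha, hb, hc, ha.mul hb, ha.mul hc, hb.mul hc, (ha.mul hb).mul hc]
  have hmem : ∀ i, els i ∈ Subgroup.closure ({a, b, c} : Set J1) := by
    have m1 : a ∈ Subgroup.closure ({a, b, c} : Set J1) := Subgroup.subset_closure (Set.mem_insert _ _)
    have m2 : b ∈ Subgroup.closure ({a, b, c} : Set J1) :=
      Subgroup.subset_closure (Set.mem_insert_of_mem _ (Set.mem_insert _ _))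
    have m3 : c ∈ Subgroup.closure ({a, b, c} : Set J1) :=
      Subgroup.subset_closure (Set.mem_insert_of_mem _ (Set.mem_insert_of_mem _ (Set.mem_singleton _)))
    intro i
    fin_cases i
    exacts [one_mem _, m1, m2, m3, mul_mem m1 m2, mul_mem m1 m3, mul_mem m2 m3, mul_mem (mul_mem m1 m2) m3]
  have hinj : Function.Injective (fun i => (⟨els i, hmem i⟩ : Subgroup.closure ({a, b, c} : Set J1))) := by
    intro i j e
    by_contra hne
    have h' := hd i i.2 j j.2
    simp only [Bool.or_eq_true, Nat.beq_eq, Fin.val_inj, hne, false_or, Bool.not_eq_true'] at h'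
    have := (Rep.beq_iff (hels i) (hels j)).2 (congrArg Subtype.val e)
    rw [h'] at this
    exact Bool.noConfusion this
  have := Nat.card_le_card_of_injective _ hinj
  rwa [Nat.card_fin] at this

/-- The Schur multiplier of `J₁` is trivial. -/
theorem multiplier_trivial : Cfsg.HasCyclicSchurMultiplier J1 1 := by
  refine Cfsg.Agent.Solv.hasCyclicSchur_one_of fun Γ _ _ σ hσ k hk => ?_
  suffices σ.ker = ⊥ by rw [this] at hk; exact hk
  refine StemSylow.ker_eq_bot σ hσ fun p hp P => ?_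
  haveI := Fact.mk hp
  obtain ⟨hsurj, hc, -⟩ := hσ
  have hpm : IsPGroup p ((P : Subgroup Γ).map σ) := P.isPGroup'.map σ
  by_cases h2 : p = 2
  · subst h2
    obtain ⟨a, b, c, h, ab, ac, bc, e1, e2, e3, S, hS⟩ := exists_four
    obtain ⟨Q, hQ⟩ := hpm.exists_le_sylow
    obtain ⟨g, hg⟩ := MulAction.exists_smul_eq J1 Q S
    obtain ⟨γ, rfl⟩ := hsurj g
    have hin : ∀ x : Γ, x ∈ (P : Subgroup Γ) → σ (γ * x * γ⁻¹) ∈ Subgroup.closure ({a, b, c} : Set J1) := by
      intro x hx
      rw [← hS, ← hg, Sylow.coe_subgroup_smul]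
      exact ⟨σ x, hQ ⟨x, hx, rfl⟩, by simp⟩
    refine ⟨⟨fun x y => Subtype.ext ?_⟩⟩
    have := StemSylow.lifts_commute σ hsurj hc ab ac bc e1 e2 e3 (hin x x.2) (hin y y.2)
    show (x : Γ) * y = y * x
    rw [conj_mul, conj_mul] at this
    exact (MulAut.conj γ).injective this
  · refine StemSylow.comm_of_cyclic_image σ hc _ ?_
    obtain ⟨n, hn⟩ := hpm.exists_card_eq
    have hdvd : p ^ n ∣ 175560 := by
      rw [← hn, ← card_eq]
      exact Subgroup.card_subgroup_dvd_card _
    have hn1 : n ≤ 1 := by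
      by_contra hgt
      have h2' : p ^ 2 ∣ 175560 := (pow_dvd_pow p (by omega)).trans hdvd
      have hpd : p ∣ 2 ^ 3 * 3 * 5 * 7 * 11 * 19 := (dvd_pow_self p two_ne_zero).trans h2'
      rcases hp.dvd_mul.1 hpd with hd | hd
      rcases hp.dvd_mul.1 hd with hd | hd
      rcases hp.dvd_mul.1 hd with hd | hd
      rcases hp.dvd_mul.1 hd with hd | hd
      rcases hp.dvd_mul.1 hd with hd | hd
      · exact h2 ((Nat.prime_dvd_prime_iff_eq hp Nat.prime_two).1 (hp.dvd_of_dvd_pow hd))
      all_goals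
        rw [Nat.prime_dvd_prime_iff_eq hp (by norm_num)] at hd
        subst hd
        norm_num at h2'
    rcases Nat.le_one_iff_eq_zero_or_eq_one.1 hn1 with rfl | rfl
    · haveI := (Nat.card_eq_one_iff_unique.1 (by rw [hn, pow_zero])).1
      infer_instance
    · exact isCyclic_of_prime_card (by rw [hn, pow_one])

end Cfsg.Agent.Lie.Janko
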