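import Cfsg.Agent.Lib.Lie.LiftD4Three

/-! Lifts of root elements for B2 over the field with three elements. -/

set_option autoImplicit false
set_option linter.unusedSectionVars false
set_option maxRecDepth 100000

namespace Cfsg.Agent.Lie

open Cfsg.Lie
open scoped commutatorElement
open Cfsg.Agent.Small.SchurLifts

/-- The long roots of B2 as sums of two short roots. -/
def b2Dec : ℕ → ℕ × ℕ × ℤ
  | 0 => (1, 2, 2)
  | 3 => (1, 5, -2)
  | 4 => (2, 6, -2)
  | 7 => (5, 6, 2)
  | _ => (0, 0, 0)

/-- The long roots of B2. -/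
def b2Long (k : ℕ) : Bool := k == 0 || k == 3 || k == 4 || k == 7

/-- The data of the decompositions. -/
def okB2Dec : Bool :=
  (List.range 8).all fun k =>
    if b2Long k then
      let d := b2Dec k
      chevB2.commTerms d.1 d.2.1 == [(k, d.2.2, 1, 1)] && chevB2.commTerms d.2.1 d.1 == [(k, -d.2.2, 1, 1)] &&
        decide (d.1 < 8) && decide (d.2.1 < 8) && d.2.1 != d.1 && d.2.1 != chevB2.neg d.1 &&
        !b2Long d.1 && !b2Long d.2.1 && d.2.2.natAbs == 2 &&
        (chevB2.commTerms d.1 k).isEmpty && (chevB2.commTerms d.2.1 k).isEmpty &&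
        k != chevB2.neg d.1 && k != chevB2.neg d.2.1 &&
        (List.range 2).all fun i =>
          b2Long (chevB2.reflectRoot i k) &&
            ((b2Dec (chevB2.reflectRoot i k)).1 == chevB2.reflectRoot i d.1 &&
              (b2Dec (chevB2.reflectRoot i k)).2.1 == chevB2.reflectRoot i d.2.1 ||
             (b2Dec (chevB2.reflectRoot i k)).1 == chevB2.reflectRoot i d.2.1 &&
              (b2Dec (chevB2.reflectRoot i k)).2.1 == chevB2.reflectRoot i d.1)
    else decide ((psiOf chevB2 (fun i => if i = 1 then 1 else 0) k).natAbs = 1) &&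
      (List.range 2).all fun i => !b2Long (chevB2.reflectRoot i k)

theorem okB2DecTrue : okB2Dec = true := by decide +kernel

theorem okPairsB2 : okPairBase chevB2 [1, 2] pairCertB2 = true := okPairB2

theorem okB2Pairs : ((List.range 8).all fun r =>
    !(List.range 2).all (fun i => decide (chevB2.reflectRoot i r ≤ r)) ||
    (List.range 8).all fun s => s == r || s == chevB2.neg r ||
      !((List.range 2).all fun i => chevB2.reflectRoot i r != r || decide (chevB2.reflectRoot i s ≤ s)) ||
      (chevB2.commTerms r s).isEmpty || [(6, 3), (6, 5), (7, 2)].contains (r, s)) = true := by decide +kernel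

theorem b2_base_pairs {r s : ℕ} (hr : r < chevB2.nroots) (hdom : DomRoot chevB2 r) (hs : s < chevB2.nroots)
    (h1 : s ≠ r) (h2 : s ≠ chevB2.neg r) (hstab : StabMax chevB2 r s) (h0 : chevB2.commTerms r s ≠ []) :
    (r, s) ∈ [(6, 3), (6, 5), (7, 2)] := by
  have h := all_dom (D := chevB2) hr hdom okB2Pairs
  simp only [List.all_eq_true, List.mem_range, Bool.or_eq_true, beq_iff_eq, Bool.not_eq_true',
    List.contains_iff_mem, List.isEmpty_iff] at h
  rcases h s hs with (((h' | h') | h') | h') | h'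
  · exact absurd h' h1
  · exact absurd h' h2
  · exact absurd ((all_stab hstab).symm.trans h') (by decide)
  · exact absurd h' h0
  · exact h'

variable {F : Type*} [Field F] {Γ : Type*} [Group Γ]

theorem b2_dec_props {k : ℕ} (hk : k < 8) (hl : b2Long k = true) :
    chevB2.commTerms (b2Dec k).1 (b2Dec k).2.1 = [(k, (b2Dec k).2.2, 1, 1)] ∧
    chevB2.commTerms (b2Dec k).2.1 (b2Dec k).1 = [(k, -(b2Dec k).2.2, 1, 1)] ∧
    ((b2Dec k).1 < 8 ∧ (b2Dec k).2.1 < 8 ∧ (b2Dec k).2.1 ≠ (b2Dec k).1 ∧
      (b2Dec k).2.1 ≠ chevB2.neg (b2Dec k).1) ∧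
    (b2Dec k).2.2.natAbs = 2 ∧
    (chevB2.commTerms (b2Dec k).1 k = [] ∧ chevB2.commTerms (b2Dec k).2.1 k = [] ∧
      k ≠ chevB2.neg (b2Dec k).1 ∧ k ≠ chevB2.neg (b2Dec k).2.1) ∧
    ∀ i, i < 2 → b2Long (chevB2.reflectRoot i k) = true ∧
      ((b2Dec (chevB2.reflectRoot i k)).1 = chevB2.reflectRoot i (b2Dec k).1 ∧
        (b2Dec (chevB2.reflectRoot i k)).2.1 = chevB2.reflectRoot i (b2Dec k).2.1 ∨
       (b2Dec (chevB2.reflectRoot i k)).1 = chevB2.reflectRoot i (b2Dec k).2.1 ∧
        (b2Dec (chevB2.reflectRoot i k)).2.1 = chevB2.reflectRoot i (b2Dec k).1) := by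
  have h := okB2DecTrue
  simp only [okB2Dec, List.all_eq_true, List.mem_range] at h
  have h' := h k hk
  rw [if_pos hl] at h'
  simp only [Bool.and_eq_true, decide_eq_true_eq, bne_iff_ne, beq_iff_eq, List.isEmpty_iff,
    List.all_eq_true, List.mem_range, Bool.or_eq_true] at h'
  obtain ⟨⟨⟨⟨⟨⟨⟨⟨⟨⟨⟨⟨⟨e1, e2⟩, a1⟩, a2⟩, a3⟩, a4⟩, -⟩, -⟩, hc⟩, z1⟩, z2⟩, n1⟩, n2⟩, hi⟩ := h'
  exact ⟨e1, e2, ⟨a1, a2, a3, a4⟩, hc, ⟨z1, z2, n1, n2⟩, fun i h => hi i h⟩

theorem b2_short_props {k : ℕ} (hk : k < 8) (hl : b2Long k = false) :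
    (psiOf chevB2 (fun i => if i = 1 then 1 else 0) k).natAbs = 1 ∧
      ∀ i, i < 2 → b2Long (chevB2.reflectRoot i k) = false := by
  have h := okB2DecTrue
  simp only [okB2Dec, List.all_eq_true, List.mem_range] at h
  have h' := h k hk
  rw [if_neg (by rw [hl]; exact Bool.false_ne_true)] at h'
  simp only [Bool.and_eq_true, decide_eq_true_eq, List.all_eq_true, List.mem_range, Bool.not_eq_true'] at h'
  exact ⟨h'.1, h'.2⟩

theorem hasLift_B2_three (hF : Facts chevB2) (h3 : (3 : F) = 0) (hn : ∀ t : F, ∃ n : ℕ, (n : F) = t)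
    (C : Central Γ ↥(chevB2.group F)) : HasLift hF C := by
  have h20 : (2 : F) ≠ 0 := fun h => one_ne_zero (show (1 : F) = 0 by linear_combination h3 - h)
  have hm1 : (-1 : Fˣ) ≠ 1 := fun h => h20 (by
    rw [Units.ext_iff, Units.val_neg, Units.val_one] at h
    linear_combination -h)
  have hJ : ∀ j ∈ [1], ∃ k : Fˣ, k ^ j ≠ 1 := by
    intro j hj
    rw [List.mem_singleton] at hj
    subst hj
    exact ⟨-1, by rwa [pow_one]⟩
  -- pairings
  have hself : ∀ r, hF.Zp C r r := fun r => hF.zp_prime_field hn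
  have h76 : hF.Zp C 7 6 := hF.zp_of_torPair hJ (by decide) (by decide) (by decide +kernel)
    (Or.inr (by decide +kernel)) (e := [0, 1]) (by decide +kernel)
  have h46 : hF.Zp C 4 6 := hF.zp_of_torPair hJ (by decide) (by decide) (by decide +kernel)
    (Or.inr (by decide +kernel)) (e := [1, 1]) (by decide +kernel)
  have h74 : hF.Zp C 7 4 := by
    refine hF.zp_sum (a := 6) (b := 2) (c := (2 : F)) h20 (fun v => ?_)
      (hF.xq_commute (by decide) (by decide) (by decide +kernel) (Or.inr (by decide +kernel)))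
      (fun t v => ⟨C.L (hF.xq 6 (-t)) * C.L (hF.xq 4 (-t)), ?_, ?_⟩)
    · have := hF.π_comm_single (C := C) (a := 6) (b := 2) (k := 4) (c := 2) (by decide) (by decide) (by decide)
        (by decide +kernel) (by decide +kernel) (Or.inr (by decide +kernel)) (by decide +kernel)
        (Or.inr (by decide +kernel)) (by decide +kernel) v (1 : F)
      rw [this, mul_one]
      norm_num
    · have h := hF.xq_comm (r := 2) (s := 7) (by decide) (by decide) (by decide) (by decide +kernel) (1 : F) t
      simp only [ChevalleyDatum.commWord,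
        show chevB2.commTerms 2 7 = [(6, 1, 1, 1), (4, -1, 2, 1)] by decide +kernel, List.map_cons,
        List.map_nil, List.prod_cons, List.prod_nil, mul_one, pow_one, Int.cast_one, Int.cast_neg,
        neg_one_sq, one_mul, neg_mul, neg_neg] at h
      have c76 := hF.xq_commute (r := 7) (s := 6) (by decide) (by decide) (by decide +kernel)
        (Or.inr (by decide +kernel)) t (-t)
      have c74 := hF.xq_commute (r := 7) (s := 4) (by decide) (by decide) (by decide +kernel)
        (Or.inr (by decide +kernel)) t (-t)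
      rw [map_mul, C.π_L, C.π_L, h, mul_assoc (hF.xq 2 (1 : F)), (c76.mul_right c74).eq]
      group
    · exact (hself 6 v (-t)).mul_right (hF.zp_symm h46 v (-t))
  have hz : ∀ r s, r < chevB2.nroots → s < chevB2.nroots → s ≠ chevB2.neg r →
      (s = r ∨ chevB2.commTerms r s = []) → hF.Zp C r s := by
    refine hF.zp_all fun r hr hdom s hs h2 h0 => ?_
    rcases eq_or_ne s r with rfl | h1
    · exact hself s
    · obtain ⟨e, hst⟩ := h0.resolve_left h1
      have hm := mem_baseList okBaseB2 hr hdom hs h1 h2 e hst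
      simp only [List.mem_cons, List.not_mem_nil, or_false, Prod.mk.injEq] at hm
      rcases hm with ⟨rfl, rfl⟩ | ⟨rfl, rfl⟩ | ⟨rfl, rfl⟩
      exacts [hF.zp_symm h76, h74, h76]
  -- the lifts
  obtain ⟨c, hc⟩ : ∃ c : Fin chevB2.rank → Fˣ, ∀ k, k < 8 → b2Long k = false → torChar chevB2 c k ≠ 1 := by
    refine ⟨Facts.powC (fun i => if i = 1 then 1 else 0) (-1), fun k hk hl => ?_⟩
    rw [hF.torChar_powC]
    rcases Int.natAbs_eq (psiOf chevB2 (fun i => if i = 1 then 1 else 0) k) with e | e <;>
      rw [e, (b2_short_props hk hl).1]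
    · rw [Nat.cast_one, _root_.zpow_one]; exact hm1
    · rw [Nat.cast_one, _root_.zpow_neg, _root_.zpow_one, inv_neg, inv_one]; exact hm1
  let y : ℕ → F → Γ := fun k z =>
    if k < 8 then
      if b2Long k then ⁅C.L (hF.xq (b2Dec k).1 (1 : F)), C.L (hF.xq (b2Dec k).2.1 (z / ((b2Dec k).2.2 : F)))⁆
      else hF.torLift C c k z
    else 1
  have hC0 : ∀ k, k < 8 → b2Long k = true → ((b2Dec k).2.2 : F) ≠ 0 := fun k hk hl => by
    rcases Int.natAbs_eq (b2Dec k).2.2 with e | e <;> rw [e, (b2_dec_props hk hl).2.2.2.1] <;> simp [h20]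
  have hpair : ∀ k, k < 8 → b2Long k = true → ∀ t u : F,
      C.π ⁅C.L (hF.xq (b2Dec k).1 t), C.L (hF.xq (b2Dec k).2.1 u)⁆ = hF.xq k (((b2Dec k).2.2 : F) * t * u) := by
    intro k hk hl t u
    obtain ⟨e, -, ⟨a1, a2, a3, a4⟩, -, ⟨z1, z2, n1, n2⟩, -⟩ := b2_dec_props hk hl
    exact hF.π_comm_single a1 a2 a3 a4 e (Or.inr z1) n1 (Or.inr z2) n2 t u
  have hzak : ∀ k, k < 8 → b2Long k = true → hF.Zp C (b2Dec k).1 k ∧ hF.Zp C (b2Dec k).2.1 k := by
    intro k hk hl
    obtain ⟨-, -, ⟨a1, a2, -, -⟩, -, ⟨z1, z2, n1, n2⟩, -⟩ := b2_dec_props hk hl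
    exact ⟨hz _ _ a1 hk n1 (Or.inr z1), hz _ _ a2 hk n2 (Or.inr z2)⟩
  have proj : ∀ k z, C.π (y k z) = hF.xq k z := by
    intro k z
    simp only [y]
    by_cases hk : k < 8
    · rw [if_pos hk]
      by_cases hl : b2Long k = true
      · rw [if_pos hl, hpair k hk hl, mul_one, mul_div_cancel₀ _ (hC0 k hk hl)]
      · rw [if_neg hl]; exact hF.π_torLift hk (hc k hk (Bool.eq_false_iff.2 hl)) z
    · rw [if_neg hk, map_one, hF.xq_out (not_lt.1 hk)]
  have add : ∀ k z z', y k (z + z') = y k z * y k z' := by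
    intro k z z'
    simp only [y]
    by_cases hk : k < 8
    · simp only [if_pos hk]
      by_cases hl : b2Long k = true
      · simp only [if_pos hl, add_div]
        refine C.add_right (fun v => hF.xq (b2Dec k).2.1 v) (fun v v' => hF.xq_add _ v v') _ _ ?_
        exact hF.zp_lift (hzak k hk hl).2 (C.π_L _) (hpair k hk hl _ _)
      · simp only [if_neg hl]
        exact hF.torLift_add hk (hc k hk (Bool.eq_false_iff.2 hl)) (hself k) z z'
    · simp [if_neg hk]
  have y0 : ∀ k, y k 0 = 1 := fun k => by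
    have := add k 0 0
    rwa [add_zero, left_eq_mul] at this
  have yneg : ∀ k z, y k (-z) = (y k z)⁻¹ := fun k z => by
    rw [eq_inv_iff_mul_eq_one, ← add, neg_add_cancel, y0]
  have key : ∀ k, k < 8 → b2Long k = true → ∀ t u : F,
      ⁅C.L (hF.xq (b2Dec k).1 t), C.L (hF.xq (b2Dec k).2.1 u)⁆ = y k (((b2Dec k).2.2 : F) * t * u) := by
    intro k hk hl t u
    have base : ∀ u, ⁅C.L (hF.xq (b2Dec k).1 (1 : F)), C.L (hF.xq (b2Dec k).2.1 u)⁆ =
        y k (((b2Dec k).2.2 : F) * u) := fun u => by
      simp only [y, if_pos hk, if_pos hl, mul_div_cancel_left₀ _ (hC0 k hk hl)]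
    have hl' : ∀ t t', ⁅C.L (hF.xq (b2Dec k).1 (t + t')), C.L (hF.xq (b2Dec k).2.1 u)⁆ =
        ⁅C.L (hF.xq (b2Dec k).1 t'), C.L (hF.xq (b2Dec k).2.1 u)⁆ *
          ⁅C.L (hF.xq (b2Dec k).1 t), C.L (hF.xq (b2Dec k).2.1 u)⁆ := fun t t' =>
      C.add_left (fun v => hF.xq (b2Dec k).1 v) (fun v v' => hF.xq_add _ v v') t t'
        (hF.zp_lift (hzak k hk hl).1 (C.π_L _) (hpair k hk hl _ _))
    have h0 := hl' 0 0
    rw [add_zero, left_eq_mul] at h0
    rcases Facts.three_cases h3 hn t with rfl | rfl | rfl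
    · rw [h0, mul_zero, zero_mul, y0]
    · rw [mul_one, base]
    · have h1 := hl' 1 (-1)
      rw [add_neg_cancel, h0, base] at h1
      rw [eq_inv_of_mul_eq_one_left h1.symm, ← yneg]
      congr 1
      ring
  have keyS : ∀ k, k < 8 → b2Long k = true → ∀ t u : F,
      ⁅C.L (hF.xq (b2Dec k).2.1 u), C.L (hF.xq (b2Dec k).1 t)⁆ = y k (-(((b2Dec k).2.2 : F) * t * u)) := by
    intro k hk hl t u
    rw [← commutatorElement_inv, key k hk hl, yneg]
  let Y : hF.YLift C :=
    { y := y
      out := fun k z hk => if_neg (not_lt.2 hk)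
      proj := proj
      add := add
      conj_tq := fun d {k} hk z => by
        have hk' : k < 8 := hk
        by_cases hl : b2Long k = true
        · obtain ⟨-, -, ⟨a1, a2, -, -⟩, -, -, -⟩ := b2_dec_props hk' hl
          have e : C.L (hF.tq d) * y k z * (C.L (hF.tq d))⁻¹ =
              ⁅C.L (hF.xq (b2Dec k).1 ((torChar chevB2 d (b2Dec k).1 : F) * 1)),
                C.L (hF.xq (b2Dec k).2.1 ((torChar chevB2 d (b2Dec k).2.1 : F) * (z / ((b2Dec k).2.2 : F))))⁆ := by
            simp only [y, if_pos hk', if_pos hl]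
            refine C.conj_comm ?_ ?_ <;>
              rw [map_mul, map_mul, map_inv, C.π_L, C.π_L, C.π_L, hF.tq_conj d (by assumption)]
          rw [e, key k hk' hl]
          congr 1
          refine hF.xq_inj hk ?_
          rw [← proj, ← key k hk' hl, ← e, map_mul, map_mul, map_inv, C.π_L, proj, hF.tq_conj d hk]
        · simp only [y, if_pos hk', if_neg hl]
          exact hF.torLift_conj _ _ (by rw [C.π_L, hF.tq_comm d, mul_inv_cancel_right])
            (fun v => by rw [C.π_L]; exact hF.tq_conj d hk v) rfl z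
      conj_nq := fun {i} hi {k} hk z => by
        have hk' : k < 8 := hk
        have hkr : chevB2.reflectRoot i k < 8 := hF.refl_lt i hi k hk
        by_cases hl : b2Long k = true
        · obtain ⟨-, -, ⟨a1, a2, -, -⟩, -, -, hrefl⟩ := b2_dec_props hk' hl
          obtain ⟨hl', hab⟩ := hrefl i hi
          have e : C.L (hF.nq F i) * y k z * (C.L (hF.nq F i))⁻¹ =
              ⁅C.L (hF.xq (chevB2.reflectRoot i (b2Dec k).1) (hF.sgn F i (b2Dec k).1 * 1)),
                C.L (hF.xq (chevB2.reflectRoot i (b2Dec k).2.1)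
                  (hF.sgn F i (b2Dec k).2.1 * (z / ((b2Dec k).2.2 : F))))⁆ := by
            simp only [y, if_pos hk', if_pos hl]
            refine C.conj_comm ?_ ?_ <;>
              rw [map_mul, map_mul, map_inv, C.π_L, C.π_L, C.π_L, hF.nq_conj hi (by assumption)]
          have hp : C.π (C.L (hF.nq F i) * y k z * (C.L (hF.nq F i))⁻¹) =
              hF.xq (chevB2.reflectRoot i k) (hF.sgn F i k * z) := by
            rw [map_mul, map_mul, map_inv, C.π_L, proj, hF.nq_conj hi hk]
          rw [e] at hp ⊢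
          rcases hab with ⟨p1, p2⟩ | ⟨p1, p2⟩ <;> rw [← p1, ← p2] at hp ⊢
          · rw [key _ hkr hl'] at hp ⊢
            rw [proj] at hp
            rw [hF.xq_inj hkr hp]
          · rw [keyS _ hkr hl'] at hp ⊢
            rw [proj] at hp
            rw [hF.xq_inj hkr hp]
        · have hl0 := Bool.eq_false_iff.2 hl
          have hl' := (b2_short_props hk' hl0).2 i hi
          obtain ⟨c', h1, h2⟩ := hF.exists_conj_tq hi c
          simp only [y, if_pos hk', if_pos hkr, if_neg hl, if_neg (by rw [hl']; exact Bool.false_ne_true :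
            ¬ b2Long (chevB2.reflectRoot i k) = true)]
          have h2k := h2 k hk
          rw [← hF.torLift_indep hkr (hc _ hkr hl') (h2k ▸ hc k hk' hl0) (hself _)]
          exact hF.torLift_conj _ _ (by rw [C.π_L, h1]) (fun v => by rw [C.π_L]; exact hF.nq_conj hi hk v)
            h2k z }
  -- the commutator formula
  have hcomm := hF.r2T_induct Y hz fun r hr hdom s hs h1 h2 hstab h0 hknown => by
    have hm := b2_base_pairs hr hdom hs h1 h2 hstab h0
    have h72 : chevB2.commTerms r s = chevB2.commTerms 7 2 ∨ chevB2.commTerms r s = chevB2.commTerms 6 3 →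
        hF.R2T Y 7 2 := by
      intro hlen
      refine hF.r2T_word Y [0] (fun i hi => by rw [List.mem_singleton.1 hi]; decide) (by decide) (by decide) ?_
      rw [show [0].foldr chevB2.reflectRoot 7 = 4 by decide +kernel,
        show [0].foldr chevB2.reflectRoot 2 = 5 by decide +kernel]
      refine hF.r2T_closed Y (by decide) (by decide) (L := [5, 6, 7]) ⟨by decide, by decide +kernel, by decide +kernel⟩
        (by decide) (by decide +kernel) (by decide) (by decide +kernel) (fun a ha b hb hab => ?_)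
        (Facts.powC (fun i => if i < 2 then -1 else 0) (-1)) ?_ ?_
      · refine hknown a b ?_ ?_ (ne_of_gt hab) ?_ ?_
        all_goals
          simp only [List.mem_cons, List.not_mem_nil, or_false] at ha hb
          rcases ha with rfl | rfl | rfl <;> rcases hb with rfl | rfl | rfl <;>
            first
              | omega
              | decide +kernel
              | (rcases hlen with e | e <;> rw [e] <;> decide +kernel)
      · rw [hF.torChar_powC, show psiOf chevB2 (fun i => if i < 2 then -1 else 0) 4 = 0 by decide +kernel,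
          _root_.zpow_zero]
      · rw [hF.torChar_powC, show psiOf chevB2 (fun i => if i < 2 then -1 else 0) 5 = -1 by decide +kernel,
          _root_.zpow_neg, _root_.zpow_one, inv_neg, inv_one]
        exact hm1
    simp only [List.mem_cons, List.not_mem_nil, or_false, Prod.mk.injEq] at hm
    rcases hm with ⟨rfl, rfl⟩ | ⟨rfl, rfl⟩ | ⟨rfl, rfl⟩
    · -- reversal of a pair of the other class
      have h36 : hF.R2T Y 3 6 := hF.r2T_word Y [0, 1] (by decide) (by decide) (by decide) (by
        rw [show [0, 1].foldr chevB2.reflectRoot 3 = 7 by decide +kernel,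
          show [0, 1].foldr chevB2.reflectRoot 6 = 2 by decide +kernel]
        exact h72 (Or.inr rfl))
      intro t u
      have e := h36 u t
      simp only [ChevalleyDatum.commWord,
        show chevB2.commTerms 3 6 = [(5, 1, 1, 1), (7, 1, 1, 2)] by decide +kernel,
        show chevB2.commTerms 6 3 = [(5, -1, 1, 1), (7, 1, 2, 1)] by decide +kernel, List.map_cons,
        List.map_nil, List.prod_cons, List.prod_nil, mul_one, pow_one, Int.cast_one, Int.cast_neg, one_mul,
        neg_sq, neg_mul, mul_neg, _root_.neg_neg] at e ⊢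
      change y 6 t * y 3 u = y 3 u * y 6 t * (y 5 (-(u * t)) * y 7 (-(u * t ^ 2))) at e
      show y 3 u * y 6 t = y 6 t * y 3 u * (y 5 (t * u) * y 7 (t ^ 2 * u))
      have c57 : Commute (y 5 (-(u * t))) (y 7 (-(u * t ^ 2))) :=
        hF.zp_lift (hz 5 7 (by decide) (by decide) (by decide +kernel) (Or.inr (by decide +kernel))) (proj _ _)
          (proj _ _)
      rw [show t * u = -(-(u * t)) by ring, show t ^ 2 * u = -(-(u * t ^ 2)) by ring, yneg 5 (-(u * t)),
        yneg 7 (-(u * t ^ 2)), e, c57.eq]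
      group
    · intro t u
      simp only [ChevalleyDatum.commWord, show chevB2.commTerms 6 5 = [(7, -2, 1, 1)] by decide +kernel,
        List.map_cons, List.map_nil, List.prod_cons, List.prod_nil, mul_one, pow_one]
      show y 5 u * y 6 t = y 6 t * y 5 u * y 7 (((-2 : ℤ) : F) * -t * u)
      have hk := key 7 (by decide) (by decide) u t
      rw [show (b2Dec 7).1 = 5 from rfl, show (b2Dec 7).2.1 = 6 from rfl, show (b2Dec 7).2.2 = 2 from rfl] at hk
      rw [C.comm_indep (a' := y 5 u) (b' := y 6 t) (by rw [C.π_L, proj]) (by rw [C.π_L, proj])] at hk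
      have c5 : Commute (y 5 u) (y 7 (((2 : ℤ) : F) * u * t)) :=
        hF.zp_lift (hz 5 7 (by decide) (by decide) (by decide +kernel) (Or.inr (by decide +kernel))) (proj _ _)
          (proj _ _)
      have c6 : Commute (y 6 t) (y 7 (((2 : ℤ) : F) * u * t)) :=
        hF.zp_lift (hz 6 7 (by decide) (by decide) (by decide +kernel) (Or.inr (by decide +kernel))) (proj _ _)
          (proj _ _)
      rw [show ((-2 : ℤ) : F) * -t * u = ((2 : ℤ) : F) * u * t by push_cast; ring, (c6.mul_left c5).eq, ← hk,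
        commutatorElement_def]
      group
    · exact h72 (Or.inl rfl)
  exact ⟨{ x := Y.y
           x_out := fun k z hk => Y.out k z hk
           x_add := Y.add
           x_comm := fun r s hr hs h1 h2 => hcomm r s hr hs h1 h2 }, Y.proj⟩

end Cfsg.Agent.Lie
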