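import Cfsg.Agent.Lib.Lie.Action

/-!
The defining relations of a Chevalley group: additivity, the commutator formula, the action
of the Weyl elements on root elements.
-/

set_option autoImplicit false

namespace Cfsg.Agent.Lie

open Cfsg.Lie Matrix

theorem zipIdx_map_zipIdx {α β : Type*} (f : α × ℕ → β) (L : List α) :
    (L.zipIdx.map f).zipIdx = L.zipIdx.map fun q => (f q, q.2) := by
  refine List.ext_getElem (by simp) fun i h1 h2 => ?_
  simp

namespace Facts

variable {D : ChevalleyDatum} (hF : Facts D) {F : Type*} [Field F]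

/-- η as a field element. -/
noncomputable abbrev sgn (F : Type*) [Field F] (i s : ℕ) : F := ((hF.eta i s : ℤ) : F)

theorem sgn_mul_self {i s : ℕ} (hi : i < D.rank) (hs : s < D.nroots) :
    hF.sgn F i s * hF.sgn F i s = 1 := by
  rcases hF.eta_sign i hi s hs with h | h <;> simp [sgn, h]

theorem sgn_sq {i s : ℕ} (hi : i < D.rank) (hs : s < D.nroots) : hF.sgn F i s ^ 2 = 1 := by
  rw [sq, hF.sgn_mul_self hi hs]

include hF in
theorem refl_inj {i : ℕ} (hi : i < D.rank) {s v : ℕ} (hs : s < D.nroots) (hv : v < D.nroots)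
    (h : D.reflectRoot i s = D.reflectRoot i v) : s = v := by
  rw [← hF.refl_refl i hi s hs, h, hF.refl_refl i hi v hv]

include hF in
theorem refl_ne {i : ℕ} (hi : i < D.rank) {s v : ℕ} (hs : s < D.nroots) (hv : v < D.nroots)
    (h1 : v ≠ s) (h2 : v ≠ D.neg s) :
    D.reflectRoot i v ≠ D.reflectRoot i s ∧ D.reflectRoot i v ≠ D.neg (D.reflectRoot i s) := by
  refine ⟨fun h => h1 (hF.refl_inj hi hv hs h), fun h => h2 (hF.refl_inj hi hv (hF.neg_lt hs) ?_)⟩
  rw [h, hF.refl_neg i hi s hs]

include hF in
theorem cartan_refl_self {i s : ℕ} (hi : i < D.rank) (hs : s < D.nroots) :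
    D.cartan i (D.reflectRoot i s) = -D.cartan i s := by
  rw [hF.cartan_refl i hi s hs i hi, hF.cartan_simple i hi]
  ring

include hF in
theorem sgn_mul_refl {i s : ℕ} (hi : i < D.rank) (hs : s < D.nroots) :
    hF.sgn F i s * hF.sgn F i (D.reflectRoot i s) = (-1) ^ (D.cartan i s).natAbs := by
  simp only [sgn, ← Int.cast_mul, hF.eta_refl i hi s hs]
  simp

include hF in
/-- n_i(t) n_i(−t) = 1. -/
theorem nMat_mul_neg (i : ℕ) (hi : i < D.rank) (t : F) (ht : t ≠ 0) :
    D.nMat F (D.simple i) t * D.nMat F (D.simple i) (-t) = 1 := by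
  have ht' : -t ≠ 0 := neg_ne_zero.2 ht
  refine mat_ext_eI (fun j hj => ?_) fun s hs => ?_
  · rw [← mulVec_mulVec, nMat_mulVec_eH hF i hi _ ht' j hj, mulVec_sub, mulVec_smul,
      nMat_mulVec_eH hF i hi t ht j hj, nMat_mulVec_eH hF i hi t ht i hi, hF.cartan_simple i hi,
      one_mulVec]
    push_cast
    module
  · rw [← mulVec_mulVec, nMat_mulVec_eR hF i hi _ ht' s hs, mulVec_smul,
      nMat_mulVec_eR hF i hi t ht _ (hF.refl_lt i hi s hs), hF.refl_refl i hi s hs, one_mulVec,
      smul_smul, hF.cartan_refl_self hi hs, _root_.neg_neg]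
    rw [show ((hF.eta i s : ℤ) : F) * (-t) ^ (-D.cartan i s) *
        (((hF.eta i (D.reflectRoot i s) : ℤ) : F) * t ^ D.cartan i s) =
        (hF.sgn F i s * hF.sgn F i (D.reflectRoot i s)) * ((-t) ^ (-D.cartan i s) * t ^ D.cartan i s)
        by ring, hF.sgn_mul_refl hi hs, _root_.zpow_neg, ← _root_.inv_zpow, ← mul_zpow,
      show (-t)⁻¹ * t = (-1 : F) by field_simp]
    rcases Int.natAbs_eq (D.cartan i s) with h | h
    · conv_lhs => arg 1; arg 2; rw [h]
      rw [zpow_natCast, ← pow_add, ← two_mul, pow_mul]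
      simp
    · conv_lhs => arg 1; arg 2; rw [h]
      rw [_root_.zpow_neg, zpow_natCast, ← inv_pow, inv_neg, inv_one, ← pow_add, ← two_mul, pow_mul]
      simp

include hF in
theorem nMat_mulVec_one_eR (i : ℕ) (hi : i < D.rank) (s : ℕ) (hs : s < D.nroots) :
    D.nMat F (D.simple i) 1 *ᵥ eR D F s = hF.sgn F i s • eR D F (D.reflectRoot i s) := by
  rw [nMat_mulVec_eR hF i hi 1 one_ne_zero s hs, _root_.one_zpow, mul_one]

include hF in
theorem nMat_chainVec (i : ℕ) (hi : i < D.rank) (s : ℕ) (hs : s < D.nroots) (v : ℕ)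
    (hv : v < D.nroots) (t : F) :
    D.nMat F (D.simple i) 1 *ᵥ chainVec s v t =
      hF.sgn F i v • chainVec (D.reflectRoot i s) (D.reflectRoot i v) (hF.sgn F i s * t) := by
  rw [chainVec, chainVec, hF.chain_refl i hi s hs v hv, zipIdx_map_zipIdx, List.map_map,
    List.smul_sum, List.map_map]
  have hmv : ∀ L : List (D.Idx → F), D.nMat F (D.simple i) 1 *ᵥ L.sum =
      (L.map fun w => D.nMat F (D.simple i) 1 *ᵥ w).sum := by
    intro L
    induction L with
    | nil => simp
    | cons a L ih => simp [mulVec_add, ih]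
  rw [hmv, List.map_map]
  congr 1
  refine List.map_congr_left fun q hq => ?_
  have hu : q.1.1 < D.nroots := hF.chain_lt s hs v _ (List.fst_mem_of_mem_zipIdx hq)
  simp only [Function.comp_apply, mulVec_smul, hF.nMat_mulVec_one_eR i hi _ hu, smul_smul]
  congr 1
  have h1 : (hF.sgn F i s * hF.sgn F i s) ^ (q.2 + 1) = 1 := by rw [hF.sgn_mul_self hi hs, one_pow]
  have h2 := hF.sgn_mul_self (F := F) hi hv
  simp only [sgn, Int.cast_mul, Int.cast_pow, mul_pow] at h1 h2 ⊢
  linear_combination
    (-(q.1.2 : F) * ((hF.eta i q.1.1 : ℤ) : F) * t ^ (q.2 + 1)) * h2 +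
    (-(q.1.2 : F) * ((hF.eta i q.1.1 : ℤ) : F) * t ^ (q.2 + 1) *
      (((hF.eta i v : ℤ) : F) * ((hF.eta i v : ℤ) : F))) * h1

include hF in
/-- n_i x_s(t) = x_{w_i s}(η t) n_i. -/
theorem n_x (i : ℕ) (hi : i < D.rank) (s : ℕ) (hs : s < D.nroots) (t : F) :
    D.nMat F (D.simple i) 1 * D.x F s t =
      D.x F (D.reflectRoot i s) (hF.sgn F i s * t) * D.nMat F (D.simple i) 1 := by
  have hs' := hF.refl_lt i hi s hs
  refine mat_ext_eI (fun j hj => ?_) fun v hv => ?_
  · rw [← mulVec_mulVec, ← mulVec_mulVec, x_mulVec_eH s hs t j hj, mulVec_sub, mulVec_smul,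
      nMat_mulVec_eH hF i hi 1 one_ne_zero j hj, hF.nMat_mulVec_one_eR i hi s hs, mulVec_sub,
      mulVec_smul, x_mulVec_eH _ hs' _ j hj, x_mulVec_eH _ hs' _ i hi,
      hF.cartan_refl i hi s hs j hj, hF.cartan_refl_self hi hs]
    push_cast
    module
  · rw [← mulVec_mulVec, ← mulVec_mulVec, hF.nMat_mulVec_one_eR i hi v hv, mulVec_smul]
    by_cases h1 : v = s
    · subst h1
      rw [x_mulVec_self v hs, hF.nMat_mulVec_one_eR i hi v hv, x_mulVec_self _ hs']
    by_cases h2 : v = D.neg s
    · subst h2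
      rw [x_mulVec_neg hF s hs, mulVec_sub, mulVec_add, mulVec_smul, mulVec_sum,
        hF.nMat_mulVec_one_eR i hi _ hv, hF.nMat_mulVec_one_eR i hi s hs, hF.refl_neg i hi s hs,
        x_mulVec_neg hF _ hs', show hF.sgn F i (D.neg s) = hF.sgn F i s by
          simp [sgn, hF.eta_neg i hi s hs]]
      have hsum : ∑ j ∈ Finset.range D.rank,
          D.nMat F (D.simple i) 1 *ᵥ (((co D s j : F) * t) • eI D F j) =
          ∑ j ∈ Finset.range D.rank,
            ((co D (D.reflectRoot i s) j : F) * t) • eI D F j := by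
        have step1 : ∀ j ∈ Finset.range D.rank,
            D.nMat F (D.simple i) 1 *ᵥ (((co D s j : F) * t) • eI D F j) =
              ((co D s j : F) * t) • eI D F j -
                ((co D s j * D.cartan j (D.simple i) : ℤ) : F) • (t • eI D F i) := by
          intro j hj
          rw [mulVec_smul, nMat_mulVec_eH hF i hi 1 one_ne_zero j (Finset.mem_range.1 hj)]
          push_cast
          module
        rw [Finset.sum_congr rfl step1, Finset.sum_sub_distrib, ← Finset.sum_smul, ← Int.cast_sum,
          ← pairing_eq]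
        rw [Finset.sum_congr rfl (g := fun j => ((co D (D.reflectRoot i s) j : F) * t) • eI D F j)
          (s₂ := Finset.range D.rank) (f := fun j => ((co D s j : F) * t) • eI D F j -
            if j = i then (D.pairing s (D.simple i) : F) • (t • eI D F i) else 0)
          (fun j hj => by
            rw [hF.co_refl i hi s hs j (Finset.mem_range.1 hj)]
            split_ifs with h
            · subst h; push_cast; module
            · simp) |>.symm, Finset.sum_sub_distrib, Finset.sum_ite_eq',
          if_pos (Finset.mem_range.2 hi)]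
      rw [hsum, smul_sub, smul_add, Finset.smul_sum]
      congr 1
      · congr 1
        refine Finset.sum_congr rfl fun j _ => ?_
        rw [smul_smul]
        congr 1
        linear_combination (-(co D (D.reflectRoot i s) j : F) * t) * hF.sgn_mul_self (F := F) hi hs
      · rw [smul_smul, smul_smul]
        congr 1
        linear_combination (-hF.sgn F i s * t ^ 2) * hF.sgn_mul_self (F := F) hi hs
    · obtain ⟨h3, h4⟩ := hF.refl_ne hi hs hv h1 h2
      rw [x_mulVec_other hF s hs t v hv h1 h2, mulVec_add, hF.nMat_mulVec_one_eR i hi v hv,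
        hF.nMat_chainVec i hi s hs v hv, x_mulVec_other hF _ hs' _ _ (hF.refl_lt i hi v hv) h3 h4,
        smul_add]

include hF in
theorem refl_induction (P : ℕ → Prop)
    (hdom : ∀ r, r < D.nroots → (∀ i, i < D.rank → D.reflectRoot i r ≤ r) → P r)
    (hstep : ∀ i, i < D.rank → ∀ r, r < D.nroots → P r → P (D.reflectRoot i r)) :
    ∀ r, r < D.nroots → P r := by
  suffices h : ∀ k r, r < D.nroots → D.nroots - r = k → P r from fun r hr => h _ r hr rfl
  intro k
  induction k using Nat.strong_induction_on with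
  | _ k ih =>
    intro r hr hk
    by_cases h : ∃ i, i < D.rank ∧ r < D.reflectRoot i r
    · obtain ⟨i, hi, hlt⟩ := h
      have hr' := hF.refl_lt i hi r hr
      have := hstep i hi _ hr' (ih _ (by omega) _ hr' rfl)
      rwa [hF.refl_refl i hi r hr] at this
    · simp only [not_exists, not_and, not_lt] at h
      exact hdom r hr h

include hF in
/-- Conjugating by n_i. -/
theorem x_refl_conj (i : ℕ) (hi : i < D.rank) (r : ℕ) (hr : r < D.nroots) (t : F) :
    D.x F (D.reflectRoot i r) t =
      D.nMat F (D.simple i) 1 * D.x F r (hF.sgn F i r * t) * D.nMat F (D.simple i) (-1) := by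
  rw [hF.n_x i hi r hr, ← mul_assoc, hF.sgn_mul_self hi hr, one_mul, mul_assoc,
    hF.nMat_mul_neg i hi 1 one_ne_zero, mul_one]

include hF in
theorem nMat_neg_mul (i : ℕ) (hi : i < D.rank) (t : F) (ht : t ≠ 0) :
    D.nMat F (D.simple i) (-t) * D.nMat F (D.simple i) t = 1 := by
  have := hF.nMat_mul_neg i hi (-t) (neg_ne_zero.2 ht)
  rwa [_root_.neg_neg] at this

include hF in
/-- x_r(t) x_r(u) = x_r(t + u). -/
theorem x_add (r : ℕ) (hr : r < D.nroots) : ∀ t u : F, D.x F r t * D.x F r u = D.x F r (t + u) := by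
  revert r
  refine hF.refl_induction _ (fun r hr hdom t u => ?_) (fun i hi r hr ih t u => ?_)
  · have h := eqL_sound (idxEquiv D) (R := F) (hF.add_reps r hr hdom) t u
    change ev D F t u (uMul _ _ _) = ev D F t u (sumVar _) at h
    rw [← x_sumVar, ← h, evL_uMul hF, x_toU, ← x_eq D F r t u]
  · rw [hF.x_refl_conj i hi r hr, hF.x_refl_conj i hi r hr, hF.x_refl_conj i hi r hr]
    simp only [mul_assoc]
    rw [← mul_assoc (D.nMat F (D.simple i) (-1)), hF.nMat_neg_mul i hi 1 one_ne_zero, one_mul,
      ← mul_assoc (D.x F r _) (D.x F r _), ih, mul_add]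

include hF in
theorem psi_inj {r s : ℕ} (hr : r < D.nroots) (hs : s < D.nroots)
    (h : ∀ j, j < D.rank → D.cartan j r = D.cartan j s) : r = s := by
  have he : hF.psi r = hF.psi s :=
    Finset.sum_congr rfl fun j hj => by rw [h j (Finset.mem_range.1 hj)]
  rcases lt_trichotomy r s with hlt | heq | hlt
  · exact absurd he (ne_of_lt (hF.psi_lt hlt hs))
  · exact heq
  · exact absurd he.symm (ne_of_lt (hF.psi_lt hlt hr))

include hF in
theorem chainEntry_getElem_wt {s v k : ℕ} (hs : s < D.nroots) {e : ℕ × ℤ}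
    (he : (D.chainEntry s v)[k]? = some e) {j : ℕ} (hj : j < D.rank) :
    e.1 < D.nroots ∧ D.cartan j e.1 = D.cartan j v + (k + 1 : ℕ) * D.cartan j s := by
  have hmem : (e, k) ∈ (D.chainEntry s v).zipIdx := by
    rw [List.mem_zipIdx_iff_getElem?]
    exact he
  exact ⟨hF.chain_lt s hs v e (List.fst_mem_of_mem_zipIdx hmem),
    hF.chain_cartan s hs v _ hmem j hj⟩

include hF in
theorem chainRoot_lt {r s k e : ℕ} (hr : r < D.nroots) (h : D.chainRoot r s k = some e) :
    e < D.nroots := by
  rw [ChevalleyDatum.chainRoot, Option.map_eq_some_iff] at h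
  obtain ⟨p, hp, rfl⟩ := h
  exact hF.chain_lt r hr s p (List.mem_of_getElem? hp)

include hF in
theorem chainRoot_wt {r s k e : ℕ} (hr : r < D.nroots) (hk : 1 ≤ k)
    (h : D.chainRoot r s k = some e) {j : ℕ} (hj : j < D.rank) :
    D.cartan j e = D.cartan j s + k * D.cartan j r := by
  rw [ChevalleyDatum.chainRoot, Option.map_eq_some_iff] at h
  obtain ⟨p, hp, rfl⟩ := h
  rw [(hF.chainEntry_getElem_wt hr hp hj).2]
  congr 3
  omega

include hF in
theorem chainRoot_refl {i r s : ℕ} (hi : i < D.rank) (hr : r < D.nroots) (hs : s < D.nroots)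
    (k : ℕ) :
    D.chainRoot (D.reflectRoot i r) (D.reflectRoot i s) k =
      (D.chainRoot r s k).map (D.reflectRoot i) := by
  simp only [ChevalleyDatum.chainRoot, hF.chain_refl i hi r hr s hs, List.getElem?_map,
    Option.map_map, List.getElem?_zipIdx]
  rfl

include hF in
theorem chainM_refl {i r s k u : ℕ} (hi : i < D.rank) (hr : r < D.nroots) (hs : s < D.nroots)
    (hk : 1 ≤ k) (h : D.chainRoot r s k = some u) :
    D.chainM (D.reflectRoot i r) (D.reflectRoot i s) k =
      D.chainM r s k * (hF.eta i r ^ k * hF.eta i s * hF.eta i u) := by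
  rw [ChevalleyDatum.chainRoot, Option.map_eq_some_iff] at h
  obtain ⟨p, hp, rfl⟩ := h
  simp only [ChevalleyDatum.chainM, hF.chain_refl i hi r hr s hs, List.getElem?_map,
    List.getElem?_zipIdx, hp, Option.map_some, Option.getD_some, Nat.zero_add,
    Nat.sub_add_cancel hk]

include hF in
/-- The sign identity for a third-order term of the commutator word. -/
theorem third_refl {i p q k₁ k a x : ℕ} (hi : i < D.rank) (hp : p < D.nroots) (hq : q < D.nroots)
    (hpq : x = p ∨ x = q) (hk1 : D.chainRoot p q 3 = some k₁)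
    (hk : D.chainRoot k₁ q 1 = some k) (ha : D.chainRoot p q 1 = some a)
    (hwt : ∀ j, j < D.rank → D.cartan j x + 2 * D.cartan j a = D.cartan j k) (c : ℤ) :
    c * D.chainM (D.reflectRoot i a) (D.reflectRoot i x) 2 / 3 =
      c * D.chainM a x 2 / 3 * (hF.eta i x * hF.eta i k) := by
  have hx : x < D.nroots := by rcases hpq with rfl | rfl <;> assumption
  have ha' := hF.chainRoot_lt hp ha
  cases he : D.chainRoot a x 2 with
  | none =>
    have h1 : D.chainM a x 2 = 0 := by
      simp only [ChevalleyDatum.chainRoot, Option.map_eq_none_iff] at he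
      simp [ChevalleyDatum.chainM, he]
    have h2 : D.chainM (D.reflectRoot i a) (D.reflectRoot i x) 2 = 0 := by
      have := hF.chainRoot_refl hi ha' hx 2
      rw [he, Option.map_none] at this
      simp only [ChevalleyDatum.chainRoot, Option.map_eq_none_iff] at this
      simp [ChevalleyDatum.chainM, this]
    simp [h1, h2]
  | some u =>
    have hu : u = k := by
      refine hF.psi_inj (hF.chainRoot_lt ha' he) (hF.chainRoot_lt (hF.chainRoot_lt hp hk1) hk)
        fun j hj => ?_
      rw [hF.chainRoot_wt ha' (by norm_num) he hj, ← hwt j hj]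
      rfl
    subst hu
    rw [hF.chainM_refl hi ha' hx (by norm_num) he]
    have h2 : hF.eta i a ^ 2 = 1 := by
      rcases hF.eta_sign i hi a ha' with h | h <;> rw [h] <;> norm_num
    have hlen : 3 ≤ (D.chainEntry p q).length := by
      by_contra hc
      simp [ChevalleyDatum.chainRoot, List.getElem?_eq_none (show (D.chainEntry p q).length ≤ 2 by omega)] at hk1
    have hdvd : 3 ∣ c * D.chainM a x 2 := by
      refine Dvd.dvd.mul_left ?_ _
      rcases hpq with rfl | rfl
      · exact (hF.chain_div x hp q a ha hlen).1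
      · exact (hF.chain_div p hp x a ha hlen).2
    rw [h2, one_mul, ← mul_assoc c]
    rcases hF.eta_sign i hi x hx with h | h <;>
      rcases hF.eta_sign i hi u (hF.chainRoot_lt ha' he) with h' | h' <;> rw [h, h'] <;>
      simp [Int.neg_ediv_of_dvd hdvd]

theorem filterMap_congr_map {α β γ : Type*} (g : α → Option β) (g' : γ → Option β) (f : β → β)
    (L : List α) (L' : List γ) (h : L'.map g' = L.map fun c => (g c).map f) :
    L'.filterMap g' = (L.filterMap g).map f := by
  induction L generalizing L' with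
  | nil =>
    have : L' = [] := by simpa using h
    simp [this]
  | cons a L ih =>
    cases L' with
    | nil => simp at h
    | cons b L' =>
      simp only [List.map_cons, List.cons.injEq] at h
      rw [List.filterMap_cons, List.filterMap_cons, h.1]
      cases hg : g a <;> simp [ih L' h.2]

include hF in
theorem chain_term {i a b k : ℕ} (hi : i < D.rank) (ha : a < D.nroots) (hb : b < D.nroots)
    (hk : 1 ≤ k) (u : ℕ) (hu : D.chainRoot a b k = some u) :
    D.chainM (D.reflectRoot i a) (D.reflectRoot i b) k =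
      D.chainM a b k * (hF.eta i u * hF.eta i a ^ k * hF.eta i b) := by
  rw [hF.chainM_refl hi ha hb hk hu]
  ring

include hF in
theorem cand_map {i r s : ℕ} (o : Option ℕ) (C C' : ℤ) (a b : ℕ)
    (h : ∀ k, o = some k → C' = C * (hF.eta i k * hF.eta i r ^ a * hF.eta i s ^ b)) :
    (o.map (D.reflectRoot i)).map (fun k => (k, C', a, b)) =
      (o.map fun k => (k, C, a, b)).map fun c => (D.reflectRoot i c.1,
        c.2.1 * (hF.eta i c.1 * hF.eta i r ^ c.2.2.1 * hF.eta i s ^ c.2.2.2), c.2.2.1, c.2.2.2) := by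
  cases o with
  | none => rfl
  | some k => simp [h k rfl]

include hF in
/-- The commutator word transforms under n_i. -/
theorem commTerms_refl {i r s : ℕ} (hi : i < D.rank) (hr : r < D.nroots) (hs : s < D.nroots) :
    D.commTerms (D.reflectRoot i r) (D.reflectRoot i s) =
      (D.commTerms r s).map fun c => (D.reflectRoot i c.1,
        c.2.1 * (hF.eta i c.1 * hF.eta i r ^ c.2.2.1 * hF.eta i s ^ c.2.2.2), c.2.2.1, c.2.2.2) := by
  have hr2 : hF.eta i r ^ 2 = 1 := by
    rcases hF.eta_sign i hi r hr with h | h <;> rw [h] <;> norm_num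
  have hs2 : hF.eta i s ^ 2 = 1 := by
    rcases hF.eta_sign i hi s hs with h | h <;> rw [h] <;> norm_num
  have hbind : ∀ (a b : ℕ), a < D.nroots → b < D.nroots →
      (((D.chainRoot a b 3).map (D.reflectRoot i)).bind fun k =>
          D.chainRoot k (D.reflectRoot i b) 1) =
        ((D.chainRoot a b 3).bind fun k => D.chainRoot k b 1).map (D.reflectRoot i) := by
    intro a b ha hb
    cases h : D.chainRoot a b 3 with
    | none => rfl
    | some k => simp [hF.chainRoot_refl hi (hF.chainRoot_lt ha h) hb]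
  simp only [ChevalleyDatum.commTerms, hF.chainRoot_refl hi hr hs, hF.chainRoot_refl hi hs hr,
    hbind r s hr hs, hbind s r hs hr]
  apply filterMap_congr_map
  simp only [List.map_cons, List.map_nil, List.cons.injEq, and_true]
  refine ⟨hF.cand_map _ _ _ _ _ fun k hk => ?_, hF.cand_map _ _ _ _ _ fun k hk => ?_,
    hF.cand_map _ _ _ _ _ fun k hk => ?_, hF.cand_map _ _ _ _ _ fun k hk => ?_,
    hF.cand_map _ _ _ _ _ fun k hk => ?_, hF.cand_map _ _ _ _ _ fun k hk => ?_,
    hF.cand_map _ _ _ _ _ fun k hk => ?_⟩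
  · rw [hF.chain_term hi hr hs le_rfl k hk, pow_one, pow_one]
  · rw [hF.chain_term hi hr hs (by norm_num) k hk, pow_one]
  · rw [hF.chain_term hi hs hr (by norm_num) k hk, pow_one]; ring
  · rw [hF.chain_term hi hr hs (by norm_num) k hk, pow_one]
  · rw [hF.chain_term hi hs hr (by norm_num) k hk, pow_one]; ring
  · obtain ⟨k₁, h1, h2⟩ := Option.bind_eq_some_iff.1 hk
    cases ha : D.chainRoot r s 1 with
    | none => simp
    | some a =>
      have h := hF.third_refl hi hr hs (Or.inl rfl) h1 h2 ha (fun j hj => by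
        rw [hF.chainRoot_wt hr le_rfl ha hj,
          hF.chainRoot_wt (hF.chainRoot_lt hr h1) le_rfl h2 hj,
          hF.chainRoot_wt hr (by norm_num) h1 hj]
        push_cast
        ring) 1
      simp only [Option.map_some, Option.getD_some]
      rw [one_mul, one_mul] at h
      rw [h, hs2, show hF.eta i r ^ 3 = hF.eta i r by rw [pow_succ, hr2, one_mul]]
      ring
  · obtain ⟨k₁, h1, h2⟩ := Option.bind_eq_some_iff.1 hk
    cases ha : D.chainRoot r s 1 with
    | none => simp
    | some a =>
      have hlt : ¬ (D.chainEntry s r).length ≤ 2 := fun hc => by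
        simp [ChevalleyDatum.chainRoot, List.getElem?_eq_none hc] at h1
      obtain ⟨a', ha'⟩ : ∃ a', D.chainRoot s r 1 = some a' :=
        ⟨_, by rw [ChevalleyDatum.chainRoot,
          List.getElem?_eq_getElem (show 1 - 1 < (D.chainEntry s r).length by omega), Option.map_some]⟩
      have haa : a' = a := hF.psi_inj (hF.chainRoot_lt hs ha') (hF.chainRoot_lt hr ha) fun j hj => by
        rw [hF.chainRoot_wt hs le_rfl ha' hj, hF.chainRoot_wt hr le_rfl ha hj]
        push_cast
        ring
      subst haa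
      have h := hF.third_refl hi hs hr (Or.inl rfl) h1 h2 ha' (fun j hj => by
        rw [hF.chainRoot_wt hr le_rfl ha hj,
          hF.chainRoot_wt (hF.chainRoot_lt hs h1) le_rfl h2 hj,
          hF.chainRoot_wt hs (by norm_num) h1 hj]
        push_cast
        ring) (-2)
      simp only [Option.map_some, Option.getD_some]
      rw [h, hr2, show hF.eta i s ^ 3 = hF.eta i s by rw [pow_succ, hs2, one_mul]]
      ring

include hF in
theorem stab_induction (r : ℕ) (hr : r < D.nroots) (P : ℕ → Prop)
    (hbase : ∀ s, s < D.nroots → s ≠ r → s ≠ D.neg r →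
      (∀ i, i < D.rank → D.reflectRoot i r = r → D.reflectRoot i s ≤ s) → P s)
    (hstep : ∀ i, i < D.rank → D.reflectRoot i r = r → ∀ s, s < D.nroots → s ≠ r → s ≠ D.neg r →
      P s → P (D.reflectRoot i s)) :
    ∀ s, s < D.nroots → s ≠ r → s ≠ D.neg r → P s := by
  suffices h : ∀ k s, s < D.nroots → s ≠ r → s ≠ D.neg r → D.nroots - s = k → P s from
    fun s hs h1 h2 => h _ s hs h1 h2 rfl
  intro k
  induction k using Nat.strong_induction_on with
  | _ k ih =>
    intro s hs h1 h2 hk
    by_cases h : ∃ i, i < D.rank ∧ D.reflectRoot i r = r ∧ s < D.reflectRoot i s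
    · obtain ⟨i, hi, hfix, hlt⟩ := h
      have hs' := hF.refl_lt i hi s hs
      obtain ⟨h3, h4⟩ := hF.refl_ne hi hr hs h1 h2
      rw [hfix] at h3 h4
      have := hstep i hi hfix _ hs' h3 h4 (ih _ (by omega) _ hs' h3 h4 rfl)
      rwa [hF.refl_refl i hi s hs] at this
    · simp only [not_exists, not_and, not_lt] at h
      exact hbase s hs h1 h2 h

include hF in
theorem commTerms_lt {r s : ℕ} (hr : r < D.nroots) (hs : s < D.nroots) :
    ∀ c ∈ D.commTerms r s, c.1 < D.nroots := by
  intro c hc
  simp only [ChevalleyDatum.commTerms, List.mem_filterMap, List.mem_cons, List.not_mem_nil,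
    or_false] at hc
  obtain ⟨x, hx, hxc⟩ := hc
  obtain ⟨k, hk, rfl⟩ := Option.map_eq_some_iff.1 hxc
  rcases hx with rfl | rfl | rfl | rfl | rfl | rfl | rfl
  iterate 5 first | exact hF.chainRoot_lt hr hk | exact hF.chainRoot_lt hs hk
  · obtain ⟨k₁, h1, h2⟩ := Option.bind_eq_some_iff.1 hk
    exact hF.chainRoot_lt (hF.chainRoot_lt hr h1) h2
  · obtain ⟨k₁, h1, h2⟩ := Option.bind_eq_some_iff.1 hk
    exact hF.chainRoot_lt (hF.chainRoot_lt hs h1) h2

include hF in
theorem wordMat_refl (i : ℕ) (hi : i < D.rank) (w : List (ℕ × F)) (hw : ∀ p ∈ w, p.1 < D.nroots) :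
    D.nMat F (D.simple i) 1 * D.wordMat F w =
      D.wordMat F (w.map fun p => (D.reflectRoot i p.1, hF.sgn F i p.1 * p.2)) *
        D.nMat F (D.simple i) 1 := by
  induction w with
  | nil => simp [ChevalleyDatum.wordMat]
  | cons p w ih =>
    have ih := ih fun q hq => hw q (List.mem_cons_of_mem _ hq)
    simp only [ChevalleyDatum.wordMat, List.map_cons, List.prod_cons] at ih ⊢
    rw [← mul_assoc, hF.n_x i hi p.1 (hw p (by simp)) p.2, mul_assoc, ih, ← mul_assoc]

include hF in
theorem commWord_refl {i r s : ℕ} (hi : i < D.rank) (hr : r < D.nroots) (hs : s < D.nroots)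
    (t u : F) :
    (D.commWord F r s (hF.sgn F i r * t) (hF.sgn F i s * u)).map
        (fun p => (D.reflectRoot i p.1, hF.sgn F i p.1 * p.2)) =
      D.commWord F (D.reflectRoot i r) (D.reflectRoot i s) t u := by
  simp only [ChevalleyDatum.commWord, hF.commTerms_refl hi hr hs, List.map_map]
  refine List.map_congr_left fun c _ => ?_
  simp only [Function.comp_apply, sgn, Prod.mk.injEq, true_and]
  push_cast
  rw [show -(((hF.eta i r : ℤ) : F) * t) = ((hF.eta i r : ℤ) : F) * -t by ring, mul_pow, mul_pow]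
  ring

include hF in
/-- Moving the commutator formula by a fundamental reflection. -/
theorem comm_step (i : ℕ) (hi : i < D.rank) (r s : ℕ) (hr : r < D.nroots) (hs : s < D.nroots)
    (h : ∀ t u : F, D.x F s u * D.x F r t = D.x F r t * D.x F s u * D.wordMat F (D.commWord F r s t u))
    (t u : F) :
    D.x F (D.reflectRoot i s) u * D.x F (D.reflectRoot i r) t =
      D.x F (D.reflectRoot i r) t * D.x F (D.reflectRoot i s) u *
        D.wordMat F (D.commWord F (D.reflectRoot i r) (D.reflectRoot i s) t u) := by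
  have hw : ∀ p ∈ D.commWord F r s (hF.sgn F i r * t) (hF.sgn F i s * u), p.1 < D.nroots := by
    intro p hp
    obtain ⟨c, hc, rfl⟩ := List.mem_map.1 hp
    exact hF.commTerms_lt hr hs c hc
  have key : D.nMat F (D.simple i) 1 * (D.x F s (hF.sgn F i s * u) * D.x F r (hF.sgn F i r * t)) =
      D.nMat F (D.simple i) 1 * (D.x F r (hF.sgn F i r * t) * D.x F s (hF.sgn F i s * u) *
        D.wordMat F (D.commWord F r s (hF.sgn F i r * t) (hF.sgn F i s * u))) := by
    rw [h]
  simp only [← mul_assoc, hF.n_x i hi s hs, hF.n_x i hi r hr, hF.sgn_mul_self hi hs,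
    hF.sgn_mul_self hi hr, one_mul] at key
  simp only [mul_assoc, hF.n_x i hi r hr, hF.n_x i hi s hs] at key
  rw [hF.wordMat_refl i hi _ hw, hF.commWord_refl hi hr hs] at key
  simp only [← mul_assoc, hF.sgn_mul_self hi hs, hF.sgn_mul_self hi hr, one_mul] at key
  have := congrArg (· * D.nMat F (D.simple i) (-1)) key
  simpa only [mul_assoc, hF.nMat_mul_neg (F := F) i hi 1 one_ne_zero, mul_one] using this

include hF in
/-- The commutator formula. -/
theorem x_comm (r s : ℕ) (hr : r < D.nroots) (hs : s < D.nroots) (h1 : s ≠ r) (h2 : s ≠ D.neg r) :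
    ∀ t u : F, D.x F s u * D.x F r t = D.x F r t * D.x F s u * D.wordMat F (D.commWord F r s t u) := by
  revert r
  suffices h : ∀ r, r < D.nroots → ∀ s, s < D.nroots → s ≠ r → s ≠ D.neg r → ∀ t u : F,
      D.x F s u * D.x F r t = D.x F r t * D.x F s u * D.wordMat F (D.commWord F r s t u) from
    fun r hr h1 h2 => h r hr s hs h1 h2
  refine hF.refl_induction _ (fun r hr hdom => ?_) (fun i hi r hr ih s hs h1 h2 => ?_)
  · refine hF.stab_induction r hr _ (fun s hs h1 h2 hstab t u => ?_)
      (fun i hi hfix s hs _ _ ih t u => ?_)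
    · have h := eqL_sound (idxEquiv D) (R := F) (hF.comm_reps r hr s hs h1 h2 hdom hstab) t u
      change ev D F t u (uMul _ _ _) = ev D F t u (uMul _ _ _) at h
      have h' := congrArg (1 + ·) h
      simp only [evL_uMul hF, evL_uProd hF, x_toU, ← x_eq D F r t u] at h'
      rw [h']
      congr 1
      simp only [commL, List.map_map, ChevalleyDatum.wordMat, ChevalleyDatum.commWord]
      congr 1
      refine List.map_congr_left fun c _ => ?_
      simp only [Function.comp_apply, x_substVar]
      congr 1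
      rw [neg_pow]
      push_cast
      ring
    · have := hF.comm_step i hi r s hr hs ih t u
      rwa [hfix] at this
  · intro t u
    have hs0 := hF.refl_lt i hi s hs
    have hr0 := hF.refl_lt i hi r hr
    obtain ⟨h3, h4⟩ := hF.refl_ne hi hr0 hs h1 h2
    rw [hF.refl_refl i hi r hr] at h3 h4
    have := hF.comm_step i hi r _ hr hs0 (ih _ hs0 h3 h4) t u
    rwa [hF.refl_refl i hi s hs] at this

end Facts

end Cfsg.Agent.Lie
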