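import Cfsg.Agent.Lib.Lie.Simple
import Cfsg.Agent.Lib.Lie.Relations
import Cfsg.Agent.Lib.Small.SchurLifts

/-!
Lifts of root elements to a central extension of a Chevalley group: pairs of roots whose lifts commute.
-/

set_option autoImplicit false
set_option linter.unusedSectionVars false

namespace Cfsg.Agent.Lie

open Cfsg.Lie Matrix
open scoped MatrixGroups commutatorElement
open Cfsg.Agent.Small.SchurLifts

variable {D : ChevalleyDatum} {F : Type*} [Field F]

namespace Facts

variable (hF : Facts D)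

/-- x_r(t) in the group. -/
noncomputable def xq (r : ℕ) (t : F) : ↥(D.group F) := ⟨hF.xg r t, hF.xg_mem_group r t⟩

theorem xq_out {r : ℕ} (hr : D.nroots ≤ r) (t : F) : hF.xq r t = 1 := Subtype.ext (hF.xg_out hr t)

theorem xq_add (r : ℕ) (t u : F) : hF.xq r t * hF.xq r u = hF.xq r (t + u) :=
  Subtype.ext (hF.xg_add r t u).symm

theorem xq_zero (r : ℕ) : hF.xq r (0 : F) = 1 := Subtype.ext (hF.xg_zero r)

theorem xq_neg (r : ℕ) (t : F) : hF.xq r (-t) = (hF.xq r t)⁻¹ := by
  rw [eq_inv_iff_mul_eq_one, hF.xq_add, neg_add_cancel, hF.xq_zero]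

theorem xq_inj {r : ℕ} (hr : r < D.nroots) {t u : F} (h : hF.xq r t = hF.xq r u) : t = u := by
  have h0 : hF.xq r (t - u) = 1 := by
    rw [sub_eq_add_neg, ← hF.xq_add, hF.xq_neg, h, mul_inv_cancel]
  have h1 := congrArg Units.val (congrArg Subtype.val h0)
  rw [xq, coe_xg] at h1
  exact sub_eq_zero.1 ((hF.x_eq_one r hr _).1 h1)

theorem xq_comm {r s : ℕ} (hr : r < D.nroots) (hs : s < D.nroots) (h1 : s ≠ r) (h2 : s ≠ D.neg r)
    (t u : F) : hF.xq s u * hF.xq r t =
      hF.xq r t * hF.xq s u * ((D.commWord F r s t u).map fun p => hF.xq p.1 p.2).prod := by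
  refine Subtype.ext ?_
  simp only [Subgroup.coe_mul, SubmonoidClass.coe_list_prod, List.map_map]
  exact (hF.sys F).x_comm r s hr hs h1 h2 t u

/-- No commutator terms: the root elements commute. -/
theorem xq_commute {r s : ℕ} (hr : r < D.nroots) (hs : s < D.nroots) (h2 : s ≠ D.neg r)
    (h0 : s = r ∨ D.commTerms r s = []) (t u : F) : Commute (hF.xq r t) (hF.xq s u) := by
  by_cases h1 : s = r
  · subst h1
    show _ * _ = _ * _
    rw [hF.xq_add, hF.xq_add, add_comm]
  · have h := hF.xq_comm hr hs h1 h2 t u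
    simp only [ChevalleyDatum.commWord, h0.resolve_left h1, List.map_nil, List.prod_nil, mul_one] at h
    exact h.symm

/-- The torus element in the group. -/
noncomputable def tq (c : Fin D.rank → Fˣ) : ↥(D.group F) := ⟨torus D F c, by
  refine hF.monomial_le_group ?_
  rw [← hF.tsys_N]
  have h : torus D F c ∈ (hF.tsys F).H := by
    rw [hF.tsys_H, hF.diagonalSubgroup_eq F]; exact ⟨c, rfl⟩
  exact (hF.tsys F).H_le_N h⟩

theorem tq_comm (c c' : Fin D.rank → Fˣ) : hF.tq c * hF.tq c' = hF.tq c' * hF.tq c :=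
  Subtype.ext (by simp only [Subgroup.coe_mul, tq, ← map_mul, mul_comm c c'])

theorem tq_conj (c : Fin D.rank → Fˣ) {s : ℕ} (hs : s < D.nroots) (t : F) :
    hF.tq c * hF.xq s t * (hF.tq c)⁻¹ = hF.xq s ((torChar D c s : F) * t) :=
  Subtype.ext (hF.torus_conj c hs t)

/-- n_i in the group. -/
noncomputable def nq (F : Type*) [Field F] (i : ℕ) : ↥(D.group F) :=
  ⟨hF.ng (D.simple i) 1, hF.wg_mem_group _⟩

theorem nq_conj {i : ℕ} (hi : i < D.rank) {s : ℕ} (hs : s < D.nroots) (t : F) :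
    hF.nq F i * hF.xq s t * (hF.nq F i)⁻¹ = hF.xq (D.reflectRoot i s) (hF.sgn F i s * t) :=
  Subtype.ext (hF.ng_conj i hi s hs t)

/-- The torus is normalised, with characters moved by the reflection. -/
theorem exists_conj_tq {i : ℕ} (hi : i < D.rank) (c : Fin D.rank → Fˣ) :
    ∃ c' : Fin D.rank → Fˣ, hF.nq F i * hF.tq c * (hF.nq F i)⁻¹ = hF.tq c' ∧
      ∀ s, s < D.nroots → torChar D c' (D.reflectRoot i s) = torChar D c s := by
  have h : hF.ng (D.simple i) (1 : F) * torus D F c * (hF.ng (D.simple i) 1)⁻¹ ∈ (torus D F).range := by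
    rw [← hF.diagonalSubgroup_eq F, ← hF.tsys_H]
    have e : (hF.tsys F).nS ⟨i, hi⟩ = hF.ng (D.simple i) (1 : F) := hF.tsys_nS _
    rw [← e]
    refine (hF.tsys F).nS_H _ ?_
    rw [hF.tsys_H, hF.diagonalSubgroup_eq F]
    exact ⟨c, rfl⟩
  obtain ⟨c', hc'⟩ := h
  have he : hF.nq F i * hF.tq c * (hF.nq F i)⁻¹ = hF.tq c' := Subtype.ext hc'.symm
  refine ⟨c', he, fun s hs => ?_⟩
  have hs' := hF.refl_lt i hi s hs
  have hne : hF.sgn F i s ≠ 0 := left_ne_zero_of_mul_eq_one (hF.sgn_mul_self hi hs)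
  have h1 := hF.tq_conj c' hs' (hF.sgn F i s * 1)
  rw [← he, ← hF.nq_conj hi hs] at h1
  have h2 : hF.nq F i * (hF.tq c * hF.xq s 1 * (hF.tq c)⁻¹) * (hF.nq F i)⁻¹ =
      hF.xq (D.reflectRoot i s) ((torChar D c' (D.reflectRoot i s) : F) * (hF.sgn F i s * 1)) := by
    rw [← h1]; group
  rw [hF.tq_conj c hs, hF.nq_conj hi hs, mul_one] at h2
  have h3 := hF.xq_inj hs' h2
  rw [mul_one, mul_comm] at h3
  exact Units.ext (mul_right_cancel₀ hne h3.symm)

/-- The torus element with the coordinates u ^ e i. -/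
def powC (e : ℕ → ℤ) (u : Fˣ) : Fin D.rank → Fˣ := fun i => u ^ e i.val

include hF in
theorem torChar_powC (e : ℕ → ℤ) (u : Fˣ) (s : ℕ) :
    torChar D (powC (D := D) e u) s = u ^ psiOf D e s := by
  have _ := hF
  rw [torChar, psiOf, Finset.sum_range]
  have : ∀ S : Finset (Fin D.rank),
      ∏ i ∈ S, powC (D := D) e u i ^ D.cartan i.val s = u ^ ∑ i ∈ S, e i.val * D.cartan i.val s := by
    intro S
    induction S using Finset.induction_on with
    | empty => simp
    | insert a S ha ih =>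
      rw [Finset.prod_insert ha, Finset.sum_insert ha, ih, _root_.zpow_add, powC, ← _root_.zpow_mul]
  exact this _

/-- The lifts of two root subgroups commute elementwise. -/
def Zp {Γ : Type*} [Group Γ] (C : Central Γ ↥(D.group F)) (r s : ℕ) : Prop :=
  ∀ t u : F, Commute (C.L (hF.xq r t)) (C.L (hF.xq s u))

variable {Γ : Type*} [Group Γ] {C : Central Γ ↥(D.group F)}

theorem zp_symm {r s : ℕ} (h : hF.Zp C r s) : hF.Zp C s r := fun t u => (h u t).symm

/-- Any lifts of commuting root subgroups with trivial pairing commute. -/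
theorem zp_lift {r s : ℕ} (h : hF.Zp C r s) {a b : Γ} {t u : F} (ha : C.π a = hF.xq r t)
    (hb : C.π b = hF.xq s u) : Commute a b :=
  C.commute_indep (ha.trans (C.π_L _).symm) (hb.trans (C.π_L _).symm) (h t u)

theorem zp_refl {i r s : ℕ} (hi : i < D.rank) (hr : r < D.nroots) (hs : s < D.nroots)
    (h : hF.Zp C r s) : hF.Zp C (D.reflectRoot i r) (D.reflectRoot i s) := by
  intro t u
  have hsr := hF.sgn_mul_self (F := F) hi hr
  have hss := hF.sgn_mul_self (F := F) hi hs
  set g := C.L (hF.nq F i) with hg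
  refine C.commute_indep (a' := g * C.L (hF.xq r (hF.sgn F i r * t)) * g⁻¹)
    (b' := g * C.L (hF.xq s (hF.sgn F i s * u)) * g⁻¹) ?_ ?_ ?_
  · rw [map_mul, map_mul, map_inv, hg, C.π_L, C.π_L, C.π_L, hF.nq_conj hi hr, ← mul_assoc, hsr, one_mul]
  · rw [map_mul, map_mul, map_inv, hg, C.π_L, C.π_L, C.π_L, hF.nq_conj hi hs, ← mul_assoc, hss, one_mul]
  · show _ * _ = _ * _
    rw [conj_mul, conj_mul, (h _ _).eq]

/-- A torus fixing one root and moving the other. -/
theorem zp_torus {r s : ℕ} (hr : r < D.nroots) (hs : s < D.nroots) (h2 : s ≠ D.neg r)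
    (h0 : s = r ∨ D.commTerms r s = []) (c : Fin D.rank → Fˣ) (hcr : torChar D c r = 1)
    (hcs : torChar D c s ≠ 1) : hF.Zp C r s := by
  intro t u
  refine commutatorElement_eq_one_iff_mul_comm.1 ?_
  refine C.pair_eq_one (f := fun t => hF.xq r t) (g := fun u => hF.xq s u)
    (hF.xq_commute hr hs h2 h0) (fun v v' => hF.xq_add s v v') (hF.tq c) (torChar D c s : F)
    (fun h => hcs (Units.ext h)) (fun v => ?_) (fun v => hF.tq_conj c hs v) t u
  rw [hF.tq_conj c hr, hcr, Units.val_one, one_mul]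

/-- The certificate for a root s as the only uncertain term in the commutator of a and b. -/
def okTermCert (D : ChevalleyDatum) (r s a b : ℕ) : Bool :=
  decide (a < D.nroots) && decide (b < D.nroots) && b != a && b != D.neg a &&
    a != D.neg r && b != D.neg r &&
    (a == r || (D.commTerms r a).isEmpty) && (b == r || (D.commTerms r b).isEmpty) &&
    ((D.commTerms a b).filter fun c => c.1 == s).length == 1 &&
    (D.commTerms a b).all fun c =>
      c.1 != s || (c.2.1.natAbs == 1 && (c.2.2.1 == 1 || c.2.2.2 == 1))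

theorem zp_term {r s a b : ℕ} (hr : r < D.nroots) (h : okTermCert D r s a b = true)
    (hothers : ∀ c ∈ D.commTerms a b, c.1 ≠ s → hF.Zp C r c.1) : hF.Zp C r s := by
  simp only [okTermCert, Bool.and_eq_true, Bool.or_eq_true, decide_eq_true_eq, bne_iff_ne, beq_iff_eq,
    List.isEmpty_iff] at h
  obtain ⟨⟨⟨⟨⟨⟨⟨⟨⟨ha, hb⟩, hab⟩, hab'⟩, har⟩, hbr⟩, hca⟩, hcb⟩, hlen⟩, hall⟩ := h
  simp only [List.all_eq_true, Bool.or_eq_true, Bool.and_eq_true, bne_iff_ne, beq_iff_eq] at hall
  intro v w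
  obtain ⟨c, hc, hcs⟩ : ∃ c ∈ D.commTerms a b, c.1 = s := by
    obtain ⟨c, hc⟩ := List.exists_mem_of_length_pos
      (l := (D.commTerms a b).filter fun c => c.1 == s) (by omega)
    rw [List.mem_filter, beq_iff_eq] at hc
    exact ⟨c, hc⟩
  obtain ⟨hC, hij⟩ := (hall c hc).resolve_left (fun h => h hcs)
  have hCne : (c.2.1 : F) ≠ 0 := by
    rcases Int.natAbs_eq c.2.1 with h' | h' <;> rw [h', hC] <;> simp
  obtain ⟨t, u, htu⟩ : ∃ t u : F, (c.2.1 : F) * (-t) ^ c.2.2.1 * u ^ c.2.2.2 = w := by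
    rcases hij with h | h
    · exact ⟨-(w / c.2.1), 1, by rw [h, _root_.neg_neg, pow_one, one_pow, mul_one, mul_div_cancel₀ _ hCne]⟩
    · exact ⟨-1, w / c.2.1, by rw [h, _root_.neg_neg, one_pow, mul_one, pow_one, mul_div_cancel₀ _ hCne]⟩
  set X := C.L (hF.xq r v) with hX
  let g : ℕ × ℤ × ℕ × ℕ → Γ := fun d => C.L (hF.xq d.1 ((d.2.1 : F) * (-t) ^ d.2.2.1 * u ^ d.2.2.2))
  set K := Subgroup.centralizer ({X} : Set Γ) with hK
  have hmemK : ∀ y : Γ, Commute X y → y ∈ K := fun y hy =>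
    Subgroup.mem_centralizer_singleton_iff.2 hy.eq.symm
  have hprod : ((D.commTerms a b).map g).prod ∈ K := by
    refine hmemK _ (C.commute_indep (a' := X) rfl
      (b' := ⁅(C.L (hF.xq b u))⁻¹, (C.L (hF.xq a t))⁻¹⁆) ?_ (C.commute_comm ?_ ?_))
    · rw [map_commutatorElement, map_inv, map_inv, C.π_L, C.π_L, map_list_prod, List.map_map,
        commutatorElement_def, inv_inv, inv_inv]
      have e : (D.commTerms a b).map (C.π ∘ g) =
          (D.commWord F a b t u).map fun p => hF.xq p.1 p.2 := by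
        rw [ChevalleyDatum.commWord, List.map_map]
        exact List.map_congr_left fun d _ => C.π_L _
      rw [e, mul_assoc _ (hF.xq b u) (hF.xq a t), hF.xq_comm ha hb hab hab' t u]
      group
    · rw [hX, map_inv, C.π_L, C.π_L]
      exact (hF.xq_commute hr hb hbr (hcb.imp id id) v u).inv_right
    · rw [hX, map_inv, C.π_L, C.π_L]
      exact (hF.xq_commute hr ha har (hca.imp id id) v t).inv_right
  have := middle_mem K g (fun d => d.1 == s) _ hprod (fun d hd hds => ?_) hlen c hc (by simp [hcs])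
  · have e : g c = C.L (hF.xq s w) := by simp only [g, hcs, htu]
    rw [e] at this
    exact (Subgroup.mem_centralizer_singleton_iff.1 this).symm
  · exact hmemK _ (hothers d hd (by simpa using hds) v _)

end Facts

end Cfsg.Agent.Lie
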