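import Cfsg.Agent.Lib.Lie.LiftCerts

/-! Checks of the certificates. -/

set_option autoImplicit false
set_option linter.style.longLine false
set_option maxHeartbeats 1000000
set_option maxRecDepth 100000

namespace Cfsg.Agent.Lie

open Cfsg.Lie

theorem okZeroG2 : okZeroBase chevG2 [1, 2, 3] [9] zeroCertG2 = true := by decide +kernel
theorem okPairG2 : okPairBase chevG2 [1, 2, 3] pairCertG2 = true := by decide +kernel
theorem okRegG2 : okRegBase chevG2 [1, 2, 3] regCertG2 = true := by decide +kernel
theorem okZeroB2 : okZeroBase chevB2 [1, 2] [6] zeroCertB2 = true := by decide +kernel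
theorem okPairB2 : okPairBase chevB2 [1, 2] pairCertB2 = true := by decide +kernel
theorem okRegB2 : okRegBase chevB2 [1, 2] regCertB2 = true := by decide +kernel
theorem okZeroD4 : okZeroBase chevD4 [1, 2] [] zeroCertD4 = true := by decide +kernel
theorem okPairD4 : okPairBase chevD4 [1, 2] pairCertD4 = true := by decide +kernel
theorem okRegD4 : okRegBase chevD4 [1, 2] regCertD4 = true := by decide +kernel
theorem okShapeD4 : okShapeBase chevD4 = true := by decide +kernel
theorem okAgreeD4 : okAgreeBase chevD4 agreeCertD4 = true := by decide +kernel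
theorem okZeroF4 : okZeroBase chevF4 [1] [] zeroCertF4 = true := by decide +kernel
theorem okPairF4 : okPairBase chevF4 [1] pairCertF4 = true := by decide +kernel
theorem okRegF4 : okRegBase chevF4 [1] regCertF4 = true := by decide +kernel

end Cfsg.Agent.Lie
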