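import Cfsg.Agent.Lib.Lie.LiftChecks
import Cfsg.Agent.Lib.Lie.AllFacts

/-! Certificates for representative pairs of roots of each type. -/

set_option autoImplicit false
set_option linter.style.longLine false
set_option maxHeartbeats 1000000
set_option maxRecDepth 100000

namespace Cfsg.Agent.Lie

open Cfsg.Lie

/-- Vanishing certificates. -/
def zeroCertG2 : List ((ℕ × ℕ) × (List ℤ × (ℕ × ℕ) × List (ℕ × List ℤ))) :=
  [((9, 6), ([0, -1], (0, 0), [])),
    ((9, 11), ([0, -1], (0, 0), [])),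
    ((11, 7), ([-1, 0], (0, 0), [])),
    ((11, 9), ([-1, 0], (0, 0), [])),
    ((11, 10), ([-1, 0], (0, 0), [])),
    ((11, 11), ([], (6, 10), []))]

/-- Pair certificates. -/
def pairCertG2 : List ((ℕ × ℕ) × (List ℕ × List ℕ × List ℤ)) :=
  [((9, 1), ([1, 0], [6, 8, 9, 10, 11], [-1, -2])),
    ((9, 4), ([0], [7, 9, 10, 11], [-1, -1])),
    ((9, 8), ([], [8, 11], [0, -1])),
    ((11, 3), ([0, 1], [7, 8, 9, 10, 11], [-2, -3])),
    ((11, 5), ([1], [6, 11], [-1, -3]))]

/-- Regular tori. -/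
def regCertG2 : List (ℕ × List ℤ) := [(9, [-1, 0]), (11, [0, -1])]

/-- Vanishing certificates. -/
def zeroCertB2 : List ((ℕ × ℕ) × (List ℤ × (ℕ × ℕ) × List (ℕ × List ℤ))) :=
  [((6, 7), ([-1, 0], (0, 0), [])),
    ((7, 4), ([0, -1], (0, 0), [])),
    ((7, 6), ([0, -1], (0, 0), [])),
    ((7, 7), ([], (3, 6), [(5, [0, -1])]))]

/-- Pair certificates. -/
def pairCertB2 : List ((ℕ × ℕ) × (List ℕ × List ℕ × List ℤ)) :=
  [((6, 3), ([1], [4, 6, 7], [-1, -2])),
    ((6, 5), ([], [5, 7], [-1, 0])),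
    ((7, 2), ([0], [5, 6, 7], [-1, -1]))]

/-- Regular tori. -/
def regCertB2 : List (ℕ × List ℤ) := [(6, [0, -1]), (7, [-1, 0])]

/-- Vanishing certificates. -/
def zeroCertD4 : List ((ℕ × ℕ) × (List ℤ × (ℕ × ℕ) × List (ℕ × List ℤ))) :=
  [((23, 12), ([0, 0, 0, -1], (0, 0), [])),
    ((23, 13), ([0, 0, -1, 0], (0, 0), [])),
    ((23, 18), ([-1, 0, 0, 0], (0, 0), [])),
    ((23, 22), ([-1, 0, 0, 0], (0, 0), [])),
    ((23, 23), ([], (14, 22), []))]

/-- Pair certificates. -/
def pairCertD4 : List ((ℕ × ℕ) × (List ℕ × List ℕ × List ℤ)) :=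
  [((23, 9), ([1], [14, 23], [-1, -1, 0, 0]))]

/-- Regular tori. -/
def regCertD4 : List (ℕ × List ℤ) := [(23, [0, -1, 0, 0])]

/-- Agreement certificate. -/
def agreeCertD4 : List (ℕ × (ℕ × ℕ) × List (ℕ × ℕ × ℕ × ℕ × ℕ)) :=
  [(23, (14, 22), [(14, 12, 21, 22, 15), (14, 13, 20, 22, 16), (14, 18, 17, 22, 19), (15, 13, 19, 21, 17), (15, 18, 16, 21, 20), (16, 18, 15, 20, 21), (17, 18, 14, 19, 22)])]

/-- Vanishing certificates. -/
def zeroCertF4 : List ((ℕ × ℕ) × (List ℤ × (ℕ × ℕ) × List (ℕ × List ℤ))) :=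
  [((44, 32), ([0, 0, -1, 0], (0, 0), [])),
    ((44, 40), ([0, -1, 0, 0], (0, 0), [])),
    ((44, 44), ([], (33, 40), [])),
    ((44, 47), ([0, 0, 0, -1], (0, 0), [])),
    ((47, 37), ([0, -1, 0, 0], (0, 0), [])),
    ((47, 41), ([], (17, 37), [(33, [0, -1, 0, 0])])),
    ((47, 44), ([-1, 0, 0, 0], (0, 0), [])),
    ((47, 46), ([0, 0, -1, 0], (0, 0), [])),
    ((47, 47), ([], (6, 44), [(29, [-1, 0, 0, 0])]))]

/-- Pair certificates. -/
def pairCertF4 : List ((ℕ × ℕ) × (List ℕ × List ℕ × List ℤ)) :=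
  [((44, 6), ([2, 1, 0], [25, 39, 47], [0, -1, 0, 1])),
    ((44, 14), ([0], [33, 44], [-1, -1, 0, 0])),
    ((44, 29), ([], [29, 47], [0, 0, 0, -1])),
    ((47, 18), ([1, 2, 3], [27, 44, 45], [-1, -1, 0, 0])),
    ((47, 23), ([3], [24, 47], [0, 0, -1, -1]))]

/-- Regular tori. -/
def regCertF4 : List (ℕ × List ℤ) := [(44, [-1, 0, 0, 0]), (47, [0, 0, 0, -1])]

/-- Vanishing certificates. -/
def zeroCertE6 : List ((ℕ × ℕ) × (List ℤ × (ℕ × ℕ) × List (ℕ × List ℤ))) :=
  [((71, 60), ([], (36, 59), [])),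
    ((71, 70), ([], (39, 69), [])),
    ((71, 71), ([], (46, 70), []))]

/-- Agreement certificate. -/
def agreeCertE6 : List (ℕ × (ℕ × ℕ) × List (ℕ × ℕ × ℕ × ℕ × ℕ)) :=
  [(71, (46, 70), [(46, 39, 69, 70, 47), (46, 40, 68, 70, 48), (46, 41, 67, 70, 49), (46, 43, 66, 70, 50), (46, 44, 65, 70, 51), (46, 45, 64, 70, 52), (46, 58, 55, 70, 61), (46, 59, 54, 70, 62), (46, 60, 53, 70, 63), (47, 44, 63, 69, 53), (47, 45, 62, 69, 54), (47, 59, 52, 69, 64), (47, 60, 51, 69, 65), (48, 45, 61, 68, 55), (48, 60, 50, 68, 66), (50, 59, 49, 66, 67), (50, 60, 48, 66, 68), (51, 60, 47, 65, 69), (53, 60, 46, 63, 70)])]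

/-- Vanishing certificates. -/
def zeroCertE7 : List ((ℕ × ℕ) × (List ℤ × (ℕ × ℕ) × List (ℕ × List ℤ))) :=
  [((125, 92), ([], (64, 91), [])),
    ((125, 124), ([], (73, 123), [])),
    ((125, 125), ([], (93, 124), []))]

/-- Agreement certificate. -/
def agreeCertE7 : List (ℕ × (ℕ × ℕ) × List (ℕ × ℕ × ℕ × ℕ × ℕ)) :=
  [(125, (93, 124), [(93, 73, 123, 124, 94), (93, 74, 122, 124, 95), (93, 75, 121, 124, 96), (93, 76, 120, 124, 97), (93, 77, 119, 124, 98), (93, 83, 118, 124, 99), (93, 84, 117, 124, 100), (93, 85, 116, 124, 101), (93, 86, 115, 124, 102), (93, 87, 114, 124, 103), (93, 88, 113, 124, 104), (93, 89, 112, 124, 105), (93, 90, 111, 124, 106), (93, 91, 110, 124, 107), (93, 92, 109, 124, 108), (94, 87, 108, 123, 109), (94, 88, 107, 123, 110), (94, 89, 106, 123, 111), (94, 90, 105, 123, 112), (94, 91, 104, 123, 113), (94, 92, 103, 123, 114), (95, 90, 102, 122, 115), (95, 91, 101, 122, 116), (95, 92, 100, 122, 117), (96, 92, 99, 121, 118), (99, 90, 98, 118, 119),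 (99, 91, 97, 118, 120), (99, 92, 96, 118, 121), (100, 92, 95, 117, 122), (103, 92, 94, 114, 123), (109, 92, 93, 108, 124)])]

/-- Vanishing certificates. -/
def zeroCertE8 : List ((ℕ × ℕ) × (List ℤ × (ℕ × ℕ) × List (ℕ × List ℤ))) :=
  [((239, 226), ([], (162, 219), [])),
    ((239, 238), ([], (121, 237), [])),
    ((239, 239), ([], (120, 238), []))]

/-- Agreement certificate. -/
def agreeCertE8 : List (ℕ × (ℕ × ℕ) × List (ℕ × ℕ × ℕ × ℕ × ℕ)) :=
  [(239, (120, 238), [(120, 121, 237, 238, 122), (120, 124, 236, 238, 125), (120, 128, 235, 238, 129), (120, 133, 234, 238, 134), (120, 139, 233, 238, 140), (120, 145, 232, 238, 146), (120, 150, 231, 238, 151), (120, 154, 230, 238, 155), (120, 157, 229, 238, 158), (120, 159, 228, 238, 160), (120, 167, 225, 238, 168), (120, 172, 224, 238, 173), (120, 176, 223, 238, 177), (120, 179, 222, 238, 180), (120, 181, 221, 238, 182), (120, 186, 218, 238, 187), (120, 189, 217, 238, 190), (120, 191, 216, 238, 192), (120, 195, 213, 238,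 196), (120, 197, 212, 238, 198), (120, 200, 209, 238, 201), (120, 205, 203, 238, 206), (120, 207, 202, 238, 208), (120, 210, 199, 238, 211), (120, 214, 193, 238, 215), (120, 219, 183, 238, 220), (120, 226, 161, 238, 227), (122, 159, 227, 237, 161), (122, 181, 220, 237, 183), (122, 191, 215, 237, 193), (122, 197, 211, 237, 199), (122, 200, 208, 237, 202), (122, 207, 201, 237, 209), (122, 210, 198, 237, 212), (122, 214, 192, 237, 216), (122, 219, 182, 237, 221), (122, 226, 160, 237, 228), (125, 200, 206, 236, 203), (125, 210, 196, 236, 213), (125, 214, 190, 236, 217), (125, 219, 180, 236, 222), (125, 226, 158, 236, 229), (129, 214, 187, 235, 218), (129, 219, 177, 235, 223), (129, 226, 155, 235, 230), (134, 219, 173, 234, 224), (134, 226, 151, 234, 231), (140, 226, 146, 233, 232), (146, 219, 168, 232, 225), (146, 226, 140, 232, 233), (151, 226, 134, 231, 234), (155, 226, 129, 230, 235), (158, 226, 125, 229, 236), (160, 226, 122, 228, 237), (161, 226, 120, 227, 238)])]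

/-- The base check for vanishing. -/
def okZeroBase (D : ChevalleyDatum) (J : List ℕ) (skip : List ℕ)
    (cert : List ((ℕ × ℕ) × (List ℤ × (ℕ × ℕ) × List (ℕ × List ℤ)))) : Bool :=
  (List.range D.nroots).all fun r => !(List.range D.rank).all (fun i => decide (D.reflectRoot i r ≤ r)) ||
    (List.range D.nroots).all fun s => s == D.neg r ||
      !(s == r || ((D.commTerms r s).isEmpty &&
        (List.range D.rank).all fun i => D.reflectRoot i r != r || decide (D.reflectRoot i s ≤ s))) ||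
      (s == r && skip.contains r) || cert.any fun q => q.1 == (r, s) && okZero D J r s q.2

/-- The base check for the commutator formulas. -/
def okPairBase (D : ChevalleyDatum) (J : List ℕ) (cert : List ((ℕ × ℕ) × (List ℕ × List ℕ × List ℤ))) : Bool :=
  (List.range D.nroots).all fun r => !(List.range D.rank).all (fun i => decide (D.reflectRoot i r ≤ r)) ||
    (List.range D.nroots).all fun s => s == r || s == D.neg r ||
      !((List.range D.rank).all fun i => D.reflectRoot i r != r || decide (D.reflectRoot i s ≤ s)) ||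
      (D.commTerms r s).isEmpty || cert.any fun q => q.1 == (r, s) && okLiftPair D J r s q.2

/-- The base check for regular tori. -/
def okRegBase (D : ChevalleyDatum) (J : List ℕ) (cert : List (ℕ × List ℤ)) : Bool :=
  (List.range D.nroots).all fun r => !(List.range D.rank).all (fun i => decide (D.reflectRoot i r ≤ r)) ||
    cert.any fun q => q.1 == r && decide ((psiOf D (fun i => q.2.getD i 0) r).natAbs ∈ J)

/-- The base check for the shape of pairs. -/
def okShapeBase (D : ChevalleyDatum) : Bool :=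
  (List.range D.nroots).all fun r => !(List.range D.rank).all (fun i => decide (D.reflectRoot i r ≤ r)) ||
    (List.range D.nroots).all fun s => s == r || s == D.neg r ||
      !((List.range D.rank).all fun i => D.reflectRoot i r != r || decide (D.reflectRoot i s ≤ s)) ||
      okSimplyPair D r s

/-- The base check for agreement of decompositions. -/
def okAgreeBase (D : ChevalleyDatum) (cert : List (ℕ × (ℕ × ℕ) × List (ℕ × ℕ × ℕ × ℕ × ℕ))) : Bool :=
  (List.range D.nroots).all fun k => !(List.range D.rank).all (fun i => decide (D.reflectRoot i k ≤ k)) ||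
    cert.any (fun q => q.1 == k && !q.2.2.isEmpty &&
      (q.2.2.head?.map fun e => (e.1, e.2.2.2.1)) == some q.2.1 && okGrow D k [q.2.1] q.2.2)

end Cfsg.Agent.Lie
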