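import Cfsg.Agent.Lib.Lie.LiftBase

/-!
Lifts of root elements in simply laced types through commutators of decompositions: any field.
-/

set_option autoImplicit false
set_option linter.unusedSectionVars false

namespace Cfsg.Agent.Lie

open Cfsg.Lie
open scoped commutatorElement
open Cfsg.Agent.Small.SchurLifts

variable {D : ChevalleyDatum} {F : Type*} [Field F]

/-- The single term of a pair, if there is exactly one and it is linear in both variables with unit
coefficient, and both roots commute with it. -/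
def okSimplyPair (D : ChevalleyDatum) (r s : ℕ) : Bool :=
  match D.commTerms r s with
  | [] => true
  | [c] => c.2.1.natAbs == 1 && c.2.2.1 == 1 && c.2.2.2 == 1 && c.1 != D.neg r && c.1 != D.neg s &&
      c.1 != r && c.1 != s && (D.commTerms r c.1).isEmpty && (D.commTerms s c.1).isEmpty
  | _ => false

/-- An edge between two decompositions (a, b) and (m, q) of k, through b = p + q and m = a + p. -/
def okEdge (D : ChevalleyDatum) (k : ℕ) (e : ℕ × ℕ × ℕ × ℕ × ℕ) : Bool :=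
  match e with
  | (a, p, q, b, m) =>
    decide (a < D.nroots) && decide (p < D.nroots) && decide (q < D.nroots) &&
    p != a && p != D.neg a && q != a && q != D.neg a && q != p && q != D.neg p &&
    (D.commTerms a p).map (fun c => (c.1, c.2.1.natAbs, c.2.2.1, c.2.2.2)) == [(m, 1, 1, 1)] &&
    (D.commTerms p q).map (fun c => (c.1, c.2.1.natAbs, c.2.2.1, c.2.2.2)) == [(b, 1, 1, 1)] &&
    (D.commTerms a b).map (fun c => (c.1, c.2.1.natAbs, c.2.2.1, c.2.2.2)) == [(k, 1, 1, 1)] &&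
    (D.commTerms m q).map (fun c => (c.1, c.2.1.natAbs, c.2.2.1, c.2.2.2)) == [(k, 1, 1, 1)] &&
    b != a && b != D.neg a && q != m && q != D.neg m &&
    (D.commTerms a q).isEmpty && b != m && b != D.neg m && (D.commTerms b m).isEmpty &&
    k != b && k != D.neg b && (D.commTerms b k).isEmpty

/-- Growth of the set of decompositions known to agree. -/
def okGrow (D : ChevalleyDatum) (k : ℕ) : List (ℕ × ℕ) → List (ℕ × ℕ × ℕ × ℕ × ℕ) → Bool
  | known, [] => (List.range D.nroots).all fun r => (D.chain.getD r #[]).toList.all fun e =>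
      !((e.2.toList.head?.map Prod.fst) == some k) || known.contains (r, e.1)
  | known, e :: L =>
    okEdge D k e &&
      ((known.contains (e.1, e.2.2.2.1) && okGrow D k ((e.2.2.2.2, e.2.2.1) :: known) L) ||
        (known.contains (e.2.2.2.2, e.2.2.1) && okGrow D k ((e.1, e.2.2.2.1) :: known) L))

namespace Facts

variable (hF : Facts D) {Γ : Type*} [Group Γ] (C : Central Γ ↥(D.group F))

/-- r + s = k in the sense of the commutator formula. -/
def Dec (D : ChevalleyDatum) (r s k : ℕ) (c : ℤ) : Prop :=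
  r < D.nroots ∧ s < D.nroots ∧ s ≠ r ∧ s ≠ D.neg r ∧ D.commTerms r s = [(k, c, 1, 1)]

/-- The commutator of lifts. -/
noncomputable def bLift (r s : ℕ) (t u : F) : Γ := ⁅C.L (hF.xq r t), C.L (hF.xq s u)⁆

/-- Two decompositions give the same lifts. -/
def Agree (k : ℕ) (p p' : ℕ × ℕ) : Prop :=
  ∃ c c' : ℤ, Dec D p.1 p.2 k c ∧ Dec D p'.1 p'.2 k c' ∧ ∀ t u t' u' : F,
    (c : F) * t * u = (c' : F) * t' * u' → hF.bLift C p.1 p.2 t u = hF.bLift C p'.1 p'.2 t' u'

variable {C}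

/-- What the method needs. -/
structure SimplyHyp (hF : Facts D) (C : Central Γ ↥(D.group F)) : Prop where
  shape : ∀ r s, r < D.nroots → s < D.nroots → s ≠ r → s ≠ D.neg r → okSimplyPair D r s = true
  zero : ∀ r s, r < D.nroots → s < D.nroots → s ≠ D.neg r →
    (s = r ∨ D.commTerms r s = []) → hF.Zp C r s

theorem dec_props (h : SimplyHyp hF C) {r s k : ℕ} {c : ℤ} (hd : Dec D r s k c) :
    k < D.nroots ∧ (c : F) * c = 1 ∧ hF.Zp C r k ∧ hF.Zp C s k := by
  obtain ⟨hr, hs, h1, h2, he⟩ := hd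
  have hk : k < D.nroots := hF.commTerms_lt hr hs _ (by rw [he]; exact List.mem_singleton.2 rfl)
  have h0 := h.shape r s hr hs h1 h2
  simp only [okSimplyPair, he, Bool.and_eq_true, beq_iff_eq, bne_iff_ne, List.isEmpty_iff] at h0
  obtain ⟨⟨⟨⟨⟨⟨⟨⟨hc, -⟩, -⟩, n1⟩, n2⟩, n3⟩, n4⟩, e1⟩, e2⟩ := h0
  refine ⟨hk, ?_, h.zero r k hr hk n1 (Or.inr e1), h.zero s k hs hk n2 (Or.inr e2)⟩
  rcases Int.natAbs_eq c with h' | h' <;> rw [h', hc] <;> norm_num

theorem π_bLift (h : SimplyHyp hF C) {r s k : ℕ} {c : ℤ} (hd : Dec D r s k c) (t u : F) :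
    C.π (hF.bLift C r s t u) = hF.xq k ((c : F) * t * u) := by
  obtain ⟨hk, -, zr, zs⟩ := hF.dec_props h hd
  obtain ⟨hr, hs, h1, h2, he⟩ := hd
  have e := hF.xq_comm hr hs h1 h2 t u
  simp only [ChevalleyDatum.commWord, he, List.map_cons, List.map_nil, List.prod_cons, List.prod_nil,
    mul_one, pow_one, mul_neg, neg_mul] at e
  rw [hF.xq_neg] at e
  have cr : Commute (hF.xq r t) (hF.xq k ((c : F) * t * u)) := by
    have := (zr t ((c : F) * t * u)).map C.π
    rwa [C.π_L, C.π_L] at this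
  have cs : Commute (hF.xq s u) (hF.xq k ((c : F) * t * u)) := by
    have := (zs u ((c : F) * t * u)).map C.π
    rwa [C.π_L, C.π_L] at this
  have e' : hF.xq r t * hF.xq s u = hF.xq s u * hF.xq r t * hF.xq k ((c : F) * t * u) := by
    rw [e, inv_mul_cancel_right]
  rw [bLift, map_commutatorElement, C.π_L, C.π_L, commutatorElement_def, e',
    mul_assoc (hF.xq s u) (hF.xq r t), cr.eq, ← mul_assoc (hF.xq s u), cs.eq]
  group

theorem bLift_comm_of_dec (h : SimplyHyp hF C) {r s k : ℕ} {c : ℤ} (hd : Dec D r s k c) (t u : F)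
    {a : Γ} {j : ℕ} {v : F} (ha : C.π a = hF.xq j v) (hz : hF.Zp C j k) :
    Commute a (hF.bLift C r s t u) := hF.zp_lift hz ha (hF.π_bLift h hd t u)

theorem bLift_add_right (h : SimplyHyp hF C) {r s k : ℕ} {c : ℤ} (hd : Dec D r s k c) (t u u' : F) :
    hF.bLift C r s t (u + u') = hF.bLift C r s t u * hF.bLift C r s t u' :=
  C.add_right (fun v => hF.xq s v) (fun v v' => hF.xq_add s v v') u u'
    (hF.bLift_comm_of_dec h hd t u' (C.π_L _) (hF.dec_props h hd).2.2.2)

/-- The edge identity. -/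
theorem bLift_edge (h : SimplyHyp hF C) {a p q b m k : ℕ} {c₁ c₂ c₄ : ℤ} (d1 : Dec D a p m c₁)
    (d2 : Dec D p q b c₂) (d4 : Dec D m q k c₄)
    (haq : q ≠ D.neg a ∧ D.commTerms a q = []) (hbm : hF.Zp C b m) (hbk : hF.Zp C b k) (t v w : F) :
    hF.bLift C a b t ((c₂ : F) * v * w) = hF.bLift C m q ((c₁ : F) * t * v) w := by
  set A := C.L (hF.xq a t) with hA
  set P := C.L (hF.xq p v) with hP
  set Qv := C.L (hF.xq q w) with hQv
  set M := C.L (hF.xq m ((c₁ : F) * t * v)) with hM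
  have hAq : C.π (A * Qv * A⁻¹) = C.π Qv := by
    rw [map_mul, map_mul, map_inv, hA, hQv, C.π_L, C.π_L,
      (hF.xq_commute d1.1 d2.2.1 haq.1 (Or.inr haq.2) t w).eq, mul_inv_cancel_right]
  have hAp : C.π (A * P * A⁻¹) = C.π (M * P) := by
    rw [map_mul, map_mul, map_inv, map_mul, hA, hP, hM, C.π_L, C.π_L, C.π_L, ← hF.π_bLift h d1 t v,
      bLift, map_commutatorElement, C.π_L, C.π_L, commutatorElement_def]
    group
  have h1 : A * ⁅P, Qv⁆ * A⁻¹ = ⁅M * P, Qv⁆ := C.conj_comm hAp hAq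
  have h2 : ⁅M * P, Qv⁆ = M * ⁅P, Qv⁆ * M⁻¹ * ⁅M, Qv⁆ := by
    simp only [commutatorElement_def]; group
  have h3 : Commute M ⁅P, Qv⁆ :=
    hF.bLift_comm_of_dec h d2 v w (C.π_L _) (hF.zp_symm hbm)
  have h4 : Commute ⁅P, Qv⁆ ⁅M, Qv⁆ :=
    hF.bLift_comm_of_dec h d4 _ w (hF.π_bLift h d2 v w) hbk
  have h5 : ⁅A, ⁅P, Qv⁆⁆ = ⁅M, Qv⁆ := by
    rw [commutatorElement_def A, h1, h2, h3.eq, mul_inv_cancel_right, h4.eq, mul_inv_cancel_right]
  have h6 : hF.bLift C a b t ((c₂ : F) * v * w) = ⁅A, ⁅P, Qv⁆⁆ :=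
    C.comm_right A (by rw [C.π_L]; exact (hF.π_bLift h d2 v w).symm)
  rw [h6, h5]
  rfl

theorem agree_symm {k : ℕ} {p p' : ℕ × ℕ} (h : hF.Agree C k p p') : hF.Agree C k p' p := by
  obtain ⟨c, c', h1, h2, h3⟩ := h
  exact ⟨c', c, h2, h1, fun t u t' u' e => (h3 t' u' t u e.symm).symm⟩

theorem agree_trans (hs : SimplyHyp hF C) {k : ℕ} {p p' p'' : ℕ × ℕ} (h : hF.Agree C k p p')
    (h' : hF.Agree C k p' p'') : hF.Agree C k p p'' := by
  obtain ⟨c, c', h1, h2, h3⟩ := h
  obtain ⟨d, d', g1, g2, g3⟩ := h'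
  have hcd : c' = d := by
    have := h2.2.2.2.2.symm.trans g1.2.2.2.2
    simp only [List.cons.injEq, Prod.mk.injEq, and_true, true_and] at this
    exact this
  subst hcd
  refine ⟨c, d', h1, g2, fun t u t' u' e => ?_⟩
  have hc := (hF.dec_props hs h2).2.1
  rw [h3 t u 1 ((c' : F) * ((c : F) * t * u)) (by rw [mul_one, ← mul_assoc, hc, one_mul]),
    g3 1 ((c' : F) * ((c : F) * t * u)) t' u' (by rw [mul_one, ← mul_assoc, hc, one_mul, e])]

theorem agree_edge (h : SimplyHyp hF C) {k : ℕ} {e : ℕ × ℕ × ℕ × ℕ × ℕ} (he : okEdge D k e = true) :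
    hF.Agree C k (e.1, e.2.2.2.1) (e.2.2.2.2, e.2.2.1) ∧
      hF.Agree C k (e.1, e.2.2.2.1) (e.1, e.2.2.2.1) := by
  obtain ⟨a, p, q, b, m⟩ := e
  simp only [okEdge, Bool.and_eq_true, decide_eq_true_eq, bne_iff_ne, beq_iff_eq, List.isEmpty_iff] at he
  obtain ⟨⟨⟨⟨⟨⟨⟨⟨⟨⟨⟨⟨⟨⟨⟨⟨⟨⟨⟨⟨⟨⟨⟨ha, hp⟩, hq⟩, hpa⟩, hpa'⟩, hqa⟩, hqa'⟩, hqp⟩, hqp'⟩, t1⟩, t2⟩, t3⟩,
    t4⟩, hba⟩, hba'⟩, hqm⟩, hqm'⟩, haq⟩, hbm⟩, hbm'⟩, tbm⟩, hkb⟩, hkb'⟩, tbk⟩ := he
  have mk : ∀ {r s n : ℕ}, r < D.nroots → s < D.nroots → s ≠ r → s ≠ D.neg r →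
      (D.commTerms r s).map (fun c => (c.1, c.2.1.natAbs, c.2.2.1, c.2.2.2)) = [(n, 1, 1, 1)] →
      ∃ c, Dec D r s n c := by
    intro r s n hr hs h1 h2 e
    obtain ⟨⟨n', c, i, j⟩, hl, e'⟩ := List.map_eq_singleton_iff.1 e
    simp only [Prod.mk.injEq] at e'
    obtain ⟨rfl, -, rfl, rfl⟩ := e'
    exact ⟨c, hr, hs, h1, h2, hl⟩
  obtain ⟨c₁, d1⟩ := mk ha hp hpa hpa' t1
  obtain ⟨c₂, d2⟩ := mk hp hq hqp hqp' t2
  have hb := (hF.dec_props h d2).1
  have hm := (hF.dec_props h d1).1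
  obtain ⟨c₃, d3⟩ := mk ha hb hba hba' t3
  obtain ⟨c₄, d4⟩ := mk hm hq hqm hqm' t4
  have hk := (hF.dec_props h d3).1
  have zbm : hF.Zp C b m := h.zero b m hb hm
    (fun e => hbm' (by rw [e, hF.neg_neg hb])) (Or.inr tbm)
  have zbk : hF.Zp C b k := h.zero b k hb hk hkb' (Or.inr tbk)
  have key := hF.bLift_edge h d1 d2 d4 ⟨hqa', haq⟩ zbm zbk
  have e1 := (hF.dec_props h d1).2.1
  have e2 := (hF.dec_props h d2).2.1
  have hA : ∀ t u : F, hF.bLift C a b t u = hF.bLift C m q ((c₁ : F) * t) ((c₂ : F) * u) := fun t u => by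
    have := key t 1 ((c₂ : F) * u)
    rwa [mul_one, mul_one, ← mul_assoc, e2, one_mul] at this
  have hB : ∀ t u : F, hF.bLift C m q t u = hF.bLift C a b 1 ((c₂ : F) * (c₁ : F) * t * u) := fun t u => by
    have := key 1 ((c₁ : F) * t) u
    rw [mul_one, ← mul_assoc (c₁ : F), e1, one_mul, ← mul_assoc (c₂ : F)] at this
    exact this.symm
  have e12 : (c₃ : F) = c₁ * c₂ * c₄ := by
    have := congrArg C.π (hA 1 1)
    rw [hF.π_bLift h d3, hF.π_bLift h d4, mul_one, mul_one, mul_one, mul_one] at this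
    rw [hF.xq_inj hk this]; ring
  have e3 := (hF.dec_props h d3).2.1
  have hbal : ∀ t u : F, hF.bLift C a b t u = hF.bLift C a b 1 (t * u) := fun t u => by
    rw [hA, hB]
    congr 1
    linear_combination (t * u * ((c₁ : F) * c₁)) * e2 + (t * u) * e1
  refine ⟨⟨c₃, c₄, d3, d4, fun t u t' u' e => ?_⟩, ⟨c₃, c₃, d3, d3, fun t u t' u' e => ?_⟩⟩
  · simp only
    rw [hbal, hB]
    congr 1
    linear_combination (c₃ : F) * e - (t * u) * e3 + ((c₄ : F) * t' * u') * e12 +
      ((c₁ : F) * c₂ * t' * u') * (hF.dec_props h d4).2.1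
  · simp only
    rw [hbal t u, hbal t' u']
    congr 1
    linear_combination (c₃ : F) * e - (t * u - t' * u') * e3

theorem agree_grow (h : SimplyHyp hF C) {k : ℕ} (p₀ : ℕ × ℕ) : ∀ (L : List (ℕ × ℕ × ℕ × ℕ × ℕ))
    (known : List (ℕ × ℕ)), (∀ p ∈ known, hF.Agree C k p p₀) → okGrow D k known L = true →
    ∀ r s c, Dec D r s k c → hF.Agree C k (r, s) p₀ := by
  intro L
  induction L with
  | nil =>
    intro known hk hok r s c hd
    simp only [okGrow, List.all_eq_true, List.mem_range, Bool.or_eq_true, Bool.not_eq_true',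
      List.contains_iff_mem, beq_eq_false_iff_ne, ne_eq] at hok
    obtain ⟨hr, hs, h1, h2, he⟩ := hd
    have hc : ((k, c, 1, 1) : ℕ × ℤ × ℕ × ℕ) ∈ D.commTerms r s := by rw [he]; exact List.mem_singleton.2 rfl
    simp only [ChevalleyDatum.commTerms, List.mem_filterMap, List.mem_cons, List.not_mem_nil,
      or_false] at hc
    obtain ⟨x, hx, hxc⟩ := hc
    obtain ⟨k', hk', e⟩ := Option.map_eq_some_iff.1 hxc
    simp only [Prod.mk.injEq] at e
    obtain ⟨rfl, e2⟩ := e
    rcases hx with rfl | rfl | rfl | rfl | rfl | rfl | rfl <;> simp at e2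
    simp only [ChevalleyDatum.chainRoot, ChevalleyDatum.chainEntry, Option.map_eq_some_iff] at hk'
    obtain ⟨p, hp, hpk⟩ := hk'
    cases hfind : (D.chain.getD r #[]).toList.find? fun e => decide (e.1 = s) with
    | none => rw [hfind] at hp; simp at hp
    | some e =>
      rw [hfind] at hp
      have hmem := List.mem_of_find?_eq_some hfind
      have hes : e.1 = s := by simpa using List.find?_some hfind
      refine hk _ (hes ▸ (hok r hr e hmem).resolve_left fun h' => h' ?_)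
      rw [List.head?_eq_getElem?, show e.2.toList[0]? = some p from hp, Option.map_some, hpk]
  | cons e L ih =>
    intro known hk hok
    simp only [okGrow, Bool.and_eq_true, Bool.or_eq_true, List.contains_iff_mem] at hok
    obtain ⟨he, hcase⟩ := hok
    have hedge := (hF.agree_edge h he).1
    rcases hcase with ⟨hmem, hrest⟩ | ⟨hmem, hrest⟩
    · refine ih _ (fun p hp => ?_) hrest
      rcases List.mem_cons.1 hp with rfl | hp
      · exact hF.agree_trans h (hF.agree_symm hedge) (hk _ hmem)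
      · exact hk p hp
    · refine ih _ (fun p hp => ?_) hrest
      rcases List.mem_cons.1 hp with rfl | hp
      · exact hF.agree_trans h hedge (hk _ hmem)
      · exact hk p hp

variable (C)

/-- All decompositions of a root agree, and there is one. -/
def AllAgree (k : ℕ) : Prop :=
  (∃ r s c, Dec D r s k c) ∧ ∀ r s c r' s' c', Dec D r s k c → Dec D r' s' k c' → hF.Agree C k (r, s) (r', s')

variable {C}

theorem dec_refl {i r s k : ℕ} {c : ℤ} (hi : i < D.rank) (hd : Dec D r s k c) :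
    Dec D (D.reflectRoot i r) (D.reflectRoot i s) (D.reflectRoot i k)
      (c * (hF.eta i k * hF.eta i r * hF.eta i s)) := by
  obtain ⟨hr, hs, h1, h2, he⟩ := hd
  refine ⟨hF.refl_lt i hi r hr, hF.refl_lt i hi s hs, (hF.refl_ne hi hr hs h1 h2).1,
    (hF.refl_ne hi hr hs h1 h2).2, ?_⟩
  rw [hF.commTerms_refl hi hr hs, he]
  simp [pow_one]

theorem agree_refl (h : SimplyHyp hF C) {i k : ℕ} (hi : i < D.rank) {p p' : ℕ × ℕ}
    (ha : hF.Agree C k p p') :
    hF.Agree C (D.reflectRoot i k) (D.reflectRoot i p.1, D.reflectRoot i p.2)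
      (D.reflectRoot i p'.1, D.reflectRoot i p'.2) := by
  obtain ⟨c, c', h1, h2, h3⟩ := ha
  refine ⟨_, _, hF.dec_refl hi h1, hF.dec_refl hi h2, fun t u t' u' e => ?_⟩
  have hk := (hF.dec_props h h1).1
  have sr := hF.sgn_mul_self (F := F) hi h1.1
  have ss := hF.sgn_mul_self (F := F) hi h1.2.1
  have sr' := hF.sgn_mul_self (F := F) hi h2.1
  have ss' := hF.sgn_mul_self (F := F) hi h2.2.1
  have sk := hF.sgn_mul_self (F := F) hi hk
  set g := C.L (hF.nq F i) with hg
  have conj : ∀ {r s : ℕ}, r < D.nroots → s < D.nroots → ∀ t u : F,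
      g * hF.bLift C r s (hF.sgn F i r * t) (hF.sgn F i s * u) * g⁻¹ =
        hF.bLift C (D.reflectRoot i r) (D.reflectRoot i s) t u := by
    intro r s hr hs t u
    refine C.conj_comm ?_ ?_
    · rw [map_mul, map_mul, map_inv, hg, C.π_L, C.π_L, C.π_L, hF.nq_conj hi hr, ← mul_assoc,
        hF.sgn_mul_self hi hr, one_mul]
    · rw [map_mul, map_mul, map_inv, hg, C.π_L, C.π_L, C.π_L, hF.nq_conj hi hs, ← mul_assoc,
        hF.sgn_mul_self hi hs, one_mul]
  rw [← conj h1.1 h1.2.1, ← conj h2.1 h2.2.1, h3 _ _ (hF.sgn F i p'.1 * t') (hF.sgn F i p'.2 * u') ?_]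
  simp only [sgn, Int.cast_mul] at e sk ⊢
  linear_combination ((hF.eta i k : ℤ) : F) * e -
    ((c : F) * t * u * ((hF.eta i p.1 : ℤ) : F) * ((hF.eta i p.2 : ℤ) : F)) * sk +
    ((c' : F) * t' * u' * ((hF.eta i p'.1 : ℤ) : F) * ((hF.eta i p'.2 : ℤ) : F)) * sk

/-- Agreement for all roots, from a certificate at each dominant root. -/
theorem allAgree (h : SimplyHyp hF C) (cert : List (ℕ × (ℕ × ℕ) × List (ℕ × ℕ × ℕ × ℕ × ℕ)))
    (hcert : ∀ k, k < D.nroots → (∀ i, i < D.rank → D.reflectRoot i k ≤ k) →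
      cert.any (fun q => q.1 == k && !q.2.2.isEmpty &&
        (q.2.2.head?.map fun e => (e.1, e.2.2.2.1)) == some q.2.1 && okGrow D k [q.2.1] q.2.2) = true) :
    ∀ k, k < D.nroots → hF.AllAgree C k := by
  refine hF.refl_induction _ (fun k hk hdom => ?_) (fun i hi k hk ih => ?_)
  · obtain ⟨⟨k', p₀, L⟩, -, hq⟩ := List.any_eq_true.1 (hcert k hk hdom)
    simp only [Bool.and_eq_true, beq_iff_eq] at hq
    obtain ⟨⟨⟨rfl, -⟩, hhead⟩, hgrow⟩ := hq
    obtain ⟨e, L', rfl⟩ : ∃ e L', L = e :: L' := by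
      cases L with
      | nil => simp at hhead
      | cons e L' => exact ⟨e, L', rfl⟩
    simp only [List.head?_cons, Option.map_some, Option.some.injEq] at hhead
    have he : okEdge D k' e = true := by
      simp only [okGrow, Bool.and_eq_true] at hgrow
      exact hgrow.1
    have h0 := (hF.agree_edge h he).2
    rw [hhead] at h0
    have hall := hF.agree_grow h p₀ _ [p₀] (fun p hp => by rw [List.mem_singleton.1 hp]; exact h0) hgrow
    obtain ⟨c, c', hd, -⟩ := h0
    exact ⟨⟨_, _, c, hd⟩, fun r s c r' s' c' d d' => hF.agree_trans h (hall r s c d)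
      (hF.agree_symm (hall r' s' c' d'))⟩
  · obtain ⟨⟨r, s, c, hd⟩, hall⟩ := ih
    refine ⟨⟨_, _, _, hF.dec_refl hi hd⟩, fun r s c r' s' c' d d' => ?_⟩
    have e := hF.dec_refl hi d
    have e' := hF.dec_refl hi d'
    rw [hF.refl_refl i hi k hk] at e e'
    have := hF.agree_refl h hi (hall _ _ _ _ _ _ e e')
    simpa only [hF.refl_refl i hi r d.1, hF.refl_refl i hi s d.2.1, hF.refl_refl i hi r' d'.1,
      hF.refl_refl i hi s' d'.2.1] using this

variable (ha : ∀ k, k < D.nroots → hF.AllAgree C k)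

/-- The lift from decompositions. -/
noncomputable def yS (k : ℕ) (z : F) : Γ :=
  if hk : k < D.nroots then
    hF.bLift C (ha k hk).1.choose (ha k hk).1.choose_spec.choose 1
      (((ha k hk).1.choose_spec.choose_spec.choose : F) * z)
  else 1

theorem π_yS (h : SimplyHyp hF C) (k : ℕ) (z : F) : C.π (hF.yS ha k z) = hF.xq k z := by
  by_cases hk : k < D.nroots
  · have hd := (ha k hk).1.choose_spec.choose_spec.choose_spec
    rw [yS, dif_pos hk, hF.π_bLift h hd, mul_one, ← mul_assoc, (hF.dec_props h hd).2.1, one_mul]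
  · rw [yS, dif_neg hk, map_one, hF.xq_out (not_lt.1 hk)]

theorem yS_add (h : SimplyHyp hF C) (k : ℕ) (z z' : F) :
    hF.yS ha k (z + z') = hF.yS ha k z * hF.yS ha k z' := by
  by_cases hk : k < D.nroots
  · simp only [yS, dif_pos hk, mul_add]
    exact hF.bLift_add_right h (ha k hk).1.choose_spec.choose_spec.choose_spec 1 _ _
  · simp [yS, hk]

/-- The commutator formula. -/
theorem yS_comm (h : SimplyHyp hF C) {r s : ℕ} (hr : r < D.nroots) (hs : s < D.nroots) (h1 : s ≠ r)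
    (h2 : s ≠ D.neg r) (t u : F) : hF.yS ha s u * hF.yS ha r t =
      hF.yS ha r t * hF.yS ha s u * ((D.commWord F r s t u).map fun p => hF.yS ha p.1 p.2).prod := by
  have hsh := h.shape r s hr hs h1 h2
  rcases he : D.commTerms r s with - | ⟨⟨k, c, i, j⟩, - | ⟨c', L⟩⟩
  · simp only [ChevalleyDatum.commWord, he, List.map_nil, List.prod_nil, mul_one]
    exact (hF.zp_lift (h.zero r s hr hs h2 (Or.inr he)) (hF.π_yS ha h r t) (hF.π_yS ha h s u)).eq.symm
  · simp only [okSimplyPair, he, Bool.and_eq_true, beq_iff_eq] at hsh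
    obtain ⟨rfl, rfl⟩ : i = 1 ∧ j = 1 := ⟨hsh.1.1.1.1.1.1.1.2, hsh.1.1.1.1.1.1.2⟩
    have hd : Dec D r s k c := ⟨hr, hs, h1, h2, he⟩
    obtain ⟨hk, -, zr, zs⟩ := hF.dec_props h hd
    simp only [ChevalleyDatum.commWord, he, List.map_cons, List.map_nil, List.prod_cons, List.prod_nil,
      mul_one, pow_one, mul_neg, neg_mul]
    have hinv : ∀ z, hF.yS ha k (-z) = (hF.yS ha k z)⁻¹ := fun z => by
      rw [eq_inv_iff_mul_eq_one, ← hF.yS_add ha h, neg_add_cancel]
      have := hF.yS_add ha h k (0 : F) 0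
      rwa [add_zero, left_eq_mul] at this
    set K := hF.yS ha k ((c : F) * t * u) with hKdef
    have hK : ⁅hF.yS ha r t, hF.yS ha s u⁆ = K := by
      have hd₀ := (ha k hk).1.choose_spec.choose_spec.choose_spec
      obtain ⟨c₁, c₂, d₁, d₂, hag⟩ := (ha k hk).2 _ _ _ _ _ _ hd hd₀
      have q1 := d₁.2.2.2.2.symm.trans hd.2.2.2.2
      have q2 := d₂.2.2.2.2.symm.trans hd₀.2.2.2.2
      simp only [List.cons.injEq, Prod.mk.injEq, and_true, true_and] at q1 q2
      rw [hKdef, C.comm_indep (a' := C.L (hF.xq r t)) (b' := C.L (hF.xq s u))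
        (by rw [hF.π_yS ha h, C.π_L]) (by rw [hF.π_yS ha h, C.π_L]), yS, dif_pos hk]
      refine hag t u _ _ ?_
      rw [q1, q2, mul_one, ← mul_assoc _ _ ((c : F) * t * u), (hF.dec_props h hd₀).2.1, one_mul]
    rw [hinv]
    have cr : Commute (hF.yS ha r t) K := hF.zp_lift zr (hF.π_yS ha h r t) (hF.π_yS ha h k _)
    have cs : Commute (hF.yS ha s u) K := hF.zp_lift zs (hF.π_yS ha h s u) (hF.π_yS ha h k _)
    have e : hF.yS ha r t * hF.yS ha s u = K * (hF.yS ha s u * hF.yS ha r t) := by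
      rw [← hK, commutatorElement_def]; group
    rw [e, ← (cs.mul_left cr).eq, mul_inv_cancel_right]
  · simp [okSimplyPair, he] at hsh

end Facts

end Cfsg.Agent.Lie
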