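import Cfsg.Agent.Lib.Lie.LiftTorus
import Cfsg.Agent.Lib.Lie.LiftSimply

/-!
Checks on representative pairs of roots, extended to all pairs by the fundamental reflections.
-/

set_option autoImplicit false
set_option linter.unusedSectionVars false

namespace Cfsg.Agent.Lie

open Cfsg.Lie
open Cfsg.Agent.Small.SchurLifts

variable {D : ChevalleyDatum}

/-- A dominant root. -/
def DomRoot (D : ChevalleyDatum) (r : ℕ) : Prop := ∀ i, i < D.rank → D.reflectRoot i r ≤ r

/-- A maximal root under the stabiliser of r. -/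
def StabMax (D : ChevalleyDatum) (r s : ℕ) : Prop :=
  ∀ i, i < D.rank → D.reflectRoot i r = r → D.reflectRoot i s ≤ s

/-- A torus certificate for a pair. -/
def okTorPair (D : ChevalleyDatum) (J : List ℕ) (r s : ℕ) (e : List ℤ) : Bool :=
  decide (psiOf D (fun i => e.getD i 0) r = 0) &&
    decide ((psiOf D (fun i => e.getD i 0) s).natAbs ∈ J)

/-- A vanishing certificate: a torus, or a commutator whose remaining terms have torus certificates. -/
def okZero (D : ChevalleyDatum) (J : List ℕ) (r s : ℕ)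
    (cert : List ℤ × (ℕ × ℕ) × List (ℕ × List ℤ)) : Bool :=
  okTorPair D J r s cert.1 ||
    (Facts.okTermCert D r s cert.2.1.1 cert.2.1.2 &&
      (D.commTerms cert.2.1.1 cert.2.1.2).all fun c => c.1 == s ||
        cert.2.2.any fun q => q.1 == c.1 && okTorPair D J r q.1 q.2 && q.1 != D.neg r &&
          (D.commTerms r q.1).isEmpty)

namespace Facts

variable {F : Type*} [Field F] (hF : Facts D) {Γ : Type*} [Group Γ] {C : Central Γ ↥(D.group F)}

theorem zp_of_torPair {J : List ℕ} (hJ : ∀ j ∈ J, ∃ k : Fˣ, k ^ j ≠ 1) {r s : ℕ} (hr : r < D.nroots)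
    (hs : s < D.nroots) (h2 : s ≠ D.neg r) (h0 : s = r ∨ D.commTerms r s = []) {e : List ℤ}
    (he : okTorPair D J r s e = true) : hF.Zp C r s := by
  simp only [okTorPair, Bool.and_eq_true, decide_eq_true_eq] at he
  obtain ⟨e0, ej⟩ := he
  obtain ⟨k, hk⟩ := hJ _ ej
  refine hF.zp_torus hr hs h2 h0 (powC (fun i => e.getD i 0) k) ?_ ?_
  · rw [hF.torChar_powC, e0, _root_.zpow_zero]
  · rw [hF.torChar_powC]
    intro h'
    apply hk
    rcases Int.natAbs_eq (psiOf D (fun i => e.getD i 0) s) with h | h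
    · rw [h, zpow_natCast] at h'; exact h'
    · rw [h, _root_.zpow_neg, inv_eq_one, zpow_natCast] at h'; exact h'

theorem zp_of_okZero {J : List ℕ} (hJ : ∀ j ∈ J, ∃ k : Fˣ, k ^ j ≠ 1) {r s : ℕ} (hr : r < D.nroots)
    (hs : s < D.nroots) (h2 : s ≠ D.neg r) (h0 : s = r ∨ D.commTerms r s = [])
    {cert : List ℤ × (ℕ × ℕ) × List (ℕ × List ℤ)} (h : okZero D J r s cert = true) : hF.Zp C r s := by
  simp only [okZero, Bool.or_eq_true, Bool.and_eq_true, List.all_eq_true, beq_iff_eq, List.any_eq_true,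
    bne_iff_ne, List.isEmpty_iff] at h
  rcases h with he | ⟨hterm, hothers⟩
  · exact hF.zp_of_torPair hJ hr hs h2 h0 he
  · refine hF.zp_term hr hterm fun c hc hne => ?_
    obtain ⟨q, -, ⟨⟨hqc, hq⟩, hqn⟩, hq0⟩ := (hothers c hc).resolve_left hne
    rw [← hqc]
    have hlt : q.1 < D.nroots := by
      rw [hqc]
      simp only [okTermCert, Bool.and_eq_true, decide_eq_true_eq] at hterm
      exact hF.commTerms_lt hterm.1.1.1.1.1.1.1.1.1 hterm.1.1.1.1.1.1.1.1.2 c hc
    exact hF.zp_of_torPair hJ hr hlt hqn (Or.inr hq0) hq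

/-- Vanishing for all commuting pairs from the representatives. -/
theorem zp_all
    (hbase : ∀ r, r < D.nroots → DomRoot D r → ∀ s, s < D.nroots → s ≠ D.neg r →
      ((s = r) ∨ (D.commTerms r s = [] ∧ StabMax D r s)) → hF.Zp C r s) :
    ∀ r s, r < D.nroots → s < D.nroots → s ≠ D.neg r →
      (s = r ∨ D.commTerms r s = []) → hF.Zp C r s := by
  suffices H : ∀ r, r < D.nroots → hF.Zp C r r ∧ ∀ s, s < D.nroots → s ≠ r → s ≠ D.neg r →
      D.commTerms r s = [] → hF.Zp C r s by
    intro r s hr hs h2 h0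
    by_cases h1 : s = r
    · exact h1 ▸ (H r hr).1
    · exact (H r hr).2 s hs h1 h2 (h0.resolve_left h1)
  refine hF.refl_induction _ (fun r hr hdom => ⟨?_, ?_⟩) (fun i hi r hr ih => ⟨?_, ?_⟩)
  · exact hbase r hr hdom r hr (Ne.symm (hF.neg_ne_self hr)) (Or.inl rfl)
  · refine hF.stab_induction r hr _ (fun s hs h1 h2 hstab h0 => hbase r hr hdom s hs h2 (Or.inr ⟨h0, hstab⟩))
      (fun i hi hfix s hs _ _ ih h0 => ?_)
    have e : D.commTerms r s = [] := by
      have := hF.commTerms_refl hi hr hs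
      rw [hfix, h0] at this
      exact List.map_eq_nil_iff.1 this.symm
    have := hF.zp_refl hi hr hs (ih e)
    rwa [hfix] at this
  · exact hF.zp_refl hi hr hr ih.1
  · intro s hs h1 h2 h0
    have hr0 := hF.refl_lt i hi r hr
    have hs0 := hF.refl_lt i hi s hs
    obtain ⟨h3, h4⟩ := hF.refl_ne hi hr0 hs h1 h2
    rw [hF.refl_refl i hi r hr] at h3 h4
    have e : D.commTerms r (D.reflectRoot i s) = [] := by
      have := hF.commTerms_refl hi hr0 hs
      rw [hF.refl_refl i hi r hr, h0, List.map_nil] at this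
      exact this
    have := hF.zp_refl hi hr hs0 (ih.2 _ hs0 h3 h4 e)
    rwa [hF.refl_refl i hi s hs] at this

include hF in
/-- Regular torus elements for all roots, from the dominant ones. -/
theorem reg_all {J : List ℕ} (hJ : ∀ j ∈ J, ∃ k : Fˣ, k ^ j ≠ 1)
    (hbase : ∀ r, r < D.nroots → DomRoot D r → ∃ e : ℕ → ℤ, (psiOf D e r).natAbs ∈ J) :
    ∀ r, r < D.nroots → ∃ c : Fin D.rank → Fˣ, torChar D c r ≠ 1 := by
  refine hF.refl_induction _ (fun r hr hdom => ?_) (fun i hi r hr ih => ?_)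
  · obtain ⟨e, he⟩ := hbase r hr hdom
    obtain ⟨k, hk⟩ := hJ _ he
    refine ⟨powC e k, ?_⟩
    rw [hF.torChar_powC]
    intro h'
    apply hk
    rcases Int.natAbs_eq (psiOf D e r) with h | h
    · rw [h, zpow_natCast] at h'; exact h'
    · rw [h, _root_.zpow_neg, inv_eq_one, zpow_natCast] at h'; exact h'
  · obtain ⟨c, hc⟩ := ih
    obtain ⟨c', -, h'⟩ := hF.exists_conj_tq hi c
    exact ⟨c', by rwa [h' r hr]⟩

include hF in
/-- The shape of single-term pairs is invariant under the fundamental reflections. -/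
theorem okSimplyPair_refl {i r s : ℕ} (hi : i < D.rank) (hr : r < D.nroots) (hs : s < D.nroots)
    (h : okSimplyPair D r s = true) :
    okSimplyPair D (D.reflectRoot i r) (D.reflectRoot i s) = true := by
  rcases he : D.commTerms r s with - | ⟨⟨k, c, a, b⟩, - | ⟨c', L⟩⟩
  · simp [okSimplyPair, hF.commTerms_refl hi hr hs, he]
  · have hk : k < D.nroots := hF.commTerms_lt hr hs _ (by rw [he]; exact List.mem_singleton.2 rfl)
    simp only [okSimplyPair, he, Bool.and_eq_true, beq_iff_eq, bne_iff_ne, List.isEmpty_iff] at h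
    obtain ⟨⟨⟨⟨⟨⟨⟨⟨hc, ha⟩, hb⟩, n1⟩, n2⟩, n3⟩, n4⟩, e1⟩, e2⟩ := h
    simp only [okSimplyPair, hF.commTerms_refl hi hr hs, he, List.map_cons, List.map_nil, Bool.and_eq_true,
      beq_iff_eq, bne_iff_ne, List.isEmpty_iff, hF.commTerms_refl hi hr hk, hF.commTerms_refl hi hs hk, e1, e2]
    refine ⟨⟨⟨⟨⟨⟨⟨⟨?_, ha⟩, hb⟩, ?_⟩, ?_⟩, ?_⟩, ?_⟩, trivial⟩, trivial⟩
    · have he' : ∀ j, j < D.nroots → (hF.eta i j).natAbs = 1 := fun j hj => by
        rcases hF.eta_sign i hi j hj with h | h <;> rw [h] <;> rfl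
      simp [Int.natAbs_mul, Int.natAbs_pow, hc, he' k hk, he' r hr, he' s hs]
    · exact (hF.refl_ne hi hr hk n3 n1).2
    · exact (hF.refl_ne hi hs hk n4 n2).2
    · exact (hF.refl_ne hi hr hk n3 n1).1
    · exact (hF.refl_ne hi hs hk n4 n2).1
  · simp [okSimplyPair, he] at h

include hF in
/-- The shape for all pairs from the representatives. -/
theorem shape_all
    (hbase : ∀ r, r < D.nroots → DomRoot D r → ∀ s, s < D.nroots → s ≠ r → s ≠ D.neg r →
      StabMax D r s → okSimplyPair D r s = true) :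
    ∀ r s, r < D.nroots → s < D.nroots → s ≠ r → s ≠ D.neg r → okSimplyPair D r s = true := by
  suffices H : ∀ r, r < D.nroots → ∀ s, s < D.nroots → s ≠ r → s ≠ D.neg r →
      okSimplyPair D r s = true from fun r s hr hs h1 h2 => H r hr s hs h1 h2
  refine hF.refl_induction _ (fun r hr hdom => ?_) (fun i hi r hr ih s hs h1 h2 => ?_)
  · refine hF.stab_induction r hr _ (fun s hs h1 h2 hstab => hbase r hr hdom s hs h1 h2 hstab)
      (fun i hi hfix s hs _ _ ih => ?_)
    have := hF.okSimplyPair_refl hi hr hs ih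
    rwa [hfix] at this
  · have hr0 := hF.refl_lt i hi r hr
    have hs0 := hF.refl_lt i hi s hs
    obtain ⟨h3, h4⟩ := hF.refl_ne hi hr0 hs h1 h2
    rw [hF.refl_refl i hi r hr] at h3 h4
    have := hF.okSimplyPair_refl hi hr hs0 (ih _ hs0 h3 h4)
    rwa [hF.refl_refl i hi s hs] at this

end Facts

end Cfsg.Agent.Lie
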