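import Cfsg.Agent.Lib.Lie.LiftMultiplier
import Cfsg.Agent.Lib.Solv.Universal
import Cfsg.Prelude.Def_SteinbergCover

/-!
The group presented by additivity and the commutator formula as a central extension of the Chevalley group,
and its universal property.
-/

set_option autoImplicit false
set_option linter.unusedSectionVars false

namespace Cfsg.Agent.Lie

open Cfsg.Lie
open scoped commutatorElement MatrixGroups
open Cfsg.Agent.Small.SchurLifts

variable {D : ChevalleyDatum} {F : Type*} [Field F]

namespace Facts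

theorem mk_scWord (w : List (ℕ × F)) : PresentedGroup.mk (D.steinbergRelsAB F) (D.stWord w) =
    (w.map fun p => D.scGen F p.1 p.2).prod := by
  rw [ChevalleyDatum.stWord, map_list_prod, List.map_map]
  rfl

theorem scGen_out {r : ℕ} (hr : D.nroots ≤ r) (t : F) : D.scGen F r t = 1 := by
  rw [ChevalleyDatum.scGen, ChevalleyDatum.stX, dif_neg (not_lt.2 hr), map_one]

theorem sc_rel {g : FreeGroup (Fin D.nroots × F)} (h : g ∈ D.steinbergRelsAB F) :
    PresentedGroup.mk (D.steinbergRelsAB F) g = 1 :=
  PresentedGroup.one_of_mem h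

variable (hF : Facts D)

/-- The cover with its generators. -/
noncomputable def scC (F : Type*) [Field F] : CommSys hF F (D.SteinbergCover F) where
  x := D.scGen F
  x_out _ t h := scGen_out h t
  x_add r t u := by
    by_cases hr : r < D.nroots
    · have h := sc_rel (F := F) (D := D) (Or.inl ⟨r, t, u, hr, rfl⟩)
      rw [map_mul, map_mul, map_inv, mul_inv_eq_one] at h
      exact h.symm
    · simp [scGen_out (not_lt.1 hr)]
  x_comm r s hr hs h1 h2 t u := by
    have h := sc_rel (F := F) (D := D) (Or.inr ⟨r, s, t, u, hr, hs, h1, h2, rfl⟩)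
    rw [map_mul, map_inv _ (D.stWord _), mk_scWord, mul_inv_eq_one] at h
    rw [← h, map_mul, map_mul, map_mul, map_inv, map_inv]
    simp only [ChevalleyDatum.scGen]
    group

theorem scC_x (r : ℕ) (t : F) : (hF.scC F).x r t = D.scGen F r t := rfl

include hF in
theorem mapsTo_relsAB : ∀ g ∈ D.steinbergRelsAB F,
    FreeGroup.lift (fun p : Fin D.nroots × F => hF.xg p.1.val p.2) g = 1 :=
  fun g hg => hF.mapsTo_rels g (Or.inl hg)

/-- The projection of the cover to GL. -/
noncomputable def scProj (F : Type*) [Field F] : D.SteinbergCover F →* GL D.Idx F :=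
  PresentedGroup.toGroup hF.mapsTo_relsAB

theorem scProj_x (r : ℕ) (t : F) : hF.scProj F (D.scGen F r t) = hF.xg r t := by
  by_cases hr : r < D.nroots
  · rw [ChevalleyDatum.scGen, ChevalleyDatum.stX, dif_pos hr]
    exact PresentedGroup.toGroup.of hF.mapsTo_relsAB
  · rw [scGen_out (not_lt.1 hr), map_one, hF.xg_out (not_lt.1 hr)]

theorem sc_induction {P : Subgroup (D.SteinbergCover F)} (h : ∀ r t, D.scGen F r t ∈ P) : P = ⊤ := by
  rw [eq_top_iff, ← PresentedGroup.closure_range_of (D.steinbergRelsAB F)]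
  refine (Subgroup.closure_le _).2 ?_
  rintro _ ⟨⟨r, t⟩, rfl⟩
  have := h r.val t
  rw [ChevalleyDatum.scGen, ChevalleyDatum.stX, dif_pos r.isLt] at this
  exact this

/-- The torus relations in the cover. -/
noncomputable def scT (hH : StHyp D) (F : Type*) [Field F] : TorusSys hF F (D.SteinbergCover F) :=
  hF.covT (hF.scC F) (hF.scProj F) hF.scProj_x hH

theorem scT_x (hH : StHyp D) (r : ℕ) (t : F) : (hF.scT hH F).x r t = D.scGen F r t := rfl

theorem scProj_ker_le_H (hH : StHyp D) : (hF.scProj F).ker ≤ (hF.scT hH F).H := by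
  set S := hF.scT hH F with hS
  have hG : S.G = ⊤ := sc_induction (fun r t => Subgroup.subset_closure ⟨r, t, rfl⟩)
  have pn : ∀ r t, hF.scProj F (S.n r t) = hF.ng r t := fun r t =>
    hF.cov_nElt (hF.scC F) (hF.scProj F) hF.scProj_x r t
  have pH : ∀ {a}, a ∈ S.H → hF.scProj F a ∈ (hF.tsys F).H := by
    intro a ha
    induction ha using Subgroup.closure_induction with
    | mem g hg =>
      obtain ⟨r, t, hr, ht, rfl⟩ := hg
      rw [TorusSys.h, map_mul, pn, pn, ← hF.hg_eq, ← hF.tsys_h]
      exact (hF.tsys F).h_mem hr ht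
    | one => rw [map_one]; exact one_mem _
    | mul x y _ _ hx hy => rw [map_mul]; exact mul_mem hx hy
    | inv x _ hx => rw [map_inv]; exact inv_mem hx
  have pU : ∀ {u}, u ∈ S.U → hF.scProj F u ∈ (hF.tsys F).U := by
    intro u hu
    induction hu using Subgroup.closure_induction with
    | mem g hg =>
      obtain ⟨r, hr, t, rfl⟩ := hg
      rw [scT_x, scProj_x, ← hF.tsys_x]
      exact CommSys.x_mem_US _ hr t
    | one => rw [map_one]; exact one_mem _
    | mul x y _ _ hx hy => rw [map_mul]; exact mul_mem hx hy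
    | inv x _ hx => rw [map_inv]; exact inv_mem hx
  have pB : ∀ {b}, b ∈ S.B → hF.scProj F b ∈ (hF.tsys F).B := by
    intro b hb
    obtain ⟨u, hu, a, ha, rfl⟩ := S.mem_B.1 hb
    rw [map_mul]
    exact mul_mem ((hF.tsys F).U_le_B (pU hu)) ((hF.tsys F).H_le_B (pH ha))
  have pw : ∀ ω : List (Fin D.rank), hF.scProj F (S.nw ω) = (hF.tsys F).nw ω := by
    intro ω
    induction ω with
    | nil => simp [TorusSys.nw]
    | cons i ω ih =>
      rw [TorusSys.nw_cons, TorusSys.nw_cons, map_mul, ih, TorusSys.nS, pn, hF.tsys_nS]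
  intro g hg
  rw [MonoidHom.mem_ker] at hg
  obtain ⟨b, hb, w, b', hb', rfl⟩ := S.mem_BNB (g := g) (by rw [hG]; exact Subgroup.mem_top g)
  have hw : w = 1 := by
    refine hF.hsep (F := F) w ?_
    rw [map_mul, map_mul, show hF.scProj F (S.nW w) = (hF.tsys F).nW w from pw _] at hg
    rw [show (hF.tsys F).nW w = (hF.scProj F b)⁻¹ * (hF.scProj F b * (hF.tsys F).nW w * hF.scProj F b') *
      (hF.scProj F b')⁻¹ by group, hg, mul_one]
    exact mul_mem (inv_mem (pB hb)) (inv_mem (pB hb'))
  subst hw
  obtain ⟨u, hu, a, ha, he⟩ := S.mem_B.1 (mul_mem (mul_mem hb (S.H_le_B S.nW_one)) hb')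
  rw [he] at hg ⊢
  rw [map_mul] at hg
  have h1 : hF.scProj F u = 1 := by
    refine hF.U_inter_H (pU hu) ?_
    rw [eq_inv_of_mul_eq_one_left hg]
    exact inv_mem (pH ha)
  have h2 : u = 1 := hF.cov_inj_pos (hF.scC F) (hF.scProj F) hF.scProj_x hF.closedList_posL hu (one_mem _)
    (by rw [h1, map_one])
  rw [h2, one_mul]
  exact ha

theorem scProj_ker_central (hH : StHyp D) :
    (hF.scProj F).ker ≤ Subgroup.center (D.SteinbergCover F) := by
  intro g hg
  rw [Subgroup.mem_center_iff]
  have htop : Subgroup.centralizer ({g} : Set (D.SteinbergCover F)) = ⊤ := by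
    refine sc_induction fun r t => ?_
    rw [Subgroup.mem_centralizer_singleton_iff]
    by_cases hr : r < D.nroots
    · obtain ⟨u, hu⟩ := ((hF.scT hH F).H_conj_X (hF.scProj_ker_le_H hH hg) hr t).1
      have h1 := congrArg (hF.scProj F) hu
      rw [map_mul, map_mul, map_inv, MonoidHom.mem_ker.1 hg, one_mul, inv_one, mul_one] at h1
      change hF.scProj F (D.scGen F r t) = hF.scProj F (D.scGen F r u) at h1
      rw [scProj_x, scProj_x] at h1
      have h2 : t = u := hF.xq_inj hr (Subtype.ext h1)
      subst h2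
      rw [mul_inv_eq_iff_eq_mul] at hu
      exact hu.symm
    · rw [scGen_out (not_lt.1 hr), one_mul, mul_one]
  intro y
  exact Subgroup.mem_centralizer_singleton_iff.1 (htop ▸ Subgroup.mem_top y)

/-- The projection of the cover onto the Chevalley group. -/
noncomputable def scProjQ (F : Type*) [Field F] : D.SteinbergCover F →* ↥(D.group F) :=
  (hF.scProj F).codRestrict (D.group F) fun g => by
    have h : (D.group F).comap (hF.scProj F) = ⊤ := sc_induction fun r t => by
      rw [Subgroup.mem_comap, scProj_x]; exact hF.xg_mem_group r t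
    exact Subgroup.mem_comap.1 (h ▸ Subgroup.mem_top g)

theorem scProjQ_x (r : ℕ) (t : F) : hF.scProjQ F (D.scGen F r t) = hF.xq r t :=
  Subtype.ext (hF.scProj_x r t)

theorem scProjQ_surjective : Function.Surjective (hF.scProjQ F) := by
  intro q
  have hle : D.group F ≤ (hF.scProj F).range := by
    rw [hF.group_eq]
    refine (Subgroup.closure_le _).2 ?_
    rintro _ ⟨⟨r, t⟩, rfl⟩
    exact ⟨_, hF.scProj_x r t⟩
  obtain ⟨g, hg⟩ := hle q.2
  exact ⟨g, Subtype.ext hg⟩

theorem scProjQ_central (hH : StHyp D) :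
    (hF.scProjQ F).ker ≤ Subgroup.center (D.SteinbergCover F) := fun g hg =>
  hF.scProj_ker_central hH (by
    rw [MonoidHom.mem_ker] at hg ⊢
    exact congrArg Subtype.val hg)

include hF in
/-- The cover is perfect when some square differs from one. -/
theorem sc_perfect (hH : StHyp D) {a : F} (ha : a ≠ 0) (ha2 : a ^ 2 ≠ 1) :
    Group.IsPerfect (D.SteinbergCover F) := by
  set S := hF.scT hH F with hS
  have hmem : ∀ r, r < D.nroots → ∀ t, D.scGen F r t ∈ commutator (D.SteinbergCover F) := by
    refine hF.simple_induction _ (fun i hi t => ?_) (fun i hi r hr ih t => ?_)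
    · have hα := hF.simple_lt i hi
      have hd : a ^ 2 - 1 ≠ 0 := sub_ne_zero.2 ha2
      have e : S.x (D.simple i) t = ⁅S.h (D.simple i) a, S.x (D.simple i) (t / (a ^ 2 - 1))⁆ := by
        rw [commutatorElement_def, show S.h (D.simple i) a * S.x (D.simple i) (t / (a ^ 2 - 1)) *
          (S.h (D.simple i) a)⁻¹ = _ from S.h_conj i hi a ha _ hα _, hF.cartan_simple i hi, ← S.x_neg,
          ← S.x_add, _root_.zpow_two]
        congr 1
        field_simp
        ring
      rw [← scT_x hF hH, ← hS, e, commutator_def]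
      exact Subgroup.commutator_mem_commutator (Subgroup.mem_top _) (Subgroup.mem_top _)
    · have hsg := hF.sgn_mul_self (F := F) hi hr
      have e := S.nS_conj ⟨i, hi⟩ hr (hF.sgn F i r * t)
      rw [← mul_assoc, hsg, one_mul] at e
      rw [← scT_x hF hH, ← hS, ← e]
      exact (inferInstance : (commutator (D.SteinbergCover F)).Normal).conj_mem _ (ih _) _
  exact ⟨sc_induction fun r t => (Classical.em (r < D.nroots)).elim (fun hr => hmem r hr t)
    (fun hr => by rw [scGen_out (not_lt.1 hr)]; exact one_mem _)⟩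

/-- The universal property of the cover. -/
theorem sc_universal (hH : StHyp D) {a : F} (ha : a ≠ 0) (ha2 : a ^ 2 ≠ 1)
    {G₁ E : Type*} [Group G₁] [Group E] (π₁ : E →* G₁) (hπ : Function.Surjective π₁)
    (hc : π₁.ker ≤ Subgroup.center E) (σ : D.SteinbergCover F →* G₁)
    (hlift : ∀ C : Central ↥(MonoidHom.eqLocus (π₁.comp (MonoidHom.fst E (D.SteinbergCover F)))
      (σ.comp (MonoidHom.snd E (D.SteinbergCover F)))) ↥(D.group F), HasLift hF C) :
    ∃! τ : D.SteinbergCover F →* E, π₁.comp τ = σ := by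
  have hperf := hF.sc_perfect hH ha ha2
  set P := MonoidHom.eqLocus (π₁.comp (MonoidHom.fst E (D.SteinbergCover F)))
    (σ.comp (MonoidHom.snd E (D.SteinbergCover F))) with hP
  let q : P →* D.SteinbergCover F := (MonoidHom.snd E (D.SteinbergCover F)).comp P.subtype
  let e : P →* E := (MonoidHom.fst E (D.SteinbergCover F)).comp P.subtype
  have hpe : ∀ x : P, π₁ (e x) = σ (q x) := fun x => x.2
  have hqs : Function.Surjective q := fun g => by
    obtain ⟨v, hv⟩ := hπ (σ g)
    exact ⟨⟨(v, g), hv⟩, rfl⟩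
  have hsplit : ∀ x : P, ∃ w ∈ commutator P, q x = q w ∧ e w⁻¹ * e x ∈ Subgroup.center E := by
    intro x
    have hm : q x ∈ (commutator P).map q := by
      rw [commutator_def, Subgroup.map_commutator, Subgroup.map_top_of_surjective q hqs, ← commutator_def]
      exact hperf.mem_commutator
    obtain ⟨w, hw, hwx⟩ := hm
    refine ⟨w, hw, hwx.symm, hc ?_⟩
    rw [MonoidHom.mem_ker, map_mul, hpe, hpe, map_inv, hwx, map_inv, inv_mul_cancel]
  have hzc : ∀ x : P, q x ∈ Subgroup.center (D.SteinbergCover F) → ∀ y : P, Commute (e x) (e y) := by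
    intro x hx y
    have hcen : ∀ y : P, ⁅e x, e y⁆ ∈ Subgroup.center E := fun y => hc (by
      rw [MonoidHom.mem_ker, map_commutatorElement, hpe, hpe, ← map_commutatorElement,
        commutatorElement_eq_one_iff_mul_comm.2 (Subgroup.mem_center_iff.1 hx (q y)).symm, map_one])
    let f : P →* Subgroup.center E := MonoidHom.mk' (fun y => ⟨⁅e x, e y⁆, hcen y⟩) fun u v =>
      Subtype.ext (by
        show ⁅e x, e (u * v)⁆ = ⁅e x, e u⁆ * ⁅e x, e v⁆
        rw [map_mul]
        have := Subgroup.mem_center_iff.1 (hcen v) (e u)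
        calc ⁅e x, e u * e v⁆ = ⁅e x, e u⁆ * (e u * ⁅e x, e v⁆ * (e u)⁻¹) := by
              simp only [commutatorElement_def]; group
          _ = _ := by rw [this, mul_inv_cancel_right])
    have hker : commutator P ≤ f.ker := by
      rw [commutator_def, Subgroup.commutator_le]
      intro u _ v _
      rw [MonoidHom.mem_ker, map_commutatorElement, commutatorElement_eq_one_iff_mul_comm]
      exact Subtype.ext (Subgroup.mem_center_iff.1 (f v).2 _)
    obtain ⟨w, hw, -, hz⟩ := hsplit y
    have hxw : Commute (e x) (e w) :=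
      commutatorElement_eq_one_iff_mul_comm.1 (congrArg Subtype.val (hker hw))
    have hy : e y = e w * (e w⁻¹ * e y) := by rw [← mul_assoc, ← map_mul, mul_inv_cancel, map_one, one_mul]
    rw [hy]
    exact hxw.mul_right (Subgroup.mem_center_iff.1 hz (e x))
  let C : Central P ↥(D.group F) := ⟨(hF.scProjQ F).comp q, hF.scProjQ_surjective.comp hqs, fun x hx => by
    have hxc : q x ∈ Subgroup.center (D.SteinbergCover F) := hF.scProjQ_central hH hx
    rw [Subgroup.mem_center_iff]
    intro y
    exact Subtype.ext (Prod.ext (hzc x hxc y).eq.symm (Subgroup.mem_center_iff.1 hxc (q y)))⟩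
  obtain ⟨S, hS⟩ := hlift C
  have hrels : ∀ g ∈ D.steinbergRelsAB F,
      FreeGroup.lift (fun p : Fin D.nroots × F => S.x p.1.val p.2) g = 1 := by
    have hX : ∀ r t, FreeGroup.lift (fun p : Fin D.nroots × F => S.x p.1.val p.2) (D.stX r t) = S.x r t := by
      intro r t
      unfold ChevalleyDatum.stX
      split_ifs with h
      · simp
      · simp [S.x_out r t (not_lt.1 h)]
    have hW : ∀ w : List (ℕ × F), FreeGroup.lift (fun p : Fin D.nroots × F => S.x p.1.val p.2) (D.stWord w) =
        (w.map fun p => S.x p.1 p.2).prod := by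
      intro w
      rw [ChevalleyDatum.stWord, map_list_prod, List.map_map]
      congr 1
      exact List.map_congr_left fun p _ => hX _ _
    rintro g (⟨r, t, u, hr, rfl⟩ | ⟨r, s, t, u, hr, hs, h1, h2, rfl⟩)
    · rw [map_mul, map_mul, map_inv, hX, hX, hX, S.x_add, mul_inv_cancel]
    · simp only [map_mul, map_inv, hX, hW]
      rw [mul_inv_eq_one, mul_assoc (_ * _), S.x_comm r s hr hs h1 h2 t u]
      group
  let τ : D.SteinbergCover F →* P := PresentedGroup.toGroup hrels
  have hτ : (hF.scProjQ F).comp (q.comp τ) = hF.scProjQ F := by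
    refine PresentedGroup.ext fun p => ?_
    have e1 : D.scGen F p.1.val p.2 = PresentedGroup.of p := by
      rw [ChevalleyDatum.scGen, ChevalleyDatum.stX, dif_pos p.1.isLt]
      rfl
    rw [MonoidHom.comp_apply, MonoidHom.comp_apply]
    show C.π (τ (PresentedGroup.of p)) = _
    rw [show τ (PresentedGroup.of p) = S.x p.1.val p.2 from PresentedGroup.toGroup.of hrels, hS, ← e1,
      hF.scProjQ_x]
  have hid : q.comp τ = MonoidHom.id _ :=
    Cfsg.Agent.Solv.hom_unique_of_perfect hperf (hF.scProjQ F) (hF.scProjQ_central hH)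
      (by rw [hτ]; rfl)
  refine ⟨e.comp τ, MonoidHom.ext fun g => ?_, fun τ' hτ' =>
    Cfsg.Agent.Solv.hom_unique_of_perfect hperf π₁ hc (hτ'.trans (MonoidHom.ext fun g => ?_))⟩
  all_goals
    simp only [MonoidHom.comp_apply, hpe]
    rw [show q (τ g) = g from DFunLike.congr_fun hid g]

end Facts

end Cfsg.Agent.Lie
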