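import Cfsg.Agent.Lib.Lie.LiftSmall

/-! Lifts of root elements for D4 over the field with three elements and B2 over the field with four. -/

set_option autoImplicit false
set_option linter.unusedSectionVars false
set_option maxRecDepth 100000

namespace Cfsg.Agent.Lie

open Cfsg.Lie
open scoped commutatorElement
open Cfsg.Agent.Small.SchurLifts

/-- The base pairs of commuting roots lie in a list. -/
def okBaseList (D : ChevalleyDatum) (L : List (ℕ × ℕ)) : Bool :=
  (List.range D.nroots).all fun r => !(List.range D.rank).all (fun i => decide (D.reflectRoot i r ≤ r)) ||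
    (List.range D.nroots).all fun s => s == r || s == D.neg r || !(D.commTerms r s).isEmpty ||
      !((List.range D.rank).all fun i => D.reflectRoot i r != r || decide (D.reflectRoot i s ≤ s)) ||
      L.contains (r, s)

variable {D : ChevalleyDatum} {F : Type*} [Field F] {Γ : Type*} [Group Γ]

theorem mem_baseList {L : List (ℕ × ℕ)} (hL : okBaseList D L = true) {r s : ℕ} (hr : r < D.nroots)
    (hdom : DomRoot D r) (hs : s < D.nroots) (h1 : s ≠ r) (h2 : s ≠ D.neg r)
    (h0 : D.commTerms r s = []) (hstab : StabMax D r s) : (r, s) ∈ L := by
  have h := all_dom hr hdom hL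
  simp only [List.all_eq_true, List.mem_range, Bool.or_eq_true, beq_iff_eq, Bool.not_eq_true',
    List.contains_iff_mem] at h
  rcases h s hs with (((h' | h') | h') | h') | h'
  · exact absurd h' h1
  · exact absurd h' h2
  · rw [h0] at h'; exact absurd h' (by decide)
  · exact absurd ((all_stab hstab).symm.trans h') (by decide)
  · exact h'

theorem okBaseD4 : okBaseList chevD4 [(23, 12), (23, 13), (23, 18), (23, 22)] = true := by decide +kernel

theorem okBaseB2 : okBaseList chevB2 [(6, 7), (7, 4), (7, 6)] = true := by decide +kernel

theorem hasLift_D4_three (hF : Facts chevD4) (h3 : (3 : F) = 0) (hn : ∀ t : F, ∃ n : ℕ, (n : F) = t)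
    (C : Central Γ ↥(chevD4.group F)) : HasLift hF C := by
  have hJ : ∀ j ∈ [1], ∃ k : Fˣ, k ^ j ≠ 1 := by
    intro j hj
    rw [List.mem_singleton] at hj
    subst hj
    refine ⟨-1, fun h => ?_⟩
    rw [pow_one, Units.ext_iff, Units.val_neg, Units.val_one] at h
    have : (1 : F) = 0 := by linear_combination h3 + h
    exact one_ne_zero this
  have tor : ∀ (r s : ℕ) (e : List ℤ), r < chevD4.nroots → s < chevD4.nroots → s ≠ chevD4.neg r →
      chevD4.commTerms r s = [] → okTorPair chevD4 [1] r s e = true → hF.Zp C r s :=
    fun r s e hr hs h2 h0 he => hF.zp_of_torPair hJ hr hs h2 (Or.inr h0) he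
  have comm : ∀ r s : ℕ, r < chevD4.nroots → s < chevD4.nroots → s ≠ chevD4.neg r →
      chevD4.commTerms r s = [] → ∀ t u : F, Commute (hF.xq r t) (hF.xq s u) :=
    fun r s hr hs h2 h0 => hF.xq_commute hr hs h2 (Or.inr h0)
  have one : ∀ a b k : ℕ, ∀ c : ℤ, a < chevD4.nroots → b < chevD4.nroots → b ≠ a → b ≠ chevD4.neg a →
      chevD4.commTerms a b = [(k, c, 1, 1)] → chevD4.commTerms a k = [] → k ≠ chevD4.neg a →
      chevD4.commTerms b k = [] → k ≠ chevD4.neg b →
      C.π ⁅C.L (hF.xq a (1 : F)), C.L (hF.xq b (1 : F))⁆ = hF.xq k (c : F) := by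
    intro a b k c ha hb h1 h2 he e1 n1 e2 n2
    have := hF.π_comm_single (C := C) ha hb h1 h2 he (Or.inr e1) n1 (Or.inr e2) n2 (1 : F) (1 : F)
    rwa [mul_one, mul_one] at this
  -- zero pairings
  have z1 : hF.Zp C 23 12 := by
    have s1 := hF.pair_step (C := C) (r := 15) (s := 22) (a := 21) (b := 12) (k := 23)
      (one 21 12 22 (-1) (by decide) (by decide) (by decide) (by decide +kernel) (by decide +kernel)
        (by decide +kernel) (by decide +kernel) (by decide +kernel) (by decide +kernel))
      (one 15 21 23 (-1) (by decide) (by decide) (by decide) (by decide +kernel) (by decide +kernel)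
        (by decide +kernel) (by decide +kernel) (by decide +kernel) (by decide +kernel))
      (comm 15 12 (by decide) (by decide) (by decide +kernel) (by decide +kernel))
      (tor 23 22 [-1, 0, 0, 0] (by decide) (by decide) (by decide +kernel) (by decide +kernel) (by decide +kernel))
      (comm 23 12 (by decide) (by decide) (by decide +kernel) (by decide +kernel))
    have s2 := hF.pair_step (C := C) (r := 12) (s := 23) (a := 14) (b := 22) (k := 15)
      (one 14 22 23 1 (by decide) (by decide) (by decide) (by decide +kernel) (by decide +kernel)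
        (by decide +kernel) (by decide +kernel) (by decide +kernel) (by decide +kernel))
      (one 12 14 15 1 (by decide) (by decide) (by decide) (by decide +kernel) (by decide +kernel)
        (by decide +kernel) (by decide +kernel) (by decide +kernel) (by decide +kernel))
      (comm 12 22 (by decide) (by decide) (by decide +kernel) (by decide +kernel))
      (tor 15 23 [-1, -1, 0, 0] (by decide) (by decide) (by decide +kernel) (by decide +kernel) (by decide +kernel))
      (comm 15 22 (by decide) (by decide) (by decide +kernel) (by decide +kernel))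
    refine hF.zp_three h3 hn (comm 23 12 (by decide) (by decide) (by decide +kernel) (by decide +kernel))
      (comm 15 22 (by decide) (by decide) (by decide +kernel) (by decide +kernel)) ?_ s1 s2
    exact Or.inr (Or.inl (by push_cast; rfl))
  have z2 : hF.Zp C 23 13 := by
    have s1 := hF.pair_step (C := C) (r := 16) (s := 22) (a := 20) (b := 13) (k := 23)
      (one 20 13 22 (-1) (by decide) (by decide) (by decide) (by decide +kernel) (by decide +kernel)
        (by decide +kernel) (by decide +kernel) (by decide +kernel) (by decide +kernel))
      (one 16 20 23 (-1) (by decide) (by decide) (by decide) (by decide +kernel) (by decide +kernel)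
        (by decide +kernel) (by decide +kernel) (by decide +kernel) (by decide +kernel))
      (comm 16 13 (by decide) (by decide) (by decide +kernel) (by decide +kernel))
      (tor 23 22 [-1, 0, 0, 0] (by decide) (by decide) (by decide +kernel) (by decide +kernel) (by decide +kernel))
      (comm 23 13 (by decide) (by decide) (by decide +kernel) (by decide +kernel))
    have s2 := hF.pair_step (C := C) (r := 13) (s := 23) (a := 14) (b := 22) (k := 16)
      (one 14 22 23 1 (by decide) (by decide) (by decide) (by decide +kernel) (by decide +kernel)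
        (by decide +kernel) (by decide +kernel) (by decide +kernel) (by decide +kernel))
      (one 13 14 16 1 (by decide) (by decide) (by decide) (by decide +kernel) (by decide +kernel)
        (by decide +kernel) (by decide +kernel) (by decide +kernel) (by decide +kernel))
      (comm 13 22 (by decide) (by decide) (by decide +kernel) (by decide +kernel))
      (tor 16 23 [-1, -1, 0, 0] (by decide) (by decide) (by decide +kernel) (by decide +kernel) (by decide +kernel))
      (comm 16 22 (by decide) (by decide) (by decide +kernel) (by decide +kernel))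
    refine hF.zp_three h3 hn (comm 23 13 (by decide) (by decide) (by decide +kernel) (by decide +kernel))
      (comm 16 22 (by decide) (by decide) (by decide +kernel) (by decide +kernel)) ?_ s1 s2
    exact Or.inr (Or.inl (by push_cast; rfl))
  have z3 : hF.Zp C 23 18 := by
    have s1 := hF.pair_step (C := C) (r := 19) (s := 22) (a := 17) (b := 18) (k := 23)
      (one 17 18 22 1 (by decide) (by decide) (by decide) (by decide +kernel) (by decide +kernel)
        (by decide +kernel) (by decide +kernel) (by decide +kernel) (by decide +kernel))
      (one 19 17 23 (-1) (by decide) (by decide) (by decide) (by decide +kernel) (by decide +kernel)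
        (by decide +kernel) (by decide +kernel) (by decide +kernel) (by decide +kernel))
      (comm 19 18 (by decide) (by decide) (by decide +kernel) (by decide +kernel))
      (tor 23 22 [-1, 0, 0, 0] (by decide) (by decide) (by decide +kernel) (by decide +kernel) (by decide +kernel))
      (comm 23 18 (by decide) (by decide) (by decide +kernel) (by decide +kernel))
    have s2 := hF.pair_step (C := C) (r := 18) (s := 23) (a := 14) (b := 22) (k := 19)
      (one 14 22 23 1 (by decide) (by decide) (by decide) (by decide +kernel) (by decide +kernel)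
        (by decide +kernel) (by decide +kernel) (by decide +kernel) (by decide +kernel))
      (one 18 14 19 (-1) (by decide) (by decide) (by decide) (by decide +kernel) (by decide +kernel)
        (by decide +kernel) (by decide +kernel) (by decide +kernel) (by decide +kernel))
      (comm 18 22 (by decide) (by decide) (by decide +kernel) (by decide +kernel))
      (tor 19 23 [-1, 1, 0, 0] (by decide) (by decide) (by decide +kernel) (by decide +kernel) (by decide +kernel))
      (comm 19 22 (by decide) (by decide) (by decide +kernel) (by decide +kernel))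
    refine hF.zp_three h3 hn (comm 23 18 (by decide) (by decide) (by decide +kernel) (by decide +kernel))
      (comm 19 22 (by decide) (by decide) (by decide +kernel) (by decide +kernel)) ?_ s1 s2
    exact Or.inr (Or.inr (by push_cast; rfl))
  have h : Facts.SimplyHyp hF C :=
    { shape := hF.shape_all fun r hr hdom s hs h1 h2 hstab => by
        have h := all_dom hr hdom okShapeD4
        simp only [List.all_eq_true, List.mem_range, Bool.or_eq_true, beq_iff_eq, Bool.not_eq_true'] at h
        rcases h s hs with ((h' | h') | h') | h'
        · exact absurd h' h1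
        · exact absurd h' h2
        · exact absurd ((all_stab hstab).symm.trans h') (by decide)
        · exact h'
      zero := hF.zp_all fun r hr hdom s hs h2 h0 => by
        rcases eq_or_ne s r with rfl | h1
        · exact hF.zp_prime_field hn
        · obtain ⟨e, hst⟩ := h0.resolve_left h1
          have hm := mem_baseList okBaseD4 hr hdom hs h1 h2 e hst
          simp only [List.mem_cons, List.not_mem_nil, or_false, Prod.mk.injEq] at hm
          rcases hm with ⟨rfl, rfl⟩ | ⟨rfl, rfl⟩ | ⟨rfl, rfl⟩ | ⟨rfl, rfl⟩
          exacts [z1, z2, z3, tor 23 22 [-1, 0, 0, 0] hr hs h2 e (by decide +kernel)] }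
  exact hF.hasLift_simply h okAgreeD4

theorem hasLift_B2_four (hF : Facts chevB2) (hK : ∃ s : Finset F, 3 < s.card) (h2 : (2 : F) = 0)
    (C : Central Γ ↥(chevB2.group F)) : HasLift hF C := by
  obtain ⟨s, hs⟩ := hK
  have hJ : ∀ j ∈ [1, 2], ∃ k : Fˣ, k ^ j ≠ 1 := by
    intro j hj
    simp only [List.mem_cons, List.not_mem_nil, or_false] at hj
    rcases hj with rfl | rfl <;> exact exists_pow_ne_one (s := s) (by norm_num) (by omega)
  refine hF.hasLift_torus hJ okZeroB2 okPairB2 okRegB2 fun r hr _ => ?_
  rw [List.mem_singleton] at hr
  subst hr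
  have hpi : ∀ v : F, C.π ((C.L (hF.xq 5 (1 : F)))⁻¹ * (C.L (hF.xq 4 v))⁻¹ * C.L (hF.xq 5 1) *
      C.L (hF.xq 4 v)) = hF.xq 6 (-v) * hF.xq 7 v := by
    intro v
    have h := hF.xq_comm (r := 4) (s := 5) (by decide) (by decide) (by decide) (by decide +kernel) v (1 : F)
    simp only [ChevalleyDatum.commWord,
      show chevB2.commTerms 4 5 = [(6, 1, 1, 1), (7, -1, 1, 2)] by decide +kernel, List.map_cons, List.map_nil,
      List.prod_cons, List.prod_nil, mul_one, pow_one, one_pow, Int.cast_one, Int.cast_neg, one_mul,
      neg_mul, mul_neg, _root_.neg_neg] at h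
    simp only [map_mul, map_inv, C.π_L]
    rw [mul_assoc _ (hF.xq 5 (1 : F)) (hF.xq 4 v), h]
    group
  have hzero : ∀ t u : F, Commute (hF.xq 6 t) (hF.xq 5 u) := by
    intro t u
    have h := hF.xq_comm (r := 6) (s := 5) (by decide) (by decide) (by decide) (by decide +kernel) t u
    simp only [ChevalleyDatum.commWord, show chevB2.commTerms 6 5 = [(7, -2, 1, 1)] by decide +kernel,
      List.map_cons, List.map_nil, List.prod_cons, List.prod_nil, mul_one] at h
    rw [show ((-2 : ℤ) : F) = 0 by push_cast; linear_combination -h2, zero_mul, zero_mul, hF.xq_zero,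
      mul_one] at h
    exact h.symm
  have h67 : hF.Zp C 6 7 := hF.zp_of_torPair hJ (by decide) (by decide) (by decide +kernel)
    (Or.inr (by decide +kernel)) (e := [-1, 0]) (by decide +kernel)
  intro t u
  set v := -u with hv
  set A := C.L (hF.xq 4 v) with hA
  set B := C.L (hF.xq 5 (1 : F)) with hB
  have hcA : Commute (C.π (C.L (hF.xq 6 t))) (C.π A⁻¹) := by
    rw [map_inv, hA, C.π_L, C.π_L]
    exact (hF.xq_commute (by decide) (by decide) (by decide +kernel) (Or.inr (by decide +kernel)) t v).inv_right
  have hcB : Commute (C.π (C.L (hF.xq 6 t))) (C.π B⁻¹) := by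
    rw [map_inv, hB, C.π_L, C.π_L]
    exact (hzero t 1).inv_right
  have hW : Commute (C.L (hF.xq 6 t)) (C.L (hF.xq 6 (-v)) * C.L (hF.xq 7 v)) := by
    refine C.commute_indep (a' := C.L (hF.xq 6 t)) (b' := ⁅B⁻¹, A⁻¹⁆) rfl ?_ (C.commute_comm hcB hcA)
    rw [map_mul, C.π_L, C.π_L, ← hpi v, commutatorElement_def, inv_inv, inv_inv, hA, hB]
  have h7 : Commute (C.L (hF.xq 6 t)) (C.L (hF.xq 7 v)) := h67 t v
  have h6 := hW.mul_right h7.inv_right
  rw [mul_inv_cancel_right, hv, _root_.neg_neg] at h6
  exact h6

end Cfsg.Agent.Lie
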