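import Cfsg.Agent.Lib.Lie.LiftMain
import Cfsg.Agent.Lib.Lie.Perfect

/-!
Lifts of root elements in positive characteristic when the central kernel has no element of that order and
takes roots of that order on commutators.
-/

set_option autoImplicit false
set_option linter.unusedSectionVars false

namespace Cfsg.Agent.Lie

open Cfsg.Lie
open scoped commutatorElement
open Cfsg.Agent.Small.SchurLifts

variable {D : ChevalleyDatum} {F : Type*} [Field F] {Γ : Type*} [Group Γ]

/-- Lifts of the root elements from the unique lifts of order p. -/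
theorem hasLift_exponent (hF : Facts D) (C : Central Γ ↥(D.group F)) (hperf : commutator ↥(D.group F) = ⊤)
    {p : ℕ} (hp : (p : F) = 0) (hno : ∀ z ∈ C.π.ker, z ^ p = 1 → z = 1)
    (hroot : ∀ z ∈ C.π.ker, z ∈ commutator Γ → ∃ w ∈ C.π.ker, w ^ p = z)
    {J : List ℕ} {pc : List ((ℕ × ℕ) × (List ℕ × List ℕ × List ℤ))}
    (hpc : okPairBase D J pc = true) : HasLift hF C := by
  have hxp : ∀ r (t : F), hF.xq r t ^ p = 1 := by
    intro r t
    have h : ∀ n : ℕ, hF.xq r t ^ n = hF.xq r ((n : F) * t) := by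
      intro n
      induction n with
      | zero => rw [pow_zero, Nat.cast_zero, zero_mul, hF.xq_zero]
      | succ n ih => rw [pow_succ, ih, hF.xq_add, Nat.cast_succ, add_mul, one_mul]
    rw [h, hp, zero_mul, hF.xq_zero]
  have hcz : ∀ z ∈ C.π.ker, ∀ g : Γ, Commute g z := fun z hz g => Subgroup.mem_center_iff.1 (C.central hz) g
  have hex : ∀ r (t : F), ∃ y : Γ, C.π y = hF.xq r t ∧ y ^ p = 1 := by
    intro r t
    have hm : hF.xq r t ∈ (commutator Γ).map C.π := by
      rw [commutator_def, Subgroup.map_commutator, Subgroup.map_top_of_surjective C.π C.surj,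
        ← commutator_def, hperf]
      exact Subgroup.mem_top _
    obtain ⟨w, hw, hwx⟩ := hm
    obtain ⟨z, hz, hzp⟩ := hroot (w ^ p) (by rw [MonoidHom.mem_ker, map_pow, hwx, hxp])
      (Subgroup.pow_mem _ hw p)
    refine ⟨w * z⁻¹, ?_, ?_⟩
    · rw [map_mul, map_inv, hwx, MonoidHom.mem_ker.1 hz, inv_one, mul_one]
    · rw [((hcz z hz w).inv_right).mul_pow, inv_pow, hzp, mul_inv_cancel]
  choose y hy hyp using hex
  have huniq : ∀ {a : Γ} {r : ℕ} {t : F}, C.π a = hF.xq r t → a ^ p = 1 → a = y r t := by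
    intro a r t ha hap
    have hz : (y r t)⁻¹ * a ∈ C.π.ker := by rw [MonoidHom.mem_ker, map_mul, map_inv, ha, hy, inv_mul_cancel]
    have h1 := (hcz _ hz (y r t)).mul_pow p
    rw [mul_inv_cancel_left, hap, hyp, one_mul] at h1
    exact (inv_mul_eq_one.1 (hno _ hz h1.symm)).symm
  have hconj : ∀ (g : Γ) {r r' : ℕ} {t t' : F}, C.π g * hF.xq r t * (C.π g)⁻¹ = hF.xq r' t' →
      g * y r t * g⁻¹ = y r' t' := fun g {r r' t t'} h =>
    huniq (by rw [map_mul, map_mul, map_inv, hy, h]) (by rw [conj_pow, hyp, mul_one, mul_inv_cancel])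
  have hcomm : ∀ r s (t u : F), Commute (hF.xq r t) (hF.xq s u) → Commute (y r t) (y s u) := by
    intro r s t u h
    have := hconj (y r t) (r := s) (r' := s) (t := u) (t' := u)
      (by rw [hy, h.eq, mul_inv_cancel_right])
    exact mul_inv_eq_iff_eq_mul.1 this
  have hadd : ∀ r t t', y r (t + t') = y r t * y r t' := fun r t t' => by
    refine (huniq (by rw [map_mul, hy, hy, hF.xq_add]) ?_).symm
    have hc : Commute (hF.xq r t) (hF.xq r t') := by
      show _ * _ = _ * _
      rw [hF.xq_add, hF.xq_add, add_comm]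
    rw [(hcomm r r t t' hc).mul_pow, hyp, hyp, one_mul]
  have hz : ∀ r s, r < D.nroots → s < D.nroots → s ≠ D.neg r →
      (s = r ∨ D.commTerms r s = []) → hF.Zp C r s := fun r s hr hs h2 h0 t u =>
    C.commute_indep (a' := y r t) (b' := y s u) (by rw [C.π_L, hy]) (by rw [C.π_L, hy])
      (hcomm r s t u (hF.xq_commute hr hs h2 h0 t u))
  let Y : hF.YLift C :=
    { y := y
      out := fun r t hr => (huniq (by rw [map_one, hF.xq_out hr]) (one_pow p)).symm
      proj := hy
      add := hadd
      conj_tq := fun d {r} hr t => hconj _ (by rw [C.π_L]; exact hF.tq_conj d hr t)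
      conj_nq := fun {i} hi {r} hr t => hconj _ (by rw [C.π_L]; exact hF.nq_conj hi hr t) }
  have hall := hF.r2T_induct Y hz fun r hr hdom s hs h1 h2 hstab h0 hknown => by
    have hc : ∃ q ∈ pc, (q.1 == (r, s) && okLiftPair D J r s q.2) = true := by
      have h := all_dom hr hdom hpc
      simp only [List.all_eq_true, List.mem_range, Bool.or_eq_true, beq_iff_eq, Bool.not_eq_true',
        List.isEmpty_iff] at h
      rcases h s hs with (((h' | h') | h') | h') | h'
      · exact absurd h' h1
      · exact absurd h' h2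
      · exact absurd ((all_stab hstab).symm.trans h') (by decide)
      · exact absurd h' h0
      · exact List.any_eq_true.1 h'
    obtain ⟨q, -, hq⟩ := hc
    simp only [Bool.and_eq_true, okLiftPair, List.all_eq_true, decide_eq_true_eq, Bool.or_eq_true,
      beq_iff_eq, List.contains_iff_mem, Bool.not_eq_true', decide_eq_false_iff_not] at hq
    obtain ⟨-, ⟨⟨⟨⟨⟨⟨⟨⟨hω, hsort⟩, hpos⟩, hclosed⟩, hless⟩, hsL⟩, hterms⟩, he0⟩, hej⟩⟩ := hq
    have hr' := hF.foldr_refl_lt hω hr
    have hs' := hF.foldr_refl_lt hω hs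
    have hne : ∀ ω : List ℕ, (∀ i ∈ ω, i < D.rank) → ω.foldr D.reflectRoot s ≠ ω.foldr D.reflectRoot r ∧
        ω.foldr D.reflectRoot s ≠ D.neg (ω.foldr D.reflectRoot r) := by
      intro ω hω
      induction ω with
      | nil => exact ⟨h1, h2⟩
      | cons i ω ih =>
        have hω' : ∀ j ∈ ω, j < D.rank := fun j hj => hω j (List.mem_cons_of_mem _ hj)
        exact hF.refl_ne (hω i (by simp)) (hF.foldr_refl_lt hω' hr) (hF.foldr_refl_lt hω' hs) (ih hω').1
          (ih hω').2
    refine hF.r2T_word Y q.2.1 hω hr hs (hF.r2T_closed_exp Y hr' hs'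
      ⟨hsort, hpos, fun a ha b hb hne c hc => ((hclosed a ha b hb).resolve_left hne) c hc⟩ hsL hterms
      (hne _ hω).1 (hne _ hω).2 (fun a ha b hb hab => ?_) hp hno)
    obtain ⟨ha1, ha2⟩ := hpos a ha
    obtain ⟨hb1, hb2⟩ := hpos b hb
    refine hknown a b ha2 hb2 (ne_of_gt hab) (fun e' => ?_) ((hless a ha b hb).resolve_left fun h' => h' hab)
    have := (hF.neg_ge_iff ha2).1 (e' ▸ hb1)
    omega
  exact ⟨{ x := Y.y
           x_out := fun k z hk => Y.out k z hk
           x_add := Y.add
           x_comm := fun r s hr hs h1 h2 => hall r s hr hs h1 h2 }, Y.proj⟩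

end Cfsg.Agent.Lie
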