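import Cfsg.Agent.Lib.Lie.LiftSteinberg
import Cfsg.Agent.Lib.Solv.SchurSmall

/-!
Schur multipliers of the Chevalley groups from the kernel of the projection of the presented group.
-/

set_option autoImplicit false
set_option linter.unusedSectionVars false

namespace Cfsg.Agent.Lie

open Cfsg.Lie
open scoped commutatorElement
open Cfsg.Agent.Small.SchurLifts

universe u

variable {D : ChevalleyDatum} {F : Type u} [Field F] [Finite F]

theorem multiplier_one (hF : Facts D) (hH : StHyp D) (K : KerCert (cartanSys D) (k := 0) ![])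
    (hlift : ∀ (Γ : Type u) [Group Γ] (C : Central Γ ↥(D.group F)), HasLift hF C) :
    Cfsg.HasCyclicSchurMultiplier ↥(D.group F) 1 := by
  refine Cfsg.Agent.Solv.hasCyclicSchur_one_of fun Γ _ _ σ hσ k hk => ?_
  obtain ⟨ρ, hρ⟩ := hF.stem_ker hH σ hσ (hlift Γ)
  rw [hρ, hF.ker_eq_bot hH K, Subgroup.map_bot, Subgroup.mem_bot] at hk
  exact hk

theorem Facts.mem_commutator_of_dec {hF : Facts D} {Γ : Type*} [Group Γ] (S : CommSys hF F Γ)
    {r s k : ℕ} {c : ℤ} (hd : Facts.Dec D r s k c) (hc : (c : F) ≠ 0) (z : F) : S.x k z ∈ commutator Γ := by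
  obtain ⟨hr, hs, h1, h2, he⟩ := hd
  have e := S.x_comm r s hr hs h1 h2 1 (-z / c)
  simp only [ChevalleyDatum.commWord, he, List.map_cons, List.map_nil, List.prod_cons, List.prod_nil,
    mul_one, pow_one, mul_neg, neg_mul] at e
  rw [show -((c : F) * (-z / c)) = z by field_simp] at e
  have e2 : S.x k z = ⁅(S.x s (-z / c))⁻¹, (S.x r 1)⁻¹⁆ := by
    rw [commutatorElement_def, inv_inv, inv_inv, mul_assoc _ (S.x s _) (S.x r 1), e]
    group
  rw [e2, commutator_def]
  exact Subgroup.commutator_mem_commutator (Subgroup.mem_top _) (Subgroup.mem_top _)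

theorem multiplier_prime (hF : Facts D) (hH : StHyp D) {d : ℕ} (hd : d.Prime)
    (hdec : ∀ k, k < D.nroots → ∃ r s c, Facts.Dec D r s k c ∧ (c : F) ≠ 0)
    {n : ℕ} (hcard : Nat.card (Subgroup.center (D.SteinbergGroup F)) = Nat.gcd d n)
    (hlift : ∀ (Γ : Type u) [Group Γ] (C : Central Γ ↥(D.group F)), HasLift hF C) :
    Cfsg.HasCyclicSchurMultiplier ↥(D.group F) (Nat.gcd d n) := by
  have hfin := hF.finite_steinberg (F := F) hH
  have hker : (hF.proj F).ker = Subgroup.center (D.SteinbergGroup F) := hF.ker_eq_center hH hH.2.2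
  have hcyc : IsCyclic ↥(hF.proj F).ker := by
    have hc : Nat.card ↥(hF.proj F).ker = Nat.gcd d n := by rw [hker, hcard]
    rcases (Nat.dvd_prime hd).1 (Nat.gcd_dvd_left d n) with h | h <;> rw [h] at hc
    · have := (Nat.card_eq_one_iff_unique.1 hc).1
      infer_instance
    · have := Fact.mk hd
      exact isCyclic_of_prime_card (p := d) hc
  have hperf : commutator (D.SteinbergGroup F) = ⊤ := by
    rw [eq_top_iff, ← PresentedGroup.closure_range_of (D.steinbergRels F)]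
    refine (Subgroup.closure_le _).2 ?_
    rintro _ ⟨⟨r, t⟩, rfl⟩
    obtain ⟨a, b, c, hdec', hc⟩ := hdec r.val r.isLt
    have h := Facts.mem_commutator_of_dec (hF.stC F) hdec' hc t
    rw [hF.stC_x, ChevalleyDatum.stGen, ChevalleyDatum.stX, dif_pos r.isLt] at h
    exact h
  refine Cfsg.Agent.Solv.hasCyclicSchur_of ⟨D.SteinbergGroup F, inferInstance, hfin, hF.projQ F,
    ⟨hF.projQ_surjective, ?_, ?_⟩, ?_⟩ fun Γ _ _ σ hσ => ?_
  · rw [hF.projQ_ker, hker]
  · rw [hperf]; exact le_top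
  · rw [hF.projQ_ker]
    refine ⟨(zmodCyclicMulEquiv hcyc).symm.trans ?_⟩
    have hc : Nat.card ↥(hF.proj F).ker = Nat.gcd d n := by rw [hker, hcard]
    rw [hc]
  · obtain ⟨ρ, hρ⟩ := hF.stem_ker hH σ hσ (hlift Γ)
    obtain ⟨z, hz⟩ := hcyc.exists_generator
    refine ⟨⟨ρ z, hρ ▸ Subgroup.mem_map_of_mem ρ z.2⟩, Subtype.ext ?_, fun k => ?_⟩
    · show ρ (z : D.SteinbergGroup F) ^ Nat.gcd d n = 1
      have h1 : z ^ Nat.card ↥(hF.proj F).ker = 1 := pow_card_eq_one'
      have hc : Nat.card ↥(hF.proj F).ker = Nat.gcd d n := by rw [hker, hcard]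
      rw [hc] at h1
      have h2 := congrArg Subtype.val h1
      rw [Subgroup.coe_pow, Subgroup.coe_one] at h2
      rw [← map_pow, h2, map_one]
    · obtain ⟨y, hy, hyk⟩ : ∃ y ∈ (hF.proj F).ker, ρ y = k := Subgroup.mem_map.1 (hρ ▸ k.2)
      obtain ⟨j, hj⟩ := hz ⟨y, hy⟩
      refine ⟨j, Subtype.ext ?_⟩
      show (ρ (z : D.SteinbergGroup F)) ^ j = (k : Γ)
      rw [← map_zpow, ← Subgroup.coe_zpow, show z ^ j = ⟨y, hy⟩ from hj, hyk]

end Cfsg.Agent.Lie

namespace Cfsg.Agent.Lie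

open Cfsg.Lie
open Cfsg.Agent.Small.SchurLifts

universe u

variable {F : Type u} [Field F]

/-- Every root is a sum of two roots, in the types with decompositions. -/
theorem exists_dec {D : ChevalleyDatum} (hF : Facts D) {J : List ℕ}
    (hJ : ∀ j ∈ J, ∃ k : Fˣ, k ^ j ≠ 1)
    {zc : List ((ℕ × ℕ) × (List ℤ × (ℕ × ℕ) × List (ℕ × List ℤ)))} (hz : okZeroBase D J [] zc = true)
    (hs : okShapeBase D = true)
    {cert : List (ℕ × (ℕ × ℕ) × List (ℕ × ℕ × ℕ × ℕ × ℕ))} (hc : okAgreeBase D cert = true) :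
    ∀ k, k < D.nroots → ∃ r s c, Facts.Dec D r s k c ∧ (c : F) ≠ 0 := by
  intro k hk
  let C : Central ↥(D.group F) ↥(D.group F) :=
    ⟨MonoidHom.id _, Function.surjective_id, by rw [MonoidHom.ker_id]; exact bot_le⟩
  have h := hF.simplyHyp_of_base (C := C) hJ hz hs
  obtain ⟨r, s, c, hd⟩ := (hF.allAgree_of_base h hc k hk).1
  exact ⟨r, s, c, hd, left_ne_zero_of_mul_eq_one (hF.dec_props h hd).2.1⟩

end Cfsg.Agent.Lie
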