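import Cfsg.Agent.Lib.Lie.Unipotent

/-!
Ordered products in a group where the commutator formula is known for a closed list of positive roots only.
-/

set_option autoImplicit false

namespace Cfsg.Agent.Lie

open Cfsg.Lie

/-- Elements satisfying additivity and, for the pairs of a list, the commutator formula. -/
structure PartSys (D : ChevalleyDatum) (F : Type*) [Field F] (Γ : Type*) [Group Γ] (L : List ℕ) where
  x : ℕ → F → Γ
  x_add : ∀ r ∈ L, ∀ t u, x r (t + u) = x r t * x r u
  x_comm : ∀ r ∈ L, ∀ s ∈ L, r < s → ∀ t u,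
    x s u * x r t = x r t * x s u * ((D.commWord F r s t u).map fun p => x p.1 p.2).prod

namespace PartSys

variable {D : ChevalleyDatum} {F : Type*} [Field F] {Γ : Type*} [Group Γ]

theorem x_zero {L : List ℕ} (P : PartSys D F Γ L) {r : ℕ} (hr : r ∈ L) : P.x r 0 = 1 := by
  have h := P.x_add r hr 0 0
  rwa [add_zero, left_eq_mul] at h

theorem x_inv {L : List ℕ} (P : PartSys D F Γ L) {r : ℕ} (hr : r ∈ L) (t : F) :
    (P.x r t)⁻¹ = P.x r (-t) := by
  rw [inv_eq_iff_mul_eq_one, ← P.x_add r hr, add_neg_cancel, P.x_zero hr]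

/-- The ordered product. -/
def prodOver {L : List ℕ} (P : PartSys D F Γ L) (M : List ℕ) (t : ℕ → F) : Γ :=
  (M.map fun r => P.x r (t r)).prod

/-- Every product of root elements of a closed list is an ordered product. -/
theorem exists_prodOver (hF : Facts D) : ∀ {L : List ℕ} (P : PartSys D F Γ L), ClosedList D L → ∀ {g : Γ},
    g ∈ Subgroup.closure {g | ∃ r ∈ L, ∃ t, P.x r t = g} → ∃ t : ℕ → F, g = P.prodOver L t := by
  intro L
  induction L with
  | nil =>
    intro P _ g hg
    refine ⟨fun _ => 0, ?_⟩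
    have : Subgroup.closure {g : Γ | ∃ r ∈ ([] : List ℕ), ∃ t, P.x r t = g} = ⊥ := by simp
    rw [this, Subgroup.mem_bot] at hg
    simp [hg, prodOver]
  | cons m L ih =>
    intro P hL g hg
    have hT : ClosedList D L := hL.tail (hF := hF)
    obtain ⟨hm1, hm2⟩ := hL.mem_pos m (by simp)
    have hlt := (List.pairwise_cons.1 hL.sorted).1
    let P' : PartSys D F Γ L :=
      { x := P.x
        x_add := fun r hr => P.x_add r (List.mem_cons_of_mem _ hr)
        x_comm := fun r hr s hs => P.x_comm r (List.mem_cons_of_mem _ hr) s (List.mem_cons_of_mem _ hs) }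
    set T := Subgroup.closure {g : Γ | ∃ r ∈ L, ∃ t, P.x r t = g} with hTdef
    have hxT : ∀ r ∈ L, ∀ t, P.x r t ∈ T := fun r hr t => Subgroup.subset_closure ⟨r, hr, t, rfl⟩
    have hconj : ∀ (a : F), ∀ v ∈ T, (P.x m a)⁻¹ * v * P.x m a ∈ T := by
      intro a v hv
      induction hv using Subgroup.closure_induction with
      | mem v hv =>
        obtain ⟨s, hs, u, rfl⟩ := hv
        rw [mul_assoc, P.x_comm m (by simp) s (List.mem_cons_of_mem _ hs) (hlt s hs) a u, mul_assoc,
          inv_mul_cancel_left]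
        refine mul_mem (hxT s hs u) (T.list_prod_mem fun y hy => ?_)
        obtain ⟨p, hp, rfl⟩ := List.mem_map.1 hy
        obtain ⟨c, hc, rfl⟩ := List.mem_map.1 hp
        obtain ⟨hs1, hs2⟩ := hT.mem_pos s hs
        rcases List.mem_cons.1 (hL.closed m (by simp) s (List.mem_cons_of_mem _ hs) (ne_of_lt (hlt s hs)) c hc)
          with h | h
        · have := (hF.commTerms_gt hm2 hs2 hm1 hs1 hc).2.1
          omega
        · exact hxT _ h _
      | one => simp
      | mul p q _ _ hp hq =>
        rw [show (P.x m a)⁻¹ * (p * q) * P.x m a =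
          ((P.x m a)⁻¹ * p * P.x m a) * ((P.x m a)⁻¹ * q * P.x m a) by group]
        exact mul_mem hp hq
      | inv p _ hp =>
        rw [show (P.x m a)⁻¹ * p⁻¹ * P.x m a = ((P.x m a)⁻¹ * p * P.x m a)⁻¹ by group]
        exact inv_mem hp
    have hm : m ∈ m :: L := by simp
    have key : ∃ a, ∃ u ∈ T, g = P.x m a * u := by
      induction hg using Subgroup.closure_induction with
      | mem g hg =>
        obtain ⟨r, hr, a, rfl⟩ := hg
        rcases List.mem_cons.1 hr with rfl | hr
        · exact ⟨a, 1, one_mem _, by simp⟩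
        · exact ⟨0, _, hxT r hr a, by rw [P.x_zero hm, one_mul]⟩
      | one => exact ⟨0, 1, one_mem _, by rw [P.x_zero hm, one_mul]⟩
      | mul p q _ _ hp hq =>
        obtain ⟨a, u, hu, rfl⟩ := hp
        obtain ⟨b, v, hv, rfl⟩ := hq
        refine ⟨a + b, (P.x m b)⁻¹ * u * P.x m b * v, mul_mem (hconj b u hu) hv, ?_⟩
        rw [P.x_add m hm]
        group
      | inv p _ hp =>
        obtain ⟨a, u, hu, rfl⟩ := hp
        refine ⟨-a, P.x m a * u⁻¹ * (P.x m a)⁻¹, ?_, ?_⟩
        · have h := hconj (-a) u⁻¹ (inv_mem hu)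
          rwa [← P.x_inv hm, inv_inv] at h
        · rw [← P.x_inv hm]
          group
    obtain ⟨a, u, hu, rfl⟩ := key
    obtain ⟨t, rfl⟩ := ih P' hT hu
    refine ⟨Function.update t m a, ?_⟩
    rw [prodOver, prodOver, List.map_cons, List.prod_cons, Function.update_self]
    congr 2
    refine List.map_congr_left fun r hr => ?_
    rw [Function.update_of_ne (ne_of_gt (hlt r hr))]

/-- Products of root elements of a closed list are determined by their images in the group of matrices. -/
theorem eq_of_image {Q : Type*} [Group Q] (hF : Facts D) {L : List ℕ} (P : PartSys D F Γ L)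
    (hL : ClosedList D L) (π : Γ →* Q) (ι : Q →* GL D.Idx F)
    (hπ : ∀ r ∈ L, ∀ t, ι (π (P.x r t)) = hF.xg r t) {g g' : Γ}
    (hg : g ∈ Subgroup.closure {g | ∃ r ∈ L, ∃ t, P.x r t = g})
    (hg' : g' ∈ Subgroup.closure {g | ∃ r ∈ L, ∃ t, P.x r t = g}) (h : π g = π g') : g = g' := by
  obtain ⟨t, rfl⟩ := P.exists_prodOver hF hL hg
  obtain ⟨t', rfl⟩ := P.exists_prodOver hF hL hg'
  have e : ∀ t : ℕ → F, ι (π (P.prodOver L t)) = (hF.sys F).prodOver L t := fun t => by
    rw [prodOver, CommSys.prodOver, map_list_prod, map_list_prod, List.map_map, List.map_map]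
    congr 1
    exact List.map_congr_left fun r hr => hπ r hr _
  have h1 := hF.prodOver_inj hL ((e t).symm.trans ((congrArg ι h).trans (e t')))
  unfold prodOver
  congr 1
  exact List.map_congr_left fun r hr => by rw [h1 r hr]

end PartSys

end Cfsg.Agent.Lie
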