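import Cfsg.Agent.Lib.Lie.LiftCover
import Cfsg.Agent.Lib.Lie.Perfect

/-!
Perfectness of groups generated by elements with additivity and the commutator formula, and the Schur
multiplier of the presented group.
-/

set_option autoImplicit false
set_option linter.unusedSectionVars false

namespace Cfsg.Agent.Lie

open Cfsg.Lie
open scoped commutatorElement MatrixGroups
open Cfsg.Agent.Small.SchurLifts

variable {D : ChevalleyDatum} {F : Type*} [Field F]

namespace Facts

variable (hF : Facts D) {Γ : Type*} [Group Γ] (S : CommSys hF F Γ)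

theorem sys_perf_step {two : Bool} (h2 : two = true → (2 : F) ≠ 0) {known : List ℕ}
    (hk : ∀ r ∈ known, ∀ t, S.x r t ∈ commutator Γ) {e : ℕ × ℕ × ℕ} (h : okPerfStep D two known e = true) :
    ∀ t, S.x e.1 t ∈ commutator Γ := by
  obtain ⟨k, r, s⟩ := e
  simp only [okPerfStep, Bool.and_eq_true, decide_eq_true_eq, bne_iff_ne, beq_iff_eq] at h
  obtain ⟨⟨⟨⟨⟨hr, hs⟩, hne1⟩, hne2⟩, hlen⟩, hall⟩ := h
  rw [List.all_eq_true] at hall
  intro t
  obtain ⟨c, hc, hck⟩ : ∃ c ∈ D.commTerms r s, c.1 = k := by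
    obtain ⟨c, hc⟩ := List.exists_mem_of_length_pos (l := (D.commTerms r s).filter fun c => c.1 == k)
      (by omega)
    rw [List.mem_filter, beq_iff_eq] at hc
    exact ⟨c, hc⟩
  have hc' := hall c hc
  rw [if_pos (by simp [hck])] at hc'
  simp only [Bool.and_eq_true, Bool.or_eq_true, beq_iff_eq] at hc'
  obtain ⟨hj, hC⟩ := hc'
  have hne : (c.2.1 : F) ≠ 0 := by
    rcases hC with h1 | ⟨ht, h1⟩
    · rcases Int.natAbs_eq c.2.1 with h' | h' <;> rw [h', h1] <;> simp
    · rcases Int.natAbs_eq c.2.1 with h' | h' <;> rw [h', h1] <;> simpa using h2 ht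
  have hu : (c.2.1 : F) * (-1) ^ c.2.2.1 ≠ 0 := mul_ne_zero hne (pow_ne_zero _ (neg_ne_zero.2 one_ne_zero))
  set u := ((c.2.1 : F) * (-1) ^ c.2.2.1)⁻¹ * t with hudef
  have h := S.x_comm r s hr hs hne1 hne2 1 u
  have hprod : ((D.commWord F r s 1 u).map fun p => S.x p.1 p.2).prod ∈ commutator Γ := by
    have e : ((D.commWord F r s 1 u).map fun p => S.x p.1 p.2).prod = ⁅(S.x s u)⁻¹, (S.x r (1 : F))⁻¹⁆ := by
      rw [← mul_right_inj (S.x r (1 : F) * S.x s u), ← h, commutatorElement_def]
      group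
    rw [e, commutator_def]
    exact Subgroup.commutator_mem_commutator (Subgroup.mem_top _) (Subgroup.mem_top _)
  rw [ChevalleyDatum.commWord, List.map_map] at hprod
  have := middle_mem _ _ (fun c => c.1 == k) (D.commTerms r s) hprod (fun d hd hdk => ?_) hlen c hc
    (by simp [hck])
  · simp only [Function.comp_apply, hck, hj, pow_one] at this
    rwa [hudef, ← mul_assoc, mul_inv_cancel₀ hu, one_mul] at this
  · have hd' := hall d hd
    rw [if_neg (by simpa using hdk)] at hd'
    exact hk d.1 (by simpa using hd') _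

theorem sys_perf_cert {two : Bool} (h2 : two = true → (2 : F) ≠ 0) :
    ∀ (L : List (ℕ × ℕ × ℕ)) (known : List ℕ), (∀ r ∈ known, ∀ t, S.x r t ∈ commutator Γ) →
      okPerf D two known L = true → ∀ i, i < D.rank → ∀ t, S.x (D.simple i) t ∈ commutator Γ
  | [], known, hk, h, i, hi => by
    simp only [okPerf, List.all_eq_true, List.mem_range, List.contains_iff_mem] at h
    exact hk _ (h i hi)
  | e :: L, known, hk, h, i, hi => by
    simp only [okPerf, Bool.and_eq_true] at h
    refine sys_perf_cert h2 L _ (fun r hr => ?_) h.2 i hi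
    rcases List.mem_cons.1 hr with rfl | hr
    · exact hF.sys_perf_step S h2 hk h.1
    · exact hk r hr

theorem sys_simple_of_square (T : TorusSys hF F Γ) {a : F} (ha : a ≠ 0) (ha2 : a ^ 2 ≠ 1) {i : ℕ}
    (hi : i < D.rank) (t : F) : T.x (D.simple i) t ∈ commutator Γ := by
  have hα := hF.simple_lt i hi
  have hd : a ^ 2 - 1 ≠ 0 := sub_ne_zero.2 ha2
  have e : T.x (D.simple i) t = ⁅T.h (D.simple i) a, T.x (D.simple i) (t / (a ^ 2 - 1))⁆ := by
    rw [commutatorElement_def, show T.h (D.simple i) a * T.x (D.simple i) (t / (a ^ 2 - 1)) *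
      (T.h (D.simple i) a)⁻¹ = _ from T.h_conj i hi a ha _ hα _, hF.cartan_simple i hi, ← T.x_neg,
      ← T.x_add, _root_.zpow_two]
    congr 1
    field_simp
    ring
  rw [e, commutator_def]
  exact Subgroup.commutator_mem_commutator (Subgroup.mem_top _) (Subgroup.mem_top _)

include hF in
theorem st_perfect (hH : StHyp D)
    (h : ∀ i, i < D.rank → ∀ t, D.stGen F (D.simple i) t ∈ commutator (D.SteinbergGroup F)) :
    Group.IsPerfect (D.SteinbergGroup F) := by
  set S := hF.stT hH F with hS
  have hall : ∀ r, r < D.nroots → ∀ t, D.stGen F r t ∈ commutator (D.SteinbergGroup F) := by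
    refine hF.simple_induction _ h fun i hi r hr ih t => ?_
    have e := S.nS_conj ⟨i, hi⟩ hr (hF.sgn F i r * t)
    rw [← mul_assoc, hF.sgn_mul_self hi hr, one_mul] at e
    rw [← hF.stT_x hH, ← hS, ← e]
    exact (inferInstance : (commutator (D.SteinbergGroup F)).Normal).conj_mem _ (ih _) _
  constructor
  rw [eq_top_iff, ← PresentedGroup.closure_range_of (D.steinbergRels F)]
  refine (Subgroup.closure_le _).2 ?_
  rintro _ ⟨⟨r, t⟩, rfl⟩
  have := hall r.val r.isLt t
  rw [ChevalleyDatum.stGen, ChevalleyDatum.stX, dif_pos r.isLt] at this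
  exact this

end Facts

universe u

/-- The presented group has trivial Schur multiplier. -/
theorem steinberg_multiplier_one {F : Type u} [Field F] [Finite F] (hF : Facts D) (hH : StHyp D)
    (hperf : Group.IsPerfect (D.SteinbergGroup F))
    (hlift : ∀ (Γ : Type u) [Group Γ] (C : Central Γ ↥(D.group F)), HasLift hF C) :
    Cfsg.HasCyclicSchurMultiplier (D.SteinbergGroup F) 1 := by
  have := hF.finite_steinberg (F := F) hH
  refine Cfsg.Agent.Solv.hasCyclicSchur_one_of fun Γ _ _ σ hσ => ?_
  obtain ⟨hsurj, hcent, hcomm⟩ := hσ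
  -- the covering group is perfect
  have hΓ : commutator Γ = ⊤ := by
    rw [eq_top_iff]
    intro g _
    have hm : σ g ∈ (commutator Γ).map σ := by
      rw [commutator_def, Subgroup.map_commutator, Subgroup.map_top_of_surjective σ hsurj, ← commutator_def]
      exact hperf.mem_commutator
    obtain ⟨w, hw, hwg⟩ := hm
    have hk : w⁻¹ * g ∈ σ.ker := by rw [MonoidHom.mem_ker, map_mul, map_inv, hwg, inv_mul_cancel]
    rw [← mul_inv_cancel_left w g]
    exact mul_mem hw (hcomm hk)
  have hproj : (hF.projQ F).ker ≤ Subgroup.center (D.SteinbergGroup F) := by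
    rw [hF.projQ_ker, hF.ker_eq_center hH hH.2.2]
  have hcent' : ((hF.projQ F).comp σ).ker ≤ Subgroup.center Γ := by
    intro x hx
    have hxc : σ x ∈ Subgroup.center (D.SteinbergGroup F) := hproj hx
    rw [Subgroup.mem_center_iff]
    intro y
    have hcen : ∀ y, ⁅x, y⁆ ∈ Subgroup.center Γ := fun y => hcent (by
      rw [MonoidHom.mem_ker, map_commutatorElement, commutatorElement_eq_one_iff_mul_comm]
      exact (Subgroup.mem_center_iff.1 hxc _).symm)
    let f : Γ →* Subgroup.center Γ := MonoidHom.mk' (fun y => ⟨⁅x, y⁆, hcen y⟩) fun a b =>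
      Subtype.ext (by
        show ⁅x, a * b⁆ = ⁅x, a⁆ * ⁅x, b⁆
        have h1 := Subgroup.mem_center_iff.1 (hcen b) a
        calc ⁅x, a * b⁆ = ⁅x, a⁆ * (a * ⁅x, b⁆ * a⁻¹) := by simp only [commutatorElement_def]; group
          _ = _ := by rw [h1, mul_inv_cancel_right])
    have hker : commutator Γ ≤ f.ker := by
      rw [commutator_def, Subgroup.commutator_le]
      intro a _ b _
      rw [MonoidHom.mem_ker, map_commutatorElement, commutatorElement_eq_one_iff_mul_comm]
      exact Subtype.ext (Subgroup.mem_center_iff.1 (f b).2 _)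
    have h1 : f y = 1 := hker (hΓ ▸ Subgroup.mem_top y)
    exact (commutatorElement_eq_one_iff_mul_comm.1 (congrArg Subtype.val h1)).symm
  obtain ⟨ρ, hρs, hρ⟩ := hF.stem_hom hH ((hF.projQ F).comp σ)
    ⟨hF.projQ_surjective.comp hsurj, hcent', by rw [hΓ]; exact le_top⟩ (hlift Γ)
  have hid : σ.comp ρ = MonoidHom.id _ :=
    Cfsg.Agent.Solv.hom_unique_of_perfect hperf (hF.projQ F) hproj (by
      rw [← MonoidHom.comp_assoc, hρ, MonoidHom.comp_id])
  intro k hk
  obtain ⟨a, rfl⟩ := hρs k
  have : a = 1 := (DFunLike.congr_fun hid a).symm.trans hk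
  rw [this, map_one]

end Cfsg.Agent.Lie
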