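import Cfsg.Agent.Lib.Lie.LiftExponent
import Cfsg.Agent.Lib.Lie.LiftCover
import Cfsg.Agent.Lib.Lie.LiftPerfect

/-!
Perfectness of the cover and lifting of projective representations in the natural characteristic.
-/

set_option autoImplicit false
set_option linter.unusedSectionVars false

namespace Cfsg.Agent.Lie

open Cfsg.Lie
open scoped commutatorElement MatrixGroups
open Cfsg.Agent.Small.SchurLifts

variable {D : ChevalleyDatum} {F : Type*} [Field F]

namespace Facts

variable (hF : Facts D)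

include hF in
theorem sc_perfect_of_simple (hH : StHyp D)
    (h : ∀ i, i < D.rank → ∀ t, D.scGen F (D.simple i) t ∈ commutator (D.SteinbergCover F)) :
    Group.IsPerfect (D.SteinbergCover F) := by
  have hall : ∀ r, r < D.nroots → ∀ t, D.scGen F r t ∈ commutator (D.SteinbergCover F) := by
    refine hF.simple_induction _ h fun i hi r hr ih t => ?_
    have e := (hF.scT hH F).nS_conj ⟨i, hi⟩ hr (hF.sgn F i r * t)
    rw [← mul_assoc, hF.sgn_mul_self hi hr, one_mul] at e
    rw [← hF.scT_x hH, ← e]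
    exact (inferInstance : (commutator (D.SteinbergCover F)).Normal).conj_mem _ (ih _) _
  exact ⟨sc_induction fun r t => (Classical.em (r < D.nroots)).elim (fun hr => hall r hr t)
    (fun hr => by rw [scGen_out (not_lt.1 hr)]; exact one_mem _)⟩

/-- The homomorphism on the cover given by generators in another group. -/
theorem sc_exists_hom {Γ : Type*} [Group Γ] (S : CommSys hF F Γ) :
    ∃ τ : D.SteinbergCover F →* Γ, ∀ p : Fin D.nroots × F, τ (PresentedGroup.of p) = S.x p.1.val p.2 := by
  have hrels : ∀ g ∈ D.steinbergRelsAB F,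
      FreeGroup.lift (fun p : Fin D.nroots × F => S.x p.1.val p.2) g = 1 := by
    have hX : ∀ r t, FreeGroup.lift (fun p : Fin D.nroots × F => S.x p.1.val p.2) (D.stX r t) = S.x r t := by
      intro r t
      unfold ChevalleyDatum.stX
      split_ifs with h
      · simp
      · simp [S.x_out r t (not_lt.1 h)]
    have hW : ∀ w : List (ℕ × F), FreeGroup.lift (fun p : Fin D.nroots × F => S.x p.1.val p.2) (D.stWord w) =
        (w.map fun p => S.x p.1 p.2).prod := by
      intro w
      rw [ChevalleyDatum.stWord, map_list_prod, List.map_map]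
      congr 1
      exact List.map_congr_left fun p _ => hX _ _
    rintro g (⟨r, t, u, hr, rfl⟩ | ⟨r, s, t, u, hr, hs, h1, h2, rfl⟩)
    · rw [map_mul, map_mul, map_inv, hX, hX, hX, S.x_add, mul_inv_cancel]
    · simp only [map_mul, map_inv, hX, hW]
      rw [mul_inv_eq_one, mul_assoc (_ * _), S.x_comm r s hr hs h1 h2 t u]
      group
  exact ⟨PresentedGroup.toGroup hrels, fun p => PresentedGroup.toGroup.of hrels⟩

theorem scGen_fin (p : Fin D.nroots × F) : D.scGen F p.1.val p.2 = PresentedGroup.of p := by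
  rw [ChevalleyDatum.scGen, ChevalleyDatum.stX, dif_pos p.1.isLt]
  rfl

include hF in
theorem sc_perfect_small {L : List (ℕ × ℕ × ℕ)} (hH : StHyp D) (hL : okPerf D true [] L = true)
    (h : ∃ a : F, a ≠ 0 ∧ a ≠ 1) : Group.IsPerfect (D.SteinbergCover F) := by
  obtain ⟨a, ha, ha1⟩ := h
  refine hF.sc_perfect_of_simple hH fun i hi => ?_
  by_cases ha2 : a ^ 2 = 1
  · refine hF.sys_perf_cert (hF.scC F) (two := true) (fun _ h2 => ha1 ?_) L [] (by simp) hL i hi
    rcases sq_eq_one_iff.1 ha2 with h' | h'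
    · exact h'
    · rw [h']
      exact neg_eq_iff_add_eq_zero.2 (by rw [← h2]; norm_num)
  · exact hF.sys_simple_of_square (hF.scT hH F) ha ha2 hi

include hF in
theorem sc_perfect_big {L : List (ℕ × ℕ × ℕ)} (hH : StHyp D) (hL : okPerf D false [] L = true) :
    Group.IsPerfect (D.SteinbergCover F) :=
  hF.sc_perfect_of_simple hH (hF.sys_perf_cert (hF.scC F) (fun h => absurd h Bool.false_ne_true) L [] (by simp) hL)

end Facts

theorem sc_perfect_all (hD : D ∈ [chevG2, chevB2, chevD4, chevF4, chevE6, chevE7, chevE8])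
    (h2 : D = chevG2 ∨ D = chevB2 → ∃ a : F, a ≠ 0 ∧ a ≠ 1) : Group.IsPerfect (D.SteinbergCover F) := by
  have hH := stHyp_of_mem hD
  obtain ⟨hF⟩ := facts_of_mem hD
  simp only [List.mem_cons, List.not_mem_nil, or_false] at hD
  rcases hD with rfl | rfl | rfl | rfl | rfl | rfl | rfl
  · exact hF.sc_perfect_small hH okPerfG2 (h2 (Or.inl rfl))
  · exact hF.sc_perfect_small hH okPerfB2 (h2 (Or.inr rfl))
  · exact hF.sc_perfect_big hH okPerfD4
  · exact hF.sc_perfect_big hH okPerfF4
  · exact hF.sc_perfect_big hH okPerfE6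
  · exact hF.sc_perfect_big hH okPerfE7
  · exact hF.sc_perfect_big hH okPerfE8

/-- Root lifts exist when the kernel has no element of the order of the characteristic and has roots on commutators. -/
theorem hasLift_natural {Γ : Type*} [Group Γ]
    (hD : D ∈ [chevG2, chevB2, chevD4, chevF4, chevE6, chevE7, chevE8])
    (h2 : D = chevG2 ∨ D = chevB2 → ∃ a : F, a ≠ 0 ∧ a ≠ 1) (hF : Facts D) (C : Central Γ ↥(D.group F))
    (hchar : ∀ p : ℕ, p.Prime → (p : F) = 0 → (∀ z ∈ C.π.ker, z ^ p = 1 → z = 1) ∧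
      ∀ z ∈ C.π.ker, z ∈ commutator Γ → ∃ w ∈ C.π.ker, w ^ p = z) : HasLift hF C := by
  have hperf : commutator ↥(D.group F) = ⊤ := hF.commutator_top_of_eq (derived_eq hD h2)
  by_cases hbig : ∃ s : Finset F, 4 < s.card
  · obtain ⟨s, hs⟩ := hbig
    simp only [List.mem_cons, List.not_mem_nil, or_false] at hD
    rcases hD with rfl | rfl | rfl | rfl | rfl | rfl | rfl
    · exact hasLift_G2 hF ⟨s, hs⟩ C
    · exact hasLift_B2 hF ⟨s, hs⟩ C
    · exact hasLift_D4 hF ⟨s, by omega⟩ C
    · exact hasLift_F4 hF ⟨s, by omega⟩ C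
    · exact hasLift_E6 hF C
    · exact hasLift_E7 hF C
    · exact hasLift_E8 hF C
  · have hfin : Finite F := by
      by_contra hinf
      rw [not_finite_iff_infinite] at hinf
      obtain ⟨s, hs⟩ := Infinite.exists_subset_card_eq F 5
      exact hbig ⟨s, by omega⟩
    obtain ⟨p, hp⟩ := CharP.exists F
    have hprime : p.Prime := (CharP.char_is_prime_or_zero F p).resolve_right (CharP.char_ne_zero_of_finite F p)
    have hp0 : (p : F) = 0 := CharP.cast_eq_zero F p
    obtain ⟨hno, hroot⟩ := hchar p hprime hp0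
    simp only [List.mem_cons, List.not_mem_nil, or_false] at hD
    rcases hD with rfl | rfl | rfl | rfl | rfl | rfl | rfl
    · exact hasLift_exponent hF C hperf hp0 hno hroot okPairG2
    · exact hasLift_exponent hF C hperf hp0 hno hroot okPairB2
    · exact hasLift_exponent hF C hperf hp0 hno hroot okPairD4
    · exact hasLift_exponent hF C hperf hp0 hno hroot okPairF4
    · exact hasLift_E6 hF C
    · exact hasLift_E7 hF C
    · exact hasLift_E8 hF C

section scalars

variable {L : Type*} [Field L] {n : ℕ}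

theorem center_gl_scalar {a : GL (Fin n) L} (ha : a ∈ Subgroup.center (GL (Fin n) L)) :
    ∃ c : L, (a : Matrix (Fin n) (Fin n) L) = Matrix.scalar (Fin n) c := by
  rw [Matrix.GeneralLinearGroup.center_eq_range_scalar] at ha
  obtain ⟨u, rfl⟩ := ha
  exact ⟨u, rfl⟩

theorem center_gl_pow_char {p : ℕ} (hp : p.Prime) (hp0 : (p : L) = 0) {a : GL (Fin n) L}
    (ha : a ∈ Subgroup.center (GL (Fin n) L)) (h : a ^ p = 1) : a = 1 := by
  rcases Nat.eq_zero_or_pos n with rfl | hn
  · exact Subsingleton.elim _ _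
  obtain ⟨c, hc⟩ := center_gl_scalar ha
  have : CharP L p := (CharP.charP_iff_prime_eq_zero hp).2 hp0
  have : Fact p.Prime := ⟨hp⟩
  have : Nonempty (Fin n) := ⟨⟨0, hn⟩⟩
  have h1 := congrArg (fun x : GL (Fin n) L => (x : Matrix (Fin n) (Fin n) L)) h
  rw [Units.val_pow_eq_pow_val, hc, ← map_pow, Units.val_one, ← map_one (Matrix.scalar (Fin n) (α := L))] at h1
  have h2 : c ^ p = 1 ^ p := by rw [one_pow]; exact Matrix.scalar_inj.1 h1
  have h3 : c = 1 := frobenius_inj L p h2
  exact Units.ext (by rw [hc, h3, map_one, Units.val_one])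

theorem center_gl_pow_dim {a : GL (Fin n) L} (ha : a ∈ Subgroup.center (GL (Fin n) L))
    (hdet : Matrix.GeneralLinearGroup.det a = 1) : a ^ n = 1 := by
  obtain ⟨c, hc⟩ := center_gl_scalar ha
  have h1 := congrArg Units.val hdet
  rw [Matrix.GeneralLinearGroup.val_det_apply, Units.val_one, hc, Matrix.scalar_apply, Matrix.det_diagonal,
    Finset.prod_const, Finset.card_univ, Fintype.card_fin] at h1
  refine Units.ext ?_
  rw [Units.val_pow_eq_pow_val, hc, ← map_pow, h1, map_one, Units.val_one]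

end scalars

/-- Projective representations of the group lift to the cover. -/
theorem exists_projective_lift {L : Type*} [Field L] {n : ℕ}
    (hD : D ∈ [chevG2, chevB2, chevD4, chevF4, chevE6, chevE7, chevE8])
    (h2 : D = chevG2 ∨ D = chevB2 → ∃ a : F, a ≠ 0 ∧ a ≠ 1) (hF : Facts D) (hL : ringChar L = ringChar F)
    (φ : ↥(D.group F) →* GL (Fin n) L ⧸ Subgroup.center (GL (Fin n) L)) :
    ∃! ψ : D.SteinbergCover F →* GL (Fin n) L,
      (QuotientGroup.mk' (Subgroup.center (GL (Fin n) L))).comp ψ = φ.comp (hF.scProjQ F) := by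
  have hperf := sc_perfect_all hD h2
  set Q := ↥(D.group F)
  set mk := QuotientGroup.mk' (Subgroup.center (GL (Fin n) L)) with hmk
  set P := MonoidHom.eqLocus (mk.comp (MonoidHom.fst (GL (Fin n) L) Q))
    (φ.comp (MonoidHom.snd (GL (Fin n) L) Q)) with hP
  let q : P →* Q := (MonoidHom.snd (GL (Fin n) L) Q).comp P.subtype
  let e : P →* GL (Fin n) L := (MonoidHom.fst (GL (Fin n) L) Q).comp P.subtype
  have hpe : ∀ x : P, mk (e x) = φ (q x) := fun x => x.2
  have hkc : ∀ x : P, q x = 1 → e x ∈ Subgroup.center (GL (Fin n) L) := fun x hx => by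
    rw [← QuotientGroup.eq_one_iff]
    show mk (e x) = 1
    rw [hpe, hx, map_one]
  have hinj : ∀ x : P, q x = 1 → e x = 1 → x = 1 := fun x h1 h2 => Subtype.ext (Prod.ext h2 h1)
  let C : Central P Q := ⟨q, fun g => by
      obtain ⟨v, hv⟩ := QuotientGroup.mk'_surjective _ (φ g)
      exact ⟨⟨(v, g), hv⟩, rfl⟩,
    fun x hx => by
      rw [Subgroup.mem_center_iff]
      intro y
      refine Subtype.ext (Prod.ext ?_ ?_)
      · exact Subgroup.mem_center_iff.1 (hkc x hx) (e y)
      · show q y * q x = q x * q y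
        rw [MonoidHom.mem_ker.1 hx, mul_one, one_mul]⟩
  have hlift : HasLift hF C := by
    refine hasLift_natural hD h2 hF C fun p hp hp0 => ?_
    have hpL : (p : L) = 0 := by
      have h' : ringChar F = p := ringChar.eq_iff.2 ((CharP.charP_iff_prime_eq_zero hp).2 hp0)
      rw [← h', ← hL]
      exact ringChar.Nat.cast_ringChar
    have hno : ∀ z ∈ C.π.ker, z ^ p = 1 → z = 1 := fun z hz hzp =>
      hinj z hz (center_gl_pow_char hp hpL (hkc z hz) (by rw [← map_pow, hzp, map_one]))
    refine ⟨hno, fun z hz hzc => ?_⟩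
    have hdet : Matrix.GeneralLinearGroup.det (e z) = 1 :=
      (Abelianization.commutator_subset_ker ((Matrix.GeneralLinearGroup.det).comp e)) hzc
    have hzn : z ^ n = 1 := hinj _ (by rw [map_pow, MonoidHom.mem_ker.1 hz, one_pow])
      (by rw [map_pow]; exact center_gl_pow_dim (hkc z hz) hdet)
    rcases Nat.eq_zero_or_pos n with hn | hn
    · subst hn
      exact ⟨1, one_mem _, by rw [one_pow]; exact (hinj z hz (Subsingleton.elim _ _)).symm⟩
    have hord : 0 < orderOf z := orderOf_pos_iff.2 (isOfFinOrder_iff_pow_eq_one.2 ⟨n, hn, hzn⟩)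
    have hcop : p.Coprime (orderOf z) := by
      rw [hp.coprime_iff_not_dvd]
      intro hdvd
      obtain ⟨k, hk⟩ := hdvd
      have hk1 : z ^ k = 1 := hno _ (Subgroup.pow_mem _ hz k)
        (by rw [← pow_mul, mul_comm, ← hk, pow_orderOf_eq_one])
      have hk0 : 0 < k := Nat.pos_of_ne_zero fun h => by rw [h, mul_zero] at hk; omega
      have := Nat.le_of_dvd hk0 (orderOf_dvd_of_pow_eq_one hk1)
      have := hp.two_le
      nlinarith
    obtain ⟨m, hm⟩ := exists_pow_eq_self_of_coprime hcop
    exact ⟨z ^ m, Subgroup.pow_mem _ hz m, by rw [← pow_mul, mul_comm, pow_mul, hm]⟩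
  obtain ⟨S, hS⟩ := hlift
  obtain ⟨τ, hτ⟩ := hF.sc_exists_hom S
  have hqτ : q.comp τ = hF.scProjQ F := PresentedGroup.ext fun p => by
    rw [MonoidHom.comp_apply, hτ, ← Facts.scGen_fin, hF.scProjQ_x]
    exact hS _ _
  refine ⟨e.comp τ, MonoidHom.ext fun g => ?_, fun τ' hτ' =>
    Cfsg.Agent.Solv.hom_unique_of_perfect hperf mk (le_of_eq (QuotientGroup.ker_mk' _))
      (hτ'.trans (MonoidHom.ext fun g => ?_))⟩
  all_goals
    simp only [MonoidHom.comp_apply, hpe]
    rw [show q (τ g) = hF.scProjQ F g from DFunLike.congr_fun hqτ g]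

end Cfsg.Agent.Lie
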