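import Cfsg.Agent.Lib.Lie.LiftBase

/-!
The lifts of one root subgroup commute when the field has more than four elements and some torus scales the
root by every nonzero scalar.
-/

set_option autoImplicit false

namespace Cfsg.Agent.Lie

open Cfsg.Lie
open scoped commutatorElement
open Cfsg.Agent.Small.SchurLifts

/-- A map turning sums into products, inverted by inversion of the argument and vanishing at one: Hua's
identity kills it over fields with more than four elements. -/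
theorem hua_trivial {K A : Type*} [Field K] [CommGroup A] (ψ : K → A)
    (hadd : ∀ x y, ψ (x + y) = ψ x * ψ y) (hinv : ∀ x, x ≠ 0 → ψ x⁻¹ = (ψ x)⁻¹)
    (hK : ∃ s : Finset K, 4 < s.card) : ∀ x, ψ x = 1 := by
  classical
  have h0 : ψ 0 = 1 := by simpa using hadd 0 0
  have hneg : ∀ x, ψ (-x) = (ψ x)⁻¹ := fun x => by
    rw [eq_inv_iff_mul_eq_one, ← hadd, neg_add_cancel, h0]
  have hsub : ∀ x y, ψ (x - y) = ψ x / ψ y := fun x y => by
    rw [sub_eq_add_neg, hadd, hneg, div_eq_mul_inv]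
  have key : ∀ a b : K, a ≠ 0 → b ≠ 0 → a * b ≠ 1 → ψ (a * a * b) = ψ a * ψ b := by
    intro a b ha hb hab
    have hd : b⁻¹ - a ≠ 0 := fun h => hab (by
      rw [sub_eq_zero] at h
      rw [← h, inv_mul_cancel₀ hb])
    have hd' : 1 - a * b ≠ 0 := sub_ne_zero.2 (Ne.symm hab)
    have hg : a⁻¹ + (b⁻¹ - a)⁻¹ = (a * (1 - a * b))⁻¹ := by
      field_simp
      ring
    have hg0 : a⁻¹ + (b⁻¹ - a)⁻¹ ≠ 0 := by
      rw [hg]; exact inv_ne_zero (mul_ne_zero ha hd')
    have e : a * a * b = a - (a⁻¹ + (b⁻¹ - a)⁻¹)⁻¹ := by rw [hg, inv_inv]; ring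
    rw [e, hsub, hinv _ hg0, div_inv_eq_mul, hadd, hinv a ha, hinv _ hd, hsub, hinv b hb,
      mul_inv_cancel_left, inv_div, div_inv_eq_mul]
  intro a
  by_cases ha : a = 0
  · rw [ha, h0]
  obtain ⟨s, hs⟩ := hK
  obtain ⟨b, hb⟩ : ∃ b, b ∈ s \ {0, a⁻¹} := by
    refine Finset.card_pos.1 (lt_of_lt_of_le ?_ (Finset.le_card_sdiff _ _))
    have : ({0, a⁻¹} : Finset K).card ≤ 2 := Finset.card_le_two
    omega
  obtain ⟨b', hb'⟩ : ∃ b', b' ∈ s \ {0, a⁻¹, -b, a⁻¹ - b} := by
    refine Finset.card_pos.1 (lt_of_lt_of_le ?_ (Finset.le_card_sdiff _ _))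
    have : ({0, a⁻¹, -b, a⁻¹ - b} : Finset K).card ≤ 4 := Finset.card_le_four
    omega
  simp only [Finset.mem_sdiff, Finset.mem_insert, Finset.mem_singleton, not_or] at hb hb'
  obtain ⟨-, b0, b1⟩ := hb
  obtain ⟨-, c0, c1, c2, c3⟩ := hb'
  have hne : ∀ x : K, x ≠ a⁻¹ → a * x ≠ 1 := fun x hx h => hx (eq_inv_of_mul_eq_one_right h)
  have h := key a (b + b') ha (fun h => c2 (eq_neg_of_add_eq_zero_right h))
    (hne _ fun h => c3 (eq_sub_of_add_eq' h))
  rw [mul_add, hadd, key a b ha b0 (hne b b1), key a b' ha c0 (hne b' c1), hadd,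
    mul_mul_mul_comm] at h
  exact mul_eq_left.1 (mul_right_cancel h)

namespace Facts

variable {D : ChevalleyDatum} {F : Type*} [Field F] (hF : Facts D) {Γ : Type*} [Group Γ]
  {C : Central Γ ↥(D.group F)}

/-- The self pairing vanishes. -/
theorem zp_self {r : ℕ} (hr : r < D.nroots) (hK : ∃ s : Finset F, 4 < s.card) (e : ℕ → ℤ)
    (he : psiOf D e r = 1) : hF.Zp C r r := by
  have hfg : ∀ t u : F, Commute (hF.xq r t) (hF.xq r u) :=
    hF.xq_commute hr hr (Ne.symm (hF.neg_ne_self hr)) (Or.inl rfl)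
  have hinvar : ∀ a t u : F, a ≠ 0 →
      C.pair (fun t => hF.xq r t) (fun t => hF.xq r t) (a * t) (a * u) =
        C.pair (fun t => hF.xq r t) (fun t => hF.xq r t) t u := by
    intro a t u ha
    have h1 : ∀ v : F, hF.tq (powC e (Units.mk0 a ha)) * hF.xq r v * (hF.tq (powC e (Units.mk0 a ha)))⁻¹ =
        hF.xq r (a * v) := fun v => by
      rw [hF.tq_conj _ hr, hF.torChar_powC, he, _root_.zpow_one, Units.val_mk0]
    exact C.pair_invariant hfg (h1 t) (h1 u)
  let ψ : F → Subgroup.center Γ := fun x =>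
    ⟨C.pair (fun t => hF.xq r t) (fun t => hF.xq r t) 1 x, C.pair_central hfg 1 x⟩
  let _ : CommGroup ↥(Subgroup.center Γ) :=
    { (inferInstance : Group ↥(Subgroup.center Γ)) with
      mul_comm := fun a b => Subtype.ext (Subgroup.mem_center_iff.1 b.2 a) }
  have hψ : ∀ x, ψ x = 1 := by
    refine hua_trivial ψ (fun x y => Subtype.ext ?_) (fun x hx => Subtype.ext ?_) hK
    · exact C.pair_add_right hfg (fun v v' => hF.xq_add r v v') 1 x y
    · show C.pair _ _ 1 x⁻¹ = (C.pair _ _ 1 x)⁻¹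
      rw [← hinvar x 1 x⁻¹ hx, mul_one, mul_inv_cancel₀ hx]
      exact (commutatorElement_inv _ _).symm
  intro t u
  refine commutatorElement_eq_one_iff_mul_comm.1 ?_
  by_cases ht : t = 0
  · subst ht
    have : C.π (C.L (hF.xq r (0 : F))) = C.π 1 := by rw [C.π_L, hF.xq_zero, map_one]
    rw [C.comm_left this]
    exact commutatorElement_eq_one_iff_mul_comm.2 (by rw [one_mul, mul_one])
  · have h := hinvar t 1 (u / t) ht
    rw [mul_one, mul_div_cancel₀ u ht] at h
    exact h.trans (congrArg Subtype.val (hψ (u / t)))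

end Facts

end Cfsg.Agent.Lie
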