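import Cfsg.Agent.Lib.Lie.LiftMain

/-!
Lifts of root elements for B2 over the fields with three and four elements and D4 over the field with three
elements.
-/

set_option autoImplicit false
set_option linter.unusedSectionVars false

namespace Cfsg.Agent.Lie

open Cfsg.Lie
open scoped commutatorElement
open Cfsg.Agent.Small.SchurLifts

variable {D : ChevalleyDatum} {F : Type*} [Field F]

namespace Facts

variable (hF : Facts D) {Γ : Type*} [Group Γ] {C : Central Γ ↥(D.group F)}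

/-- Over a prime field the lifts of one root subgroup commute. -/
theorem zp_prime_field {r : ℕ} (hn : ∀ t : F, ∃ n : ℕ, (n : F) = t) : hF.Zp C r r := by
  intro t u
  obtain ⟨m, rfl⟩ := hn t
  obtain ⟨n, rfl⟩ := hn u
  have h : ∀ n : ℕ, C.π (C.L (hF.xq r (1 : F)) ^ n) = hF.xq r (n : F) := by
    intro n
    rw [map_pow, C.π_L]
    induction n with
    | zero => rw [pow_zero, Nat.cast_zero, hF.xq_zero]
    | succ n ih => rw [pow_succ, ih, hF.xq_add, Nat.cast_succ]
  exact C.commute_indep (by rw [C.π_L, h]) (by rw [C.π_L, h]) (Commute.pow_pow_self _ m n)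

/-- A root commuting with a and b modulo lifts commuting with a commutes with the sum. -/
theorem zp_sum {r s a b : ℕ} {c : F} (hc : c ≠ 0)
    (hab : ∀ v : F, C.π ⁅C.L (hF.xq a v), C.L (hF.xq b 1)⁆ = hF.xq s (c * v))
    (hra : ∀ t v : F, Commute (hF.xq r t) (hF.xq a v))
    (hrb : ∀ t : F, ∀ v : F, ∃ W : Γ,
      hF.xq r t * hF.xq b 1 * (hF.xq r t)⁻¹ = hF.xq b 1 * C.π W ∧ Commute (C.L (hF.xq a v)) W) :
    hF.Zp C r s := by
  intro t u
  set v := u / c with hv
  set X := C.L (hF.xq r t) with hX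
  obtain ⟨W, hW, hAW⟩ := hrb t v
  refine C.commute_indep (a' := X) (b' := ⁅C.L (hF.xq a v), C.L (hF.xq b 1)⁆) rfl ?_ ?_
  · rw [C.π_L, hab, hv, mul_div_cancel₀ _ hc]
  · have h1 : X * ⁅C.L (hF.xq a v), C.L (hF.xq b 1)⁆ * X⁻¹ =
        ⁅C.L (hF.xq a v), C.L (hF.xq b 1) * W⁆ := by
      refine C.conj_comm ?_ ?_
      · rw [map_mul, map_mul, map_inv, hX, C.π_L, C.π_L, (hra t v).eq, mul_inv_cancel_right]
      · rw [map_mul, map_mul, map_inv, map_mul, hX, C.π_L, C.π_L, hW]
    have h2 : ⁅C.L (hF.xq a v), C.L (hF.xq b 1) * W⁆ = ⁅C.L (hF.xq a v), C.L (hF.xq b 1)⁆ := by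
      have e : ⁅C.L (hF.xq a v), C.L (hF.xq b 1) * W⁆ = ⁅C.L (hF.xq a v), C.L (hF.xq b 1)⁆ *
          (C.L (hF.xq b 1) * ⁅C.L (hF.xq a v), W⁆ * (C.L (hF.xq b 1))⁻¹) := by
        simp only [commutatorElement_def]; group
      rw [e, commutatorElement_eq_one_iff_mul_comm.2 hAW.eq]; group
    rw [h2] at h1
    exact mul_inv_eq_iff_eq_mul.1 h1

include hF in
theorem π_comm_single {a b k : ℕ} {c : ℤ} (ha : a < D.nroots) (hb : b < D.nroots) (h1 : b ≠ a)
    (h2 : b ≠ D.neg a) (he : D.commTerms a b = [(k, c, 1, 1)])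
    (hka : k = a ∨ D.commTerms a k = []) (hka' : k ≠ D.neg a)
    (hkb : k = b ∨ D.commTerms b k = []) (hkb' : k ≠ D.neg b) (t u : F) :
    C.π ⁅C.L (hF.xq a t), C.L (hF.xq b u)⁆ = hF.xq k ((c : F) * t * u) := by
  have hk : k < D.nroots := hF.commTerms_lt ha hb _ (by rw [he]; exact List.mem_singleton.2 rfl)
  have e := hF.xq_comm ha hb h1 h2 t u
  simp only [ChevalleyDatum.commWord, he, List.map_cons, List.map_nil, List.prod_cons, List.prod_nil,
    mul_one, pow_one, mul_neg, neg_mul] at e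
  rw [hF.xq_neg] at e
  have ca := hF.xq_commute ha hk hka' hka t ((c : F) * t * u)
  have cb := hF.xq_commute hb hk hkb' hkb u ((c : F) * t * u)
  have e' : hF.xq a t * hF.xq b u = hF.xq b u * hF.xq a t * hF.xq k ((c : F) * t * u) := by
    rw [e, inv_mul_cancel_right]
  rw [map_commutatorElement, C.π_L, C.π_L, commutatorElement_def, e',
    mul_assoc (hF.xq b u) (hF.xq a t), ca.eq, ← mul_assoc (hF.xq b u), cb.eq]
  group

/-- The identity between the pairings of (r, a + b) and (r + a, b). -/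
theorem pair_step {r s a b k : ℕ} {c e : F}
    (hab : C.π ⁅C.L (hF.xq a (1 : F)), C.L (hF.xq b (1 : F))⁆ = hF.xq s e)
    (hra : C.π ⁅C.L (hF.xq r (1 : F)), C.L (hF.xq a (1 : F))⁆ = hF.xq k c)
    (hrb : ∀ t u : F, Commute (hF.xq r t) (hF.xq b u)) (hks : hF.Zp C k s)
    (hkb : ∀ t u : F, Commute (hF.xq k t) (hF.xq b u)) :
    C.pair (fun t => hF.xq r t) (fun u => hF.xq s u) 1 e =
      C.pair (fun t => hF.xq k t) (fun u => hF.xq b u) c 1 := by
  set X := C.L (hF.xq r (1 : F)) with hX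
  set A := C.L (hF.xq a (1 : F)) with hA
  set B := C.L (hF.xq b (1 : F)) with hB
  set K := C.L (hF.xq k c) with hK
  have h1 : X * ⁅A, B⁆ * X⁻¹ = ⁅K * A, B⁆ := by
    refine C.conj_comm ?_ ?_
    · rw [map_mul C.π K, map_mul, map_mul, map_inv,
        show C.π K = hF.xq k c from C.π_L _, ← hra, map_commutatorElement, commutatorElement_def]
      group
    · rw [map_mul, map_mul, map_inv, hX, hB, C.π_L, C.π_L, (hrb _ _).eq, mul_inv_cancel_right]
  have h2 : ⁅K * A, B⁆ = K * ⁅A, B⁆ * K⁻¹ * ⁅K, B⁆ := by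
    simp only [commutatorElement_def]; group
  have h3 : Commute K ⁅A, B⁆ := hF.zp_lift hks (C.π_L _) hab
  have h4 : ⁅K, B⁆ ∈ Subgroup.center Γ := C.pair_central (f := fun t => hF.xq k t) (g := fun u => hF.xq b u) hkb c 1
  show ⁅X, C.L (hF.xq s e)⁆ = ⁅K, B⁆
  rw [C.comm_right X (b' := ⁅A, B⁆) (by rw [C.π_L, hab]), commutatorElement_def X, h1, h2, h3.eq,
    mul_inv_cancel_right, Subgroup.mem_center_iff.1 h4, mul_inv_cancel_right]

theorem three_cases (h3 : (3 : F) = 0) (hn : ∀ t : F, ∃ n : ℕ, (n : F) = t) (t : F) :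
    t = 0 ∨ t = 1 ∨ t = -1 := by
  obtain ⟨n, rfl⟩ := hn t
  induction n with
  | zero => simp
  | succ n ih =>
    rw [Nat.cast_succ]
    rcases ih with h | h | h <;> rw [h]
    · simp
    · exact Or.inr (Or.inr (by linear_combination h3))
    · simp

/-- A pairing over the field with three elements related to its transpose vanishes. -/
theorem zp_three {r s k b : ℕ} {c e c' e' : F} (h3 : (3 : F) = 0)
    (hn : ∀ t : F, ∃ n : ℕ, (n : F) = t)
    (hrs : ∀ t u : F, Commute (hF.xq r t) (hF.xq s u))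
    (hkb : ∀ t u : F, Commute (hF.xq k t) (hF.xq b u))
    (hkeep : (c, e, c', e') = (1, 1, 1, 1) ∨ (c, e, c', e') = (-1, -1, 1, 1) ∨ (c, e, c', e') = (-1, 1, -1, 1))
    (step1 : C.pair (fun t => hF.xq k t) (fun u => hF.xq b u) 1 e =
      C.pair (fun t => hF.xq r t) (fun u => hF.xq s u) c 1)
    (step2 : C.pair (fun t => hF.xq s t) (fun u => hF.xq r u) 1 e' =
      C.pair (fun t => hF.xq k t) (fun u => hF.xq b u) c' 1) : hF.Zp C r s := by
  let p : F → F → Γ := C.pair (fun t => hF.xq r t) (fun u => hF.xq s u)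
  let q : F → F → Γ := C.pair (fun t => hF.xq k t) (fun u => hF.xq b u)
  have hpr : ∀ t u v, p t (u + v) = p t u * p t v := fun t u v =>
    C.pair_add_right hrs (fun x y => hF.xq_add s x y) t u v
  have hpl : ∀ t t' u, p (t + t') u = p t' u * p t u := fun t t' u =>
    C.pair_add_left hrs (fun x y => hF.xq_add r x y) t t' u
  have hqr : ∀ t u v, q t (u + v) = q t u * q t v := fun t u v =>
    C.pair_add_right hkb (fun x y => hF.xq_add b x y) t u v
  have hql : ∀ t t' u, q (t + t') u = q t' u * q t u := fun t t' u =>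
    C.pair_add_left hkb (fun x y => hF.xq_add k x y) t t' u
  have zero_r : ∀ t, p t 0 = 1 := fun t => by
    have := hpr t 0 0; rwa [add_zero, left_eq_mul] at this
  have zero_l : ∀ u, p 0 u = 1 := fun u => by
    have := hpl 0 0 u; rwa [add_zero, left_eq_mul] at this
  have negr : ∀ t u, p t (-u) = (p t u)⁻¹ := fun t u => by
    rw [eq_inv_iff_mul_eq_one, ← hpr, neg_add_cancel, zero_r]
  have negl : ∀ t u, p (-t) u = (p t u)⁻¹ := fun t u => by
    rw [eq_inv_iff_mul_eq_one, ← hpl, add_neg_cancel, zero_l]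
  have qnegr : ∀ t u, q t (-u) = (q t u)⁻¹ := fun t u => by
    have z : q t 0 = 1 := by have := hqr t 0 0; rwa [add_zero, left_eq_mul] at this
    rw [eq_inv_iff_mul_eq_one, ← hqr, neg_add_cancel, z]
  have qnegl : ∀ t u, q (-t) u = (q t u)⁻¹ := fun t u => by
    have z : q 0 u = 1 := by have := hql 0 0 u; rwa [add_zero, left_eq_mul] at this
    rw [eq_inv_iff_mul_eq_one, ← hql, add_neg_cancel, z]
  change q 1 e = p c 1 at step1
  change ⁅C.L (hF.xq s (1 : F)), C.L (hF.xq r e')⁆ = q c' 1 at step2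
  rw [← commutatorElement_inv] at step2
  change (p e' 1)⁻¹ = q c' 1 at step2
  have hsq : p 1 1 * p 1 1 = 1 := by
    simp only [Prod.mk.injEq] at hkeep
    rcases hkeep with ⟨hc, he, hc', he'⟩ | ⟨hc, he, hc', he'⟩ | ⟨hc, he, hc', he'⟩ <;>
      subst hc <;> subst he <;> subst hc' <;> subst he'
    · rw [step1] at step2; exact inv_eq_iff_mul_eq_one.1 step2
    · rw [negl, qnegr, inv_inj] at step1
      rw [step1] at step2; exact inv_eq_iff_mul_eq_one.1 step2
    · rw [negl] at step1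
      rw [qnegl, inv_inj, step1] at step2
      exact inv_eq_iff_mul_eq_one.1 step2.symm
  have h1 : p 1 1 = 1 := by
    have e2 : p 1 (1 + 1 + 1) = 1 := by
      rw [show (1 : F) + 1 + 1 = 0 by linear_combination h3, zero_r]
    rwa [hpr, hpr, hsq, one_mul] at e2
  intro t u
  refine commutatorElement_eq_one_iff_mul_comm.1 ?_
  show p t u = 1
  rcases three_cases h3 hn t with rfl | rfl | rfl <;> rcases three_cases h3 hn u with rfl | rfl | rfl <;>
    simp [zero_l, zero_r, negl, negr, h1]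

end Facts

end Cfsg.Agent.Lie
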