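import Cfsg.Agent.Lib.Lie.LiftSelf
import Cfsg.Agent.Lib.Lie.LiftNormalForm

/-!
Canonical lifts of root elements through torus commutators, and the commutator formula for them.
-/

set_option autoImplicit false
set_option linter.unusedSectionVars false

namespace Cfsg.Agent.Lie

open Cfsg.Lie
open scoped commutatorElement
open Cfsg.Agent.Small.SchurLifts

variable {D : ChevalleyDatum} {F : Type*} [Field F]

/-- The certificate for the commutator formula of a pair: a word moving it to a pair whose terms and second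
root form a closed positive list with simpler commutators, and a torus separating the two roots. -/
def okLiftPair (D : ChevalleyDatum) (J : List ℕ) (r s : ℕ) (cert : List ℕ × List ℕ × List ℤ) : Bool :=
  let r' := cert.1.foldr D.reflectRoot r
  let s' := cert.1.foldr D.reflectRoot s
  let L := cert.2.1
  let e : ℕ → ℤ := fun i => cert.2.2.getD i 0
  cert.1.all (fun i => decide (i < D.rank)) &&
  decide (L.Pairwise (· < ·)) &&
  L.all (fun a => decide (D.nroots / 2 ≤ a) && decide (a < D.nroots)) &&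
  L.all (fun a => L.all fun b => a == b || (D.commTerms a b).all fun c => L.contains c.1) &&
  L.all (fun a => L.all fun b =>
    !(decide (a < b)) || decide ((D.commTerms a b).length < (D.commTerms r s).length)) &&
  L.contains s' &&
  (D.commTerms r' s').all (fun c => L.contains c.1) &&
  decide (psiOf D e r' = 0) &&
  decide ((psiOf D e s').natAbs ∈ J)

namespace Facts

variable (hF : Facts D) {Γ : Type*} [Group Γ] (C : Central Γ ↥(D.group F))

/-- The lift of x_r(t) as a torus commutator. -/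
noncomputable def torLift (c : Fin D.rank → Fˣ) (r : ℕ) (t : F) : Γ :=
  ⁅C.L (hF.tq c), C.L (hF.xq r (t / ((torChar D c r : F) - 1)))⁆

variable {C}

theorem π_torLift {c : Fin D.rank → Fˣ} {r : ℕ} (hr : r < D.nroots) (hc : torChar D c r ≠ 1) (t : F) :
    C.π (hF.torLift C c r t) = hF.xq r t := by
  have hne : (torChar D c r : F) - 1 ≠ 0 := sub_ne_zero.2 fun h => hc (Units.ext h)
  rw [torLift, map_commutatorElement, C.π_L, C.π_L, commutatorElement_def, hF.tq_conj c hr, ← hF.xq_neg,
    hF.xq_add]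
  congr 1
  field_simp
  ring

theorem torLift_add {c : Fin D.rank → Fˣ} {r : ℕ} (hr : r < D.nroots) (_hc : torChar D c r ≠ 1)
    (hz : hF.Zp C r r) (t t' : F) :
    hF.torLift C c r (t + t') = hF.torLift C c r t * hF.torLift C c r t' := by
  simp only [torLift, add_div]
  refine C.add_right (fun v => hF.xq r v) (fun v v' => hF.xq_add r v v') _ _ ?_
  refine hF.zp_lift hz (C.π_L _) (u := (torChar D c r : F) * (t' / ((torChar D c r : F) - 1)) +
    -(t' / ((torChar D c r : F) - 1))) ?_
  rw [map_commutatorElement, C.π_L, C.π_L, commutatorElement_def, hF.tq_conj c hr, ← hF.xq_neg, hF.xq_add]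

theorem torLift_conj {c c' : Fin D.rank → Fˣ} {r r' : ℕ} (g : Γ) (a : F)
    (h1 : C.π g * hF.tq c * (C.π g)⁻¹ = hF.tq c')
    (h2 : ∀ v, C.π g * hF.xq r v * (C.π g)⁻¹ = hF.xq r' (a * v))
    (hk : torChar D c' r' = torChar D c r) (t : F) :
    g * hF.torLift C c r t * g⁻¹ = hF.torLift C c' r' (a * t) := by
  rw [torLift, torLift, hk]
  refine C.conj_comm ?_ ?_
  · rw [map_mul, map_mul, map_inv, C.π_L, C.π_L, h1]
  · rw [map_mul, map_mul, map_inv, C.π_L, C.π_L, h2, mul_div_assoc]

/-- The lift does not depend on the torus element. -/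
theorem torLift_indep {c c' : Fin D.rank → Fˣ} {r : ℕ} (hr : r < D.nroots) (hc : torChar D c r ≠ 1)
    (hc' : torChar D c' r ≠ 1) (hz : hF.Zp C r r) (t : F) :
    hF.torLift C c' r t = hF.torLift C c r t := by
  set k := (torChar D c r : F) with hk
  have hne : k - 1 ≠ 0 := sub_ne_zero.2 fun h => hc (Units.ext h)
  have h1 : C.L (hF.tq c) * hF.torLift C c' r (t / (k - 1)) * (C.L (hF.tq c))⁻¹ =
      hF.torLift C c' r (k * (t / (k - 1))) :=
    hF.torLift_conj (C.L (hF.tq c)) k (by rw [C.π_L, hF.tq_comm c c', mul_inv_cancel_right])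
      (fun v => by rw [C.π_L]; exact hF.tq_conj c hr v) rfl _
  have h2 : ⁅C.L (hF.tq c), hF.torLift C c' r (t / (k - 1))⁆ = hF.torLift C c r t := by
    exact C.comm_right _ (b' := C.L (hF.xq r (t / (k - 1)))) (by rw [hF.π_torLift hr hc', C.π_L])
  rw [← h2, commutatorElement_def, h1,
    show k * (t / (k - 1)) = t + t / (k - 1) by field_simp; ring, hF.torLift_add hr hc' hz,
    mul_inv_cancel_right]

variable (C)

/-- What the torus method needs. -/
structure TorHyp : Prop where
  reg : ∀ r, r < D.nroots → ∃ c : Fin D.rank → Fˣ, torChar D c r ≠ 1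
  zero : ∀ r s, r < D.nroots → s < D.nroots → s ≠ D.neg r →
    (s = r ∨ D.commTerms r s = []) → hF.Zp C r s

variable {C}

open Classical in
/-- The canonical lift. -/
noncomputable def yT (h : hF.TorHyp C) (r : ℕ) (t : F) : Γ :=
  if hr : r < D.nroots then hF.torLift C (h.reg r hr).choose r t else 1

variable (h : hF.TorHyp C)

theorem zp_selfT {r : ℕ} (hr : r < D.nroots) (h : hF.TorHyp C) : hF.Zp C r r :=
  h.zero r r hr hr (Ne.symm (hF.neg_ne_self hr)) (Or.inl rfl)

theorem yT_eq {r : ℕ} (hr : r < D.nroots) {c : Fin D.rank → Fˣ} (hc : torChar D c r ≠ 1) (t : F) :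
    hF.yT h r t = hF.torLift C c r t := by
  rw [yT, dif_pos hr]
  exact hF.torLift_indep hr hc (h.reg r hr).choose_spec (hF.zp_selfT hr h) t

theorem π_yT (r : ℕ) (t : F) : C.π (hF.yT h r t) = hF.xq r t := by
  by_cases hr : r < D.nroots
  · rw [yT, dif_pos hr]; exact hF.π_torLift hr (h.reg r hr).choose_spec t
  · rw [yT, dif_neg hr, map_one, hF.xq_out (not_lt.1 hr)]

theorem yT_add (r : ℕ) (t t' : F) : hF.yT h r (t + t') = hF.yT h r t * hF.yT h r t' := by
  by_cases hr : r < D.nroots
  · simp only [yT, dif_pos hr]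
    exact hF.torLift_add hr (h.reg r hr).choose_spec (hF.zp_selfT hr h) t t'
  · simp [yT, hr]

theorem yT_tq (d : Fin D.rank → Fˣ) {r : ℕ} (hr : r < D.nroots) (t : F) :
    C.L (hF.tq d) * hF.yT h r t * (C.L (hF.tq d))⁻¹ = hF.yT h r ((torChar D d r : F) * t) := by
  rw [yT, yT, dif_pos hr, dif_pos hr]
  exact hF.torLift_conj _ _ (by rw [C.π_L, hF.tq_comm d, mul_inv_cancel_right])
    (fun v => by rw [C.π_L]; exact hF.tq_conj d hr v) rfl t

theorem yT_nq {i : ℕ} (hi : i < D.rank) {r : ℕ} (hr : r < D.nroots) (t : F) :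
    C.L (hF.nq F i) * hF.yT h r t * (C.L (hF.nq F i))⁻¹ =
      hF.yT h (D.reflectRoot i r) (hF.sgn F i r * t) := by
  obtain ⟨c', h1, h2⟩ := hF.exists_conj_tq hi (h.reg r hr).choose
  have hk := h2 r hr
  rw [hF.yT_eq h (hF.refl_lt i hi r hr) (c := c') (hk ▸ (h.reg r hr).choose_spec), yT, dif_pos hr]
  exact hF.torLift_conj _ _ (by rw [C.π_L, h1]) (fun v => by rw [C.π_L]; exact hF.nq_conj hi hr v) hk t

/-- A family of additive lifts, equivariant under the torus and the n_i. -/
structure YLift (C : Central Γ ↥(D.group F)) where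
  y : ℕ → F → Γ
  out : ∀ r t, D.nroots ≤ r → y r t = 1
  proj : ∀ r t, C.π (y r t) = hF.xq r t
  add : ∀ r t t', y r (t + t') = y r t * y r t'
  conj_tq : ∀ (d : Fin D.rank → Fˣ) {r : ℕ}, r < D.nroots → ∀ t,
    C.L (hF.tq d) * y r t * (C.L (hF.tq d))⁻¹ = y r ((torChar D d r : F) * t)
  conj_nq : ∀ {i : ℕ}, i < D.rank → ∀ {r : ℕ}, r < D.nroots → ∀ t,
    C.L (hF.nq F i) * y r t * (C.L (hF.nq F i))⁻¹ = y (D.reflectRoot i r) (hF.sgn F i r * t)

/-- The canonical lifts as a family. -/
noncomputable def yLift : hF.YLift C where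
  y := hF.yT h
  out _ _ hr := dif_neg (not_lt.2 hr)
  proj := hF.π_yT h
  add := hF.yT_add h
  conj_tq := hF.yT_tq h
  conj_nq := hF.yT_nq h

variable (Y : hF.YLift C)

/-- The commutator formula for the lifts. -/
def R2T (r s : ℕ) : Prop := ∀ t u : F, Y.y s u * Y.y r t =
  Y.y r t * Y.y s u * ((D.commWord F r s t u).map fun p => Y.y p.1 p.2).prod

theorem r2T_refl {i r s : ℕ} (hi : i < D.rank) (hr : r < D.nroots) (hs : s < D.nroots)
    (hrs : hF.R2T Y r s) : hF.R2T Y (D.reflectRoot i r) (D.reflectRoot i s) := by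
  intro t u
  have hsr := hF.sgn_mul_self (F := F) hi hr
  have hss := hF.sgn_mul_self (F := F) hi hs
  set g := C.L (hF.nq F i) with hg
  have h0 := congrArg (fun z => g * z * g⁻¹) (hrs (hF.sgn F i r * t) (hF.sgn F i s * u))
  have e1 : hF.sgn F i r * (hF.sgn F i r * t) = t := by rw [← mul_assoc, hsr, one_mul]
  have e2 : hF.sgn F i s * (hF.sgn F i s * u) = u := by rw [← mul_assoc, hss, one_mul]
  simp only [← conj_mul] at h0
  simp only [hg, Y.conj_nq hi hr, Y.conj_nq hi hs, e1, e2] at h0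
  rw [h0, ← hg, show ∀ z, g * z * g⁻¹ = (MulAut.conj g).toMonoidHom z from fun z => rfl, map_list_prod,
    List.map_map, ← hF.commWord_refl hi hr hs, List.map_map]
  congr 2
  refine List.map_congr_left fun p hp => ?_
  obtain ⟨c, hc, rfl⟩ := List.mem_map.1 hp
  show g * _ * g⁻¹ = _
  rw [hg, Y.conj_nq hi (hF.commTerms_lt hr hs c hc)]
  rfl

theorem r2T_word : ∀ (ω : List ℕ), (∀ i ∈ ω, i < D.rank) → ∀ {r s : ℕ}, r < D.nroots → s < D.nroots →
    hF.R2T Y (ω.foldr D.reflectRoot r) (ω.foldr D.reflectRoot s) → hF.R2T Y r s := by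
  intro ω
  induction ω with
  | nil => intro _ r s _ _ hrs; exact hrs
  | cons i ω ih =>
    intro hω r s hr hs hrs
    have hi := hω i (by simp)
    have hω' : ∀ j ∈ ω, j < D.rank := fun j hj => hω j (List.mem_cons_of_mem _ hj)
    have hlt : ∀ a, a < D.nroots → ω.foldr D.reflectRoot a < D.nroots := by
      intro a ha
      clear ih hrs hω
      induction ω with
      | nil => exact ha
      | cons j ω ih => exact hF.refl_lt j (hω' j (by simp)) _ (ih fun k hk => hω' k (List.mem_cons_of_mem _ hk))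
    refine ih hω' hr hs ?_
    have := hF.r2T_refl Y hi (hF.refl_lt i hi _ (hlt r hr)) (hF.refl_lt i hi _ (hlt s hs)) hrs
    rwa [hF.refl_refl i hi _ (hlt r hr), hF.refl_refl i hi _ (hlt s hs)] at this

include hF in
theorem foldr_refl_lt {ω : List ℕ} (hω : ∀ i ∈ ω, i < D.rank) {a : ℕ} (ha : a < D.nroots) :
    ω.foldr D.reflectRoot a < D.nroots := by
  induction ω with
  | nil => exact ha
  | cons j ω ih => exact hF.refl_lt j (hω j (by simp)) _ (ih fun k hk => hω k (List.mem_cons_of_mem _ hk))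

theorem r2T_closed {r s : ℕ} (hr : r < D.nroots) (hs : s < D.nroots) {L : List ℕ} (hL : ClosedList D L)
    (hsL : s ∈ L) (hterms : ∀ c ∈ D.commTerms r s, c.1 ∈ L) (hne : s ≠ r) (hne' : s ≠ D.neg r)
    (hknown : ∀ a ∈ L, ∀ b ∈ L, a < b → hF.R2T Y a b)
    (d : Fin D.rank → Fˣ) (hdr : torChar D d r = 1) (hds : torChar D d s ≠ 1) : hF.R2T Y r s := by
  intro t
  let P : PartSys D F Γ L :=
    { x := Y.y
      x_add := fun a _ => Y.add a
      x_comm := fun a ha b hb hab => hknown a ha b hb hab }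
  set S := Subgroup.closure {g : Γ | ∃ a ∈ L, ∃ v, P.x a v = g} with hS
  let W : F → Γ := fun u => ((D.commWord F r s t u).map fun p => Y.y p.1 p.2).prod
  let E : F → Γ := fun u => Y.y s u * W u
  let Δ : F → Γ := fun u => (Y.y r t)⁻¹ * Y.y s u * Y.y r t
  have hE : ∀ u, E u ∈ S := fun u => mul_mem (Subgroup.subset_closure ⟨s, hsL, u, rfl⟩)
    (S.list_prod_mem fun y hy => by
      obtain ⟨p, hp, rfl⟩ := List.mem_map.1 hy
      obtain ⟨c, hc, rfl⟩ := List.mem_map.1 hp
      exact Subgroup.subset_closure ⟨c.1, hterms c hc, _, rfl⟩)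
  have hπW : ∀ u, C.π (W u) = ((D.commWord F r s t u).map fun p => hF.xq p.1 p.2).prod := fun u => by
    simp only [W, map_list_prod, List.map_map]
    congr 1
    exact List.map_congr_left fun p _ => Y.proj _ _
  have hπ : ∀ u, C.π (Δ u) = C.π (E u) := fun u => by
    simp only [Δ, E, map_mul, map_inv, Y.proj, hπW]
    rw [mul_assoc _ (hF.xq s u) (hF.xq r t), hF.xq_comm hr hs hne hne' t u]
    group
  have hΔ : ∀ u u', Δ (u + u') = Δ u * Δ u' := fun u u' => by
    simp only [Δ, Y.add]; group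
  let z : F → Γ := fun u => (E u)⁻¹ * Δ u
  have hz : ∀ u, z u ∈ Subgroup.center Γ := fun u => C.central (by
    rw [MonoidHom.mem_ker, map_mul, map_inv, hπ, inv_mul_cancel])
  have hzadd : ∀ u u', z (u + u') = z u * z u' := fun u u' => by
    have e : E (u + u') = E u * E u' := by
      refine P.eq_of_image hF hL C.π (D.group F).subtype (fun a _ v => ?_) (hE _) (mul_mem (hE _) (hE _)) ?_
      · exact congrArg Subtype.val (Y.proj a v)
      · rw [map_mul C.π (E u) (E u'), ← hπ, ← hπ, ← hπ, ← map_mul, hΔ]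
    simp only [z, e, hΔ]
    rw [_root_.mul_inv_rev, mul_assoc (E u')⁻¹, ← mul_assoc (E u)⁻¹ (Δ u)]
    rw [← mul_assoc (E u')⁻¹, Subgroup.mem_center_iff.1 (hz u) (E u')⁻¹, mul_assoc]
  have hzinv : ∀ u, z ((torChar D d s : F) * u) = z u := fun u => by
    set g := C.L (hF.tq d) with hg
    have h1 : g * Δ u * g⁻¹ = Δ ((torChar D d s : F) * u) := by
      simp only [Δ]
      have e : g * ((Y.y r t)⁻¹ * Y.y s u * Y.y r t) * g⁻¹ =
          (g * Y.y r t * g⁻¹)⁻¹ * (g * Y.y s u * g⁻¹) * (g * Y.y r t * g⁻¹) := by group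
      rw [e, hg, Y.conj_tq d hr, Y.conj_tq d hs, hdr, Units.val_one, one_mul]
    have h2 : g * E u * g⁻¹ = E ((torChar D d s : F) * u) := by
      simp only [E, W]
      rw [← conj_mul, hg, Y.conj_tq d hs, ← hg]
      congr 1
      rw [show ∀ z, g * z * g⁻¹ = (MulAut.conj g).toMonoidHom z from fun z => rfl, map_list_prod,
        List.map_map]
      simp only [ChevalleyDatum.commWord, List.map_map]
      congr 1
      refine List.map_congr_left fun c hc => ?_
      have hcl := hF.commTerms_lt hr hs c hc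
      show g * _ * g⁻¹ = _
      rw [hg, Y.conj_tq d hcl]
      have e : torChar D d c.1 = torChar D d r ^ c.2.2.1 * torChar D d s ^ c.2.2.2 := by
        simp only [torChar, ← Finset.prod_pow, ← Finset.prod_mul_distrib]
        refine Finset.prod_congr rfl fun i _ => ?_
        rw [(hF.commTerms_psi hr hs hc).2.2 i.val i.isLt, _root_.zpow_add, mul_comm (c.2.2.1 : ℤ),
          mul_comm (c.2.2.2 : ℤ), _root_.zpow_mul, _root_.zpow_mul, zpow_natCast, zpow_natCast]
      simp only [Function.comp_apply]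
      congr 1
      rw [e, hdr, one_pow, one_mul, Units.val_pow_eq_pow_val, mul_pow]
      ring
    have h3 : g * z u * g⁻¹ = z u := by
      rw [Subgroup.mem_center_iff.1 (hz u) g, mul_inv_cancel_right]
    rw [← h3]
    simp only [z]
    rw [← conj_mul, h1, ← h2]
    group
  intro u
  have hz1 : z u = 1 := by
    set k := (torChar D d s : F) with hk
    have hne1 : k - 1 ≠ 0 := sub_ne_zero.2 fun h' => hds (Units.ext h')
    have h4 := hzadd u (u / (k - 1))
    rw [show u + u / (k - 1) = k * (u / (k - 1)) by field_simp; ring, hzinv, right_eq_mul] at h4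
    exact h4
  have h5 : Δ u = E u := by
    simp only [z, inv_mul_eq_one] at hz1
    exact hz1.symm
  simp only [Δ, E, W] at h5
  rw [mul_assoc, inv_mul_eq_iff_eq_mul, ← mul_assoc] at h5
  exact h5

theorem r2T_closed_exp {r s : ℕ} (hr : r < D.nroots) (hs : s < D.nroots) {L : List ℕ} (hL : ClosedList D L)
    (hsL : s ∈ L) (hterms : ∀ c ∈ D.commTerms r s, c.1 ∈ L) (hne : s ≠ r) (hne' : s ≠ D.neg r)
    (hknown : ∀ a ∈ L, ∀ b ∈ L, a < b → hF.R2T Y a b)
    {p : ℕ} (hp : (p : F) = 0) (hno : ∀ z ∈ C.π.ker, z ^ p = 1 → z = 1) : hF.R2T Y r s := by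
  intro t
  let P : PartSys D F Γ L :=
    { x := Y.y
      x_add := fun a _ => Y.add a
      x_comm := fun a ha b hb hab => hknown a ha b hb hab }
  set S := Subgroup.closure {g : Γ | ∃ a ∈ L, ∃ v, P.x a v = g} with hS
  let W : F → Γ := fun u => ((D.commWord F r s t u).map fun p => Y.y p.1 p.2).prod
  let E : F → Γ := fun u => Y.y s u * W u
  let Δ : F → Γ := fun u => (Y.y r t)⁻¹ * Y.y s u * Y.y r t
  have hE : ∀ u, E u ∈ S := fun u => mul_mem (Subgroup.subset_closure ⟨s, hsL, u, rfl⟩)
    (S.list_prod_mem fun y hy => by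
      obtain ⟨p, hp, rfl⟩ := List.mem_map.1 hy
      obtain ⟨c, hc, rfl⟩ := List.mem_map.1 hp
      exact Subgroup.subset_closure ⟨c.1, hterms c hc, _, rfl⟩)
  have hπW : ∀ u, C.π (W u) = ((D.commWord F r s t u).map fun p => hF.xq p.1 p.2).prod := fun u => by
    simp only [W, map_list_prod, List.map_map]
    congr 1
    exact List.map_congr_left fun p _ => Y.proj _ _
  have hπ : ∀ u, C.π (Δ u) = C.π (E u) := fun u => by
    simp only [Δ, E, map_mul, map_inv, Y.proj, hπW]
    rw [mul_assoc _ (hF.xq s u) (hF.xq r t), hF.xq_comm hr hs hne hne' t u]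
    group
  have hΔ : ∀ u u', Δ (u + u') = Δ u * Δ u' := fun u u' => by
    simp only [Δ, Y.add]; group
  let z : F → Γ := fun u => (E u)⁻¹ * Δ u
  have hz : ∀ u, z u ∈ Subgroup.center Γ := fun u => C.central (by
    rw [MonoidHom.mem_ker, map_mul, map_inv, hπ, inv_mul_cancel])
  have hzadd : ∀ u u', z (u + u') = z u * z u' := fun u u' => by
    have e : E (u + u') = E u * E u' := by
      refine P.eq_of_image hF hL C.π (D.group F).subtype (fun a _ v => ?_) (hE _) (mul_mem (hE _) (hE _)) ?_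
      · exact congrArg Subtype.val (Y.proj a v)
      · rw [map_mul C.π (E u) (E u'), ← hπ, ← hπ, ← hπ, ← map_mul, hΔ]
    simp only [z, e, hΔ]
    rw [_root_.mul_inv_rev, mul_assoc (E u')⁻¹, ← mul_assoc (E u)⁻¹ (Δ u)]
    rw [← mul_assoc (E u')⁻¹, Subgroup.mem_center_iff.1 (hz u) (E u')⁻¹, mul_assoc]
  intro u
  have hz0 : z 0 = 1 := by
    have := hzadd 0 0
    rwa [add_zero, left_eq_mul] at this
  have hpow : ∀ n : ℕ, z u ^ n = z ((n : F) * u) := by
    intro n
    induction n with
    | zero => rw [pow_zero, Nat.cast_zero, zero_mul, hz0]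
    | succ n ih => rw [pow_succ, ih, ← hzadd, Nat.cast_succ, add_mul, one_mul]
  have hz1 : z u = 1 := hno _ (by rw [MonoidHom.mem_ker, map_mul, map_inv, hπ, inv_mul_cancel])
    (by rw [hpow, hp, zero_mul, hz0])
  have h5 : Δ u = E u := by
    simp only [z, inv_mul_eq_one] at hz1
    exact hz1.symm
  simp only [Δ, E, W] at h5
  rw [mul_assoc, inv_mul_eq_iff_eq_mul, ← mul_assoc] at h5
  exact h5

/-- All commutator formulas, from the representative pairs. -/
theorem r2T_induct
    (hz : ∀ r s, r < D.nroots → s < D.nroots → s ≠ D.neg r →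
      (s = r ∨ D.commTerms r s = []) → hF.Zp C r s)
    (hbase : ∀ r, r < D.nroots → (∀ i, i < D.rank → D.reflectRoot i r ≤ r) → ∀ s, s < D.nroots →
      s ≠ r → s ≠ D.neg r → (∀ i, i < D.rank → D.reflectRoot i r = r → D.reflectRoot i s ≤ s) →
      D.commTerms r s ≠ [] →
      (∀ a b, a < D.nroots → b < D.nroots → b ≠ a → b ≠ D.neg a →
        (D.commTerms a b).length < (D.commTerms r s).length → hF.R2T Y a b) → hF.R2T Y r s) :
    ∀ r s, r < D.nroots → s < D.nroots → s ≠ r → s ≠ D.neg r → hF.R2T Y r s := by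
  suffices H : ∀ n r, r < D.nroots → ∀ s, s < D.nroots → s ≠ r → s ≠ D.neg r →
      (D.commTerms r s).length = n → hF.R2T Y r s from
    fun r s hr hs h1 h2 => H _ r hr s hs h1 h2 rfl
  intro n
  induction n using Nat.strong_induction_on with
  | _ n ihn =>
  refine hF.refl_induction _ (fun r hr hdom => ?_) (fun i hi r hr ih s hs h1 h2 hlen => ?_)
  · refine hF.stab_induction r hr _ (fun s hs h1 h2 hstab hlen => ?_)
      (fun i hi hfix s hs _ _ ih hlen => ?_)
    · by_cases h0 : D.commTerms r s = []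
      · intro t u
        simp only [ChevalleyDatum.commWord, h0, List.map_nil, List.prod_nil, mul_one]
        exact (hF.zp_lift (hz r s hr hs h2 (Or.inr h0)) (Y.proj r t) (Y.proj s u)).symm
      · exact hbase r hr hdom s hs h1 h2 hstab h0 fun a b ha hb hab hab' hlt =>
          ihn _ (hlen ▸ hlt) a ha b hb hab hab' rfl
    · have hlen' : (D.commTerms r s).length = n := by
        have := congrArg List.length (hF.commTerms_refl hi hr hs)
        rw [hfix, List.length_map] at this
        omega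
      have := hF.r2T_refl Y hi hr hs (ih hlen')
      rwa [hfix] at this
  · have hr0 := hF.refl_lt i hi r hr
    have hs0 := hF.refl_lt i hi s hs
    obtain ⟨h3, h4⟩ := hF.refl_ne hi hr0 hs h1 h2
    rw [hF.refl_refl i hi r hr] at h3 h4
    have hlen' : (D.commTerms r (D.reflectRoot i s)).length = n := by
      have := congrArg List.length (hF.commTerms_refl hi hr0 hs)
      rw [hF.refl_refl i hi r hr, List.length_map] at this
      omega
    have := hF.r2T_refl Y hi hr hs0 (ih _ hs0 h3 h4 hlen')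
    rwa [hF.refl_refl i hi s hs] at this


/-- All commutator formulas, from certificates for representative pairs. -/
theorem r2T_all (J : List ℕ) (hJ : ∀ j ∈ J, ∃ k : Fˣ, k ^ j ≠ 1)
    (hz : ∀ r s, r < D.nroots → s < D.nroots → s ≠ D.neg r →
      (s = r ∨ D.commTerms r s = []) → hF.Zp C r s)
    (cert : List ((ℕ × ℕ) × (List ℕ × List ℕ × List ℤ)))
    (hcert : ∀ r, r < D.nroots → (∀ i, i < D.rank → D.reflectRoot i r ≤ r) → ∀ s, s < D.nroots →
      s ≠ r → s ≠ D.neg r → (∀ i, i < D.rank → D.reflectRoot i r = r → D.reflectRoot i s ≤ s) →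
      D.commTerms r s ≠ [] → cert.any (fun q => q.1 == (r, s) && okLiftPair D J r s q.2) = true) :
    ∀ r s, r < D.nroots → s < D.nroots → s ≠ r → s ≠ D.neg r → hF.R2T Y r s := by
  refine hF.r2T_induct Y hz fun r hr hdom s hs h1 h2 hstab h0 hknown => ?_
  obtain ⟨q, -, hq⟩ := List.any_eq_true.1 (hcert r hr hdom s hs h1 h2 hstab h0)
  simp only [Bool.and_eq_true, okLiftPair, List.all_eq_true, decide_eq_true_eq, Bool.or_eq_true,
    beq_iff_eq, List.contains_iff_mem, Bool.not_eq_true', decide_eq_false_iff_not] at hq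
  obtain ⟨-, ⟨⟨⟨⟨⟨⟨⟨⟨hω, hsort⟩, hpos⟩, hclosed⟩, hless⟩, hsL⟩, hterms⟩, he0⟩, hej⟩⟩ := hq
  obtain ⟨k, hk⟩ := hJ _ hej
  have hr' := hF.foldr_refl_lt hω hr
  have hs' := hF.foldr_refl_lt hω hs
  have hds : torChar D (powC (fun i => q.2.2.2.getD i 0) k) (q.2.1.foldr D.reflectRoot s) ≠ 1 := by
    rw [hF.torChar_powC]
    intro h'
    apply hk
    rcases Int.natAbs_eq (psiOf D (fun i => q.2.2.2.getD i 0) (q.2.1.foldr D.reflectRoot s)) with e | e
    · rw [e, zpow_natCast] at h'; exact h'
    · rw [e, _root_.zpow_neg, inv_eq_one, zpow_natCast] at h'; exact h'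
  refine hF.r2T_word Y q.2.1 hω hr hs (hF.r2T_closed Y hr' hs' ⟨hsort, hpos, ?_⟩ hsL hterms ?_ ?_
    (fun a ha b hb hab => ?_) (powC (fun i => q.2.2.2.getD i 0) k) ?_ hds)
  · exact fun a ha b hb hne c hc => ((hclosed a ha b hb).resolve_left hne) c hc
  · intro e'
    have hd := hds
    rw [e', hF.torChar_powC, he0, _root_.zpow_zero] at hd
    exact hd rfl
  · intro e'
    have hd := hds
    rw [e', hF.torChar_powC, hF.psiOf_neg _ hr', he0, neg_zero, _root_.zpow_zero] at hd
    exact hd rfl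
  · obtain ⟨ha1, ha2⟩ := hpos a ha
    obtain ⟨hb1, hb2⟩ := hpos b hb
    refine hknown a b ha2 hb2 (ne_of_gt hab) (fun e' => ?_)
      ((hless a ha b hb).resolve_left fun h' => h' hab)
    have := (hF.neg_ge_iff ha2).1 (e' ▸ hb1)
    omega
  · rw [hF.torChar_powC, he0, _root_.zpow_zero]

end Facts

end Cfsg.Agent.Lie
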