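import Mathlib

/-!
Checked stabiliser chain for the Mathieu group of degree 12 given by eight permutations.
-/

set_option autoImplicit false
set_option maxRecDepth 10000

namespace Cfsg.Agent.Lie.M12Chain

def gens : List (List (Fin 12)) := [[0, 1, 2, 4, 5, 3, 7, 8, 6, 10, 11, 9], [0, 1, 2, 6, 7, 8, 9, 10, 11, 3, 4, 5], [0, 1, 2, 3, 6, 9, 5, 8, 11, 4, 7, 10], [0, 1, 2, 3, 7, 11, 10, 5, 6, 8, 9, 4], [0, 1, 2, 3, 10, 8, 11, 6, 4, 7, 5, 9], [3, 1, 2, 0, 4, 5, 7, 6, 10, 11, 8, 9], [1, 0, 2, 3, 4, 5, 9, 10, 11, 6, 7, 8], [0, 2, 1, 3, 4, 5, 11, 9, 10, 7, 8, 6]]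
def gensInv : List (List (Fin 12)) := [[0, 1, 2, 5, 3, 4, 8, 6, 7, 11, 9, 10], [0, 1, 2, 9, 10, 11, 3, 4, 5, 6, 7, 8], [0, 1, 2, 3, 9, 6, 4, 10, 7, 5, 11, 8], [0, 1, 2, 3, 11, 7, 8, 4, 9, 10, 6, 5], [0, 1, 2, 3, 8, 10, 7, 9, 5, 11, 4, 6], [3, 1, 2, 0, 4, 5, 7, 6, 10, 11, 8, 9], [1, 0, 2, 3, 4, 5, 9, 10, 11, 6, 7, 8], [0, 2, 1, 3, 4, 5, 11, 9, 10, 7, 8, 6]]
def T0 : List (List (Fin 8)) :=
  [[],
   [7],
   [6, 7],
   [5, 6, 7],
   [0, 5, 6, 7],
   [1, 5, 6, 7],
   [0, 0, 5, 6, 7],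
   [1, 0, 5, 6, 7],
   [4, 0, 5, 6, 7],
   [1, 1, 5, 6, 7],
   [4, 1, 5, 6, 7],
   [1, 0, 0, 5, 6, 7]]

def C0 : List (List (ℕ × List (Fin 8))) :=
  [[(0, [0]),
    (1, [0]),
    (2, [0]),
    (4, []),
    (6, []),
    (7, []),
    (3, []),
    (11, []),
    (10, []),
    (8, [3, 4]),
    (9, [2]),
    (5, [])],
   [(0, [1]),
    (1, [1, 1, 0, 0]),
    (2, [1, 0]),
    (5, []),
    (7, []),
    (9, []),
    (11, []),
    (8, [3, 4]),
    (4, [2]),
    (3, []),
    (6, [2]),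
    (10, [3, 4])],
   [(0, [2]),
    (1, [4, 2]),
    (2, [3]),
    (3, [2, 3]),
    (5, [2, 3]),
    (6, [2, 3]),
    (9, [2, 3]),
    (11, [2, 3]),
    (7, [3]),
    (4, [2, 3]),
    (8, [4]),
    (10, [3])],
   [(0, [3]),
    (1, [3, 4]),
    (2, [2, 3]),
    (3, [3]),
    (7, [3]),
    (8, [4]),
    (10, [4]),
    (6, [3]),
    (9, [4]),
    (11, [3]),
    (4, [4]),
    (5, [3])],
   [(0, [4]),
    (1, [2, 3]),
    (2, [3, 4]),
    (3, [2]),
    (8, []),
    (10, []),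
    (11, [2]),
    (5, [2]),
    (6, [2, 2]),
    (7, [2]),
    (9, [2, 2]),
    (4, [2])],
   [(0, [5]),
    (1, [5]),
    (3, []),
    (2, []),
    (4, [2, 2, 0]),
    (7, [4, 1, 3]),
    (6, [0, 2, 2]),
    (5, [3, 1, 4]),
    (11, [2, 0]),
    (10, [1, 1, 0]),
    (9, [1, 0, 0]),
    (8, [3, 4, 1, 1])],
   [(0, [6]),
    (2, []),
    (1, []),
    (3, [5]),
    (4, [5]),
    (9, [5]),
    (6, [5]),
    (8, [5, 4, 2]),
    (7, [5, 2]),
    (5, [5]),
    (11, [5, 2]),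
    (10, [5, 4, 2])],
   [(1, []),
    (0, []),
    (2, [6]),
    (3, [6]),
    (4, [6]),
    (10, [6, 2]),
    (6, [6]),
    (9, [6]),
    (11, [6, 2]),
    (7, [6]),
    (5, [6, 2]),
    (8, [6, 2])]]

def T1 : List (List (Fin 8)) :=
  [[],
   [6],
   [5, 6],
   [0, 5, 6],
   [1, 5, 6],
   [0, 0, 5, 6],
   [1, 0, 5, 6],
   [4, 0, 5, 6],
   [1, 1, 5, 6],
   [4, 1, 5, 6],
   [1, 0, 0, 5, 6]]

def C1 : List (List (ℕ × List (Fin 8))) :=
  [[(0, [0]),
    (1, [0]),
    (3, []),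
    (5, []),
    (6, []),
    (2, []),
    (10, []),
    (9, []),
    (7, [3]),
    (8, [4, 2]),
    (4, [])],
   [(0, [1]),
    (1, [1, 1]),
    (4, []),
    (6, []),
    (8, []),
    (10, []),
    (7, [3]),
    (3, [4, 2]),
    (2, []),
    (5, [4, 2]),
    (9, [3])],
   [(0, [2]),
    (1, [3, 4]),
    (2, [4]),
    (4, [4]),
    (5, [4]),
    (8, [4]),
    (10, [4]),
    (6, [3, 4]),
    (3, [4]),
    (7, [2, 3]),
    (9, [3, 4])],
   [(0, [3]),
    (1, [4]),
    (2, [3, 4]),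
    (6, [3, 4]),
    (7, [2, 3]),
    (9, [2, 3]),
    (5, [3, 4]),
    (8, [2, 3]),
    (10, [3, 4]),
    (3, [2, 3]),
    (4, [3, 4])],
   [(0, [4]),
    (1, [3]),
    (2, [4, 2]),
    (7, []),
    (9, []),
    (10, [4, 2]),
    (4, [4, 2]),
    (5, [2, 2]),
    (6, [4, 2]),
    (8, [2, 2]),
    (3, [4, 2])],
   [(0, [5]),
    (2, []),
    (1, []),
    (3, [2, 2, 0]),
    (6, [1, 4, 2]),
    (5, [0, 2, 2]),
    (4, [0, 3, 0]),
    (10, [4, 2, 0]),
    (9, [1, 0, 0]),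
    (8, [1, 1, 0]),
    (7, [3, 1, 0])],
   [(1, []),
    (0, []),
    (2, [5]),
    (3, [5]),
    (8, [5]),
    (5, [5]),
    (7, [5, 2]),
    (6, [5, 4, 2]),
    (4, [5]),
    (10, [5, 4, 2]),
    (9, [5, 2])]]

def T2 : List (List (Fin 8)) :=
  [[],
   [5],
   [0, 5],
   [1, 5],
   [0, 0, 5],
   [1, 0, 5],
   [4, 0, 5],
   [1, 1, 5],
   [4, 1, 5],
   [1, 0, 0, 5]]

def C2 : List (List (ℕ × List (Fin 8))) :=
  [[(0, [0]),
    (2, []),
    (4, []),
    (5, []),
    (1, []),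
    (9, []),
    (8, []),
    (6, [4]),
    (7, [2, 3]),
    (3, [])],
   [(0, [1]),
    (3, []),
    (5, []),
    (7, []),
    (9, []),
    (6, [4]),
    (2, [2, 3]),
    (1, []),
    (4, [2, 3]),
    (8, [4])],
   [(0, [2]),
    (1, [3]),
    (3, [3]),
    (4, [3]),
    (7, [3]),
    (9, [3]),
    (5, [2]),
    (2, [3]),
    (6, [4, 2]),
    (8, [2])],
   [(0, [3]),
    (1, [2]),
    (5, [2]),
    (6, [4, 2]),
    (8, [4, 2]),
    (4, [2]),
    (7, [4, 2]),
    (9, [2]),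
    (2, [4, 2]),
    (3, [2])],
   [(0, [4]),
    (1, [2, 3]),
    (6, []),
    (8, []),
    (9, [2, 3]),
    (3, [2, 3]),
    (4, [2, 2]),
    (5, [2, 3]),
    (7, [2, 2]),
    (2, [2, 3])],
   [(1, []),
    (0, []),
    (2, [2, 2, 0]),
    (5, [2, 3, 1, 0]),
    (4, [0, 2, 2]),
    (3, [4, 1]),
    (9, [2, 3, 0]),
    (8, [1, 1, 0, 0]),
    (7, [1, 0]),
    (6, [1, 4, 1])]]

def T3 : List (List (Fin 8)) :=
  [[],
   [0],
   [1],
   [0, 0],
   [1, 0],
   [4, 0],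
   [1, 1],
   [4, 1],
   [1, 0, 0]]

def C3 : List (List (ℕ × List (Fin 8))) :=
  [[(1, []),
    (3, []),
    (4, []),
    (0, []),
    (8, []),
    (7, []),
    (5, [2, 3]),
    (6, [4]),
    (2, [])],
   [(2, []),
    (4, []),
    (6, []),
    (8, []),
    (5, [2, 3]),
    (1, [4]),
    (0, []),
    (3, [4]),
    (7, [2, 3])],
   [(0, [2]),
    (2, [2]),
    (3, [2]),
    (6, [2]),
    (8, [2]),
    (4, [3]),
    (1, [2]),
    (5, [3, 4]),
    (7, [3])],
   [(0, [3]),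
    (4, [3]),
    (5, [3, 4]),
    (7, [3, 4]),
    (3, [3]),
    (6, [3, 4]),
    (8, [3]),
    (1, [3, 4]),
    (2, [3])],
   [(0, [4]),
    (5, []),
    (7, []),
    (8, [4]),
    (2, [4]),
    (3, [2, 2]),
    (4, [4]),
    (6, [2, 2]),
    (1, [4])]]

def T4 : List (List (Fin 8)) :=
  [[],
   [2],
   [3],
   [4],
   [2, 2],
   [4, 2],
   [2, 3],
   [3, 4]]

def C4 : List (List (ℕ × List (Fin 8))) :=
  [[(1, []),
    (4, []),
    (6, []),
    (2, []),
    (7, []),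
    (3, []),
    (5, []),
    (0, [])],
   [(2, []),
    (3, []),
    (4, []),
    (7, []),
    (5, []),
    (0, []),
    (1, []),
    (6, [])],
   [(3, []),
    (5, []),
    (1, []),
    (4, []),
    (6, []),
    (7, []),
    (0, []),
    (2, [])]]


/-- Evaluation of one generator by table. -/
def gf (i : Fin 8) (x : Fin 12) : Fin 12 := (gens.getD i []).getD x 0

/-- Evaluation of the inverse of one generator by table. -/
def gi (i : Fin 8) (x : Fin 12) : Fin 12 := (gensInv.getD i []).getD x 0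

theorem gen_left : ∀ i x, gi i (gf i x) = x := by decide +kernel

theorem gen_right : ∀ i x, gf i (gi i x) = x := by decide +kernel

/-- The generators. -/
def P (i : Fin 8) : Equiv.Perm (Fin 12) := ⟨gf i, gi i, gen_left i, gen_right i⟩

/-- The value of a word. -/
def ev (w : List (Fin 8)) : Equiv.Perm (Fin 12) := (w.map P).prod

/-- The value of a word at a point. -/
def evf (w : List (Fin 8)) (x : Fin 12) : Fin 12 := w.foldr gf x

theorem ev_apply (w : List (Fin 8)) (x : Fin 12) : ev w x = evf w x := by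
  induction w with
  | nil => rfl
  | cons i w ih => rw [ev, List.map_cons, List.prod_cons, Equiv.Perm.mul_apply]; exact congrArg (gf i) ih

theorem ev_append (u v : List (Fin 8)) : ev (u ++ v) = ev u * ev v := by
  simp [ev, List.map_append, List.prod_append]

/-- The subgroup generated by some of the generators. -/
def gen (S : List (Fin 8)) : Subgroup (Equiv.Perm (Fin 12)) := Subgroup.closure {p | ∃ i ∈ S, P i = p}

theorem ev_mem {S : List (Fin 8)} {w : List (Fin 8)} (h : ∀ i ∈ w, i ∈ S) : ev w ∈ gen S :=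
  list_prod_mem fun p hp => by
    obtain ⟨i, hi, rfl⟩ := List.mem_map.1 hp
    exact Subgroup.subset_closure ⟨i, h i hi, rfl⟩

theorem gen_nil : gen [] = ⊥ := by
  have : {p | ∃ i ∈ ([] : List (Fin 8)), P i = p} = (∅ : Set (Equiv.Perm (Fin 12))) := by simp
  rw [gen, this, Subgroup.closure_empty]

/-- The check of one level. -/
def okLevel (S S' : List (Fin 8)) (b : Fin 12) (T : List (List (Fin 8)))
    (C : List (List (ℕ × List (Fin 8)))) : Bool :=
  T.all (fun w => w.all fun i => decide (i ∈ S)) && T.contains [] &&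
  S'.all (fun i => decide (i ∈ S) && gf i b == b) && decide (T.map fun w => evf w b).Nodup &&
  (List.range S.length).all fun i => (List.range T.length).all fun j =>
    let c := (C.getD i []).getD j (0, [])
    decide (c.1 < T.length) && c.2.all (fun k => decide (k ∈ S')) &&
      (List.finRange 12).all fun x =>
        evf (S.getD i 0 :: T.getD j []) x == evf (T.getD c.1 [] ++ c.2) x

open scoped Pointwise in
/-- Consequences of the check of one level. -/
theorem level {S S' : List (Fin 8)} {b : Fin 12} {T : List (List (Fin 8))}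
    {C : List (List (ℕ × List (Fin 8)))} (h : okLevel S S' b T C = true) :
    gen S ⊓ MulAction.stabilizer (Equiv.Perm (Fin 12)) b = gen S' ∧
      Nat.card (gen S) = T.length * Nat.card (gen S') := by
  simp only [okLevel, Bool.and_eq_true, List.all_eq_true, decide_eq_true_eq, List.contains_iff_mem,
    beq_iff_eq, List.mem_range, List.mem_finRange, forall_const] at h
  obtain ⟨⟨⟨⟨hT, h0⟩, hS'⟩, hnd⟩, hC⟩ := h
  have hle : gen S' ≤ gen S ⊓ MulAction.stabilizer (Equiv.Perm (Fin 12)) b := by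
    rw [gen, Subgroup.closure_le]
    rintro _ ⟨i, hi, rfl⟩
    exact ⟨Subgroup.subset_closure ⟨i, (hS' i hi).1, rfl⟩, (hS' i hi).2⟩
  have hTmem : ∀ w ∈ T, ev w ∈ gen S := fun w hw => ev_mem (hT w hw)
  let X : Set (Equiv.Perm (Fin 12)) := {g | ∃ w ∈ T, ∃ k ∈ gen S', g = ev w * k}
  have hstep : ∀ i ∈ S, ∀ g ∈ X, P i * g ∈ X := by
    rintro i hi g ⟨w, hw, k, hk, rfl⟩
    obtain ⟨a, ha, rfl⟩ := List.getElem_of_mem hi
    obtain ⟨c, hc, rfl⟩ := List.getElem_of_mem hw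
    obtain ⟨⟨h1, h2⟩, h3⟩ := hC a ha c hc
    set d := (C.getD a []).getD c (0, [])
    refine ⟨T[d.1], List.getElem_mem h1, ev d.2 * k, mul_mem (ev_mem h2) hk, ?_⟩
    have he : ev (S[a] :: T[c]) = ev (T[d.1] ++ d.2) := Equiv.ext fun x => by
      rw [ev_apply, ev_apply]
      have := h3 x
      rw [List.getD_eq_getElem _ _ ha, List.getD_eq_getElem _ _ hc, List.getD_eq_getElem _ _ h1] at this
      exact this
    rw [← mul_assoc, ← mul_assoc, ← ev_append, ← he]
    rfl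
  have hsub : ∀ g ∈ gen S, g ∈ X := by
    intro g hg
    have hstab : ∀ i ∈ S, P i ∈ MulAction.stabilizer (Equiv.Perm (Fin 12)) X := by
      intro i hi
      rw [MulAction.mem_stabilizer_iff]
      refine Set.eq_of_subset_of_ncard_le ?_ ?_ (Set.toFinite X)
      · rintro _ ⟨y, hy, rfl⟩
        exact hstep i hi y hy
      · rw [← Set.image_smul, Set.ncard_image_of_injective _ (MulAction.injective (P i))]
    have hgX : g ∈ MulAction.stabilizer (Equiv.Perm (Fin 12)) X :=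
      (Subgroup.closure_le _).2 (by rintro _ ⟨i, hi, rfl⟩; exact hstab i hi) hg
    rw [← MulAction.mem_stabilizer_iff.1 hgX]
    exact ⟨1, ⟨[], h0, 1, one_mem _, (mul_one _).symm⟩, mul_one g⟩
  have hfix : ∀ k ∈ gen S', (k : Equiv.Perm (Fin 12)) b = b := fun k hk => (hle hk).2
  have hinj : ∀ (a c : ℕ) (ha : a < T.length) (hc : c < T.length),
      evf T[a] b = evf T[c] b → a = c := by
    intro a c ha hc e
    have := hnd.getElem_inj_iff (i := a) (j := c) (hi := by simpa using ha) (hj := by simpa using hc)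
    rw [List.getElem_map, List.getElem_map] at this
    exact this.1 e
  refine ⟨le_antisymm ?_ hle, ?_⟩
  · rintro g ⟨hg, hgb⟩
    obtain ⟨w, hw, k, hk, rfl⟩ := hsub g hg
    obtain ⟨a, ha, rfl⟩ := List.getElem_of_mem hw
    obtain ⟨c, hc, hc0⟩ := List.getElem_of_mem h0
    have e : evf T[a] b = evf T[c] b := by
      rw [hc0, ← ev_apply]
      have hb : (ev T[a] * k) b = b := hgb
      rw [Equiv.Perm.mul_apply, hfix k hk] at hb
      exact hb
    obtain rfl := hinj a c ha hc e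
    rw [hc0]
    simpa [ev] using hk
  · let f : Fin T.length × gen S' → gen S := fun p =>
      ⟨ev T[p.1] * p.2, mul_mem (hTmem _ (List.getElem_mem _)) (hle p.2.2).1⟩
    have hf : Function.Bijective f := by
      constructor
      · rintro ⟨a, k⟩ ⟨c, l⟩ e
        have e' : ev T[a] * (k : Equiv.Perm (Fin 12)) = ev T[c] * l := congrArg Subtype.val e
        have hb := congrArg (fun g : Equiv.Perm (Fin 12) => g b) e'
        simp only [Equiv.Perm.mul_apply, hfix _ k.2, hfix _ l.2, ev_apply] at hb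
        obtain rfl := Fin.ext (hinj a c a.2 c.2 hb)
        exact Prod.ext rfl (Subtype.ext (mul_left_cancel e'))
      · rintro ⟨g, hg⟩
        obtain ⟨w, hw, k, hk, rfl⟩ := hsub g hg
        obtain ⟨a, ha, rfl⟩ := List.getElem_of_mem hw
        exact ⟨(⟨a, ha⟩, ⟨k, hk⟩), rfl⟩
    rw [← Nat.card_eq_of_bijective f hf, Nat.card_prod, Nat.card_fin]

theorem ok0 : okLevel [0, 1, 2, 3, 4, 5, 6, 7] [0, 1, 2, 3, 4, 5, 6] 2 T0 C0 = true := by decide +kernel

theorem ok1 : okLevel [0, 1, 2, 3, 4, 5, 6] [0, 1, 2, 3, 4, 5] 1 T1 C1 = true := by decide +kernel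

theorem ok2 : okLevel [0, 1, 2, 3, 4, 5] [0, 1, 2, 3, 4] 0 T2 C2 = true := by decide +kernel

theorem ok3 : okLevel [0, 1, 2, 3, 4] [2, 3, 4] 3 T3 C3 = true := by decide +kernel

theorem ok4 : okLevel [2, 3, 4] [] 4 T4 C4 = true := by decide +kernel

theorem card_eleven : Nat.card (gen [0, 1, 2, 3, 4, 5, 6]) = 7920 := by
  rw [(level ok1).2, (level ok2).2, (level ok3).2, (level ok4).2, gen_nil, Subgroup.card_bot]
  rfl

theorem card_twelve : Nat.card (gen [0, 1, 2, 3, 4, 5, 6, 7]) = 95040 := by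
  rw [(level ok0).2, card_eleven]
  rfl

/-- An element fixing the five base points is trivial. -/
theorem eq_one_of_fix {g : Equiv.Perm (Fin 12)} (hg : g ∈ gen [0, 1, 2, 3, 4, 5, 6, 7])
    (h2 : g 2 = 2) (h1 : g 1 = 1) (h0 : g 0 = 0) (h3 : g 3 = 3) (h4 : g 4 = 4) : g = 1 := by
  have e0 : g ∈ gen [0, 1, 2, 3, 4, 5, 6] := (level ok0).1.le ⟨hg, h2⟩
  have e1 : g ∈ gen [0, 1, 2, 3, 4, 5] := (level ok1).1.le ⟨e0, h1⟩
  have e2 : g ∈ gen [0, 1, 2, 3, 4] := (level ok2).1.le ⟨e1, h0⟩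
  have e3 : g ∈ gen [2, 3, 4] := (level ok3).1.le ⟨e2, h3⟩
  have e4 : g ∈ gen [] := (level ok4).1.le ⟨e3, h4⟩
  rwa [gen_nil, Subgroup.mem_bot] at e4

end Cfsg.Agent.Lie.M12Chain
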