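import Cfsg.Agent.Lib.Local.FS.MathieuNormalizer

/-!
The Sylow two-subgroup of a certificate: membership through the list of codes, and its centre.
-/

set_option autoImplicit false
set_option maxRecDepth 100000

namespace Cfsg.Agent.Lie.M24Sylow

open Cfsg Cfsg.Agent.Local.FS.Mathieu

variable {G : Type*} [Group G] [Finite G]

/-- What is used about the subgroup. -/
structure Facts (c : Cert) (L : G → ℕ) (gs : ℕ → G) (P : Sylow 2 G) : Prop where
  mem_list : ∀ σ, σ ∈ (P : Subgroup G) → L σ ∈ c.sList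
  of_list : ∀ v ∈ c.sList, ∃ σ, σ ∈ (P : Subgroup G) ∧ L σ = v
  gen_mem : ∀ s ∈ c.sgen, gs s ∈ (P : Subgroup G)
  gen_top : (P : Subgroup G) = Subgroup.closure {x | ∃ s ∈ c.sgen, x = gs s}
  z_mem : gs c.z ∈ (P : Subgroup G)
  z_ne : gs c.z ≠ 1
  z_comm : ∀ s ∈ (P : Subgroup G), s * gs c.z = gs c.z * s
  center : ∀ x ∈ (P : Subgroup G), (∀ s ∈ (P : Subgroup G), s * x = x * s) → x = 1 ∨ x = gs c.z

set_option maxHeartbeats 2000000 in
/-- The subgroup of a certificate. -/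
theorem exists_facts (c : Cert) (L : G → ℕ) (hL : ∀ x y, L (x * y) = pmul (L x) (L y))
    (hL1 : L 1 = idC) (hinj : ∀ x y, (L x) = (L y) → x = y)
    (gs : ℕ → G) (hgs : ∀ i, L (gs i) = c.g i)
    (hN : Nat.card G = c.N) (h1 : c.checkS = true) (h2 : c.checkCenter = true) (h3 : c.checkSize = true) :
    ∃ P : Sylow 2 G, Facts c L gs P := by
  classical
  simp only [Cert.checkS, Bool.and_eq_true, List.all_eq_true, beq_iff_eq] at h1
  obtain ⟨⟨⟨⟨⟨hflat, hsorted⟩, hall⟩, hlen⟩, hone⟩, hclosed⟩ := h1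
  simp only [Cert.checkCenter, Bool.and_eq_true, List.all_eq_true, beq_iff_eq, Bool.or_eq_true,
    Bool.not_eq_eq_eq_not, Bool.not_true, beq_eq_false_iff_ne, ne_eq] at h2
  obtain ⟨⟨⟨hzS, hzc⟩, hz1⟩, hcent⟩ := h2
  simp only [Cert.checkSize, Bool.and_eq_true, beq_iff_eq] at h3
  obtain ⟨hprod, hodd⟩ := h3
  have hLinj : ∀ x y, L x = L y → x = y := hinj
  set R : Subgroup G := Subgroup.closure {x | ∃ s ∈ c.sgen, x = gs s} with hRdef
  have hsR : ∀ s ∈ c.sgen, gs s ∈ R := fun s hs => Subgroup.subset_closure ⟨s, hs, rfl⟩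
  have hslist : ∀ x ∈ c.sList, ∃ σ ∈ R, L σ = x := by
    refine layers_all (fun i x hx => ?_) c.sKids _ (fun x hx => ?_)
    · obtain ⟨σ, hσ, rfl⟩ := hx
      rcases lt_or_ge i c.sgen.length with hi | hi
      · refine ⟨gs c.sgen[i] * σ, mul_mem (hsR _ (List.getElem_mem _)) hσ, ?_⟩
        rw [hL, hgs, opMul, Cert.sl, List.getD_eq_getElem _ _ (by simpa using hi), List.getElem_map]
      · refine ⟨1 * σ, mul_mem (one_mem _) hσ, ?_⟩
        rw [hL, hL1, opMul, Cert.sl, List.getD_eq_default _ _ (by simpa using hi)]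
    · exact ⟨1, one_mem _, hL1.trans (List.mem_singleton.1 hx).symm⟩
  have hflatR : ∀ v ∈ c.tree.flat, ∃ x ∈ c.sList, v = x := by
    intro v hv
    rw [← hflat] at hv
    obtain ⟨k, hk, hvk⟩ := List.mem_flatten.1 (mergeAll_subset _ _ v hv)
    obtain ⟨x, hx, rfl⟩ := List.mem_map.1 hk
    exact ⟨x, hx, List.mem_singleton.1 hvk⟩
  have htree : ∀ σ, c.tree.mem ((L σ)) = true → σ ∈ R ∧ L σ ∈ c.sList := by
    intro σ h
    obtain ⟨x, hx, hvx⟩ := hflatR _ (Tr.mem_flat h)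
    obtain ⟨τ, hτ, rfl⟩ := hslist x hx
    obtain rfl := hinj _ _ hvx
    exact ⟨hτ, hx⟩
  have hRiff : ∀ σ, σ ∈ R ↔ c.tree.mem ((L σ)) = true := by
    refine fun σ => ⟨fun h => ?_, fun h => (htree σ h).1⟩
    rw [hRdef] at h
    refine (Subgroup.closure_induction'' (p := fun τ _ => ∀ ρ, c.tree.mem ((L ρ)) = true → c.tree.mem ((L (τ * ρ))) = true)
      ?_ ?_ ?_ ?_ h 1 (by rwa [hL1])) |> (fun e => by rwa [mul_one] at e)
    · rintro τ ⟨s, hs, rfl⟩ ρ hρ
      rw [hL, hgs]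
      exact hclosed _ (htree ρ hρ).2 _ (List.mem_map.2 ⟨s, hs, rfl⟩)
    · rintro τ ⟨s, hs, rfl⟩ ρ hρ
      have hpow : ∀ m : ℕ, c.tree.mem ((L (gs s ^ m * ρ))) = true := by
        intro m
        induction m with
        | zero => rwa [pow_zero, one_mul]
        | succ m ih =>
          rw [pow_succ', mul_assoc, hL, hgs]
          exact hclosed _ (htree _ ih).2 _ (List.mem_map.2 ⟨s, hs, rfl⟩)
      obtain ⟨m, hm⟩ := (isOfFinOrder_of_finite (gs s)).mem_powers_iff_mem_zpowers.2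
        (inv_mem (Subgroup.mem_zpowers (gs s)))
      rw [← hm]
      exact hpow m
    · intro ρ hρ; rwa [one_mul]
    · intro x y _ _ hx hy ρ hρ
      rw [mul_assoc]
      exact hx _ (hy _ hρ)
  have hsortedP := nodup_of_sortedB hsorted
  have hnd : c.tree.flat.Nodup := hsortedP.imp fun h => ne_of_lt h
  have hRcard : Nat.card R = 2 ^ c.k := by
    rw [← hlen, ← List.toFinset_card_of_nodup hnd, ← Nat.card_eq_finsetCard]
    refine Nat.card_congr (Equiv.ofBijective (fun σ : R => (⟨(L σ), List.mem_toFinset.2 (Tr.mem_flat ((hRiff _).1 σ.2))⟩ :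
      c.tree.flat.toFinset)) ⟨?_, ?_⟩)
    · intro σ τ h
      exact Subtype.ext (hinj _ _ (congrArg Subtype.val h))
    · rintro ⟨v, hv⟩
      obtain ⟨x, hx, hvx⟩ := hflatR v (List.mem_toFinset.1 hv)
      obtain ⟨σ, hσ, e⟩ := hslist x hx
      exact ⟨⟨σ, hσ⟩, Subtype.ext (e.trans hvx.symm)⟩
  obtain ⟨P, hP⟩ := (IsPGroup.of_card hRcard).exists_le_sylow
  have hPR : (P : Subgroup G) = R := by
    refine (Subgroup.eq_of_le_of_card_ge hP ?_).symm
    obtain ⟨j, hj⟩ := IsPGroup.iff_card.1 P.2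
    rw [hRcard, hj]
    refine Nat.pow_le_pow_right two_pos ?_
    have hd : 2 ^ j ∣ 2 ^ c.k * (c.cLen * (c.reps.length + 1)) := by
      rw [← hj, mul_comm, hprod, ← hN]
      exact Subgroup.card_subgroup_dvd_card _
    have hco : (2 ^ j).Coprime (c.cLen * (c.reps.length + 1)) :=
      (Nat.coprime_two_left.2 (Nat.odd_iff.2 hodd)).pow_left j
    exact (Nat.pow_dvd_pow_iff_le_right (by norm_num)).1 (hco.dvd_of_dvd_mul_right hd)
  set z := gs c.z with hzdef
  have hzR : z ∈ R := (hRiff z).2 (by rw [hgs]; exact hzS)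
  have hzcomm : ∀ s ∈ R, s * z = z * s := by
    intro s hs
    rw [hRdef] at hs
    have : Subgroup.closure {x | ∃ i ∈ c.sgen, x = gs i} ≤ Subgroup.centralizer {z} := by
      refine (Subgroup.closure_le _).2 ?_
      rintro _ ⟨i, hi, rfl⟩
      refine Subgroup.mem_centralizer_singleton_iff.2 (hLinj _ _ ?_)
      rw [hL, hL, hgs, hgs]
      exact hzc _ (List.mem_map.2 ⟨i, hi, rfl⟩)
    exact Subgroup.mem_centralizer_singleton_iff.1 (this hs)
  have hzne : z ≠ 1 := fun h => hz1 (by rw [← hgs, ← hzdef, h, hL1])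
  have hcenter : ∀ x ∈ R, (∀ s ∈ R, s * x = x * s) → x = 1 ∨ x = z := by
    intro x hx hxc
    have hxl := (htree x ((hRiff x).1 hx)).2
    have hall' : (c.sl.all fun s => pmul s (L x) == pmul (L x) s) = true := by
      simp only [List.all_eq_true, beq_iff_eq]
      intro s hs
      obtain ⟨i, hi, rfl⟩ := List.mem_map.1 hs
      rw [← hgs, ← hL, ← hL, hxc _ (hsR i hi)]
    rcases hcent _ hxl with h | h | h
    · rw [hall'] at h; exact absurd h (by decide)
    · exact Or.inl (hinj _ _ (by rw [hL1]; exact h))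
    · exact Or.inr (hinj _ _ (by rw [hgs]; exact h))
  refine ⟨P, ⟨fun σ hσ => (htree σ ((hRiff σ).1 (hPR ▸ hσ))).2, fun v hv => ?_, fun s hs => hPR ▸ hsR s hs,
    hPR.trans hRdef, hPR ▸ hzR, hzne, fun s hs => hzcomm s (hPR ▸ hs), fun x hx hxc => hcenter x (hPR ▸ hx) fun s hs => hxc s (hPR ▸ hs)⟩⟩
  obtain ⟨σ, hσ, e⟩ := hslist v hv
  exact ⟨σ, hPR ▸ hσ, e⟩

end Cfsg.Agent.Lie.M24Sylow
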