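import Cfsg.Agent.Lib.Lie.M24SylowData
import Cfsg.Agent.Lib.Solv.PGroupPhi

/-!
The central quotient of the Sylow two-subgroup of `M24`.
-/

set_option autoImplicit false
set_option maxRecDepth 100000

namespace Cfsg.Agent.Lie.M24Sylow

open Cfsg Cfsg.Agent.Local.FS.Mathieu

/-- The properties to be shown of the quotient. -/
def Good (Q : Type*) [Group Q] : Prop :=
  (∀ M : Subgroup Q, IsCoatom M → Nat.card ↥(Subgroup.center ↥M) ≤ 8) ∧
    (∃ A : Subgroup Q, Cfsg.IsElementaryAbelian 2 A ∧ Nat.card ↥A = 64) ∧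
    ∀ A B : Subgroup Q, IsMulCommutative ↥A → Nat.card ↥A = 64 → IsMulCommutative ↥B → Nat.card ↥B = 64 → A = B

/-- A group coded by the certificate. -/
structure Model (P : Type*) [Group P] (C : P → ℕ) : Prop where
  mul : ∀ x y, C (x * y) = pmul (C x) (C y)
  one : C 1 = idC
  inj : Function.Injective C
  mem : ∀ x, C x ∈ m24Cert.sList
  surj : ∀ v ∈ m24Cert.sList, ∃ x, C x = v
  gens : ∀ H : Subgroup P, (∀ x, (∃ j : ℕ, j < 4 ∧ C x = m24Cert.g (2 + j)) → x ∈ H) → H = ⊤
  gen : ∀ j : ℕ, j < 4 → ∃ x, C x = m24Cert.g (2 + j)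
  center : ∃ z, C z = zc ∧ z ≠ 1 ∧ ∀ x, x ∈ Subgroup.center P ↔ x = 1 ∨ x = z

theorem bit_lemma : ∀ a b c d : Bool, ∀ j : Fin 4,
    ((cond a 1 0) + (cond b 2 0) + (cond c 4 0) + (cond d 8 0) : ℕ).testBit j.val = ![a, b, c, d] j ∧
      (cond a 1 0) + (cond b 2 0) + (cond c 4 0) + (cond d 8 0) < 16 := by decide +kernel

theorem contains_mem {l : List ℕ} {v : ℕ} (h : l.contains v = true) : v ∈ l := List.contains_iff_mem.1 h

variable {P : Type*} [Group P] [Finite P] {C : P → ℕ}

set_option maxHeartbeats 2000000 in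
theorem good_of_model (hM : Model P C) (hp : IsPGroup 2 P) (h1024 : Nat.card P = 1024) :
    Good (P ⧸ Subgroup.center P) := by
  classical
  haveI : Fact (Nat.Prime 2) := ⟨Nat.prime_two⟩
  obtain ⟨z, hz, hz1, hcen⟩ := hM.center
  set Z := Subgroup.center P with hZdef
  have hzZ : z ∈ Z := (hcen z).2 (Or.inr rfl)
  have hzc : ∀ x, z * x = x * z := fun x => (Subgroup.mem_center_iff.1 hzZ x).symm
  have hz2 : z * z = 1 := by
    rcases (hcen _).1 (Z.mul_mem hzZ hzZ) with h | h
    · exact h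
    · exact absurd (mul_eq_left.1 h) hz1
  have hzinv : z⁻¹ = z := inv_eq_of_mul_eq_one_right hz2
  have hZc : Nat.card ↥Z = 2 := by
    have h : (Z : Set P) = {1, z} := by ext x; exact hcen x
    rw [show Nat.card ↥Z = (Z : Set P).ncard from Nat.card_coe_set_eq _, h, Set.ncard_pair (Ne.symm hz1)]
  have hmk : ∀ x y : P, (x : P ⧸ Z) = (y : P ⧸ Z) ↔ (x = y ∨ x = z * y) := by
    intro x y
    rw [QuotientGroup.eq, hcen]
    constructor
    · rintro (h | h)
      · exact Or.inl (inv_mul_eq_one.1 h)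
      · refine Or.inr ?_
        rw [inv_mul_eq_iff_eq_mul.1 h, ← mul_assoc, hzc x, mul_assoc x z z, hz2, mul_one]
    · rintro (rfl | rfl)
      · exact Or.inl (inv_mul_cancel x)
      · exact Or.inr (by rw [mul_inv_rev, hzinv, mul_assoc, hzc y, inv_mul_cancel_left])
  have hcz : ∀ x y : P, ((x : P ⧸ Z) * y = y * x) ↔ cz (C x) (C y) = true := by
    intro x y
    rw [← QuotientGroup.mk_mul, ← QuotientGroup.mk_mul, hmk, cz, Bool.or_eq_true, beq_iff_eq, beq_iff_eq,
      ← hM.mul, ← hM.mul, ← hz, ← hM.mul]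
    exact or_congr hM.inj.eq_iff.symm hM.inj.eq_iff.symm
  have hQ : Nat.card (P ⧸ Z) = 512 := by
    have := Subgroup.card_eq_card_quotient_mul_card_subgroup Z
    rw [h1024, hZc] at this
    omega
  -- preimages
  have hcomap : ∀ S : Subgroup (P ⧸ Z), Nat.card ↥(S.comap (QuotientGroup.mk' Z)) = 2 * Nat.card ↥S := by
    intro S
    have h1 := (S.comap (QuotientGroup.mk' Z)).card_mul_index
    rw [Subgroup.index_comap_of_surjective _ (QuotientGroup.mk'_surjective Z), h1024] at h1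
    have h2 := S.card_mul_index
    rw [hQ] at h2
    have h3 : 0 < S.index := Nat.pos_of_ne_zero Subgroup.index_ne_zero_of_finite
    exact Nat.eq_of_mul_eq_mul_right h3 (by rw [mul_assoc, h2, h1]; norm_num)
  refine ⟨fun M hMc => ?_, ?_⟩
  · -- maximal subgroups
    have hidx : M.index = 2 := Cfsg.Agent.Solv.coatom_index (hp.to_quotient Z) hMc
    choose g hg using fun j : Fin 4 => hM.gen j.val j.isLt
    let b : Fin 4 → Bool := fun j => decide ((g j : P ⧸ Z) ∉ M)
    let e : Fin 16 := ⟨(cond (b 0) 1 0) + (cond (b 1) 2 0) + (cond (b 2) 4 0) + (cond (b 3) 8 0),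
      (bit_lemma (b 0) (b 1) (b 2) (b 3) 0).2⟩
    have hbit : ∀ j : Fin 4, e.val.testBit j.val = b j := by
      intro j
      show ((cond (b 0) 1 0) + (cond (b 1) 2 0) + (cond (b 2) 4 0) + (cond (b 3) 8 0)).testBit j.val = b j
      rw [(bit_lemma (b 0) (b 1) (b 2) (b 3) j).1]
      fin_cases j <;> rfl
    have he : e.val ≠ 0 := by
      intro h0
      refine hMc.1 ?_
      have hall : ∀ j : Fin 4, (g j : P ⧸ Z) ∈ M := fun j => by
        have := hbit j
        rw [h0, Nat.zero_testBit] at this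
        simpa [b] using this.symm
      have hT := hM.gens (M.comap (QuotientGroup.mk' Z)) fun x ⟨j, hj, hx⟩ => by
        rw [show x = g ⟨j, hj⟩ from hM.inj (hx.trans (hg ⟨j, hj⟩).symm)]
        exact hall _
      refine (Subgroup.eq_top_iff' _).2 fun q => ?_
      obtain ⟨x, rfl⟩ := QuotientGroup.mk_surjective q
      exact (hT ▸ Subgroup.mem_top x : x ∈ M.comap (QuotientGroup.mk' Z))
    have hh : ∀ h ∈ hList e, ∃ x : P, C x = h ∧ (x : P ⧸ Z) ∈ M := by
      intro h hh
      rw [hList, List.mem_append] at hh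
      rcases hh with hh | hh
      · obtain ⟨j, hj, rfl⟩ := List.mem_map.1 hh
        rw [List.mem_filter, List.mem_range] at hj
        refine ⟨g ⟨j, hj.1⟩, hg _, ?_⟩
        have := hbit ⟨j, hj.1⟩
        rw [Bool.not_eq_true'] at hj
        replace this := hj.2.symm.trans this
        simpa [b] using this.symm
      · obtain ⟨i, hi, hh⟩ := List.mem_flatMap.1 hh
        obtain ⟨j, hj, rfl⟩ := List.mem_map.1 hh
        rw [List.mem_filter, List.mem_range] at hi hj
        have h1 := hbit ⟨i, hi.1⟩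
        have h2 := hbit ⟨j, hj.1⟩
        replace h1 := hi.2.symm.trans h1
        replace h2 := hj.2.symm.trans h2
        refine ⟨g ⟨i, hi.1⟩ * g ⟨j, hj.1⟩, by rw [hM.mul, hg, hg], ?_⟩
        rw [QuotientGroup.mk_mul, Subgroup.mul_mem_iff_of_index_two hidx]
        have a1 : ¬ (g ⟨i, hi.1⟩ : P ⧸ Z) ∈ M := by simpa [b] using h1.symm
        have a2 : ¬ (g ⟨j, hj.1⟩ : P ⧸ Z) ∈ M := by simpa [b] using h2.symm
        exact iff_of_false a1 a2
    set S := (Subgroup.center ↥M).map M.subtype with hSdef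
    set S' := S.comap (QuotientGroup.mk' Z) with hS'def
    have hS : Nat.card ↥S = Nat.card ↥(Subgroup.center ↥M) :=
      Nat.card_congr ((Subgroup.center ↥M).equivMapOfInjective _ M.subtype_injective).toEquiv.symm
    have hsub : ∀ x ∈ S', C x ∈ m24Cert.sList.filter (fun x => (hList e).all fun h => cz x h) := by
      intro x hx
      rw [List.mem_filter, List.all_eq_true]
      refine ⟨hM.mem x, fun h hh' => ?_⟩
      obtain ⟨w, rfl, hw⟩ := hh h hh'
      obtain ⟨c, hc, hcx⟩ := hx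
      rw [← hcz]
      have := congrArg (M.subtype) (Subgroup.mem_center_iff.1 hc ⟨_, hw⟩)
      rw [map_mul, map_mul, hcx] at this
      exact this.symm
    have h2 : Nat.card ↥S' ≤ 16 := by
      refine le_trans ?_ (centre_count e he)
      set l := m24Cert.sList.filter (fun x => (hList e).all fun h => cz x h)
      refine le_trans ?_ (List.toFinset_card_le l)
      rw [← Nat.card_eq_finsetCard]
      exact Nat.card_le_card_of_injective (fun x : ↥S' => (⟨C x, List.mem_toFinset.2 (hsub x x.2)⟩ : l.toFinset))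
        fun x y h => Subtype.ext (hM.inj (congrArg Subtype.val h))
    rw [hcomap, hS] at h2
    omega
  -- the abelian subgroup
  have hmemA : ∀ v, aTree.mem v = true → v ∈ aList := fun v h => a_flat ▸ Tr.mem_flat h
  have hA0 := a_mem
  simp only [List.all_eq_true, Bool.and_eq_true] at hA0
  have hclosed := a_closed
  simp only [List.all_eq_true, Bool.and_eq_true] at hclosed
  let A' : Subgroup P :=
    { carrier := {x | aTree.mem (C x) = true}
      one_mem' := by show aTree.mem (C 1) = true; rw [hM.one]; exact a_base.1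
      mul_mem' := fun {x y} hx hy => by
        show aTree.mem (C (x * y)) = true
        rw [hM.mul]; exact (hclosed _ (hmemA _ hx) _ (hmemA _ hy)).1
      inv_mem' := fun {x} hx => by
        have hpow : ∀ k : ℕ, aTree.mem (C (x ^ k)) = true := by
          intro k
          induction k with
          | zero => rw [pow_zero, hM.one]; exact a_base.1
          | succ k ih => rw [pow_succ, hM.mul]; exact (hclosed _ (hmemA _ ih) _ (hmemA _ hx)).1
        obtain ⟨k, hk⟩ := (isOfFinOrder_of_finite x).mem_powers_iff_mem_zpowers.2 (inv_mem (Subgroup.mem_zpowers x))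
        show aTree.mem (C x⁻¹) = true
        rw [← hk]; exact hpow k }
  have hA' : ∀ x, x ∈ A' → C x ∈ aList := fun x hx => hmemA _ hx
  have hA'card : Nat.card ↥A' = 128 := by
    rw [← a_sorted.2, ← List.toFinset_card_of_nodup ((nodup_of_sortedB a_sorted.1).imp fun h => ne_of_lt h),
      ← Nat.card_eq_finsetCard]
    refine Nat.card_congr (Equiv.ofBijective (fun x : ↥A' => (⟨C x, List.mem_toFinset.2 (hA' x x.2)⟩ : aList.toFinset))
      ⟨fun x y h => Subtype.ext (hM.inj (congrArg Subtype.val h)), fun ⟨v, hv⟩ => ?_⟩)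
    obtain ⟨h1, h2⟩ := hA0 v (List.mem_toFinset.1 hv)
    obtain ⟨x, hx⟩ := hM.surj v (contains_mem h2)
    exact ⟨⟨x, by show aTree.mem (C x) = true; rw [hx]; exact h1⟩, Subtype.ext hx⟩
  have hZA : Z ≤ A' := fun x hx => by
    rcases (hcen x).1 hx with rfl | rfl
    · exact A'.one_mem
    · show aTree.mem (C x) = true; rw [hz]; exact a_base.2
  set A := A'.map (QuotientGroup.mk' Z) with hAdef
  have hAcomap : A.comap (QuotientGroup.mk' Z) = A' := by
    rw [hAdef, Subgroup.comap_map_eq, QuotientGroup.ker_mk', sup_eq_left.2 hZA]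
  have hAcard : Nat.card ↥A = 64 := by
    have := hcomap A
    rw [hAcomap, hA'card] at this
    omega
  have hAmem : ∀ x : P, (x : P ⧸ Z) ∈ A ↔ x ∈ A' := fun x => by
    rw [← hAcomap]; rfl
  have hAcomm : ∀ a ∈ A', ∀ b ∈ A', (a : P ⧸ Z) * b = b * a := fun a ha b hb =>
    (hcz a b).2 (hclosed _ (hA' a ha) _ (hA' b hb)).2
  refine ⟨⟨A, ⟨⟨⟨fun a b => ?_⟩⟩, fun a ha => ?_⟩, hAcard⟩, ?_⟩
  · obtain ⟨a, x, hx, rfl⟩ := a
    obtain ⟨b, y, hy, rfl⟩ := b
    exact Subtype.ext (hAcomm x hx y hy)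
  · obtain ⟨x, hx, rfl⟩ := ha
    have h := a_square
    simp only [List.all_eq_true, Bool.or_eq_true, beq_iff_eq] at h
    rw [pow_two, ← map_mul, QuotientGroup.mk'_apply, ← QuotientGroup.mk_one, hmk, mul_one]
    rcases h _ (hA' x hx) with h | h
    · exact Or.inl (hM.inj (by rw [hM.mul, h, hM.one]))
    · exact Or.inr (hM.inj (by rw [hM.mul, h, hz]))
  -- uniqueness
  suffices hkey : ∀ B : Subgroup (P ⧸ Z), IsMulCommutative ↥B → Nat.card ↥B = 64 → B = A by
    exact fun A₁ B₁ h1 h2 h3 h4 => (hkey A₁ h1 h2).trans (hkey B₁ h3 h4).symm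
  intro B hBc hB
  by_contra hne
  have hBcomm : ∀ x y : P, (x : P ⧸ Z) ∈ B → (y : P ⧸ Z) ∈ B → (x : P ⧸ Z) * y = y * x := fun x y hx hy =>
    congrArg Subtype.val (hBc.is_comm.comm ⟨_, hx⟩ ⟨_, hy⟩)
  have hw := w_mem
  simp only [List.all_eq_true, Bool.and_eq_true, beq_iff_eq] at hw
  choose wx hwx using fun i : Fin 7 => hM.surj (wList.getD i (0, 0)).1 (contains_mem (hw _ (by
    rw [List.getD_eq_getElem _ _ (by rw [w_size.1]; exact i.isLt)]; exact List.getElem_mem _)).2)
  have hget : ∀ i : Fin 7, wList.getD i (0, 0) ∈ wList := fun i => by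
    rw [List.getD_eq_getElem _ _ (by rw [w_size.1]; exact i.isLt)]; exact List.getElem_mem _
  let rep : Fin 8 → P := fun i => if h : i.val < 7 then wx ⟨i.val, h⟩ else 1
  have hcover : ∀ x : P, ∃ i : Fin 8, (rep i)⁻¹ * x ∈ A' := by
    intro x
    have h := w_cover
    simp only [List.all_eq_true, Bool.or_eq_true, List.any_eq_true] at h
    rcases h _ (hM.mem x) with h | ⟨p, hp, h⟩
    · exact ⟨⟨7, by norm_num⟩, by simpa [rep] using (show x ∈ A' from h)⟩
    · obtain ⟨i, hi, rfl⟩ := List.getElem_of_mem hp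
      have hi7 : i < 7 := w_size.1 ▸ hi
      refine ⟨⟨i, by omega⟩, ?_⟩
      show aTree.mem (C _) = true
      have hrep : rep ⟨i, by omega⟩ = wx ⟨i, hi7⟩ := dif_pos hi7
      have hwi : C (wx ⟨i, hi7⟩) = wList[i].1 := by
        exact (hwx _).trans (congrArg Prod.fst (List.getD_eq_getElem _ _ hi))
      have hinv : C (wx ⟨i, hi7⟩)⁻¹ = wList[i].2 := by
        have e : pmul (C (wx ⟨i, hi7⟩)) wList[i].2 = idC :=
          (congrArg (fun a => pmul a wList[i].2) hwi).trans (hw _ (List.getElem_mem hi)).1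
        have h' := w_inv_mem
        simp only [List.all_eq_true] at h'
        obtain ⟨y, hy⟩ := hM.surj _ (contains_mem (h' _ (List.getElem_mem hi)))
        have e' : C (wx ⟨i, hi7⟩ * y) = C 1 :=
          (hM.mul _ _).trans ((congrArg (pmul (C (wx ⟨i, hi7⟩))) hy).trans (e.trans hM.one.symm))
        exact (congrArg C (inv_eq_of_mul_eq_one_right (hM.inj e'))).trans hy
      rw [hrep, hM.mul, hinv]
      exact h
  choose ci hci using hcover
  have hcoset : ∀ x : P, ∃ a ∈ A', x = rep (ci x) * a := fun x => ⟨_, hci x, (mul_inv_cancel_left _ _).symm⟩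
  -- B meets A in elements centralising the representatives
  have hcent : ∀ x : P, (x : P ⧸ Z) ∈ B → ∀ a : P, (a : P ⧸ Z) ∈ B ⊓ A → cz (C (rep (ci x))) (C a) = true := by
    intro x hx a ha
    obtain ⟨a', ha', hxa⟩ := hcoset x
    rw [← hcz]
    have h1 := hBcomm x a hx ha.1
    rw [hxa, QuotientGroup.mk_mul, mul_assoc, hAcomm a' ha' a ((hAmem a).1 ha.2), ← mul_assoc, ← mul_assoc] at h1
    exact mul_right_cancel h1
  set I := B ⊓ A with hIdef
  have hIcard : ∀ (p : ℕ → Bool) (N : ℕ), (aList.filter p).length ≤ N → (∀ a : P, (a : P ⧸ Z) ∈ I → p (C a) = true) →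
      2 * Nat.card ↥I ≤ N := by
    intro p N hN hp'
    rw [← hcomap I]
    refine le_trans ?_ hN
    refine le_trans ?_ (List.toFinset_card_le _)
    rw [← Nat.card_eq_finsetCard]
    exact Nat.card_le_card_of_injective (fun a : ↥(I.comap (QuotientGroup.mk' Z)) =>
      (⟨C a, List.mem_toFinset.2 (List.mem_filter.2 ⟨hA' a ((hAmem a).1 a.2.2), hp' a a.2⟩)⟩ : (aList.filter p).toFinset))
      fun x y h => Subtype.ext (hM.inj (congrArg Subtype.val h))
  -- occupied cosets
  let occ : Finset (Fin 8) := Finset.univ.filter fun i => ∃ x : P, (x : P ⧸ Z) ∈ B ∧ ci x = i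
  have hbound : Nat.card ↥B ≤ occ.card * Nat.card ↥I := by
    choose r hr hri using fun i : occ => (Finset.mem_filter.1 i.2).2
    have hmemI : ∀ b : ↥B, ∃ (i : occ) (a : ↥I), (b : P ⧸ Z) = (r i : P ⧸ Z) * a := by
      intro b
      obtain ⟨x, hx⟩ := QuotientGroup.mk_surjective (b : P ⧸ Z)
      have hxB : (x : P ⧸ Z) ∈ B := hx ▸ b.2
      let i : occ := ⟨ci x, Finset.mem_filter.2 ⟨Finset.mem_univ _, x, hxB, rfl⟩⟩
      refine ⟨i, ⟨(r i : P ⧸ Z)⁻¹ * x, B.mul_mem (B.inv_mem (hr i)) hxB, ?_⟩, by rw [mul_inv_cancel_left]; exact hx.symm⟩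
      show (r i : P ⧸ Z)⁻¹ * (x : P ⧸ Z) ∈ A
      rw [← QuotientGroup.mk_inv, ← QuotientGroup.mk_mul, hAmem]
      obtain ⟨a1, ha1, e1⟩ := hcoset x
      obtain ⟨a2, ha2, e2⟩ := hcoset (r i)
      rw [e1, e2, show ci (r i) = ci x from hri i]
      simpa [mul_assoc] using A'.mul_mem (A'.inv_mem ha2) ha1
    choose fi fa hf using hmemI
    have h := Nat.card_le_card_of_injective (fun b : ↥B => (fi b, fa b)) fun b b' h => Subtype.ext (by
      rw [hf b, hf b']
      exact congrArg (fun q : occ × ↥I => (r q.1 : P ⧸ Z) * (q.2 : P ⧸ Z)) h)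
    rwa [Nat.card_prod, Nat.card_eq_finsetCard occ] at h
  have hI64 : Nat.card ↥I ≤ 64 := hAcard ▸ Subgroup.card_le_of_le inf_le_right
  have hocc7 : ∃ i ∈ occ, i.val < 7 := by
    by_contra hcon
    push Not at hcon
    refine hne (Subgroup.eq_of_le_of_card_ge (fun q hq => ?_) (le_of_eq (hAcard.trans hB.symm)))
    obtain ⟨x, rfl⟩ := QuotientGroup.mk_surjective q
    have h7 := hcon (ci x) (Finset.mem_filter.2 ⟨Finset.mem_univ _, x, hq, rfl⟩)
    rw [hAmem]
    have h := hci x
    simp only [rep, dif_neg (not_lt.2 h7), inv_one, one_mul] at h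
    exact h
  have hrep : ∀ (i : Fin 8) (h : i.val < 7), C (rep i) = (wList.getD i.val (0, 0)).1 := fun i h => by
    simp only [rep, dif_pos h, hwx]
  obtain ⟨i₁, hi₁, hi₁7⟩ := hocc7
  obtain ⟨x₁, hx₁, hci₁⟩ := (Finset.mem_filter.1 hi₁).2
  have hw1 := w_single
  simp only [List.all_eq_true, Nat.ble_eq] at hw1
  have h16 : 2 * Nat.card ↥I ≤ 32 := hIcard _ _ (hw1 _ (hget ⟨i₁.val, hi₁7⟩)) fun a ha => by
    have := hcent x₁ hx₁ a ha
    rwa [hci₁, hrep i₁ hi₁7] at this
  rw [hB] at hbound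
  have h3 : 3 ≤ occ.card := by
    by_contra h
    have : occ.card * Nat.card ↥I ≤ 2 * 16 := Nat.mul_le_mul (by omega) (by omega)
    omega
  obtain ⟨i₂, hi₂, hi₂1, hi₂7⟩ : ∃ i ∈ occ, i ≠ i₁ ∧ i.val < 7 := by
    by_contra hcon
    push Not at hcon
    have : occ ⊆ {i₁, ⟨7, by norm_num⟩} := fun i hi => by
      by_cases h : i = i₁
      · exact Finset.mem_insert.2 (Or.inl h)
      · refine Finset.mem_insert.2 (Or.inr (Finset.mem_singleton.2 (Fin.ext ?_)))
        have := hcon i hi h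
        have := i.isLt
        show i.val = 7
        omega
    have := (Finset.card_le_card this).trans Finset.card_le_two
    omega
  obtain ⟨x₂, hx₂, hci₂⟩ := (Finset.mem_filter.1 hi₂).2
  have hw2 := w_pair
  simp only [List.all_eq_true, Bool.or_eq_true, beq_iff_eq, Nat.ble_eq] at hw2
  have h8 : 2 * Nat.card ↥I ≤ 16 := by
    rcases hw2 _ (hget ⟨i₁.val, hi₁7⟩) _ (hget ⟨i₂.val, hi₂7⟩) with h | h
    · exfalso
      refine hi₂1 (Fin.ext ?_)
      have hnd : wList.Nodup := by decide +kernel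
      simp only at h
      rw [List.getD_eq_getElem _ _ (by rw [w_size.1]; exact hi₁7), List.getD_eq_getElem _ _ (by rw [w_size.1]; exact hi₂7)] at h
      exact ((hnd.getElem_inj_iff).1 h).symm
    · refine hIcard _ _ h fun a ha => ?_
      have e1 := hcent x₁ hx₁ a ha
      have e2 := hcent x₂ hx₂ a ha
      rw [hci₁, hrep i₁ hi₁7] at e1
      rw [hci₂, hrep i₂ hi₂7] at e2
      simp only [e1, e2, Bool.and_self]
  have hall : occ = Finset.univ := by
    refine Finset.eq_univ_of_card _ (le_antisymm (Finset.card_le_univ _) ?_)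
    rw [Fintype.card_fin]
    by_contra h
    have : occ.card * Nat.card ↥I ≤ 7 * 8 := Nat.mul_le_mul (by omega) (by omega)
    omega
  obtain ⟨y0, hy0, hc0⟩ := (Finset.mem_filter.1 (show (⟨0, by norm_num⟩ : Fin 8) ∈ occ by rw [hall]; exact Finset.mem_univ _)).2
  obtain ⟨y2, hy2, hc2⟩ := (Finset.mem_filter.1 (show (⟨2, by norm_num⟩ : Fin 8) ∈ occ by rw [hall]; exact Finset.mem_univ _)).2
  obtain ⟨a0, ha0, e0⟩ := hcoset y0
  obtain ⟨a2, ha2, e2⟩ := hcoset y2
  have h := (hcz y0 y2).1 (hBcomm y0 y2 hy0 hy2)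
  rw [e0, e2, hc0, hc2, hM.mul, hM.mul, hrep _ (by norm_num), hrep _ (by norm_num)] at h
  have hn := w_noncomm
  simp only [List.all_eq_true, Bool.not_eq_true'] at hn
  rw [hn _ (hA' a0 ha0) _ (hA' a2 ha2)] at h
  exact Bool.false_ne_true h

theorem Good.of_equiv {Q R : Type*} [Group Q] [Group R] (e : Q ≃* R) (h : Good Q) : Good R := by
  have hc : ∀ A : Subgroup R, IsMulCommutative ↥A → IsMulCommutative ↥(A.comap e.toMonoidHom) := fun A hA =>
    ⟨⟨fun a b => Subtype.ext (e.injective (by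
      rw [Subgroup.coe_mul, Subgroup.coe_mul, map_mul, map_mul]
      exact congrArg Subtype.val (hA.is_comm.comm ⟨e a, a.2⟩ ⟨e b, b.2⟩)))⟩⟩
  have hcard : ∀ A : Subgroup R, Nat.card ↥(A.comap e.toMonoidHom) = Nat.card ↥A := fun A =>
    Nat.card_congr (Equiv.subtypeEquiv e.toEquiv fun a => Iff.rfl)
  obtain ⟨h1, ⟨A, hA, hAc⟩, h3⟩ := h
  refine ⟨fun M hM => ?_, ⟨A.map e.toMonoidHom, ⟨⟨⟨fun a b => ?_⟩⟩, fun a ha => ?_⟩, ?_⟩, fun A B hA1 hA2 hB1 hB2 => ?_⟩
  · have hM' : IsCoatom (M.comap e.toMonoidHom) := (e.comapSubgroup.isCoatom_iff M).2 hM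
    have := h1 _ hM'
    have e' : ↥(Subgroup.center ↥(M.comap e.toMonoidHom)) ≃* ↥(Subgroup.center ↥M) :=
      Subgroup.centerCongr ((e.subgroupMap _).trans (MulEquiv.subgroupCongr
        (Subgroup.map_comap_eq_self_of_surjective e.surjective M)))
    rwa [Nat.card_congr e'.toEquiv] at this
  · obtain ⟨a, x, hx, rfl⟩ := a
    obtain ⟨b, y, hy, rfl⟩ := b
    exact Subtype.ext (((map_mul e x y).symm.trans (congrArg e (congrArg Subtype.val (hA.1.is_comm.comm ⟨x, hx⟩ ⟨y, hy⟩)))).trans (map_mul e y x))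
  · obtain ⟨x, hx, rfl⟩ := ha
    rw [← map_pow, hA.2 x hx, map_one]
  · rw [Nat.card_congr (A.equivMapOfInjective _ e.injective).toEquiv.symm, hAc]
  · refine Subgroup.comap_injective e.surjective (h3 _ _ (hc A hA1) ?_ (hc B hB1) ?_)
    · rw [hcard, hA2]
    · rw [hcard, hB2]

theorem sgen_eq : m24Cert.sgen = [2, 3, 4, 5] ∧ m24Cert.z = 31 := by decide +kernel

theorem gens_code : (m24Gens.map fun g : M24 => code g.1) = m24Cert.gl := by decide +kernel

theorem code_one : code 1 = idC := by decide +kernel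

theorem gens_get (i : ℕ) : code ((m24Gens.getD i 1 : M24) : Equiv.Perm GolayPt) = m24Cert.g i := by
  rw [Cert.g, ← gens_code]
  rcases lt_or_ge i m24Gens.length with hlt | hge
  · rw [List.getD_eq_getElem _ _ hlt, List.getD_eq_getElem _ _ (by simpa using hlt), List.getElem_map]
  · rw [List.getD_eq_default _ _ hge, List.getD_eq_default _ _ (by simpa using hge), OneMemClass.coe_one, code_one]

/-- The property for every Sylow two-subgroup of `M24`. -/
theorem good_sylow (P : Sylow 2 M24) : Good (↥(P : Subgroup M24) ⧸ Subgroup.center ↥(P : Subgroup M24)) := by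
  haveI : Fact (Nat.Prime 2) := ⟨Nat.prime_two⟩
  obtain ⟨P0, hP0⟩ := exists_facts m24Cert (fun x : M24 => code (x : Equiv.Perm GolayPt))
    (fun x y => (congrArg code (Subgroup.coe_mul M24 x y)).trans (code_mul _ _)) code_one
    (fun x y e => Subtype.ext (code_injective e)) (fun i => m24Gens.getD i 1) gens_get card_m24
    m24_checkS m24_checkCenter m24_checkSize
  have hgm : ∀ j : ℕ, j < 4 → (m24Gens.getD (2 + j) 1 : M24) ∈ (P0 : Subgroup M24) := fun j hj => by
    refine hP0.gen_mem _ ?_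
    rw [sgen_eq.1]
    interval_cases j <;> decide
  let C : ↥(P0 : Subgroup M24) → ℕ := fun x => code ((x : M24) : Equiv.Perm GolayPt)
  have hM : Model ↥(P0 : Subgroup M24) C := by
    refine ⟨fun x y => (congrArg code (Subgroup.coe_mul M24 _ _)).trans (code_mul _ _), code_one,
      fun x y e => Subtype.ext (Subtype.ext (code_injective e)), fun x => hP0.mem_list x x.2,
      fun v hv => ?_, fun H hH => ?_, fun j hj => ⟨⟨_, hgm j hj⟩, gens_get _⟩, ?_⟩
    · obtain ⟨σ, hσ, e⟩ := hP0.of_list v hv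
      exact ⟨⟨σ, hσ⟩, e⟩
    · have h : (P0 : Subgroup M24) ≤ H.map (P0 : Subgroup M24).subtype := by
        refine (le_of_eq hP0.gen_top).trans ((Subgroup.closure_le _).2 ?_)
        rintro _ ⟨s, hs, rfl⟩
        rw [sgen_eq.1] at hs
        obtain ⟨j, hj, rfl⟩ : ∃ j, j < 4 ∧ s = 2 + j := by
          simp only [List.mem_cons, List.not_mem_nil, or_false] at hs
          exact ⟨s - 2, by omega, by omega⟩
        exact ⟨⟨_, hgm j hj⟩, hH _ ⟨j, hj, gens_get _⟩, rfl⟩
      refine (Subgroup.eq_top_iff' _).2 fun x => ?_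
      obtain ⟨y, hy, e⟩ := h x.2
      rwa [← Subtype.ext e]
    · refine ⟨⟨_, hP0.z_mem⟩, (gens_get _).trans (by rw [zc, sgen_eq.2]), fun e => hP0.z_ne (congrArg Subtype.val e),
        fun x => ⟨fun h => ?_, ?_⟩⟩
      · rcases hP0.center x x.2 (fun s hs => congrArg Subtype.val (Subgroup.mem_center_iff.1 h ⟨s, hs⟩)) with e | e
        · exact Or.inl (Subtype.ext e)
        · exact Or.inr (Subtype.ext e)
      · rintro (rfl | rfl)
        · exact one_mem _
        · exact Subgroup.mem_center_iff.2 fun s => Subtype.ext (hP0.z_comm s s.2)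
  have hcard : Nat.card ↥(P0 : Subgroup M24) = 1024 := by
    rw [Sylow.card_eq_multiplicity, card_m24, show (244823040 : ℕ) = 2 ^ 10 * 239085 by norm_num,
      Nat.factorization_mul (by norm_num) (by norm_num), Finsupp.coe_add, Pi.add_apply, Nat.Prime.factorization_pow Nat.prime_two,
      Finsupp.single_eq_same, Nat.factorization_eq_zero_of_not_dvd (by norm_num)]
    norm_num
  refine (good_of_model hM P0.2 hcard).of_equiv (QuotientGroup.congr _ _ (Sylow.equiv P0 P) ?_)
  ext y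
  constructor
  · rintro ⟨x, hx, rfl⟩
    exact Subgroup.mem_center_iff.2 fun g => by
      obtain ⟨g', rfl⟩ := (Sylow.equiv P0 P).surjective g
      exact ((map_mul _ g' x).symm.trans (congrArg _ (Subgroup.mem_center_iff.1 hx g'))).trans (map_mul _ x g')
  · intro hy
    obtain ⟨x, rfl⟩ := (Sylow.equiv P0 P).surjective y
    exact ⟨x, Subgroup.mem_center_iff.2 fun g => (Sylow.equiv P0 P).injective (by
      rw [map_mul, map_mul]; exact Subgroup.mem_center_iff.1 hy _), rfl⟩

end Cfsg.Agent.Lie.M24Sylow
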