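import Cfsg.Agent.Lib.Lie.BruhatAux

/-!
Closed lists of negative roots: ordered products and their uniqueness.
-/

set_option autoImplicit false

namespace Cfsg.Agent.Lie

open Cfsg.Lie Matrix
open scoped MatrixGroups

variable {D : ChevalleyDatum} {F : Type*} [Field F]

/-- A decreasing list of negative roots closed under the commutator formula. -/
structure NegList (D : ChevalleyDatum) (L : List ℕ) : Prop where
  sorted : L.Pairwise (· > ·)
  mem_neg : ∀ r ∈ L, r < D.nroots / 2
  closed : ∀ r ∈ L, ∀ s ∈ L, r ≠ s → ∀ c ∈ D.commTerms r s, c.1 ∈ L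

namespace Facts

variable (hF : Facts D)

include hF in
theorem psi_negRoot {r : ℕ} (hr : r < D.nroots / 2) : hF.psi r < 0 := by
  have hr' : r < D.nroots := by omega
  have := hF.psi_pos (hF.neg_lt hr') ((hF.neg_ge_iff hr').2 hr)
  rw [hF.psi_neg hr'] at this
  omega

include hF in
theorem commTerms_below {r s : ℕ} (hr : r < D.nroots / 2) (hs : s < D.nroots / 2)
    {c : ℕ × ℤ × ℕ × ℕ} (hc : c ∈ D.commTerms r s) : c.1 < r ∧ c.1 < s := by
  have hr' : r < D.nroots := by omega
  have hs' : s < D.nroots := by omega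
  obtain ⟨h1, h2, -⟩ := hF.commTerms_psi hr' hs' hc
  have h := hF.commTerms_psi' hr' hs' hc
  have hlt := hF.commTerms_lt hr' hs' c hc
  have a := hF.psi_negRoot hr
  have b := hF.psi_negRoot hs
  have h1' : (1 : ℤ) ≤ c.2.2.1 := by exact_mod_cast h1
  have h2' : (1 : ℤ) ≤ c.2.2.2 := by exact_mod_cast h2
  exact ⟨hF.lt_of_psi_lt hlt (by nlinarith), hF.lt_of_psi_lt hlt (by nlinarith)⟩

/-- g − 1 and g⁻¹ − 1 lower heights by at least k. -/
def lowerLevel (k : ℕ) : Subgroup (GL D.Idx F) where
  carrier := {g | hF.Raises k ((g : Matrix D.Idx D.Idx F) - 1)ᵀ ∧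
    hF.Raises k ((↑g⁻¹ : Matrix D.Idx D.Idx F) - 1)ᵀ}
  one_mem' := by simp [Raises]
  inv_mem' := fun {g} ⟨h1, h2⟩ => ⟨h2, by simpa using h1⟩
  mul_mem' := by
    intro a b ha hb
    have key : ∀ M N : Matrix D.Idx D.Idx F, hF.Raises k (M - 1)ᵀ → hF.Raises k (N - 1)ᵀ →
        hF.Raises k (M * N - 1)ᵀ := by
      intro M N hM hN
      rw [show M * N - 1 = (M - 1) * (N - 1) + ((M - 1) + (N - 1)) by noncomm_ring,
        Matrix.transpose_add, Matrix.transpose_mul, Matrix.transpose_add]
      exact Raises.add hF (Raises.mono hF (by omega) (Raises.mul hF hN hM)) (Raises.add hF hM hN)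
    refine ⟨?_, ?_⟩
    · rw [Units.val_mul]; exact key _ _ ha.1 hb.1
    · rw [_root_.mul_inv_rev, Units.val_mul]; exact key _ _ hb.2 ha.2

theorem xg_mem_lowerLevel {m r : ℕ} (hm : m < D.nroots / 2) (hrm : r < m) (t : F) :
    hF.xg r t ∈ hF.lowerLevel ((-hF.psi m).toNat + 1) := by
  have hlt := hF.psi_lt hrm (show m < D.nroots by omega)
  have hneg := hF.psi_negRoot hm
  have key : ∀ u : F, hF.Raises (((-hF.psi m).toNat + 1 : ℕ) : ℤ) (D.x F r u - 1)ᵀ := by
    intro u p q h
    obtain ⟨k, hk, he⟩ := hF.x_sub_one_supp r (by omega) u q p h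
    have h1 : (1 : ℤ) ≤ k := by exact_mod_cast hk
    push_cast
    rw [Int.toNat_of_nonneg (by omega)]
    nlinarith
  refine ⟨key t, ?_⟩
  rw [← hF.xg_neg]
  exact key (-t)

theorem xg_eq_zero_of_mem_lowerLevel {m : ℕ} (hm : m < D.nroots / 2) {t : F}
    (h : hF.xg m t ∈ hF.lowerLevel ((-hF.psi m).toNat + 1)) : t = 0 := by
  have hm' : m < D.nroots := by omega
  obtain ⟨d, hd⟩ := hF.co_primitive m hm'
  have hneg := hF.psi_negRoot hm
  have hne : ∀ j, j < D.rank → (co D m j : F) * t = 0 := by
    intro j hj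
    by_contra hc
    have hs := hF.neg_lt hm'
    have hcol := congrFun (x_mulVec_neg (F := F) hF m hm' t) (Sum.inl ⟨j, hj⟩)
    rw [eR, show D.rank + D.neg m = (idxEquiv D (Sum.inr ⟨D.neg m, hs⟩) : ℕ) from
      (idx_inr D ⟨_, hs⟩).symm, eI_eq_single, Matrix.mulVec_single_one] at hcol
    have h1 : (j : ℕ) ≠ D.rank + m := by omega
    simp only [Pi.sub_apply, Pi.add_apply, Finset.sum_apply, Pi.smul_apply, smul_eq_mul,
      Pi.single_apply, Sum.inl_ne_inr, if_false, zero_add, eI_apply, idx_inl, h1, mul_zero,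
      sub_zero, mul_ite, mul_one] at hcol
    rw [Finset.sum_ite_eq, if_pos (Finset.mem_range.2 hj)] at hcol
    have := h.1 (Sum.inr ⟨D.neg m, hs⟩) (Sum.inl ⟨j, hj⟩) (by
      rw [Matrix.transpose_apply, Matrix.sub_apply, Matrix.one_apply_ne (by simp), sub_zero, coe_xg]
      rw [show D.x F m t (Sum.inl ⟨j, hj⟩) (Sum.inr ⟨D.neg m, hs⟩) = _ from hcol]
      exact hc)
    simp only [hgt, Sum.elim_inl, Sum.elim_inr, hF.psi_neg hm'] at this
    push_cast at this
    rw [Int.toNat_of_nonneg (by omega)] at this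
    omega
  have hcast : ((∑ j ∈ Finset.range D.rank, d j * co D m j : ℤ) : F) = 1 := by simp [hd]
  calc t = ((∑ j ∈ Finset.range D.rank, d j * co D m j : ℤ) : F) * t := by rw [hcast, one_mul]
    _ = 0 := by
      rw [Int.cast_sum, Finset.sum_mul]
      refine Finset.sum_eq_zero fun j hj => ?_
      rw [Int.cast_mul, mul_assoc, hne j (Finset.mem_range.1 hj), mul_zero]

end Facts

theorem NegList.tail {D : ChevalleyDatum} (hF : Facts D) {m : ℕ} {L : List ℕ}
    (h : NegList D (m :: L)) : NegList D L := by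
  refine ⟨(List.pairwise_cons.1 h.sorted).2, fun r hr => h.mem_neg r (List.mem_cons_of_mem _ hr), ?_⟩
  intro r hr s hs hne c hc
  have hgt := (hF.commTerms_below (h.mem_neg r (List.mem_cons_of_mem _ hr))
    (h.mem_neg s (List.mem_cons_of_mem _ hs)) hc).1
  have hmr := (List.pairwise_cons.1 h.sorted).1 r hr
  rcases List.mem_cons.1 (h.closed r (List.mem_cons_of_mem _ hr) s (List.mem_cons_of_mem _ hs) hne c hc)
    with rfl | hmem
  · omega
  · exact hmem

namespace CommSys

variable {hF : Facts D} {Γ : Type*} [Group Γ] (S : CommSys hF F Γ)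

/-- Every element of US of a negative closed list is an ordered product. -/
theorem exists_prodOver_neg : ∀ {L : List ℕ}, NegList D L → ∀ {g : Γ}, g ∈ S.US L →
    ∃ t : ℕ → F, g = S.prodOver L t := by
  intro L
  induction L with
  | nil =>
    intro _ g hg
    refine ⟨fun _ => 0, ?_⟩
    have : S.US [] = ⊥ := by simp [US]
    rw [this, Subgroup.mem_bot] at hg
    simp [hg, prodOver]
  | cons m L ih =>
    intro hL g hg
    have hT : NegList D L := hL.tail hF
    have hm1 := hL.mem_neg m (by simp)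
    have hlt := (List.pairwise_cons.1 hL.sorted).1
    have hnorm : ∀ t, S.x m t ∈ Subgroup.normalizer (S.US L : Set Γ) := by
      refine fun t => S.x_normalizes (by omega) (fun s hs => ?_) t
      have hs1 := hT.mem_neg s hs
      refine ⟨by omega, ?_, fun hne c hc => ?_⟩
      · intro h
        have h2 := (hF.neg_ge_iff (show m < D.nroots by omega)).2 hm1
        omega
      · rcases List.mem_cons.1 (hL.closed m (by simp) s (List.mem_cons_of_mem _ hs) (Ne.symm hne) c hc)
          with h | h
        · have := (hF.commTerms_below hm1 hs1 hc).1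
          omega
        · exact h
    have key : ∃ a, ∃ u ∈ S.US L, g = S.x m a * u := by
      induction hg using Subgroup.closure_induction with
      | mem g hg =>
        obtain ⟨r, hr, a, rfl⟩ := hg
        rcases List.mem_cons.1 hr with rfl | hr
        · exact ⟨a, 1, one_mem _, by simp⟩
        · exact ⟨0, _, S.x_mem_US hr a, by simp [S.x_zero]⟩
      | one => exact ⟨0, 1, one_mem _, by simp [S.x_zero]⟩
      | mul p q _ _ hp hq =>
        obtain ⟨a, u, hu, rfl⟩ := hp
        obtain ⟨b, v, hv, rfl⟩ := hq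
        refine ⟨a + b, (S.x m b)⁻¹ * u * S.x m b * v,
          mul_mem ((Subgroup.mem_normalizer_iff''.1 (hnorm b) u).1 hu) hv, ?_⟩
        rw [S.x_add]
        group
      | inv p _ hp =>
        obtain ⟨a, u, hu, rfl⟩ := hp
        refine ⟨-a, S.x m a * u⁻¹ * (S.x m a)⁻¹,
          (Subgroup.mem_normalizer_iff.1 (hnorm a) u⁻¹).1 (inv_mem hu), ?_⟩
        rw [S.x_neg]
        group
    obtain ⟨a, u, hu, rfl⟩ := key
    obtain ⟨t, rfl⟩ := ih hT hu
    refine ⟨Function.update t m a, ?_⟩
    rw [prodOver, prodOver, List.map_cons, List.prod_cons, Function.update_self]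
    congr 2
    refine List.map_congr_left fun r hr => ?_
    rw [Function.update_of_ne (ne_of_lt (hlt r hr))]

end CommSys

namespace Facts

variable (hF : Facts D)

/-- Uniqueness of the ordered product, negative roots. -/
theorem prodOver_inj_neg : ∀ {L : List ℕ}, NegList D L → ∀ {t t' : ℕ → F},
    (hF.sys F).prodOver L t = (hF.sys F).prodOver L t' → ∀ r ∈ L, t r = t' r := by
  intro L
  induction L with
  | nil => simp
  | cons m L ih =>
    intro hL t t' h r hr
    have hT : NegList D L := hL.tail hF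
    have hm := hL.mem_neg m (by simp)
    have hlt := (List.pairwise_cons.1 hL.sorted).1
    have hle : (hF.sys F).US L ≤ hF.lowerLevel ((-hF.psi m).toNat + 1) :=
      CommSys.US_le _ fun s hs u => hF.xg_mem_lowerLevel hm (hlt s hs) u
    simp only [CommSys.prodOver, List.map_cons, List.prod_cons] at h
    have hd : (hF.sys F).x m (t m - t' m) ∈ hF.lowerLevel ((-hF.psi m).toNat + 1) := by
      have he : (hF.sys F).x m (t m - t' m) =
          (hF.sys F).prodOver L t' * ((hF.sys F).prodOver L t)⁻¹ := by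
        simp only [CommSys.prodOver]
        rw [sub_eq_neg_add, CommSys.x_add, CommSys.x_neg, eq_mul_inv_iff_mul_eq, mul_assoc, h,
          inv_mul_cancel_left]
      rw [he]
      exact mul_mem (hle (CommSys.prodOver_mem _ L t'))
        (inv_mem (hle (CommSys.prodOver_mem _ L t)))
    have heq : t m = t' m := sub_eq_zero.1 (hF.xg_eq_zero_of_mem_lowerLevel hm hd)
    rcases List.mem_cons.1 hr with rfl | hr
    · exact heq
    · refine ih hT ?_ r hr
      simp only [CommSys.prodOver]
      rw [heq] at h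
      exact mul_left_cancel h

end Facts

end Cfsg.Agent.Lie
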