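import Mathlib
import Cfsg.Agent.Lib.Solv.Basic

/-!
Primitive groups which are not almost simple and have one class of derangements.
-/

set_option autoImplicit false
open scoped Pointwise
open MulAction

namespace Cfsg.Agent.Lie.OneDer

universe u v

variable {X : Type u} [Group X] [Finite X]

/-- Jordan: the conjugates of a proper subgroup do not cover the group. -/
theorem exists_not_conj (M : Subgroup X) (hM : M ≠ ⊤) : ∃ d : X, ∀ t : X, t * d * t⁻¹ ∉ M := by
  classical
  by_contra hc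
  push Not at hc
  haveI := Fintype.ofFinite X
  haveI : ∀ g : X, Fintype (fixedBy (X ⧸ M) g) := fun g => Fintype.ofFinite _
  haveI : Fintype (Quotient (orbitRel X (X ⧸ M))) := Fintype.ofFinite _
  have h := sum_card_fixedBy_eq_card_orbits_mul_card_group X (X ⧸ M)
  haveI : Subsingleton (Quotient (orbitRel X (X ⧸ M))) :=
    ⟨fun a b => by
      induction a using Quotient.inductionOn'; induction b using Quotient.inductionOn'
      exact Quotient.sound' (exists_smul_eq X _ _)⟩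
  rw [Fintype.card_eq_one_iff.2 ⟨Quotient.mk'' ((1 : X) : X ⧸ M), fun y => Subsingleton.elim _ _⟩, one_mul] at h
  have hpos : ∀ g : X, 1 ≤ Fintype.card (fixedBy (X ⧸ M) g) := by
    intro g
    obtain ⟨t, ht⟩ := hc g
    refine Fintype.card_pos_iff.2 ⟨⟨((t⁻¹ : X) : X ⧸ M), ?_⟩⟩
    show ((g * t⁻¹ : X) : X ⧸ M) = ((t⁻¹ : X) : X ⧸ M)
    rw [QuotientGroup.eq]
    simpa [mul_assoc] using inv_mem ht
  have hone : 2 ≤ Fintype.card (fixedBy (X ⧸ M) (1 : X)) := by
    rw [show Fintype.card (fixedBy (X ⧸ M) (1 : X)) = Fintype.card (X ⧸ M) from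
      Fintype.card_congr (Equiv.subtypeUnivEquiv fun x => one_smul X x)]
    have : M.index ≠ 1 := fun e => hM (Subgroup.index_eq_one.1 e)
    rw [Subgroup.index_eq_card, Nat.card_eq_fintype_card] at this
    have : 0 < Fintype.card (X ⧸ M) := Fintype.card_pos
    omega
  have hlt : ∑ _g : X, 1 < ∑ g : X, Fintype.card (fixedBy (X ⧸ M) g) :=
    Finset.sum_lt_sum (fun g _ => hpos g) ⟨1, Finset.mem_univ _, by omega⟩
  rw [Finset.sum_const, Finset.card_univ, smul_eq_mul, mul_one, h] at hlt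
  omega

variable {G : Type u} {Ω : Type v} [Group G] [Finite G] [MulAction G Ω] [FaithfulSMul G Ω] [Finite Ω]

/-- All derangements are conjugate and there is one. -/
def OneClass (G : Type u) (Ω : Type v) [Group G] [MulAction G Ω] : Prop :=
  (∃ g : G, ∀ ω : Ω, g • ω ≠ ω) ∧ ∀ g g' : G, (∀ ω : Ω, g • ω ≠ ω) → (∀ ω : Ω, g' • ω ≠ ω) → IsConj g g'

omit [Finite G] [Finite Ω] [FaithfulSMul G Ω] in
theorem oneClass_iff :
    Nat.card {c : ConjClasses G // ∃ g : G, ConjClasses.mk g = c ∧ ∀ ω : Ω, g • ω ≠ ω} = 1 ↔ OneClass G Ω := by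
  rw [Nat.card_eq_one_iff_unique]
  constructor
  · rintro ⟨hs, ⟨c, g, rfl, hg⟩⟩
    refine ⟨⟨g, hg⟩, fun x y hx hy => ConjClasses.mk_eq_mk_iff_isConj.1 ?_⟩
    exact congrArg Subtype.val (hs.elim ⟨_, x, rfl, hx⟩ ⟨_, y, rfl, hy⟩)
  · rintro ⟨⟨g, hg⟩, h⟩
    exact ⟨⟨fun ⟨_, x, rfl, hx⟩ ⟨_, y, rfl, hy⟩ => Subtype.ext (ConjClasses.mk_eq_mk_iff_isConj.2 (h x y hx hy))⟩,
      ⟨⟨_, g, rfl, hg⟩⟩⟩

theorem oneClass_of_sharp (hn : 2 ≤ Nat.card Ω) (h2 : IsMultiplyPretransitive G Ω 2)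
    (hs : ∀ g : G, g ≠ 1 → ∀ a b : Ω, a ≠ b → g • a = a → g • b ≠ b) : OneClass G Ω := by
  classical
  haveI := Fintype.ofFinite Ω
  haveI := Fintype.ofFinite G
  haveI := h2
  haveI : IsPretransitive G Ω := MulAction.isPretransitive_of_is_two_pretransitive
  haveI : Nontrivial Ω := Finite.one_lt_card_iff_nontrivial.1 (by omega)
  obtain ⟨a, b, hab⟩ := exists_pair_ne Ω
  have hH : Nat.card (stabilizer G a) = Nat.card Ω - 1 := by
    have e : Nat.card (stabilizer G a) = Nat.card {x : Ω // x ≠ a} := by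
      refine Nat.card_congr (Equiv.ofBijective
        (fun g => (⟨(g : G) • b, fun e => hab (by rw [← smul_left_cancel_iff (g : G), mem_stabilizer_iff.1 g.2, e])⟩ : {x : Ω // x ≠ a})) ⟨?_, ?_⟩)
      · intro g g' e
        by_contra hne
        have hb : ((g : G)⁻¹ * g') • b = b := by
          rw [mul_smul, show (g' : G) • b = (g : G) • b from (congrArg Subtype.val e).symm, inv_smul_smul]
        refine hs _ (fun e' => hne (Subtype.ext (inv_mul_eq_one.1 e'))) a b hab ?_ hb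
        exact mem_stabilizer_iff.1 (mul_mem (inv_mem g.2) g'.2)
      · rintro ⟨x, hx⟩
        obtain ⟨g, h1, h2'⟩ := (MulAction.is_two_pretransitive_iff.1 h2) hab (Ne.symm hx)
        exact ⟨⟨g, h1⟩, Subtype.ext h2'⟩
    rw [e, Nat.card_eq_fintype_card, Fintype.card_subtype_compl, Fintype.card_subtype_eq, Nat.card_eq_fintype_card]
  set Dr := Finset.univ.filter (fun g : G => ∀ ω : Ω, g • ω ≠ ω) with hDr
  have hstab : ∀ c : Ω, (Finset.univ.filter (fun g : G => g ≠ 1 ∧ g • c = c)).card = Nat.card Ω - 2 := by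
    intro c
    obtain ⟨g, rfl⟩ := exists_smul_eq G a c
    have e1 : (Finset.univ.filter (fun x : G => x • g • a = g • a)).card = Nat.card Ω - 1 := by
      rw [← hH, Nat.card_congr (stabilizerEquivStabilizer (g := g) (a := a) (b := g • a) rfl).toEquiv,
        Nat.card_eq_fintype_card, ← Fintype.card_subtype]
      exact Fintype.card_congr (Equiv.refl _)
    have e2 : (Finset.univ.filter (fun x : G => x ≠ 1 ∧ x • g • a = g • a)) =
        (Finset.univ.filter (fun x : G => x • g • a = g • a)).erase 1 := by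
      ext x; simp
    rw [e2, Finset.card_erase_of_mem (by simp), e1]
    omega
  have hsplit : Finset.univ.erase (1 : G) = Dr ∪ Finset.univ.biUnion
      (fun c : Ω => Finset.univ.filter (fun g : G => g ≠ 1 ∧ g • c = c)) := by
    ext g
    simp only [Finset.mem_erase, Finset.mem_univ, and_true, Finset.mem_union, Finset.mem_biUnion,
      Finset.mem_filter, true_and, hDr]
    constructor
    · intro h1
      by_cases h : ∀ ω : Ω, g • ω ≠ ω
      · exact Or.inl h
      · push Not at h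
        obtain ⟨c, hc⟩ := h
        exact Or.inr ⟨c, h1, hc⟩
    · rintro (h | ⟨c, h, -⟩)
      · rintro rfl
        exact h a (one_smul _ _)
      · exact h
  have hDcard : Dr.card = Nat.card Ω - 1 := by
    have hdis1 : Disjoint Dr (Finset.univ.biUnion
        (fun c : Ω => Finset.univ.filter (fun g : G => g ≠ 1 ∧ g • c = c))) := by
      rw [Finset.disjoint_left]
      intro g hg hg'
      simp only [hDr, Finset.mem_filter, Finset.mem_biUnion, Finset.mem_univ, true_and] at hg hg'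
      obtain ⟨c, -, hc⟩ := hg'
      exact hg c hc
    have hdis2 : (Set.univ : Set Ω).PairwiseDisjoint
        (fun c : Ω => Finset.univ.filter (fun g : G => g ≠ 1 ∧ g • c = c)) := by
      intro c _ c' _ hne
      rw [Function.onFun, Finset.disjoint_left]
      intro g hg hg'
      simp only [Finset.mem_filter, Finset.mem_univ, true_and] at hg hg'
      exact hs g hg.1 c c' hne hg.2 hg'.2
    have hc := congrArg Finset.card hsplit
    rw [Finset.card_erase_of_mem (Finset.mem_univ _), Finset.card_union_of_disjoint hdis1,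
      Finset.card_biUnion (fun c hc c' hc' => hdis2 (Set.mem_univ c) (Set.mem_univ c')),
      Finset.sum_congr rfl fun c _ => hstab c, Finset.sum_const, Finset.card_univ, Finset.card_univ,
      ← Nat.card_eq_fintype_card, ← Nat.card_eq_fintype_card, smul_eq_mul] at hc
    have hGc : Nat.card G = Nat.card Ω * (Nat.card Ω - 1) := by
      have h := (stabilizer G a).index_mul_card
      rw [index_stabilizer_of_transitive, hH] at h
      exact h.symm
    obtain ⟨m, hm⟩ : ∃ m, Nat.card Ω = m + 2 := ⟨Nat.card Ω - 2, by omega⟩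
    rw [hGc, hm] at hc
    simp only [Nat.add_sub_cancel, show m + 2 - 1 = m + 1 by omega] at hc ⊢
    have e1 : (m + 2) * (m + 1) = (m + 2) * m + (m + 2) := by ring
    rw [hm]
    omega
  obtain ⟨x, hx⟩ : ∃ x, x ∈ Dr := Finset.card_pos.1 (by omega)
  simp only [hDr, Finset.mem_filter, Finset.mem_univ, true_and] at hx
  refine ⟨⟨x, hx⟩, ?_⟩
  have hconjD : ∀ g : G, g * x * g⁻¹ ∈ Dr := by
    intro g
    simp only [hDr, Finset.mem_filter, Finset.mem_univ, true_and]
    intro ω h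
    rw [mul_smul, mul_smul, smul_eq_iff_eq_inv_smul] at h
    exact hx _ h
  have himg : Finset.univ.image (fun h : stabilizer G a => (h : G) * x * (h : G)⁻¹) = Dr := by
    refine Finset.eq_of_subset_of_card_le (fun y hy => ?_) ?_
    · obtain ⟨h, -, rfl⟩ := Finset.mem_image.1 hy
      exact hconjD h
    · rw [hDcard, ← hH, Finset.card_image_of_injective _ ?_, Finset.card_univ, Nat.card_eq_fintype_card]
      intro g g' e
      simp only at e
      by_contra hne
      set k := (g : G)⁻¹ * g' with hk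
      have hkx : k * x = x * k := by
        rw [hk]
        calc (g : G)⁻¹ * g' * x = (g : G)⁻¹ * ((g' : G) * x * (g' : G)⁻¹) * g' := by group
          _ = (g : G)⁻¹ * ((g : G) * x * (g : G)⁻¹) * g' := by rw [e]
          _ = x * ((g : G)⁻¹ * g') := by group
      have hka : k • a = a := mem_stabilizer_iff.1 (mul_mem (inv_mem g.2) g'.2)
      refine hs k (fun e' => hne (Subtype.ext (inv_mul_eq_one.1 e'))) a (x • a) (Ne.symm (hx a)) hka ?_
      rw [← mul_smul, hkx, mul_smul, hka]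
  intro y y' hy hy'
  have key : ∀ y, (∀ ω : Ω, y • ω ≠ ω) → IsConj x y := by
    intro y hy
    have : y ∈ Dr := by simp only [hDr, Finset.mem_filter, Finset.mem_univ, true_and]; exact hy
    rw [← himg] at this
    obtain ⟨g, -, rfl⟩ := Finset.mem_image.1 this
    exact isConj_iff.2 ⟨g, rfl⟩
  exact (key y hy).symm.trans (key y' hy')

omit [Finite G] [Finite Ω] in
theorem normal_transitive (hprim : IsPreprimitive G Ω) (N : Subgroup G) [hN : N.Normal] (hne : N ≠ ⊥) (a o : Ω) :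
    ∃ x ∈ N, x • a = o := by
  haveI := hprim
  haveI := hprim.toIsPretransitive
  rcases (IsPreprimitive.isTrivialBlock_of_isBlock (IsBlock.orbit_of_normal (N := N) a)) with hs | hu
  · exfalso
    refine hne ((Subgroup.eq_bot_iff_forall _).2 fun n hn => eq_of_smul_eq_smul (α := Ω) fun (x : Ω) => ?_)
    obtain ⟨g, rfl⟩ := exists_smul_eq G a x
    have := hs (mem_orbit a (⟨_, hN.conj_mem n hn g⁻¹⟩ : N)) (mem_orbit_self a)
    rw [Subgroup.mk_smul, inv_inv, mul_smul, mul_smul, inv_smul_eq_iff] at this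
    rw [this, one_smul]
  · obtain ⟨x, hx⟩ : o ∈ orbit N a := hu ▸ Set.mem_univ o
    exact ⟨x.1, x.2, hx⟩

theorem derangement_mem (hn : 2 ≤ Nat.card Ω) (hprim : IsPreprimitive G Ω) (hone : OneClass G Ω)
    (N : Subgroup G) [hN : N.Normal] (hne : N ≠ ⊥) {g : G} (hg : ∀ ω : Ω, g • ω ≠ ω) : g ∈ N := by
  classical
  haveI : Nonempty Ω := (Nat.card_pos_iff.1 (by omega)).1
  haveI : Nontrivial Ω := Finite.one_lt_card_iff_nontrivial.1 (by omega)
  obtain ⟨a, b, hab⟩ := exists_pair_ne Ω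
  haveI : IsPretransitive N Ω := ⟨fun u w => by
    obtain ⟨x, hx, rfl⟩ := normal_transitive hprim N hne a u
    obtain ⟨y, hy, rfl⟩ := normal_transitive hprim N hne a w
    exact ⟨⟨y * x⁻¹, mul_mem hy (inv_mem hx)⟩, by rw [Subgroup.mk_smul, mul_smul, inv_smul_smul]⟩⟩
  have hM : stabilizer N a ≠ ⊤ := fun e => hab (by
    obtain ⟨x, hx⟩ := exists_smul_eq N a b
    rw [← hx, mem_stabilizer_iff.1 (e ▸ Subgroup.mem_top x)])
  obtain ⟨d, hd⟩ := exists_not_conj (stabilizer N a) hM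
  have hder : ∀ ω : Ω, (d : G) • ω ≠ ω := by
    intro ω h
    obtain ⟨t, rfl⟩ := exists_smul_eq N a ω
    refine hd t⁻¹ ?_
    rw [mem_stabilizer_iff, inv_inv, mul_smul, mul_smul, inv_smul_eq_iff]
    exact h
  obtain ⟨c, rfl⟩ := isConj_iff.1 (hone.2 _ g hder hg)
  exact hN.conj_mem _ d.2 c

theorem abelian_case (hn : 2 ≤ Nat.card Ω) (hprim : IsPreprimitive G Ω) (hone : OneClass G Ω)
    (N : Subgroup G) [hN : N.Normal] (hne : N ≠ ⊥) (hab : ∀ x ∈ N, ∀ y ∈ N, x * y = y * x) :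
    IsMultiplyPretransitive G Ω 2 ∧ ∀ g : G, g ≠ 1 → ∀ a b : Ω, a ≠ b → g • a = a → g • b ≠ b := by
  classical
  haveI := hprim.toIsPretransitive
  have hreg : ∀ x ∈ N, ∀ o : Ω, x • o = o → x = 1 := by
    intro x hx o ho
    refine eq_of_smul_eq_smul (α := Ω) fun (o' : Ω) => ?_
    obtain ⟨z, hz, rfl⟩ := normal_transitive hprim N hne o o'
    rw [← mul_smul, hab x hx z hz, mul_smul, ho, one_smul]
  refine ⟨?_, ?_⟩
  · rw [MulAction.is_two_pretransitive_iff]
    intro a b c d hab' hcd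
    have hder : ∀ x ∈ N, x ≠ 1 → ∀ ω : Ω, x • ω ≠ ω := fun x hx hx1 ω e => hx1 (hreg x hx ω e)
    obtain ⟨u, hu⟩ := exists_smul_eq G a c
    have hne' : u • b ≠ c := fun e => hab' (by rw [← hu, smul_left_cancel_iff] at e; exact e.symm)
    obtain ⟨x, hx, hxb⟩ := normal_transitive hprim N hne c (u • b)
    obtain ⟨y, hy, hyd⟩ := normal_transitive hprim N hne c d
    have hx1 : x ≠ 1 := fun e => hne' (by rw [← hxb, e, one_smul])
    have hy1 : y ≠ 1 := fun e => hcd (by rw [← hyd, e, one_smul])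
    obtain ⟨g, hg⟩ := isConj_iff.1 (hone.2 x y (hder x hx hx1) (hder y hy hy1))
    obtain ⟨n, hn', hnc⟩ := normal_transitive hprim N hne (g • c) c
    have hconj : (n * g) * x * (n * g)⁻¹ = y := by
      have : n * y * n⁻¹ = y := by rw [hab n hn' y hy, mul_inv_cancel_right]
      calc (n * g) * x * (n * g)⁻¹ = n * (g * x * g⁻¹) * n⁻¹ := by group
        _ = y := by rw [hg, this]
    have hc : (n * g) • c = c := by rw [mul_smul, hnc]
    refine ⟨(n * g) * u, by rw [mul_smul, hu, hc], ?_⟩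
    rw [mul_smul, ← hxb, ← mul_smul, show n * g * x = y * (n * g) by rw [← hconj]; group, mul_smul, hc, hyd]
  · intro g hg1 a b hab' hga hgb
    obtain ⟨v, hv, hvb⟩ := normal_transitive hprim N hne a b
    have hv1 : v ≠ 1 := fun e => hab' (by rw [← hvb, e, one_smul])
    have hcomm : g * v = v * g := by
      have hm : g * v * g⁻¹ ∈ N := hN.conj_mem v hv g
      have := hreg _ (mul_mem (inv_mem hv) hm) a (by
        rw [mul_smul, mul_smul, mul_smul, ← hga, inv_smul_smul, hga, hvb, hgb, ← hvb, inv_smul_smul])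
      rw [inv_mul_eq_one] at this
      conv_rhs => rw [this]
      group
    let φ : N → N := fun u => ⟨u.1 * (g * u.1 * g⁻¹)⁻¹, mul_mem u.2 (inv_mem (hN.conj_mem u.1 u.2 g))⟩
    have hnsurj : ¬ Function.Surjective φ := by
      intro hs
      have hinj := Finite.injective_iff_surjective.2 hs
      have : φ ⟨v, hv⟩ = φ 1 := Subtype.ext (by simp [φ, hcomm])
      exact hv1 (congrArg Subtype.val (hinj this))
    obtain ⟨⟨w, hw⟩, hwim⟩ := not_forall.1 hnsurj
    have hder : ∀ ω : Ω, (w * g) • ω ≠ ω := by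
      intro ω e
      obtain ⟨z, hz, rfl⟩ := normal_transitive hprim N hne a ω
      have hm : g * z * g⁻¹ ∈ N := hN.conj_mem z hz g
      have h1 : (w * g) • z • a = (w * (g * z * g⁻¹)) • a := by
        conv_rhs => rw [mul_smul, mul_smul, mul_smul, inv_smul_eq_iff.2 hga.symm]
        rw [mul_smul]
      rw [h1] at e
      have := hreg _ (mul_mem (inv_mem hz) (mul_mem hw hm)) a (by rw [mul_smul, e, inv_smul_smul])
      rw [inv_mul_eq_one] at this
      refine hwim ⟨⟨z, hz⟩, Subtype.ext ?_⟩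
      show z * (g * z * g⁻¹)⁻¹ = w
      rw [mul_inv_eq_iff_eq_mul]
      exact this
    have hmem := derangement_mem hn hprim hone N hne hder
    have hgN : g ∈ N := by simpa using mul_mem (inv_mem hw) hmem
    exact hg1 (hreg g hgN a hga)

theorem sharp_of_oneClass (hn : 2 ≤ Nat.card Ω) (hprim : IsPreprimitive G Ω)
    (hnas : ¬ ∃ T : Subgroup G, T.Normal ∧ IsSimpleGroup T ∧ ¬ IsMulCommutative T ∧ Subgroup.centralizer (T : Set G) = ⊥)
    (hone : OneClass G Ω) :
    IsMultiplyPretransitive G Ω 2 ∧ ∀ g : G, g ≠ 1 → ∀ a b : Ω, a ≠ b → g • a = a → g • b ≠ b := by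
  classical
  haveI := hprim.toIsPretransitive
  obtain ⟨x₀, hx₀⟩ := hone.1
  haveI : Nonempty Ω := (Nat.card_pos_iff.1 (by omega)).1
  obtain ⟨a⟩ := (inferInstance : Nonempty Ω)
  haveI : Nontrivial G := ⟨x₀, 1, fun e => hx₀ a (by rw [e, one_smul])⟩
  obtain ⟨N, hNn, hNne, hmin⟩ := Solv.exists_minimal_normal (G := G)
  haveI := hNn
  by_cases hab : ∀ x ∈ N, ∀ y ∈ N, x * y = y * x
  · exact abelian_case hn hprim hone N hNne hab
  exfalso
  haveI : Nontrivial N := (Subgroup.nontrivial_iff_ne_bot N).2 hNne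
  obtain ⟨T₀, hT₀, hT₀ne, hT₀min⟩ := Solv.exists_minimal_normal (G := N)
  -- conjugates of the minimal normal subgroup of `N`
  let T : G → Subgroup G := fun g => (T₀.map N.subtype).map (MulAut.conj g).toMonoidHom
  have hTle : ∀ g, T g ≤ N := by
    rintro g _ ⟨_, ⟨x, -, rfl⟩, rfl⟩
    exact hNn.conj_mem x.1 x.2 g
  have hTnorm : ∀ g n, n ∈ N → ∀ y, y ∈ T g → n * y * n⁻¹ ∈ T g := by
    rintro g n hn _ ⟨_, ⟨x, hx, rfl⟩, rfl⟩
    have hm : g⁻¹ * n * g ∈ N := by simpa using hNn.conj_mem n hn g⁻¹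
    refine ⟨_, ⟨⟨g⁻¹ * n * g, hm⟩ * x * ⟨g⁻¹ * n * g, hm⟩⁻¹, hT₀.conj_mem x hx _, rfl⟩, ?_⟩
    simp [mul_assoc]
  have hTmin : ∀ g (R : Subgroup G), R ≤ T g → (∀ n ∈ N, ∀ y, y ∈ R → n * y * n⁻¹ ∈ R) → R = ⊥ ∨ R = T g := by
    intro g R hR hRn
    let R₀ : Subgroup N := (R.map (MulAut.conj g⁻¹).toMonoidHom).comap N.subtype
    have hmem : ∀ y : N, y ∈ R₀ ↔ g * y.1 * g⁻¹ ∈ R := fun y =>
      ⟨by rintro ⟨r, hr, e⟩; rw [← show MulAut.conj g⁻¹ r = y.1 from e]; simpa [mul_assoc] using hr,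
        fun h => ⟨_, h, by simp [mul_assoc]⟩⟩
    have hR₀ : R₀.Normal := ⟨fun y hy n => by
      rw [hmem] at hy ⊢
      have := hRn (g * n.1 * g⁻¹) (hNn.conj_mem n.1 n.2 g) _ hy
      simpa [mul_assoc] using this⟩
    have hle : R₀ ≤ T₀ := fun y hy => by
      obtain ⟨_, ⟨x, hx, rfl⟩, e⟩ := hR ((hmem y).1 hy)
      have : x = y := Subtype.ext (by simpa using e)
      exact this ▸ hx
    rcases hT₀min R₀ hR₀ hle with h | h
    · left
      refine (Subgroup.eq_bot_iff_forall _).2 fun r hr => ?_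
      obtain ⟨_, ⟨x, hx, rfl⟩, e⟩ := hR hr
      have hx0 : x ∈ R₀ := (hmem x).2 (by simpa [← e] using hr)
      rw [h, Subgroup.mem_bot] at hx0
      rw [← e, hx0]; simp
    · right
      refine le_antisymm hR ?_
      rintro _ ⟨_, ⟨x, hx, rfl⟩, rfl⟩
      have hx0 : x ∈ R₀ := h ▸ hx
      simpa using (hmem x).1 hx0
  have hTne : ∀ g, T g ≠ ⊥ := fun g e => hT₀ne ((Subgroup.map_eq_bot_iff_of_injective _ (Subgroup.subtype_injective _)).1
    ((Subgroup.map_eq_bot_iff_of_injective _ (MulAut.conj g).injective).1 e))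
  have hcomm : ∀ g, T g ≠ T 1 → ∀ y ∈ T g, ∀ z ∈ T 1, y * z = z * y := by
    intro g hg y hy z hz
    rcases hTmin 1 (T g ⊓ T 1) inf_le_right (fun n hn w hw => ⟨hTnorm g n hn w hw.1, hTnorm 1 n hn w hw.2⟩) with h | h
    · have h1 : y * z * y⁻¹ ∈ T 1 := hTnorm 1 y (hTle g hy) z hz
      have h2 : z * y⁻¹ * z⁻¹ ∈ T g := hTnorm g z (hTle 1 hz) _ (inv_mem hy)
      have h3 : y * z * y⁻¹ * z⁻¹ ∈ T g ⊓ T 1 :=
        Subgroup.mem_inf.2 ⟨by simpa [mul_assoc] using mul_mem hy h2, mul_mem h1 (inv_mem hz)⟩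
      rw [h, Subgroup.mem_bot] at h3
      exact mul_inv_eq_iff_eq_mul.1 (mul_inv_eq_one.1 h3)
    · rcases hTmin g (T g ⊓ T 1) inf_le_left (fun n hn w hw => ⟨hTnorm g n hn w hw.1, hTnorm 1 n hn w hw.2⟩) with h' | h'
      · exact absurd (h.symm.trans h') (hTne 1)
      · exact absurd (h'.symm.trans h) hg
  set C := N ⊓ Subgroup.centralizer (T 1 : Set G) with hC
  have hgen : ∀ n ∈ N, ∃ t ∈ T 1, ∃ c ∈ C, n = t * c := by
    let P : Subgroup G :=
      { carrier := {n | ∃ t ∈ T 1, ∃ c ∈ C, n = t * c}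
        one_mem' := ⟨1, one_mem _, 1, one_mem _, (mul_one 1).symm⟩
        mul_mem' := by
          rintro _ _ ⟨t, ht, c, hc, rfl⟩ ⟨t', ht', c', hc', rfl⟩
          refine ⟨t * t', mul_mem ht ht', c * c', mul_mem hc hc', ?_⟩
          have := Subgroup.mem_centralizer_iff.1 hc.2 t' ht'
          calc t * c * (t' * c') = t * (c * t') * c' := by group
            _ = t * (t' * c) * c' := by rw [this]
            _ = t * t' * (c * c') := by group
        inv_mem' := by
          rintro _ ⟨t, ht, c, hc, rfl⟩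
          refine ⟨t⁻¹, inv_mem ht, c⁻¹, inv_mem hc, ?_⟩
          have := Subgroup.mem_centralizer_iff.1 hc.2 t ht
          rw [← mul_inv_rev, mul_inv_rev, ← mul_inv_rev, this, mul_inv_rev] }
    have hTP : ∀ g, T g ≤ P := by
      intro g y hy
      by_cases hg : T g = T 1
      · exact ⟨y, hg ▸ hy, 1, one_mem _, (mul_one y).symm⟩
      · refine ⟨1, one_mem _, y, Subgroup.mem_inf.2 ⟨hTle g hy, ?_⟩, (one_mul y).symm⟩
        rw [Subgroup.mem_centralizer_iff]
        exact fun z hz => (hcomm g hg y hy z hz).symm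
    have hsup : (⨆ g, T g).Normal := by
      constructor
      intro y hy k
      induction hy using Subgroup.iSup_induction' with
      | hp g y hy =>
        refine Subgroup.mem_iSup_of_mem (k * g) ?_
        obtain ⟨x, hx, rfl⟩ := hy
        exact ⟨x, hx, by simp [mul_assoc]⟩
      | h1 => simp
      | hmul y z _ _ hy hz =>
        rw [show k * (y * z) * k⁻¹ = (k * y * k⁻¹) * (k * z * k⁻¹) by group]
        exact mul_mem hy hz
    rcases hmin _ hsup (iSup_le hTle) with h | h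
    · exact absurd (le_bot_iff.1 ((le_iSup T 1).trans h.le)) (hTne 1)
    · intro n hn
      exact (iSup_le hTP : (⨆ g, T g) ≤ P) (h.symm ▸ hn)
  have hconjT : ∀ (g k : G) (y : G), y ∈ T g → k * y * k⁻¹ ∈ T (k * g) := by
    rintro g k _ ⟨x, hx, rfl⟩
    exact ⟨x, hx, by simp [mul_assoc]⟩
  have hTnab : ¬ ∀ y ∈ T 1, ∀ z ∈ T 1, y * z = z * y := by
    intro hT
    refine hab fun x hx y hy => ?_
    have hcent : ∀ g, ∀ y ∈ T g, ∀ z ∈ T 1, y * z = z * y := fun g y hy z hz => by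
      by_cases hg : T g = T 1
      · exact hT y (hg ▸ hy) z hz
      · exact hcomm g hg y hy z hz
    have hall : ∀ g g', ∀ y ∈ T g, ∀ z ∈ T g', y * z = z * y := by
      intro g g' y hy z hz
      have hy' := hconjT g g'⁻¹ y hy
      have hz' := hconjT g' g'⁻¹ z hz
      rw [inv_mul_cancel] at hz'
      have := hcent _ _ hy' _ hz'
      apply (MulAut.conj g'⁻¹).injective
      simp only [map_mul, MulAut.conj_apply]
      simpa [mul_assoc] using this
    have htop : (⨆ g, T g) = N := by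
      refine le_antisymm (iSup_le hTle) fun n hn => ?_
      obtain ⟨t, ht, c, hc, rfl⟩ := hgen n hn
      refine mul_mem (Subgroup.mem_iSup_of_mem 1 ht) ?_
      have hsupn : (⨆ g, T g).Normal := by
        constructor
        intro y hy k
        induction hy using Subgroup.iSup_induction' with
        | hp g y hy => exact Subgroup.mem_iSup_of_mem (k * g) (hconjT g k y hy)
        | h1 => simp
        | hmul y z _ _ hy hz =>
          rw [show k * (y * z) * k⁻¹ = (k * y * k⁻¹) * (k * z * k⁻¹) by group]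
          exact mul_mem hy hz
      rcases hmin _ hsupn (iSup_le hTle) with h | h
      · exact absurd (le_bot_iff.1 ((le_iSup T 1).trans h.le)) (hTne 1)
      · exact h.symm ▸ hc.1
    rw [← htop] at hx hy
    induction hx using Subgroup.iSup_induction' with
    | hp g x hx =>
      induction hy using Subgroup.iSup_induction' with
      | hp g' y hy => exact hall g g' x hx y hy
      | h1 => simp
      | hmul y z _ _ hy hz => exact Commute.mul_right hy hz
    | h1 => simp
    | hmul u z _ _ hu hz => exact Commute.mul_left hu hz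
  have hCn : ∀ c ∈ C, ∀ y ∈ T 1, c * y * c⁻¹ = y := fun c hc y hy => by
    rw [← Subgroup.mem_centralizer_iff.1 hc.2 y hy, mul_inv_cancel_right]
  have hCT : C ⊓ T 1 = ⊥ := by
    have hinv : ∀ n ∈ N, ∀ y, y ∈ C ⊓ T 1 → n * y * n⁻¹ ∈ C ⊓ T 1 := by
      intro n hn y hy
      obtain ⟨t, ht, c, hc, rfl⟩ := hgen n hn
      refine Subgroup.mem_inf.2 ⟨Subgroup.mem_inf.2 ⟨hTle 1 (hTnorm 1 _ hn y hy.2), ?_⟩, hTnorm 1 _ hn y hy.2⟩
      rw [show t * c * y * (t * c)⁻¹ = t * (c * y * c⁻¹) * t⁻¹ by group, hCn c hc y hy.2,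
        Subgroup.mem_centralizer_iff.1 hy.1.2 t ht, mul_inv_cancel_right]
      exact hy.1.2
    rcases hTmin 1 (C ⊓ T 1) inf_le_right hinv with h | h
    · exact h
    · exfalso
      exact hTnab fun y hy z hz => (Subgroup.mem_centralizer_iff.1 ((h.symm ▸ hy : y ∈ C ⊓ T 1).1.2) z hz).symm
  haveI hTsimple : IsSimpleGroup (T 1) := by
    haveI : Nontrivial (T 1) := (Subgroup.nontrivial_iff_ne_bot _).2 (hTne 1)
    refine ⟨fun R hR => ?_⟩
    have hinv : ∀ n ∈ N, ∀ y, y ∈ R.map (T 1).subtype → n * y * n⁻¹ ∈ R.map (T 1).subtype := by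
      rintro n hn _ ⟨y, hy, rfl⟩
      obtain ⟨t, ht, c, hc, rfl⟩ := hgen n hn
      refine ⟨⟨t, ht⟩ * y * ⟨t, ht⟩⁻¹, hR.conj_mem y hy _, ?_⟩
      show t * y.1 * t⁻¹ = t * c * y.1 * (t * c)⁻¹
      rw [show t * c * y.1 * (t * c)⁻¹ = t * (c * y.1 * c⁻¹) * t⁻¹ by group, hCn c hc y.1 y.2]
    rcases hTmin 1 (R.map (T 1).subtype) (Subgroup.map_subtype_le R) hinv with h | h
    · exact Or.inl ((Subgroup.map_eq_bot_iff_of_injective _ (Subgroup.subtype_injective _)).1 h)
    · refine Or.inr (Subgroup.map_injective (Subgroup.subtype_injective _) (h.trans ?_))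
      simp [← MonoidHom.range_eq_map]
  by_cases honeT : ∀ g, T g = T 1
  · -- `N` is simple
    haveI hnormal : (T 1).Normal := ⟨fun y hy k => by
      have := hconjT 1 k y hy
      rwa [mul_one, honeT] at this⟩
    refine hnas ⟨T 1, hnormal, hTsimple, fun h => hTnab fun y hy z hz =>
      congrArg Subtype.val (h.is_comm.comm ⟨y, hy⟩ ⟨z, hz⟩), ?_⟩
    by_contra hne
    refine hTnab fun y hy z hz => ?_
    have hd1 := derangement_mem hn hprim hone (T 1) (hTne 1) hx₀
    have hd2 := derangement_mem hn hprim hone (Subgroup.centralizer (T 1 : Set G)) hne hx₀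
    have hm : x₀ ∈ C ⊓ T 1 := ⟨⟨hTle 1 hd1, hd2⟩, hd1⟩
    rw [hCT, Subgroup.mem_bot] at hm
    exact absurd (by rw [hm, one_smul]) (hx₀ a)
  push Not at honeT
  obtain ⟨g₁, hg₁⟩ := honeT
  -- the projection of a point stabiliser
  set S := N ⊓ stabilizer G a with hS
  let M : Subgroup (T 1) :=
    { carrier := {t | ∃ c ∈ C, (t : G) * c ∈ S}
      one_mem' := ⟨1, one_mem _, by simp⟩
      mul_mem' := by
        rintro t t' ⟨c, hc, h⟩ ⟨c', hc', h'⟩
        refine ⟨c * c', mul_mem hc hc', ?_⟩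
        have e := Subgroup.mem_centralizer_iff.1 hc.2 t'.1 t'.2
        have : ((t * t' : T 1) : G) * (c * c') = (t.1 * c) * (t'.1 * c') := by
          push_cast
          calc t.1 * t'.1 * (c * c') = t.1 * (t'.1 * c) * c' := by group
            _ = t.1 * (c * t'.1) * c' := by rw [e]
            _ = _ := by group
        rw [this]
        exact mul_mem h h'
      inv_mem' := by
        rintro t ⟨c, hc, h⟩
        refine ⟨c⁻¹, inv_mem hc, ?_⟩
        have e := Subgroup.mem_centralizer_iff.1 hc.2 t.1 t.2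
        push_cast
        rw [← mul_inv_rev, ← e]
        exact inv_mem h }
  by_cases hM : M = ⊤
  · -- every nontrivial element of `T 1` is a derangement
    have hint : ∀ y ∈ T 1, y • a = a → y = 1 := by
      have hn2 : ∀ n ∈ N, ∀ y, y ∈ T 1 ⊓ S → n * y * n⁻¹ ∈ T 1 ⊓ S := by
        intro n hn y hy
        obtain ⟨t, ht, c, hc, rfl⟩ := hgen n hn
        obtain ⟨c', hc', hs⟩ : (⟨t, ht⟩ : T 1) ∈ M := hM ▸ Subgroup.mem_top _
        refine Subgroup.mem_inf.2 ⟨hTnorm 1 _ hn y hy.1, ?_⟩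
        have h2 := mul_mem (mul_mem hs hy.2) (inv_mem hs)
        rw [show t * c' * y * (t * c')⁻¹ = t * (c' * y * c'⁻¹) * t⁻¹ by group, hCn c' hc' y hy.1] at h2
        rw [show t * c * y * (t * c)⁻¹ = t * (c * y * c⁻¹) * t⁻¹ by group, hCn c hc y hy.1]
        exact h2
      intro y hy hya
      rcases hTmin 1 (T 1 ⊓ S) inf_le_left hn2 with h | h
      · have : y ∈ T 1 ⊓ S := ⟨hy, hTle 1 hy, hya⟩
        rw [h, Subgroup.mem_bot] at this
        exact this
      · exfalso
        refine hTne 1 ((Subgroup.eq_bot_iff_forall _).2 fun z hz => eq_of_smul_eq_smul (α := Ω) fun (o : Ω) => ?_)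
        obtain ⟨n, hn', rfl⟩ := normal_transitive hprim N hNne a o
        have hz' : n⁻¹ * z * n⁻¹⁻¹ ∈ T 1 ⊓ S := h.symm ▸ hTnorm 1 _ (inv_mem hn') z hz
        have := mem_stabilizer_iff.1 hz'.2.2
        rw [inv_inv, mul_smul, mul_smul, inv_smul_eq_iff] at this
        rw [this, one_smul]
    have hder : ∀ y ∈ T 1, y ≠ 1 → ∀ ω : Ω, y • ω ≠ ω := by
      intro y hy hy1 ω e
      obtain ⟨n, hn', rfl⟩ := normal_transitive hprim N hNne a ω
      have := hint _ (hTnorm 1 n⁻¹ (inv_mem hn') y hy) (by rw [inv_inv, mul_smul, mul_smul, e, inv_smul_smul])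
      exact hy1 (by have := congrArg (fun u => n * u * n⁻¹) this; simpa [mul_assoc] using this)
    have hord : ∀ y ∈ T 1, y ≠ 1 → ∀ z ∈ T 1, z ≠ 1 → orderOf y = orderOf z := by
      intro y hy hy1 z hz hz1
      obtain ⟨k, rfl⟩ := isConj_iff.1 (hone.2 y z (hder y hy hy1) (hder z hz hz1))
      exact (orderOf_injective (MulAut.conj k).toMonoidHom (MulAut.conj k).injective y).symm
    obtain ⟨p, hp, hpd⟩ := Nat.exists_prime_and_dvd (fun e => hTne 1 (Subgroup.card_eq_one.1 e) : Nat.card (T 1) ≠ 1)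
    haveI := Fact.mk hp
    obtain ⟨z, hz⟩ := exists_prime_orderOf_dvd_card' p hpd
    have hpg : IsPGroup p (T 1) := by
      intro y
      refine ⟨1, ?_⟩
      by_cases hy : y = 1
      · simp [hy]
      have hz1 : z ≠ 1 := fun e => by rw [e, orderOf_one] at hz; exact hp.ne_one hz.symm
      have := hord y.1 y.2 (fun e => hy (Subtype.ext e)) z.1 z.2 (fun e => hz1 (Subtype.ext e))
      rw [Subgroup.orderOf_coe, Subgroup.orderOf_coe, hz] at this
      rw [pow_one, ← this, pow_orderOf_eq_one]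
    haveI : Nontrivial (T 1) := (Subgroup.nontrivial_iff_ne_bot _).2 (hTne 1)
    rcases (inferInstance : (Subgroup.center (T 1)).Normal).eq_bot_or_eq_top with h | h
    · haveI := hpg.center_nontrivial
      exact (Subgroup.nontrivial_iff_ne_bot _).1 inferInstance h
    · exact hTnab fun y hy w hw => congrArg Subtype.val
        (Subgroup.mem_center_iff.1 (h ▸ Subgroup.mem_top (⟨w, hw⟩ : T 1)) ⟨y, hy⟩)
  · obtain ⟨d, hd⟩ := exists_not_conj M hM
    have hd1 : (d : G) ≠ 1 := fun e => hd 1 (by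
      rw [show d = 1 from Subtype.ext e]
      simpa using one_mem M)
    obtain ⟨z, hz, hz1⟩ : ∃ z ∈ T g₁, z ≠ 1 := by
      obtain ⟨⟨z, hz⟩, h⟩ := Subgroup.ne_bot_iff_exists_ne_one.1 (hTne g₁)
      exact ⟨z, hz, fun e => h (Subtype.ext e)⟩
    have hzC : z ∈ C := Subgroup.mem_inf.2 ⟨hTle g₁ hz, Subgroup.mem_centralizer_iff.2 fun w hw => (hcomm g₁ hg₁ z hz w hw).symm⟩
    have hder : ∀ c ∈ C, ∀ ω : Ω, ((d : G) * c) • ω ≠ ω := by
      intro c hc ω e
      obtain ⟨n, hn', rfl⟩ := normal_transitive hprim N hNne a ω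
      obtain ⟨t, ht, c₁, hc₁, htc⟩ := hgen n⁻¹ (inv_mem hn')
      have hmemS : n⁻¹ * ((d : G) * c) * n ∈ S := Subgroup.mem_inf.2
        ⟨by simpa using hNn.conj_mem _ (mul_mem (hTle 1 d.2) hc.1) n⁻¹,
          by rw [mem_stabilizer_iff, mul_smul, mul_smul, e, inv_smul_smul]⟩
      refine hd ⟨t, ht⟩ ⟨c₁ * c * c₁⁻¹, mul_mem (mul_mem hc₁ hc) (inv_mem hc₁), ?_⟩
      push_cast
      have hcomm' : ∀ w ∈ C, w * t⁻¹ = t⁻¹ * w := fun w hw =>
        (Subgroup.mem_centralizer_iff.1 hw.2 t⁻¹ (inv_mem ht)).symm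
      have e2 : t * d.1 * t⁻¹ * (c₁ * c * c₁⁻¹) = n⁻¹ * ((d : G) * c) * n := by
        rw [show n = (n⁻¹)⁻¹ from (inv_inv n).symm, inv_inv n⁻¹, htc]
        calc t * d.1 * t⁻¹ * (c₁ * c * c₁⁻¹) = t * d.1 * (t⁻¹ * (c₁ * c * c₁⁻¹)) := by group
          _ = t * d.1 * ((c₁ * c * c₁⁻¹) * t⁻¹) := by rw [hcomm' _ (mul_mem (mul_mem hc₁ hc) (inv_mem hc₁))]
          _ = t * (d.1 * c₁) * c * c₁⁻¹ * t⁻¹ := by group
          _ = t * (c₁ * d.1) * c * c₁⁻¹ * t⁻¹ := by rw [Subgroup.mem_centralizer_iff.1 hc₁.2 d.1 d.2]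
          _ = _ := by group
      rw [e2]
      exact hmemS
    have h0 := hder 1 (one_mem _)
    rw [mul_one] at h0
    obtain ⟨k, hk⟩ := isConj_iff.1 (hone.2 _ _ h0 (hder z hzC))
    have hmem := hconjT 1 k d.1 d.2
    rw [hk, mul_one] at hmem
    by_cases hk1 : T k = T 1
    · rw [hk1] at hmem
      have hzT : z ∈ C ⊓ T 1 := ⟨hzC, by simpa using mul_mem (inv_mem d.2) hmem⟩
      rw [hCT, Subgroup.mem_bot] at hzT
      exact hz1 hzT
    · -- `d` would be central
      have hcen : ∀ w ∈ T 1, d.1 * w = w * d.1 := by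
        intro w hw
        have h1 := hcomm k hk1 _ hmem w hw
        have h2 := Subgroup.mem_centralizer_iff.1 hzC.2 w hw
        rw [mul_assoc, ← h2, ← mul_assoc, ← mul_assoc] at h1
        exact mul_right_cancel h1
      have hdC : d.1 ∈ C ⊓ T 1 := ⟨⟨hTle 1 d.2, Subgroup.mem_centralizer_iff.2 fun w hw => (hcen w hw).symm⟩, d.2⟩
      rw [hCT, Subgroup.mem_bot] at hdC
      exact hd1 hdC

end Cfsg.Agent.Lie.OneDer
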