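import Cfsg.Prelude.Def_Classical

/-!
The derived group of the isometry group of the split quadratic form in odd dimension, over any field
with more than two elements, is generated by the long and short root elements.
-/

set_option autoImplicit false

namespace Cfsg.Agent.Lie.OddGen

open Matrix
open scoped commutatorElement

variable {F : Type*} [Field F] {m : ℕ}

/-- Coordinates. -/
abbrev Ix (m : ℕ) : Type := Unit ⊕ (Fin m ⊕ Fin m)

/-- The anisotropic coordinate. -/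
abbrev zz : Ix m := Sum.inl ()

/-- The place of a coordinate. -/
def pl (a : Fin m ⊕ Fin m) : Fin m := Sum.elim id id a

theorem pl_swap (a : Fin m ⊕ Fin m) : pl a.swap = pl a := by rcases a with a | a <;> rfl

theorem swap_ne (a : Fin m ⊕ Fin m) : a.swap ≠ a := by rcases a with a | a <;> simp

theorem ne_of_pl {a b : Fin m ⊕ Fin m} (h : pl a ≠ pl b) : a ≠ b ∧ a ≠ b.swap :=
  ⟨fun e => h (by rw [e]), fun e => h (by rw [e, pl_swap])⟩

theorem eq_or_of_pl {a p : Fin m ⊕ Fin m} (h : pl a = pl p) : a = p ∨ a = p.swap := by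
  rcases a with a | a <;> rcases p with p | p <;> simp_all [pl]

/-- The long root element. -/
def sel (a b : Fin m ⊕ Fin m) (c : F) (v : Ix m → F) : Ix m → F :=
  v + Pi.single (Sum.inr a) (c * v (Sum.inr b.swap)) - Pi.single (Sum.inr b) (c * v (Sum.inr a.swap))

/-- The short root element. -/
def sh (a : Fin m ⊕ Fin m) (c : F) (v : Ix m → F) : Ix m → F :=
  v + Pi.single zz (c * v (Sum.inr a.swap)) +
    Pi.single (Sum.inr a) ((-(2 * c * v zz) - c ^ 2 * v (Sum.inr a.swap) : F))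

theorem sel_apply (a b : Fin m ⊕ Fin m) (c : F) (v : Ix m → F) (q : Ix m) :
    sel a b c v q = v q + (if q = Sum.inr a then c * v (Sum.inr b.swap) else 0) -
      (if q = Sum.inr b then c * v (Sum.inr a.swap) else 0) := by
  simp [sel, Pi.single_apply]

theorem sh_apply (a : Fin m ⊕ Fin m) (c : F) (v : Ix m → F) (q : Ix m) :
    sh a c v q = v q + (if q = zz then c * v (Sum.inr a.swap) else 0) +
      (if q = Sum.inr a then -(2 * c * v zz) - c ^ 2 * v (Sum.inr a.swap) else 0) := by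
  simp [sh, Pi.single_apply]

/-- The bilinear form. -/
def bil (v w : Ix m → F) : F := 2 * v zz * w zz + ∑ a : Fin m ⊕ Fin m, v (Sum.inr a) * w (Sum.inr a.swap)

theorem quad_add (v w : Ix m → F) :
    Cfsg.quadFormOdd m F (v + w) = Cfsg.quadFormOdd m F v + Cfsg.quadFormOdd m F w + bil v w := by
  simp only [Cfsg.quadFormOdd, bil, Fintype.sum_sum_type, Pi.add_apply, Sum.swap_inl, Sum.swap_inr]
  have : ∀ i : Fin m, (v (Sum.inr (Sum.inl i)) + w (Sum.inr (Sum.inl i))) *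
      (v (Sum.inr (Sum.inr i)) + w (Sum.inr (Sum.inr i))) =
      v (Sum.inr (Sum.inl i)) * v (Sum.inr (Sum.inr i)) + w (Sum.inr (Sum.inl i)) * w (Sum.inr (Sum.inr i)) +
      (v (Sum.inr (Sum.inl i)) * w (Sum.inr (Sum.inr i)) + v (Sum.inr (Sum.inr i)) * w (Sum.inr (Sum.inl i))) :=
    fun i => by ring
  simp only [this, Finset.sum_add_distrib]
  ring

theorem bil_single (v : Ix m → F) (a : Fin m ⊕ Fin m) (c : F) :
    bil v (Pi.single (Sum.inr a) c) = c * v (Sum.inr a.swap) := by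
  rw [bil, Pi.single_eq_of_ne (show zz ≠ Sum.inr a from Sum.inl_ne_inr), mul_zero, zero_add,
    Finset.sum_eq_single a.swap]
  · simp [mul_comm]
  · intro b _ hb
    rw [Pi.single_eq_of_ne, mul_zero]
    exact fun h => hb (by rw [← Sum.inr_injective h, Sum.swap_swap])
  · simp

theorem bil_single_z (v : Ix m → F) (c : F) : bil v (Pi.single zz c) = 2 * v zz * c := by
  simp [bil]

theorem quad_single (a : Fin m ⊕ Fin m) (c : F) :
    Cfsg.quadFormOdd m F (Pi.single (Sum.inr a) c) = 0 := by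
  unfold Cfsg.quadFormOdd
  rw [Pi.single_eq_of_ne (show (Sum.inl () : Ix m) ≠ Sum.inr a from Sum.inl_ne_inr), zero_pow two_ne_zero, zero_add]
  refine Finset.sum_eq_zero fun i _ => ?_
  rcases a with a | a <;> simp

theorem quad_single_z (c : F) : Cfsg.quadFormOdd m F (Pi.single zz c) = c ^ 2 := by
  simp [Cfsg.quadFormOdd]

theorem quad_sel {a b : Fin m ⊕ Fin m} (hab' : a ≠ b.swap) (c : F) (v : Ix m → F) :
    Cfsg.quadFormOdd m F (sel a b c v) = Cfsg.quadFormOdd m F v := by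
  rw [sel, sub_eq_add_neg, ← Pi.single_neg, quad_add, quad_add, quad_single, quad_single, bil_single,
    bil_single, Pi.add_apply, Pi.single_eq_of_ne (fun h => Ne.symm hab' (Sum.inr_injective h))]
  ring

theorem quad_sh (a : Fin m ⊕ Fin m) (c : F) (v : Ix m → F) :
    Cfsg.quadFormOdd m F (sh a c v) = Cfsg.quadFormOdd m F v := by
  rw [sh, quad_add, quad_add, quad_single, quad_single_z, bil_single, bil_single_z, Pi.add_apply,
    Pi.single_eq_of_ne (show (Sum.inr a.swap : Ix m) ≠ zz from Sum.inr_ne_inl)]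
  ring

theorem iso_quad {g : GL (Ix m) F} (hg : g ∈ Cfsg.isometryGroup F (Cfsg.quadFormOdd m F)) (v : Ix m → F) :
    Cfsg.quadFormOdd m F (g.1 *ᵥ v) = Cfsg.quadFormOdd m F v := by
  have := hg v v
  simpa using this

theorem iso_bil {g : GL (Ix m) F} (hg : g ∈ Cfsg.isometryGroup F (Cfsg.quadFormOdd m F))
    (v w : Ix m → F) : bil (g.1 *ᵥ v) (g.1 *ᵥ w) = bil v w := by
  have h1 := iso_quad hg (v + w)
  rw [Matrix.mulVec_add, quad_add, quad_add, iso_quad hg, iso_quad hg] at h1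
  exact add_left_cancel h1

theorem ne_zero_single {g : GL (Ix m) F} (q : Ix m) : g.1 *ᵥ Pi.single q 1 ≠ 0 := by
  intro e
  have := congrArg (g⁻¹.1 *ᵥ ·) e
  simp only [Matrix.mulVec_mulVec, ← Units.val_mul, inv_mul_cancel, Units.val_one, Matrix.one_mulVec,
    Matrix.mulVec_zero] at this
  simpa using congrFun this q

/-- The elements fixing the first k pairs. -/
def Fix (k : ℕ) (g : GL (Ix m) F) : Prop :=
  ∀ a, (pl a).val < k → g.1 *ᵥ Pi.single (Sum.inr a) 1 = Pi.single (Sum.inr a) 1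

theorem fix_mul {k : ℕ} {g h : GL (Ix m) F} (hg : Fix k g) (hh : Fix k h) : Fix k (g * h) := by
  intro a ha
  rw [Units.val_mul, ← Matrix.mulVec_mulVec, hh a ha, hg a ha]

theorem fix_one {k : ℕ} : Fix k (1 : GL (Ix m) F) := fun a _ => by rw [Units.val_one, Matrix.one_mulVec]

theorem fix_coord {k : ℕ} {g : GL (Ix m) F} (hg : g ∈ Cfsg.isometryGroup F (Cfsg.quadFormOdd m F))
    (hk : Fix k g) (v : Ix m → F) {a : Fin m ⊕ Fin m} (ha : (pl a).val < k) :
    (g.1 *ᵥ v) (Sum.inr a) = v (Sum.inr a) := by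
  have h := iso_bil hg v (Pi.single (Sum.inr a.swap) 1)
  rw [hk a.swap (by rwa [pl_swap]), bil_single, bil_single, Sum.swap_swap, one_mul, one_mul] at h
  exact h

theorem low_zero {k : Fin m} {g : GL (Ix m) F} (hg : g ∈ Cfsg.isometryGroup F (Cfsg.quadFormOdd m F))
    (hk : Fix k.val g) {q : Fin m ⊕ Fin m} (hq : pl q = k) (a : Fin m ⊕ Fin m) (ha : pl a < k) :
    (g.1 *ᵥ Pi.single (Sum.inr q) 1) (Sum.inr a) = 0 := by
  rw [fix_coord hg hk _ (show (pl a).val < k.val from ha), Pi.single_eq_of_ne]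
  exact fun e => by rw [Sum.inr_injective e, hq] at ha; exact lt_irrefl _ ha

theorem ext_single {g h : GL (Ix m) F} (e : ∀ a, g.1 *ᵥ Pi.single a 1 = h.1 *ᵥ Pi.single a 1) : g = h :=
  Units.ext (Matrix.ext_of_mulVec_single e)

variable (F m) in
/-- The generators. -/
def gens : Set (GL (Ix m) F) :=
  {g | (∃ a b : Fin m ⊕ Fin m, ∃ c : F, a ≠ b ∧ a ≠ b.swap ∧ ∀ v, g.1 *ᵥ v = sel a b c v) ∨
    ∃ (a : Fin m ⊕ Fin m) (c : F), ∀ v, g.1 *ᵥ v = sh a c v}

variable (F m) in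
/-- All root elements exist. -/
def HasAll : Prop :=
  (∀ a b : Fin m ⊕ Fin m, a ≠ b → a ≠ b.swap → ∀ c : F, ∃ g : GL (Ix m) F, ∀ v, g.1 *ᵥ v = sel a b c v) ∧
    ∀ (a : Fin m ⊕ Fin m) (c : F), ∃ g : GL (Ix m) F, ∀ v, g.1 *ᵥ v = sh a c v

variable (hS : HasAll F m)

local notation "X" => Subgroup.closure (gens F m)

theorem gens_le : X ≤ Cfsg.isometryGroup F (Cfsg.quadFormOdd m F) := by
  rw [Subgroup.closure_le]
  rintro g (⟨a, b, c, h1, h2, hg⟩ | ⟨a, c, hg⟩) v _ <;> simp only [Units.coeHom_apply]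
  · rw [hg, quad_sel h2]
  · rw [hg, quad_sh]

include hS in
theorem exists_clear {k : Fin m} {p : Fin m ⊕ Fin m} (hp : pl p = k) {v : Ix m → F} (hv : v (Sum.inr p) = 1)
    (s : Finset (Fin m ⊕ Fin m)) (hs : ∀ a ∈ s, k < pl a) :
    ∃ g ∈ X, Fix k.val g ∧ g.1 *ᵥ Pi.single (Sum.inr p.swap) 1 = Pi.single (Sum.inr p.swap) 1 ∧
      (g.1 *ᵥ v) (Sum.inr p) = 1 ∧ ∀ a ∈ s, (g.1 *ᵥ v) (Sum.inr a) = 0 := by
  induction s using Finset.induction_on with
  | empty => exact ⟨1, one_mem _, fix_one, by rw [Units.val_one, Matrix.one_mulVec], by simpa using hv, by simp⟩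
  | insert a s ha ih =>
    obtain ⟨g, hgX, hgF, hgp, hg1, hg0⟩ := ih fun b hb => hs b (Finset.mem_insert_of_mem hb)
    have hak := hs a (Finset.mem_insert_self a s)
    obtain ⟨ha1, ha2⟩ := ne_of_pl (show pl a ≠ pl p.swap by rw [pl_swap, hp]; exact ne_of_gt hak)
    rw [Sum.swap_swap] at ha2
    obtain ⟨g', hg'⟩ := hS.1 a p.swap ha1 (by rwa [Sum.swap_swap]) (-(g.1 *ᵥ v) (Sum.inr a))
    have hg'X : g' ∈ X := Subgroup.subset_closure (Or.inl ⟨a, p.swap, _, ha1, by rwa [Sum.swap_swap], hg'⟩)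
    have hfix : ∀ q : Fin m ⊕ Fin m, q ≠ p → q ≠ a.swap →
        g'.1 *ᵥ Pi.single (Sum.inr q) 1 = Pi.single (Sum.inr q) 1 := by
      intro q h1 h2
      rw [hg']
      funext r
      simp [sel_apply, Sum.swap_swap, Ne.symm h1, Ne.symm h2]
    refine ⟨g' * g, mul_mem hg'X hgX, fix_mul (fun q hq => hfix q ?_ ?_) hgF, ?_, ?_, ?_⟩
    · intro h; rw [h, hp] at hq; exact lt_irrefl _ hq
    · intro h; rw [h, pl_swap] at hq; exact lt_irrefl _ (hq.trans hak)
    · rw [Units.val_mul, ← Matrix.mulVec_mulVec, hgp, hfix]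
      · exact swap_ne p
      · exact fun h => ha2 (Sum.swap_leftInverse.injective h).symm
    · rw [Units.val_mul, ← Matrix.mulVec_mulVec, hg', sel_apply,
        if_neg (fun h => ha2 (Sum.inr_injective h).symm), if_neg (fun h => (swap_ne p) (Sum.inr_injective h).symm), hg1]
      simp
    · intro b hb
      rw [Units.val_mul, ← Matrix.mulVec_mulVec, hg', sel_apply]
      rcases Finset.mem_insert.1 hb with rfl | hb'
      · rw [if_pos rfl, if_neg (fun h => ha1 (Sum.inr_injective h)), Sum.swap_swap, hg1]; ring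
      · have hbk := hs b hb
        have hbp : b ≠ p.swap := fun h => by rw [h, pl_swap, hp] at hbk; exact lt_irrefl _ hbk
        rw [if_neg (fun h : (Sum.inr b : Ix m) = Sum.inr a => ha (Sum.inr_injective h ▸ hb')),
          if_neg (fun h => hbp (Sum.inr_injective h)), hg0 b hb']
        ring

include hS in
theorem exists_move {k : Fin m} {p : Fin m ⊕ Fin m} (hp : pl p = k) {v : Ix m → F} (hv : v (Sum.inr p) ≠ 0)
    (hq : Cfsg.quadFormOdd m F v = 0) (hlow : ∀ a, pl a < k → v (Sum.inr a) = 0) :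
    ∃ g ∈ X, Fix k.val g ∧ g.1 *ᵥ Pi.single (Sum.inr p.swap) 1 = Pi.single (Sum.inr p.swap) 1 ∧
      g.1 *ᵥ v = Pi.single (Sum.inr p) (v (Sum.inr p)) := by
  classical
  obtain ⟨d, hd⟩ : ∃ d, d = v (Sum.inr p) := ⟨_, rfl⟩
  rw [← hd]
  have hd0 : d ≠ 0 := hd ▸ hv
  obtain ⟨g, hgX, hgF, hgp, hg1, hg0⟩ := exists_clear hS hp (v := d⁻¹ • v)
    (by simp [← hd, hd0]) (Finset.univ.filter fun a => k < pl a) (by simp)
  obtain ⟨g', hg'⟩ := hS.2 p.swap (-(g.1 *ᵥ (d⁻¹ • v)) zz)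
  have hg'X : g' ∈ X := Subgroup.subset_closure (Or.inr ⟨_, _, hg'⟩)
  have hfix : ∀ q : Fin m ⊕ Fin m, q ≠ p → g'.1 *ᵥ Pi.single (Sum.inr q) 1 = Pi.single (Sum.inr q) 1 := by
    intro q h1
    rw [hg']
    funext r
    simp [sh_apply, Sum.swap_swap, Ne.symm h1]
  have hFix : Fix k.val (g' * g) := fix_mul (fun q hq' => hfix q fun e => by rw [e, hp] at hq'; exact lt_irrefl _ hq') hgF
  refine ⟨g' * g, mul_mem hg'X hgX, hFix,
    by rw [Units.val_mul, ← Matrix.mulVec_mulVec, hgp, hfix _ (swap_ne p)], ?_⟩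
  obtain ⟨w, hw⟩ : ∃ w, w = (g' * g).1 *ᵥ (d⁻¹ • v) := ⟨_, rfl⟩
  have hw' : w = sh p.swap (-(g.1 *ᵥ (d⁻¹ • v)) zz) (g.1 *ᵥ (d⁻¹ • v)) := by
    rw [hw, Units.val_mul, ← Matrix.mulVec_mulVec, hg']
  have hwz : w zz = 0 := by
    rw [hw', sh_apply, if_pos rfl, if_neg Sum.inl_ne_inr, Sum.swap_swap, hg1]; ring
  have hwp : w (Sum.inr p) = 1 := by
    rw [hw', sh_apply, if_neg Sum.inr_ne_inl, if_neg (fun h => swap_ne p (Sum.inr_injective h).symm), hg1]; ring
  have hother : ∀ a, a ≠ p → a ≠ p.swap → w (Sum.inr a) = 0 := by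
    intro a h1 h2
    rcases lt_trichotomy (pl a) k with h | h | h
    · rw [hw, fix_coord (mul_mem (gens_le hg'X) (gens_le hgX)) hFix _ h, Pi.smul_apply, hlow a h, smul_zero]
    · exfalso
      rcases eq_or_of_pl (h.trans hp.symm) with e | e
      exacts [h1 e, h2 e]
    · rw [hw', sh_apply, if_neg Sum.inr_ne_inl, if_neg (fun e => h2 (Sum.inr_injective e)), hg0 a (by simp [h])]
      ring
  have hwe : w = Pi.single (Sum.inr p) 1 + Pi.single (Sum.inr p.swap) (w (Sum.inr p.swap)) := by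
    funext a
    rcases a with ⟨⟩ | a
    · simp [← hwz]
    · by_cases h1 : a = p
      · subst h1; simp [hwp, (swap_ne a).symm]
      · by_cases h2 : a = p.swap
        · subst h2; simp [swap_ne p]
        · simp [hother a h1 h2, h1, h2]
  have hQ : Cfsg.quadFormOdd m F w = 0 := by
    rw [hw, iso_quad (mul_mem (gens_le hg'X) (gens_le hgX))]
    have : Cfsg.quadFormOdd m F (d⁻¹ • v) = (d⁻¹) ^ 2 * Cfsg.quadFormOdd m F v := by
      simp only [Cfsg.quadFormOdd, Pi.smul_apply, smul_eq_mul, mul_add, Finset.mul_sum]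
      congr 1
      · ring
      · exact Finset.sum_congr rfl fun i _ => by ring
    rw [this, hq, mul_zero]
  rw [hwe, quad_add, quad_single, quad_single, bil_single, Sum.swap_swap, Pi.single_eq_same] at hQ
  rw [show w (Sum.inr p.swap) = 0 by simpa using hQ, Pi.single_zero, add_zero, hw] at hwe
  rw [show v = d • (d⁻¹ • v) by rw [smul_inv_smul₀ hd0], Matrix.mulVec_smul, hwe, ← Pi.single_smul',
    smul_eq_mul, mul_one]

theorem exists_pair_ne {v : Ix m → F} (hv : v ≠ 0) (hq : Cfsg.quadFormOdd m F v = 0) :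
    ∃ p, v (Sum.inr p) ≠ 0 := by
  by_contra hc
  push Not at hc
  apply hv
  funext a
  rcases a with ⟨⟩ | a
  · have : v (Sum.inl ()) ^ 2 = 0 := by
      rw [← hq, Cfsg.quadFormOdd, Finset.sum_eq_zero fun i _ => by rw [hc, zero_mul], add_zero]
    exact pow_eq_zero_iff two_ne_zero |>.1 this
  · exact hc a

include hS in
theorem step_one {k : Fin m} {w : Ix m → F} {p q : Fin m ⊕ Fin m} (hw : w (Sum.inr p) ≠ 0) (hp : k ≤ pl p)
    (hq : k ≤ pl q) (hpq : pl p ≠ pl q) : ∃ g ∈ X, Fix k.val g ∧ (g.1 *ᵥ w) (Sum.inr q) = 1 := by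
  obtain ⟨h1, h2⟩ := ne_of_pl (show pl q ≠ pl p.swap by rw [pl_swap]; exact hpq.symm)
  obtain ⟨g, hg⟩ := hS.1 q p.swap h1 h2 ((1 - w (Sum.inr q)) / w (Sum.inr p))
  refine ⟨g, Subgroup.subset_closure (Or.inl ⟨q, p.swap, _, h1, h2, hg⟩), fun a ha => ?_, ?_⟩
  · have e1 : a ≠ p := fun h => by rw [h] at ha; exact not_lt.2 hp ha
    have e2 : a ≠ q.swap := fun h => by rw [h, pl_swap] at ha; exact not_lt.2 hq ha
    rw [hg]
    funext r
    simp [sel_apply, Ne.symm e1, Ne.symm e2]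
  · rw [hg, sel_apply, if_pos rfl, if_neg (fun e => h1 (Sum.inr_injective e)), Sum.swap_swap]
    field_simp
    ring

include hS in
theorem exists_one {k : Fin m} (hl : k.val + 1 < m) {v : Ix m → F} (hv : v ≠ 0)
    (hq : Cfsg.quadFormOdd m F v = 0) (hlow : ∀ a, pl a < k → v (Sum.inr a) = 0) :
    ∃ g ∈ X, Fix k.val g ∧ (g.1 *ᵥ v) (Sum.inr (Sum.inl k)) = 1 := by
  obtain ⟨p, hp⟩ := exists_pair_ne hv hq
  have hpk : k ≤ pl p := not_lt.1 fun h => hp (hlow p h)
  obtain ⟨l, hl'⟩ : ∃ l : Fin m, l.val = k.val + 1 := ⟨⟨k.val + 1, hl⟩, rfl⟩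
  have hkl : k ≠ l := fun h => by rw [h] at hl'; omega
  by_cases hpp : pl p = k
  · obtain ⟨g, hgX, hgF, hg⟩ := step_one hS (q := Sum.inl l) hp hpk (show k.val ≤ l.val by omega)
      (by rw [hpp]; exact hkl)
    obtain ⟨g', hg'X, hg'F, hg'⟩ := step_one hS (k := k) (w := g.1 *ᵥ v) (p := Sum.inl l) (q := Sum.inl k)
      (by rw [hg]; exact one_ne_zero) (show k.val ≤ l.val by omega) le_rfl hkl.symm
    exact ⟨g' * g, mul_mem hg'X hgX, fix_mul hg'F hgF, by rw [Units.val_mul, ← Matrix.mulVec_mulVec, hg']⟩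
  · exact step_one hS (q := Sum.inl k) hp hpk le_rfl hpp

include hS in
theorem exists_ne_last {k : Fin m} {v : Ix m → F} (hv : v ≠ 0)
    (hq : Cfsg.quadFormOdd m F v = 0) (hlow : ∀ a, pl a < k → v (Sum.inr a) = 0) :
    ∃ g ∈ X, Fix k.val g ∧ (g.1 *ᵥ v) (Sum.inr (Sum.inl k)) ≠ 0 := by
  by_cases h0 : v (Sum.inr (Sum.inl k)) = 0
  swap
  · exact ⟨1, one_mem _, fix_one, by simpa using h0⟩
  by_cases hex : ∃ p, v (Sum.inr p) ≠ 0 ∧ pl p ≠ k
  · obtain ⟨p, hp, hpk⟩ := hex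
    obtain ⟨g, hgX, hgF, hg⟩ := step_one hS (k := k) (q := Sum.inl k) hp
      (not_lt.1 fun h => hp (hlow p h)) le_rfl hpk
    exact ⟨g, hgX, hgF, by rw [hg]; exact one_ne_zero⟩
  push Not at hex
  obtain ⟨p, hp⟩ := exists_pair_ne hv hq
  have hpk : pl p = pl (Sum.inr k : Fin m ⊕ Fin m) := hex p hp
  obtain rfl : p = Sum.inr k := (eq_or_of_pl hpk).resolve_right fun e => hp (by rw [e]; exact h0)
  have hz : v (Sum.inl ()) = 0 := by
    have h2 := hq
    rw [Cfsg.quadFormOdd, Finset.sum_eq_zero, add_zero] at h2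
    · exact pow_eq_zero_iff two_ne_zero |>.1 h2
    intro i _
    by_cases hi : i = k
    · rw [hi, h0, zero_mul]
    · rw [show v (Sum.inr (Sum.inl i)) = 0 from by_contra fun h => hi (hex _ h), zero_mul]
  obtain ⟨g, hg⟩ := hS.2 (Sum.inl k) 1
  refine ⟨g, Subgroup.subset_closure (Or.inr ⟨_, _, hg⟩), fun a ha => ?_, ?_⟩
  · have e1 : a ≠ Sum.inr k := fun e => by rw [e] at ha; exact lt_irrefl _ ha
    rw [hg]
    funext r
    simp [sh_apply, Ne.symm e1]
  · rw [hg, sh_apply, if_neg Sum.inr_ne_inl, if_pos rfl, h0, show v zz = 0 from hz, Sum.swap_inl]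
    simpa using hp

include hS in
theorem exists_decomp_low {g : GL (Ix m) F} (hg : g ∈ Cfsg.isometryGroup F (Cfsg.quadFormOdd m F)) :
    ∀ k : ℕ, k < m → ∃ h ∈ X, Fix k (h * g) := by
  intro k
  induction k with
  | zero => exact fun _ => ⟨1, one_mem _, fun a ha => absurd ha (Nat.not_lt_zero _)⟩
  | succ k ih =>
    intro hk
    obtain ⟨h, hX, hF⟩ := ih (by omega)
    let kk : Fin m := ⟨k, by omega⟩
    have hI := mul_mem (gens_le hX) hg
    obtain ⟨h1, h1X, h1F, h1e⟩ := exists_one hS (k := kk) hk (v := (h * g).1 *ᵥ Pi.single (Sum.inr (Sum.inl kk)) 1)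
      (ne_zero_single _) (by rw [iso_quad hI, quad_single]) (low_zero hI hF rfl)
    set g1 := h1 * (h * g) with hg1def
    have hI1 : g1 ∈ Cfsg.isometryGroup F (Cfsg.quadFormOdd m F) := mul_mem (gens_le h1X) hI
    have hF1 : Fix k g1 := fix_mul h1F hF
    have h1e' : (g1.1 *ᵥ Pi.single (Sum.inr (Sum.inl kk)) 1) (Sum.inr (Sum.inl kk)) = 1 := by
      rw [hg1def, Units.val_mul, ← Matrix.mulVec_mulVec]; exact h1e
    obtain ⟨h2, h2X, h2F, -, h2e⟩ := exists_move hS (k := kk) (p := Sum.inl kk) rfl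
      (v := g1.1 *ᵥ Pi.single (Sum.inr (Sum.inl kk)) 1) (by rw [h1e']; exact one_ne_zero)
      (by rw [iso_quad hI1, quad_single]) (low_zero hI1 hF1 rfl)
    set g2 := h2 * g1 with hg2def
    have hI2 : g2 ∈ Cfsg.isometryGroup F (Cfsg.quadFormOdd m F) := mul_mem (gens_le h2X) hI1
    have hF2 : Fix k g2 := fix_mul h2F hF1
    have he2 : g2.1 *ᵥ Pi.single (Sum.inr (Sum.inl kk)) 1 = Pi.single (Sum.inr (Sum.inl kk)) 1 := by
      rw [hg2def, Units.val_mul, ← Matrix.mulVec_mulVec, h2e, h1e']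
    have hf2 : (g2.1 *ᵥ Pi.single (Sum.inr (Sum.inr kk)) 1) (Sum.inr (Sum.inr kk)) = 1 := by
      have := iso_bil hI2 (Pi.single (Sum.inr (Sum.inr kk)) 1) (Pi.single (Sum.inr (Sum.inl kk)) 1)
      rw [he2, bil_single, bil_single] at this
      simpa using this
    obtain ⟨h3, h3X, h3F, h3p, h3e⟩ := exists_move hS (k := kk) (p := Sum.inr kk) rfl
      (by rw [hf2]; exact one_ne_zero) (by rw [iso_quad hI2, quad_single]) (low_zero hI2 hF2 rfl)
    refine ⟨h3 * h2 * h1 * h, mul_mem (mul_mem (mul_mem h3X h2X) h1X) hX, ?_⟩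
    rw [show h3 * h2 * h1 * h * g = h3 * g2 by rw [hg2def, hg1def]; group]
    intro a ha
    rcases Nat.lt_succ_iff_lt_or_eq.1 ha with ha | ha
    · exact fix_mul h3F hF2 a ha
    · rw [Units.val_mul, ← Matrix.mulVec_mulVec]
      have hka : pl a = kk := Fin.ext ha
      rcases a with a | a <;> obtain rfl : a = kk := hka
      · rw [he2]; exact h3p
      · rw [h3e, hf2]

include hS in
/-- Every isometry is a product of root elements and a diagonal isometry. -/
theorem exists_decomp (hm : 1 ≤ m) {g : GL (Ix m) F} (hg : g ∈ Cfsg.isometryGroup F (Cfsg.quadFormOdd m F)) :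
    ∃ h ∈ X, ∃ d : Ix m → F, (h * g).1 = Matrix.diagonal d := by
  obtain ⟨h, hX, hF⟩ := exists_decomp_low hS hg (m - 1) (by omega)
  let L : Fin m := ⟨m - 1, by omega⟩
  have hI := mul_mem (gens_le hX) hg
  obtain ⟨h1, h1X, h1F, h1e⟩ := exists_ne_last hS (k := L) (v := (h * g).1 *ᵥ Pi.single (Sum.inr (Sum.inl L)) 1)
    (ne_zero_single _) (by rw [iso_quad hI, quad_single]) (low_zero hI hF rfl)
  set g1 := h1 * (h * g) with hg1def
  have hI1 : g1 ∈ Cfsg.isometryGroup F (Cfsg.quadFormOdd m F) := mul_mem (gens_le h1X) hI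
  have hF1 : Fix L.val g1 := fix_mul h1F hF
  obtain ⟨c, hc⟩ : ∃ c, c = (g1.1 *ᵥ Pi.single (Sum.inr (Sum.inl L)) 1) (Sum.inr (Sum.inl L)) := ⟨_, rfl⟩
  have hc0 : c ≠ 0 := by rw [hc, hg1def, Units.val_mul, ← Matrix.mulVec_mulVec]; exact h1e
  obtain ⟨h2, h2X, h2F, -, h2e⟩ := exists_move hS (k := L) (p := Sum.inl L) rfl
    (v := g1.1 *ᵥ Pi.single (Sum.inr (Sum.inl L)) 1) (hc ▸ hc0)
    (by rw [iso_quad hI1, quad_single]) (low_zero hI1 hF1 rfl)
  set g2 := h2 * g1 with hg2def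
  have hI2 : g2 ∈ Cfsg.isometryGroup F (Cfsg.quadFormOdd m F) := mul_mem (gens_le h2X) hI1
  have hF2 : Fix L.val g2 := fix_mul h2F hF1
  have he2 : g2.1 *ᵥ Pi.single (Sum.inr (Sum.inl L)) 1 = Pi.single (Sum.inr (Sum.inl L)) c := by
    rw [hg2def, Units.val_mul, ← Matrix.mulVec_mulVec, h2e, ← hc]
  have hf2 : (g2.1 *ᵥ Pi.single (Sum.inr (Sum.inr L)) 1) (Sum.inr (Sum.inr L)) ≠ 0 := by
    intro h0
    have := iso_bil hI2 (Pi.single (Sum.inr (Sum.inr L)) 1) (Pi.single (Sum.inr (Sum.inl L)) 1)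
    rw [he2, bil_single, bil_single] at this
    simp [h0] at this
  obtain ⟨h3, h3X, h3F, h3p, h3e⟩ := exists_move hS (k := L) (p := Sum.inr L) rfl hf2
    (by rw [iso_quad hI2, quad_single]) (low_zero hI2 hF2 rfl)
  have hI3 := mul_mem (gens_le h3X) hI2
  have hF3 : Fix L.val (h3 * g2) := fix_mul h3F hF2
  have hmono : ∀ a : Fin m ⊕ Fin m, ∃ e : F, e ≠ 0 ∧
      (h3 * g2).1 *ᵥ Pi.single (Sum.inr a) 1 = Pi.single (Sum.inr a) e := by
    intro a
    by_cases ha : (pl a).val < m - 1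
    · exact ⟨1, one_ne_zero, hF3 a ha⟩
    · have hka : pl a = L := Fin.ext (by have := (pl a).isLt; show (pl a).val = m - 1; omega)
      rcases a with a | a <;> obtain rfl : a = L := hka
      · refine ⟨c, hc0, ?_⟩
        rw [Units.val_mul, ← Matrix.mulVec_mulVec, he2,
          show (Pi.single (Sum.inr (Sum.inl L)) c : Ix m → F) = c • Pi.single (Sum.inr (Sum.inl L)) 1 by
            rw [← Pi.single_smul', smul_eq_mul, mul_one],
          Matrix.mulVec_smul]
        exact congrArg _ h3p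
      · exact ⟨_, hf2, by rw [Units.val_mul, ← Matrix.mulVec_mulVec]; exact h3e⟩
  choose e he0 he using hmono
  refine ⟨h3 * h2 * h1 * h, mul_mem (mul_mem (mul_mem h3X h2X) h1X) hX,
    fun q => ((h3 * g2).1 *ᵥ Pi.single q 1) q, ?_⟩
  rw [show h3 * h2 * h1 * h * g = h3 * g2 by rw [hg2def, hg1def]; group]
  refine Matrix.ext_of_mulVec_single fun q => ?_
  rw [Matrix.diagonal_mulVec_single, mul_one]
  rcases q with ⟨⟩ | a
  · funext r
    rcases r with ⟨⟩ | r
    · simp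
    · have := iso_bil hI3 (Pi.single zz 1) (Pi.single (Sum.inr r.swap) 1)
      rw [he, bil_single, bil_single, Sum.swap_swap, Pi.single_eq_of_ne (Sum.inr_ne_inl), mul_zero, mul_eq_zero] at this
      rw [Pi.single_eq_of_ne Sum.inr_ne_inl]
      exact this.resolve_left (he0 _)
  · rw [he, Pi.single_eq_same]

theorem diag_props {t : GL (Ix m) F} (ht : t ∈ Cfsg.isometryGroup F (Cfsg.quadFormOdd m F)) {d : Ix m → F}
    (hd : t.1 = Matrix.diagonal d) :
    d zz * d zz = 1 ∧ ∀ a : Fin m ⊕ Fin m, d (Sum.inr a) * d (Sum.inr a.swap) = 1 := by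
  constructor
  · have h := iso_quad ht (Pi.single zz 1)
    rw [hd, Matrix.diagonal_mulVec_single, mul_one, quad_single_z, quad_single_z, one_pow, sq] at h
    exact h
  · intro a
    have h := iso_bil ht (Pi.single (Sum.inr a.swap) 1) (Pi.single (Sum.inr a) 1)
    rw [hd, Matrix.diagonal_mulVec_single, Matrix.diagonal_mulVec_single, bil_single, bil_single,
      Pi.single_eq_same, Pi.single_eq_same] at h
    simpa using h

theorem conj_sel {t : GL (Ix m) F} (ht : t ∈ Cfsg.isometryGroup F (Cfsg.quadFormOdd m F)) {d : Ix m → F}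
    (hd : t.1 = Matrix.diagonal d) {g : GL (Ix m) F} {a b : Fin m ⊕ Fin m} (hab : a ≠ b) {c : F}
    (hg : ∀ v, g.1 *ᵥ v = sel a b c v) (v : Ix m → F) :
    (t * g * t⁻¹).1 *ᵥ v = sel a b (c * d (Sum.inr a) * d (Sum.inr b)) v := by
  obtain ⟨w, hw⟩ : ∃ w, w = t⁻¹.1 *ᵥ v := ⟨_, rfl⟩
  have hv : v = t.1 *ᵥ w := by
    rw [hw, Matrix.mulVec_mulVec, ← Units.val_mul, mul_inv_cancel, Units.val_one, Matrix.one_mulVec]
  have h2 := (diag_props ht hd).2
  rw [Units.val_mul, Units.val_mul, ← Matrix.mulVec_mulVec, ← Matrix.mulVec_mulVec, ← hw, hg, hd]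
  funext q
  rw [Matrix.mulVec_diagonal, sel_apply, sel_apply, hv, hd, Matrix.mulVec_diagonal, Matrix.mulVec_diagonal,
    Matrix.mulVec_diagonal]
  have ea := h2 a
  have eb := h2 b
  split_ifs with e1 e2 e3 <;> subst_vars <;>
    first
      | exact absurd (Sum.inr_injective (by assumption : (Sum.inr a : Ix m) = Sum.inr b)) hab
      | ring1
      | linear_combination (- c * d (Sum.inr a) * w (Sum.inr b.swap)) * eb
      | linear_combination (c * d (Sum.inr b) * w (Sum.inr a.swap)) * ea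
      | linear_combination (- c * d (Sum.inr a) * w (Sum.inr b.swap)) * eb +
          (c * d (Sum.inr b) * w (Sum.inr a.swap)) * ea

theorem conj_sh {t : GL (Ix m) F} (ht : t ∈ Cfsg.isometryGroup F (Cfsg.quadFormOdd m F)) {d : Ix m → F}
    (hd : t.1 = Matrix.diagonal d) {g : GL (Ix m) F} {a : Fin m ⊕ Fin m} {c : F}
    (hg : ∀ v, g.1 *ᵥ v = sh a c v) (v : Ix m → F) :
    (t * g * t⁻¹).1 *ᵥ v = sh a (c * d zz * d (Sum.inr a)) v := by
  obtain ⟨w, hw⟩ : ∃ w, w = t⁻¹.1 *ᵥ v := ⟨_, rfl⟩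
  have hv : v = t.1 *ᵥ w := by
    rw [hw, Matrix.mulVec_mulVec, ← Units.val_mul, mul_inv_cancel, Units.val_one, Matrix.one_mulVec]
  obtain ⟨ez, h2⟩ := diag_props ht hd
  rw [Units.val_mul, Units.val_mul, ← Matrix.mulVec_mulVec, ← Matrix.mulVec_mulVec, ← hw, hg, hd]
  funext q
  rw [Matrix.mulVec_diagonal, sh_apply, sh_apply, hv, hd, Matrix.mulVec_diagonal, Matrix.mulVec_diagonal,
    Matrix.mulVec_diagonal]
  have ea := h2 a
  split_ifs with e1 e2 <;> subst_vars
  · exact absurd e2 Sum.inl_ne_inr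
  · linear_combination (- c * d zz * w (Sum.inr a.swap)) * ea
  · linear_combination (2 * c * d (Sum.inr a) * w zz + c ^ 2 * d (Sum.inr a) * w (Sum.inr a.swap) *
      (d (Sum.inr a) * d (Sum.inr a.swap))) * ez + c ^ 2 * d (Sum.inr a) * w (Sum.inr a.swap) * ea
  · ring

include hS in
/-- The derived group is generated by the root elements. -/
theorem derived_eq (hm : 1 ≤ m) (hF : ∃ c : F, c ≠ 0 ∧ c ≠ 1) :
    ⁅Cfsg.isometryGroup F (Cfsg.quadFormOdd m F), Cfsg.isometryGroup F (Cfsg.quadFormOdd m F)⁆ = X := by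
  set O := Cfsg.isometryGroup F (Cfsg.quadFormOdd m F) with hO
  refine le_antisymm ?_ ?_
  · have hdec : ∀ g ∈ O, ∃ h ∈ X, ∃ t ∈ O, (∃ d, t.1 = Matrix.diagonal d) ∧ g = h * t := by
      intro g hg
      obtain ⟨h, hX, hd⟩ := exists_decomp hS hm hg
      exact ⟨h⁻¹, inv_mem hX, h * g, mul_mem (gens_le hX) hg, hd, by group⟩
    have hconj : ∀ t ∈ O, (∃ d, t.1 = Matrix.diagonal d) → ∀ x ∈ X, t * x * t⁻¹ ∈ X := by
      rintro t ht ⟨d, hd⟩ x hx
      induction hx using Subgroup.closure_induction with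
      | mem g hg =>
        rcases hg with ⟨a, b, c, h1, h2, hg⟩ | ⟨a, c, hg⟩
        · exact Subgroup.subset_closure (Or.inl ⟨a, b, _, h1, h2, conj_sel ht hd h1 hg⟩)
        · exact Subgroup.subset_closure (Or.inr ⟨a, _, conj_sh ht hd hg⟩)
      | one => simp
      | mul a b _ _ ha hb => rw [show t * (a * b) * t⁻¹ = (t * a * t⁻¹) * (t * b * t⁻¹) by group]; exact mul_mem ha hb
      | inv a _ ha => rw [show t * a⁻¹ * t⁻¹ = (t * a * t⁻¹)⁻¹ by group]; exact inv_mem ha
    rw [Subgroup.commutator_le]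
    intro g hg g' hg'
    obtain ⟨h, hX, t, ht, htd, rfl⟩ := hdec g hg
    obtain ⟨h', hX', u, hu, hud, rfl⟩ := hdec g' hg'
    have htu : t * u = u * t := by
      obtain ⟨d, hd⟩ := htd
      obtain ⟨d', hd'⟩ := hud
      refine Units.ext ?_
      rw [Units.val_mul, Units.val_mul, hd, hd', Matrix.diagonal_mul_diagonal, Matrix.diagonal_mul_diagonal]
      exact congrArg _ (funext fun _ => mul_comm _ _)
    rw [show ⁅h * t, h' * u⁆ = h * (t * h' * t⁻¹) * (t * u * t⁻¹ * u⁻¹) * (u * h⁻¹ * u⁻¹) * h'⁻¹ by group,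
      htu, show u * t * t⁻¹ * u⁻¹ = 1 by group, mul_one]
    exact mul_mem (mul_mem (mul_mem hX (hconj t ht htd h' hX')) (hconj u hu hud _ (inv_mem hX))) (inv_mem hX')
  · obtain ⟨c₀, hc0, hc1⟩ := hF
    have htor : ∀ a : Fin m ⊕ Fin m, ∃ t ∈ O, ∃ d : Ix m → F, t.1 = Matrix.diagonal d ∧ d zz = 1 ∧
        d (Sum.inr a) = c₀ ∧ ∀ b, pl b ≠ pl a → d (Sum.inr b) = 1 := by
      intro a
      obtain ⟨d, hd⟩ : ∃ d : Ix m → F, d = fun q => Sum.elim (fun _ => 1)
          (fun b => if b = a then c₀ else if b = a.swap then c₀⁻¹ else 1) q := ⟨_, rfl⟩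
      have hne : ∀ q, d q ≠ 0 := by
        intro q; rcases q with q | b
        · simp [hd]
        · simp only [hd, Sum.elim_inr]; split_ifs <;> simp [hc0]
      refine ⟨⟨Matrix.diagonal d, Matrix.diagonal fun q => (d q)⁻¹,
        by rw [Matrix.diagonal_mul_diagonal, ← Matrix.diagonal_one]; exact congrArg _ (funext fun q => mul_inv_cancel₀ (hne q)),
        by rw [Matrix.diagonal_mul_diagonal, ← Matrix.diagonal_one]; exact congrArg _ (funext fun q => inv_mul_cancel₀ (hne q))⟩,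
        ?_, d, rfl, by simp [hd], by simp [hd], fun b hb => ?_⟩
      · intro v _
        simp only [Units.coeHom_apply]
        simp only [Cfsg.quadFormOdd, Matrix.mulVec_diagonal]
        congr 1
        · simp [hd]
        · refine Finset.sum_congr rfl fun i _ => ?_
          have : d (Sum.inr (Sum.inl i)) * d (Sum.inr (Sum.inr i)) = 1 := by
            rcases a with a | a <;> by_cases hi : i = a <;> simp [hd, hi, hc0]
          linear_combination v (Sum.inr (Sum.inl i)) * v (Sum.inr (Sum.inr i)) * this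
      · obtain ⟨e1, e2⟩ := ne_of_pl hb
        simp [hd, e1, e2]
    rw [Subgroup.closure_le]
    have hc : c₀ - 1 ≠ 0 := sub_ne_zero.2 hc1
    rintro g (⟨a, b, c, hab, hab', hg⟩ | ⟨a, c, hg⟩)
    · obtain ⟨t, ht, d, hd, -, hda, hdb⟩ := htor a
      have hpl : pl b ≠ pl a := fun e => by
        rcases eq_or_of_pl e with h | h
        · exact hab h.symm
        · exact hab' (by rw [h, Sum.swap_swap])
      obtain ⟨g', hg'⟩ := hS.1 a b hab hab' (c / (c₀ - 1))
      have hX' : g' ∈ X := Subgroup.subset_closure (Or.inl ⟨_, _, _, hab, hab', hg'⟩)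
      rw [show g = ⁅t, g'⁆ from ?_]
      · exact Subgroup.commutator_mem_commutator ht (gens_le hX')
      rw [commutatorElement_def, eq_mul_inv_iff_mul_eq]
      refine ext_single fun q => ?_
      rw [Units.val_mul, ← Matrix.mulVec_mulVec, conj_sel ht hd hab hg', hg', hg, hda, hdb b hpl]
      obtain ⟨w, hw⟩ : ∃ w : Ix m → F, w = Pi.single q 1 := ⟨_, rfl⟩
      rw [← hw]
      funext r
      have n1 : b.swap ≠ a := fun e => hab' e.symm
      have n2 : a.swap ≠ b := fun e => hab' (by rw [← e, Sum.swap_swap])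
      simp only [sel_apply, Sum.inr.injEq, swap_ne, n1, n2, if_false]
      split_ifs <;> first | ring1 | (field_simp; ring1) | (subst_vars; field_simp; ring1) | grind
    · obtain ⟨t, ht, d, hd, hdz, hda, -⟩ := htor a
      obtain ⟨g', hg'⟩ := hS.2 a (c / (c₀ - 1))
      have hX' : g' ∈ X := Subgroup.subset_closure (Or.inr ⟨_, _, hg'⟩)
      rw [show g = ⁅t, g'⁆ from ?_]
      · exact Subgroup.commutator_mem_commutator ht (gens_le hX')
      rw [commutatorElement_def, eq_mul_inv_iff_mul_eq]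
      refine ext_single fun q => ?_
      rw [Units.val_mul, ← Matrix.mulVec_mulVec, conj_sh ht hd hg', hg', hg, hda, hdz]
      obtain ⟨w, hw⟩ : ∃ w : Ix m → F, w = Pi.single q 1 := ⟨_, rfl⟩
      rw [← hw]
      funext r
      simp only [sh_apply, Sum.inr.injEq, swap_ne, reduceCtorEq, if_false, if_true]
      split_ifs <;> first | ring1 | (field_simp; ring1) | (subst_vars; field_simp; ring1) | grind

end Cfsg.Agent.Lie.OddGen
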