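import Mathlib
import Cfsg.Prelude.Def_KGroupFacts
import Cfsg.Agent.Lib.Lie.PermTable
import Cfsg.Agent.Lib.Lie.OutCriterion

/-!
The order of the outer automorphism group from checked tables: programs for the chosen elements, two chains, and the
three searches.
-/

set_option autoImplicit false

namespace Cfsg.Agent.Lie.OutTables

open PermTable

/-- The data. -/
structure Data where
  /-- the number of points -/
  N : ℕ
  /-- the number of known generators -/
  ng : ℕ
  /-- the known generators -/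
  T0 : ℕ → ℕ → ℕ
  /-- the first program: entries -/
  colA : List (List (List ℕ))
  /-- the first program: steps -/
  opsA : List (ℕ × ℕ)
  /-- places of the first generator, the normalising element and the second generators -/
  roots : List ℕ
  /-- the second program: entries -/
  colB : List (List (List ℕ))
  /-- the second program: steps -/
  opsB : List (ℕ × ℕ)
  /-- places of the strong generators -/
  sidx : List ℕ
  /-- the strong generators -/
  colS : List (List (List ℕ))
  /-- a chain starting along an orbit of the first generator -/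
  chX : List Lvl
  /-- a chain starting along an orbit of the normalising element -/
  chN : List Lvl
  /-- the prime -/
  p : ℕ
  /-- the action of the normalising element -/
  r : ℕ
  /-- the other class of powers -/
  c : ℕ
  /-- the inverse of the other class -/
  d : ℕ
  /-- the action of the second generator on the normalising element -/
  K : ℕ
  /-- relations -/
  rels : List (List Bool × ℕ)
  /-- the outer permutation -/
  sig : List ℕ
  /-- its inverse -/
  sigI : List ℕ

variable (D : Data)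

/-- The first program. -/
def Data.A : ℕ → ℕ → ℕ := look D.colA
/-- The second program. -/
def Data.B : ℕ → ℕ → ℕ := look D.colB
/-- The strong generators. -/
def Data.S : ℕ → ℕ → ℕ := look D.colS
/-- The number of strong generators. -/
def Data.ns : ℕ := D.sidx.length
/-- One of the chosen elements. -/
def Data.el (j : ℕ) : ℕ → ℕ := D.A (D.roots.getD j 0)
/-- A power of an element. -/
def powF (f : ℕ → ℕ) : ℕ → ℕ → ℕ
  | 0, k => k
  | i + 1, k => force (powF f i k) f
/-- The value of a word in two maps. -/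
def evB (f h : ℕ → ℕ) (w : List Bool) (k : ℕ) : ℕ := w.foldr (fun s j => force j fun j => bif s then h j else f j) k

/-- The known generators start the first program. -/
def Data.lettersCheck (k : ℕ) : Bool := (List.range D.ng).all fun x => Nat.beq (D.T0 x k) (D.A x k)

/-- Pointwise identities for the chosen elements. -/
def Data.pointCheck (k : ℕ) : Bool :=
  ((Nat.beq (D.el 0 k) (D.B 0 k) && Nat.beq (D.el 2 k) (D.B 2 k)) &&
    (Nat.beq (D.B 0 (D.B 1 k)) k && Nat.beq (D.B 2 (D.B 3 k)) k)) &&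
  (((Nat.blt (D.B 1 k) D.N && Nat.blt (D.B 3 k) D.N) &&
    (Nat.beq (powF (D.el 0) D.p k) k && Nat.beq (D.el 1 (D.el 0 k)) (powF (D.el 0) D.r (D.el 1 k)))) &&
  (Nat.beq (D.el 2 (D.el 1 k)) (powF (D.el 1) D.K (D.el 2 k)) &&
    D.rels.all fun q => Nat.beq (evB (D.el 0) (D.el 2) (List.replicate q.2 q.1).flatten k) k))

/-- The strong generators come from the second program, in inverse pairs. -/
def Data.strongCheck (j : ℕ) : Bool :=
  Nat.blt (D.sidx.getD j 0) (4 + D.opsB.length) && (List.range D.N).all fun k =>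
    Nat.beq (D.S j k) (D.B (D.sidx.getD j 0) k) &&
      Nat.beq (D.S (bif j % 2 == 0 then j + 1 else j - 1) (D.S j k)) k

/-- Sizes and arithmetic. -/
def Data.baseCheck : Bool :=
  (Nat.blt D.ng (D.ng + D.opsA.length) && (List.range 4).all fun j => Nat.blt (D.roots.getD j 0) (D.ng + D.opsA.length)) &&
  ((Nat.beq (D.c * D.d % D.p) 1 && (List.range D.p).all fun i => Nat.beq i 0 ||
      (List.range D.p).any fun m => Nat.beq (i * D.r ^ m % D.p) 1 || Nat.beq (i * D.r ^ m % D.p) D.c) &&
    (List.range D.p).all fun i => (List.range D.p).any fun a => Nat.beq ((a + i) % D.p) (a * D.r % D.p))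

/-- Some point is moved. -/
def Data.movesCheck : Bool := (List.range D.N).any fun k => !Nat.beq (D.el 0 k) k

/-- An element conjugating the first generator to its power is in the coset of the normalising element. -/
def Data.leafNorm (us : List ℕ) : Bool :=
  ((List.range D.N).any fun k => !Nat.beq (evw D.S us (D.el 0 k)) (powF (D.el 0) D.r (evw D.S us k))) ||
  (List.range D.p).any fun i => (List.range D.N).all fun k =>
    Nat.beq (evw D.S us k) (powF (D.el 0) i (D.el 1 k))

/-- A relation fails at some point. -/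
def Data.fails (f : ℕ → ℕ) (us : List ℕ) : Bool :=
  D.rels.any fun q => (List.range D.N).any fun k =>
    !Nat.beq (evB f (evw D.S us) (List.replicate q.2 q.1).flatten k) k

/-- The candidates, when every automorphism is inner. -/
def Data.leafOne (us : List ℕ) : Bool :=
  (D.fails (D.el 0) us || (List.range D.N).all fun k => Nat.beq (evw D.S us k) (D.el 2 k)) &&
    D.fails (powF (D.el 0) D.c) us

/-- The candidates, when there is one further class of automorphisms. -/
def Data.leafTwo (us : List ℕ) : Bool :=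
  (D.fails (D.el 0) us || (List.range D.N).all fun k => Nat.beq (evw D.S us k) (D.el 2 k)) &&
    (D.fails (powF (D.el 0) D.c) us || (List.range D.N).all fun k => Nat.beq (evw D.S us k) (D.el 3 k))

/-- No element conjugates the two generators to their other images. -/
def Data.leafOuter (us : List ℕ) : Bool :=
  (List.range D.N).any fun k => !Nat.beq (evw D.S us (D.el 2 k)) (D.el 3 (evw D.S us k))

/-- The outer permutation. -/
def Data.sigmaCheck (k : ℕ) : Bool :=
  ((Nat.blt (blk D.sig k) D.N && Nat.blt (blk D.sigI k) D.N) &&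
    (Nat.beq (blk D.sig (blk D.sigI k)) k && Nat.beq (blk D.sigI (blk D.sig k)) k)) &&
  (Nat.beq (blk D.sig (D.el 0 k)) (powF (D.el 0) D.c (blk D.sig k)) &&
    Nat.beq (blk D.sig (D.el 2 k)) (D.el 3 (blk D.sig k)))

variable {G : Type*} [Group G] (φ : G →* Equiv.Perm (Fin D.N))

/-- The data are valid for a group. -/
structure Valid : Prop where
  inj : Function.Injective φ
  prime : D.p.Prime
  once : ¬ D.p ^ 2 ∣ Nat.card G
  gens : ∀ x < D.ng, ∃ g : G, Rep φ g (D.T0 x)
  base : D.baseCheck = true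
  moves : D.movesCheck = true
  letters : ∀ k < D.N, D.lettersCheck k = true
  points : ∀ k < D.N, D.pointCheck k = true
  stepsA : ∀ i < D.opsA.length, stepOK D.A D.N D.ng D.opsA i = true
  stepsB : ∀ i < D.opsB.length, stepOK D.B D.N 4 D.opsB i = true
  strong : ∀ j < D.ns, D.strongCheck j = true
  chainX : chainOK D.S D.N D.ns D.chX [] = true
  chainN : chainOK D.S D.N D.ns D.chN [] = true
  sizeX : chainSize D.chX = Nat.card G
  sizeN : chainSize D.chN = Nat.card G
  searchX : srch D.S (D.el 0) (powF (D.el 0) D.r) D.leafNorm D.chX [] [] = true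

variable {D} {φ}

/-- A Boolean property checked in chunks holds below the bound. -/
theorem of_chunks {M : ℕ} {f : ℕ → Bool} (c n : ℕ) (hn : M ≤ c * n)
    (h : ∀ j < n, (List.range' (c * j) c).all (fun i => !Nat.blt i M || f i) = true) :
    ∀ i < M, f i = true := by
  intro i hi
  have hc : 0 < c := by
    by_contra hc
    rw [show c = 0 by omega, zero_mul] at hn
    omega
  have hj : i / c < n := (Nat.div_lt_iff_lt_mul hc).2 (by rw [mul_comm]; omega)
  have h1 := Nat.mod_lt i hc
  have h2 := Nat.div_add_mod i c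
  have := List.all_eq_true.1 (h _ hj) i (List.mem_range'_1.2 ⟨by omega, by omega⟩)
  rw [show Nat.blt i M = true by rw [Nat.blt_eq]; exact hi, Bool.not_true, Bool.false_or] at this
  exact this

theorem perm_ext (hφ : Function.Injective φ) {g h : G} (e : ∀ k : Fin D.N, (φ g k : ℕ) = φ h k) : g = h :=
  hφ (Equiv.ext fun k => Fin.ext (e k))

theorem rep_pow {g : G} {f : ℕ → ℕ} (hg : Rep φ g f) : ∀ i, Rep φ (g ^ i) (powF f i)
  | 0 => fun k => by rw [pow_zero, map_one]; rfl
  | i + 1 => fun k => by rw [pow_succ', (hg.mul (rep_pow hg i)) k, powF, force_eq]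

theorem rep_evB {g h : G} {f f' : ℕ → ℕ} (hg : Rep φ g f) (hh : Rep φ h f') :
    ∀ w : List Bool, Rep φ ((w.map fun s => bif s then h else g).prod) (evB f f' w)
  | [] => fun k => by rw [List.map_nil, List.prod_nil, map_one]; rfl
  | s :: w => fun k => by
    rw [List.map_cons, List.prod_cons]
    cases s
    · exact ((hg.mul (rep_evB hg hh w)) k).trans (force_eq (evB f f' w k) f).symm
    · exact ((hh.mul (rep_evB hg hh w)) k).trans (force_eq (evB f f' w k) f').symm

theorem rep_one_iff (hφ : Function.Injective φ) {g : G} {f : ℕ → ℕ} (hg : Rep φ g f) (h : ∀ k : Fin D.N, f k = k) :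
    g = 1 := perm_ext hφ fun k => by rw [hg k, h k, map_one]; rfl

/-- The hypotheses of the criterion, with the chosen elements. -/
theorem exists_frame [Finite G] (V : Valid D φ) :
    ∃ (F : OutCriterion.Frame G) (z : G), (F.p = D.p ∧ F.c = D.c) ∧
      (Rep φ F.x (D.el 0) ∧ Rep φ F.n (D.el 1) ∧ Rep φ F.y (D.el 2) ∧ Rep φ z (D.el 3)) ∧
      F.y * F.n = F.n ^ D.K * F.y ∧
      (∀ j < D.ns, ∃ u ∈ (⊤ : Subgroup G), Rep φ u (D.S j)) ∧ PairInv D.S D.N D.ns := by
  have hb := V.base
  simp only [Data.baseCheck, Bool.and_eq_true, Bool.or_eq_true, Nat.blt_eq, Nat.beq_eq, List.all_eq_true,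
    List.any_eq_true, List.mem_range] at hb
  obtain ⟨⟨-, hroots⟩, ⟨hcd, hclass⟩, hshift⟩ := hb
  have hA : ∀ i < D.ng + D.opsA.length, ∃ u ∈ (⊤ : Subgroup G), Rep φ u (D.A i) := by
    refine prog_mem (fun i hi => ?_) V.stepsA
    obtain ⟨g, hg⟩ := V.gens i hi
    refine ⟨g, Subgroup.mem_top g, fun k => ?_⟩
    have h := V.letters k k.2
    simp only [Data.lettersCheck, List.all_eq_true, List.mem_range, Nat.beq_eq] at h
    rw [hg, h i hi]
  choose el hel using fun j : Fin 4 => hA _ (hroots j j.2)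
  have rx : Rep φ (el 0) (D.el 0) := (hel 0).2
  have rn : Rep φ (el 1) (D.el 1) := (hel 1).2
  have ry : Rep φ (el 2) (D.el 2) := (hel 2).2
  have rz : Rep φ (el 3) (D.el 3) := (hel 3).2
  have hpt : ∀ k : Fin D.N, _ := fun k : Fin D.N => V.points k k.2
  simp only [Data.pointCheck, Bool.and_eq_true, Nat.blt_eq, Nat.beq_eq, List.all_eq_true] at hpt
  have hxp : el 0 ^ D.p = 1 := rep_one_iff V.inj (rep_pow rx _) fun k => (hpt k).2.1.2.1
  have inv_rep : ∀ {g : G} {f f' : ℕ → ℕ}, Rep φ g f → (∀ k : Fin D.N, f' k < D.N ∧ f (f' k) = k) →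
      Rep φ g⁻¹ f' := by
    intro g f f' hg h k
    have e : φ g ⟨f' k, (h k).1⟩ = k := Fin.ext ((hg _).trans (h k).2)
    have e2 : φ g⁻¹ k = ⟨f' k, (h k).1⟩ := by
      rw [map_inv]
      exact Equiv.Perm.inv_eq_iff_eq.2 e.symm
    rw [e2]
  let K : Subgroup G := Subgroup.closure {el 0, el 2}
  have hB : ∀ i < 4 + D.opsB.length, ∃ u ∈ K, Rep φ u (D.B i) := by
    refine prog_mem (fun i hi => ?_) V.stepsB
    have mx : el 0 ∈ K := Subgroup.subset_closure (Set.mem_insert _ _)
    have my : el 2 ∈ K := Subgroup.subset_closure (Set.mem_insert_of_mem _ rfl)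
    have r0 : Rep φ (el 0) (D.B 0) := fun k => (rx k).trans (hpt k).1.1.1
    have r2 : Rep φ (el 2) (D.B 2) := fun k => (ry k).trans (hpt k).1.1.2
    interval_cases i
    · exact ⟨el 0, mx, r0⟩
    · exact ⟨(el 0)⁻¹, inv_mem mx, inv_rep r0 fun k => ⟨(hpt k).2.1.1.1, (hpt k).1.2.1⟩⟩
    · exact ⟨el 2, my, r2⟩
    · exact ⟨(el 2)⁻¹, inv_mem my, inv_rep r2 fun k => ⟨(hpt k).2.1.1.2, (hpt k).1.2.2⟩⟩
  have hstrong : ∀ j < D.ns, D.sidx.getD j 0 < 4 + D.opsB.length ∧ ∀ k < D.N,
      D.S j k = D.B (D.sidx.getD j 0) k ∧ D.S (bif j % 2 == 0 then j + 1 else j - 1) (D.S j k) = k := by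
    intro j hj
    have h := V.strong j hj
    simp only [Data.strongCheck, Bool.and_eq_true, Nat.blt_eq, List.all_eq_true, List.mem_range, Nat.beq_eq] at h
    exact h
  have hS : ∀ j < D.ns, ∃ u ∈ K, Rep φ u (D.S j) := fun j hj => by
    obtain ⟨u, hu, ru⟩ := hB _ (hstrong j hj).1
    exact ⟨u, hu, fun k => (ru k).trans ((hstrong j hj).2 k k.2).1.symm⟩
  have hpair : PairInv D.S D.N D.ns := fun j hj k hk => ((hstrong j hj).2 k hk).2
  have hgen : K = ⊤ := top_le_iff.1 fun g _ => chain_mem V.inj hS V.chainX V.sizeX.ge g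
  have hStop : ∀ j < D.ns, ∃ u ∈ (⊤ : Subgroup G), Rep φ u (D.S j) := fun j hj => by
    obtain ⟨u, -, ru⟩ := hS j hj
    exact ⟨u, Subgroup.mem_top u, ru⟩
  have hone : el 0 ≠ 1 := fun e => by
    have h := V.moves
    simp only [Data.movesCheck, List.any_eq_true, List.mem_range, Bool.not_eq_true', ← Bool.not_eq_true,
      Nat.beq_eq] at h
    obtain ⟨k, hk, hne⟩ := h
    have := rx ⟨k, hk⟩
    rw [e, map_one] at this
    exact hne this.symm
  haveI : Fact D.p.Prime := ⟨V.prime⟩
  refine ⟨{
    x := el 0, n := el 1, y := el 2, p := D.p, prime := V.prime, once := V.once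
    order := orderOf_eq_prime hxp hone
    r := D.r, c := D.c, d := D.d, c_inv := hcd
    norm := perm_ext V.inj fun k => by
      rw [(rn.mul rx) k, ((rep_pow rx D.r).mul rn) k]
      exact (hpt k).2.1.2.2
    gen := hgen
    cosets := fun g e => ?_
    classes := fun i hi hi0 => by
      obtain ⟨m, hm, h⟩ := (hclass i hi).resolve_left hi0
      exact ⟨⟨m, hm⟩, h⟩
    shift := fun i hi => by
      obtain ⟨a, ha, h⟩ := hshift i hi
      exact ⟨⟨a, ha⟩, h⟩ }, el 3, ⟨rfl, rfl⟩, ⟨rx, rn, ry, rz⟩, ?_, hStop, hpair⟩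
  · obtain ⟨us, hl, -, he⟩ := srch_sound hStop hpair V.chainX V.sizeX.ge V.searchX rx (rep_pow rx D.r) e
    simp only [Data.leafNorm, Bool.or_eq_true, List.any_eq_true, List.all_eq_true, List.mem_range, Bool.not_eq_true',
      ← Bool.not_eq_true, Nat.beq_eq] at hl
    obtain ⟨k, hk, hne⟩ | ⟨i, -, hi⟩ := hl
    · refine absurd ?_ hne
      have h := congrArg (fun a : G => (φ a ⟨k, hk⟩ : ℕ)) e
      rw [(he.mul rx) ⟨k, hk⟩, ((rep_pow rx D.r).mul he) ⟨k, hk⟩] at h
      exact h
    exact ⟨i, perm_ext V.inj fun k => by rw [he k, hi k k.2, ((rep_pow rx i).mul rn) k]⟩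
  · exact perm_ext V.inj fun k => by
      rw [(ry.mul rn) k, ((rep_pow rn D.K).mul ry) k]
      exact (hpt k).2.2.1

/-- An automorphism fixing the normalising element sends the second generator to a candidate. -/
theorem cand [Finite G] (V : Valid D φ) {F : OutCriterion.Frame G}
    (hx : Rep φ F.x (D.el 0)) (hn : Rep φ F.n (D.el 1)) (hy : Rep φ F.y (D.el 2))
    (hcomm : F.y * F.n = F.n ^ D.K * F.y) (hS : ∀ j < D.ns, ∃ u ∈ (⊤ : Subgroup G), Rep φ u (D.S j))
    (hp : PairInv D.S D.N D.ns) {leaf : List ℕ → Bool}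
    (hs : srch D.S (D.el 1) (powF (D.el 1) D.K) leaf D.chN [] [] = true) (β : MulAut G) (hβn : β F.n = F.n) :
    ∃ us, leaf us = true ∧ Rep φ (β F.y) (evw D.S us) ∧
      ∀ (f : ℕ → ℕ), Rep φ (β F.x) f → D.fails f us = false := by
  have e := congrArg β hcomm
  rw [map_mul, map_mul, map_pow, hβn] at e
  obtain ⟨us, hl, -, he⟩ := srch_sound hS hp V.chainN V.sizeN.ge hs hn (rep_pow hn D.K) e
  refine ⟨us, hl, he, fun f hf => ?_⟩
  rw [← Bool.not_eq_true]
  intro hfail
  simp only [Data.fails, List.any_eq_true, List.mem_range, Bool.not_eq_true', ← Bool.not_eq_true, Nat.beq_eq] at hfail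
  obtain ⟨q, hq, k, hk, hne⟩ := hfail
  refine hne ?_
  have hpt := fun k : Fin D.N => V.points k k.2
  simp only [Data.pointCheck, Bool.and_eq_true, Nat.blt_eq, Nat.beq_eq, List.all_eq_true] at hpt
  have e1 := congrArg β (rep_one_iff V.inj (rep_evB hx hy (List.replicate q.2 q.1).flatten)
    fun k => (hpt k).2.2.2 q hq)
  rw [map_one, map_list_prod, List.map_map] at e1
  have e2 : (β : G → G) ∘ (fun s => bif s then F.y else F.x) = fun s => bif s then β F.y else β F.x := by
    funext s; cases s <;> rfl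
  rw [e2] at e1
  have h := rep_evB hf he (List.replicate q.2 q.1).flatten ⟨k, hk⟩
  rw [e1, map_one] at h
  exact h.symm

/-- Every automorphism is inner. -/
theorem card_one [Finite G] (V : Valid D φ)
    (hs : srch D.S (D.el 1) (powF (D.el 1) D.K) D.leafOne D.chN [] [] = true) : Nat.card (Cfsg.Out G) = 1 := by
  obtain ⟨F, z, ⟨-, hc⟩, ⟨hx, hn, hy, -⟩, hcomm, hS, hp⟩ := exists_frame V
  refine OutCriterion.card_eq_one F fun β hβn hβx => ?_
  obtain ⟨us, hl, he, hf⟩ := cand V hx hn hy hcomm hS hp hs β hβn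
  simp only [Data.leafOne, Bool.and_eq_true, Bool.or_eq_true, List.all_eq_true, List.mem_range, Nat.beq_eq] at hl
  rcases hβx with h | h
  · refine ⟨h, perm_ext V.inj fun k => ?_⟩
    rw [he k, hl.1.resolve_left (fun hh => by rw [hf _ (h.symm ▸ hx)] at hh; exact Bool.noConfusion hh) k k.2, hy k]
  · exfalso
    have hβc : Rep φ (β F.x) (powF (D.el 0) D.c) := by rw [h, hc]; exact rep_pow hx D.c
    have := (hf _ hβc).symm.trans hl.2
    exact Bool.noConfusion this

/-- There is exactly one further class of automorphisms. -/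
theorem card_two [Finite G] (V : Valid D φ)
    (hs : srch D.S (D.el 1) (powF (D.el 1) D.K) D.leafTwo D.chN [] [] = true)
    (ho : srch D.S (D.el 0) (powF (D.el 0) D.c) D.leafOuter D.chX [] [] = true)
    (hσ : ∀ k < D.N, D.sigmaCheck k = true) : Nat.card (Cfsg.Out G) = 2 := by
  obtain ⟨F, z, ⟨-, hc⟩, ⟨hx, hn, hy, hz⟩, hcomm, hS, hp⟩ := exists_frame V
  have hσ' : ∀ k : Fin D.N, _ := fun k : Fin D.N => hσ k k.2
  simp only [Data.sigmaCheck, Bool.and_eq_true, Nat.blt_eq, Nat.beq_eq] at hσ'
  let σ : Equiv.Perm (Fin D.N) :=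
    { toFun := fun k => ⟨blk D.sig k, (hσ' k).1.1.1⟩
      invFun := fun k => ⟨blk D.sigI k, (hσ' k).1.1.2⟩
      left_inv := fun k => Fin.ext (hσ' k).1.2.2
      right_inv := fun k => Fin.ext (hσ' k).1.2.1 }
  have h1 : σ * φ F.x = φ (F.x ^ F.c) * σ := by
    refine Equiv.ext fun k => Fin.ext ?_
    show blk D.sig (φ F.x k : ℕ) = (φ (F.x ^ F.c) (σ k) : ℕ)
    rw [hx k, rep_pow hx F.c (σ k), hc]
    exact (hσ' k).2.1
  have h2 : σ * φ F.y = φ z * σ := by
    refine Equiv.ext fun k => Fin.ext ?_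
    show blk D.sig (φ F.y k : ℕ) = (φ z (σ k) : ℕ)
    rw [hy k, hz (σ k)]
    exact (hσ' k).2.2
  have hno : ∀ g : G, g * F.x = F.x ^ F.c * g → g * F.y ≠ z * g := by
    intro g e1 e2
    obtain ⟨us, hl, -, he⟩ := srch_sound hS hp V.chainX V.sizeX.ge ho hx (rep_pow hx D.c) (hc ▸ e1 :)
    simp only [Data.leafOuter, List.any_eq_true, List.mem_range, Bool.not_eq_true', ← Bool.not_eq_true, Nat.beq_eq] at hl
    obtain ⟨k, hk, hne⟩ := hl
    refine hne ?_
    have h := congrArg (fun a : G => (φ a ⟨k, hk⟩ : ℕ)) e2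
    rw [(he.mul hy) ⟨k, hk⟩, (hz.mul he) ⟨k, hk⟩] at h
    exact h
  obtain ⟨θ, θx, θy, hne⟩ := OutCriterion.exists_aut F φ V.inj σ h1 h2 hno
  refine OutCriterion.card_eq_two F θ θx θy hne fun β hβn hβx => ?_
  obtain ⟨us, hl, he, hf⟩ := cand V hx hn hy hcomm hS hp hs β hβn
  simp only [Data.leafTwo, Bool.and_eq_true, Bool.or_eq_true, List.all_eq_true, List.mem_range, Nat.beq_eq] at hl
  rcases hβx with h | h
  · refine Or.inl ⟨h, perm_ext V.inj fun k => ?_⟩
    rw [he k, hl.1.resolve_left (fun hh => by rw [hf _ (h.symm ▸ hx)] at hh; exact Bool.noConfusion hh) k k.2, hy k]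
  · refine Or.inr ⟨h, perm_ext V.inj fun k => ?_⟩
    have hβc : Rep φ (β F.x) (powF (D.el 0) D.c) := by rw [h, hc]; exact rep_pow hx D.c
    rw [he k, hl.2.resolve_left (fun hh => Bool.noConfusion ((hf _ hβc).symm.trans hh)) k k.2, hz k]

end Cfsg.Agent.Lie.OutTables
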