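import Cfsg.Agent.Lib.Lie.WeylCoxGen

/-!
# Centres and generation of the exceptional and small Weyl groups
-/

set_option autoImplicit false
set_option maxRecDepth 100000

namespace Cfsg.Agent.Lie

open Cfsg.Lie

theorem center_transfer {D : ChevalleyDatum} (hF : Facts D) (M : CoxeterMatrix (Fin D.rank))
    (hM : ∀ i j, (hF.refSys.s i * hF.refSys.s j) ^ M i j = 1)
    (hmin : ∀ i j (r : ℕ), (hF.refSys.s i * hF.refSys.s j) ^ r = 1 → M i j ∣ r) {k : ℕ}
    (h : Nat.card (Subgroup.center hF.weyl) = k ∧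
      Subgroup.center hF.weyl ≤ Subgroup.zpowers (hF.refSys.pr (List.finRange D.rank))) :
    Nat.card (Subgroup.center M.Group) = k ∧
      Subgroup.center M.Group ≤ Subgroup.zpowers ((List.finRange D.rank).map M.simple).prod := by
  let e := hF.refSys.coxeterEquiv M hM hmin
  have hc : e ((List.finRange D.rank).map M.simple).prod = hF.refSys.pr (List.finRange D.rank) :=
    hF.refSys.toW_mpr M hM _
  refine ⟨(Nat.card_congr (Subgroup.centerCongr e).toEquiv).trans h.1, fun x hx => ?_⟩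
  have hx' : e x ∈ Subgroup.center hF.weyl := Subgroup.mem_center_iff.2 fun v => by
    obtain ⟨y, rfl⟩ := e.surjective v
    rw [← map_mul, ← map_mul, Subgroup.mem_center_iff.1 hx y]
  obtain ⟨z, hz⟩ := Subgroup.mem_zpowers_iff.1 (h.2 hx')
  refine Subgroup.mem_zpowers_iff.2 ⟨z, e.injective ?_⟩
  rw [map_zpow, hc, hz]

theorem gen_transfer {D : ChevalleyDatum} (hF : Facts D) {cols : List (List ℤ)}
    (hcols : okCols D cols = true) (M : CoxeterMatrix (Fin D.rank))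
    (hM : ∀ i j, (hF.refSys.s i * hF.refSys.s j) ^ M i j = 1)
    (hmin : ∀ i j (r : ℕ), (hF.refSys.s i * hF.refSys.s j) ^ r = 1 → M i j ∣ r)
    (l : List (Fin D.rank)) (hl : l.Nodup) {rest : List (List ℕ × List ℕ)}
    (hok : okDerive cols ([List.range D.rank, (List.range D.rank).reverse] ++ l.map fun i => [i.val]) rest = true) :
    ∃ T : Finset M.Group, T.card = l.length ∧
      (∀ t ∈ T, ∃ (g : M.Group) (i : Fin D.rank), t = g * M.simple i * g⁻¹) ∧
      Subgroup.closure (({((List.finRange D.rank).map M.simple).prod} : Set M.Group) ∪ ↑T) = ⊤ := by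
  classical
  let e := hF.refSys.coxeterEquiv M hM hmin
  have hs : ∀ i, e (M.simple i) = hF.wS i := fun i => hF.refSys.toW_simple M hM i
  have hinj : Function.Injective M.simple := fun i j h =>
    hF.refSys.s_injective M hM hmin (by
      show hF.wS i = hF.wS j
      rw [← hs, ← hs, h])
  have hc : e ((List.finRange D.rank).map M.simple).prod = hF.refSys.pr (List.finRange D.rank) :=
    hF.refSys.toW_mpr M hM _
  refine ⟨l.toFinset.image M.simple, ?_, ?_, ?_⟩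
  · rw [Finset.card_image_of_injective _ hinj, List.toFinset_card_of_nodup hl]
  · intro t ht
    obtain ⟨i, -, rfl⟩ := Finset.mem_image.1 ht
    exact ⟨1, i, by simp⟩
  · set K := Subgroup.closure (({((List.finRange D.rank).map M.simple).prod} : Set M.Group) ∪
      ↑(l.toFinset.image M.simple)) with hK
    have hcK : hF.refSys.pr (List.finRange D.rank) ∈ K.map e.toMonoidHom :=
      ⟨_, Subgroup.subset_closure (Or.inl rfl), hc⟩
    have htop : K.map e.toMonoidHom = ⊤ := by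
      refine hF.mem_of_derive hcols _ rest _ (fun w hw => ?_) hok
      simp only [List.cons_append, List.nil_append, List.mem_cons, List.mem_map] at hw
      rcases hw with rfl | rfl | ⟨i, hi, rfl⟩
      · exact ⟨by rw [hF.prN_range]; exact hcK, fun i hi => List.mem_range.1 hi⟩
      · exact ⟨by rw [hF.prN_reverse, hF.prN_range]; exact inv_mem hcK,
          fun i hi => List.mem_range.1 (List.mem_reverse.1 hi)⟩
      · refine ⟨⟨M.simple i, Subgroup.subset_closure (Or.inr ?_), ?_⟩, fun k hk => ?_⟩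
        · exact Finset.mem_image_of_mem _ (List.mem_toFinset.2 hi)
        · show e (M.simple i) = _
          rw [hs, Facts.prN]
          simp
        · rw [List.mem_singleton.1 hk]
          exact i.isLt
    refine eq_top_iff.2 fun x _ => ?_
    have : e x ∈ K.map e.toMonoidHom := htop ▸ Subgroup.mem_top _
    obtain ⟨y, hy, hyx⟩ := this
    exact e.injective hyx ▸ hy

def deriveB2 : List (List ℕ × List ℕ) := [([1], [2, 0])]

theorem okNegatedB2 : okNegated chevB2 = true := by decide +kernel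

theorem signRigidB2 : SignRigid chevB2 := by decide +kernel

theorem centerB2 :
    Nat.card (Subgroup.center (CoxeterMatrix.B 2 : CoxeterMatrix (Fin chevB2.rank)).Group) = 2 ∧
      Subgroup.center (CoxeterMatrix.B 2 : CoxeterMatrix (Fin chevB2.rank)).Group ≤ Subgroup.zpowers
        ((List.finRange chevB2.rank).map (CoxeterMatrix.B 2 : CoxeterMatrix (Fin chevB2.rank)).simple).prod :=
  center_transfer factsB2 _ coxeterB2.1 coxeterB2.2
    (factsB2.center_minus_one okCorootB2 okColsB2 okNegatedB2 signRigidB2 (r := 2) (by decide +kernel))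

theorem genB2 :
    ∃ T : Finset (CoxeterMatrix.B 2 : CoxeterMatrix (Fin chevB2.rank)).Group, T.card = 1 ∧
      (∀ t ∈ T, ∃ (g : (CoxeterMatrix.B 2 : CoxeterMatrix (Fin chevB2.rank)).Group) (i : Fin chevB2.rank),
        t = g * (CoxeterMatrix.B 2 : CoxeterMatrix (Fin chevB2.rank)).simple i * g⁻¹) ∧
      Subgroup.closure (({((List.finRange chevB2.rank).map (CoxeterMatrix.B 2 : CoxeterMatrix (Fin chevB2.rank)).simple).prod} :
        Set (CoxeterMatrix.B 2 : CoxeterMatrix (Fin chevB2.rank)).Group) ∪ ↑T) = ⊤ :=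
  gen_transfer factsB2 okColsB2 _ coxeterB2.1 coxeterB2.2
    [⟨0, by decide +kernel⟩] (by decide +kernel) (rest := deriveB2) (by decide +kernel)

def deriveG2 : List (List ℕ × List ℕ) := [([1], [2, 0])]

theorem okNegatedG2 : okNegated chevG2 = true := by decide +kernel

theorem signRigidG2 : SignRigid chevG2 := by decide +kernel

theorem centerG2 :
    Nat.card (Subgroup.center (CoxeterMatrix.G₂ : CoxeterMatrix (Fin chevG2.rank)).Group) = 2 ∧
      Subgroup.center (CoxeterMatrix.G₂ : CoxeterMatrix (Fin chevG2.rank)).Group ≤ Subgroup.zpowers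
        ((List.finRange chevG2.rank).map (CoxeterMatrix.G₂ : CoxeterMatrix (Fin chevG2.rank)).simple).prod :=
  center_transfer factsG2 _ coxeterG2.1 coxeterG2.2
    (factsG2.center_minus_one okCorootG2 okColsG2 okNegatedG2 signRigidG2 (r := 3) (by decide +kernel))

theorem genG2 :
    ∃ T : Finset (CoxeterMatrix.G₂ : CoxeterMatrix (Fin chevG2.rank)).Group, T.card = 1 ∧
      (∀ t ∈ T, ∃ (g : (CoxeterMatrix.G₂ : CoxeterMatrix (Fin chevG2.rank)).Group) (i : Fin chevG2.rank),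
        t = g * (CoxeterMatrix.G₂ : CoxeterMatrix (Fin chevG2.rank)).simple i * g⁻¹) ∧
      Subgroup.closure (({((List.finRange chevG2.rank).map (CoxeterMatrix.G₂ : CoxeterMatrix (Fin chevG2.rank)).simple).prod} :
        Set (CoxeterMatrix.G₂ : CoxeterMatrix (Fin chevG2.rank)).Group) ∪ ↑T) = ⊤ :=
  gen_transfer factsG2 okColsG2 _ coxeterG2.1 coxeterG2.2
    [⟨0, by decide +kernel⟩] (by decide +kernel) (rest := deriveG2) (by decide +kernel)

def deriveD4 : List (List ℕ × List ℕ) := [([1], [0, 2, 1]), ([2, 1, 0, 1, 2], [0, 3, 1]), ([3, 2, 1, 0, 1, 2, 3], [0, 4, 1]), ([3], [6, 5, 6])]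

theorem okNegatedD4 : okNegated chevD4 = true := by decide +kernel

theorem signRigidD4 : SignRigid chevD4 := by decide +kernel

theorem centerD4 :
    Nat.card (Subgroup.center (Cfsg.Lie.coxeterD4 : CoxeterMatrix (Fin chevD4.rank)).Group) = 2 ∧
      Subgroup.center (Cfsg.Lie.coxeterD4 : CoxeterMatrix (Fin chevD4.rank)).Group ≤ Subgroup.zpowers
        ((List.finRange chevD4.rank).map (Cfsg.Lie.coxeterD4 : CoxeterMatrix (Fin chevD4.rank)).simple).prod :=
  center_transfer factsD4 _ coxeterD4.1 coxeterD4.2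
    (factsD4.center_minus_one okCorootD4 okColsD4 okNegatedD4 signRigidD4 (r := 3) (by decide +kernel))

theorem genD4 :
    ∃ T : Finset (Cfsg.Lie.coxeterD4 : CoxeterMatrix (Fin chevD4.rank)).Group, T.card = 2 ∧
      (∀ t ∈ T, ∃ (g : (Cfsg.Lie.coxeterD4 : CoxeterMatrix (Fin chevD4.rank)).Group) (i : Fin chevD4.rank),
        t = g * (Cfsg.Lie.coxeterD4 : CoxeterMatrix (Fin chevD4.rank)).simple i * g⁻¹) ∧
      Subgroup.closure (({((List.finRange chevD4.rank).map (Cfsg.Lie.coxeterD4 : CoxeterMatrix (Fin chevD4.rank)).simple).prod} :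
        Set (Cfsg.Lie.coxeterD4 : CoxeterMatrix (Fin chevD4.rank)).Group) ∪ ↑T) = ⊤ :=
  gen_transfer factsD4 okColsD4 _ coxeterD4.1 coxeterD4.2
    [⟨0, by decide +kernel⟩, ⟨2, by decide +kernel⟩] (by decide +kernel) (rest := deriveD4) (by decide +kernel)

def deriveF4 : List (List ℕ × List ℕ) := [([1], [0, 2, 1]), ([3], [0, 3, 1])]

theorem okNegatedF4 : okNegated chevF4 = true := by decide +kernel

theorem signRigidF4 : SignRigid chevF4 := by decide +kernel

theorem centerF4 :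
    Nat.card (Subgroup.center (CoxeterMatrix.F₄ : CoxeterMatrix (Fin chevF4.rank)).Group) = 2 ∧
      Subgroup.center (CoxeterMatrix.F₄ : CoxeterMatrix (Fin chevF4.rank)).Group ≤ Subgroup.zpowers
        ((List.finRange chevF4.rank).map (CoxeterMatrix.F₄ : CoxeterMatrix (Fin chevF4.rank)).simple).prod :=
  center_transfer factsF4 _ coxeterF4.1 coxeterF4.2
    (factsF4.center_minus_one okCorootF4 okColsF4 okNegatedF4 signRigidF4 (r := 6) (by decide +kernel))

theorem genF4 :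
    ∃ T : Finset (CoxeterMatrix.F₄ : CoxeterMatrix (Fin chevF4.rank)).Group, T.card = 2 ∧
      (∀ t ∈ T, ∃ (g : (CoxeterMatrix.F₄ : CoxeterMatrix (Fin chevF4.rank)).Group) (i : Fin chevF4.rank),
        t = g * (CoxeterMatrix.F₄ : CoxeterMatrix (Fin chevF4.rank)).simple i * g⁻¹) ∧
      Subgroup.closure (({((List.finRange chevF4.rank).map (CoxeterMatrix.F₄ : CoxeterMatrix (Fin chevF4.rank)).simple).prod} :
        Set (CoxeterMatrix.F₄ : CoxeterMatrix (Fin chevF4.rank)).Group) ∪ ↑T) = ⊤ :=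
  gen_transfer factsF4 okColsF4 _ coxeterF4.1 coxeterF4.2
    [⟨0, by decide +kernel⟩, ⟨2, by decide +kernel⟩] (by decide +kernel) (rest := deriveF4) (by decide +kernel)

def deriveE6 : List (List ℕ × List ℕ) := [([2], [0, 2, 1]), ([2, 0, 2], [3, 2, 3]), ([3, 1, 3], [0, 3, 1]), ([4, 3, 2, 0, 2, 3, 4], [0, 5, 1]), ([4, 3, 2, 3, 4], [6, 2, 6]), ([5, 4, 2, 3, 1, 3, 2, 4, 5], [0, 6, 1]), ([3], [0, 8, 1]), ([3, 2, 0, 2, 3], [9, 4, 9]), ([1], [9, 5, 9]), ([4], [10, 6, 10]), ([4, 2, 3, 1, 3, 2, 4], [11, 7, 11]), ([5], [13, 8, 13])]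

theorem okNegatedE6 : okNegated chevE6 = true := by decide +kernel

theorem signRigidE6 : SignRigid chevE6 := by decide +kernel

theorem centerE6 :
    Nat.card (Subgroup.center (CoxeterMatrix.E₆ : CoxeterMatrix (Fin chevE6.rank)).Group) = 1 ∧
      Subgroup.center (CoxeterMatrix.E₆ : CoxeterMatrix (Fin chevE6.rank)).Group ≤ Subgroup.zpowers
        ((List.finRange chevE6.rank).map (CoxeterMatrix.E₆ : CoxeterMatrix (Fin chevE6.rank)).simple).prod := by
  have h := factsE6.center_eq_bot_word okColsE6 okNegatedE6 signRigidE6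
    (ω := [0, 2, 3, 4, 5, 1, 3, 4, 2, 3, 0, 2, 1, 3, 4, 5, 1, 3, 4, 2, 3, 0, 2, 1, 3, 4, 2, 3, 0, 2, 1, 3, 0, 2, 1, 0]) (π := [5, 1, 4, 3, 2, 0]) (by decide +kernel)
  exact center_transfer factsE6 _ coxeterE6.1 coxeterE6.2
    ⟨by rw [h, Subgroup.card_bot], by rw [h]; exact bot_le⟩

theorem genE6 :
    ∃ T : Finset (CoxeterMatrix.E₆ : CoxeterMatrix (Fin chevE6.rank)).Group, T.card = 1 ∧
      (∀ t ∈ T, ∃ (g : (CoxeterMatrix.E₆ : CoxeterMatrix (Fin chevE6.rank)).Group) (i : Fin chevE6.rank),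
        t = g * (CoxeterMatrix.E₆ : CoxeterMatrix (Fin chevE6.rank)).simple i * g⁻¹) ∧
      Subgroup.closure (({((List.finRange chevE6.rank).map (CoxeterMatrix.E₆ : CoxeterMatrix (Fin chevE6.rank)).simple).prod} :
        Set (CoxeterMatrix.E₆ : CoxeterMatrix (Fin chevE6.rank)).Group) ∪ ↑T) = ⊤ :=
  gen_transfer factsE6 okColsE6 _ coxeterE6.1 coxeterE6.2
    [⟨0, by decide +kernel⟩] (by decide +kernel) (rest := deriveE6) (by decide +kernel)

def deriveE7 : List (List ℕ × List ℕ) := [([3, 2, 0, 2, 3], [0, 2, 1]), ([1, 3, 2, 0, 2, 3, 1], [3, 2, 3]), ([4, 2, 3, 1, 3, 2, 4], [0, 3, 1]), ([2, 3, 4, 1, 3, 2, 0, 2, 3, 1, 4, 3, 2], [5, 3, 5]), ([5, 3, 4, 1, 3, 2, 0, 2, 3, 1, 4, 3, 5], [0, 5, 1]), ([5, 4, 3, 1, 3, 4, 5], [7, 3, 7]), ([5, 4, 3, 4, 5], [7, 4, 7]), ([1, 3, 4, 5, 2, 3, 4, 1, 3, 2, 0, 2, 3, 1, 4, 3, 2, 5, 4, 3, 1], [7, 5, 7]), ([4, 5, 3, 4, 2, 3, 1, 3, 2, 4, 3, 5, 4], [9, 5, 9]), ([6, 4, 5, 2, 3, 4, 1, 3, 2, 0, 2, 3,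 1, 4, 3, 2, 5, 4, 6], [0, 7, 1]), ([6, 5, 4, 5, 6], [12, 6, 12]), ([5, 6, 4, 5, 3, 4, 1, 3, 2, 0, 2, 3, 1, 4, 3, 5, 4, 6, 5], [13, 7, 13]), ([4, 5, 6, 1, 3, 4, 5, 2, 3, 4, 1, 3, 2, 0, 2, 3, 1, 4, 3, 2, 5, 4, 3, 1, 6, 5, 4], [12, 8, 12]), ([5, 3, 4, 2, 3, 1, 3, 2, 4, 3, 5], [0, 12, 1]), ([0], [16, 7, 16]), ([2, 3, 1, 3, 2], [16, 9, 16]), ([4, 5, 3, 4, 1, 3, 2, 0, 2, 3, 1, 4, 3, 5, 4], [18, 10, 18]), ([4], [16, 11, 16]), ([6, 4, 5, 3, 4, 1, 3, 2, 0, 2, 3, 1, 4, 3, 5, 4, 6], [0, 16, 1]), ([2], [21, 12, 21]), ([5], [21, 14, 21]), ([5, 4, 2, 3, 1, 3, 2, 4, 5], [21, 15, 21]), ([3], [24, 16, 24]), ([6], [21, 19, 21])]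

theorem okNegatedE7 : okNegated chevE7 = true := by decide +kernel

theorem signRigidE7 : SignRigid chevE7 := by decide +kernel

theorem centerE7 :
    Nat.card (Subgroup.center (CoxeterMatrix.E₇ : CoxeterMatrix (Fin chevE7.rank)).Group) = 2 ∧
      Subgroup.center (CoxeterMatrix.E₇ : CoxeterMatrix (Fin chevE7.rank)).Group ≤ Subgroup.zpowers
        ((List.finRange chevE7.rank).map (CoxeterMatrix.E₇ : CoxeterMatrix (Fin chevE7.rank)).simple).prod :=
  center_transfer factsE7 _ coxeterE7.1 coxeterE7.2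
    (factsE7.center_minus_one okCorootE7 okColsE7 okNegatedE7 signRigidE7 (r := 9) (by decide +kernel))

theorem genE7 :
    ∃ T : Finset (CoxeterMatrix.E₇ : CoxeterMatrix (Fin chevE7.rank)).Group, T.card = 1 ∧
      (∀ t ∈ T, ∃ (g : (CoxeterMatrix.E₇ : CoxeterMatrix (Fin chevE7.rank)).Group) (i : Fin chevE7.rank),
        t = g * (CoxeterMatrix.E₇ : CoxeterMatrix (Fin chevE7.rank)).simple i * g⁻¹) ∧
      Subgroup.closure (({((List.finRange chevE7.rank).map (CoxeterMatrix.E₇ : CoxeterMatrix (Fin chevE7.rank)).simple).prod} :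
        Set (CoxeterMatrix.E₇ : CoxeterMatrix (Fin chevE7.rank)).Group) ∪ ↑T) = ⊤ :=
  gen_transfer factsE7 okColsE7 _ coxeterE7.1 coxeterE7.2
    [⟨1, by decide +kernel⟩] (by decide +kernel) (rest := deriveE7) (by decide +kernel)

def deriveE8 : List (List ℕ × List ℕ) := [([2], [0, 2, 1]), ([3, 1, 3], [0, 3, 1]), ([4, 3, 2, 0, 2, 3, 4], [0, 4, 1]), ([5, 4, 2, 3, 1, 3, 2, 4, 5], [0, 5, 1]), ([5, 4, 3, 1, 3, 4, 5], [6, 3, 6]), ([5, 4, 5], [7, 4, 7]), ([6, 5, 3, 4, 1, 3, 2, 0, 2, 3, 1, 4, 3, 5, 6], [0, 6, 1]), ([6, 5, 2, 3, 4, 1, 3, 2, 0, 2, 3, 1, 4, 3, 2, 5, 6], [9, 3, 9]), ([7, 6, 4, 5, 2, 3, 4, 1, 3, 2, 0, 2, 3, 1, 4, 3, 2, 5, 4, 6, 7], [0, 9, 1]), ([5, 3, 4, 2, 3, 1, 3, 2, 4, 3, 5], [0, 11, 1]), ([5, 3, 4, 1, 3, 2, 0, 2, 3, 1, 4, 3, 5], [12, 2, 12]), ([5, 4, 3, 2, 3, 4, 5], [12, 4, 12]), ([5, 4, 3, 2, 0, 2, 3, 4, 5], [13, 4, 13]), ([5], [15, 5, 15]), ([3], [12, 6, 12]), ([1], [14, 6, 14]), ([4], [16, 8, 16]), ([6], [13,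 9, 13]), ([6, 4, 5, 2, 3, 4, 1, 3, 2, 0, 2, 3, 1, 4, 3, 2, 5, 4, 6], [19, 10, 19]), ([7], [21, 11, 21])]

theorem okNegatedE8 : okNegated chevE8 = true := by decide +kernel

theorem signRigidE8 : SignRigid chevE8 := by decide +kernel

theorem centerE8 :
    Nat.card (Subgroup.center (CoxeterMatrix.E₈ : CoxeterMatrix (Fin chevE8.rank)).Group) = 2 ∧
      Subgroup.center (CoxeterMatrix.E₈ : CoxeterMatrix (Fin chevE8.rank)).Group ≤ Subgroup.zpowers
        ((List.finRange chevE8.rank).map (CoxeterMatrix.E₈ : CoxeterMatrix (Fin chevE8.rank)).simple).prod :=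
  center_transfer factsE8 _ coxeterE8.1 coxeterE8.2
    (factsE8.center_minus_one okCorootE8 okColsE8 okNegatedE8 signRigidE8 (r := 15) (by decide +kernel))

theorem genE8 :
    ∃ T : Finset (CoxeterMatrix.E₈ : CoxeterMatrix (Fin chevE8.rank)).Group, T.card = 1 ∧
      (∀ t ∈ T, ∃ (g : (CoxeterMatrix.E₈ : CoxeterMatrix (Fin chevE8.rank)).Group) (i : Fin chevE8.rank),
        t = g * (CoxeterMatrix.E₈ : CoxeterMatrix (Fin chevE8.rank)).simple i * g⁻¹) ∧
      Subgroup.closure (({((List.finRange chevE8.rank).map (CoxeterMatrix.E₈ : CoxeterMatrix (Fin chevE8.rank)).simple).prod} :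
        Set (CoxeterMatrix.E₈ : CoxeterMatrix (Fin chevE8.rank)).Group) ∪ ↑T) = ⊤ :=
  gen_transfer factsE8 okColsE8 _ coxeterE8.1 coxeterE8.2
    [⟨0, by decide +kernel⟩] (by decide +kernel) (rest := deriveE8) (by decide +kernel)

end Cfsg.Agent.Lie
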