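import Mathlib
import Cfsg.Agent.Lib.Lie.Parabolic
import Cfsg.Agent.Lib.Lie.GroupCard
import Cfsg.Agent.Lib.Lie.TorusCard
import Cfsg.Agent.Lib.Fusion.LocalConstrained
import Cfsg.Agent.Lib.Lie.AllFacts

/-!
The centralizer of the unipotent radical of a proper parabolic subgroup lies in the unipotent group.
-/

set_option autoImplicit false
set_option maxRecDepth 100000

namespace Cfsg.Agent.Lie

open Cfsg.Lie

/-- For distinct nodes i, j some root involving i is raised by exactly one α_j. -/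
def okPairsFStar (D : ChevalleyDatum) : Bool :=
  (List.range D.rank).all fun i => (List.range D.rank).all fun j => i == j ||
    (List.range D.nroots).any fun r => decide (D.nroots / 2 ≤ r) &&
      decide ((D.coroot.getD r #[]).getD i 0 ≠ 0) &&
      (List.range D.nroots).any fun s => decide (D.nroots / 2 ≤ s) &&
        decide ((D.coroot.getD s #[]).getD i 0 ≠ 0) &&
        (List.range D.rank).all fun k => decide (D.cartan k s = D.cartan k r + D.cartan k (D.simple j))

theorem okPairsG2 : okPairsFStar chevG2 = true := by decide +kernel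
theorem okPairsFStarB2 : okPairsFStar chevB2 = true := by decide +kernel
theorem okPairsD4 : okPairsFStar chevD4 = true := by decide +kernel
theorem okPairsF4 : okPairsFStar chevF4 = true := by decide +kernel
theorem okPairsE6 : okPairsFStar chevE6 = true := by decide +kernel
theorem okPairsE7 : okPairsFStar chevE7 = true := by decide +kernel
theorem okPairsE8 : okPairsFStar chevE8 = true := by decide +kernel

theorem pairs_of_mem {D : ChevalleyDatum}
    (hD : D ∈ [chevG2, chevB2, chevD4, chevF4, chevE6, chevE7, chevE8]) : okPairsFStar D = true := by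
  simp only [List.mem_cons, List.not_mem_nil, or_false] at hD
  rcases hD with rfl | rfl | rfl | rfl | rfl | rfl | rfl
  exacts [okPairsG2, okPairsFStarB2, okPairsD4, okPairsF4, okPairsE6, okPairsE7, okPairsE8]

namespace Facts

variable {D : ChevalleyDatum} (hF : Facts D) {F : Type*} [Field F] {l : List (List ℤ)}
variable (hl : okCoeff D l = true) (hpair : okPairsFStar D = true) (J : Set ℕ) (hJ : ∃ i, i < D.rank ∧ i ∉ J)

include hF hpair hJ in
/-- A function fixed on the radical roots is fixed on the fundamental roots. -/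
theorem simple_of_radL (j : ℕ) (hj : j < D.rank) :
    D.simple j ∈ radL D J ∨ ∃ r ∈ radL D J, ∃ s ∈ radL D J,
      ∀ k, k < D.rank → D.cartan k s = D.cartan k r + D.cartan k (D.simple j) := by
  classical
  by_cases hjJ : j ∈ J
  · obtain ⟨i, hi, hiJ⟩ := hJ
    simp only [okPairsFStar, List.all_eq_true, List.mem_range, Bool.or_eq_true, beq_iff_eq, List.any_eq_true,
      Bool.and_eq_true, decide_eq_true_eq] at hpair
    rcases hpair i hi j hj with rfl | ⟨r, hr, ⟨h1, h2⟩, s, hs, ⟨h3, h4⟩, h5⟩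
    · exact absurd hjJ hiJ
    · exact Or.inr ⟨r, (mem_radL J).2 ⟨h1, hr, fun h => h2 (h.2 i hi hiJ)⟩, s,
        (mem_radL J).2 ⟨h3, hs, fun h => h4 (h.2 i hi hiJ)⟩, h5⟩
  · exact Or.inl ((mem_radL J).2 ⟨hF.simple_ge j hj, hF.simple_lt j hj,
      fun h => hjJ ((hF.inRootSub_simple J hj).1 h)⟩)

/-- The radical roots above r. -/
noncomputable def aboveL (D : ChevalleyDatum) (J : Set ℕ) (r : ℕ) : List ℕ :=
  (radL D J).filter fun s => decide (r < s)

theorem mem_aboveL {r s : ℕ} : s ∈ aboveL D J r ↔ s ∈ radL D J ∧ r < s := by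
  simp [aboveL]

include hF in
theorem above_le_raise {r : ℕ} (hr : r ∈ radL D J) :
    (hF.tsys F).US (aboveL D J r) ≤ hF.raiseSubgroup ((hF.psi r).toNat + 1) := by
  obtain ⟨h1, h2, -⟩ := (mem_radL J).1 hr
  refine CommSys.US_le _ fun s hs t => ?_
  obtain ⟨hs', hlt⟩ := (mem_aboveL J).1 hs
  rw [tsys_x]
  exact hF.xg_mem_raise_succ h2 h1 hlt ((mem_radL J).1 hs').2.1 t

include hF hl in
/-- Conjugation by U fixes a radical root element modulo the higher ones. -/
theorem U_conj_x {u : GL D.Idx F} (hu : u ∈ (hF.tsys F).U) {r : ℕ} (hr : r ∈ radL D J) (t : F) :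
    u * hF.xg r t * u⁻¹ * (hF.xg r t)⁻¹ ∈ (hF.tsys F).US (aboveL D J r) := by
  obtain ⟨hr1, hr2, -⟩ := (mem_radL J).1 hr
  have hclos : ∀ s s', D.nroots / 2 ≤ s → s < D.nroots → s' ∈ radL D J → s' ≠ s → ∀ c ∈ D.commTerms s s',
      c.1 ∈ radL D J ∧ s' < c.1 := by
    intro s s' hs1 hs2 hs' hne c hc
    obtain ⟨h1, h2, -⟩ := (mem_radL J).1 hs'
    have hlt := hF.commTerms_lt hs2 h2 c hc
    obtain ⟨a1, b1, -⟩ := hF.commTerms_psi hs2 h2 hc
    refine ⟨(radL_iff hl J hlt).2 ?_, (hF.commTerms_gt hs2 h2 hs1 h1 hc).2.2⟩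
    rw [hF.psiOf_commTerms _ hs2 h2 hc]
    have := (radL_iff hl J h2).1 hs'
    have := (wJ_spec hl J hs2).2.1 hs1
    have a1' : (1 : ℤ) ≤ c.2.2.1 := by exact_mod_cast a1
    have b1' : (1 : ℤ) ≤ c.2.2.2 := by exact_mod_cast b1
    nlinarith
  have hnorm : ∀ v ∈ (hF.tsys F).U, v ∈ Subgroup.normalizer ((hF.tsys F).US (aboveL D J r) : Set (GL D.Idx F)) := by
    intro v hv
    refine (CommSys.US_le _ (fun s hs q => ?_) : (hF.tsys F).U ≤ _) hv
    obtain ⟨hs1, hs2⟩ := mem_posL.1 hs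
    refine CommSys.x_normalizes _ hs2 (fun s' hs' => ?_) q
    obtain ⟨hs'', hlt⟩ := (mem_aboveL J).1 hs'
    obtain ⟨h1, h2, -⟩ := (mem_radL J).1 hs''
    refine ⟨h2, fun he => ?_, fun hne c hc => ?_⟩
    · have := (hF.neg_ge_iff hs2).1 (he ▸ h1)
      omega
    · obtain ⟨ha, hb⟩ := hclos s s' hs1 hs2 hs'' hne c hc
      exact (mem_aboveL J).2 ⟨ha, lt_trans hlt hb⟩
  induction hu using Subgroup.closure_induction with
  | mem g hg =>
    obtain ⟨s, hs, q, rfl⟩ := hg
    obtain ⟨hs1, hs2⟩ := mem_posL.1 hs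
    by_cases hsr : r = s
    · subst hsr
      rw [tsys_x, show hF.xg r q * hF.xg r t * (hF.xg r q)⁻¹ * (hF.xg r t)⁻¹ = 1 by
        rw [← hF.xg_add, add_comm q t, hF.xg_add, mul_inv_cancel_right, mul_inv_cancel]]
      exact one_mem _
    have hneg : r ≠ D.neg s := fun he => by
      have := (hF.neg_ge_iff hs2).1 (he ▸ hr1)
      omega
    have h1 := (hF.tsys F).toCommSys.x_conj s r hs2 hr2 hsr hneg (-q) t
    rw [(hF.tsys F).toCommSys.x_neg, inv_inv, tsys_x, tsys_x] at h1
    rw [tsys_x, h1]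
    set W := ((D.commWord F s r (-q) t).map fun p => (hF.tsys F).x p.1 p.2).prod
    have hW : W ∈ (hF.tsys F).US (aboveL D J r) := CommSys.word_mem _ fun p hp => by
      obtain ⟨c, hc, rfl⟩ := List.mem_map.1 hp
      exact CommSys.x_mem_US _ ((mem_aboveL J).2 (hclos s r hs1 hs2 hr hsr c hc)) _
    exact (Subgroup.mem_normalizer_iff.1 (hnorm _ ((hF.tsys F).x_mem_U hr1 hr2 t)) W).1 hW
  | one => simp
  | mul a b ha hb iha ihb =>
    rw [show a * b * hF.xg r t * (a * b)⁻¹ * (hF.xg r t)⁻¹ =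
      (a * (b * hF.xg r t * b⁻¹ * (hF.xg r t)⁻¹) * a⁻¹) * (a * hF.xg r t * a⁻¹ * (hF.xg r t)⁻¹) by group]
    exact mul_mem ((Subgroup.mem_normalizer_iff.1 (hnorm a ha) _).1 ihb) iha
  | inv a ha iha =>
    rw [show a⁻¹ * hF.xg r t * a⁻¹⁻¹ * (hF.xg r t)⁻¹ =
      a⁻¹ * (a * hF.xg r t * a⁻¹ * (hF.xg r t)⁻¹)⁻¹ * a⁻¹⁻¹ by group]
    exact (Subgroup.mem_normalizer_iff.1 (hnorm a⁻¹ (inv_mem ha)) _).1 (inv_mem iha)

include hF hl hpair hJ in
/-- The centralizer of the radical in the parabolic subgroup lies in U. -/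
theorem centralizer_rad_le {k : GL D.Idx F} (hk : k ∈ D.parabolicSubgroup F J)
    (hc : ∀ r ∈ radL D J, ∀ t : F, k * hF.xg r t = hF.xg r t * k) : k ∈ (hF.tsys F).U := by
  classical
  have hP : D.parabolicSubgroup F J ≤ D.group F := by
    rw [← hF.normalizer_rad hl J]; exact inf_le_right
  obtain ⟨b, hb, w, u, hu, hkeq⟩ := hF.mem_bnu (hP hk)
  set n := (hF.tsys F).nW w with hn
  have hU : u ∈ (hF.tsys F).U :=
    CommSys.US_mono _ (fun r hr => mem_posL.2 ((TorusSys.closed_invList w).mem_pos r hr)) hu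
  have hnP : n ∈ D.parabolicSubgroup F J := by
    have hbP : b ∈ D.parabolicSubgroup F J := Subgroup.mem_sup_left (by rw [← hF.tsys_B]; exact hb)
    have huP : u ∈ D.parabolicSubgroup F J :=
      Subgroup.mem_sup_left (by rw [← hF.tsys_B]; exact (hF.tsys F).U_le_B hU)
    rw [show n = b⁻¹ * k * u⁻¹ by rw [hkeq]; group]
    exact mul_mem (mul_mem (inv_mem hbP) hk) (inv_mem huP)
  obtain ⟨ub, hub, a, ha, hbeq⟩ := (hF.tsys F).mem_B.1 hb
  rw [hF.tsys_H, hF.diagonalSubgroup_eq F] at ha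
  obtain ⟨c, rfl⟩ := ha
  have hperm : ∀ r (hr : r ∈ radL D J),
      (w • (⟨r, ((mem_radL J).1 hr).2.1⟩ : Fin D.nroots) : Fin D.nroots).val ∈ radL D J := by
    intro r hr
    obtain ⟨h1, h2, -⟩ := (mem_radL J).1 hr
    obtain ⟨e, he, heq⟩ := hF.nW_conj (F := F) w ⟨r, h2⟩
    set s := (w • (⟨r, h2⟩ : Fin D.nroots) : Fin D.nroots).val with hs
    have hx : hF.xg r (1 : F) ∈ D.unipotentRadical F J := by
      rw [hF.unipotentRadical_eq]; exact CommSys.x_mem_US _ hr 1
    have hy := (Subgroup.mem_normalizer_iff.1 (hF.parabolic_normalizes hl J hnP) _).1 hx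
    rw [heq] at hy
    have hne : hF.xg s (e * 1) ≠ 1 := fun h => by
      have h3 := congrArg Units.val h
      rw [coe_xg, Units.val_one, hF.x_eq_one _ (Fin.isLt _), mul_one] at h3
      exact left_ne_zero_of_mul_eq_one he h3
    refine (mem_radL J).2 ⟨?_, Fin.isLt _, fun hin => hne ?_⟩
    · by_contra hneg
      refine hne (hF.B_inter_V ((hF.tsys F).U_le_B ?_) (hF.x_mem_negUnipotent (not_le.1 hneg) _))
      rw [hF.unipotentRadical_eq] at hy
      exact CommSys.US_mono _ (fun q hq => mem_posL.2 ⟨((mem_radL J).1 hq).1, ((mem_radL J).1 hq).2.1⟩) hy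
    · rw [← Subgroup.mem_bot, ← hF.rad_inf_levi hl J]
      exact ⟨hy, Subgroup.mem_sup_right (Subgroup.subset_closure ⟨s, _, hin, rfl⟩)⟩
  have hfix : ∀ r (hr : r ∈ radL D J), (w • (⟨r, ((mem_radL J).1 hr).2.1⟩ : Fin D.nroots) : Fin D.nroots).val = r := by
    by_contra hex
    push Not at hex
    obtain ⟨r₀, hr₀, hne₀⟩ := hex
    let S := (Finset.range D.nroots).filter fun r => ∃ hr : r ∈ radL D J,
      (w • (⟨r, ((mem_radL J).1 hr).2.1⟩ : Fin D.nroots) : Fin D.nroots).val ≠ r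
    have hS : S.Nonempty :=
      ⟨r₀, Finset.mem_filter.2 ⟨Finset.mem_range.2 ((mem_radL J).1 hr₀).2.1, hr₀, hne₀⟩⟩
    obtain ⟨-, hr, hne⟩ := Finset.mem_filter.1 (S.max'_mem hS)
    set r := S.max' hS with hrdef
    obtain ⟨h1, h2, -⟩ := (mem_radL J).1 hr
    set s := (w • (⟨r, h2⟩ : Fin D.nroots) : Fin D.nroots).val with hs
    have hsr := hperm r hr
    have hfixed : ∀ q (hq : q ∈ radL D J), r < q →
        (w • (⟨q, ((mem_radL J).1 hq).2.1⟩ : Fin D.nroots) : Fin D.nroots).val = q := by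
      intro q hq hlt
      by_contra hne'
      have := S.le_max' q (Finset.mem_filter.2 ⟨Finset.mem_range.2 ((mem_radL J).1 hq).2.1, hq, hne'⟩)
      omega
    have hlt : s < r := by
      rcases lt_trichotomy s r with h | h | h
      · exact h
      · exact absurd h hne
      · exfalso
        have h4 := hfixed s hsr h
        have h5 := MulAction.injective w (Fin.ext h4 :
          w • (⟨s, ((mem_radL J).1 hsr).2.1⟩ : Fin D.nroots) = w • ⟨r, h2⟩)
        exact h.ne' (congrArg Fin.val h5)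
    obtain ⟨e, he, heq⟩ := hF.nW_conj (F := F) w ⟨r, h2⟩
    have hL : ∀ g ∈ (hF.tsys F).US (aboveL D J r), n * g * n⁻¹ ∈ (hF.tsys F).US (aboveL D J r) := by
      intro g hg
      have hle : (hF.tsys F).US (aboveL D J r) ≤
          ((hF.tsys F).US (aboveL D J r)).comap (MulAut.conj n).toMonoidHom := by
        refine CommSys.US_le _ fun q hq v => ?_
        simp only [Subgroup.mem_comap, MulEquiv.coe_toMonoidHom, MulAut.conj_apply]
        obtain ⟨hq', hlt'⟩ := (mem_aboveL J).1 hq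
        obtain ⟨e', -, heq'⟩ := hF.nW_conj (F := F) w ⟨q, ((mem_radL J).1 hq').2.1⟩
        rw [tsys_x, heq', hfixed q hq' hlt', ← tsys_x]
        exact CommSys.x_mem_US _ hq _
      exact hle hg
    set d := u * hF.xg r 1 * u⁻¹ * (hF.xg r 1)⁻¹
    have hd := hF.U_conj_x hl J hU hr (1 : F)
    set dB := ub⁻¹ * hF.xg r 1 * ub * (hF.xg r 1)⁻¹
    have hdB : dB ∈ (hF.tsys F).US (aboveL D J r) := by
      have := hF.U_conj_x hl J (inv_mem hub) hr (1 : F)
      rwa [inv_inv] at this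
    -- the equation
    have e1 : n * (u * hF.xg r 1 * u⁻¹) * n⁻¹ = b⁻¹ * hF.xg r 1 * b := by
      have h := hc r hr 1
      rw [hkeq] at h
      calc n * (u * hF.xg r 1 * u⁻¹) * n⁻¹ = b⁻¹ * (b * n * u * hF.xg r 1) * u⁻¹ * n⁻¹ := by group
        _ = b⁻¹ * (hF.xg r 1 * (b * n * u)) * u⁻¹ * n⁻¹ := by rw [h]
        _ = _ := by group
    have e2 : n * (u * hF.xg r 1 * u⁻¹) * n⁻¹ = (n * d * n⁻¹) * hF.xg s (e * 1) := by
      rw [← heq]; simp only [d, n]; group
    have e3 : b⁻¹ * hF.xg r 1 * b = (torus D F c)⁻¹ * (dB * hF.xg r 1) * torus D F c := by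
      rw [hbeq]; simp only [dB]; group
    have hr' : hF.xg s (e * 1) ∈ hF.raiseSubgroup ((hF.psi s).toNat + 1) := by
      have hs1 := ((mem_radL J).1 hsr).1
      have hs2 := ((mem_radL J).1 hsr).2.1
      have hA : ∀ q ∈ radL D J, r ≤ q → ∀ v : F,
          (torus D F c)⁻¹ * hF.xg q v * torus D F c ∈ hF.raiseSubgroup ((hF.psi s).toNat + 1) := by
        intro q hq hrq v
        have hq2 := ((mem_radL J).1 hq).2.1
        rw [show (torus D F c)⁻¹ * hF.xg q v * torus D F c = torus D F c⁻¹ * hF.xg q v * (torus D F c⁻¹)⁻¹ by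
          rw [map_inv, inv_inv], hF.torus_conj c⁻¹ hq2]
        exact hF.xg_mem_raise_succ hs2 hs1 (lt_of_lt_of_le hlt hrq) hq2 _
      have hB : ∀ g ∈ (hF.tsys F).US (aboveL D J r),
          (torus D F c)⁻¹ * g * torus D F c ∈ hF.raiseSubgroup ((hF.psi s).toNat + 1) := by
        intro g hg
        have hle : (hF.tsys F).US (aboveL D J r) ≤
            (hF.raiseSubgroup ((hF.psi s).toNat + 1)).comap (MulAut.conj (torus D F c)⁻¹).toMonoidHom := by
          refine CommSys.US_le _ fun q hq v => ?_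
          simp only [Subgroup.mem_comap, MulEquiv.coe_toMonoidHom, MulAut.conj_apply, inv_inv, tsys_x]
          exact hA q ((mem_aboveL J).1 hq).1 ((mem_aboveL J).1 hq).2.le v
        have := hle hg
        simp only [Subgroup.mem_comap, MulEquiv.coe_toMonoidHom, MulAut.conj_apply, inv_inv] at this
        exact this
      have hD : n * d * n⁻¹ ∈ hF.raiseSubgroup ((hF.psi s).toNat + 1) := by
        refine (?_ : (hF.tsys F).US (aboveL D J r) ≤ hF.raiseSubgroup ((hF.psi s).toNat + 1)) (hL d hd)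
        refine CommSys.US_le _ fun q hq v => ?_
        rw [tsys_x]
        exact hF.xg_mem_raise_succ hs2 hs1 (lt_trans hlt ((mem_aboveL J).1 hq).2)
          ((mem_radL J).1 ((mem_aboveL J).1 hq).1).2.1 v
      have hmain : (n * d * n⁻¹) * hF.xg s (e * 1) ∈ hF.raiseSubgroup ((hF.psi s).toNat + 1) := by
        rw [← e2, e1, e3, show (torus D F c)⁻¹ * (dB * hF.xg r 1) * torus D F c =
          ((torus D F c)⁻¹ * dB * torus D F c) * ((torus D F c)⁻¹ * hF.xg r 1 * torus D F c) by group]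
        exact mul_mem (hB dB hdB) (hA r hr le_rfl 1)
      exact (Subgroup.mul_mem_cancel_left _ hD).1 hmain
    have := hF.xg_eq_zero_of_mem_raise ((mem_radL J).1 hsr).2.1 ((mem_radL J).1 hsr).1 hr'
    rw [mul_one] at this
    exact left_ne_zero_of_mul_eq_one he this
  have hw : w = 1 := by
    refine hF.eq_one_of_fix_simple w fun m => ?_
    rcases hF.simple_of_radL hpair J hJ m.val m.isLt with h | ⟨r, hr, s, hs, hsum⟩
    · exact Fin.ext (hfix _ h)
    · obtain ⟨-, hr2, -⟩ := (mem_radL J).1 hr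
      obtain ⟨-, hs2, -⟩ := (mem_radL J).1 hs
      refine Fin.ext (hF.psi_inj (Fin.isLt _) (Fin.isLt _) fun k hk => ?_)
      have e1 := hF.weyl_linear w ⟨s, hs2⟩ ⟨r, hr2⟩ (hF.refSys.α m) (-1)
        (fun k hk => by rw [hsum k hk]; change _ = _ - -1 * D.cartan k (D.simple m.val); ring) k hk
      rw [hfix r hr, hfix _ hs, hsum k hk] at e1
      change D.cartan k (w • hF.refSys.α m : Fin D.nroots).val = D.cartan k (D.simple m.val)
      linarith
  subst hw
  have hn1 : n ∈ (hF.tsys F).H := (hF.tsys F).nW_one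
  rw [hF.tsys_H, hF.diagonalSubgroup_eq F] at hn1
  obtain ⟨c', hc'⟩ := hn1
  set a := torus D F (c * c') with hadef
  have hk2 : k = ub * a * u := by
    rw [hkeq, hbeq, hadef, map_mul, hc']; simp only [mul_assoc]
  have hchar : ∀ r ∈ radL D J, torChar D (c * c') r = 1 := by
    intro r hr
    obtain ⟨h1, h2, -⟩ := (mem_radL J).1 hr
    have h := hc r hr 1
    rw [hk2] at h
    have e : a * (u * hF.xg r 1 * u⁻¹) * a⁻¹ = ub⁻¹ * hF.xg r 1 * ub := by
      calc a * (u * hF.xg r 1 * u⁻¹) * a⁻¹ = ub⁻¹ * (ub * a * u * hF.xg r 1) * u⁻¹ * a⁻¹ := by group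
        _ = ub⁻¹ * (hF.xg r 1 * (ub * a * u)) * u⁻¹ * a⁻¹ := by rw [h]
        _ = _ := by group
    have hd := hF.U_conj_x hl J hU hr (1 : F)
    have hdB := hF.U_conj_x hl J (inv_mem hub) hr (1 : F)
    rw [inv_inv] at hdB
    set d := u * hF.xg r 1 * u⁻¹ * (hF.xg r 1)⁻¹
    set dB := ub⁻¹ * hF.xg r 1 * ub * (hF.xg r 1)⁻¹
    have hle := hF.above_le_raise (F := F) J hr
    have had : a * d * a⁻¹ ∈ hF.raiseSubgroup ((hF.psi r).toNat + 1) := by
      refine hle ((hF.tsys F).H_conj_US ?_ (fun q hq => ((mem_radL J).1 ((mem_aboveL J).1 hq).1).2.1) hd)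
      rw [hF.tsys_H, hF.diagonalSubgroup_eq F]
      exact ⟨_, rfl⟩
    have hx : hF.xg r ((torChar D (c * c') r : F) * 1 - 1) ∈ hF.raiseSubgroup ((hF.psi r).toNat + 1) := by
      rw [sub_eq_add_neg, hF.xg_add, hF.xg_neg, ← hF.torus_conj _ h2, ← hadef,
        show a * hF.xg r 1 * a⁻¹ * (hF.xg r 1)⁻¹ =
          (a * d * a⁻¹)⁻¹ * (a * (u * hF.xg r 1 * u⁻¹) * a⁻¹) * (hF.xg r 1)⁻¹ by simp only [d]; group,
        e, mul_assoc]
      exact mul_mem (inv_mem had) (hle hdB)
    have := hF.xg_eq_zero_of_mem_raise h2 h1 hx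
    rw [mul_one, sub_eq_zero] at this
    exact Units.ext this
  have hone : a = 1 := by
    rw [hadef, coe_torus_eq_one, hF.torChar_eq_one_iff]
    intro i
    rcases hF.simple_of_radL hpair J hJ i.val i.isLt with h | ⟨r, hr, s, hs, hsum⟩
    · exact hchar _ h
    · have e : torChar D (c * c') s = torChar D (c * c') r * torChar D (c * c') (D.simple i.val) := by
        rw [torChar, torChar, torChar, ← Finset.prod_mul_distrib]
        exact Finset.prod_congr rfl fun m _ => by rw [hsum m.val m.isLt, _root_.zpow_add]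
      rw [hchar _ hs, hchar r hr, one_mul] at e
      exact e.symm
  rw [hk2, hone, mul_one]
  exact mul_mem hub hU

include hF hl hpair hJ in
theorem parabolic_gfit_pGroup [Fintype F] (p : ℕ) [Fact p.Prime] [CharP F p] :
    IsPGroup p ↥(Cfsg.generalizedFittingSubgroup ↥(D.parabolicSubgroup F J)) := by
  have hUp : IsPGroup p ↥((hF.tsys F).U) := by
    obtain ⟨n, -, hn⟩ := FiniteField.card F p
    refine IsPGroup.of_card (n := n * (posL D).length) ?_
    rw [show (hF.tsys F).U = (hF.tsys F).US (posL D) from rfl, hF.card_US hF.closedList_posL,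
      Nat.card_eq_fintype_card, hn, pow_mul]
  rw [Cfsg.Agent.Fusion.isPGroup_gfit_iff]
  set P := D.parabolicSubgroup F J
  let Q : Subgroup ↥P := (D.unipotentRadical F J).subgroupOf P
  have hQle : D.unipotentRadical F J ≤ (hF.tsys F).U := by
    rw [hF.unipotentRadical_eq]
    exact CommSys.US_mono _ fun q hq => mem_posL.2 ⟨((mem_radL J).1 hq).1, ((mem_radL J).1 hq).2.1⟩
  have hQn : Q.Normal := Subgroup.normal_subgroupOf_of_le_normalizer (hF.parabolic_normalizes hl J)
  have hQp : IsPGroup p ↥Q := (hUp.to_le hQle).comap_subtype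
  have hQO : Q ≤ Cfsg.pCore p ↥P := Cfsg.Agent.Fusion.le_pCore hQp
  have hC : Subgroup.centralizer (Q : Set ↥P) ≤ (hF.tsys F).U.subgroupOf P := by
    intro k hk
    refine hF.centralizer_rad_le hl hpair J hJ k.2 fun r hr t => ?_
    have hx : hF.xg r t ∈ D.unipotentRadical F J := by
      rw [hF.unipotentRadical_eq]; exact CommSys.x_mem_US _ hr t
    have hxP : hF.xg r t ∈ P :=
      hF.x_mem_parabolic J (Or.inl ⟨((mem_radL J).1 hr).1, ((mem_radL J).1 hr).2.1⟩) t
    exact (congrArg Subtype.val (Subgroup.mem_centralizer_iff.1 hk ⟨hF.xg r t, hxP⟩ hx)).symm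
  refine le_trans (Subgroup.centralizer_le hQO) ?_
  haveI : (Subgroup.centralizer (Q : Set ↥P)).Normal := by
    haveI := hQn; infer_instance
  exact Cfsg.Agent.Fusion.le_pCore ((hUp.comap_subtype).to_le hC)

end Facts

end Cfsg.Agent.Lie
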