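import Mathlib

/-!
Permutations of prime order fixing a partition into blocks of equal size.
-/

set_option autoImplicit false

namespace Cfsg.Agent.Lie.PartFix

/-- the numbers of cycles that occur -/
def Reach (a b r m : ℕ) : Prop :=
  ∃ t J : ℕ, t * r ≤ b ∧ J ≤ (b - t * r) * (a / r) ∧ m = t * a + J

/-- The arithmetic. -/
theorem reach_iff (a b r : ℕ) (ha : 2 ≤ a) (hb : 2 ≤ b) (hr : 2 ≤ r) (hab : r ≤ a * b) :
    (∀ m, 1 ≤ m → m * r ≤ a * b → Reach a b r m) ↔
      (r ≤ a ∧ (a % r = 0 ∨ (b % r = 0 ∧ a % r = 1) ∨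
        (a % r ≠ 0 ∧ b % r ≠ 0 ∧ (b % r) * (a % r) < r ∧ (b < r ∨ (b % r + r) * (a % r) ≤ (b % r) * a + r)))) := by
  obtain ⟨A, hA⟩ : ∃ A, A = a / r := ⟨_, rfl⟩
  obtain ⟨K, hK⟩ : ∃ K, K = b / r := ⟨_, rfl⟩
  obtain ⟨l, hl⟩ : ∃ l, l = a % r := ⟨_, rfl⟩
  obtain ⟨k, hk⟩ : ∃ k, k = b % r := ⟨_, rfl⟩
  have hae : a = r * A + l := by rw [hA, hl]; exact (Nat.div_add_mod a r).symm
  have hbe : b = r * K + k := by rw [hK, hk]; exact (Nat.div_add_mod b r).symm
  have hlr : l < r := hl ▸ Nat.mod_lt _ (by omega)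
  have hkr : k < r := hk ▸ Nat.mod_lt _ (by omega)
  rw [← hl, ← hk]
  unfold Reach
  rw [← hA]
  -- the condition in a uniform shape
  have hcond : (r ≤ a ∧ (l = 0 ∨ (k = 0 ∧ l = 1) ∨
      (l ≠ 0 ∧ k ≠ 0 ∧ k * l < r ∧ (b < r ∨ (k + r) * l ≤ k * a + r)))) ↔
      (1 ≤ A ∧ k * l < r ∧ (K = 0 ∨ l ≤ k * A + 1)) := by
    have h1 : r ≤ a ↔ 1 ≤ A := by rw [hA]; exact (Nat.one_le_div_iff (by omega)).symm
    have h2 : b < r ↔ K = 0 := by rw [hK, Nat.div_eq_zero_iff]; omega
    have h3 : (k + r) * l ≤ k * a + r ↔ l ≤ k * A + 1 := by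
      rw [show k * a + r = k * l + r * (k * A + 1) by rw [hae]; ring, add_mul]
      rw [Nat.add_le_add_iff_left]
      exact ⟨fun h => Nat.le_of_mul_le_mul_left h (by omega), fun h => Nat.mul_le_mul_left r h⟩
    rw [h1, h2, h3]
    constructor
    · rintro ⟨hA1, h | ⟨hk0, hl1⟩ | ⟨-, -, hkl, h⟩⟩
      · subst h
        exact ⟨hA1, by omega, Or.inr (Nat.zero_le _)⟩
      · subst hk0; subst hl1
        exact ⟨hA1, by omega, Or.inr (by omega)⟩
      · exact ⟨hA1, hkl, h⟩
    · rintro ⟨hA1, hkl, h⟩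
      refine ⟨hA1, ?_⟩
      by_cases hl0 : l = 0
      · exact Or.inl hl0
      by_cases hk0 : k = 0
      · refine Or.inr (Or.inl ⟨hk0, ?_⟩)
        rcases h with h | h
        · exfalso; rw [h, hk0] at hbe; simp at hbe; omega
        · rw [hk0, zero_mul] at h; omega
      · exact Or.inr (Or.inr ⟨hl0, hk0, hkl, h⟩)
  rw [hcond]
  have hbt : ∀ t, t ≤ K → b - t * r = (K - t) * r + k := by
    intro t ht
    have h1 : t * r + (K - t) * r = r * K := by rw [← add_mul, Nat.add_sub_cancel' ht, mul_comm]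
    omega
  have htK : ∀ t, t * r ≤ b → t ≤ K := fun t ht => by rw [hK]; exact (Nat.le_div_iff_mul_le (by omega)).2 ht
  have hKb : ∀ t, t ≤ K → t * r ≤ b := fun t ht => by
    have : t * r ≤ K * r := Nat.mul_le_mul_right r ht
    rw [mul_comm K r] at this
    omega
  constructor
  · intro h
    have hA1 : 1 ≤ A := by
      obtain ⟨t, J, ht, hJ, hm⟩ := h 1 le_rfl (by omega)
      rcases Nat.eq_zero_or_pos A with h0 | h0
      · rw [h0, mul_zero] at hJ
        rcases t with _ | t
        · omega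
        · rw [Nat.succ_mul] at hm
          omega
      · exact h0
    refine ⟨hA1, ?_, ?_⟩
    · by_contra hkl
      push Not at hkl
      obtain ⟨t, J, ht, hJ, hm⟩ := h (b * A + K * l + 1) (by omega) (by rw [hae, hbe]; nlinarith)
      have htk := htK t ht
      rw [hbt t htk] at hJ
      obtain ⟨d, rfl⟩ := Nat.exists_eq_add_of_le htk
      rw [Nat.add_sub_cancel_left] at hJ
      subst hae; subst hbe
      nlinarith
    · by_contra hne
      push Not at hne
      obtain ⟨hK0, hl1⟩ := hne
      obtain ⟨K', rfl⟩ : ∃ K', K = 1 + K' := ⟨K - 1, by omega⟩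
      have h2 : 2 ≤ (1 + K') * a := le_trans ha (Nat.le_mul_of_pos_left a (by omega))
      obtain ⟨m, hm1⟩ : ∃ m, (1 + K') * a = m + 1 := ⟨(1 + K') * a - 1, by omega⟩
      obtain ⟨t, J, ht, hJ, hm⟩ := h m (by omega) (by
        have : (m + 1) * r ≤ a * b := by
          rw [← hm1, hbe, mul_comm (1 + K') a, mul_assoc]
          exact Nat.mul_le_mul_left a (by rw [mul_comm]; omega)
        exact le_trans (Nat.mul_le_mul_right r (by omega)) this)
      have htk := htK t ht
      rw [hbt t htk] at hJ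
      by_cases hlast : t = 1 + K'
      · subst hlast; omega
      obtain ⟨d, rfl⟩ := Nat.exists_eq_add_of_le (show t ≤ K' by omega)
      rw [show 1 + (t + d) - t = d + 1 by omega] at hJ
      subst hae
      nlinarith
  · rintro ⟨hA1, hkl, hgap⟩ m hm1 hmr
    by_cases hsmall : m ≤ b * A
    · exact ⟨0, m, by omega, by simpa using hsmall, by omega⟩
    push Not at hsmall
    have htop : m ≤ b * A + K * l := by
      by_contra hc
      push Not at hc
      have h1 : (b * A + K * l + 1) * r ≤ m * r := Nat.mul_le_mul_right r hc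
      subst hae; subst hbe
      nlinarith
    have ha0 : 0 < a := by omega
    obtain ⟨t, htdef⟩ : ∃ t, t = min K (m / a) := ⟨_, rfl⟩
    have ht1 : t * a ≤ m := le_trans (Nat.mul_le_mul_right a (by omega : t ≤ m / a)) (Nat.div_mul_le_self m a)
    have htk : t ≤ K := by omega
    refine ⟨t, m - t * a, hKb t htk, ?_, by omega⟩
    rw [hbt t htk]
    by_cases hcase : t = K
    · rw [hcase, Nat.sub_self, zero_mul, zero_add]
      have : b * A + K * l = K * a + k * A := by rw [hae, hbe]; ring
      omega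
    · have htm : t = m / a := by omega
      have hlt : m < (t + 1) * a := by rw [htm, mul_comm]; exact Nat.lt_mul_div_succ m ha0
      rw [Nat.succ_mul] at hlt
      have hl : l ≤ k * A + 1 := hgap.resolve_left (by omega)
      obtain ⟨d, hd⟩ : ∃ d, K - t = d + 1 := ⟨K - t - 1, by omega⟩
      rw [hd]
      have h4 : (r + k) * A ≤ ((d + 1) * r + k) * A :=
        Nat.mul_le_mul_right A (by have : r ≤ (d + 1) * r := Nat.le_mul_of_pos_left r (by omega); omega)
      rw [add_mul r k A] at h4
      omega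

/-- splitting a number -/
theorem split (A : ℕ) : ∀ u J, ∑ i ∈ Finset.range u, min A (J - i * A) = min J (u * A) := by
  intro u
  induction u with
  | zero => intro J; simp
  | succ u ih =>
    intro J
    rw [Finset.sum_range_succ, ih, Nat.succ_mul]
    omega

theorem conj_of_support {N r : ℕ} (hr : r.Prime) {σ τ : Equiv.Perm (Fin N)} (hσ : orderOf σ = r)
    (hτ : orderOf τ = r) (h : σ.support.card = τ.support.card) : IsConj σ τ := by
  rw [Equiv.Perm.isConj_iff_cycleType_eq]
  obtain ⟨n, hn⟩ := Equiv.Perm.cycleType_prime_order (σ := σ) (hσ ▸ hr)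
  obtain ⟨m, hm⟩ := Equiv.Perm.cycleType_prime_order (σ := τ) (hτ ▸ hr)
  rw [← Equiv.Perm.sum_cycleType, ← Equiv.Perm.sum_cycleType, hn, hm, Multiset.sum_replicate, Multiset.sum_replicate,
    hσ, hτ, smul_eq_mul, smul_eq_mul] at h
  rw [hn, hm, hσ, hτ, Nat.eq_of_mul_eq_mul_right hr.pos h]

theorem moved_dvd {α : Type*} [Fintype α] [DecidableEq α] {r : ℕ} [Fact r.Prime] (σ : Equiv.Perm α) (h : σ ^ r = 1) :
    r ∣ σ.support.card := by
  have h1 := Equiv.Perm.card_compl_support_modEq (p := r) (n := 1) (σ := σ) (by rwa [pow_one])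
  have h2 := Finset.card_compl σ.support
  have h3 := Finset.card_le_univ σ.support
  have := (Nat.modEq_iff_dvd' (by omega)).1 h1
  rwa [h2, show Fintype.card α - (Fintype.card α - σ.support.card) = σ.support.card by omega] at this

/-- A fixed partition gives an admissible number of cycles. -/
theorem reach_of_fixed {a b r : ℕ} (ha : 1 ≤ a) (hr : r.Prime) {N : ℕ} (σ : Equiv.Perm (Fin N)) (hσ : σ ^ r = 1)
    {m : ℕ} (hm : σ.support.card = m * r) (f : Fin N → Fin b) (hf : ∀ j : Fin b, Nat.card {x // f x = j} = a)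
    (π : Equiv.Perm (Fin b)) (hπ : ∀ x, f (σ x) = π (f x)) : Reach a b r m := by
  classical
  haveI := Fact.mk hr
  have hsurj : Function.Surjective f := fun j => by
    obtain ⟨⟨x, hx⟩⟩ : Nonempty {x // f x = j} := (Nat.card_pos_iff.1 (by rw [hf]; omega)).1
    exact ⟨x, hx⟩
  have hiter : ∀ i : ℕ, ∀ x, f ((σ ^ i) x) = (π ^ i) (f x) := by
    intro i
    induction i with
    | zero => intro x; rfl
    | succ i ih => intro x; rw [pow_succ', pow_succ', Equiv.Perm.mul_apply, Equiv.Perm.mul_apply, hπ, ih]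
  have hπr : π ^ r = 1 := Equiv.ext fun j => by
    obtain ⟨x, rfl⟩ := hsurj j
    rw [← hiter, hσ]; rfl
  obtain ⟨t, ht⟩ := moved_dvd π hπr
  let c : Fin b → ℕ := fun j => (σ.support.filter fun x => f x = j).card
  have hcard : ∀ j : Fin b, (Finset.univ.filter fun x => f x = j).card = a := fun j => by
    rw [← hf j, Nat.card_eq_fintype_card, Fintype.card_subtype]
  have hsum : σ.support.card = ∑ j, c j :=
    Finset.card_eq_sum_card_fiberwise (fun x _ => Finset.mem_univ _)
  have hmoved : ∀ j ∈ π.support, c j = a := by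
    intro j hj
    rw [← hcard j]
    refine congrArg Finset.card (Finset.ext fun x => ?_)
    simp only [Finset.mem_filter, Finset.mem_univ, true_and, Equiv.Perm.mem_support]
    refine ⟨fun h => h.2, fun h => ⟨fun e => ?_, h⟩⟩
    have := hπ x
    rw [e, h] at this
    exact Equiv.Perm.mem_support.1 hj this.symm
  have hfixed : ∀ j ∉ π.support, ∃ q, q ≤ a / r ∧ c j = q * r := by
    intro j hj
    have hj' : π j = j := Equiv.Perm.notMem_support.1 hj
    have hinv : ∀ x, f x = j ↔ f (σ x) = j := fun x => by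
      rw [hπ]
      refine ⟨fun h => by rw [h, hj'], fun h => π.injective (h.trans hj'.symm)⟩
    let ρ := σ.subtypePerm (p := fun x => f x = j) fun x => (hinv x).symm
    have hρ : ρ ^ r = 1 := by
      refine Equiv.ext fun x => Subtype.ext ?_
      rw [Equiv.Perm.subtypePerm_pow]
      show (σ ^ r) (x : Fin N) = x
      rw [hσ]; rfl
    have hρc : ρ.support.card = c j := by
      refine Finset.card_bij (fun x _ => (x : Fin N)) (fun x hx => ?_) (fun x _ y _ h => Subtype.ext h) fun x hx => ?_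
      · rw [Finset.mem_filter, Equiv.Perm.mem_support]
        exact ⟨fun e => Equiv.Perm.mem_support.1 hx (Subtype.ext e), x.2⟩
      · rw [Finset.mem_filter, Equiv.Perm.mem_support] at hx
        exact ⟨⟨x, hx.2⟩, Equiv.Perm.mem_support.2 fun e => hx.1 (congrArg Subtype.val e), rfl⟩
    obtain ⟨q, hq⟩ := moved_dvd ρ hρ
    have hle : c j ≤ a := hcard j ▸ Finset.card_le_card (fun x hx => by simp only [Finset.mem_filter] at hx ⊢; exact ⟨Finset.mem_univ _, hx.2⟩)
    refine ⟨q, (Nat.le_div_iff_mul_le hr.pos).2 ?_, ?_⟩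
    · rw [mul_comm, ← hq, hρc]; exact hle
    · rw [← hρc, hq, mul_comm]
  choose! q hqle hqc using hfixed
  refine ⟨t, ∑ j ∈ π.supportᶜ, q j, ?_, ?_, ?_⟩
  · rw [mul_comm, ← ht]; exact le_trans (Finset.card_le_univ _) (by simp)
  · refine le_trans (Finset.sum_le_card_nsmul _ _ (a / r) fun j hj => hqle j (Finset.mem_compl.1 hj)) ?_
    rw [Finset.card_compl, Fintype.card_fin, smul_eq_mul, ht, mul_comm r t]
  · refine Nat.eq_of_mul_eq_mul_right hr.pos ?_
    rw [← hm, hsum, ← Finset.sum_add_sum_compl π.support, Finset.sum_congr rfl hmoved, Finset.sum_const, smul_eq_mul,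
      ht, add_mul, Finset.sum_mul]
    refine congrArg₂ (· + ·) (by ring) (Finset.sum_congr rfl fun j hj => hqc j (Finset.mem_compl.1 hj))

/-- The shift on `ι × ZMod r`. -/
def shift (ι : Type*) (r : ℕ) : Equiv.Perm (ι × ZMod r) := Equiv.prodCongr (Equiv.refl ι) (Equiv.addRight 1)

theorem shift_pow {ι : Type*} (r n : ℕ) (x : ι × ZMod r) : ((shift ι r) ^ n) x = (x.1, x.2 + n) := by
  induction n with
  | zero => simp
  | succ n ih =>
    rw [pow_succ', Equiv.Perm.mul_apply, ih, Nat.cast_succ]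
    exact Prod.ext rfl (add_assoc _ _ _)

/-- A permutation on a finite type transported to `Fin N`. -/
theorem transport {X : Type} [Fintype X] [DecidableEq X] {r N m : ℕ} (hr : r.Prime) (hm : 1 ≤ m) (hN : Fintype.card X = N)
    (τ : Equiv.Perm X) (hτ : τ ^ r = 1) (hs : τ.support.card = m * r) :
    ∃ (e : X ≃ Fin N), orderOf (e.permCongr τ) = r ∧ (e.permCongr τ).support.card = m * r := by
  haveI := Fact.mk hr
  refine ⟨(Fintype.equivFin X).trans (finCongr hN), ?_, ?_⟩
  · refine orderOf_eq_prime ?_ ?_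
    · rw [← Equiv.permCongrHom_coe, ← map_pow, hτ, map_one]
    · intro h
      rw [← Equiv.permCongrHom_coe] at h
      replace h := (map_eq_one_iff _ (MulEquiv.injective _)).1 h
      rw [h, Equiv.Perm.support_one, Finset.card_empty] at hs
      exact absurd hs.symm (Nat.mul_ne_zero (by omega) hr.ne_zero)
  · rw [← hs]
    set e := (Fintype.equivFin X).trans (finCongr hN)
    rw [← Finset.card_map e.toEmbedding (s := τ.support)]
    refine congrArg Finset.card (Finset.ext fun y => ?_)
    rw [Finset.mem_map, Equiv.Perm.mem_support]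
    constructor
    · intro h
      refine ⟨e.symm y, Equiv.Perm.mem_support.2 fun h' => h ?_, e.apply_symm_apply y⟩
      rw [Equiv.permCongr_apply, h', e.apply_symm_apply]
    · rintro ⟨x, hx, rfl⟩ h
      rw [Equiv.permCongr_apply] at h
      simp only [Equiv.coe_toEmbedding, e.symm_apply_apply] at h
      exact Equiv.Perm.mem_support.1 hx (e.injective h)

theorem card_support_sumCongr {X Y : Type*} [Fintype X] [DecidableEq X] [Fintype Y] [DecidableEq Y]
    (σ : Equiv.Perm X) (τ : Equiv.Perm Y) : (Equiv.Perm.sumCongr σ τ).support.card = σ.support.card + τ.support.card := by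
  rw [← Finset.card_disjSum]
  refine congrArg Finset.card (Finset.ext fun x => ?_)
  rcases x with x | x <;> simp [Equiv.Perm.mem_support, Finset.mem_disjSum]

theorem shift_support {ι : Type*} [Fintype ι] [DecidableEq ι] {r : ℕ} [Fact r.Prime] :
    (shift ι r).support.card = Fintype.card ι * r := by
  have : (shift ι r).support = Finset.univ := Finset.eq_univ_of_forall fun x => by
    rw [Equiv.Perm.mem_support]
    intro h
    have := congrArg Prod.snd h
    simp [shift] at this
  rw [this, Finset.card_univ, Fintype.card_prod, ZMod.card]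

theorem shift_pow_self {ι : Type*} (r : ℕ) : (shift ι r) ^ r = 1 := Equiv.ext fun x => by
  rw [shift_pow, ZMod.natCast_self, add_zero]; rfl

theorem sumCongr_pow {X Y : Type*} (σ : Equiv.Perm X) (τ : Equiv.Perm Y) (n : ℕ) :
    (Equiv.Perm.sumCongr σ τ : Equiv.Perm (X ⊕ Y)) ^ n = Equiv.Perm.sumCongr (σ ^ n) (τ ^ n) := by
  induction n with
  | zero => exact Equiv.ext fun x => by rcases x with x | x <;> rfl
  | succ n ih =>
    rw [pow_succ', pow_succ', pow_succ', ih]
    exact Equiv.ext fun x => by rcases x with x | x <;> rfl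

/-- A permutation of order `r` with a given number of cycles. -/
theorem exists_perm {r N m : ℕ} (hr : r.Prime) (hm : 1 ≤ m) (h : m * r ≤ N) :
    ∃ σ : Equiv.Perm (Fin N), orderOf σ = r ∧ σ.support.card = m * r := by
  haveI := Fact.mk hr
  obtain ⟨e, he⟩ := transport (X := (Fin m × ZMod r) ⊕ Fin (N - m * r)) (N := N) hr hm
    (by simp [ZMod.card]; omega) (Equiv.Perm.sumCongr (shift (Fin m) r) 1)
    (by rw [sumCongr_pow, shift_pow_self, one_pow]; exact Equiv.ext fun x => by rcases x with x | x <;> rfl)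
    (by rw [card_support_sumCongr, shift_support, Equiv.Perm.support_one]; simp)
  exact ⟨_, he⟩

/-- An admissible number of cycles gives a fixed partition. -/
theorem fixed_of_reach {a b r : ℕ} (hr : r.Prime) (σ : Equiv.Perm (Fin (a * b))) (hσ : orderOf σ = r)
    {m : ℕ} (hm1 : 1 ≤ m) (hm : σ.support.card = m * r) (hR : Reach a b r m) :
    ∃ f : Fin (a * b) → Fin b, (∀ j : Fin b, Nat.card {x : Fin (a * b) // f x = j} = a) ∧
      ∃ π : Equiv.Perm (Fin b), ∀ x : Fin (a * b), f (σ x) = π (f x) := by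
  classical
  haveI := Fact.mk hr
  obtain ⟨t, J, ht, hJ, hmJ⟩ := hR
  obtain ⟨u, hu⟩ : ∃ u, u = b - t * r := ⟨_, rfl⟩
  rw [← hu] at hJ
  let c : Fin u → ℕ := fun i => min (a / r) (J - i.val * (a / r))
  have hc : ∀ i, c i * r ≤ a := fun i =>
    le_trans (Nat.mul_le_mul_right r (min_le_left _ _)) (Nat.div_mul_le_self a r)
  have hcsum : ∑ i, c i = J := by
    rw [Fin.sum_univ_eq_sum_range (fun i => min (a / r) (J - i * (a / r))), split, min_eq_left hJ]
  let Z : Fin u → Type := fun i => (Fin (c i) × ZMod r) ⊕ Fin (a - c i * r)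
  let Y := ((Fin t × Fin a) × ZMod r) ⊕ (Σ i : Fin u, Z i)
  let B := (Fin t × ZMod r) ⊕ Fin u
  let τZ : Equiv.Perm (Σ i : Fin u, Z i) := Equiv.sigmaCongrRight fun i => Equiv.Perm.sumCongr (shift (Fin (c i)) r) 1
  let τ : Equiv.Perm Y := Equiv.Perm.sumCongr (shift (Fin t × Fin a) r) τZ
  let g : Y → B := Sum.elim (fun x => Sum.inl (x.1.1, x.2)) (fun z => Sum.inr z.1)
  let π : Equiv.Perm B := Equiv.Perm.sumCongr (shift (Fin t) r) 1
  have hg : ∀ y, g (τ y) = π (g y) := by rintro (x | z) <;> rfl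
  have hZc : ∀ i, Fintype.card (Z i) = a := fun i => by
    simp only [Z, Fintype.card_sum, Fintype.card_prod, Fintype.card_fin, ZMod.card]
    have := hc i; omega
  have hYc : Fintype.card Y = a * b := by
    simp only [Y, Fintype.card_sum, Fintype.card_prod, Fintype.card_fin, ZMod.card, Fintype.card_sigma, hZc,
      Finset.sum_const, Finset.card_univ, smul_eq_mul]
    have e : b = t * r + u := by omega
    rw [e]; ring
  have hBc : Fintype.card B = b := by
    simp only [B, Fintype.card_sum, Fintype.card_prod, Fintype.card_fin, ZMod.card]; omega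
  have hfib : ∀ j : B, Nat.card {y : Y // g y = j} = a := by
    rintro (⟨i, z⟩ | i)
    · refine (Nat.card_congr (α := {y : Y // g y = Sum.inl (i, z)}) (β := Fin a)
        { toFun := fun y => match y with
            | ⟨Sum.inl x, _⟩ => x.1.2
            | ⟨Sum.inr x, h⟩ => absurd h (by simp [g])
          invFun := fun k => ⟨Sum.inl ((i, k), z), rfl⟩
          left_inv := ?_
          right_inv := fun k => rfl }).trans (by rw [Nat.card_eq_fintype_card, Fintype.card_fin])
      rintro ⟨x | x, h⟩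
      · obtain ⟨⟨x1, x2⟩, x3⟩ := x
        obtain ⟨rfl, rfl⟩ := Prod.mk.injEq _ _ _ _ ▸ Sum.inl.inj h
        rfl
      · simp [g] at h
    · refine (Nat.card_congr (α := {y : Y // g y = Sum.inr i}) (β := Z i)
        { toFun := fun y => match y with
            | ⟨Sum.inl x, h⟩ => absurd h (by simp [g])
            | ⟨Sum.inr ⟨i', z⟩, h⟩ => (Sum.inr.inj h : i' = i) ▸ z
          invFun := fun z => ⟨Sum.inr ⟨i, z⟩, rfl⟩
          left_inv := ?_
          right_inv := fun k => rfl }).trans (by rw [Nat.card_eq_fintype_card, hZc])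
      rintro ⟨x | ⟨i', x⟩, h⟩
      · simp [g] at h
      · obtain rfl : i' = i := Sum.inr.inj h
        rfl
  have hsupp : τ.support.card = m * r := by
    rw [card_support_sumCongr, shift_support, Fintype.card_prod, Fintype.card_fin, Fintype.card_fin]
    have e : τZ.support.card = ∑ i, c i * r := by
      rw [show τZ.support = Finset.univ.sigma fun i => (Equiv.Perm.sumCongr (shift (Fin (c i)) r) (1 : Equiv.Perm (Fin (a - c i * r)))).support by
        ext ⟨i, z⟩
        simp [τZ, Equiv.Perm.mem_support, Sigma.ext_iff]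
        rcases z with z | z <;> rfl, Finset.card_sigma]
      refine Finset.sum_congr rfl fun i _ => ?_
      rw [card_support_sumCongr, shift_support, Equiv.Perm.support_one]
      simp
    rw [e, ← Finset.sum_mul, hcsum, hmJ, add_mul]
  have hτr : τ ^ r = 1 := by
    have hZ : ∀ n : ℕ, ∀ z : (Σ i : Fin u, Z i),
        (τZ ^ n) z = ⟨z.1, ((Equiv.Perm.sumCongr (shift (Fin (c z.1)) r) 1 : Equiv.Perm (Z z.1)) ^ n) z.2⟩ := by
      intro n
      induction n with
      | zero => intro z; rfl
      | succ n ih => intro z; rw [pow_succ', pow_succ', Equiv.Perm.mul_apply, ih]; rfl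
    rw [sumCongr_pow, shift_pow_self]
    refine Equiv.ext fun y => ?_
    rcases y with y | y
    · rfl
    · show Sum.inr ((τZ ^ r) y) = Sum.inr y
      rw [hZ, sumCongr_pow, shift_pow_self, one_pow]
      obtain ⟨i, z⟩ := y
      rcases z with z | z <;> rfl
  obtain ⟨e, he1, he2⟩ := transport hr hm1 hYc τ hτr hsupp
  obtain ⟨w, hw⟩ := isConj_iff.1 (conj_of_support hr hσ he1 (hm.trans he2.symm))
  let eB : B ≃ Fin b := (Fintype.equivFin B).trans (finCongr hBc)
  let d : Fin (a * b) ≃ Y := w.trans e.symm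
  refine ⟨fun x => eB (g (d x)), fun j => ?_, eB.permCongr π, fun x => ?_⟩
  · refine Eq.trans (Nat.card_congr (Equiv.subtypeEquiv d fun x => ?_)) (hfib (eB.symm j))
    rw [Equiv.eq_symm_apply]
  · have h1 : w (σ x) = e (τ (e.symm (w x))) := by
      rw [← Equiv.permCongr_apply, ← hw]
      simp [Equiv.Perm.mul_apply]
    rw [Equiv.permCongr_apply, eB.symm_apply_apply, ← hg]
    show eB (g (e.symm (w (σ x)))) = _
    rw [h1, e.symm_apply_apply]
    rfl

theorem main (a b : ℕ) (ha : 2 ≤ a) (hb : 2 ≤ b) (r : ℕ) (hr : r.Prime)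
    (hrd : r ∣ (a * b).factorial / (a.factorial ^ b * b.factorial)) :
    (∀ σ : Equiv.Perm (Fin (a * b)), orderOf σ = r →
        ∃ f : Fin (a * b) → Fin b, (∀ j : Fin b, Nat.card {x : Fin (a * b) // f x = j} = a) ∧
          ∃ π : Equiv.Perm (Fin b), ∀ x : Fin (a * b), f (σ x) = π (f x)) ↔
      (r ≤ a ∧ (a % r = 0 ∨ (b % r = 0 ∧ a % r = 1) ∨
        (a % r ≠ 0 ∧ b % r ≠ 0 ∧ (b % r) * (a % r) < r ∧ (b < r ∨ (b % r + r) * (a % r) ≤ (b % r) * a + r)))) := by
  have hab : r ≤ a * b := by
    rw [mul_comm a b, ← Nat.uniformBell_eq_div b (by omega)] at hrd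
    refine hr.dvd_factorial.1 ?_
    rw [mul_comm a b, ← Nat.uniformBell_mul_eq b (by omega : a ≠ 0)]
    exact Dvd.dvd.mul_right (Dvd.dvd.mul_right hrd _) _
  rw [← reach_iff a b r ha hb hr.two_le hab]
  haveI := Fact.mk hr
  constructor
  · intro h m hm1 hmr
    obtain ⟨σ, hσ, hs⟩ := exists_perm (N := a * b) hr hm1 hmr
    obtain ⟨f, hf, π, hπ⟩ := h σ hσ
    exact reach_of_fixed (by omega) hr σ (hσ ▸ pow_orderOf_eq_one σ) hs f hf π hπ
  · intro h σ hσ
    obtain ⟨n, hn⟩ := Equiv.Perm.cycleType_prime_order (σ := σ) (hσ ▸ hr)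
    have hs : σ.support.card = (n + 1) * r := by
      rw [← Equiv.Perm.sum_cycleType, hn, hσ, Multiset.sum_replicate, smul_eq_mul]
    refine fixed_of_reach hr σ hσ (by omega) hs (h _ (by omega) ?_)
    rw [← hs]
    exact le_trans (Finset.card_le_univ _) (by simp)

end Cfsg.Agent.Lie.PartFix
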