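import Cfsg.Agent.Lib.Lie.CoverTable
import Cfsg.Agent.Lib.Lie.CoverUniversal
import Cfsg.Agent.Lib.Lie.PermNine

/-!
Groups of permutations of at most 512 points with elements given by words in generators and codes by the images
of a base: their tables, coset lists and bounds, as needed for stem extensions.
-/

set_option autoImplicit false
set_option maxRecDepth 10000

namespace Cfsg.Agent.Lie.PermCover

open Cfsg.Agent.Lie PermNine
open Cfsg.Agent.Lie.CentralLocal (ev)
open scoped commutatorElement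

/-- A permutation, its inverse, and a word in the generators. -/
abbrev Elem : Type := ℕ × ℕ × List ℕ

/-- The image of a point under a word in packed permutations. -/
def imgP (gs : List ℕ) (w : List ℕ) (k : ℕ) : ℕ := w.foldr (fun s j => pg (gs.getD s 0) j) k

/-- The image of a point under a word in elements. -/
def imgW (gs : List Elem) (w : List ℕ) (k : ℕ) : ℕ := w.foldr (fun s j => pg (gs.getD s (0, 0, [])).1 j) k

/-- Packing of images. -/
def packL (l : List ℕ) : ℕ := l.foldr (fun a m => m * 512 + a) 0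

/-- An element as it is claimed. -/
def elemOK (n : ℕ) (base : List ℕ) (e : Elem) : Bool :=
  (e.2.2.all fun s => Nat.blt s base.length) && (List.range n).all fun k =>
    Nat.beq (pg e.1 k) (imgP base e.2.2 k) && (Nat.blt (pg e.2.1 k) n && Nat.beq (pg e.1 (pg e.2.1 k)) k)

/-- The action of a generator on codes. -/
def actB (B : List ℕ) (gs : List Elem) (s m : ℕ) : ℕ :=
  packL ((List.range B.length).map fun j => pg (gs.getD s (0, 0, [])).2.1 (pg m j))

theorem packL_inj : ∀ a b : List ℕ, a.length = b.length → (∀ x ∈ a, x < 512) → (∀ x ∈ b, x < 512) →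
    packL a = packL b → a = b
  | [], [], _, _, _, _ => rfl
  | [], _ :: _, h, _, _, _ => by simp at h
  | _ :: _, [], h, _, _, _ => by simp at h
  | x :: a, y :: b, h, ha, hb, e => by
    simp only [List.mem_cons, forall_eq_or_imp] at ha hb
    have hx := ha.1
    have hy := hb.1
    have e' : packL a * 512 + x = packL b * 512 + y := e
    have h1 : x = y := by omega
    subst h1
    rw [packL_inj a b (by simpa using h) ha.2 hb.2 (by omega)]

theorem pg_packL : ∀ (l : List ℕ), (∀ x ∈ l, x < 512) → ∀ j < l.length, pg (packL l) j = l.getD j 0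
  | [], _, j, hj => absurd hj (Nat.not_lt_zero j)
  | x :: l, h, j, hj => by
    simp only [List.mem_cons, forall_eq_or_imp] at h
    have hx := h.1
    show pg (packL l * 512 + x) j = _
    cases j with
    | zero =>
      rw [pg, Nat.mul_zero, Nat.shiftRight_zero, List.getD_cons_zero]
      omega
    | succ j =>
      rw [pg, show 9 * (j + 1) = 9 + 9 * j by ring, Nat.shiftRight_add,
        show (packL l * 512 + x) >>> 9 = packL l by rw [Nat.shiftRight_eq_div_pow]; omega,
        List.getD_cons_succ]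
      exact pg_packL l h.2 j (by simpa using hj)

/-- A group read in packed permutations. -/
structure Model (G : Type*) [Group G] (n : ℕ) where
  n_le : n ≤ 512
  /-- the permutations -/
  φ : G →* Equiv.Perm (Fin n)
  inj : Function.Injective φ
  /-- packed generators -/
  base : List ℕ
  base_rep : ∀ p ∈ base, ∃ g, Rep φ g p
  /-- points with trivial stabiliser -/
  B : List (Fin n)
  B_fix : ∀ g, (∀ b ∈ B, φ g b = b) → g = 1

variable {G : Type*} [Group G] {n : ℕ} (M : Model G n)

include M in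
theorem Model.finite : Finite G := Finite.of_injective _ M.inj

theorem Model.ext {g h : G} (e : ∀ b ∈ M.B, (M.φ g b : ℕ) = (M.φ h b : ℕ)) : g = h := by
  refine (inv_mul_eq_one.1 (M.B_fix (h⁻¹ * g) fun b hb => ?_)).symm
  rw [map_mul, Equiv.Perm.mul_apply, Fin.ext (e b hb), ← Equiv.Perm.mul_apply, ← map_mul, inv_mul_cancel,
    map_one]
  rfl

/-- The code of an element. -/
def Model.code (g : G) : ℕ := packL (M.B.map fun b => (M.φ g⁻¹ b : ℕ))

theorem Model.code_lt (g : G) : ∀ x ∈ M.B.map (fun b => (M.φ g b : ℕ)), x < 512 := by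
  intro x hx
  obtain ⟨b, -, rfl⟩ := List.mem_map.1 hx
  exact lt_of_lt_of_le (M.φ g b).2 M.n_le

theorem Model.code_inj {g h : G} (e : M.code g = M.code h) : g = h := by
  have e' := packL_inj _ _ (by simp) (M.code_lt g⁻¹) (M.code_lt h⁻¹) e
  refine inv_injective (M.ext fun b hb => ?_)
  exact List.map_inj_left.1 e' b hb

theorem Model.code_one : M.code 1 = packL (M.B.map Fin.val) := by
  refine congrArg packL (List.map_congr_left fun b _ => ?_)
  rw [inv_one, map_one]
  rfl

theorem Model.exists_word : ∀ w : List ℕ, (∀ s ∈ w, s < M.base.length) →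
    ∃ g, ∀ k : Fin n, (M.φ g k : ℕ) = imgP M.base w k
  | [], _ => ⟨1, fun k => by rw [map_one]; rfl⟩
  | s :: w, h => by
    simp only [List.mem_cons, forall_eq_or_imp] at h
    obtain ⟨g, hg⟩ := Model.exists_word w h.2
    obtain ⟨u, hu⟩ := M.base_rep (M.base.getD s 0) (by
      rw [List.getD_eq_getElem _ _ h.1]; exact List.getElem_mem _)
    exact ⟨u * g, fun k => by rw [map_mul, Equiv.Perm.mul_apply, hu, hg]; rfl⟩

open Classical in
/-- The element with a packed permutation. -/
noncomputable def Model.elem (v : ℕ) : G := if h : ∃ g, Rep M.φ g v then h.choose else 1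

theorem Model.elem_rep {v : ℕ} (h : ∃ g, Rep M.φ g v) : Rep M.φ (M.elem v) v := by
  rw [Model.elem, dif_pos h]
  exact h.choose_spec

theorem Model.rep_unique {g h : G} {v : ℕ} (hg : Rep M.φ g v) (hh : Rep M.φ h v) : g = h :=
  M.inj (Equiv.ext fun k => Fin.ext ((hg k).trans (hh k).symm))

theorem Model.elem_spec {e : Elem} (h : elemOK n M.base e = true) :
    Rep M.φ (M.elem e.1) e.1 ∧ Rep M.φ (M.elem e.1)⁻¹ e.2.1 := by
  simp only [elemOK, Bool.and_eq_true, List.all_eq_true, Nat.blt_eq, List.mem_range, Nat.beq_eq] at h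
  obtain ⟨hw, hk⟩ := h
  obtain ⟨g, hg⟩ := M.exists_word e.2.2 hw
  have h1 : Rep M.φ g e.1 := fun k => (hg k).trans (hk k k.2).1.symm
  rw [M.rep_unique (M.elem_rep ⟨g, h1⟩) h1]
  refine ⟨h1, fun k => ?_⟩
  obtain ⟨-, hlt, hinv⟩ := hk k k.2
  have e1 : M.φ g ⟨pg e.2.1 k, hlt⟩ = k := Fin.ext ((h1 _).trans hinv)
  rw [map_inv, show (M.φ g)⁻¹ k = ⟨pg e.2.1 k, hlt⟩ from Equiv.Perm.inv_eq_iff_eq.2 e1.symm]

/-- The data of a table. -/
noncomputable def Model.data (C : CentralLocal.Cert) (gs : List Elem) (hgs : gs.all (elemOK n M.base) = true)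
    (hk : C.k = gs.length) (hact : C.act = actB (M.B.map Fin.val) gs) (hone : C.one = packL (M.B.map Fin.val))
    (hv : C.Valid) (ord : Janko.Tree ℕ) (hord : ∀ k < C.N, C.ordCheck ord k = true) :
    CentralBound.Data C G where
  gen s := M.elem (gs.getD s (0, 0, [])).1
  code := M.code
  code_step g s hs := by
    obtain ⟨-, hi⟩ := M.elem_spec (List.all_eq_true.1 hgs (gs.getD s (0, 0, [])) (by
      rw [List.getD_eq_getElem _ _ (hk ▸ hs)]; exact List.getElem_mem _))
    rw [hact, Model.code, actB]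
    refine congrArg packL (List.ext_getElem (by simp) fun j h1 h2 => ?_)
    have hj : j < M.B.length := by simpa using h2
    simp only [List.getElem_map, List.getElem_range, Model.code]
    rw [pg_packL _ (M.code_lt g⁻¹) j (by simpa using hj),
      List.getD_eq_getElem _ 0 (n := j) (by simpa using hj)]
    simp only [List.getElem_map, mul_inv_rev, map_mul, Equiv.Perm.mul_apply]
    exact hi _
  code_one := by rw [M.code_one, hone]
  code_inj _ _ := M.code_inj
  valid := hv
  ord := ord
  ord_ok := hord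

theorem Model.word_apply {gs : List Elem} (hgs : gs.all (elemOK n M.base) = true) :
    ∀ (w : List ℕ), (∀ s ∈ w, s < gs.length) → ∀ k : Fin n,
      (M.φ (ev (fun s => M.elem (gs.getD s (0, 0, [])).1) w) k : ℕ) = imgW gs w k
  | [], _, k => by simp [ev, imgW]
  | s :: w, hw, k => by
    simp only [List.mem_cons, forall_eq_or_imp] at hw
    obtain ⟨h1, -⟩ := M.elem_spec (List.all_eq_true.1 hgs (gs.getD s (0, 0, [])) (by
      rw [List.getD_eq_getElem _ _ hw.1]; exact List.getElem_mem _))
    rw [CentralLocal.ev_cons, map_mul, Equiv.Perm.mul_apply, h1, Model.word_apply hgs w hw.2]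
    rfl

/-- A pair of commuting words, the conjugate one and the conjugating element. -/
abbrev Spec : Type := (List ℕ × List ℕ × List ℕ × List ℕ) × Elem

/-- The relation of a specification. -/
def extOf (e : Spec) : List ℕ × List ℕ × List ℕ × List ℕ :=
  (e.1.1 ++ e.1.2.1, e.1.2.1 ++ e.1.1, e.1.2.2.1 ++ e.1.2.2.2, e.1.2.2.2 ++ e.1.2.2.1)

/-- A conjugation is as claimed at the listed points. -/
def conjOK (B : List ℕ) (gs : List Elem) (h : ℕ) (a c : List ℕ) : Bool :=
  B.all fun k => Nat.beq (pg h (imgW gs a k)) (imgW gs c (pg h k))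

/-- A specification is as claimed. -/
def specOK (n : ℕ) (base B : List ℕ) (C : CentralLocal.Cert) (gs : List Elem) (e : Spec) : Bool :=
  C.extOK (extOf e) && ((elemOK n base e.2 && ((C.letters e.1.1 && C.letters e.1.2.1) &&
    (C.letters e.1.2.2.1 && C.letters e.1.2.2.2))) &&
    (conjOK B gs e.2.1 e.1.1 e.1.2.2.1 && conjOK B gs e.2.1 e.1.2.1 e.1.2.2.2))

theorem Model.ext_holds {C : CentralLocal.Cert} {gs : List Elem} (hgs : gs.all (elemOK n M.base) = true)
    (hk : C.k = gs.length) {e : Spec} (he : specOK n M.base (M.B.map Fin.val) C gs e = true) {Γ : Type*}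
    [Group Γ] (S : CentralLocal.Setup C Γ G) (hsurj : Function.Surjective S.σ)
    (hx : ∀ s, S.σ (S.x s) = M.elem (gs.getD s (0, 0, [])).1) : S.ExtHolds (extOf e) := by
  simp only [specOK, Bool.and_eq_true] at he
  obtain ⟨hok, ⟨hmem, ⟨la, lb⟩, lc, ld⟩, h1, h2⟩ := he
  have hconj : ∀ a c, C.letters a = true → C.letters c = true →
      conjOK (M.B.map Fin.val) gs e.2.1 a c = true →
      M.elem e.2.1 * S.σ (ev S.x a) = S.σ (ev S.x c) * M.elem e.2.1 := by
    intro a c ha hc h
    have hl : ∀ w, C.letters w = true → ∀ s ∈ w, s < gs.length := fun w hw s hs =>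
      hk ▸ Nat.blt_eq.mp (List.all_eq_true.1 hw s hs)
    refine M.ext fun b hb => ?_
    simp only [conjOK, List.all_eq_true, List.mem_map, Nat.beq_eq, forall_exists_index, and_imp,
      forall_apply_eq_imp_iff₂] at h
    rw [CentralLocal.map_ev, CentralLocal.map_ev]
    simp only [hx]
    rw [map_mul, map_mul, Equiv.Perm.mul_apply, Equiv.Perm.mul_apply, (M.elem_spec hmem).1 _,
      M.word_apply hgs c (hl c hc), (M.elem_spec hmem).1 _, M.word_apply hgs a (hl a ha)]
    exact h b hb
  exact S.ext_comm hok _ (hsurj _) (hconj _ _ la lc h1) (hconj _ _ lb ld h2)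

universe u

/-- The bound of the part of a stem kernel from a table. -/
theorem Model.part_le {G : Type u} [Group G] {n : ℕ} (M : Model G n) (C : CentralLocal.Cert) (gs : List Elem)
    (hgs : gs.all (elemOK n M.base) = true) (hk : C.k = gs.length) (hact : C.act = actB (M.B.map Fin.val) gs)
    (hone : C.one = packL (M.B.map Fin.val)) (hv : C.Valid) (ord : Janko.Tree ℕ)
    (hord : ∀ k < C.N, C.ordCheck ord k = true) (specs : List Spec)
    (hspecs : specs.all (specOK n M.base (M.B.map Fin.val) C gs) = true) {q e : ℕ} (T : CentralBound.Lat)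
    (hT : CentralBound.latOK C (specs.map extOf) (q ^ e) T = true) (hq : q.Prime)
    {m : ℕ} (hG : Nat.card G = q ^ e * m) (hm : ¬ q ∣ m) (hN : ¬ q ∣ Nat.card G / C.N)
    {Γ : Type u} [Group Γ] [Finite Γ] {σ : Γ →* G} (hσ : Cfsg.IsStemExtension σ) :
    q ^ (Nat.card σ.ker).factorization q ≤ T.ord.prod := by
  haveI := M.finite
  refine CoverUniversal.part_le hq hG hm (fun Δ _ _ τ hτ hexp => ?_) hσ
  refine CentralBound.card_ker_le (M.data C gs hgs hk hact hone hv ord hord) hτ hq hexp hN _ T hT ?_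
  intro hq0 x hx r hr
  obtain ⟨s, hs, rfl⟩ := List.mem_map.1 hr
  refine M.ext_holds hgs hk (List.all_eq_true.1 hspecs s hs) _ (fun g => ?_) hx
  obtain ⟨y, rfl⟩ := hτ.1 g
  exact ⟨(y, 1), rfl⟩

/-- A list of coset representatives along a tree. -/
def treeT (n : ℕ) (xs : List Elem) (T par : Janko.Tree ℕ) (j : ℕ) : Bool :=
  bif Nat.beq j 0 then (List.range n).all (fun k => Nat.beq (pg (T.get 0) k) k) else
    (Nat.blt (par.get j / 16) j && (Nat.blt (par.get j % 16) xs.length && (List.range n).all fun k =>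
      Nat.beq (pg (xs.getD (par.get j % 16) (0, 0, [])).1 (pg (T.get (par.get j / 16)) k)) (pg (T.get j) k)))

/-- The action of an element on the listed cosets is as claimed. -/
def movesOK (B : List ℕ) (C : CentralLocal.Cert) (gs : List Elem) (T : Janko.Tree ℕ) (N v : ℕ)
    (mv : Janko.Tree ℕ) (j : ℕ) : Bool :=
  Nat.blt (mv.get j / 4096) N && (Nat.blt (mv.get j % 4096) C.N && B.all fun k =>
    Nat.beq (pg v (pg (T.get j) k)) (pg (T.get (mv.get j / 4096)) (imgW gs (C.wd (mv.get j % 4096)) k)))

theorem Model.exists_T {xs : List Elem} (hxs : xs.all (elemOK n M.base) = true) {T par : Janko.Tree ℕ} {N : ℕ}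
    (h : ∀ j < N, treeT n xs T par j = true) : ∀ j < N, ∃ g, Rep M.φ g (T.get j) := by
  intro j
  induction j using Nat.strong_induction_on with
  | _ j ih =>
    intro hj
    have hh := h j hj
    unfold treeT at hh
    rcases Nat.eq_zero_or_pos j with rfl | h0
    · rw [show Nat.beq 0 0 = true from rfl, cond_true, List.all_eq_true] at hh
      refine ⟨1, fun k => ?_⟩
      rw [map_one, Nat.eq_of_beq_eq_true (hh k (List.mem_range.2 k.2))]
      rfl
    rw [show Nat.beq j 0 = false by rw [← Bool.not_eq_true, Nat.beq_eq]; omega] at hh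
    simp only [cond_false, Bool.and_eq_true, Nat.blt_eq, List.all_eq_true, List.mem_range, Nat.beq_eq] at hh
    obtain ⟨g, hg⟩ := ih _ hh.1 (hh.1.trans hj)
    obtain ⟨hx, -⟩ := M.elem_spec (List.all_eq_true.1 hxs (xs.getD (par.get j % 16) (0, 0, [])) (by
      rw [List.getD_eq_getElem _ _ hh.2.1]; exact List.getElem_mem _))
    exact ⟨_ * g, fun k => by rw [map_mul, Equiv.Perm.mul_apply, hx, hg, hh.2.2 k k.2]⟩

theorem Model.moves {C : CentralLocal.Cert} {gs : List Elem} (hgs : gs.all (elemOK n M.base) = true)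
    (hk : C.k = gs.length) (D : CentralBound.Data C G)
    (hD : ∀ s, D.gen s = M.elem (gs.getD s (0, 0, [])).1)
    {T : Janko.Tree ℕ} {N : ℕ} (hTe : ∀ j < N, ∃ g, Rep M.φ g (T.get j)) {x : G} {v : ℕ}
    (hx : ∀ k : Fin n, (M.φ x k : ℕ) = pg v k) {mv : Janko.Tree ℕ}
    (h : ∀ j < N, movesOK (M.B.map Fin.val) C gs T N v mv j = true) :
    CoverTable.Moves D N (fun j => M.elem (T.get j)) x (fun j => mv.get j / 4096) (fun j => mv.get j % 4096) := by
  intro j hj
  have hh := h j hj
  simp only [movesOK, Bool.and_eq_true, Nat.blt_eq, List.all_eq_true, List.mem_map, Nat.beq_eq,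
    forall_exists_index, and_imp, forall_apply_eq_imp_iff₂] at hh
  obtain ⟨h1, h2, h3⟩ := hh
  refine ⟨h1, h2, M.ext fun b hb => ?_⟩
  have hel : ∀ k : Fin n, (M.φ (CoverTable.el D (mv.get j % 4096)) k : ℕ) = imgW gs (C.wd (mv.get j % 4096)) k := by
    intro k
    rw [CoverTable.el, show D.gen = fun s => M.elem (gs.getD s (0, 0, [])).1 from funext hD]
    exact M.word_apply hgs _ (fun s hs => hk ▸ Nat.blt_eq.mp (List.all_eq_true.1
      (CoverTable.wd_letters D h2) s hs)) k
  rw [map_mul, map_mul, Equiv.Perm.mul_apply, Equiv.Perm.mul_apply, hx, M.elem_rep (hTe j hj) b,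
    M.elem_rep (hTe _ h1) _, hel]
  exact h3 b hb

/-- The list of cosets. -/
noncomputable def Model.cos {C : CentralLocal.Cert} {gs : List Elem} (hgs : gs.all (elemOK n M.base) = true)
    (hk : C.k = gs.length) (D : CentralBound.Data C G)
    (hD : ∀ s, D.gen s = M.elem (gs.getD s (0, 0, [])).1) {xs : List Elem}
    (hxs : xs.all (elemOK n M.base) = true) (hgen : Subgroup.closure {g | ∃ e ∈ xs, g = M.elem e.1} = ⊤)
    {T par : Janko.Tree ℕ} {N : ℕ} (hN : 0 < N) (hcard : Nat.card G = C.N * N)
    (hT : ∀ j < N, treeT n xs T par j = true) (mvs : List (Janko.Tree ℕ))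
    (hmv : ∀ i < xs.length, ∀ j < N,
      movesOK (M.B.map Fin.val) C gs T N (xs.getD i (0, 0, [])).1 (mvs.getD i (.leaf 0)) j = true) :
    CoverTable.Cos D where
  n := N
  npos := hN
  T j := M.elem (T.get j)
  T_zero := by
    have h := hT 0 hN
    rw [treeT, show Nat.beq 0 0 = true from rfl, cond_true, List.all_eq_true] at h
    refine M.rep_unique (M.elem_rep (M.exists_T hxs hT 0 hN)) fun k => ?_
    rw [map_one, Nat.eq_of_beq_eq_true (h k (List.mem_range.2 k.2))]
    rfl
  card := hcard
  moves := ⟨_, hgen, fun g hg => by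
    obtain ⟨e, he, rfl⟩ := hg
    obtain ⟨i, hi, rfl⟩ := List.getElem_of_mem he
    refine ⟨_, _, M.moves hgs hk D hD (M.exists_T hxs hT) (v := (xs[i]).1)
      (M.elem_spec (List.all_eq_true.1 hxs _ he)).1 (fun j hj => ?_) (mv := mvs.getD i (.leaf 0))⟩
    have := hmv i hi j hj
    rwa [List.getD_eq_getElem _ _ hi] at this⟩

/-- The commutator of two elements is as claimed. -/
def commOK (n : ℕ) (base B : List ℕ) (e : Elem × Elem × Elem) : Bool :=
  (elemOK n base e.1 && (elemOK n base e.2.1 && elemOK n base e.2.2)) &&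
    B.all fun k => Nat.beq (pg e.1.1 (pg e.2.2.1 (pg e.2.1.1 k))) (pg e.2.1.1 (pg e.2.2.1 k))

theorem Model.comm_mem {e : Elem × Elem × Elem} (h : commOK n M.base (M.B.map Fin.val) e = true) :
    M.elem e.1.1 ∈ commutator G := by
  simp only [commOK, Bool.and_eq_true, List.all_eq_true, List.mem_map, Nat.beq_eq, forall_exists_index,
    and_imp, forall_apply_eq_imp_iff₂] at h
  obtain ⟨⟨hx, ha, hb⟩, he⟩ := h
  have e' : M.elem e.1.1 * (M.elem e.2.2.1 * M.elem e.2.1.1) = M.elem e.2.1.1 * M.elem e.2.2.1 := M.ext fun b hb' => by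
    simp only [map_mul, Equiv.Perm.mul_apply, (M.elem_spec hx).1 _, (M.elem_spec ha).1 _, (M.elem_spec hb).1 _]
    exact he b hb'
  rw [show M.elem e.1.1 = ⁅M.elem e.2.1.1, M.elem e.2.2.1⁆ by
    rw [commutatorElement_def, mul_assoc (_ * _), ← mul_inv_rev, eq_mul_inv_iff_mul_eq, e']]
  exact Subgroup.commutator_mem_commutator (Subgroup.mem_top _) (Subgroup.mem_top _)

/-- Only the identity fixes the base of a chain of full size. -/
theorem fix_one_of_chain {G : Type*} [Group G] [Finite G] {n : ℕ} {φ : G →* Equiv.Perm (Fin n)}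
    {L : List (ℕ × List ℕ)} (hok : chainOK L [] = true) (hr : Reps (φ := φ) (Set.univ : Set G) L)
    (hc : Nat.card G ≤ chainSize L) (hpos : 0 < chainSize L) {g : G} (hg : ∀ k : Fin n, (k : ℕ) ∈ L.map Prod.fst → φ g k = k) :
    g = 1 := by
  have h := chain_le (φ := φ) L [] hok hr
  rw [List.nil_append] at h
  have h2 : (fixes φ ([] : List ℕ)).ncard ≤ chainSize L :=
    (Set.ncard_le_ncard (Set.subset_univ _)).trans (by rw [Set.ncard_univ]; exact hc)
  have h1 : (fixes φ (L.map Prod.fst)).ncard ≤ 1 := Nat.le_of_mul_le_mul_left (by rw [mul_one]; exact h.trans h2) hpos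
  exact (Set.ncard_le_one (Set.toFinite _)).1 h1 g hg 1 fun k _ => by rw [map_one]; rfl

end Cfsg.Agent.Lie.PermCover
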