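import Mathlib
import Cfsg.Prelude.Def_LieExceptional
import Cfsg.Agent.Lib.Lie.Zassenhaus
import Cfsg.Agent.Lib.Lie.ZassenhausSwap
import Cfsg.Agent.Lib.Perm.Fpf.Entry
import Cfsg.Agent.Lib.Perm.Fpf.Structure

/-!
The two-point stabiliser of a Zassenhaus group when it is inverted by an interchange: it is cyclic.
-/

set_option autoImplicit false
set_option linter.style.haveILetI false

namespace Cfsg.Agent.Lie.ZassenhausEvenTorus

open MulAction
open Cfsg.Agent.Lie.Zassenhaus

universe u v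

theorem isCyclic_of_comm_fpf {X : Type u} [Group X] [Finite X] (hc : ∀ x y : X, x * y = y * x)
    {N : Type u} [Group N] [Finite N] [Nontrivial N] (φ : X →* MulAut N)
    (hφ : ∀ g : X, g ≠ 1 → ∀ x : N, φ g x = x → x = 1) : IsCyclic X := by
  rcases subsingleton_or_nontrivial X with hX | hX
  · exact isCyclic_of_subsingleton
  obtain ⟨K, i1, i2, m, ρ, hm, hρ⟩ := Cfsg.Agent.Perm.Fpf.hasFpf_of_action φ hφ
  haveI : Nonempty (Fin m) := ⟨⟨0, hm⟩⟩
  letI : CommGroup X := { (inferInstance : Group X) with mul_comm := hc }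
  haveI : IsZGroup X := by
    rw [isZGroup_iff]
    intro p hp P
    haveI := Fact.mk hp
    rcases hρ.isCyclic_or_quaternion (P : Subgroup X) P.isPGroup' with h | ⟨-, n, ⟨e⟩⟩
    · exact h
    · rcases n with _ | n
      · haveI : IsCyclic (QuaternionGroup (2 ^ 0)) := by
          rw [pow_zero]
          exact QuaternionGroup.quaternionGroup_one_isCyclic
        exact isCyclic_of_surjective e.symm.toMonoidHom e.symm.surjective
      · exfalso
        have h1 : QuaternionGroup.a (1 : ZMod (2 * 2 ^ (n + 1))) * QuaternionGroup.xa 0 =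
            QuaternionGroup.xa 0 * QuaternionGroup.a 1 := by
          apply e.symm.injective
          rw [map_mul, map_mul, mul_comm]
        rw [QuaternionGroup.a_mul_xa, QuaternionGroup.xa_mul_a, QuaternionGroup.xa.injEq, zero_sub, zero_add] at h1
        have h2 : ((2 : ℕ) : ZMod (2 * 2 ^ (n + 1))) = 0 := by
          push_cast
          linear_combination -h1
        rw [ZMod.natCast_eq_zero_iff] at h2
        have := Nat.le_of_dvd (by norm_num) h2
        have h4 : 2 ≤ 2 ^ (n + 1) := Nat.le_self_pow (by omega) 2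
        omega
  infer_instance

/-- An even two-point stabiliser of at most half the degree minus two is cyclic and inverted by an involution. -/
theorem cyclic_inverted {G : Type u} {Ω : Type v} [Group G] [Finite G] [MulAction G Ω] [Fintype Ω]
    [FaithfulSMul G Ω] (h2 : IsMultiplyPretransitive G Ω 2) (h3 : ThreePoint G Ω)
    (hfix : ∃ g : G, g ≠ 1 ∧ ∃ a b : Ω, a ≠ b ∧ g • a = a ∧ g • b = b) {a b : Ω} (hab : a ≠ b)
    (heven : Even (Nat.card ↥(stabilizer G a ⊓ stabilizer G b)))
    (hle : 2 * Nat.card ↥(stabilizer G a ⊓ stabilizer G b) ≤ Fintype.card Ω - 2) :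
    IsCyclic ↥(stabilizer G a ⊓ stabilizer G b) ∧
      ∃ v : G, orderOf v = 2 ∧ v • a = b ∧ v • b = a ∧
        ∀ h ∈ stabilizer G a ⊓ stabilizer G b, v * h * v⁻¹ = h⁻¹ := by
  classical
  obtain ⟨-, ⟨t, hta, htb⟩, hswap⟩ := ZassenhausSwap.swap_involution h2 h3 hab heven hle
  obtain ⟨g₀, hg₀, hg₀a, hg₀b⟩ := exists_fix_pair h2 hfix hab
  obtain ⟨U, -, hUa, hUt, hUf, hUn⟩ := kernel_le h2 h3 hfix ⊤ hab (Subgroup.mem_top g₀) hg₀ hg₀a hg₀b
  obtain ⟨c, hca, hcb⟩ := three_le_card hfix hab
  haveI : Nontrivial U := by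
    obtain ⟨k, hk, hkb⟩ := hUt c hca
    exact ⟨⟨k, hk⟩, 1, fun h => hcb (by rw [← hkb, show k = 1 from congrArg Subtype.val h, one_smul])⟩
  have htt : t * t = 1 := (hswap t hta htb).1
  have hinv : ∀ g : ↥(stabilizer G a ⊓ stabilizer G b), t * (g : G) * t = (g : G)⁻¹ := fun g => by
    have h1 := (hswap (t * g) (by rw [mul_smul, g.2.1, hta]) (by rw [mul_smul, g.2.2, htb])).1
    rw [← mul_assoc] at h1
    exact eq_inv_of_mul_eq_one_left h1
  refine ⟨?_, t, orderOf_eq_prime (by rw [sq, htt]) (fun h => hab (by rw [← hta, h, one_smul])), hta, htb,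
    fun h hh => by rw [inv_eq_of_mul_eq_one_right htt]; exact hinv ⟨h, hh⟩⟩
  have hcomm : ∀ g g' : ↥(stabilizer G a ⊓ stabilizer G b), g * g' = g' * g := fun g g' => Subtype.ext (by
    apply inv_injective
    show ((g : G) * g')⁻¹ = ((g' : G) * g)⁻¹
    rw [mul_inv_rev, mul_inv_rev, ← hinv g, ← hinv g']
    have e1 := hinv (g' * g)
    rw [Subgroup.coe_mul, mul_inv_rev] at e1
    rw [show t * (g' : G) * t * (t * (g : G) * t) = t * (g' : G) * (t * t) * g * t by group, htt, mul_one,
      mul_assoc t, e1, ← hinv g, ← hinv g'])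
  have hne : ∀ k ∈ U, k • b ≠ a := fun k hk h => hab (MulAction.injective k (h.trans (hUa k hk).symm)).symm
  refine isCyclic_of_comm_fpf (N := U) hcomm
    { toFun := fun g =>
        { toFun := fun k => ⟨(g : G) * k * (g : G)⁻¹, hUn _ g.2.1 g.2.2 k k.2⟩
          invFun := fun k => ⟨(g : G)⁻¹ * k * ((g : G)⁻¹)⁻¹, hUn _ (g⁻¹).2.1 (g⁻¹).2.2 k k.2⟩
          left_inv := fun u => Subtype.ext (by simp [mul_assoc])
          right_inv := fun u => Subtype.ext (by simp [mul_assoc])
          map_mul' := fun u u' => Subtype.ext (by simp [mul_assoc]) }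
      map_one' := MulEquiv.ext fun u => Subtype.ext (by simp)
      map_mul' := fun g g' => MulEquiv.ext fun u => Subtype.ext (by simp [mul_assoc]) }
    (fun g hg k hk => by
      by_contra hk1
      refine hg (Subtype.ext (h3 _ a b ((k : G) • b) hab (fun hb => hk1 (Subtype.ext (hUf k k.2 hb.symm)))
        (hne k k.2).symm g.2.1 g.2.2 ?_))
      have e' : (g : G) * k * (g : G)⁻¹ = k := congrArg Subtype.val hk
      rw [smul_smul, mul_inv_eq_iff_eq_mul.1 e', mul_smul, g.2.2])

end Cfsg.Agent.Lie.ZassenhausEvenTorus
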