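import Mathlib
import Cfsg.Agent.Lib.Perm.ThreePrimes

/-!
Pairs of large primes and the spectrum of alternating groups.
-/

set_option autoImplicit false

namespace Cfsg.Agent.Lie.PrimePairs

theorem two_primes {n : ℕ} (hn : 11 ≤ n) :
    ∃ r s : ℕ, r.Prime ∧ s.Prime ∧ s < r ∧ n < 2 * s ∧ r ≤ n := by
  rcases lt_or_ge n 13 with h | h
  · exact ⟨11, 7, by norm_num, by norm_num, by omega, by omega, by omega⟩
  rcases lt_or_ge n 19 with h' | h'
  · exact ⟨13, 11, by norm_num, by norm_num, by omega, by omega, by omega⟩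
  obtain ⟨a, b, c, ha, hb, -, h1, h2, h3, h4⟩ := Cfsg.Agent.Perm.exists_three_primes (n := n / 2) (by omega)
  exact ⟨b, a, hb, ha, h2, by omega, by omega⟩

theorem orderOf_ne_mul {n r s : ℕ} (hr : r.Prime) (hs : s.Prime) (hrs : r ≠ s) (hn : n < r + s)
    (σ : Equiv.Perm (Fin n)) : orderOf σ ≠ r * s := by
  intro h
  have key : ∀ {r s : ℕ}, r.Prime → s.Prime → orderOf σ = r * s → ∃ x ∈ σ.cycleType, x = r ∨ x = r * s := by
    intro r s hr hs h
    by_contra hcon
    push Not at hcon
    have hdvd : σ.cycleType.lcm ∣ s := Multiset.lcm_dvd.2 fun x hx => by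
      have hxd : x ∣ r * s := h ▸ Equiv.Perm.dvd_of_mem_cycleType hx
      rcases (Nat.dvd_mul.1 hxd) with ⟨a, b, ha, hb, rfl⟩
      rcases hr.eq_one_or_self_of_dvd _ ha with rfl | rfl
      · simpa using hb
      · rcases hs.eq_one_or_self_of_dvd _ hb with rfl | rfl
        · exact absurd (mul_one a) (hcon _ hx).1
        · exact absurd rfl (hcon _ hx).2
    rw [Equiv.Perm.lcm_cycleType, h] at hdvd
    have := Nat.le_of_dvd hs.pos hdvd
    nlinarith [hr.two_le, hs.two_le]
  obtain ⟨x, hx, hx'⟩ := key hr hs h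
  obtain ⟨y, hy, hy'⟩ := key hs hr (h.trans (mul_comm r s))
  have hsum : σ.cycleType.sum ≤ n := by simpa using σ.sum_cycleType_le
  by_cases hxy : x = y
  · subst hxy
    have := Multiset.le_sum_of_mem hx
    have hxx : x = r * s := by
      rcases hx' with e | e
      · rcases hy' with e' | e'
        · exact absurd (e.symm.trans e') hrs
        · rw [e', mul_comm]
      · exact e
    have h2r := hr.two_le
    have h2s := hs.two_le
    nlinarith
  · have h1 := Multiset.le_sum_of_mem ((Multiset.mem_erase_of_ne (Ne.symm hxy)).2 hy : y ∈ σ.cycleType.erase x)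
    have h2 : x + (σ.cycleType.erase x).sum = σ.cycleType.sum := by rw [← Multiset.sum_cons, Multiset.cons_erase hx]
    have hx2 : r ≤ x := by
      rcases hx' with rfl | rfl
      · exact le_rfl
      · exact Nat.le_mul_of_pos_right r hs.pos
    have hy2 : s ≤ y := by
      rcases hy' with rfl | rfl
      · exact le_rfl
      · exact Nat.le_mul_of_pos_right s hr.pos
    omega

variable {G : Type*} [Group G]

/-- An element of prime order `s ∤ r - 1` normalising a group of order `r` gives an element of order `r * s`. -/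
theorem exists_orderOf_mul {r s : ℕ} [Fact r.Prime] [Fact s.Prime] (hrs : r ≠ s) (hd : ¬ s ∣ r - 1)
    (R : Subgroup G) (hR : Nat.card R = r) (y : G) (hy : y ∈ Subgroup.normalizer (R : Set G))
    (hys : orderOf y = s) : ∃ g : G, orderOf g = r * s := by
  haveI : IsCyclic R := isCyclic_of_prime_card hR
  haveI : Finite R := Nat.finite_of_card_ne_zero (hR ▸ (Fact.out : r.Prime).ne_zero)
  let φ := R.normalizerMonoidHom
  have h1 : orderOf (φ ⟨y, hy⟩) ∣ s := by
    have := orderOf_map_dvd φ ⟨y, hy⟩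
    rwa [Subgroup.orderOf_mk, hys] at this
  have h2 : orderOf (φ ⟨y, hy⟩) ∣ r - 1 := by
    have := orderOf_dvd_natCard (φ ⟨y, hy⟩)
    rwa [IsCyclic.card_mulAut, hR, Nat.totient_prime Fact.out] at this
  have h3 : φ ⟨y, hy⟩ = 1 := by
    rcases (Fact.out : s.Prime).eq_one_or_self_of_dvd _ h1 with h | h
    · exact orderOf_eq_one_iff.1 h
    · exact absurd (h ▸ h2) hd
  obtain ⟨x, hx⟩ := exists_prime_orderOf_dvd_card' r (G := R) (dvd_of_eq hR.symm)
  have hc : Commute y (x : G) := by
    have := congrArg Subtype.val (MulEquiv.congr_fun h3 x)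
    simp only [φ, MulAut.one_apply] at this
    exact mul_inv_eq_iff_eq_mul.1 this
  refine ⟨(x : G) * y, ?_⟩
  rw [hc.symm.orderOf_mul_eq_mul_orderOf_of_coprime, Subgroup.orderOf_coe, hx, hys]
  rw [Subgroup.orderOf_coe, hx, hys]
  exact (Nat.coprime_primes Fact.out Fact.out).2 hrs

theorem factorization_factorial_half {n p : ℕ} (hp : p.Prime) (h1 : n < 2 * p) (h2 : p ≤ n) :
    p ∣ n.factorial ∧ ¬ p ^ 2 ∣ n.factorial := by
  refine ⟨hp.dvd_factorial.2 h2, fun h => ?_⟩
  haveI := Fact.mk hp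
  have hv : padicValNat p n.factorial = 1 := by
    have : n = p * 1 + (n - p) := by omega
    rw [this, padicValNat_factorial_mul_add _ (by omega), padicValNat_factorial_mul]
    simp
  rw [padicValNat_dvd_iff_le (Nat.factorial_ne_zero n), hv] at h
  omega

theorem card_alt {n : ℕ} (hn : 2 ≤ n) : 2 * Nat.card ↥(alternatingGroup (Fin n)) = n.factorial := by
  haveI : Nontrivial (Fin n) := Fin.nontrivial_iff_two_le.2 hn
  rw [Nat.card_eq_fintype_card, two_mul_card_alternatingGroup, Fintype.card_perm, Fintype.card_fin]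

theorem spectrum_ne_mul {n r s : ℕ} (hr : r.Prime) (hs : s.Prime) (hrs : r ≠ s) (hn : n < r + s)
    (h : Set.range (orderOf : G → ℕ) = Set.range (orderOf : ↥(alternatingGroup (Fin n)) → ℕ))
    (g : G) : orderOf g ≠ r * s := by
  intro hg
  obtain ⟨σ, hσ⟩ : r * s ∈ Set.range (orderOf : ↥(alternatingGroup (Fin n)) → ℕ) := h ▸ ⟨g, hg⟩
  exact orderOf_ne_mul hr hs hrs hn (σ : Equiv.Perm (Fin n)) (by rw [Subgroup.orderOf_coe, hσ])

/-- A large prime pair in a group with the order of `A n`. -/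
theorem large_prime {n p : ℕ} (hp : p.Prime) (h1 : n < 2 * p) (h2 : p ≤ n) (hn : 5 ≤ n)
    (hcard : Nat.card G = Nat.card ↥(alternatingGroup (Fin n))) :
    p ∣ Nat.card G ∧ ¬ p ^ 2 ∣ Nat.card G := by
  obtain ⟨h3, h4⟩ := factorization_factorial_half hp h1 h2
  rw [← card_alt (by omega : 2 ≤ n), ← hcard] at h3 h4
  refine ⟨(hp.dvd_mul.1 h3).resolve_left fun h => ?_, fun h => h4 (h.trans (dvd_mul_left _ _))⟩
  have := Nat.le_of_dvd two_pos h
  omega

end Cfsg.Agent.Lie.PrimePairs
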