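import Cfsg.Agent.Lib.Lie.RankOneFix
import Cfsg.Agent.Lib.Solv.ThompsonFPF
import Cfsg.Agent.Lib.Solv.Engel
import Cfsg.Agent.Lib.Solv.Cores
import Cfsg.Agent.Lib.Perm.Huppert

/-!
The rank-one set-up: inverted elements act without fixed points, Q is nilpotent, involutions are central,
fusion in C_D(t), centralisers of products of two involutions.
-/

set_option autoImplicit false

namespace Cfsg.Agent.Lie.R1

open Cfsg MulAction

variable {G Ω : Type*} [Group G] [Finite G] [MulAction G Ω] {a : Ω} {t : G} {Q : Subgroup G}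
  (hS : IsRankOneSetup G Ω a t Q)

include hS

theorem fpf {x : G} (hx : x ∈ invertedBy (D G a t) t) (hx1 : x ≠ 1) : Q ⊓ Subgroup.centralizer {x} = ⊥ := by
  obtain ⟨hxD, hxi⟩ := hx
  rw [t_inv hS] at hxi
  rw [Subgroup.eq_bot_iff_forall]
  intro q hq
  obtain ⟨hqQ, hqc⟩ := Subgroup.mem_inf.1 hq
  by_contra hq1
  rw [Subgroup.mem_centralizer_singleton_iff] at hqc
  have hX : ({x} : Set G) ⊆ (D G a t : Set G) := Set.singleton_subset_iff.2 hxD
  obtain ⟨hxa, hxta⟩ := Subgroup.mem_inf.1 hxD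
  rw [mem_stabilizer_iff] at hxa hxta
  have h3 : ∃ b c d : Ω, b ≠ c ∧ b ≠ d ∧ c ≠ d ∧ ∀ y ∈ ({x} : Set G), y • b = b ∧ y • c = c ∧ y • d = d :=
    ⟨a, t • a, q • (t • a), (ta_ne hS).symm, fun h => ta_ne hS (by
        rw [eq_comm, ← eq_inv_smul_iff, show q⁻¹ • a = a from fix_a hS (inv_mem hqQ)] at h
        exact h),
      fun h => hq1 (Q_D_bot hS hqQ h.symm), by
        rintro y rfl
        exact ⟨hxa, hxta, by rw [smul_smul, ← hqc, mul_smul, hxta]⟩⟩
  obtain ⟨τ, hτ, hτ2, hτa⟩ := swap_fix hS hX h3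
  obtain ⟨hD, -⟩ := swap_eq hS hτa hτ2
  have hcomm : τ * x = x * τ := (Subgroup.mem_centralizer_singleton_iff.1 hτ)
  set d := t * τ with hd
  have hdx : d * x * d⁻¹ = x⁻¹ := by
    rw [hd, _root_.mul_inv_rev, t_inv hS, mul_assoc t τ x, hcomm, ← hxi]
    group
  obtain ⟨k, hk, -⟩ := exists_sqrt hS.odd_card hD
  have h2 : Commute (d * d) x := by
    have : d * d * x * (d * d)⁻¹ = x := by
      rw [show d * d * x * (d * d)⁻¹ = d * (d * x * d⁻¹) * d⁻¹ by group, hdx,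
        show d * x⁻¹ * d⁻¹ = (d * x * d⁻¹)⁻¹ by group, hdx, inv_inv]
    exact mul_inv_eq_iff_eq_mul.1 this
  have h4 : Commute d x := by
    have := h2.pow_left k
    rwa [← pow_two, ← pow_mul, mul_comm, pow_mul, pow_two, hk] at this
  rw [h4.eq, mul_inv_cancel_right] at hdx
  refine hx1 (sqrt_unique hS.odd_card hxD (one_mem _) ?_)
  rw [one_mul]
  calc x * x = x * x⁻¹ := by rw [← hdx]
    _ = 1 := mul_inv_cancel x

/-- Two distinct involutions of G_a. -/
theorem two_inv (h2 : ∃ x y : G, x ≠ 1 ∧ y ≠ 1 ∧ x ≠ y ∧ x * x = 1 ∧ y * y = 1 ∧ x * y = y * x) :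
    ∃ x y : G, x ∈ involutionsIn (stabilizer G a : Set G) ∧ y ∈ involutionsIn (stabilizer G a : Set G) ∧ x ≠ y := by
  haveI := hS.two_transitive
  haveI : MulAction.IsPretransitive G Ω := MulAction.isPretransitive_of_is_two_pretransitive
  obtain ⟨x, y, hx1, hy1, hxy, hx2, hy2, hc⟩ := h2
  obtain ⟨c, hxc, hcu⟩ := inv_one_fix hS hx1 hx2
  have hyc : y • c = c := hcu _ (by
    show x • (y • c) = y • c
    rw [smul_smul, hc, mul_smul, hxc])
  obtain ⟨g, rfl⟩ := MulAction.exists_smul_eq G c a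
  have key : ∀ u : G, u • c = c → u ≠ 1 → u * u = 1 →
      g * u * g⁻¹ ∈ involutionsIn (stabilizer G (g • c) : Set G) := fun u hu hu1 hu2 =>
    ⟨show (g * u * g⁻¹) • (g • c) = g • c by rw [mul_smul, mul_smul, inv_smul_smul, hu],
      fun h => hu1 (conj_eq_one_iff.1 h),
      by rw [show g * u * g⁻¹ * (g * u * g⁻¹) = g * (u * u) * g⁻¹ by group, hu2]; group⟩
  exact ⟨_, _, key x hxc hx1 hx2, key y hyc hy1 hy2, fun h => hxy (by simpa using h)⟩

theorem exists_K (h2 : ∃ x y : G, x ≠ 1 ∧ y ≠ 1 ∧ x ≠ y ∧ x * x = 1 ∧ y * y = 1 ∧ x * y = y * x) :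
    ∃ k ∈ invertedBy (D G a t) t, k ≠ 1 := by
  obtain ⟨x, y, hx, hy, hxy⟩ := two_inv hS h2
  obtain ⟨k, hk, hke⟩ := K_trans hS hx.1 hx.2.1 hx.2.2 hy.1 hy.2.1 hy.2.2
  exact ⟨k, hk, fun h => hxy (by rw [← hke, h]; group)⟩

theorem nilpotent (h2 : ∃ x y : G, x ≠ 1 ∧ y ≠ 1 ∧ x ≠ y ∧ x * x = 1 ∧ y * y = 1 ∧ x * y = y * x) :
    Group.IsNilpotent Q := by
  obtain ⟨k, ⟨hkD, hki⟩, hk1⟩ := exists_K hS h2
  set r := (orderOf k).minFac with hr
  have hr' : r.Prime := Nat.minFac_prime (by rwa [ne_eq, orderOf_eq_one_iff])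
  set y := k ^ (orderOf k / r) with hy
  have hyo : orderOf y = r := orderOf_pow_orderOf_div (orderOf_pos k).ne' (Nat.minFac_dvd _)
  have hyD : y ∈ D G a t := pow_mem hkD _
  have hyi : y ∈ invertedBy (D G a t) t := by
    refine ⟨hyD, ?_⟩
    rw [t_inv hS]
    exact inv_pow_K hS (by rwa [t_inv hS] at hki) _
  have hy1 : y ≠ 1 := fun h => hr'.ne_one (by rw [← hyo, h, orderOf_one])
  refine Cfsg.Agent.Solv.fpf_nilpotent Q y hr' (hyo ▸ pow_orderOf_eq_one y) ?_ (fpf hS hyi hy1)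
  rw [Subgroup.mem_normalizer_iff]
  have hya : y ∈ stabilizer G a := (Subgroup.mem_inf.1 hyD).1
  refine fun q => ⟨fun hq => hS.conj_mem y hya q hq, fun hq => ?_⟩
  have := hS.conj_mem y⁻¹ (inv_mem hya) _ hq
  simpa [mul_assoc] using this

theorem central (h2 : ∃ x y : G, x ≠ 1 ∧ y ≠ 1 ∧ x ≠ y ∧ x * x = 1 ∧ y * y = 1 ∧ x * y = y * x)
    {s : G} (hs : s ∈ involutionsIn (stabilizer G a : Set G)) : s ∈ Q ∧ ∀ x ∈ Q, s * x = x * s := by
  haveI := nilpotent hS h2
  haveI : Fact (Nat.Prime 2) := ⟨Nat.prime_two⟩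
  obtain ⟨P⟩ := (inferInstance : Nonempty (Sylow 2 Q))
  obtain ⟨e, he⟩ : ∃ e : Q, orderOf e = 2 := exists_prime_orderOf_dvd_card' 2 (even_iff_two_dvd.1 hS.even_card)
  have hU : IsPGroup 2 (Subgroup.zpowers e) := IsPGroup.of_card (n := 1) (by rw [Nat.card_zpowers, he, pow_one])
  obtain ⟨P, hP⟩ := hU.exists_le_sylow
  haveI : Nontrivial (⊤ : Subgroup P) := by
    rw [Subgroup.nontrivial_iff_ne_bot]
    intro h
    have := (Subgroup.eq_bot_iff_forall _).1 h ⟨e, hP (Subgroup.mem_zpowers e)⟩ (Subgroup.mem_top _)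
    rw [show e = 1 from congrArg Subtype.val this, orderOf_one] at he
    omega
  obtain ⟨w, -, hwc, hw1⟩ := Cfsg.Agent.Perm.exists_ne_one_center P.2 (⊤ : Subgroup P)
  obtain ⟨n, hn⟩ : ∃ n, orderOf w = 2 ^ (n + 1) := by
    obtain ⟨n, hn⟩ := P.2 w
    obtain ⟨j, -, hj⟩ := (Nat.dvd_prime_pow Nat.prime_two).1 (orderOf_dvd_of_pow_eq_one hn)
    rcases j with _ | j
    · exact absurd (orderOf_eq_one_iff.1 (by simpa using hj)) hw1
    · exact ⟨j, hj⟩
  set z : P := w ^ 2 ^ n with hz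
  have hzo : orderOf z = 2 := by
    rw [hz, orderOf_pow, hn, Nat.gcd_eq_right (pow_dvd_pow 2 (Nat.le_succ n)), pow_succ,
      Nat.mul_div_cancel_left _ (by positivity)]
  have hzc : z ∈ Subgroup.center P := pow_mem hwc _
  have hzQ : orderOf (z : Q) = 2 := by rw [Subgroup.orderOf_coe, hzo]
  have hcent : (z : Q) ∈ Subgroup.center Q := by
    rw [Subgroup.mem_center_iff]
    have htop : Subgroup.centralizer {(z : Q)} = ⊤ := by
      refine Cfsg.Agent.Solv.eq_top_of_forall_sylow_le _ fun p hp => ?_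
      by_cases hp2 : p = 2
      · subst hp2
        refine ⟨P, fun g hg => Subgroup.mem_centralizer_singleton_iff.2 ?_⟩
        exact congrArg Subtype.val (Subgroup.mem_center_iff.1 hzc ⟨g, hg⟩)
      · obtain ⟨P'⟩ := (inferInstance : Nonempty (Sylow p Q))
        refine ⟨P', fun g hg => Subgroup.mem_centralizer_singleton_iff.2 ?_⟩
        obtain ⟨j, hj⟩ := IsPGroup.iff_orderOf.1 P'.2 ⟨g, hg⟩
        rw [← Subgroup.orderOf_coe] at hj
        have hco : (orderOf g).Coprime 2 := by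
          rw [hj]
          exact Nat.Coprime.pow_left _ ((Nat.coprime_primes hp.out Nat.prime_two).2 hp2)
        exact (Cfsg.Agent.Solv.commute_of_coprime_nilpotent (k := 1) (by rw [hzQ, pow_one]) hco).symm.eq
    intro g
    have : g ∈ Subgroup.centralizer {(z : Q)} := htop ▸ Subgroup.mem_top g
    exact Subgroup.mem_centralizer_singleton_iff.1 this
  set s₀ : G := ((z : Q) : G) with hs₀
  have hs₀Q : s₀ ∈ Q := (z : Q).2
  have hs₀2 : s₀ * s₀ = 1 := by
    have := pow_orderOf_eq_one (z : Q)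
    rw [hzQ, pow_two] at this
    exact congrArg Subtype.val this
  have hs₀1 : s₀ ≠ 1 := fun h => by
    rw [show (z : Q) = 1 from Subtype.ext h, orderOf_one] at hzQ
    omega
  obtain ⟨k, hk, hke⟩ := K_trans hS (fix_a hS hs₀Q) hs₀1 hs₀2 hs.1 hs.2.1 hs.2.2
  have hka : k ∈ stabilizer G a := (Subgroup.mem_inf.1 hk.1).1
  refine ⟨inv_mem_Q hS hs.1 hs.2.2, fun x hx => ?_⟩
  have hq : k * x * k⁻¹ ∈ Q := hS.conj_mem k hka x hx
  have hc : (k * x * k⁻¹) * s₀ = s₀ * (k * x * k⁻¹) :=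
    congrArg Subtype.val (Subgroup.mem_center_iff.1 hcent ⟨_, hq⟩)
  rw [← hke]
  calc k⁻¹ * s₀ * k * x = k⁻¹ * (s₀ * (k * x * k⁻¹)) * k := by group
    _ = _ := by rw [← hc]; group

theorem closed (h2 : ∃ x y : G, x ≠ 1 ∧ y ≠ 1 ∧ x ≠ y ∧ x * x = 1 ∧ y * y = 1 ∧ x * y = y * x)
    {s s' : G} (hs : s ∈ involutionsIn (stabilizer G a : Set G)) (hs' : s' ∈ involutionsIn (stabilizer G a : Set G)) :
    s * s' = 1 ∨ s * s' ∈ involutionsIn (stabilizer G a : Set G) := by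
  by_cases h : s * s' = 1
  · exact Or.inl h
  refine Or.inr ⟨mul_mem (s := stabilizer G a) hs.1 hs'.1, h, ?_⟩
  obtain ⟨-, hc⟩ := central hS h2 hs
  rw [show s * s' * (s * s') = s * (s' * s) * s' by group, ← hc s' (central hS h2 hs').1,
    show s * (s * s') * s' = s * s * (s' * s') by group, hs.2.2, hs'.2.2, one_mul]

theorem fusion {X : Set G} (hX : X ⊆ ((D G a t ⊓ Subgroup.centralizer {t} : Subgroup G) : Set G)) (g : G)
    (hY : (fun x => g * x * g⁻¹) '' X ⊆ ((D G a t ⊓ Subgroup.centralizer {t} : Subgroup G) : Set G)) :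
    ∃ v ∈ D G a t ⊓ Subgroup.centralizer {t}, (fun x => v * x * v⁻¹) '' X = (fun x => g * x * g⁻¹) '' X := by
  obtain ⟨c, hc, hcu⟩ := inv_one_fix hS hS.ne_one hS.mul_self
  have hca : c ≠ a := fun h => ta_ne hS (by rw [← h, hc])
  have hcta : c ≠ t • a := fun h => by
    rw [h, tta hS] at hc
    exact ta_ne hS hc.symm
  have hfix : ∀ y ∈ D G a t ⊓ Subgroup.centralizer {t}, y • a = a ∧ y • (t • a) = t • a ∧ y • c = c := fun y hy => by
    obtain ⟨hyD, hyt⟩ := Subgroup.mem_inf.1 hy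
    rw [Subgroup.mem_centralizer_singleton_iff] at hyt
    exact ⟨(Subgroup.mem_inf.1 hyD).1, (Subgroup.mem_inf.1 hyD).2, hcu _ (by
      show t • (y • c) = y • c
      rw [smul_smul, ← hyt, mul_smul, hc])⟩
  set Y := (fun x => g * x * g⁻¹) '' X with hYdef
  have hYD : Y ⊆ (D G a t : Set G) := hY.trans (fun y hy => (Subgroup.mem_inf.1 hy).1)
  have h3 : ∃ b c d : Ω, b ≠ c ∧ b ≠ d ∧ c ≠ d ∧ ∀ y ∈ Y, y • b = b ∧ y • c = c ∧ y • d = d :=
    ⟨a, t • a, c, (ta_ne hS).symm, hca.symm, hcta.symm, fun y hy => hfix y (hY hy)⟩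
  have hgfix : ∀ y ∈ Y, y • (g • a) = g • a ∧ y • (g • (t • a)) = g • (t • a) ∧ y • a = a ∧ y • (t • a) = t • a := by
    rintro _ ⟨x, hx, rfl⟩
    obtain ⟨h1, h2, -⟩ := hfix x (hX hx)
    obtain ⟨h4, h5, -⟩ := hfix _ (hY ⟨x, hx, rfl⟩)
    exact ⟨by simp [mul_smul, h1], by simp [mul_smul, h2], h4, h5⟩
  obtain ⟨h, hh, he1, he2⟩ := two_trans_fix hS hYD h3 (fun e => ta_ne hS (smul_left_cancel g e).symm)
    (ta_ne hS).symm hgfix
  set d := h * g with hd
  have hdD : d ∈ D G a t := ⟨show d • a = a by rw [hd, mul_smul, he1],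
    show d • (t • a) = t • a by rw [hd, mul_smul, he2]⟩
  have hdx : ∀ x ∈ X, d * x * d⁻¹ = g * x * g⁻¹ := fun x hx => by
    have hc := Subgroup.mem_centralizer_iff.1 hh _ ⟨x, hx, rfl⟩
    calc d * x * d⁻¹ = h * (g * x * g⁻¹) * h⁻¹ := by rw [hd]; group
      _ = g * x * g⁻¹ := by rw [← hc, mul_inv_cancel_right]
  obtain ⟨z, hz, hzi, hzy⟩ := exists_decomp hS.mul_self (fun x hx => tDt hS hx) hS.odd_card hdD
  set v := d * z⁻¹ with hv
  have hvD : v ∈ D G a t := mul_mem hdD (inv_mem hz)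
  have hvt : Commute v t := by
    show v * t = t * v
    conv_lhs => rw [← hzy]
    rw [mul_assoc (t * v), hS.mul_self, mul_one]
  refine ⟨v, Subgroup.mem_inf.2 ⟨hvD, Subgroup.mem_centralizer_singleton_iff.2 hvt.eq⟩, ?_⟩
  refine Set.image_congr fun x hx => ?_
  have hxt : Commute x t := Subgroup.mem_centralizer_singleton_iff.1 (Subgroup.mem_inf.1 (hX hx)).2
  have hxt' : Commute (g * x * g⁻¹) t := Subgroup.mem_centralizer_singleton_iff.1 (Subgroup.mem_inf.1 (hY ⟨x, hx, rfl⟩)).2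
  have h1 : t * x * t = x := by rw [← hxt.eq, mul_assoc, hS.mul_self, mul_one]
  have h1' : t * (g * x * g⁻¹) * t = g * x * g⁻¹ := by rw [← hxt'.eq, mul_assoc, hS.mul_self, mul_one]
  have hdv : d = v * z := by rw [hv]; group
  have htd : t * d * t = v * z⁻¹ := by
    rw [hdv, show t * (v * z) * t = (t * v * t) * (t * z * t) by simp [mul_assoc, tt hS], hzi,
      ← hvt.eq, mul_assoc v, hS.mul_self, mul_one]
  have h2' : v * z⁻¹ * x * (v * z⁻¹)⁻¹ = g * x * g⁻¹ := by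
    rw [← htd, ← h1', ← hdx x hx]
    conv_rhs => rw [show d * x * d⁻¹ = d * (t * x * t) * d⁻¹ by rw [h1]]
    simp [mul_assoc, t_inv hS, tt hS]
  have h3' : Commute (z * z) x := by
    have e := (hdx x hx).trans h2'.symm
    rw [hdv] at e
    have e' := congrArg (fun w => z * v⁻¹ * w * (v * z⁻¹)) e
    have : z * z * x * (z * z)⁻¹ = x := by
      refine Eq.trans ?_ (e'.trans ?_) <;> group
    exact mul_inv_eq_iff_eq_mul.1 this
  obtain ⟨k, hk, -⟩ := exists_sqrt hS.odd_card hz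
  have h4 : Commute z x := by
    have := h3'.pow_left k
    rwa [← pow_two, ← pow_mul, mul_comm, pow_mul, pow_two, hk] at this
  rw [← hdx x hx, hdv]
  show v * x * v⁻¹ = _
  rw [show v * z * x * (v * z)⁻¹ = v * (z * x * z⁻¹) * v⁻¹ by group, h4.eq, mul_inv_cancel_right]

theorem product_two (h2 : ∃ x y : G, x ≠ 1 ∧ y ≠ 1 ∧ x ≠ y ∧ x * x = 1 ∧ y * y = 1 ∧ x * y = y * x)
    {u v : G} (hu1 : u ≠ 1) (hu2 : u * u = 1) (hv1 : v ≠ 1) (hv2 : v * v = 1) (hx : (u * v) * (u * v) ≠ 1) :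
    (∃ g : G, ∃ u' ∈ involutionsIn (stabilizer G a : Set G), g * (u * v) * g⁻¹ = u' * t) ∧
      Odd (Nat.card ↥(Subgroup.centralizer {u * v})) := by
  haveI := hS.two_transitive
  haveI : MulAction.IsPretransitive G Ω := MulAction.isPretransitive_of_is_two_pretransitive
  -- involutions with a common fixed point commute
  have hcom : ∀ (c : Ω) (p q : G), p • c = c → p ≠ 1 → p * p = 1 → q • c = c → q ≠ 1 → q * q = 1 → Commute p q := by
    intro c p q hp hp1 hp2 hq hq1 hq2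
    obtain ⟨g, rfl⟩ := MulAction.exists_smul_eq G a c
    have key : ∀ p : G, p • (g • a) = g • a → p ≠ 1 → p * p = 1 →
        g⁻¹ * p * g ∈ involutionsIn (stabilizer G a : Set G) := fun p hp hp1 hp2 =>
      ⟨show (g⁻¹ * p * g) • a = a by rw [mul_smul, mul_smul, hp, inv_smul_smul],
        fun h => hp1 (by have := congrArg (fun x => g * x * g⁻¹) h; simpa [mul_assoc] using this),
        by rw [show g⁻¹ * p * g * (g⁻¹ * p * g) = g⁻¹ * (p * p) * g by group, hp2]; group⟩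
    have := Commute.map (show Commute (g⁻¹ * p * g) (g⁻¹ * q * g) from
      (central hS h2 (key p hp hp1 hp2)).2 _ (central hS h2 (key q hq hq1 hq2)).1) (MulAut.conj g)
    simpa [mul_assoc] using this
  have hnc : ¬ Commute u v := fun h => hx (by
    rw [show u * v * (u * v) = u * (v * u) * v by group, ← h.eq,
      show u * (u * v) * v = u * u * (v * v) by group, hu2, hv2, one_mul])
  obtain ⟨p, hp, hpu⟩ := inv_one_fix hS hu1 hu2
  have hvp : v • p ≠ p := fun h => hnc (hcom p u v hp hu1 hu2 h hv1 hv2)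
  constructor
  · obtain ⟨g, hg1, hg2⟩ := two_trans hS hvp.symm (ta_ne hS).symm
    have hτ : (g * v * g⁻¹) • a = t • a := by
      rw [mul_smul, mul_smul, inv_smul_eq_iff.2 hg1.symm, hg2]
    have hτ2 : g * v * g⁻¹ * (g * v * g⁻¹) = 1 := by
      rw [show g * v * g⁻¹ * (g * v * g⁻¹) = g * (v * v) * g⁻¹ by group, hv2]; group
    obtain ⟨l, hl, -, hle⟩ := swap_conj hS hτ hτ2
    have hla : l • a = a := (Subgroup.mem_inf.1 hl).1
    refine ⟨l * g, (l * g) * u * (l * g)⁻¹, ⟨?_, fun h => hu1 (conj_eq_one_iff.1 h), ?_⟩, ?_⟩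
    · show ((l * g) * u * (l * g)⁻¹) • a = a
      rw [mul_smul, mul_smul _ u, inv_smul_eq_iff.2 (show a = (l * g) • p by rw [mul_smul, hg1, hla]), hp, mul_smul, hg1, hla]
    · rw [show l * g * u * (l * g)⁻¹ * (l * g * u * (l * g)⁻¹) = l * g * (u * u) * (l * g)⁻¹ by group, hu2]; group
    · rw [show t = l * (g * v * g⁻¹) * l⁻¹ by rw [← hle]; group]
      group
  · rw [← Nat.not_even_iff_odd]
    intro he
    haveI : Fact (Nat.Prime 2) := ⟨Nat.prime_two⟩
    obtain ⟨w, hw⟩ := exists_prime_orderOf_dvd_card' (G := ↥(Subgroup.centralizer {u * v})) 2 (even_iff_two_dvd.1 he)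
    have hwc : Commute (w : G) (u * v) := Subgroup.mem_centralizer_singleton_iff.1 w.2
    have hw2 : (w : G) * w = 1 := by
      have := pow_orderOf_eq_one w
      rw [hw, pow_two] at this
      exact congrArg Subtype.val this
    have hw1 : (w : G) ≠ 1 := fun h => by
      rw [show w = 1 from Subtype.ext h, orderOf_one] at hw
      omega
    obtain ⟨c, hc, hcu⟩ := inv_one_fix hS hw1 hw2
    have hxc : (u * v) • c = c := hcu _ (by
      show (w : G) • ((u * v) • c) = (u * v) • c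
      rw [smul_smul, hwc.eq, mul_smul, hc])
    have huc : u • c ≠ c := fun h => by
      have hvc : v • c = c := by
        have h' := congrArg (fun b => u • b) hxc
        simp only [smul_smul, ← mul_assoc, hu2, one_mul] at h'
        rwa [h] at h'
      exact hnc (hcom c u v h hu1 hu2 hvc hv1 hv2)
    have hinv : u * (u * v) * u = (u * v)⁻¹ := by
      rw [_root_.mul_inv_rev, inv_eq_of_mul_eq_one_left hv2, inv_eq_of_mul_eq_one_left hu2, ← mul_assoc, hu2, one_mul]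
    obtain ⟨g, hg1, hg2⟩ := two_trans hS huc.symm (ta_ne hS).symm
    have hτ : (g * u * g⁻¹) • a = t • a := by
      rw [mul_smul, mul_smul, inv_smul_eq_iff.2 hg1.symm, hg2]
    have hτ2 : g * u * g⁻¹ * (g * u * g⁻¹) = 1 := by
      rw [show g * u * g⁻¹ * (g * u * g⁻¹) = g * (u * u) * g⁻¹ by group, hu2]; group
    obtain ⟨l, hl, -, hle⟩ := swap_conj hS hτ hτ2
    set e := l * g with hedef
    have hea : e • c = a := by rw [hedef, mul_smul, hg1]; exact (Subgroup.mem_inf.1 hl).1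
    have heu : e * u * e⁻¹ = t := by
      rw [hedef, show l * g * u * (l * g)⁻¹ = l * (g * u * g⁻¹) * l⁻¹ by group, ← hle]; group
    have hxa : (e * (u * v) * e⁻¹) • a = a := by
      rw [mul_smul, mul_smul e (u * v), inv_smul_eq_iff.2 hea.symm, hxc, hea]
    have hxi : t * (e * (u * v) * e⁻¹) * t = (e * (u * v) * e⁻¹)⁻¹ := by
      rw [← heu, show e * u * e⁻¹ * (e * (u * v) * e⁻¹) * (e * u * e⁻¹) = e * (u * (u * v) * u) * e⁻¹ by group, hinv]
      group
    have hxD : e * (u * v) * e⁻¹ ∈ D G a t := ⟨hxa, show (e * (u * v) * e⁻¹) • (t • a) = t • a by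
      have h' : (e * (u * v) * e⁻¹)⁻¹ • a = a := inv_smul_eq_iff.2 hxa.symm
      rw [← hxi, mul_smul, mul_smul] at h'
      have := congrArg (fun b => t • b) h'
      simpa [smul_smul, ← mul_assoc, hS.mul_self] using this⟩
    have hx1 : e * (u * v) * e⁻¹ ≠ 1 := fun h => hx (by rw [conj_eq_one_iff.1 h, one_mul])
    have hwQ : e * w * e⁻¹ ∈ Q := by
      refine inv_mem_Q hS ?_ ?_
      · rw [mul_smul, mul_smul, inv_smul_eq_iff.2 hea.symm, hc, hea]
      · rw [show e * (w : G) * e⁻¹ * (e * w * e⁻¹) = e * (w * w : G) * e⁻¹ by group, hw2]; group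
    have hwc' : e * w * e⁻¹ ∈ Subgroup.centralizer {e * (u * v) * e⁻¹} := by
      rw [Subgroup.mem_centralizer_singleton_iff]
      have := hwc.map (MulAut.conj e)
      exact this.eq
    have hb := fpf hS (x := e * (u * v) * e⁻¹) ⟨hxD, by rw [t_inv hS]; exact hxi⟩ hx1
    have : e * w * e⁻¹ = 1 := (Subgroup.eq_bot_iff_forall _).1 hb _ (Subgroup.mem_inf.2 ⟨hwQ, hwc'⟩)
    exact hw1 (conj_eq_one_iff.1 this)

end Cfsg.Agent.Lie.R1
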