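import Cfsg.Agent.Lib.Lie.RankOne

/-!
Fixed points of subsets of the two-point stabiliser in the rank-one set-up.
-/

set_option autoImplicit false

namespace Cfsg.Agent.Lie.R1

open Cfsg MulAction

variable {G Ω : Type*} [Group G] [MulAction G Ω] {a : Ω} {t : G} {Q : Subgroup G}
  (hS : IsRankOneSetup G Ω a t Q) {X : Set G} (hX : X ⊆ (D G a t : Set G))

include hS hX

theorem fix_points {x : G} (hx : x ∈ X) : x • a = a ∧ x • (t • a) = t • a :=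
  Subgroup.mem_inf.1 (hX hx)

theorem cent_q {q : G} (hq : q ∈ Q) (hf : ∀ x ∈ X, x • (q • (t • a)) = q • (t • a)) :
    q ∈ Subgroup.centralizer X := by
  rw [Subgroup.mem_centralizer_iff]
  intro x hx
  obtain ⟨h1, h2⟩ := fix_points hS hX hx
  have h3 : x * q * x⁻¹ ∈ Q := conj_Q hS h1 hq
  have := q_unique hS h3 hq (by rw [mul_smul, mul_smul, inv_smul_eq_iff.2 h2.symm]; exact hf x hx)
  exact mul_inv_eq_iff_eq_mul.1 this

omit hS hX in
theorem cent_fix {g : G} (hg : g ∈ Subgroup.centralizer X) {b : Ω} (hb : ∀ x ∈ X, x • b = b) :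
    ∀ x ∈ X, x • (g • b) = g • b := fun x hx => by
  rw [smul_smul, Subgroup.mem_centralizer_iff.1 hg x hx, mul_smul, hb x hx]

/-- From t • a to any other fixed point. -/
theorem move_Q {b : Ω} (hb : b ≠ a) (hf : ∀ x ∈ X, x • b = b) :
    ∃ g ∈ Subgroup.centralizer X, g ∈ Q ∧ g • (t • a) = b := by
  obtain ⟨q, hq, rfl⟩ := exists_q hS hb
  exact ⟨q, cent_q hS hX hq hf, hq, rfl⟩

/-- From a to any other fixed point. -/
theorem move_Q' {b : Ω} (hb : b ≠ t • a) (hf : ∀ x ∈ X, x • b = b) :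
    ∃ g ∈ Subgroup.centralizer X, g • (t • a) = t • a ∧ g • a = b := by
  have hX' : (fun x => t * x * t) '' X ⊆ (D G a t : Set G) := by
    rintro _ ⟨x, hx, rfl⟩; exact tDt hS (hX hx)
  obtain ⟨q, hqc, hq, hqe⟩ := move_Q hS hX' (b := t • b) (fun h => hb (by rw [← h, smul_smul, hS.mul_self, one_smul]))
    (by
      rintro _ ⟨x, hx, rfl⟩
      rw [smul_smul, show t * x * t * t = t * x * (t * t) by group, hS.mul_self, mul_one, mul_smul, hf x hx])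
  refine ⟨t * q * t, Subgroup.mem_centralizer_iff.2 fun x hx => ?_, ?_, ?_⟩
  · have h := congrArg (fun y => t * y * t) (Subgroup.mem_centralizer_iff.1 hqc _ ⟨x, hx, rfl⟩)
    simpa [mul_assoc, tt hS, hS.mul_self] using h
  · rw [mul_smul, mul_smul, tta hS, fix_a hS hq]
  · rw [mul_smul, mul_smul, hqe, smul_smul, hS.mul_self, one_smul]

variable (h3 : ∃ b c d : Ω, b ≠ c ∧ b ≠ d ∧ c ≠ d ∧ ∀ x ∈ X, x • b = b ∧ x • c = c ∧ x • d = d)

include h3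

omit hS hX in
theorem third (y z : Ω) : ∃ c, c ≠ y ∧ c ≠ z ∧ ∀ x ∈ X, x • c = c := by
  obtain ⟨b, c, d, h1, h2, h4, hf⟩ := h3
  by_cases hb : b ≠ y ∧ b ≠ z
  · exact ⟨b, hb.1, hb.2, fun x hx => (hf x hx).1⟩
  by_cases hc : c ≠ y ∧ c ≠ z
  · exact ⟨c, hc.1, hc.2, fun x hx => (hf x hx).2.1⟩
  refine ⟨d, fun h => ?_, fun h => ?_, fun x hx => (hf x hx).2.2⟩ <;>
    (simp only [not_and_or, not_not] at hb hc; rcases hb with hb | hb <;> rcases hc with hc | hc <;>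
      simp_all)

theorem to_pair {b₁ b₂ : Ω} (hne : b₁ ≠ b₂) (hf1 : ∀ x ∈ X, x • b₁ = b₁) (hf2 : ∀ x ∈ X, x • b₂ = b₂) :
    ∃ g ∈ Subgroup.centralizer X, g • a = b₁ ∧ g • (t • a) = b₂ := by
  obtain ⟨g, hg, hge⟩ : ∃ g ∈ Subgroup.centralizer X, g • a = b₁ := by
    by_cases hb : b₁ = t • a
    · obtain ⟨c, hca, hcb, hcf⟩ := third h3 a (t • a)
      obtain ⟨g1, hg1, -, hg1e⟩ := move_Q' hS hX hcb hcf
      obtain ⟨q, hq, -, hqe⟩ := move_Q hS hX hca hcf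
      exact ⟨q⁻¹ * g1, mul_mem (inv_mem hq) hg1, by rw [mul_smul, hg1e, ← hqe, inv_smul_smul, hb]⟩
    · obtain ⟨g, hg, -, hge⟩ := move_Q' hS hX hb hf1
      exact ⟨g, hg, hge⟩
  obtain ⟨q, hq, hqQ, hqe⟩ := move_Q hS hX (b := g⁻¹ • b₂)
    (fun h => hne (by rw [inv_smul_eq_iff, hge] at h; exact h.symm)) (cent_fix (inv_mem hg) hf2)
  exact ⟨g * q, mul_mem hg hq, by rw [mul_smul, fix_a hS hqQ, hge], by rw [mul_smul, hqe, smul_inv_smul]⟩

theorem two_trans_fix {b₁ b₂ c₁ c₂ : Ω} (hb : b₁ ≠ b₂) (hc : c₁ ≠ c₂)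
    (hf : ∀ x ∈ X, x • b₁ = b₁ ∧ x • b₂ = b₂ ∧ x • c₁ = c₁ ∧ x • c₂ = c₂) :
    ∃ g ∈ Subgroup.centralizer X, g • b₁ = c₁ ∧ g • b₂ = c₂ := by
  obtain ⟨g, hg, h1, h2⟩ := to_pair hS hX h3 hb (fun x hx => (hf x hx).1) (fun x hx => (hf x hx).2.1)
  obtain ⟨g', hg', h1', h2'⟩ := to_pair hS hX h3 hc (fun x hx => (hf x hx).2.2.1) (fun x hx => (hf x hx).2.2.2)
  exact ⟨g' * g⁻¹, mul_mem hg' (inv_mem hg), by rw [mul_smul, ← h1, inv_smul_smul, h1'],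
    by rw [mul_smul, ← h2, inv_smul_smul, h2']⟩

variable [Finite G]

theorem swap_fix : ∃ τ ∈ Subgroup.centralizer X, τ * τ = 1 ∧ τ • a = t • a := by
  obtain ⟨g, hg, h1, h2⟩ := to_pair hS hX h3 (ta_ne hS) (fun x hx => (fix_points hS hX hx).2)
    (fun x hx => (fix_points hS hX hx).1)
  have hD : g * g ∈ D G a t := by
    constructor
    · show (g * g) • a = a
      rw [mul_smul, h1, h2]
    · show (g * g) • (t • a) = t • a
      rw [mul_smul, h2, h1]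
  obtain ⟨j, hj⟩ := Odd.of_dvd_nat hS.odd_card (Subgroup.orderOf_dvd_natCard _ hD)
  refine ⟨g ^ orderOf (g * g), pow_mem hg _, ?_, ?_⟩
  · rw [← (Commute.refl g).mul_pow, pow_orderOf_eq_one]
  · rw [hj, pow_succ', pow_mul, mul_smul, pow_two]
    have : (g * g) ^ j ∈ D G a t := pow_mem hD j
    rw [show ((g * g) ^ j) • a = a from (Subgroup.mem_inf.1 this).1, h1]

theorem conj_to_V : ∃ k ∈ D G a t, ∀ x ∈ X, (k * x * k⁻¹) * t = t * (k * x * k⁻¹) := by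
  obtain ⟨τ, hτ, hτ2, hτa⟩ := swap_fix hS hX h3
  obtain ⟨l, hl, -, hle⟩ := swap_conj hS hτa hτ2
  refine ⟨l, hl, fun x hx => ?_⟩
  have := Subgroup.mem_centralizer_iff.1 hτ x hx
  rw [← hle] at this
  have h := congrArg (fun y => l * y * l⁻¹) this
  simpa [mul_assoc] using h

theorem even_cent : Even (Nat.card ↥(Subgroup.centralizer X ⊓ Q)) := by
  obtain ⟨τ, hτ, hτ2, hτa⟩ := swap_fix hS hX h3
  have hτ1 : τ ≠ 1 := fun h => ta_ne hS (by rw [← hτa, h, one_smul])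
  obtain ⟨c, hc, hcu⟩ := inv_one_fix hS hτ1 hτ2
  have hca : c ≠ a := fun h => ta_ne hS (by rw [← hτa, ← h, hc])
  have hcf : ∀ x ∈ X, x • c = c := fun x hx => hcu _ (by
    show τ • (x • c) = x • c
    rw [smul_smul, ← Subgroup.mem_centralizer_iff.1 hτ x hx, mul_smul, hc])
  obtain ⟨r, hr, hrQ, hre⟩ := move_Q hS hX hca hcf
  have hτta : τ • (t • a) = a := by rw [← hτa, smul_smul, hτ2, one_smul]
  set s := τ * (r⁻¹ * τ * r) * τ with hs
  have hsC : s ∈ Subgroup.centralizer X := mul_mem (mul_mem hτ (mul_mem (mul_mem (inv_mem hr) hτ) hr)) hτ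
  have hsa : s • a = a := by
    simp only [hs, mul_smul, hτa, hre, hc]
    rw [← hre, inv_smul_smul, hτta]
  have hs2 : s * s = 1 := by
    rw [hs, show τ * (r⁻¹ * τ * r) * τ * (τ * (r⁻¹ * τ * r) * τ) = τ * r⁻¹ * τ * r * (τ * τ) * r⁻¹ * τ * r * τ by group,
      hτ2, show τ * r⁻¹ * τ * r * 1 * r⁻¹ * τ * r * τ = τ * r⁻¹ * (τ * τ) * r * τ by group, hτ2,
      show τ * r⁻¹ * 1 * r * τ = τ * τ by group, hτ2]
  have hs1 : s ≠ 1 := fun h => hτ1 (by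
    have h' := congrArg (fun y => r * (τ⁻¹ * y * τ⁻¹) * r⁻¹) h
    simp only [hs] at h'
    rw [show r * (τ⁻¹ * (τ * (r⁻¹ * τ * r) * τ) * τ⁻¹) * r⁻¹ = τ by group,
      show r * (τ⁻¹ * 1 * τ⁻¹) * r⁻¹ = r * (τ * τ)⁻¹ * r⁻¹ by group, hτ2, inv_one, mul_one, mul_inv_cancel] at h'
    exact h')
  have hmem : s ∈ Subgroup.centralizer X ⊓ Q := ⟨hsC, inv_mem_Q hS hsa hs2⟩
  have ho : orderOf s = 2 := orderOf_eq_prime (by rw [pow_two, hs2]) hs1
  rw [even_iff_two_dvd, ← ho]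
  exact Subgroup.orderOf_dvd_natCard _ hmem

omit h3 [Finite G] in
theorem cent_sup : (Subgroup.centralizer X ⊓ Q) ⊔ (Subgroup.centralizer X ⊓ D G a t) =
    Subgroup.centralizer X ⊓ stabilizer G a := by
  refine le_antisymm (sup_le (inf_le_inf_left _ hS.le) (inf_le_inf_left _ inf_le_left)) ?_
  rintro g ⟨hgC, hga⟩
  obtain ⟨q, hq, d, hd, rfl⟩ := mem_sup hS hga
  have hqe : (q * d) • (t • a) = q • (t • a) := by rw [mul_smul, (Subgroup.mem_inf.1 hd).2]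
  have hqC : q ∈ Subgroup.centralizer X := cent_q hS hX hq (by
    rw [← hqe]; exact cent_fix hgC fun x hx => (fix_points hS hX hx).2)
  refine Subgroup.mul_mem_sup ⟨hqC, hq⟩ ⟨?_, hd⟩
  simpa using mul_mem (inv_mem hqC) hgC

end Cfsg.Agent.Lie.R1
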