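import Cfsg.Agent.Lib.Lie.RankOneCN
import Cfsg.Agent.Lib.Lie.OddSmall.Transitive

/-!
The rank-one set-up: the elements of the two-point stabiliser inverted by `t` form a cyclic normal subgroup, and
the centralizer of `t` there is cyclic modulo the kernel of the action on the involutions of the point stabiliser.
-/

set_option autoImplicit false
set_option linter.unusedSectionVars false
set_option linter.style.haveILetI false

namespace Cfsg.Agent.Lie.R1

open Cfsg MulAction

variable {G Ω : Type*} [Group G] [Finite G] [MulAction G Ω] {a : Ω} {t : G} {Q : Subgroup G}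
  (hS : IsRankOneSetup G Ω a t Q)
  (h2 : ∃ x y : G, x ≠ 1 ∧ y ≠ 1 ∧ x ≠ y ∧ x * x = 1 ∧ y * y = 1 ∧ x * y = y * x)

include hS h2 in
set_option maxHeartbeats 1600000 in
/-- The inverted elements are the powers of one of them, and the elements centralizing `t` are the products of one
power of a fixed `v` with an element acting trivially on the involutions of the point stabiliser. -/
theorem torus : ∃ z ∈ invertedBy (D G a t) t, invertedBy (D G a t) t = (Subgroup.zpowers z : Set G) ∧
    ∃ v ∈ D G a t ⊓ Subgroup.centralizer {t}, ∀ u ∈ D G a t ⊓ Subgroup.centralizer {t},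
      ∃ k : ℤ, v ^ (-k) * u ∈ D G a t ⊓ Subgroup.centralizer {t} ⊓
        Subgroup.centralizer (invertedBy (D G a t) t) := by
  classical
  set D' := D G a t with hD'def
  have htc : ∀ y : G, t * (t * y) = y := tt hS
  have hti : t⁻¹ = t := t_inv hS
  -- the involutions of `G_a` with 1
  let V : Subgroup G :=
    { carrier := insert 1 (involutionsIn (stabilizer G a : Set G))
      one_mem' := Set.mem_insert _ _
      mul_mem' := by
        rintro x y (rfl | hx) hy
        · simpa using hy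
        rcases hy with rfl | hy
        · simpa using Or.inr hx
        exact (closed hS h2 hx hy).imp id id
      inv_mem' := by
        rintro x (rfl | hx)
        · simp
        · rw [show x⁻¹ = x from inv_eq_of_mul_eq_one_left hx.2.2]
          exact Or.inr hx }
  have hVinv : ∀ x : V, x ≠ 1 → (x : G) ∈ involutionsIn (stabilizer G a : Set G) := fun x hx =>
    x.2.resolve_left fun h => hx (Subtype.ext h)
  have hVcomm : ∀ x y : V, x * y = y * x := fun x y => by
    by_cases hx : x = 1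
    · simp [hx]
    by_cases hy : y = 1
    · simp [hy]
    exact Subtype.ext ((central hS h2 (hVinv x hx)).2 y (central hS h2 (hVinv y hy)).1)
  letI : CommGroup V := { (inferInstance : Group V) with mul_comm := hVcomm }
  -- the action
  have hconjV : ∀ d ∈ D', ∀ x ∈ V, d * x * d⁻¹ ∈ V := by
    rintro d hd x (rfl | hx)
    · simp
    · refine Or.inr ⟨mul_mem (mul_mem (Subgroup.mem_inf.1 hd).1 hx.1) (inv_mem (Subgroup.mem_inf.1 hd).1), ?_, ?_⟩
      · exact fun h => hx.2.1 (conj_eq_one_iff.1 h)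
      · rw [show d * x * d⁻¹ * (d * x * d⁻¹) = d * (x * x) * d⁻¹ by group, hx.2.2]; group
  let φ : D' →* MulAut V :=
    { toFun := fun d =>
        { toFun := fun x => ⟨(d : G) * x * (d : G)⁻¹, hconjV d d.2 x x.2⟩
          invFun := fun x => ⟨(d : G)⁻¹ * x * (d : G)⁻¹⁻¹, hconjV _ (inv_mem d.2) x x.2⟩
          left_inv := fun x => Subtype.ext (by simp [mul_assoc])
          right_inv := fun x => Subtype.ext (by simp [mul_assoc])
          map_mul' := fun x y => Subtype.ext (by simp [mul_assoc]) }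
      map_one' := MulEquiv.ext fun x => Subtype.ext (by simp)
      map_mul' := fun c d => MulEquiv.ext fun x => Subtype.ext (by simp [mul_assoc]) }
  have hφ : ∀ (d : D') (x : V), ((φ d x : V) : G) = (d : G) * x * (d : G)⁻¹ := fun d x => rfl
  -- the kernel
  have hker : ∀ d : D', φ d = 1 ↔ (d : G) ∈ D' ⊓ Subgroup.centralizer (involutionsIn (stabilizer G a : Set G)) := by
    intro d
    constructor
    · intro h
      refine Subgroup.mem_inf.2 ⟨d.2, Subgroup.mem_centralizer_iff.2 fun s hs => ?_⟩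
      have := congrArg (fun e : MulAut V => ((e ⟨s, Or.inr hs⟩ : V) : G)) h
      simp only [hφ, MulAut.one_apply] at this
      exact (mul_inv_eq_iff_eq_mul.1 this).symm
    · intro h
      refine MulEquiv.ext fun x => Subtype.ext ?_
      rw [hφ, MulAut.one_apply]
      by_cases hx : x = 1
      · simp [hx]
      rw [← Subgroup.mem_centralizer_iff.1 (Subgroup.mem_inf.1 h).2 _ (hVinv x hx), mul_inv_cancel_right]
  have hkt : ∀ d : D', φ d = 1 → t * (d : G) * t = d := fun d h => by
    have h' := (hker d).1 h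
    rw [← cent_K hS] at h'
    have := Subgroup.mem_centralizer_singleton_iff.1 (Subgroup.mem_inf.1 (Subgroup.mem_inf.1 h').1).2
    rw [← this, mul_assoc, hS.mul_self, mul_one]
  -- the transitive action on `Additive V`
  set B := φ.range with hB
  letI : DistribMulAction B (Additive V) :=
    { smul := fun f x => Additive.ofMul ((f : MulAut V) x.toMul)
      one_smul := fun x => rfl
      mul_smul := fun f g x => rfl
      smul_zero := fun f => congrArg Additive.ofMul (map_one (f : MulAut V))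
      smul_add := fun f x y => congrArg Additive.ofMul (map_mul (f : MulAut V) x.toMul y.toMul) }
  haveI : FaithfulSMul B (Additive V) :=
    ⟨fun {f g} h => Subtype.ext (MulEquiv.ext fun x => Additive.ofMul.injective (h (Additive.ofMul x)))⟩
  obtain ⟨s, s', hs, hs', hss'⟩ := two_inv hS h2
  haveI : Nontrivial (Additive V) := ⟨⟨Additive.ofMul ⟨s, Or.inr hs⟩, 0, fun h => hs.2.1
    (congrArg (fun x : Additive V => ((x.toMul : V) : G)) h)⟩⟩
  have hodd : Odd (Nat.card B) := hS.odd_card.of_dvd_nat (Subgroup.card_range_dvd φ)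
  have hE : ∀ e : Additive V, 2 • e = 0 := fun e => by
    rw [two_nsmul]
    refine Additive.toMul.injective (Subtype.ext ?_)
    show ((e.toMul : V) : G) * (e.toMul : V) = 1
    by_cases he : e.toMul = 1
    · simp [he]
    · exact (hVinv _ he).2.2
  have htrans : ∀ x y : Additive V, x ≠ 0 → y ≠ 0 → ∃ f : B, f • x = y := by
    intro x y hx hy
    have hx' := hVinv x.toMul fun h => hx (Additive.toMul.injective h)
    have hy' := hVinv y.toMul fun h => hy (Additive.toMul.injective h)
    obtain ⟨k, hk, hke⟩ := K_trans hS hx'.1 hx'.2.1 hx'.2.2 hy'.1 hy'.2.1 hy'.2.2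
    refine ⟨⟨φ ⟨k⁻¹, inv_mem hk.1⟩, _, rfl⟩, Additive.toMul.injective (Subtype.ext ?_)⟩
    show k⁻¹ * ((x.toMul : V) : G) * k⁻¹⁻¹ = _
    rw [inv_inv, hke]
  obtain ⟨C, hCn, hCcyc, hCfit, hCfpf, hCcent, w, hw, -⟩ := OddSmall.structure_theorem hodd hE htrans
  haveI := hCn
  -- inversion on the torus
  set τ : D' → D' := fun d => ⟨t * d * t, tDt hS d.2⟩ with hτ
  have hτmul : ∀ c d : D', τ (c * d) = τ c * τ d := fun c d => Subtype.ext (by simp [hτ, mul_assoc, htc])
  let τh : D' →* D' := MonoidHom.mk' τ hτmul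
  have hττ : ∀ d : D', τ (τ d) = d := fun d => Subtype.ext (by simp [hτ, mul_assoc, htc, hS.mul_self])
  have hwell : ∀ c d : D', φ c = φ d → φ (τ c) = φ (τ d) := by
    intro c d h
    have h1 : φ (c⁻¹ * d) = 1 := by rw [map_mul, map_inv, h, inv_mul_cancel]
    have h2 : τ (c⁻¹ * d) = c⁻¹ * d := Subtype.ext (hkt _ h1)
    have h3 : φ (τ c * τ (c⁻¹ * d)) = φ (τ c) := by rw [h2, map_mul, h1, mul_one]
    rw [← hτmul, mul_inv_cancel_left] at h3
    exact h3.symm
  choose pre hpre using fun f : B => MonoidHom.mem_range.1 f.2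
  let T : B ≃* B :=
    { toFun := fun f => ⟨φ (τ (pre f)), _, rfl⟩
      invFun := fun f => ⟨φ (τ (pre f)), _, rfl⟩
      left_inv := fun f => Subtype.ext (by
        show φ (τ (pre _)) = _
        rw [hwell _ (τ (pre f)) (hpre _), hττ, hpre])
      right_inv := fun f => Subtype.ext (by
        show φ (τ (pre _)) = _
        rw [hwell _ (τ (pre f)) (hpre _), hττ, hpre])
      map_mul' := fun f g => Subtype.ext (by
        show φ (τ (pre (f * g))) = φ (τ (pre f)) * φ (τ (pre g))
        rw [← map_mul, ← hτmul]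
        exact hwell _ _ (by rw [hpre, map_mul, hpre, hpre]; rfl)) }
  have hTφ : ∀ d : D', (T ⟨φ d, d, rfl⟩ : MulAut V) = φ (τ d) := fun d => hwell _ _ (hpre _)
  have hTC : ∀ c ∈ C, T c ∈ C := by
    intro c hc
    have hn : (C.map T.toMonoidHom).Normal := hCn.map _ T.surjective
    have hnil : Group.IsNilpotent (C.map T.toMonoidHom) := by
      haveI : Group.IsNilpotent C := by rw [hCfit]; exact Solv.fittingSubgroup_nilpotent
      exact Group.nilpotent_of_mulEquiv (C.equivMapOfInjective T.toMonoidHom T.injective)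
    exact hCfit ▸ (le_sSup ⟨hn, hnil⟩ : C.map T.toMonoidHom ≤ Cfsg.fittingSubgroup B) ⟨c, hc, rfl⟩
  -- decomposition
  have hdec : ∀ d : D', ∃ y z : D', d = y * z ∧ t * (y : G) * t = y ∧ t * (z : G) * t = (z : G)⁻¹ := by
    intro d
    obtain ⟨z, hz, hzi, hy⟩ := exists_decomp hS.mul_self (fun x hx => tDt hS hx) hS.odd_card d.2
    exact ⟨⟨_, mul_mem d.2 (inv_mem hz)⟩, ⟨z, hz⟩, Subtype.ext (by simp), hy, hzi⟩
  obtain ⟨s₀, r₀, e0, e1, e2, e3, e4⟩ := exists_pair hS
  have hfix : ∀ y : D', t * (y : G) * t = y → (⟨φ y, y, rfl⟩ : B) ∈ C → φ y = 1 := by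
    intro y hy hyC
    by_contra hne
    have hc : Commute (y : G) s₀ := (cent_pair hS e0 e1 e2 e3 e4 y.2).1 (by
      show (y : G) * t = t * y
      conv_lhs => rw [← hy]
      rw [mul_assoc, hS.mul_self, mul_one])
    have h := hCfpf _ hyC (fun h => hne (congrArg Subtype.val h)) (Additive.ofMul ⟨s₀, Or.inr ⟨e0, e1, e2⟩⟩)
      (Additive.toMul.injective (Subtype.ext (by
        show (y : G) * s₀ * (y : G)⁻¹ = s₀
        rw [hc.eq, mul_inv_cancel_right])))
    exact e1 (congrArg (fun x : Additive V => ((x.toMul : V) : G)) h)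
  have hodd' : ∀ f : B, f * f = 1 → f = 1 := fun f hf => by
    have h := sqrt_unique (G := B) (X := (⊤ : Subgroup B)) (by rwa [Subgroup.card_top]) (Subgroup.mem_top f)
      (one_mem _) (by rw [hf, one_mul])
    exact h
  have hTinv : ∀ c ∈ C, T c = c⁻¹ := by
    intro c hc
    set f := c * T c with hf
    have hfC : f ∈ C := mul_mem hc (hTC c hc)
    have hTT : T (T c) = c := T.left_inv c
    have hcomm : c * T c = T c * c :=
      congrArg Subtype.val ((IsCyclic.isMulCommutative (α := C)).is_comm.comm ⟨c, hc⟩ ⟨T c, hTC c hc⟩)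
    have hTf : T f = f := by rw [hf, map_mul, hTT, ← hcomm]
    obtain ⟨d, hd⟩ := MonoidHom.mem_range.1 f.2
    obtain ⟨y, z, rfl, hy, hz⟩ := hdec d
    have hτz : τ z = z⁻¹ := Subtype.ext hz
    have hτy : τ y = y := Subtype.ext hy
    have h1 : φ (τ (y * z)) = φ (y * z) := by
      rw [← hTφ, show (⟨φ (y * z), _, rfl⟩ : B) = f from Subtype.ext hd, hTf, hd]
    rw [hτmul, hτy, hτz, map_mul, map_mul, map_inv, mul_left_cancel_iff, inv_eq_iff_mul_eq_one] at h1
    have hz1 : φ z = 1 := congrArg Subtype.val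
      (hodd' ⟨φ z, z, rfl⟩ (Subtype.ext h1))
    rw [map_mul, hz1, mul_one] at hd
    have := hfix y hy (by rw [show (⟨φ y, y, rfl⟩ : B) = f from Subtype.ext hd]; exact hfC)
    have hf1 : c * T c = 1 := Subtype.ext (hd.symm.trans this)
    exact (inv_eq_of_mul_eq_one_right hf1).symm
  -- inverted elements lie in the torus
  have hJC : ∀ j : D', t * (j : G) * t = (j : G)⁻¹ → (⟨φ j, j, rfl⟩ : B) ∈ C := by
    intro j hj
    set x : B := ⟨φ j, j, rfl⟩ with hx
    have hTx : T x = x⁻¹ := Subtype.ext (by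
      rw [hTφ, show τ j = j⁻¹ from Subtype.ext hj, map_inv]; rfl)
    have hx2 : x * x ∈ C := by
      refine hCcent (Subgroup.mem_centralizer_iff.2 fun c hc => ?_)
      have h1 := hTinv _ (hCn.conj_mem c hc x)
      rw [map_mul, map_mul, map_inv, hTx, hTinv c hc, inv_inv] at h1
      have h2 : x * x * c⁻¹ = c⁻¹ * (x * x) := by
        rw [show x * c * x⁻¹ = x * c * x⁻¹ from rfl] at h1
        have := congrArg (fun e => x * e * x) h1
        simp only [_root_.mul_inv_rev, inv_inv, mul_assoc, inv_mul_cancel, mul_one, mul_inv_cancel_left] at this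
        simpa [mul_assoc] using this.symm
      have h3 : x * x * c = c * (x * x) := by
        simpa using ((show Commute (x * x) c⁻¹ from h2).inv_right).eq
      exact h3.symm
    obtain ⟨k, hk⟩ : ∃ k : ℕ, x = (x * x) ^ k := by
      obtain ⟨k, hk⟩ := hodd.of_dvd_nat (orderOf_dvd_natCard x)
      refine ⟨k + 1, ?_⟩
      rw [← pow_two, ← pow_mul, show 2 * (k + 1) = orderOf x + 1 by omega, pow_succ, pow_orderOf_eq_one, one_mul]
    rw [hk]
    exact pow_mem hx2 k
  -- a generator
  obtain ⟨⟨g, hgC⟩, hg⟩ := hCcyc.exists_generator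
  obtain ⟨d, hd⟩ := MonoidHom.mem_range.1 g.2
  obtain ⟨y, z, rfl, hy, hz⟩ := hdec d
  have hyC : (⟨φ y, y, rfl⟩ : B) ∈ C := by
    have : (⟨φ y, y, rfl⟩ : B) = g * (⟨φ z, z, rfl⟩ : B)⁻¹ := Subtype.ext (by
      show φ y = (g : MulAut V) * (φ z)⁻¹
      rw [← hd, map_mul, mul_inv_cancel_right])
    rw [this]
    exact mul_mem hgC (inv_mem (hJC z hz))
  rw [map_mul, hfix y hy hyC, one_mul] at hd
  have hpow : ∀ (x : G), t * x * t = x⁻¹ → ∀ k : ℤ, t * x ^ k * t = (x ^ k)⁻¹ := fun x hx k => by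
    have h := map_zpow (MulAut.conj t) x k
    simp only [MulAut.conj_apply, hti, hx] at h
    rw [h, inv_zpow]
  have hzmem : (z : G) ∈ invertedBy D' t := ⟨z.2, by rw [hti]; exact hz⟩
  refine ⟨z, hzmem, Set.Subset.antisymm ?_ ?_, ?_⟩
  · rintro j ⟨hjD, hji⟩
    rw [hti] at hji
    obtain ⟨i, hi⟩ := hg ⟨_, hJC ⟨j, hjD⟩ hji⟩
    have hi' : φ (z ^ i) = φ ⟨j, hjD⟩ := by
      have := congrArg (fun e : C => ((e : B) : MulAut V)) hi
      simp only [SubgroupClass.coe_zpow] at this
      rw [map_zpow, hd]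
      exact this
    set k : D' := ⟨j, hjD⟩ * (z ^ i)⁻¹ with hk
    have hk1 : φ k = 1 := by rw [hk, map_mul, map_inv, hi', mul_inv_cancel]
    have he : (1 : G) * j = (k : G) * (z : G) ^ i := by simp [hk]
    obtain ⟨-, h⟩ := decomp_unique hS.mul_self hS.odd_card hjD (zpow_mem z.2 i)
      (by rw [mul_one, hS.mul_self]) (hkt k hk1) hji (hpow _ hz i) he
    exact ⟨i, h.symm⟩
  · rintro _ ⟨i, rfl⟩
    exact ⟨zpow_mem z.2 i, by rw [hti]; exact hpow _ hz i⟩
  -- the centralizer of `t`
  set U := D' ⊓ Subgroup.centralizer {t}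
  have hUt : ∀ u ∈ U, t * u * t = u := fun u hu => by
    rw [← Subgroup.mem_centralizer_singleton_iff.1 (Subgroup.mem_inf.1 hu).2, mul_assoc, hS.mul_self, mul_one]
  let ψ : U →* B ⧸ C := (QuotientGroup.mk' C).comp
    (φ.rangeRestrict.comp (Subgroup.inclusion (inf_le_left : U ≤ D')))
  have hcycQ : IsCyclic (B ⧸ C) := ⟨QuotientGroup.mk w, fun x => by
    obtain ⟨f, rfl⟩ := QuotientGroup.mk_surjective x
    have hf : f ∈ C ⊔ Subgroup.zpowers w := hw ▸ Subgroup.mem_top f
    obtain ⟨c, hc, e, ⟨i, rfl⟩, rfl⟩ := Subgroup.mem_sup_of_normal_left.1 hf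
    refine ⟨i, ?_⟩
    show (QuotientGroup.mk w : B ⧸ C) ^ i = QuotientGroup.mk (c * w ^ i)
    rw [QuotientGroup.mk_mul, (QuotientGroup.eq_one_iff c).2 hc, one_mul, QuotientGroup.mk_zpow]⟩
  haveI : IsCyclic ψ.range := Subgroup.isCyclic ψ.range
  obtain ⟨⟨_, v, rfl⟩, hv⟩ := (inferInstance : IsCyclic ψ.range).exists_generator
  refine ⟨v, v.2, fun u hu => ?_⟩
  obtain ⟨i, hi⟩ := hv ⟨ψ ⟨u, hu⟩, _, rfl⟩
  have hi' : ψ v ^ i = ψ ⟨u, hu⟩ := congrArg Subtype.val hi
  refine ⟨i, ?_⟩
  have hmem : (v : G) ^ (-i) * u ∈ U := mul_mem (zpow_mem v.2 _) hu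
  have h1 : ψ (v ^ (-i) * ⟨u, hu⟩) = 1 := by
    rw [map_mul, map_zpow, zpow_neg, hi', inv_mul_cancel]
  have h2' := (QuotientGroup.eq_one_iff _).1 h1
  have h3 := hfix ⟨(v : G) ^ (-i) * u, (Subgroup.mem_inf.1 hmem).1⟩ (hUt _ hmem) (by
    convert h2' using 1
    rfl)
  rw [cent_K hS]
  exact (hker _).1 h3

end Cfsg.Agent.Lie.R1
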