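import Cfsg.Agent.Lib.Lie.ReeThreeIso

/-!
The derived subgroup of ²G₂(3) is `PSL₂` over the field with eight elements.
-/

set_option autoImplicit false
set_option maxRecDepth 100000

namespace Cfsg.Agent.Lie.ReeThree

open Cfsg.Lie Matrix
open scoped MatrixGroups commutatorElement

theorem main {L : Type*} [Field L] [Fintype L] [DecidableEq L] (hL : Fintype.card L = 8) :
    Nat.card ↥(commutator Ree) = 504 ∧
      Nonempty (↥(commutator Ree) ≃* Matrix.ProjectiveSpecialLinearGroup (Fin 2) L) := by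
  classical
  obtain ⟨α, hα⟩ := exists_gen hL
  obtain ⟨g₁, g₂, hg₁, hg₂⟩ := exists_gens
  obtain ⟨a, b, ha, hb⟩ := exists_ab
  obtain ⟨⟨e⟩, hmem, hZ⟩ := iso_small hL hα (theta a) (theta b) ha hb
  set A := Subgroup.closure ({theta a, theta b} : Set (Equiv.Perm (Fin 28))) with hA
  set R := (theta : Ree →* Equiv.Perm (Fin 28)).range with hR
  have hAcard : Nat.card ↥A = 504 := by rw [← Nat.card_congr e.toEquiv, card_SL hL hα]
  have hAR : A ≤ R := (Subgroup.closure_le _).2 fun x hx => by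
    rcases hx with rfl | rfl
    · exact ⟨a, rfl⟩
    · exact ⟨b, rfl⟩
  have hout : theta g₂ ∉ A := fun h => by
    obtain ⟨i, hi, e'⟩ := (hmem _).1 h
    have hc := outside
    rw [← hg₂, e'] at hc
    have : smallPerm.contains (sp i) = true := List.contains_iff_mem.2 (by
      rw [sp, List.getD_eq_getElem _ _ (by rw [small_len.1]; exact hi)]; exact List.getElem_mem _)
    rw [hc] at this
    exact Bool.false_ne_true this
  have hsq : ∀ B : Subgroup (Equiv.Perm (Fin 28)), A ≤ B → theta g₂ ∈ B → B ≤ R → B = R ∧ Nat.card ↥R = 1512 := by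
    intro B hAB hgB hBR
    obtain ⟨k, hk⟩ := hAcard ▸ Subgroup.card_dvd_of_le hAB
    have hk1 : k ≠ 1 := fun e1 => hout (Subgroup.eq_of_le_of_card_ge hAB (by rw [hk, e1, hAcard]) ▸ hgB)
    have hR1512 : Nat.card ↥R ∣ 1512 := card_ree ▸ Subgroup.card_range_dvd theta
    have hB : Nat.card ↥B ∣ 504 * 3 := (Subgroup.card_dvd_of_le hBR).trans hR1512
    rw [hk] at hB
    have hk3 : k = 3 := ((Nat.dvd_prime Nat.prime_three).1 (Nat.dvd_of_mul_dvd_mul_left (by norm_num) hB)).resolve_left hk1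
    have hRle := Nat.le_of_dvd (by norm_num) hR1512
    have heq : B = R := Subgroup.eq_of_le_of_card_ge hBR (by rw [hk, hk3]; omega)
    exact ⟨heq, by rw [← heq, hk, hk3]⟩
  obtain ⟨-, hRcard⟩ := hsq R hAR ⟨g₂, rfl⟩ le_rfl
  have hinj : Function.Injective theta := by
    have hs : Function.Surjective theta.rangeRestrict := MonoidHom.rangeRestrict_surjective _
    have := (Nat.bijective_iff_surjective_and_card theta.rangeRestrict).2 ⟨hs, by rw [card_ree]; exact hRcard.symm⟩
    exact fun x y h => this.1 (Subtype.ext h)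
  -- normality
  have hgen : ∀ x ∈ ({theta a, theta b} : Set (Equiv.Perm (Fin 28))), theta g₂ * x * (theta g₂)⁻¹ ∈ A := by
    intro x hx
    obtain ⟨i, hi, hxi⟩ : ∃ i, i ∈ [aIdx, bIdx] ∧ cd x = sp i := by
      rcases hx with rfl | rfl
      · exact ⟨aIdx, by simp, ha⟩
      · exact ⟨bIdx, by simp, hb⟩
    have h := small_normal
    simp only [List.all_eq_true] at h
    have h' := List.contains_iff_mem.1 (h j0 (by simp) i hi)
    obtain ⟨y, hy, hye⟩ := List.mem_map.1 h'
    obtain ⟨l, hl, rfl⟩ := List.getElem_of_mem hy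
    have hl' : l < 504 := small_len.1 ▸ hl
    have hspl : sp l = smallPerm[l] := List.getD_eq_getElem _ _ hl
    obtain ⟨σ, hσ⟩ : ∃ σ ∈ A, cd σ = sp l := by
      by_contra hne
      push Not at hne
      have hsmall : Nat.card ↥A ≤ Nat.card {i : Fin 504 // i.val ≠ l} := by
        choose fi hfi hfe using fun σ : ↥A => (hmem σ).1 σ.2
        refine Nat.card_le_card_of_injective (fun σ => (⟨⟨fi σ, hfi σ⟩, fun h => hne σ σ.2 (h ▸ hfe σ)⟩ :
          {i : Fin 504 // i.val ≠ l})) fun σ τ h => ?_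
        have h' : fi σ = fi τ := congrArg (fun i : {i : Fin 504 // i.val ≠ l} => i.1.val) h
        exact Subtype.ext (cd_inj (by rw [hfe σ, hfe τ, h']))
      have hlt : Nat.card {i : Fin 504 // i.val ≠ l} < 504 := by
        rw [Nat.card_eq_fintype_card]
        exact lt_of_lt_of_eq (Fintype.card_subtype_lt (x := (⟨l, hl'⟩ : Fin 504)) (by simp)) (Fintype.card_fin 504)
      omega
    have : theta g₂ * x = σ * theta g₂ := cd_inj (by rw [cd_mul, cd_mul, hg₂, hxi, hσ.2, hspl]; exact hye.symm)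
    rw [this, mul_inv_cancel_right]
    exact hσ.1
  have hnorm : R ≤ Subgroup.normalizer (A : Set (Equiv.Perm (Fin 28))) := by
    have hg : theta g₂ ∈ Subgroup.normalizer (A : Set (Equiv.Perm (Fin 28))) := by
      refine Subgroup.mem_normalizer_fintype fun y hy => ?_
      have hle : A ≤ A.comap (MulAut.conj (theta g₂)).toMonoidHom := by
        rw [hA]; exact (Subgroup.closure_le _).2 fun x hx => hgen x hx
      exact hle hy
    obtain ⟨heq, -⟩ := hsq (R ⊓ Subgroup.normalizer (A : Set (Equiv.Perm (Fin 28)))) (le_inf hAR Subgroup.le_normalizer)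
      ⟨⟨g₂, rfl⟩, hg⟩ inf_le_left
    exact inf_eq_left.1 heq
  haveI hnormal : (A.subgroupOf R).Normal := (Subgroup.normal_subgroupOf_iff_le_normalizer hAR).2 hnorm
  have hcommR : ⁅R, R⁆ ≤ A := by
    have hidx : Nat.card (↥R ⧸ A.subgroupOf R) = 3 := by
      have h := Subgroup.card_eq_card_quotient_mul_card_subgroup (A.subgroupOf R)
      rw [Nat.card_congr (Subgroup.subgroupOfEquivOfLe hAR).toEquiv, hAcard, hRcard] at h
      omega
    haveI := Fact.mk Nat.prime_three
    haveI : IsCyclic (↥R ⧸ A.subgroupOf R) := isCyclic_of_prime_card hidx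
    refine Subgroup.commutator_le.2 fun x hx y hy => ?_
    have h1 : (((⁅(⟨x, hx⟩ : ↥R), ⟨y, hy⟩⁆ : ↥R)) : ↥R ⧸ A.subgroupOf R) = 1 := by
      rw [← QuotientGroup.mk'_apply, map_commutatorElement, commutatorElement_eq_one_iff_mul_comm]
      exact IsCyclic.commGroup.mul_comm _ _
    exact (QuotientGroup.eq_one_iff (N := A.subgroupOf R) _).1 h1
  have hperf : A ≤ ⁅R, R⁆ := by
    refine (Subgroup.closure_le _).2 fun x hx => ?_
    obtain ⟨c, d, hc, hd, hxcd⟩ : ∃ c d : ℕ, c < 504 ∧ d < 504 ∧ comp (cd x) (comp (sp d) (sp c)) = comp (sp c) (sp d) := by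
      obtain ⟨h1, h2, h3, h4, h5, h6, -⟩ := small_comm
      rcases hx with rfl | rfl
      · exact ⟨_, _, h3, h4, by rw [ha]; exact h1⟩
      · exact ⟨_, _, h5, h6, by rw [hb]; exact h2⟩
    have hex : ∀ i < 504, ∃ σ ∈ R, cd σ = sp i := by
      intro i hi
      by_contra hne
      push Not at hne
      choose fi hfi hfe using fun σ : ↥A => (hmem σ).1 σ.2
      have hsmall : Nat.card ↥A ≤ Nat.card {k : Fin 504 // k.val ≠ i} := by
        refine Nat.card_le_card_of_injective (fun σ => (⟨⟨fi σ, hfi σ⟩, fun h => hne σ (hAR σ.2) (h ▸ hfe σ)⟩ :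
          {k : Fin 504 // k.val ≠ i})) fun σ τ h => ?_
        have h' : fi σ = fi τ := congrArg (fun k : {k : Fin 504 // k.val ≠ i} => k.1.val) h
        exact Subtype.ext (cd_inj (by rw [hfe σ, hfe τ, h']))
      have hlt : Nat.card {k : Fin 504 // k.val ≠ i} < 504 := by
        rw [Nat.card_eq_fintype_card]
        exact lt_of_lt_of_eq (Fintype.card_subtype_lt (x := (⟨i, hi⟩ : Fin 504)) (by simp)) (Fintype.card_fin 504)
      omega
    obtain ⟨σ, hσ, hσc⟩ := hex c hc
    obtain ⟨τ, hτ, hτd⟩ := hex d hd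
    have e1 : x * (τ * σ) = σ * τ := cd_inj (by rw [cd_mul, cd_mul, cd_mul, hσc, hτd, hxcd])
    have e2 : x = ⁅σ, τ⁆ := by
      rw [commutatorElement_def, eq_mul_inv_of_mul_eq e1]; group
    exact e2 ▸ Subgroup.commutator_mem_commutator hσ hτ
  have hmap : (commutator Ree).map theta = A := by
    rw [commutator_def, Subgroup.map_commutator, ← MonoidHom.range_eq_map]
    exact le_antisymm hcommR hperf
  have e2 : ↥(commutator Ree) ≃* ↥A :=
    ((commutator Ree).equivMapOfInjective theta hinj).trans (MulEquiv.subgroupCongr hmap)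
  refine ⟨by rw [Nat.card_congr e2.toEquiv, hAcard], ⟨e2.trans (e.symm.trans ?_)⟩⟩
  exact QuotientGroup.quotientBot.symm.trans (QuotientGroup.quotientMulEquivOfEq hZ.symm)

end Cfsg.Agent.Lie.ReeThree
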