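import Cfsg.Agent.Lib.Lie.ReeThreePerm
import Cfsg.Agent.Lib.Lie.TwistG2W

/-!
The derived subgroup of ²G₂(3).
-/

set_option autoImplicit false
set_option maxRecDepth 100000

namespace Cfsg.Agent.Lie.ReeThree

open Cfsg.Lie Matrix
open scoped MatrixGroups commutatorElement

theorem card_ree : Nat.card Ree = 1512 := by
  haveI : Fact (Nat.Prime 3) := ⟨Nat.prime_three⟩
  obtain ⟨S⟩ := G2.nonempty_setup (K := ZMod 3) (m := 0) (by rw [ZMod.card]; norm_num)
  have h := S.card_group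
  rw [show (3 : ℕ) ^ 0 = 1 from pow_zero 3] at h
  exact h.trans (by norm_num)

theorem exists_gens : ∃ g₁ g₂ : Ree, cd (theta g₁) = gperm i0 ∧ cd (theta g₂) = gperm j0 := by
  obtain ⟨g₁, h₁⟩ := theta_gen false 0 0 1
  obtain ⟨h0, s, t, u, v, hj⟩ := i0_spec
  obtain ⟨g₂, h₂⟩ := theta_gen s t u v
  exact ⟨g₁, g₂, by rw [h₁, cd_genEquiv, h0], by rw [h₂, cd_genEquiv, hj]⟩

theorem eval_mem (w : List ℕ) : ∃ g : Ree, cd (theta g) = evalWord w := by
  induction w with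
  | nil => exact ⟨1, by rw [map_one, cd_one]; rfl⟩
  | cons k w ih =>
    obtain ⟨g, hg⟩ := ih
    obtain ⟨g₁, g₂, h₁, h₂⟩ := exists_gens
    by_cases hk : k = 0
    · exact ⟨g₁ * g, by rw [map_mul, cd_mul, h₁, hg]; simp [evalWord, pq, hk]⟩
    · exact ⟨g₂ * g, by rw [map_mul, cd_mul, h₂, hg]; simp [evalWord, pq, hk]⟩

theorem exists_ab : ∃ a b : Ree, cd (theta a) = sp aIdx ∧ cd (theta b) = sp bIdx := by
  obtain ⟨a, ha⟩ := eval_mem wordA
  obtain ⟨b, hb⟩ := eval_mem wordB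
  exact ⟨a, b, ha.trans word_eval.1, hb.trans word_eval.2⟩

theorem sn_spec {i : ℕ} (hi : i < 504) : (sn i).1 < 504 ∧ (sn i).2 < 504 ∧ mmul wMat (sm i) = sm (sn i).1 ∧
    mmul gMat (sm i) = sm (sn i).2 ∧ comp (sp aIdx) (sp i) = sp (sn i).1 ∧ comp (sp bIdx) (sp i) = sp (sn i).2 := by
  have h := small_next
  rw [List.all_eq_true] at h
  have := h i (List.mem_range.2 hi)
  simp only [Bool.and_eq_true, Nat.blt_eq, beq_iff_eq] at this
  obtain ⟨⟨⟨⟨⟨h1, h2⟩, h3⟩, h4⟩, h5⟩, h6⟩ := this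
  exact ⟨h1, h2, h3, h4, h5, h6⟩

theorem sm_valid {i : ℕ} (hi : i < 504) : Valid (sm i) := by
  have h := small_bound
  rw [List.all_eq_true] at h
  have hl : i < smallMat.length := by rw [small_len.2]; exact hi
  have := h (sm i) (by rw [sm, List.getD_eq_getElem _ _ hl]; exact List.getElem_mem _)
  simp only [Bool.and_eq_true, Nat.blt_eq, beq_iff_eq] at this
  obtain ⟨⟨⟨⟨h1, h2⟩, h3⟩, h4⟩, h5⟩ := this
  exact ⟨h1, h2, h3, h4, h5⟩

theorem sm_inj {i j : ℕ} (hi : i < 504) (hj : j < 504) (h : sm i = sm j) : i = j := by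
  rw [sm, sm, List.getD_eq_getElem _ _ (by rw [small_len.2]; exact hi),
    List.getD_eq_getElem _ _ (by rw [small_len.2]; exact hj)] at h
  exact (small_nodup.2.getElem_inj_iff).1 h

theorem sp_inj {i j : ℕ} (hi : i < 504) (hj : j < 504) (h : sp i = sp j) : i = j := by
  rw [sp, sp, List.getD_eq_getElem _ _ (by rw [small_len.1]; exact hi),
    List.getD_eq_getElem _ _ (by rw [small_len.1]; exact hj)] at h
  exact (small_nodup.1.getElem_inj_iff).1 h

theorem valid_gens : Valid wMat ∧ Valid gMat := by unfold Valid wMat gMat; decide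

theorem wMat_zero : mmul wMat (1, 0, 0, 1) = wMat ∧ mmul gMat (1, 0, 0, 1) = gMat := by decide

section

variable {L : Type*} [Field L] [Fintype L] [DecidableEq L] {α : L}

/-- an element of `SL₂` from a quadruple -/
def slOf (h : IsGen α) {m : ℕ × ℕ × ℕ × ℕ} (hm : Valid m) : SpecialLinearGroup (Fin 2) L := ⟨mat α m, det_mat h hm⟩

theorem mat_one (α : L) : mat α (1, 0, 0, 1) = 1 := by
  rw [mat, val_one, val_zero, Matrix.one_fin_two]

theorem mmul_lt {A B : ℕ × ℕ × ℕ × ℕ} (hA : Valid A) (hB : Valid B) :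
    (mmul A B).1 < 8 ∧ (mmul A B).2.1 < 8 ∧ (mmul A B).2.2.1 < 8 ∧ (mmul A B).2.2.2 < 8 := by
  obtain ⟨a1, a2, a3, a4, -⟩ := hA
  obtain ⟨b1, b2, b3, b4, -⟩ := hB
  exact ⟨Nat.xor_lt_two_pow (n := 3) (fmul_tab ⟨_, a1⟩ ⟨_, b1⟩).1 (fmul_tab ⟨_, a2⟩ ⟨_, b3⟩).1,
    Nat.xor_lt_two_pow (n := 3) (fmul_tab ⟨_, a1⟩ ⟨_, b2⟩).1 (fmul_tab ⟨_, a2⟩ ⟨_, b4⟩).1,
    Nat.xor_lt_two_pow (n := 3) (fmul_tab ⟨_, a3⟩ ⟨_, b1⟩).1 (fmul_tab ⟨_, a4⟩ ⟨_, b3⟩).1,
    Nat.xor_lt_two_pow (n := 3) (fmul_tab ⟨_, a3⟩ ⟨_, b2⟩).1 (fmul_tab ⟨_, a4⟩ ⟨_, b4⟩).1⟩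

omit [Fintype L] [DecidableEq L] in
theorem mul_comm_codes (h : IsGen α) {A B : ℕ × ℕ × ℕ × ℕ} (hA : Valid A) (hB : Valid B)
    (e : mat α (mmul A B) = mat α (mmul B A)) : mmul A B = mmul B A := by
  obtain ⟨a1, a2, a3, a4⟩ := mmul_lt hA hB
  obtain ⟨b1, b2, b3, b4⟩ := mmul_lt hB hA
  have e1 := congrFun (congrFun e 0) 0
  have e2 := congrFun (congrFun e 0) 1
  have e3 := congrFun (congrFun e 1) 0
  have e4 := congrFun (congrFun e 1) 1
  simp [mat] at e1 e2 e3 e4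
  exact Prod.ext (val_inj h a1 b1 e1) (Prod.ext (val_inj h a2 b2 e2) (Prod.ext (val_inj h a3 b3 e3) (val_inj h a4 b4 e4)))

/-- The pairs of corresponding elements. -/
theorem iso_small (hL : Fintype.card L = 8) (h : IsGen α) (a b : Equiv.Perm (Fin 28)) (ha : cd a = sp aIdx)
    (hb : cd b = sp bIdx) :
    Nonempty (SpecialLinearGroup (Fin 2) L ≃* ↥(Subgroup.closure ({a, b} : Set (Equiv.Perm (Fin 28))))) ∧
      (∀ σ, σ ∈ Subgroup.closure ({a, b} : Set (Equiv.Perm (Fin 28))) ↔ ∃ i < 504, cd σ = sp i) ∧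
      Subgroup.center (SpecialLinearGroup (Fin 2) L) = ⊥ := by
  classical
  set W := slOf h valid_gens.1
  set G := slOf h valid_gens.2
  set Γ : Subgroup (SpecialLinearGroup (Fin 2) L × Equiv.Perm (Fin 28)) := Subgroup.closure {(W, a), (G, b)} with hΓ
  let P : SpecialLinearGroup (Fin 2) L × Equiv.Perm (Fin 28) → ℕ → Prop := fun x i =>
    x.1.1 = mat α (sm i) ∧ cd x.2 = sp i
  have hP1 : P 1 0 := by
    refine ⟨?_, ?_⟩
    · rw [small_zero.2, mat_one]; rfl
    · rw [small_zero.1]; exact cd_one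
  have hPW : ∀ x i, i < 504 → P x i → P ((W, a) * x) (sn i).1 := by
    intro x i hi hx
    obtain ⟨h1, -, h3, -, h5, -⟩ := sn_spec hi
    refine ⟨?_, ?_⟩
    · show mat α wMat * x.1.1 = _
      rw [hx.1, ← mat_mmul h valid_gens.1 (sm_valid hi), h3]
    · show cd (a * x.2) = _
      rw [cd_mul, ha, hx.2, h5]
  have hPG : ∀ x i, i < 504 → P x i → P ((G, b) * x) (sn i).2 := by
    intro x i hi hx
    obtain ⟨-, h2, -, h4, -, h6⟩ := sn_spec hi
    refine ⟨?_, ?_⟩
    · show mat α gMat * x.1.1 = _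
      rw [hx.1, ← mat_mmul h valid_gens.2 (sm_valid hi), h4]
    · show cd (b * x.2) = _
      rw [cd_mul, hb, hx.2, h6]
  have hall : ∀ x ∈ Γ, ∃ i < 504, P x i := by
    intro x hx
    rw [hΓ, ← Subgroup.mem_toSubmonoid, Subgroup.closure_toSubmonoid_of_finite] at hx
    induction hx using Submonoid.closure_induction_left with
    | one => exact ⟨0, by norm_num, hP1⟩
    | mul_left y hy z _ ih =>
      obtain ⟨i, hi, hz⟩ := ih
      rcases hy with rfl | rfl
      · exact ⟨_, (sn_spec hi).1, hPW z i hi hz⟩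
      · exact ⟨_, (sn_spec hi).2.1, hPG z i hi hz⟩
  have hex : ∀ i < 504, ∃ x ∈ Γ, P x i := by
    intro i
    induction i using Nat.strong_induction_on with
    | _ i ih =>
      intro hi
      have hp := small_pred
      rw [List.all_eq_true] at hp
      rcases Bool.or_eq_true _ _ ▸ hp i (List.mem_range.2 hi) with h0 | h0
      · rw [beq_iff_eq] at h0
        exact h0 ▸ ⟨1, Γ.one_mem, hP1⟩
      · rw [List.any_eq_true] at h0
        obtain ⟨j, hj, hji⟩ := h0
        rw [List.mem_range] at hj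
        obtain ⟨x, hxΓ, hx⟩ := ih j hj (by omega)
        simp only [Bool.or_eq_true, beq_iff_eq] at hji
        rcases hji with e | e
        · exact ⟨_, Γ.mul_mem (Subgroup.subset_closure (Set.mem_insert _ _)) hxΓ, e ▸ hPW x j (by omega) hx⟩
        · exact ⟨_, Γ.mul_mem (Subgroup.subset_closure (Set.mem_insert_of_mem _ rfl)) hxΓ, e ▸ hPG x j (by omega) hx⟩
  set p₁ := (MonoidHom.fst (SpecialLinearGroup (Fin 2) L) (Equiv.Perm (Fin 28))).comp Γ.subtype
  set p₂ := (MonoidHom.snd (SpecialLinearGroup (Fin 2) L) (Equiv.Perm (Fin 28))).comp Γ.subtype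
  have hinj1 : Function.Injective p₁ := fun x y e => by
    obtain ⟨i, hi, hx⟩ := hall x x.2
    obtain ⟨j, hj, hy⟩ := hall y y.2
    have e' : x.1.1 = y.1.1 := e
    obtain rfl := sm_inj hi hj (mat_inj h (sm_valid hi) (sm_valid hj) (by rw [← hx.1, ← hy.1, e']))
    exact Subtype.ext (Prod.ext e (cd_inj (hx.2.trans hy.2.symm)))
  have hinj2 : Function.Injective p₂ := fun x y e => by
    obtain ⟨i, hi, hx⟩ := hall x x.2
    obtain ⟨j, hj, hy⟩ := hall y y.2
    have e' : x.1.2 = y.1.2 := e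
    obtain rfl := sp_inj hi hj (by rw [← hx.2, ← hy.2, e'])
    exact Subtype.ext (Prod.ext (Subtype.ext (hx.1.trans hy.1.symm)) e)
  choose el helΓ hel using hex
  have hsurj : Function.Surjective p₁ := by
    refine ((Nat.bijective_iff_injective_and_card p₁).2 ⟨hinj1, le_antisymm (Nat.card_le_card_of_injective p₁ hinj1) ?_⟩).2
    rw [card_SL hL h]
    have := Nat.card_le_card_of_injective (fun i : Fin 504 => (⟨el i.val i.isLt, helΓ i.val i.isLt⟩ : ↥Γ))
      fun i j e => by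
        have e' : el i.val i.isLt = el j.val j.isLt := congrArg Subtype.val e
        exact Fin.ext (sp_inj i.isLt j.isLt (by rw [← (hel i.val i.isLt).2, ← (hel j.val j.isLt).2, e']))
    simpa using this
  have hrange : p₂.range = Subgroup.closure ({a, b} : Set (Equiv.Perm (Fin 28))) := by
    rw [MonoidHom.range_comp, Subgroup.range_subtype, hΓ, MonoidHom.map_closure]
    congr 1
    ext x
    simp [eq_comm]
  refine ⟨⟨(MulEquiv.ofBijective p₁ ⟨hinj1, hsurj⟩).symm.trans ((MonoidHom.ofInjective hinj2).trans (MulEquiv.subgroupCongr hrange))⟩,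
    fun σ => ?_, ?_⟩
  · rw [← hrange]
    constructor
    · rintro ⟨x, rfl⟩
      obtain ⟨i, hi, hx⟩ := hall x x.2
      exact ⟨i, hi, hx.2⟩
    · rintro ⟨i, hi, e⟩
      exact ⟨⟨el i hi, helΓ i hi⟩, cd_inj ((hel i hi).2.trans e.symm)⟩
  · rw [eq_bot_iff]
    intro g hg
    obtain ⟨⟨x, hxΓ⟩, rfl⟩ := hsurj g
    obtain ⟨i, hi, hx⟩ := hall x hxΓ
    have hc := small_center
    rw [List.all_eq_true] at hc
    rcases Bool.or_eq_true _ _ ▸ hc i (List.mem_range.2 hi) with h0 | h0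
    · rw [beq_iff_eq] at h0
      subst h0
      refine Subgroup.mem_bot.2 (Subtype.ext ?_)
      show x.1.1 = 1
      rw [hx.1, small_zero.2, mat_one]
    · exfalso
      simp only [Bool.not_eq_true', Bool.and_eq_false_iff, beq_eq_false_iff_ne, ne_eq] at h0
      have hv : ∀ {m : ℕ × ℕ × ℕ × ℕ} (hm : Valid m),
          mat α (mmul m (sm i)) = mat α (mmul (sm i) m) := fun {m} hm => by
        rw [mat_mmul h hm (sm_valid hi), mat_mmul h (sm_valid hi) hm, ← hx.1]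
        exact congrArg Subtype.val (Subgroup.mem_center_iff.1 hg (slOf h hm))
      rcases h0 with h0 | h0
      · exact h0 (mul_comm_codes h valid_gens.1 (sm_valid hi) (hv valid_gens.1))
      · exact h0 (mul_comm_codes h valid_gens.2 (sm_valid hi) (hv valid_gens.2))

end

end Cfsg.Agent.Lie.ReeThree
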