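import Cfsg.Agent.Lib.Lie.ReeThreeField
import Cfsg.Agent.Lib.Lie.FactsG2
import Cfsg.Agent.Lib.Lie.Group

/-!
The action of ²G₂(3) on 28 lines.
-/

set_option autoImplicit false
set_option maxRecDepth 100000

namespace Cfsg.Agent.Lie.ReeThree

open Cfsg.Lie Matrix
open scoped MatrixGroups

/-- the list of values of a permutation -/
def cd (σ : Equiv.Perm (Fin 28)) : List ℕ := (List.finRange 28).map fun i => (σ i).val

theorem cd_getD (σ : Equiv.Perm (Fin 28)) (i : Fin 28) : (cd σ).getD i.val 0 = (σ i).val := by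
  unfold cd
  rw [List.getD_eq_getElem _ _ (by rw [List.length_map, List.length_finRange]; exact i.isLt), List.getElem_map,
    List.getElem_finRange]
  rfl

theorem cd_mul (σ τ : Equiv.Perm (Fin 28)) : cd (σ * τ) = comp (cd σ) (cd τ) := by
  unfold comp
  conv_rhs => arg 2; unfold cd
  rw [List.map_map]
  refine List.map_congr_left fun i _ => ?_
  rw [Function.comp_apply, cd_getD]
  rfl

theorem cd_one : cd 1 = idL := by decide

theorem cd_inj {σ τ : Equiv.Perm (Fin 28)} (h : cd σ = cd τ) : σ = τ :=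
  Equiv.ext fun i => Fin.ext (by rw [← cd_getD σ, h, cd_getD])

/-- coordinates of a list -/
def vec (l : List ℕ) : chevG2.Idx → ZMod 3 := fun x => (l.getD (idxNat x) 0 : ZMod 3)

theorem sum_zipWith : ∀ (n : ℕ) (row l : List ℕ), row.length = n → l.length = n →
    (List.zipWith (· * ·) row l).sum = ∑ k ∈ Finset.range n, row.getD k 0 * l.getD k 0 := by
  intro n
  induction n with
  | zero =>
    intro row l h1 h2
    rw [List.length_eq_zero_iff] at h1
    subst h1
    rfl
  | succ n ih =>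
    intro row l h1 h2
    obtain ⟨a, row, rfl⟩ := List.exists_cons_of_length_eq_add_one h1
    obtain ⟨b, l, rfl⟩ := List.exists_cons_of_length_eq_add_one h2
    rw [List.zipWith_cons_cons, List.sum_cons, ih row l (by simpa using h1) (by simpa using h2),
      Finset.sum_range_succ', add_comm]
    rfl

theorem idxNat_lt (x : chevG2.Idx) : idxNat x < 14 := by
  rcases x with i | i
  · exact lt_of_lt_of_le i.isLt (by decide)
  · have h : i.val < 12 := lt_of_lt_of_le i.isLt (by decide)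
    show 2 + i.val < 14
    omega

theorem vec_mulv (r : Fin chevG2.nroots) (t : ZMod 3) (l : List ℕ) (hl : l.length = 14) :
    chevG2.xMat (ZMod 3) r t *ᵥ vec l = vec (mulv (tab r.val t) l) := by
  have hr : r.val < 12 := r.isLt
  funext i
  have hlen : (tab r.val t).length = 14 := tab_len ⟨r.val, hr⟩ t
  show ∑ j, chevG2.xMat (ZMod 3) r t i j * vec l j = ((mulv (tab r.val t) l).getD (idxNat i) 0 : ZMod 3)
  rw [mulv, List.getD_eq_getElem _ _ (by rw [List.length_map, hlen]; exact idxNat_lt i), List.getElem_map,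
    ← List.getD_eq_getElem (tab r.val t) [] (by rw [hlen]; exact idxNat_lt i)]
  rw [sum_zipWith 14 _ _ (tab_row ⟨r.val, hr⟩ t ⟨idxNat i, idxNat_lt i⟩) hl]
  rw [ZMod.natCast_mod, Nat.cast_sum]
  rw [Finset.sum_range]
  refine Fintype.sum_equiv (finSumFinEquiv : chevG2.Idx ≃ Fin 14) _ _ fun j => ?_
  have e : xEntry r t i j = _ := root_tab r t i j
  have hidx : ((finSumFinEquiv : chevG2.Idx ≃ Fin 14) j : ℕ) = idxNat j := by
    rcases j with j | j <;> rfl
  rw [hidx, Nat.cast_mul, show chevG2.xMat (ZMod 3) r t i j = _ from e]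
  rfl

theorem mulv_len (r : ℕ) (hr : r < 12) (t : ZMod 3) (l : List ℕ) : (mulv (tab r t) l).length = 14 := by
  rw [mulv, List.length_map]; exact tab_len ⟨r, hr⟩ t

theorem vec_applyW : ∀ (w : List (ℕ × ZMod 3)), (w.all fun p => Nat.blt p.1 12) = true → ∀ l : List ℕ, l.length = 14 →
    chevG2.wordMat (ZMod 3) w *ᵥ vec l = vec (applyW w l) ∧ (applyW w l).length = 14 := by
  intro w
  induction w with
  | nil => exact fun _ l hl => ⟨by rw [ChevalleyDatum.wordMat, List.map_nil, List.prod_nil, one_mulVec]; rfl, hl⟩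
  | cons p w ih =>
    intro hw l hl
    rw [List.all_cons, Bool.and_eq_true, Nat.blt_eq] at hw
    obtain ⟨h1, h2⟩ := ih hw.2 l hl
    have hp : p.1 < chevG2.nroots := hw.1
    refine ⟨?_, mulv_len p.1 hw.1 p.2 _⟩
    rw [ChevalleyDatum.wordMat, List.map_cons, List.prod_cons, ← mulVec_mulVec]
    rw [← ChevalleyDatum.wordMat, h1]
    show chevG2.x (ZMod 3) p.1 p.2 *ᵥ _ = _
    rw [ChevalleyDatum.x, dif_pos hp, vec_mulv ⟨p.1, hp⟩ p.2 _ h2]
    rfl

theorem pt_len : ∀ j : Fin 28, (pt j.val).length = 14 := by decide +kernel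

theorem vec_dbl (l : List ℕ) : vec (dbl l) = (2 : ZMod 3) • vec l := by
  funext x
  show (((l.map fun a => 2 * a % 3).getD (idxNat x) 0 : ℕ) : ZMod 3) = 2 * ((l.getD (idxNat x) 0 : ℕ) : ZMod 3)
  have e : (l.map fun a => 2 * a % 3).getD (idxNat x) 0 = 2 * l.getD (idxNat x) 0 % 3 :=
    List.getD_map (d := 0) (f := fun a => 2 * a % 3) ..
  rw [e, ZMod.natCast_mod, Nat.cast_mul]
  rfl

/-- the vector of a point -/
def vp (j : Fin 28) : chevG2.Idx → ZMod 3 := vec (pt j.val)

theorem vp_inj {i j : Fin 28} (h : vp i = vp j ∨ vp i = (2 : ZMod 3) • vp j) : i = j := by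
  refine pts_distinct i j ?_
  rcases h with h | h
  · exact Or.inl fun x => congrFun h x
  · exact Or.inr fun x => congrFun h x

/-- the matrix induces the permutation on the lines -/
def Rel (g : GL chevG2.Idx (ZMod 3)) (σ : Equiv.Perm (Fin 28)) : Prop :=
  ∀ j, (g : Matrix chevG2.Idx chevG2.Idx (ZMod 3)) *ᵥ vp j = vp (σ j) ∨
    (g : Matrix chevG2.Idx chevG2.Idx (ZMod 3)) *ᵥ vp j = (2 : ZMod 3) • vp (σ j)

theorem two_two (v : chevG2.Idx → ZMod 3) : (2 : ZMod 3) • ((2 : ZMod 3) • v) = v := by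
  rw [smul_smul, show (2 : ZMod 3) * 2 = 1 by decide, one_smul]

theorem Rel.unique {g : GL chevG2.Idx (ZMod 3)} {σ τ : Equiv.Perm (Fin 28)} (h : Rel g σ) (h' : Rel g τ) : σ = τ := by
  refine Equiv.ext fun j => vp_inj ?_
  rcases h j with e | e <;> rcases h' j with e' | e' <;> rw [e] at e'
  · exact Or.inl e'
  · exact Or.inr e'
  · exact Or.inr (by rw [← two_two (vp (σ j)), e'])
  · exact Or.inl (by rw [← two_two (vp (σ j)), e', two_two])

theorem rel_one : Rel 1 1 := fun j => Or.inl (by rw [Units.val_one, one_mulVec]; rfl)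

theorem Rel.mul {g h : GL chevG2.Idx (ZMod 3)} {σ τ : Equiv.Perm (Fin 28)} (hg : Rel g σ) (hh : Rel h τ) :
    Rel (g * h) (σ * τ) := by
  intro j
  rw [Units.val_mul, ← mulVec_mulVec]
  rcases hh j with e | e <;> rcases hg (τ j) with e' | e' <;> rw [e]
  · exact Or.inl e'
  · exact Or.inr e'
  · exact Or.inr (by rw [mulVec_smul, e']; rfl)
  · exact Or.inl (by rw [mulVec_smul, e', two_two]; rfl)

theorem Rel.inv {g : GL chevG2.Idx (ZMod 3)} {σ : Equiv.Perm (Fin 28)} (hg : Rel g σ) : Rel g⁻¹ σ⁻¹ := by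
  intro j
  have key : ∀ v, ((g⁻¹ : GL chevG2.Idx (ZMod 3)) : Matrix chevG2.Idx chevG2.Idx (ZMod 3)) *ᵥ
      ((g : Matrix chevG2.Idx chevG2.Idx (ZMod 3)) *ᵥ v) = v := fun v => by
    rw [mulVec_mulVec, ← Units.val_mul, inv_mul_cancel, Units.val_one, one_mulVec]
  have hs : σ (σ⁻¹ j) = j := σ.apply_symm_apply j
  rcases hg (σ⁻¹ j) with e | e <;> rw [hs] at e
  · exact Or.inl (by rw [← e, key])
  · refine Or.inr ?_
    conv_lhs => rw [← two_two (vp j), ← e, mulVec_smul, key]

theorem gperm_getD_lt (s : Bool) (t u v : ZMod 3) (j : Fin 28) : (gperm (gidx s t u v)).getD j.val 0 < 28 := by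
  obtain ⟨h1, -, h3⟩ := gen_perm s t u v
  rw [List.all_eq_true] at h3
  rw [List.getD_eq_getElem _ _ (by rw [h1]; exact j.isLt)]
  exact Nat.ble_eq.mp (h3 _ (List.getElem_mem _))

/-- the permutation of a generating word -/
noncomputable def genEquiv (s : Bool) (t u v : ZMod 3) : Equiv.Perm (Fin 28) :=
  Equiv.ofBijective (fun j => ⟨_, gperm_getD_lt s t u v j⟩)
    (Finite.injective_iff_bijective.1 fun i j e => by
      obtain ⟨h1, h2, -⟩ := gen_perm s t u v
      have e' := congrArg Fin.val e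
      simp only at e'
      rw [List.getD_eq_getElem _ _ (by rw [h1]; exact i.isLt), List.getD_eq_getElem _ _ (by rw [h1]; exact j.isLt)] at e'
      exact Fin.ext ((h2.getElem_inj_iff).1 e'))

theorem cd_genEquiv (s : Bool) (t u v : ZMod 3) : cd (genEquiv s t u v) = gperm (gidx s t u v) := by
  obtain ⟨h1, -, -⟩ := gen_perm s t u v
  refine List.ext_getElem (by rw [cd, List.length_map, List.length_finRange, h1]) fun i h2 h3 => ?_
  have hi : i < 28 := h1 ▸ h3
  rw [← List.getD_eq_getElem (cd _) 0 h2, cd_getD _ ⟨i, hi⟩]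
  exact List.getD_eq_getElem _ _ h3

theorem rel_gen {g : GL chevG2.Idx (ZMod 3)} (s : Bool) (t u v : ZMod 3)
    (hg : (g : Matrix chevG2.Idx chevG2.Idx (ZMod 3)) = chevG2.wordMat (ZMod 3) (word s t u v)) :
    Rel g (genEquiv s t u v) := by
  intro j
  have h := gen_image s t u v
  rw [List.all_eq_true] at h
  have hj := h j.val (List.mem_range.2 j.isLt)
  rw [hg, vp, (vec_applyW _ (word_roots s t u v) _ (pt_len j)).1]
  rcases Bool.or_eq_true _ _ ▸ hj with e | e <;> rw [beq_iff_eq] at e <;> rw [e]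
  · exact Or.inl rfl
  · exact Or.inr (vec_dbl _)

abbrev Ree : Type := ↥(twistedG2 (ZMod 3) 1)

theorem exists_rel (g : Ree) : ∃ σ, Rel g.1 σ := by
  obtain ⟨g, hg⟩ := g
  induction hg using Subgroup.closure_induction with
  | mem x hx =>
    obtain ⟨w, ⟨t, u, v, hw⟩, hx⟩ := hx
    rcases hw with rfl | rfl
    · exact ⟨_, rel_gen false t u v hx⟩
    · exact ⟨_, rel_gen true t u v hx⟩
  | one => exact ⟨1, rel_one⟩
  | mul x y _ _ hx hy => exact ⟨_, hx.choose_spec.mul hy.choose_spec⟩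
  | inv x _ hx => exact ⟨_, hx.choose_spec.inv⟩

/-- the homomorphism to the permutations of the lines -/
noncomputable def theta : Ree →* Equiv.Perm (Fin 28) where
  toFun g := (exists_rel g).choose
  map_one' := (exists_rel 1).choose_spec.unique rel_one
  map_mul' g h := (exists_rel (g * h)).choose_spec.unique ((exists_rel g).choose_spec.mul (exists_rel h).choose_spec)

theorem theta_gen (s : Bool) (t u v : ZMod 3) : ∃ g : Ree, theta g = genEquiv s t u v := by
  obtain ⟨w, hw⟩ : ∃ w : GL chevG2.Idx (ZMod 3),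
      (w : Matrix chevG2.Idx chevG2.Idx (ZMod 3)) = chevG2.wordMat (ZMod 3) (word s t u v) := by
    refine ⟨((word s t u v).map fun p => factsG2.xg p.1 p.2).prod, ?_⟩
    rw [← Units.coeHom_apply, map_list_prod, List.map_map]
    rfl
  have hmem : w ∈ twistedG2 (ZMod 3) 1 := Subgroup.subset_closure ⟨word s t u v, ⟨t, u, v, by cases s <;> simp [word]⟩, hw⟩
  exact ⟨⟨w, hmem⟩, (exists_rel ⟨w, hmem⟩).choose_spec.unique (rel_gen s t u v hw)⟩

end Cfsg.Agent.Lie.ReeThree
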