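import Mathlib
import Cfsg.Agent.Lib.Solv.PGroupPhi
import Cfsg.Agent.Lib.Fusion.NPC

/-!
A normal section of a 2-group with a simple socle embeds in the regular module.
-/

set_option autoImplicit false
set_option linter.style.haveILetI false
set_option linter.unusedSectionVars false

namespace Cfsg.Agent.Lie.RegularLayer

open scoped commutatorElement

variable {T : Type*} [Group T] [Finite T]

theorem card_double {N M : Subgroup T} (h : N < M) : 2 * Nat.card N ≤ Nat.card M := by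
  obtain ⟨k, hk⟩ := Subgroup.card_dvd_of_le h.le
  have h0 : 0 < Nat.card M := Nat.card_pos
  rcases k with _ | _ | k
  · omega
  · exact absurd (Subgroup.eq_of_le_of_card_ge h.le (by omega)) h.ne
  · rw [hk]; nlinarith [Nat.zero_le (Nat.card N * k)]

theorem mem_or_of_double {M N : Subgroup T} (hMN : M ≤ N) (hc : Nat.card N ≤ 2 * Nat.card M) {x y : T}
    (hx : x ∈ N) (hxM : x ∉ M) (hy : y ∈ N) : y ∈ M ∨ x⁻¹ * y ∈ M := by
  have h1 := (M.subgroupOf N).card_mul_index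
  rw [Nat.card_congr (Subgroup.subgroupOfEquivOfLe hMN).toEquiv] at h1
  have hne : (M.subgroupOf N).index ≠ 1 := fun e => hxM (by
    have : (⟨x, hx⟩ : N) ∈ M.subgroupOf N := (Subgroup.index_eq_one.1 e).symm ▸ Subgroup.mem_top _
    exact this)
  have h2 : (M.subgroupOf N).index = 2 := by
    have hp : 0 < Nat.card M := Nat.card_pos
    have h0 : 0 < (M.subgroupOf N).index := Nat.pos_of_ne_zero Subgroup.index_ne_zero_of_finite
    have h4 : (M.subgroupOf N).index ≤ 2 := by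
      by_contra hlt
      have := Nat.mul_le_mul_left (Nat.card M) (show 3 ≤ (M.subgroupOf N).index by omega)
      omega
    omega
  by_cases hyM : y ∈ M
  · exact Or.inl hyM
  · refine Or.inr ?_
    have h3 := (Subgroup.mul_mem_iff_of_index_two h2 (a := (⟨x, hx⟩ : N)⁻¹) (b := ⟨y, hy⟩)).2
      (iff_of_false (by rw [Subgroup.inv_mem_iff]; exact hxM) hyM)
    exact h3

theorem exists_step [Group.IsNilpotent T] {M : Subgroup T} [M.Normal] :
    ∀ n, ∀ N : Subgroup T, N.Normal → Nat.card N ≤ n → ¬ N ≤ M →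
      ∃ x ∈ N, x ∉ M ∧ ∀ y, ⁅x, y⁆ ∈ M := by
  intro n
  induction n with
  | zero => intro N _ hn; have : 0 < Nat.card N := Nat.card_pos; omega
  | succ n ih =>
    intro N hN hn hNM
    haveI := hN
    by_cases h : ⁅N, (⊤ : Subgroup T)⁆ ≤ M
    · obtain ⟨x, hx, hxM⟩ := SetLike.not_le_iff_exists.1 hNM
      exact ⟨x, hx, hxM, fun y => h (Subgroup.commutator_mem_commutator hx (Subgroup.mem_top y))⟩
    · have hle : ⁅N, (⊤ : Subgroup T)⁆ ≤ N := Subgroup.commutator_le_left N ⊤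
      have hne : ⁅N, (⊤ : Subgroup T)⁆ ≠ N := fun e => h (by
        have := Fusion.eq_bot_of_le_commutator_top e.ge
        rw [e, this]; exact bot_le)
      obtain ⟨x, hx, hxM, hy⟩ := ih ⁅N, ⊤⁆ inferInstance
        (by have := card_double (lt_of_le_of_ne hle hne); have : 0 < Nat.card ↥⁅N, (⊤ : Subgroup T)⁆ := Nat.card_pos; omega) h
      exact ⟨x, hle hx, hxM, hy⟩

theorem normal_le_upper [Group.IsNilpotent T] : ∀ (i : ℕ) (N : Subgroup T), N.Normal → Nat.card N ≤ 2 ^ i →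
    N ≤ Subgroup.upperCentralSeries T i := by
  intro i
  induction i with
  | zero =>
    intro N _ h
    rw [Subgroup.eq_bot_of_card_le N (by simpa using h)]
    exact bot_le
  | succ i ih =>
    intro N hN h
    haveI := hN
    by_cases hb : N = ⊥
    · rw [hb]; exact bot_le
    have hle : ⁅N, (⊤ : Subgroup T)⁆ ≤ N := Subgroup.commutator_le_left N ⊤
    have hne : ⁅N, (⊤ : Subgroup T)⁆ ≠ N := fun e => hb (Fusion.eq_bot_of_le_commutator_top e.ge)
    have hM := ih ⁅N, ⊤⁆ inferInstance (by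
      have := card_double (lt_of_le_of_ne hle hne); rw [pow_succ] at h; omega)
    exact fun x hx => Subgroup.mem_upperCentralSeries_succ_iff.2 fun y =>
      hM (Subgroup.commutator_mem_commutator hx (Subgroup.mem_top y))

theorem exists_index_two {N R : Subgroup T} (hNR : N ≤ R) (hsq : ∀ x ∈ R, x * x ∈ N)
    (hcm : ∀ x ∈ R, ∀ y ∈ R, ⁅x, y⁆ ∈ N) {z : T} (hz : z ∈ R) (hzN : z ∉ N) :
    ∃ L : Subgroup T, N ≤ L ∧ L ≤ R ∧ z ∉ L ∧ (∀ x ∈ R, x ∉ L → x * z ∈ L) ∧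
      Nat.card R ≤ 2 * Nat.card L := by
  classical
  obtain ⟨L, hNL, hmax⟩ := Finite.exists_le_maximal (p := fun L : Subgroup T => L ≤ R ∧ z ∉ L) ⟨hNR, hzN⟩
  obtain ⟨hLR, hzL⟩ := hmax.prop
  have hnorm : ∀ a ∈ R, ∀ l ∈ L, a * l * a⁻¹ ∈ L := fun a ha l hl => by
    rw [show a * l * a⁻¹ = ⁅a, l⁆ * l by rw [commutatorElement_def]; group]
    exact L.mul_mem (hNL (hcm a ha l (hLR hl))) hl
  have hkey : ∀ x ∈ R, x ∉ L → x * z ∈ L := by
    intro x hx hxL
    have hxx : x * x ∈ L := hNL (hsq x hx)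
    have hconj : ∀ {y}, x * y ∈ L → x⁻¹ * (x * y) * x ∈ L := fun {y} hy => by
      simpa using hnorm x⁻¹ (R.inv_mem hx) _ hy
    let L' : Subgroup T :=
      { carrier := {y | y ∈ R ∧ (y ∈ L ∨ x * y ∈ L)}
        one_mem' := ⟨R.one_mem, Or.inl L.one_mem⟩
        mul_mem' := by
          rintro y y' ⟨hy, h⟩ ⟨hy', h'⟩
          refine ⟨R.mul_mem hy hy', ?_⟩
          rcases h with h | h <;> rcases h' with h' | h'
          · exact Or.inl (L.mul_mem h h')
          · refine Or.inr ?_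
            rw [show x * (y * y') = x * y * x⁻¹ * (x * y') by group]
            exact L.mul_mem (hnorm x hx y h) h'
          · refine Or.inr ?_
            rw [← mul_assoc]
            exact L.mul_mem h h'
          · refine Or.inl ?_
            rw [show y * y' = x⁻¹ * (x * y) * x * (x * x)⁻¹ * (x * y') by group]
            exact L.mul_mem (L.mul_mem (hconj h) (L.inv_mem hxx)) h'
        inv_mem' := by
          rintro y ⟨hy, h⟩
          refine ⟨R.inv_mem hy, h.elim (fun h => Or.inl (L.inv_mem h)) fun h => Or.inr ?_⟩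
          rw [show x * y⁻¹ = x * x * (x⁻¹ * (x * y) * x)⁻¹ by group]
          exact L.mul_mem hxx (L.inv_mem (hconj h)) }
    have hle : L ≤ L' := fun l hl => ⟨hLR hl, Or.inl hl⟩
    have hxL' : x ∈ L' := ⟨hx, Or.inr hxx⟩
    by_contra hc
    refine hxL (hmax.2 (y := L') ⟨fun y hy => hy.1, ?_⟩ hle hxL')
    rintro ⟨-, h | h⟩
    · exact hzL h
    · exact hc h
  refine ⟨L, hNL, hLR, hzL, hkey, ?_⟩
  have hf : Function.Injective fun x : R => if h : (x : T) ∈ L then (Sum.inl ⟨x, h⟩ : L ⊕ L)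
      else Sum.inr ⟨(x : T) * z, hkey x x.2 h⟩ := by
    intro a b hab
    dsimp only at hab
    split_ifs at hab with ha hb
    · simp only [Sum.inl.injEq, Subtype.mk.injEq] at hab
      exact Subtype.ext hab
    · simp only [Sum.inr.injEq, Subtype.mk.injEq] at hab
      exact Subtype.ext (mul_right_cancel hab)
  have := Nat.card_le_card_of_injective _ hf
  rw [Nat.card_sum] at this
  omega

/-- The Frattini subgroup of a subgroup, inside the group. -/
abbrev phi (W : Subgroup T) : Subgroup T := (frattini W).map W.subtype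

theorem phi_le (W : Subgroup T) : phi W ≤ W := Subgroup.map_subtype_le _

theorem sq_mem_phi (hT : IsPGroup 2 T) {W : Subgroup T} {x : T} (hx : x ∈ W) : x * x ∈ phi W :=
  haveI : Fact (Nat.Prime 2) := ⟨Nat.prime_two⟩
  ⟨(⟨x, hx⟩ : W) * ⟨x, hx⟩, by rw [← sq]; exact Solv.pow_mem_frattini (hT.to_subgroup W) _, rfl⟩

theorem comm_mem_phi (hT : IsPGroup 2 T) {W : Subgroup T} {x y : T} (hx : x ∈ W) (hy : y ∈ W) : ⁅x, y⁆ ∈ phi W :=
  haveI : Fact (Nat.Prime 2) := ⟨Nat.prime_two⟩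
  ⟨⁅(⟨x, hx⟩ : W), ⟨y, hy⟩⁆, Solv.commutatorElement_mem_frattini (hT.to_subgroup W) _ _, rfl⟩

theorem phi_le_of {W N : Subgroup T} (hNW : N ≤ W) (hsq : ∀ x ∈ W, x * x ∈ N)
    (hcm : ∀ x ∈ W, ∀ y ∈ W, ⁅x, y⁆ ∈ N) : phi W ≤ N := by
  intro z hz
  by_contra hzN
  obtain ⟨L, hNL, hLW, hzL, hkey, -⟩ := exists_index_two hNW hsq hcm (phi_le W hz) hzN
  obtain ⟨⟨z', hz'⟩, hzf, rfl⟩ := hz
  refine hzL (frattini_le_coatom (K := L.subgroupOf W) ⟨fun e => hzL ?_, fun K hK => ?_⟩ hzf)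
  · have : (⟨z', hz'⟩ : W) ∈ L.subgroupOf W := e ▸ Subgroup.mem_top _
    exact this
  · refine eq_top_iff.2 fun w _ => ?_
    obtain ⟨x, hxK, hxL⟩ := SetLike.exists_of_lt hK
    by_cases hw : (w : T) ∈ L
    · exact hK.le hw
    · have h1 : (w : T) * z' ∈ L := hkey _ w.2 hw
      have h2 : (x : T) * z' ∈ L := hkey _ x.2 hxL
      have h3 : w = (w * ⟨z', hz'⟩) * (x * ⟨z', hz'⟩)⁻¹ * x := by group
      rw [h3]
      exact K.mul_mem (K.mul_mem (hK.le h1) (K.inv_mem (hK.le h2))) hxK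

theorem exists_phi (hT : IsPGroup 2 T) {W N : Subgroup T} [W.Normal] [N.Normal] (hNW : N ≤ W)
    (hsq : ∀ x ∈ W, x * x ∈ N) (hcm : ∀ x ∈ W, ∀ y ∈ W, ⁅x, y⁆ ∈ N) {v : T} (hv : v ∈ W) (hvN : v ∉ N)
    (hvT : ∀ y, ⁅v, y⁆ ∈ N) (hfix : ∀ x ∈ W, (∀ y, ⁅x, y⁆ ∈ N) → x ∈ N ∨ x * v ∈ N) :
    ∃ φ : T → (T ⧸ W → ZMod 2), (∀ a ∈ W, ∀ b ∈ W, φ (a * b) = φ a + φ b) ∧ (∀ a ∈ W, φ a = 0 ↔ a ∈ N) ∧
      (∀ g a, a ∈ W → ∀ d, φ (g * a * g⁻¹) d = φ a (d * (g : T ⧸ W))) ∧ φ v = fun _ => 1 := by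
  classical
  haveI : Fact (Nat.Prime 2) := ⟨Nat.prime_two⟩
  haveI : Group.IsNilpotent T := hT.isNilpotent
  obtain ⟨L, hNL, hLW, hvL, hkey, -⟩ := exists_index_two hNW hsq hcm hv hvN
  have hnorm : ∀ a ∈ W, ∀ l ∈ L, a * l * a⁻¹ ∈ L := fun a ha l hl => by
    rw [show a * l * a⁻¹ = ⁅a, l⁆ * l by rw [commutatorElement_def]; group]
    exact L.mul_mem (hNL (hcm a ha l (hLW hl))) hl
  let χ : T → ZMod 2 := fun a => if a ∈ L then 0 else 1
  have hχmul : ∀ a ∈ W, ∀ b ∈ W, χ (a * b) = χ a + χ b := by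
    intro a ha b hb
    by_cases h1 : a ∈ L <;> by_cases h2 : b ∈ L
    · simp [χ, h1, h2, L.mul_mem h1 h2]
    · simp [χ, h1, h2, L.mul_mem_cancel_left h1]
    · simp [χ, h1, h2, L.mul_mem_cancel_right h2]
    · have : a * b ∈ L := by
        rw [show a * b = (a * v) * (v⁻¹ * (b * v) * v) * (v * v)⁻¹ by group]
        refine L.mul_mem (L.mul_mem (hkey a ha h1) ?_) (L.inv_mem (hNL (hsq v hv)))
        simpa using hnorm v⁻¹ (W.inv_mem hv) _ (hkey b hb h2)
      simp only [χ, h1, h2, this, if_true, if_false]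
      rfl
  have hχconj : ∀ a ∈ W, ∀ b ∈ W, χ (a * b * a⁻¹) = χ b := fun a ha b hb => by
    have h1 := hχmul (a * b) (W.mul_mem ha hb) a⁻¹ (W.inv_mem ha)
    have h2 := hχmul a ha a⁻¹ (W.inv_mem ha)
    rw [mul_inv_cancel, show χ 1 = 0 from if_pos L.one_mem] at h2
    rw [h1, hχmul a ha b hb, add_comm (χ a), add_assoc, ← h2, add_zero]
  have hconjW : ∀ (g a : T), a ∈ W → g * a * g⁻¹ ∈ W := fun g a ha => ‹W.Normal›.conj_mem a ha g
  let φ : T → (T ⧸ W → ZMod 2) := fun a d => χ (d.out * a * d.out⁻¹)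
  have hind : ∀ (g a : T), a ∈ W → φ a (g : T ⧸ W) = χ (g * a * g⁻¹) := by
    intro g a ha
    obtain ⟨⟨w, hw⟩, he⟩ := QuotientGroup.mk_out_eq_mul W g
    show χ ((g : T ⧸ W).out * a * (g : T ⧸ W).out⁻¹) = _
    rw [he, show g * w * a * (g * w)⁻¹ = (g * w * g⁻¹) * (g * a * g⁻¹) * (g * w * g⁻¹)⁻¹ by group]
    exact hχconj _ (hconjW g w hw) _ (hconjW g a ha)
  have hadd : ∀ a ∈ W, ∀ b ∈ W, φ (a * b) = φ a + φ b := fun a ha b hb => funext fun d => by
    show χ _ = χ _ + χ _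
    rw [show d.out * (a * b) * d.out⁻¹ = d.out * a * d.out⁻¹ * (d.out * b * d.out⁻¹) by group]
    exact hχmul _ (hconjW _ a ha) _ (hconjW _ b hb)
  have hequiv : ∀ g a, a ∈ W → ∀ d, φ (g * a * g⁻¹) d = φ a (d * (g : T ⧸ W)) := by
    intro g a ha d
    obtain ⟨e, rfl⟩ := QuotientGroup.mk_surjective d
    rw [hind e _ (hconjW g a ha), ← QuotientGroup.mk_mul, hind (e * g) a ha]
    congr 1
    group
  have hN0 : ∀ a ∈ N, φ a = 0 := fun a ha => funext fun d => if_pos (hNL (‹N.Normal›.conj_mem a ha d.out))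
  have hφv : φ v = fun _ => 1 := funext fun d => if_neg fun h => hvL (by
    have h1 : d.out * v * d.out⁻¹ = ⁅v, d.out⁆⁻¹ * v := by rw [commutatorElement_def]; group
    rw [h1] at h
    rw [show v = ⁅v, d.out⁆ * (⁅v, d.out⁆⁻¹ * v) by group]
    exact L.mul_mem (hNL (hvT d.out)) h)
  refine ⟨φ, hadd, fun a ha => ⟨fun h0 => ?_, hN0 a⟩, hequiv, hφv⟩
  by_contra haN
  let K : Subgroup T :=
    { carrier := {x | x ∈ W ∧ φ x = 0}
      one_mem' := ⟨W.one_mem, hN0 1 N.one_mem⟩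
      mul_mem' := fun {x y} hx hy => ⟨W.mul_mem hx.1 hy.1, by rw [hadd x hx.1 y hy.1, hx.2, hy.2, add_zero]⟩
      inv_mem' := fun {x} hx => ⟨W.inv_mem hx.1, by
        have := hadd x hx.1 x⁻¹ (W.inv_mem hx.1)
        rw [mul_inv_cancel, hN0 1 N.one_mem, hx.2, zero_add] at this
        exact this.symm⟩ }
  have hKn : K.Normal := ⟨fun x hx g => ⟨hconjW g x hx.1, funext fun d => by rw [hequiv g x hx.1 d, hx.2]; rfl⟩⟩
  obtain ⟨x, hx, hxN, hy⟩ := exists_step (M := N) _ K hKn le_rfl (fun h => haN (h ⟨ha, h0⟩))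
  rcases hfix x hx.1 hy with h | h
  · exact hxN h
  · have h1 : v ∈ K := by
      rw [show v = x⁻¹ * (x * v) by group]
      exact K.mul_mem (K.inv_mem hx) ⟨hNW h, hN0 _ h⟩
    have h2 := congrFun h1.2 1
    rw [hφv] at h2
    exact one_ne_zero h2

theorem card_le_two_pow (hT : IsPGroup 2 T) {W N F : Subgroup T} [W.Normal] [N.Normal] (hNW : N ≤ W)
    (hsq : ∀ x ∈ W, x * x ∈ N) (hcm : ∀ x ∈ W, ∀ y ∈ W, ⁅x, y⁆ ∈ N) (hNF : N ≤ F)
    (hF : Nat.card F ≤ 2 * Nat.card N) (hfix : ∀ x ∈ W, (∀ y, ⁅x, y⁆ ∈ N) → x ∈ F) :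
    Nat.card W ≤ Nat.card N * 2 ^ Nat.card (T ⧸ W) := by
  haveI : Fact (Nat.Prime 2) := ⟨Nat.prime_two⟩
  haveI : Group.IsNilpotent T := hT.isNilpotent
  by_cases hW : W ≤ N
  · exact (Subgroup.card_le_of_le hW).trans (Nat.le_mul_of_pos_right _ (by positivity))
  obtain ⟨v, hv, hvN, hvT⟩ := exists_step (M := N) _ W inferInstance le_rfl hW
  obtain ⟨φ, hadd, hker, -, -⟩ := exists_phi hT hNW hsq hcm hv hvN hvT fun x hx hy => by
    rcases mem_or_of_double hNF hF (hfix v hv hvT) hvN (hfix x hx hy) with h | h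
    · exact Or.inl h
    · refine Or.inr ?_
      rw [show x * v = v * (v⁻¹ * x) * v⁻¹ * (v * v) by group]
      exact N.mul_mem (‹N.Normal›.conj_mem _ h v) (hsq v hv)
  let f : W →* Multiplicative (T ⧸ W → ZMod 2) :=
    MonoidHom.mk' (fun a => Multiplicative.ofAdd (φ a)) fun a b => by
      rw [← ofAdd_add, ← hadd a a.2 b b.2]; rfl
  have hk : Nat.card f.ker ≤ Nat.card N := by
    refine Nat.card_le_card_of_injective (fun a => (⟨((a : W) : T), (hker _ (a : W).2).1 (by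
      have := MonoidHom.mem_ker.1 a.2
      exact Multiplicative.ofAdd.injective this)⟩ : N)) fun a b h => ?_
    exact Subtype.ext (Subtype.ext (congrArg (fun x : N => (x : T)) h))
  have hr : Nat.card f.range ≤ 2 ^ Nat.card (T ⧸ W) := by
    refine (Subgroup.card_le_card_group f.range).trans ?_
    rw [Nat.card_congr Multiplicative.toAdd, Nat.card_fun, Nat.card_zmod]
  rw [← f.ker.card_mul_index, Subgroup.index_ker]
  exact Nat.mul_le_mul hk hr

end Cfsg.Agent.Lie.RegularLayer
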