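import Cfsg.Agent.Lib.Lie.RegularLayer

/-!
2-groups whose fourth centre is small and whose large normal layer is a free module for the dihedral group of order 8.
-/

set_option autoImplicit false
set_option linter.style.haveILetI false
set_option linter.unusedSectionVars false

namespace Cfsg.Agent.Lie.RegularLayer

open scoped commutatorElement

/-- Coordinates of a unitriangular matrix of degree three. -/
abbrev Tri := ZMod 2 × ZMod 2 × ZMod 2

/-- multiplication of unitriangular matrices -/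
def tmul (x y : Tri) : Tri := (x.1 + y.1, x.2.1 + y.2.1 + x.1 * y.2.2, x.2.2 + y.2.2)

/-- the dihedral group as unitriangular matrices -/
def tau : DihedralGroup 4 → Tri
  | .r i => ![(0, 0, 0), (1, 0, 1), (0, 1, 0), (1, 1, 1)] i
  | .sr i => ![(1, 0, 0), (0, 1, 1), (1, 1, 0), (0, 0, 1)] i

theorem tau_mul : ∀ x y, tau (x * y) = tmul (tau x) (tau y) := by decide +kernel
theorem tau_injective : Function.Injective tau := by decide +kernel
theorem tau_surjective : Function.Surjective tau := by decide +kernel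

/-- the central involution -/
abbrev hh : DihedralGroup 4 := DihedralGroup.r 2

theorem beta_lemma : ∀ β : DihedralGroup 4 → ZMod 2, β 1 = 0 → (∀ g, β g⁻¹ = β g) →
    (∀ g, g * g = 1 → β g = 1 → (tau g).2.2 = 0 ∧ ((tau g).2.1 = 0 ∨ (tau g).1 = 1)) →
    ∑ g, β g = 0 → ∀ g, β (g * hh) = β g := by decide +kernel

theorem cls_lemma : ∀ d, (tau (d * hh)).1 = (tau d).1 ∧ (tau (d * hh)).2.2 = (tau d).2.2 := by decide +kernel
theorem hh_central : ∀ d, d * hh = hh * d ∧ hh * hh = 1 ∧ d * hh ≠ d := by decide +kernel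
theorem cls_surjective : ∀ a c : ZMod 2, ∃ d, (tau d).1 = a ∧ (tau d).2.2 = c := by decide +kernel

variable {T : Type*} [Group T] [Finite T]

/-- the layer -/
abbrev W (T : Type*) [Group T] : Subgroup T :=
  Subgroup.centralizer ((Subgroup.upperCentralSeries T 3 : Subgroup T) : Set T)

/-- the hypotheses -/
structure Hyp (T : Type*) [Group T] : Prop where
  two : IsPGroup 2 T
  big : 2 ^ 14 ≤ Nat.card T
  four : Nat.card (Subgroup.upperCentralSeries T 4) = 16
  small : Nat.card (phi (W T)) ≤ 8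
  sub : ∀ U : Subgroup T, U ≤ W T → Nat.card (W T) ≤ 16 * Nat.card U → phi (W T) ≤ U

local notation "Z" => Subgroup.upperCentralSeries T

theorem Z_mono {i j : ℕ} (h : i ≤ j) : Z i ≤ Z j := Subgroup.upperCentralSeries_mono T h

namespace Hyp

variable (H : Hyp T)
include H

theorem card_Z : ∀ i ≤ 4, Nat.card (Z i) = 2 ^ i := by
  haveI : Fact (Nat.Prime 2) := ⟨Nat.prime_two⟩
  haveI : Group.IsNilpotent T := H.two.isNilpotent
  have hdbl : ∀ i < 4, 2 * Nat.card (Z i) ≤ Nat.card (Z (i + 1)) := by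
    intro i hi
    refine card_double (lt_of_le_of_ne (Z_mono (by omega)) fun e => ?_)
    have h1 : ¬ (⊤ : Subgroup T) ≤ Z i := fun h => by
      have h2 := Subgroup.card_le_of_le (h.trans (Z_mono (show i ≤ 4 by omega)))
      rw [Subgroup.card_top, H.four] at h2
      have := H.big
      omega
    obtain ⟨x, -, hx, hy⟩ := exists_step (M := Z i) _ ⊤ inferInstance le_rfl h1
    exact hx (e.ge (Subgroup.mem_upperCentralSeries_succ_iff.2 hy))
  have h0 : Nat.card (Z 0) = 1 := by rw [Subgroup.upperCentralSeries_zero, Subgroup.card_bot]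
  have h1 := hdbl 0 (by omega); have h2 := hdbl 1 (by omega); have h3 := hdbl 2 (by omega)
  have h4 := hdbl 3 (by omega); have h5 := H.four
  norm_num at h1 h2 h3 h4
  intro i hi
  interval_cases i <;> (try norm_num) <;> omega

theorem exists_new {i : ℕ} (hi : i < 4) : ∃ z ∈ Z (i + 1), z ∉ Z i := by
  by_contra! h
  have h2 := Subgroup.card_le_of_le (show Z (i + 1) ≤ Z i from h)
  rw [H.card_Z _ (by omega), H.card_Z _ (by omega), pow_succ] at h2
  have : 0 < 2 ^ i := by positivity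
  omega

theorem two_dichotomy {i : ℕ} (hi : i < 4) {x y : T} (hx : x ∈ Z (i + 1)) (hxn : x ∉ Z i) (hy : y ∈ Z (i + 1)) :
    y ∈ Z i ∨ x⁻¹ * y ∈ Z i :=
  mem_or_of_double (Z_mono (by omega)) (by rw [H.card_Z _ (by omega), H.card_Z _ (by omega), pow_succ]; omega) hx hxn hy

theorem card_quot_le : Nat.card (T ⧸ W T) ≤ 8 := by
  obtain ⟨z2, hz2, hz2'⟩ := H.exists_new (i := 1) (by omega)
  obtain ⟨z3, hz3, hz3'⟩ := H.exists_new (i := 2) (by omega)
  let f : T ⧸ W T → Z 1 × Z 2 := fun d =>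
    (⟨⁅z2, d.out⁆, Subgroup.mem_upperCentralSeries_succ_iff.1 hz2 _⟩,
      ⟨⁅z3, d.out⁆, Subgroup.mem_upperCentralSeries_succ_iff.1 hz3 _⟩)
  have hf : Function.Injective f := by
    intro d e h
    simp only [f, Prod.mk.injEq, Subtype.mk.injEq] at h
    rw [← QuotientGroup.out_eq' d, ← QuotientGroup.out_eq' e, QuotientGroup.eq]
    have key : ∀ z, ⁅z, d.out⁆ = ⁅z, e.out⁆ → Commute (d.out⁻¹ * e.out)⁻¹ z := by
      intro z hz
      rw [commutatorElement_def, commutatorElement_def] at hz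
      rw [mul_inv_rev, inv_inv]
      show e.out⁻¹ * d.out * z = z * (e.out⁻¹ * d.out)
      have h1 : d.out * z⁻¹ * d.out⁻¹ = e.out * z⁻¹ * e.out⁻¹ := by
        simpa only [mul_assoc, mul_left_cancel_iff] using hz
      calc e.out⁻¹ * d.out * z = e.out⁻¹ * (d.out * z⁻¹ * d.out⁻¹)⁻¹ * d.out := by group
        _ = e.out⁻¹ * (e.out * z⁻¹ * e.out⁻¹)⁻¹ * d.out := by rw [h1]
        _ = _ := by group
    have hc2 := key z2 h.1
    have hc3 := key z3 h.2
    rw [Subgroup.mem_centralizer_iff]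
    intro y hy
    have hcy : Commute (d.out⁻¹ * e.out)⁻¹ y := by
      have hone : ∀ y ∈ Z 1, Commute (d.out⁻¹ * e.out)⁻¹ y := fun y hy => by
        rw [Subgroup.upperCentralSeries_one] at hy
        exact Subgroup.mem_center_iff.1 hy _
      have htwo : ∀ y ∈ Z 2, Commute (d.out⁻¹ * e.out)⁻¹ y := fun y hy => by
        rcases H.two_dichotomy (i := 1) (by omega) hz2 hz2' hy with h | h
        · exact hone y h
        · simpa using hc2.mul_right (hone _ h)
      rcases H.two_dichotomy (i := 2) (by omega) hz3 hz3' hy with h | h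
      · exact htwo y h
      · simpa using hc3.mul_right (htwo _ h)
    exact (Commute.inv_left_iff.1 hcy).symm.eq
  have := Nat.card_le_card_of_injective f hf
  rwa [Nat.card_prod, H.card_Z 1 (by omega), H.card_Z 2 (by omega)] at this

theorem phi_le_Z3 : phi (W T) ≤ Z 3 := by
  haveI : Fact (Nat.Prime 2) := ⟨Nat.prime_two⟩
  haveI : Group.IsNilpotent T := H.two.isNilpotent
  exact normal_le_upper 3 _ inferInstance (by have := H.small; omega)

theorem Z3_le_W : Z 3 ≤ W T := by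
  haveI : Fact (Nat.Prime 2) := ⟨Nat.prime_two⟩
  haveI : Group.IsNilpotent T := H.two.isNilpotent
  by_contra hne
  set C : Subgroup T := Z 3 ⊓ W T
  have hlt : C < Z 3 := lt_of_le_of_ne inf_le_left fun e => hne (e.ge.trans inf_le_right)
  have h4 : Nat.card C ≤ 4 := by
    have := card_double hlt; rw [H.card_Z 3 (by omega)] at this; omega
  have h2 : Nat.card C ≤ 2 := by
    obtain ⟨k, hk, hk'⟩ := (Nat.dvd_prime_pow Nat.prime_two).1
      ((H.card_Z 3 (by omega)) ▸ Subgroup.card_dvd_of_le (inf_le_left : C ≤ Z 3))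
    by_cases hk1 : k ≤ 1
    · rw [hk']; exact (Nat.pow_le_pow_right two_pos hk1).trans_eq (pow_one 2)
    exfalso
    have hk2 : k = 2 := by
      by_contra hk2
      have h8 : 2 ^ 3 ≤ Nat.card C := hk'.symm ▸ Nat.pow_le_pow_right two_pos (by omega)
      norm_num at h8
      omega
    subst hk2
    obtain ⟨x, hx, hxC⟩ := SetLike.exists_of_lt hlt
    refine hxC ⟨hx, Subgroup.mem_centralizer_iff.2 fun y hy => ?_⟩
    rcases mem_or_of_double hlt.le (by rw [H.card_Z 3 (by omega), hk']; norm_num) hx hxC hy with h | h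
    · exact (Subgroup.mem_centralizer_iff.1 h.2 x hx).symm
    · have h' : Commute x (x⁻¹ * y) := Subgroup.mem_centralizer_iff.1 h.2 x hx
      have h'' : Commute x (x * (x⁻¹ * y)) := (Commute.refl x).mul_right h'
      rw [mul_inv_cancel_left] at h''
      exact h''.symm.eq
  have hC1 : C ≤ Z 1 := normal_le_upper 1 _ inferInstance (by simpa using h2)
  have hphi : phi (W T) ≤ C := le_inf H.phi_le_Z3 (phi_le _)
  have hb := card_le_two_pow H.two (W := W T) (N := C) (F := C) inf_le_right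
    (fun x hx => hphi (sq_mem_phi H.two hx)) (fun x hx y hy => hphi (comm_mem_phi H.two hx hy)) le_rfl (by omega)
    (fun x hx hy => ⟨Z_mono (show 2 ≤ 3 by omega) (Subgroup.mem_upperCentralSeries_succ_iff.2 fun y => hC1 (hy y)), hx⟩)
  have hT := Subgroup.card_eq_card_quotient_mul_card_subgroup (W T)
  have h8 := H.card_quot_le
  have hbig := H.big
  have hp : 2 ^ Nat.card (T ⧸ W T) ≤ 2 ^ 8 := Nat.pow_le_pow_right two_pos h8
  have : Nat.card (W T) ≤ 2 * 2 ^ 8 := hb.trans (Nat.mul_le_mul h2 hp)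
  nlinarith

theorem phi_sq {x : T} (hx : x ∈ W T) : x * x ∈ Z 3 := H.phi_le_Z3 (sq_mem_phi H.two hx)

theorem phi_comm {x y : T} (hx : x ∈ W T) (hy : y ∈ W T) : ⁅x, y⁆ ∈ Z 3 :=
  H.phi_le_Z3 (comm_mem_phi H.two hx hy)

theorem sizes : Nat.card (T ⧸ W T) = 8 ∧ Nat.card (W T) = 2 ^ 11 ∧ Nat.card T = 2 ^ 14 := by
  have hb := card_le_two_pow H.two (W := W T) (N := Z 3) (F := Z 4) H.Z3_le_W
    (fun x hx => H.phi_sq hx) (fun x hx y hy => H.phi_comm hx hy) (Z_mono (by omega))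
    (by rw [H.card_Z 3 (by omega), H.four]; norm_num) (fun x hx hy => Subgroup.mem_upperCentralSeries_succ_iff.2 hy)
  rw [H.card_Z 3 (by omega)] at hb
  have hT := Subgroup.card_eq_card_quotient_mul_card_subgroup (W T)
  have h8 := H.card_quot_le
  have hbig := H.big
  have hd : Nat.card (T ⧸ W T) = 8 := by
    by_contra hne
    have hp : 2 ^ Nat.card (T ⧸ W T) ≤ 2 ^ 7 := Nat.pow_le_pow_right two_pos (by omega)
    nlinarith
  rw [hd] at hb hT
  refine ⟨hd, ?_, ?_⟩ <;> norm_num at hb ⊢ <;> omega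

theorem Z4_le_W : Z 4 ≤ W T := by
  haveI : Fact (Nat.Prime 2) := ⟨Nat.prime_two⟩
  haveI : Group.IsNilpotent T := H.two.isNilpotent
  have hne : ¬ W T ≤ Z 3 := fun h => by
    have := Subgroup.card_le_of_le h
    rw [H.card_Z 3 (by omega), H.sizes.2.1] at this
    norm_num at this
  obtain ⟨v, hv, hv3, hvT⟩ := exists_step (M := Z 3) _ (W T) inferInstance le_rfl hne
  intro y hy
  rcases H.two_dichotomy (i := 3) (by omega) (Subgroup.mem_upperCentralSeries_succ_iff.2 hvT) hv3 hy with h | h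
  · exact H.Z3_le_W h
  · simpa using (W T).mul_mem hv (H.Z3_le_W h)

theorem phi_eq : phi (W T) = Z 3 := by
  haveI : Fact (Nat.Prime 2) := ⟨Nat.prime_two⟩
  haveI : Group.IsNilpotent T := H.two.isNilpotent
  by_contra hne
  have hc := card_double (lt_of_le_of_ne H.phi_le_Z3 hne)
  rw [H.card_Z 3 (by omega)] at hc
  have h2 : phi (W T) ≤ Z 2 := normal_le_upper 2 _ inferInstance (by omega)
  have hb := card_le_two_pow H.two (W := W T) (N := Z 2) (F := Z 3) ((Z_mono (by omega)).trans H.Z3_le_W)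
    (fun x hx => h2 (sq_mem_phi H.two hx)) (fun x hx y hy => h2 (comm_mem_phi H.two hx hy)) (Z_mono (by omega))
    (by rw [H.card_Z 3 (by omega), H.card_Z 2 (by omega)]; norm_num)
    (fun x hx hy => Subgroup.mem_upperCentralSeries_succ_iff.2 hy)
  rw [H.card_Z 2 (by omega), H.sizes.1, H.sizes.2.1] at hb
  norm_num at hb

theorem comm_W_Z3 {x z : T} (hx : x ∈ W T) (hz : z ∈ Z 3) : Commute z x :=
  Subgroup.mem_centralizer_iff.1 hx z hz

theorem comm_eq : ⁅W T, W T⁆ = Z 3 := by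
  haveI : Fact (Nat.Prime 2) := ⟨Nat.prime_two⟩
  haveI : Group.IsNilpotent T := H.two.isNilpotent
  by_contra hne
  set D := ⁅W T, W T⁆ with hD
  have hDle : D ≤ Z 3 := Subgroup.commutator_le.2 fun x hx y hy => H.phi_comm hx hy
  have hcD : ∀ x ∈ W T, ∀ y ∈ W T, ⁅x, y⁆ ∈ D := fun x hx y hy => Subgroup.commutator_mem_commutator hx hy
  obtain ⟨x, hx, hxD⟩ : ∃ x ∈ W T, x * x ∉ D := by
    by_contra! hall
    exact hne (le_antisymm hDle (H.phi_eq.ge.trans (phi_le_of (hDle.trans H.Z3_le_W) hall hcD)))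
  obtain ⟨U, hDU, hmax⟩ := Finite.exists_le_maximal
    (p := fun U : Subgroup T => U ≤ W T ∧ x * x ∉ U) ⟨hDle.trans H.Z3_le_W, hxD⟩
  obtain ⟨hUW, hzU⟩ := hmax.prop
  refine hzU (H.sub U hUW ?_ (sq_mem_phi H.two hx))
  set U' := U.subgroupOf (W T) with hU'
  haveI : U'.Normal := ⟨fun u hu g => by
    show (g : T) * u * (g : T)⁻¹ ∈ U
    rw [show (g : T) * u * (g : T)⁻¹ = ⁅(g : T), (u : T)⁆ * u by rw [commutatorElement_def]; group]
    exact U.mul_mem (hDU (hcD _ g.2 _ (hUW hu))) hu⟩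
  let Q := W T ⧸ U'
  have hcomm : ∀ a b : Q, a * b = b * a :=
    Solv.quotient_mul_comm U' fun a b => by
      show ((⁅a, b⁆ : W T) : T) ∈ U
      exact hDU (hcD _ a.2 _ b.2)
  let z : W T := ⟨x * x, (W T).mul_mem hx hx⟩
  have hroot : ∀ a : Q, a * a = 1 → a = 1 ∨ a = (z : Q) := by
    intro a ha
    induction a using QuotientGroup.induction_on with | _ w
    rw [← QuotientGroup.mk_mul, QuotientGroup.eq_one_iff] at ha
    let S : Subgroup T :=
      { carrier := {w | w ∈ W T ∧ w * w ∈ U}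
        one_mem' := ⟨(W T).one_mem, by rw [one_mul]; exact U.one_mem⟩
        mul_mem' := by
          rintro p q ⟨hp, hp'⟩ ⟨hq, hq'⟩
          refine ⟨(W T).mul_mem hp hq, ?_⟩
          rw [show p * q * (p * q) = p * p * ⁅p⁻¹, q⁆ * (q * q) by rw [commutatorElement_def]; group]
          exact U.mul_mem (U.mul_mem hp' (hDU (hcD _ ((W T).inv_mem hp) _ hq))) hq'
        inv_mem' := by
          rintro p ⟨hp, hp'⟩
          exact ⟨(W T).inv_mem hp, by rw [← mul_inv_rev]; exact U.inv_mem hp'⟩ }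
    have h16 : ∀ w ∈ W T, (w * w) ^ 8 = 1 := fun w hw => by
      have h := pow_card_eq_one' (x := (⟨w * w, H.phi_sq hw⟩ : Z 3))
      rw [H.card_Z 3 (by omega)] at h
      exact congrArg Subtype.val h
    obtain ⟨r, hr, hrU⟩ : ∃ r ∈ S, r ∉ U := by
      by_contra! hSU
      have h0 : ∀ n, ∀ u ∈ W T, u ^ (2 ^ n) ∈ U → u ∈ U := by
        intro n
        induction n with
        | zero => intro u _ hu; simpa using hu
        | succ n ih =>
          intro u hu hn
          exact hSU _ ⟨hu, ih (u * u) ((W T).mul_mem hu hu) (by rwa [← sq, ← pow_mul, ← pow_succ'])⟩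
      exact hzU (h0 4 _ ((W T).mul_mem hx hx) (by
        rw [show 2 ^ 4 = 8 * 2 by norm_num, pow_mul, h16 x hx, one_pow]; exact U.one_mem))
    have hUS : U ≤ S := fun u hu => ⟨hUW hu, U.mul_mem hu hu⟩
    have hzS : x * x ∈ S := by
      by_contra hzS
      exact hrU (hmax.2 (y := S) ⟨fun p hp => hp.1, hzS⟩ hUS hr)
    obtain ⟨L, hUL, hLS, hzL, hkey, -⟩ := exists_index_two hUS (fun p hp => hp.2)
      (fun p hp q hq => hDU (hcD _ hp.1 _ hq.1)) hzS hzU
    have hLU : L ≤ U := hmax.2 ⟨hLS.trans fun p hp => hp.1, hzL⟩ hUL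
    have hwS : (w : T) ∈ S := ⟨w.2, ha⟩
    by_cases hwU : (w : T) ∈ U
    · exact Or.inl ((QuotientGroup.eq_one_iff w).2 hwU)
    · refine Or.inr (QuotientGroup.eq.2 ?_)
      have h1 : (w : T) * (x * x) ∈ U := hLU (hkey _ hwS fun h => hwU (hLU h))
      show (w : T)⁻¹ * (x * x) ∈ U
      rw [show (w : T)⁻¹ * (x * x) = ((w : T) * (w : T))⁻¹ * ((w : T) * (x * x)) by group]
      exact U.mul_mem (U.inv_mem ha) h1
  classical
  haveI : Fintype Q := Fintype.ofFinite Q
  let Sk : ℕ → Finset Q := fun k => Finset.univ.filter fun a => a ^ (2 ^ k) = 1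
  have hS : ∀ k, (Sk k).card ≤ 2 ^ k := by
    intro k
    induction k with
    | zero =>
      refine le_trans (Finset.card_le_card (show Sk 0 ⊆ {1} from fun a ha => ?_)) (by simp)
      simpa [Sk] using ha
    | succ k ih =>
      have hm : ∀ a ∈ Sk (k + 1), a * a ∈ Sk k := fun a ha => by
        simp only [Sk, Finset.mem_filter, Finset.mem_univ, true_and] at ha ⊢
        rwa [← sq, ← pow_mul, ← pow_succ']
      refine le_trans (Finset.card_le_mul_card_image_of_maps_to hm 2 fun b hb => ?_) (by rw [pow_succ]; omega)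
      by_cases hb' : ∃ a₀ ∈ Sk (k + 1), a₀ * a₀ = b
      · obtain ⟨a₀, -, ha₀⟩ := hb'
        refine le_trans (Finset.card_le_card (show _ ⊆ ({a₀, a₀ * (z : Q)} : Finset Q) from fun a ha => ?_))
          Finset.card_le_two
        have haa : a * a = a₀ * a₀ := (Finset.mem_filter.1 ha).2.trans ha₀.symm
        have h2 : (a₀⁻¹ * a) * (a₀⁻¹ * a) = 1 := by
          rw [(show Commute a a₀⁻¹ from hcomm _ _).mul_mul_mul_comm, haa]; group
        rcases hroot _ h2 with h | h
        · simp [inv_mul_eq_one.1 h]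
        · simp [show a = a₀ * (z : Q) by rw [← h, mul_inv_cancel_left]]
      · push Not at hb'
        refine le_trans (Finset.card_le_card (show _ ⊆ (∅ : Finset Q) from fun a ha =>
          absurd (Finset.mem_filter.1 ha).2 (hb' a (Finset.mem_filter.1 ha).1))) (by simp)
  have hQ : Nat.card Q ≤ 16 := by
    rw [Nat.card_eq_fintype_card, ← Finset.card_univ]
    refine le_trans (Finset.card_le_card (fun a _ => ?_)) (hS 4)
    induction a using QuotientGroup.induction_on with | _ w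
    refine Finset.mem_filter.2 ⟨Finset.mem_univ _, ?_⟩
    rw [← QuotientGroup.mk_pow, QuotientGroup.eq_one_iff]
    have h := pow_card_eq_one' (x := (⟨(w : T) * w, H.phi_sq w.2⟩ : Z 3))
    rw [H.card_Z 3 (by omega)] at h
    have h' : ((w : T) * w) ^ 8 = 1 := congrArg Subtype.val h
    show ((w ^ 2 ^ 4 : W T) : T) ∈ U
    rw [SubmonoidClass.coe_pow, show 2 ^ 4 = 2 * 8 by norm_num, pow_mul, sq, h']
    exact U.one_mem
  have hc := U'.card_eq_card_quotient_mul_card_subgroup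
  rw [hU', Nat.card_congr (Subgroup.subgroupOfEquivOfLe hUW).toEquiv] at hc
  rw [hc]
  exact Nat.mul_le_mul_right _ hQ

theorem elementary {z : T} (hz : z ∈ Z 3) : z * z = 1 := by
  let E : Subgroup T :=
    { carrier := {z | z ∈ Z 3 ∧ z * z = 1}
      one_mem' := ⟨(Z 3).one_mem, one_mul 1⟩
      mul_mem' := fun {a b} ha hb => ⟨(Z 3).mul_mem ha.1 hb.1, by
        rw [(H.comm_W_Z3 (H.Z3_le_W hb.1) ha.1).symm.mul_mul_mul_comm, ha.2, hb.2, one_mul]⟩
      inv_mem' := fun {a} ha => ⟨(Z 3).inv_mem ha.1, by rw [← mul_inv_rev, ha.2, inv_one]⟩ }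
  have hle : ⁅W T, W T⁆ ≤ E := Subgroup.commutator_le.2 fun x hx y hy => ⟨H.phi_comm hx hy, by
    have h1 : ⁅x * x, y⁆ = 1 := commutatorElement_eq_one_iff_mul_comm.2 (H.comm_W_Z3 hy (H.phi_sq hx)).eq
    have h2 : ⁅x * x, y⁆ = x * ⁅x, y⁆ * x⁻¹ * ⁅x, y⁆ := by rw [commutatorElement_def, commutatorElement_def]; group
    rw [← (H.comm_W_Z3 hx (H.phi_comm hx hy)).eq, mul_inv_cancel_right] at h2
    rw [← h2, h1]⟩
  exact (hle (H.comm_eq.ge hz)).2

end Hyp

/-- The dihedral action and the free module. -/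
structure Model (T : Type*) [Group T] where
  π : T →* DihedralGroup 4
  π_surj : Function.Surjective π
  π_ker : ∀ g, π g = 1 ↔ g ∈ W T
  z1 : T
  z2 : T
  z3 : T
  hz1 : z1 ∈ Subgroup.upperCentralSeries T 1
  nz1 : z1 ≠ 1
  hz2 : z2 ∈ Subgroup.upperCentralSeries T 2
  nz2 : z2 ∉ Subgroup.upperCentralSeries T 1
  hz3 : z3 ∈ Subgroup.upperCentralSeries T 3
  nz3 : z3 ∉ Subgroup.upperCentralSeries T 2
  conj2 : ∀ g, g * z2 * g⁻¹ = z2 * z1 ^ (tau (π g)).1.val
  conj3 : ∀ g, g * z3 * g⁻¹ = z3 * (z2 ^ (tau (π g)).2.2.val * z1 ^ (tau (π g)).2.1.val)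
  φ : T → (DihedralGroup 4 → ZMod 2)
  add : ∀ a ∈ W T, ∀ b ∈ W T, φ (a * b) = φ a + φ b
  ker : ∀ a ∈ W T, φ a = 0 ↔ a ∈ Subgroup.upperCentralSeries T 3
  conj : ∀ g a, a ∈ W T → ∀ d, φ (g * a * g⁻¹) d = φ a (d * π g)
  surj : ∀ f, ∃ a ∈ W T, φ a = f
  v : T
  hv : v ∈ Subgroup.upperCentralSeries T 4
  nv : v ∉ Subgroup.upperCentralSeries T 3
  φv : φ v = fun _ => 1

theorem pow_val_add {z : T} (hz : z * z = 1) (a b : ZMod 2) : z ^ (a + b).val = z ^ a.val * z ^ b.val := by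
  rw [ZMod.val_add, ← pow_add, ← pow_eq_pow_mod _ (show z ^ 2 = 1 by rw [sq, hz])]

theorem val_mul_two : ∀ a b : ZMod 2, (a * b).val = a.val * b.val := by decide

namespace Hyp

variable (H : Hyp T)
include H

theorem coords {z1 z2 : T} (h1 : z1 ∈ Z 1) (n1 : z1 ≠ 1) (h2 : z2 ∈ Z 2) (n2 : z2 ∉ Z 1) {y : T} (hy : y ∈ Z 2) :
    ∃ c b : ZMod 2, y = z2 ^ c.val * z1 ^ b.val := by
  have hone : ∀ y ∈ Z 1, ∃ b : ZMod 2, y = z1 ^ b.val := fun y hy => by
    have n1' : z1 ∉ Z 0 := fun h => n1 (by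
      rw [Subgroup.upperCentralSeries_zero, Subgroup.mem_bot] at h; exact h)
    rcases H.two_dichotomy (i := 0) (by omega) h1 n1' hy with h | h <;>
      rw [Subgroup.upperCentralSeries_zero, Subgroup.mem_bot] at h
    · exact ⟨0, by rw [ZMod.val_zero, pow_zero, h]⟩
    · exact ⟨1, by rw [ZMod.val_one, pow_one, inv_mul_eq_one.1 h]⟩
  rcases H.two_dichotomy (i := 1) (by omega) h2 n2 hy with h | h
  · obtain ⟨b, hb⟩ := hone _ h
    exact ⟨0, b, by rw [ZMod.val_zero, pow_zero, one_mul, hb]⟩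
  · obtain ⟨b, hb⟩ := hone _ h
    exact ⟨1, b, by rw [ZMod.val_one, pow_one, ← hb, mul_inv_cancel_left]⟩

theorem coords_inj {z1 z2 : T} (h1 : z1 ∈ Z 1) (n1 : z1 ≠ 1) (h2 : z2 ∈ Z 2) (n2 : z2 ∉ Z 1) {c b c' b' : ZMod 2}
    (h : z2 ^ c.val * z1 ^ b.val = z2 ^ c'.val * z1 ^ b'.val) : c = c' ∧ b = b' := by
  have hm : ∀ k : ℕ, z1 ^ k ∈ Z 1 := fun k => (Z 1).pow_mem h1 k
  fin_cases c <;> fin_cases c' <;> simp [ZMod.val] at h
  · refine ⟨rfl, ?_⟩
    fin_cases b <;> fin_cases b' <;> simp [ZMod.val] at h <;> first | rfl | exact absurd h n1 | exact absurd h.symm n1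
  · exact absurd ((eq_mul_inv_iff_mul_eq.2 h.symm) ▸ (Z 1).mul_mem (hm _) ((Z 1).inv_mem (hm _))) n2
  · exact absurd ((eq_mul_inv_iff_mul_eq.2 h) ▸ (Z 1).mul_mem (hm _) ((Z 1).inv_mem (hm _))) n2
  · refine ⟨rfl, ?_⟩
    fin_cases b <;> fin_cases b' <;> simp [ZMod.val] at h <;> first | rfl | exact absurd h n1 | exact absurd h.symm n1

theorem model : Nonempty (Model T) := by
  classical
  haveI : Fact (Nat.Prime 2) := ⟨Nat.prime_two⟩
  haveI : Group.IsNilpotent T := H.two.isNilpotent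
  obtain ⟨z1, hz1, nz1'⟩ := H.exists_new (i := 0) (by omega)
  obtain ⟨z2, hz2, nz2⟩ := H.exists_new (i := 1) (by omega)
  obtain ⟨z3, hz3, nz3⟩ := H.exists_new (i := 2) (by omega)
  have nz1 : z1 ≠ 1 := fun e => nz1' (e ▸ one_mem _)
  have hz1' : ∀ g, Commute g z1 := fun g => by
    have h := hz1
    rw [show (0 + 1) = 1 from rfl, Subgroup.upperCentralSeries_one] at h
    exact Subgroup.mem_center_iff.1 h g
  have e1 := H.elementary (Z_mono (show 1 ≤ 3 by omega) hz1)
  have e2 := H.elementary (Z_mono (show 2 ≤ 3 by omega) hz2)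
  have hcomm : ∀ {a b : T}, a ∈ Z 3 → b ∈ Z 3 → Commute a b := fun ha hb => H.comm_W_Z3 (H.Z3_le_W hb) ha
  have hex : ∀ g, ∃ t : Tri, g * z2 * g⁻¹ = z2 * z1 ^ t.1.val ∧
      g * z3 * g⁻¹ = z3 * (z2 ^ t.2.2.val * z1 ^ t.2.1.val) := by
    intro g
    have hA : z2⁻¹ * (g * z2 * g⁻¹) ∈ Z 1 := by
      rw [show z2⁻¹ * (g * z2 * g⁻¹) = ⁅z2⁻¹, g⁆ by rw [commutatorElement_def]; group]
      exact Subgroup.mem_upperCentralSeries_succ_iff.1 ((Z 2).inv_mem hz2) g
    have hC : z3⁻¹ * (g * z3 * g⁻¹) ∈ Z 2 := by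
      rw [show z3⁻¹ * (g * z3 * g⁻¹) = ⁅z3⁻¹, g⁆ by rw [commutatorElement_def]; group]
      exact Subgroup.mem_upperCentralSeries_succ_iff.1 ((Z 3).inv_mem hz3) g
    obtain ⟨u, a, ha⟩ := H.coords hz1 nz1 hz2 nz2 (Z_mono (by omega) hA)
    obtain ⟨c, b, hb⟩ := H.coords hz1 nz1 hz2 nz2 hC
    have hu : u = 0 := by
      fin_cases u
      · rfl
      · simp [ZMod.val] at ha
        exact absurd ((eq_mul_inv_iff_mul_eq.2 ha.symm) ▸
          (Z 1).mul_mem hA ((Z 1).inv_mem ((Z 1).pow_mem hz1 _))) nz2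
    rw [hu, ZMod.val_zero, pow_zero, one_mul] at ha
    exact ⟨(a, b, c), by rw [← ha, mul_inv_cancel_left], by rw [← hb, mul_inv_cancel_left]⟩
  choose t ht using hex
  have huniq : ∀ g (s : Tri), g * z2 * g⁻¹ = z2 * z1 ^ s.1.val →
      g * z3 * g⁻¹ = z3 * (z2 ^ s.2.2.val * z1 ^ s.2.1.val) → t g = s := by
    intro g s h1 h2
    rw [(ht g).1] at h1
    rw [(ht g).2] at h2
    have h1' := H.coords_inj hz1 nz1 hz2 nz2 (c := 0) (c' := 0) (b := (t g).1) (b' := s.1) (by
      rw [mul_left_cancel h1])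
    have h2' := H.coords_inj hz1 nz1 hz2 nz2 (mul_left_cancel h2)
    exact Prod.ext h1'.2 (Prod.ext h2'.2 h2'.1)
  have htmul : ∀ g h, t (g * h) = tmul (t g) (t h) := by
    intro g h
    have hp : ∀ (k : ℕ), g * z1 ^ k * g⁻¹ = z1 ^ k := fun k => by
      rw [((hz1' g).pow_right k).eq, mul_inv_cancel_right]
    refine huniq _ _ ?_ ?_
    · rw [show g * h * z2 * (g * h)⁻¹ = g * (h * z2 * h⁻¹) * g⁻¹ by group, (ht h).1,
        show g * (z2 * z1 ^ (t h).1.val) * g⁻¹ = g * z2 * g⁻¹ * (g * z1 ^ (t h).1.val * g⁻¹) by group,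
        (ht g).1, hp, mul_assoc]
      show _ = z2 * z1 ^ ((t g).1 + (t h).1).val
      rw [pow_val_add e1]
    · rw [show g * h * z3 * (g * h)⁻¹ = g * (h * z3 * h⁻¹) * g⁻¹ by group, (ht h).2,
        show g * (z3 * (z2 ^ (t h).2.2.val * z1 ^ (t h).2.1.val)) * g⁻¹ =
          g * z3 * g⁻¹ * ((g * z2 ^ (t h).2.2.val * g⁻¹) * (g * z1 ^ (t h).2.1.val * g⁻¹)) by group,
        (ht g).2, hp, ← conj_pow, (ht g).1]
      show _ = z3 * (z2 ^ ((t g).2.2 + (t h).2.2).val * z1 ^ ((t g).2.1 + (t h).2.1 + (t g).1 * (t h).2.2).val)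
      rw [pow_val_add e1, pow_val_add e1, pow_val_add e2, mul_assoc z3, ((hz1' z2).pow_right _).mul_pow, ← pow_mul]
      rw [val_mul_two]
      congr 1
      have c12 : ∀ i j : ℕ, Commute (z1 ^ i) (z2 ^ j) := fun i j => ((hz1' z2).symm).pow_pow i j
      calc z2 ^ (t g).2.2.val * z1 ^ (t g).2.1.val * (z2 ^ (t h).2.2.val * z1 ^ ((t g).1.val * (t h).2.2.val) *
            z1 ^ (t h).2.1.val)
          = z2 ^ (t g).2.2.val * (z1 ^ (t g).2.1.val * z2 ^ (t h).2.2.val) *
            (z1 ^ ((t g).1.val * (t h).2.2.val) * z1 ^ (t h).2.1.val) := by group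
        _ = z2 ^ (t g).2.2.val * z2 ^ (t h).2.2.val *
            (z1 ^ (t g).2.1.val * (z1 ^ ((t g).1.val * (t h).2.2.val) * z1 ^ (t h).2.1.val)) := by
            rw [(c12 _ _).eq]; group
        _ = _ := by rw [((Commute.refl z1).pow_pow ((t g).1.val * (t h).2.2.val) (t h).2.1.val).eq]; group
  let eτ : DihedralGroup 4 ≃ Tri := Equiv.ofBijective tau ⟨tau_injective, tau_surjective⟩
  let π : T →* DihedralGroup 4 := MonoidHom.mk' (fun g => eτ.symm (t g)) fun g h => eτ.injective (by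
    show eτ (eτ.symm (t (g * h))) = tau (eτ.symm (t g) * eτ.symm (t h))
    rw [eτ.apply_symm_apply, tau_mul, htmul]
    show _ = tmul (eτ (eτ.symm (t g))) (eτ (eτ.symm (t h)))
    rw [eτ.apply_symm_apply, eτ.apply_symm_apply])
  have hτπ : ∀ g, tau (π g) = t g := fun g => eτ.apply_symm_apply (t g)
  have hker : ∀ g, π g = 1 ↔ g ∈ W T := by
    intro g
    constructor
    · intro h
      have h0 : t g = (0, 0, 0) := by rw [← hτπ, h]; rfl
      have a2 := (ht g).1
      have a3 := (ht g).2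
      rw [h0] at a2 a3
      simp only [ZMod.val_zero, pow_zero, mul_one] at a2 a3
      refine Subgroup.mem_centralizer_iff.2 fun y hy => ?_
      have c2 : Commute g z2 := mul_inv_eq_iff_eq_mul.1 a2
      have c3 : Commute g z3 := mul_inv_eq_iff_eq_mul.1 a3
      rcases H.two_dichotomy (i := 2) (by omega) hz3 nz3 hy with h' | h' <;>
        obtain ⟨c, b, hcb⟩ := H.coords hz1 nz1 hz2 nz2 h'
      · rw [hcb]; exact ((c2.pow_right _).mul_right ((hz1' g).pow_right _)).symm.eq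
      · rw [show y = z3 * (z3⁻¹ * y) by group, hcb]
        exact (c3.mul_right ((c2.pow_right _).mul_right ((hz1' g).pow_right _))).symm.eq
    · intro h
      refine eτ.injective ?_
      show tau (π g) = tau 1
      rw [hτπ]
      refine huniq g _ ?_ ?_
      · rw [← (H.comm_W_Z3 h (Z_mono (show 2 ≤ 3 by omega) hz2)).eq, mul_inv_cancel_right]
        exact (by rw [show (tau 1).1 = 0 from rfl, ZMod.val_zero, pow_zero, mul_one])
      · rw [← (H.comm_W_Z3 h hz3).eq, mul_inv_cancel_right]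
        exact (by rw [show (tau 1).2.2 = 0 from rfl, show (tau 1).2.1 = 0 from rfl, ZMod.val_zero, pow_zero, pow_zero,
          mul_one, mul_one])
  have hkerW : π.ker = W T := by ext g; exact MonoidHom.mem_ker.trans (hker g)
  have hsurj : Function.Surjective π := by
    rw [← MonoidHom.range_eq_top]
    refine Subgroup.eq_top_of_card_eq _ ?_
    rw [← Subgroup.index_ker, hkerW, Subgroup.index_eq_card, H.sizes.1, DihedralGroup.nat_card]
  obtain ⟨v, hv, nv⟩ := H.exists_new (i := 3) (by omega)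
  have hvT := Subgroup.mem_upperCentralSeries_succ_iff.1 hv
  obtain ⟨φ₀, hadd, hk, hcj, hφv⟩ := exists_phi H.two H.Z3_le_W (fun x hx => H.phi_sq hx)
    (fun x hx y hy => H.phi_comm hx hy) (H.Z4_le_W hv) nv hvT fun x hx hy => by
      rcases H.two_dichotomy (i := 3) (by omega) hv nv (Subgroup.mem_upperCentralSeries_succ_iff.2 hy) with h | h
      · exact Or.inl h
      · refine Or.inr ?_
        rw [show x * v = v * (v⁻¹ * x) * v⁻¹ * (v * v) by group]
        exact (Z 3).mul_mem ((inferInstance : (Z 3).Normal).conj_mem _ h v) (H.phi_sq (H.Z4_le_W hv))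
  let eQ : T ⧸ W T ≃* DihedralGroup 4 :=
    (QuotientGroup.quotientMulEquivOfEq hkerW.symm).trans (QuotientGroup.quotientKerEquivOfSurjective π hsurj)
  have heQ : ∀ g : T, eQ (g : T ⧸ W T) = π g := fun g => rfl
  let φ : T → DihedralGroup 4 → ZMod 2 := fun a d => φ₀ a (eQ.symm d)
  have hk' : ∀ a ∈ W T, φ a = 0 ↔ a ∈ Z 3 := fun a ha => by
    rw [← hk a ha]
    refine ⟨fun h => funext fun q => ?_, fun h => funext fun d => ?_⟩
    · have := congrFun h (eQ q)
      simpa [φ] using this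
    · exact congrFun h _
  have hadd' : ∀ a ∈ W T, ∀ b ∈ W T, φ (a * b) = φ a + φ b :=
    fun a ha b hb => funext fun d => congrFun (hadd a ha b hb) (eQ.symm d)
  refine ⟨⟨π, hsurj, hker, z1, z2, z3, hz1, nz1, hz2, nz2, hz3, nz3, fun g => by rw [hτπ]; exact (ht g).1,
    fun g => by rw [hτπ]; exact (ht g).2, φ, hadd', hk', fun g a ha d => ?_, ?_, v, hv, nv, funext fun d => congrFun hφv _⟩⟩
  · show φ₀ (g * a * g⁻¹) (eQ.symm d) = φ₀ a (eQ.symm (d * π g))
    rw [hcj g a ha, map_mul, ← heQ, eQ.symm_apply_apply]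
  · let f : W T →* Multiplicative (DihedralGroup 4 → ZMod 2) :=
      MonoidHom.mk' (fun a => Multiplicative.ofAdd (φ a)) fun a b => by
        rw [← ofAdd_add, ← hadd' a a.2 b b.2]; rfl
    have hfk : f.ker = (Z 3).subgroupOf (W T) := by
      ext a
      rw [MonoidHom.mem_ker]
      exact ⟨fun h => (hk' _ a.2).1 (Multiplicative.ofAdd.injective h), fun h => congrArg Multiplicative.ofAdd ((hk' _ a.2).2 h)⟩
    have htop : f.range = ⊤ := by
      refine Subgroup.eq_top_of_card_eq _ ?_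
      have h := f.ker.card_mul_index
      rw [Subgroup.index_ker, hfk, Nat.card_congr (Subgroup.subgroupOfEquivOfLe H.Z3_le_W).toEquiv,
        H.card_Z 3 (by omega), H.sizes.2.1] at h
      rw [Nat.card_congr Multiplicative.toAdd, Nat.card_fun, Nat.card_zmod, DihedralGroup.nat_card]
      norm_num at h ⊢
      omega
    intro g
    obtain ⟨a, ha⟩ : Multiplicative.ofAdd g ∈ f.range := htop ▸ Subgroup.mem_top _
    exact ⟨a, a.2, Multiplicative.ofAdd.injective ha⟩

end Hyp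

end Cfsg.Agent.Lie.RegularLayer
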