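import Cfsg.Agent.Lib.Lie.RegularLayerD8

/-!
Consequences of the free dihedral layer: centre, weak closure, odd automorphisms.
-/

set_option autoImplicit false
set_option linter.style.haveILetI false
set_option linter.unusedSectionVars false

namespace Cfsg.Agent.Lie.RegularLayer

open scoped commutatorElement

theorem fix_one : ∀ d₀ : DihedralGroup 4, d₀ ≠ 1 →
    (Finset.univ.filter fun f : DihedralGroup 4 → ZMod 2 => ∀ d, f (d * d₀) = f d).card ≤ 16 := by decide +kernel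

theorem fix_two : ∀ d₀ d₁ : DihedralGroup 4, d₀ ≠ 1 → d₁ ≠ 1 → d₀ ≠ d₁ → d₀ * d₁ = d₁ * d₀ →
    (Finset.univ.filter fun f : DihedralGroup 4 → ZMod 2 => ∀ d, f (d * d₀) = f d ∧ f (d * d₁) = f d).card ≤ 4 := by
  decide +kernel

theorem zmod_two_cases : ∀ t : ZMod 2, t = 0 ∨ t = 1 := by decide

theorem fix_alg : ∀ u w B A : ZMod 2, B + (A * u + w) = w → B = 0 ∨ A = 1 := by decide

theorem inv_self : ∀ d : DihedralGroup 4, d * hh * hh = d := by decide +kernel

variable {T : Type*} [Group T] [Finite T]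

local notation "Z" => Subgroup.upperCentralSeries T

/-- `⁅x, y⁆` in the coordinate `Z 3 / Z 2`. -/
noncomputable def bb (x y : T) : ZMod 2 := by
  classical exact if ⁅x, y⁆ ∈ Z 2 then 0 else 1

theorem bb_eq_zero {x y : T} : bb x y = 0 ↔ ⁅x, y⁆ ∈ Z 2 := by
  classical
  unfold bb
  split_ifs with h
  · simp [h]
  · simp [h]

namespace Hyp

variable (H : Hyp T)
include H

theorem comm_mul_left {a b x : T} (ha : a ∈ W T) (hb : b ∈ W T) (hx : x ∈ W T) :
    ⁅a * b, x⁆ = ⁅a, x⁆ * ⁅b, x⁆ := by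
  have h1 : ⁅a * b, x⁆ = a * ⁅b, x⁆ * a⁻¹ * ⁅a, x⁆ := by rw [commutatorElement_def, commutatorElement_def, commutatorElement_def]; group
  rw [h1, ← (H.comm_W_Z3 ha (H.phi_comm hb hx)).eq, mul_inv_cancel_right,
    (H.comm_W_Z3 (H.Z3_le_W (H.phi_comm ha hx)) (H.phi_comm hb hx)).eq]

theorem mul_mem_iff_half {K : Subgroup T} (hK3 : K ≤ Z 3) (hKc : Nat.card (Z 3) ≤ 2 * Nat.card K) {p q : T}
    (hp : p ∈ Z 3) (hq : q ∈ Z 3) : p * q ∈ K ↔ (p ∈ K ↔ q ∈ K) := by
  by_cases h1 : p ∈ K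
  · simp [h1, K.mul_mem_cancel_left h1]
  by_cases h2 : q ∈ K
  · simp [h1, h2, K.mul_mem_cancel_right h2]
  simp only [h1, h2, iff_self, iff_true]
  rcases mem_or_of_double hK3 hKc ((Z 3).inv_mem hp) (fun h => h1 (by simpa using K.inv_mem h)) hq with h | h
  · exact absurd h h2
  · simpa using h

/-- a form condition cutting a subgroup by at most a factor two -/
theorem halve (C : Subgroup T) {K : Subgroup T} (f : T → T) (hf1 : f 1 ∈ K)
    (hmul : ∀ a ∈ C, ∀ b ∈ C, (f (a * b) ∈ K ↔ (f a ∈ K ↔ f b ∈ K))) :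
    ∃ C' : Subgroup T, (∀ a, a ∈ C' ↔ a ∈ C ∧ f a ∈ K) ∧ Nat.card C ≤ 2 * Nat.card C' := by
  classical
  let C' : Subgroup T :=
    { carrier := {a | a ∈ C ∧ f a ∈ K}
      one_mem' := ⟨C.one_mem, hf1⟩
      mul_mem' := fun {a b} ha hb => ⟨C.mul_mem ha.1 hb.1, (hmul a ha.1 b hb.1).2 (iff_of_true ha.2 hb.2)⟩
      inv_mem' := fun {a} ha => ⟨C.inv_mem ha.1, by
        have h := hmul a ha.1 a⁻¹ (C.inv_mem ha.1)
        rw [mul_inv_cancel] at h
        exact (h.1 hf1).1 ha.2⟩ }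
  refine ⟨C', fun a => Iff.rfl, ?_⟩
  by_cases hall : ∀ a ∈ C, f a ∈ K
  · have := Subgroup.card_le_of_le (show C ≤ C' from fun a ha => ⟨ha, hall a ha⟩)
    omega
  push Not at hall
  obtain ⟨y, hy, hyK⟩ := hall
  have hg : Function.Injective fun a : C => if h : f a ∈ K then (Sum.inl ⟨a, a.2, h⟩ : C' ⊕ C')
      else Sum.inr ⟨(a : T) * y, C.mul_mem a.2 hy, (hmul a a.2 y hy).2 (iff_of_false h hyK)⟩ := by
    intro a b hab
    dsimp only at hab
    split_ifs at hab with ha hb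
    · simp only [Sum.inl.injEq, Subtype.mk.injEq] at hab
      exact Subtype.ext hab
    · simp only [Sum.inr.injEq, Subtype.mk.injEq] at hab
      exact Subtype.ext (mul_right_cancel hab)
  have := Nat.card_le_card_of_injective _ hg
  rw [Nat.card_sum] at this
  omega

theorem crit {K : Subgroup T} (hK3 : K ≤ Z 3) (hKc : Nat.card (Z 3) ≤ 2 * Nat.card K) {z : T} (hz : z ∈ Z 3)
    (hzK : z ∉ K) {R : Subgroup T} (hRW : R ≤ W T) (hRK : ∀ r ∈ R, ∀ x ∈ W T, ⁅r, x⁆ ∈ K)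
    (hR : Nat.card (W T) ≤ 32 * Nat.card R) : False := by
  have hind := fun (p q : T) (hp : p ∈ Z 3) (hq : q ∈ Z 3) => H.mul_mem_iff_half hK3 hKc hp hq
  have claim : ∀ i ≤ 3, ∃ L C : Subgroup T, L ≤ C ∧ C ≤ W T ∧ (∀ l ∈ L, ∀ c ∈ C, ⁅c, l⁆ ∈ K) ∧
      Nat.card (W T) ≤ 2 ^ i * Nat.card C ∧ Nat.card (W T) ≤ 2 ^ (5 - i) * Nat.card L := by
    intro i
    induction i with
    | zero =>
      intro _
      refine ⟨R, W T, hRW, le_rfl, fun l hl c hc => ?_, by simp, by simpa using hR⟩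
      rw [← commutatorElement_inv]
      exact K.inv_mem (hRK l hl c hc)
    | succ i ih =>
      intro hi
      obtain ⟨L, C, hLC, hCW, hc, hC, hL⟩ := ih (by omega)
      by_cases hdone : Nat.card (W T) ≤ 2 ^ (4 - i) * Nat.card L
      · refine ⟨L, C, hLC, hCW, hc, hC.trans ?_, by rwa [show 5 - (i + 1) = 4 - i by omega]⟩
        exact Nat.mul_le_mul_right _ (Nat.pow_le_pow_right two_pos (by omega))
      obtain ⟨x, hx, hxL⟩ : ∃ x ∈ C, x ∉ L := by
        by_contra! hall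
        refine hdone (hC.trans ?_)
        exact (Nat.mul_le_mul_right _ (Nat.pow_le_pow_right two_pos (show i ≤ 4 - i by omega))).trans
          (Nat.mul_le_mul_left _ (Subgroup.card_le_of_le hall))
      obtain ⟨C', hC'mem, hC'card⟩ := H.halve C (K := K) (fun c => ⁅c, x⁆)
        (by simp) fun a ha b hb => by
          rw [H.comm_mul_left (hCW ha) (hCW hb) (hCW hx)]
          exact hind _ _ (H.phi_comm (hCW ha) (hCW hx)) (H.phi_comm (hCW hb) (hCW hx))
      have hxC' : x ∈ C' := (hC'mem x).2 ⟨hx, by rw [commutatorElement_self]; exact K.one_mem⟩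
      have hLC' : L ≤ C' := fun l hl => (hC'mem l).2 ⟨hLC hl, by
        rw [← commutatorElement_inv]; exact K.inv_mem (hc l hl x hx)⟩
      let L' : Subgroup T := L ⊔ Subgroup.zpowers x
      have hL'C' : L' ≤ C' := sup_le hLC' (Subgroup.zpowers_le.2 hxC')
      have hlt : L < L' := lt_of_le_of_ne le_sup_left fun e => hxL (e.ge (Subgroup.mem_sup_right (Subgroup.mem_zpowers x)))
      refine ⟨L', C', hL'C', fun c h => hCW ((hC'mem c).1 h).1, fun l hl c hcc => ?_, ?_, ?_⟩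
      · let S : Subgroup T :=
          { carrier := {y | y ∈ W T ∧ ∀ c ∈ C', ⁅c, y⁆ ∈ K}
            one_mem' := ⟨(W T).one_mem, fun c _ => by simp⟩
            mul_mem' := fun {a b} ha hb => ⟨(W T).mul_mem ha.1 hb.1, fun c hc' => by
              have hcW : c ∈ W T := hCW ((hC'mem c).1 hc').1
              rw [← commutatorElement_inv, K.inv_mem_iff, H.comm_mul_left ha.1 hb.1 hcW]
              exact K.mul_mem (by rw [← commutatorElement_inv]; exact K.inv_mem (ha.2 c hc'))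
                (by rw [← commutatorElement_inv]; exact K.inv_mem (hb.2 c hc'))⟩
            inv_mem' := fun {a} ha => ⟨(W T).inv_mem ha.1, fun c hc' => by
              have hcW : c ∈ W T := hCW ((hC'mem c).1 hc').1
              have h := H.comm_mul_left ha.1 ((W T).inv_mem ha.1) hcW
              rw [mul_inv_cancel, commutatorElement_one_left] at h
              rw [← commutatorElement_inv, K.inv_mem_iff, eq_inv_of_mul_eq_one_right h.symm, commutatorElement_inv]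
              exact ha.2 c hc'⟩ }
        have hle : L' ≤ S := by
          refine sup_le (fun l hl => ⟨hCW (hLC hl), fun c hc' => hc l hl c ((hC'mem c).1 hc').1⟩) ?_
          exact Subgroup.zpowers_le.2 ⟨hCW hx, fun c hc' => ((hC'mem c).1 hc').2⟩
        exact (hle hl).2 c hcc
      · rw [pow_succ, mul_assoc]
        exact hC.trans (Nat.mul_le_mul_left _ hC'card)
      · have hd := card_double hlt
        rw [show 5 - (i + 1) = 4 - i by omega]
        rw [show 5 - i = (4 - i) + 1 by omega, pow_succ, mul_assoc] at hL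
        exact hL.trans (Nat.mul_le_mul_left _ hd)
  obtain ⟨L, C, hLC, hCW, hc, -, hL⟩ := claim 3 le_rfl
  have hLW : L ≤ W T := hLC.trans hCW
  obtain ⟨Ω, hΩ, hΩc⟩ := H.halve (L ⊔ Z 3) (K := K) (fun y => y * y) (by simp) fun a ha b hb => by
    have hW : L ⊔ Z 3 ≤ W T := sup_le hLW H.Z3_le_W
    have hab : ⁅a⁻¹, b⁆ ∈ K := by
      let S : Subgroup T :=
        { carrier := {y | y ∈ W T ∧ ∀ u ∈ L ⊔ Z 3, ⁅y, u⁆ ∈ K}
          one_mem' := ⟨(W T).one_mem, fun u _ => by simp⟩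
          mul_mem' := fun {p q} hp hq => ⟨(W T).mul_mem hp.1 hq.1, fun u hu => by
            rw [H.comm_mul_left hp.1 hq.1 (hW hu)]; exact K.mul_mem (hp.2 u hu) (hq.2 u hu)⟩
          inv_mem' := fun {p} hp => ⟨(W T).inv_mem hp.1, fun u hu => by
            have h := H.comm_mul_left hp.1 ((W T).inv_mem hp.1) (hW hu)
            rw [mul_inv_cancel, commutatorElement_one_left] at h
            rw [eq_inv_of_mul_eq_one_right h.symm]; exact K.inv_mem (hp.2 u hu)⟩ }
      have h3 : ∀ p ∈ W T, ∀ q ∈ Z 3, ⁅q, p⁆ ∈ K := fun p hp q hq => by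
        rw [commutatorElement_eq_one_iff_mul_comm.2 (H.comm_W_Z3 hp hq).eq]; exact K.one_mem
      have hS3 : Z 3 ≤ S := fun q hq => ⟨H.Z3_le_W hq, fun u hu => h3 u (hW hu) q hq⟩
      have hSL : L ≤ S := fun l hl => ⟨hLW hl, fun u hu => by
        let S' : Subgroup T :=
          { carrier := {y | y ∈ W T ∧ ⁅y, l⁆ ∈ K}
            one_mem' := ⟨(W T).one_mem, by simp⟩
            mul_mem' := fun {p q} hp hq => ⟨(W T).mul_mem hp.1 hq.1, by
              rw [H.comm_mul_left hp.1 hq.1 (hLW hl)]; exact K.mul_mem hp.2 hq.2⟩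
            inv_mem' := fun {p} hp => ⟨(W T).inv_mem hp.1, by
              have h := H.comm_mul_left hp.1 ((W T).inv_mem hp.1) (hLW hl)
              rw [mul_inv_cancel, commutatorElement_one_left] at h
              rw [eq_inv_of_mul_eq_one_right h.symm]; exact K.inv_mem hp.2⟩ }
        have h' : L ⊔ Z 3 ≤ S' := sup_le (fun u hu => ⟨hLW hu, hc l hl u (hLC hu)⟩)
          fun q hq => ⟨H.Z3_le_W hq, h3 l (hLW hl) q hq⟩
        rw [← commutatorElement_inv]; exact K.inv_mem (h' hu).2⟩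
      exact (sup_le hSL hS3 ((L ⊔ Z 3).inv_mem ha)).2 b hb
    rw [show a * b * (a * b) = a * a * ⁅a⁻¹, b⁆ * (b * b) by rw [commutatorElement_def]; group]
    have h1 := hind _ _ ((Z 3).mul_mem (H.phi_sq (hW ha)) (hK3 hab)) (H.phi_sq (hW hb))
    rw [h1, K.mul_mem_cancel_right hab]
  have hΩW : Ω ≤ W T := fun y hy => sup_le hLW H.Z3_le_W ((hΩ y).1 hy).1
  have hKΩ : K ≤ Ω := fun k hk => (hΩ k).2 ⟨Subgroup.mem_sup_right (hK3 hk), K.mul_mem hk hk⟩
  have hzΩ : z ∈ Ω := (hΩ z).2 ⟨Subgroup.mem_sup_right hz, by rw [H.elementary hz]; exact K.one_mem⟩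
  have hΩsq : ∀ x ∈ Ω, x * x ∈ K := fun x hx => ((hΩ x).1 hx).2
  obtain ⟨U, hKU, hUΩ, hzU, -, hUc⟩ := exists_index_two hKΩ hΩsq
    (fun x hx y hy => by
      have e : ⁅x, y⁆ = x * y * (x * y) * (y * y)⁻¹ * (y * (x * x)⁻¹ * y⁻¹) := by rw [commutatorElement_def]; group
      have hy' : y * (x * x)⁻¹ * y⁻¹ = (x * x)⁻¹ := by
        rw [← (H.comm_W_Z3 (hΩW hy) ((Z 3).inv_mem (H.phi_sq (hΩW hx)))).eq, mul_inv_cancel_right]
      rw [e, hy']
      exact K.mul_mem (K.mul_mem (hΩsq _ (Ω.mul_mem hx hy)) (K.inv_mem (hΩsq y hy))) (K.inv_mem (hΩsq x hx))) hzΩ hzK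
  refine hzU (H.sub U (hUΩ.trans hΩW) ?_ (H.phi_eq.ge hz))
  have h1 : Nat.card L ≤ Nat.card ↥(L ⊔ Z 3) := Subgroup.card_le_of_le le_sup_left
  norm_num at hL
  omega

theorem comm_small (M : Model T) {y : T} (hy : y ∈ W T) (hyc : ∀ x ∈ W T, ⁅y, x⁆ ∈ Z 2) : y ∈ Z 3 := by
  classical
  haveI : Fact (Nat.Prime 2) := ⟨Nat.prime_two⟩
  haveI : Group.IsNilpotent T := H.two.isNilpotent
  by_contra hy3
  let S : Subgroup T :=
    { carrier := {y | y ∈ W T ∧ ∀ x ∈ W T, ⁅y, x⁆ ∈ Z 2}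
      one_mem' := ⟨(W T).one_mem, fun x _ => by simp⟩
      mul_mem' := fun {a b} ha hb => ⟨(W T).mul_mem ha.1 hb.1, fun x hx => by
        rw [H.comm_mul_left ha.1 hb.1 hx]; exact (Z 2).mul_mem (ha.2 x hx) (hb.2 x hx)⟩
      inv_mem' := fun {a} ha => ⟨(W T).inv_mem ha.1, fun x hx => by
        have h := H.comm_mul_left ha.1 ((W T).inv_mem ha.1) hx
        rw [mul_inv_cancel, commutatorElement_one_left] at h
        rw [eq_inv_of_mul_eq_one_right h.symm]; exact (Z 2).inv_mem (ha.2 x hx)⟩ }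
  have hWn : ∀ {x : T} (g : T), x ∈ W T → g * x * g⁻¹ ∈ W T := fun g hx =>
    (inferInstance : (W T).Normal).conj_mem _ hx g
  have hSn : S.Normal := ⟨fun s hs g => ⟨hWn g hs.1, fun x hx => by
    have h := (inferInstance : (Z 2).Normal).conj_mem _ (hs.2 (g⁻¹ * x * g) (by simpa using hWn g⁻¹ hx)) g
    rw [conjugate_commutatorElement, show g * (g⁻¹ * x * g) * g⁻¹ = x by group] at h
    exact h⟩⟩
  obtain ⟨u, hu, hu3, huT⟩ := exists_step (M := Z 3) _ S hSn le_rfl (fun h => hy3 (h ⟨hy, hyc⟩))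
  have hvS : M.v ∈ S := by
    rcases H.two_dichotomy (i := 3) (by omega) (Subgroup.mem_upperCentralSeries_succ_iff.2 huT) hu3 M.hv with h | h
    · exact absurd h M.nv
    · rw [show M.v = u * (u⁻¹ * M.v) by group]
      refine S.mul_mem hu ⟨H.Z3_le_W h, fun x hx => ?_⟩
      rw [commutatorElement_eq_one_iff_mul_comm.2 (H.comm_W_Z3 hx h).eq]
      exact one_mem _
  -- the form
  have hzero : ∀ {a x : T}, a ∈ Z 3 → x ∈ W T → bb a x = 0 := fun {a x} ha hx => bb_eq_zero.2 (by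
    rw [commutatorElement_eq_one_iff_mul_comm.2 (H.comm_W_Z3 hx ha).eq]; exact one_mem _)
  have hsymm : ∀ a x : T, bb a x = bb x a := fun a x => by
    rcases Fin.exists_fin_two.1 ⟨bb x a, rfl⟩ with h | h
    · rw [h]
      exact bb_eq_zero.2 (by rw [← commutatorElement_inv]; exact (Z 2).inv_mem (bb_eq_zero.1 h))
    · rcases Fin.exists_fin_two.1 ⟨bb a x, rfl⟩ with h' | h'
      · have : bb x a = 0 := bb_eq_zero.2 (by rw [← commutatorElement_inv]; exact (Z 2).inv_mem (bb_eq_zero.1 h'))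
        rw [h'] ; exact this.symm
      · rw [h, h']
  have hcard2 : Nat.card (Z 3) ≤ 2 * Nat.card (Z 2) := by
    rw [H.card_Z 3 (by omega), H.card_Z 2 (by omega)]; norm_num
  have haddl : ∀ {a b x : T}, a ∈ W T → b ∈ W T → x ∈ W T → bb (a * b) x = bb a x + bb b x := by
    intro a b x ha hb hx
    have h := H.mul_mem_iff_half (Z_mono (show 2 ≤ 3 by omega)) hcard2 (H.phi_comm ha hx) (H.phi_comm hb hx)
    rw [← H.comm_mul_left ha hb hx] at h
    unfold bb
    by_cases h1 : ⁅a, x⁆ ∈ Z 2 <;> by_cases h2 : ⁅b, x⁆ ∈ Z 2 <;> simp [h1, h2] at h ⊢ <;> simp [h] <;> rfl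
  have hcongr : ∀ {a a' x : T}, a ∈ W T → a' ∈ W T → x ∈ W T → M.φ a = M.φ a' → bb a x = bb a' x := by
    intro a a' x ha ha' hx he
    have h1 : a'⁻¹ * a ∈ Z 3 := by
      refine (M.ker _ ((W T).mul_mem ((W T).inv_mem ha') ha)).1 ?_
      have h2 := M.add a' ha' _ ((W T).mul_mem ((W T).inv_mem ha') ha)
      rw [mul_inv_cancel_left, he] at h2
      exact left_eq_add.1 h2
    rw [show a = a' * (a'⁻¹ * a) by group, haddl ha' ((W T).mul_mem ((W T).inv_mem ha') ha) hx, hzero h1 hx, add_zero]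
  have hinv : ∀ (g a x : T), bb (g * a * g⁻¹) (g * x * g⁻¹) = bb a x := by
    intro g a x
    unfold bb
    rw [← conjugate_commutatorElement]
    refine if_congr ⟨fun h => ?_, fun h => (inferInstance : (Z 2).Normal).conj_mem _ h g⟩ rfl rfl
    simpa [mul_assoc] using (inferInstance : (Z 2).Normal).conj_mem _ h g⁻¹
  choose sec hsecW hsec using M.surj
  let e : DihedralGroup 4 → T := fun d => sec (Pi.single d 1)
  have hphi_conj : ∀ (g : T) (c d : DihedralGroup 4), M.π g = c →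
      M.φ (g * e d * g⁻¹) = Pi.single (d * c⁻¹) 1 := by
    intro g c d hg
    funext q
    rw [M.conj g _ (hsecW _), hsec, hg, Pi.single_apply, Pi.single_apply]
    exact if_congr eq_mul_inv_iff_mul_eq.symm rfl rfl
  have hshift : ∀ c d, bb (e c) (e d) = bb (e 1) (e (d * c⁻¹)) := by
    intro c d
    obtain ⟨g, hg⟩ := M.π_surj c
    rw [← hinv g, hcongr (hWn g (hsecW _)) (hsecW (Pi.single 1 1)) (hWn g (hsecW _))
      (by rw [hphi_conj g c c hg, mul_inv_cancel]; exact (hsec _).symm), hsymm,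
      hcongr (hWn g (hsecW _)) (hsecW _) (hsecW _) ((hphi_conj g c d hg).trans (hsec _).symm), hsymm]
  let β : DihedralGroup 4 → ZMod 2 := fun d => bb (e 1) (e d)
  let Lin : T → ((DihedralGroup 4 → ZMod 2) →+ ZMod 2) := fun a =>
    if ha : a ∈ W T then AddMonoidHom.mk' (fun f => bb (sec f) a) fun f f' => by
      rw [← haddl (hsecW f) (hsecW f') ha]
      refine hcongr (hsecW _) ((W T).mul_mem (hsecW f) (hsecW f')) ha ?_
      rw [hsec, M.add _ (hsecW f) _ (hsecW f'), hsec, hsec]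
    else 0
  have hLin : ∀ {a x : T}, a ∈ W T → x ∈ W T → bb x a = Lin a (M.φ x) := by
    intro a x ha hx
    simp only [Lin, dif_pos ha, AddMonoidHom.mk'_apply]
    exact hcongr hx (hsecW _) ha (hsec _).symm
  have hLin1 : ∀ {a : T} (d : DihedralGroup 4), a ∈ W T → Lin a (Pi.single d 1) = bb (e d) a := by
    intro a d ha
    simp only [Lin, dif_pos ha, AddMonoidHom.mk'_apply]
    rfl
  have hexpand : ∀ {a x : T}, a ∈ W T → x ∈ W T → bb x a = ∑ d, M.φ x d * bb (e d) a := by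
    intro a x ha hx
    rw [hLin ha hx]
    conv_lhs => rw [← Finset.univ_sum_single (M.φ x)]
    rw [map_sum]
    refine Finset.sum_congr rfl fun d _ => ?_
    rcases zmod_two_cases (M.φ x d) with h | h <;> rw [h]
    · rw [Pi.single_zero, map_zero, zero_mul]
    · rw [hLin1 d ha, one_mul]
  have hβinv : ∀ d, β d⁻¹ = β d := fun d => by
    show bb (e 1) (e d⁻¹) = bb (e 1) (e d)
    rw [← one_mul d⁻¹, ← hshift, hsymm]
  have hβ1 : β 1 = 0 := bb_eq_zero.2 (by rw [commutatorElement_self]; exact one_mem _)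
  have hβfix : ∀ d, d * d = 1 → β d = 1 → (tau d).2.2 = 0 ∧ ((tau d).2.1 = 0 ∨ (tau d).1 = 1) := by
    intro d hdd hd1
    obtain ⟨g, hg⟩ := M.π_surj d
    set a := e 1
    set b := g * a * g⁻¹ with hb
    have ha : a ∈ W T := hsecW _
    have hbW : b ∈ W T := hWn g ha
    set z := ⁅a, b⁆ with hz
    have hz3 : z ∈ Z 3 := H.phi_comm ha hbW
    have hz2 : z ∉ Z 2 := by
      intro h
      have h' := bb_eq_zero.2 h
      rw [hsymm, hcongr hbW (hsecW (Pi.single d 1)) ha (by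
        rw [hphi_conj g d 1 hg, hsec, one_mul, show d⁻¹ = d from inv_eq_of_mul_eq_one_right hdd]), hsymm] at h'
      rw [show β d = 0 from h'] at hd1
      exact zero_ne_one hd1
    have hgb : M.φ (g * b * g⁻¹) = M.φ a := by
      funext q
      rw [M.conj g b hbW, hb, M.conj g a ha, mul_assoc, hg, hdd, mul_one]
    have hconj : g * z * g⁻¹ = z := by
      have hn : a⁻¹ * (g * b * g⁻¹) ∈ Z 3 := by
        refine (M.ker _ ((W T).mul_mem ((W T).inv_mem ha) (hWn g hbW))).1 ?_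
        have h2 := M.add a ha _ ((W T).mul_mem ((W T).inv_mem ha) (hWn g hbW))
        rw [mul_inv_cancel_left, hgb] at h2
        exact left_eq_add.1 h2
      rw [hz, conjugate_commutatorElement, ← hb, show g * b * g⁻¹ = a * (a⁻¹ * (g * b * g⁻¹)) by group,
        ← commutatorElement_inv, H.comm_mul_left ha (H.Z3_le_W hn) hbW,
        commutatorElement_eq_one_iff_mul_comm.2 (H.comm_W_Z3 hbW hn).eq, mul_one]
      exact inv_eq_of_mul_eq_one_right (H.elementary (H.phi_comm ha hbW))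
    rcases H.two_dichotomy (i := 2) (by omega) M.hz3 M.nz3 hz3 with h | h
    · exact absurd h hz2
    obtain ⟨u, w, huw⟩ := H.coords M.hz1 M.nz1 M.hz2 M.nz2 h
    have hze : z = M.z3 * (M.z2 ^ u.val * M.z1 ^ w.val) := by rw [← huw]; group
    have e1 := H.elementary (Z_mono (show 1 ≤ 3 by omega) M.hz1)
    have hc1 : ∀ y : T, Commute y M.z1 := fun y => by
      have h := M.hz1
      rw [Subgroup.upperCentralSeries_one] at h
      exact Subgroup.mem_center_iff.1 h y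
    rw [hze, show g * (M.z3 * (M.z2 ^ u.val * M.z1 ^ w.val)) * g⁻¹ =
      g * M.z3 * g⁻¹ * ((g * M.z2 ^ u.val * g⁻¹) * (g * M.z1 ^ w.val * g⁻¹)) by group, M.conj3, hg, ← conj_pow,
      M.conj2, hg, ((hc1 g).pow_right _).eq, mul_inv_cancel_right, ((hc1 M.z2).pow_right _).mul_pow, ← pow_mul,
      ← val_mul_two, mul_assoc M.z3] at hconj
    have hconj' := mul_left_cancel hconj
    rw [show M.z2 ^ (tau d).2.2.val * M.z1 ^ (tau d).2.1.val * (M.z2 ^ u.val * M.z1 ^ ((tau d).1 * u).val * M.z1 ^ w.val) =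
      M.z2 ^ (tau d).2.2.val * (M.z1 ^ (tau d).2.1.val * M.z2 ^ u.val) * (M.z1 ^ ((tau d).1 * u).val * M.z1 ^ w.val) by group,
      (((hc1 M.z2).symm).pow_pow _ _).eq, ← pow_val_add e1,
      show M.z2 ^ (tau d).2.2.val * (M.z2 ^ u.val * M.z1 ^ (tau d).2.1.val) * M.z1 ^ ((tau d).1 * u + w).val =
        M.z2 ^ (tau d).2.2.val * M.z2 ^ u.val * (M.z1 ^ (tau d).2.1.val * M.z1 ^ ((tau d).1 * u + w).val) by group,
      ← pow_val_add e1, ← pow_val_add (H.elementary (Z_mono (show 2 ≤ 3 by omega) M.hz2))] at hconj'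
    obtain ⟨hcu, hbu⟩ := H.coords_inj M.hz1 M.nz1 M.hz2 M.nz2 hconj'
    refine ⟨add_eq_right.1 hcu, ?_⟩
    exact fix_alg u w _ _ hbu
  have hsum : ∑ d, β d = 0 := by
    have h := hexpand (a := e 1) (hsecW _) (H.Z4_le_W M.hv)
    rw [M.φv, bb_eq_zero.2 (hvS.2 (e 1) (hsecW _))] at h
    rw [h]
    exact Finset.sum_congr rfl fun d _ => by rw [one_mul]; exact hsymm _ _
  have hβh := beta_lemma β hβ1 hβinv hβfix hsum
  have hmain : ∀ a ∈ W T, (∀ d, M.φ a (d * hh) = M.φ a d) → a ∈ S := by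
    intro a ha hinvf
    have hc : ∀ c, bb (e c) a = 0 := by
      intro c
      rw [hsymm, hexpand (hsecW _) ha]
      refine Finset.sum_involution (fun d _ => d * hh) (fun d _ => ?_) (fun d _ _ => (hh_central d).2.2)
        (fun d _ => Finset.mem_univ _) (fun d _ => inv_self d)
      have h2 : bb (e (d * hh)) (e c) = bb (e d) (e c) := by
        rw [hsymm, hsymm (e d), hshift, hshift c]
        show β (d * hh * c⁻¹) = β (d * c⁻¹)
        rw [mul_assoc, ← (hh_central c⁻¹).1, ← mul_assoc]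
        exact hβh _
      rw [hinvf, h2]
      exact CharTwo.add_self_eq_zero _
    refine ⟨ha, fun x hx => bb_eq_zero.1 ?_⟩
    rw [hsymm, hexpand ha hx]
    exact Finset.sum_eq_zero fun d _ => by rw [hc, mul_zero]
  let fun4 : (ZMod 2 × ZMod 2 → ZMod 2) → DihedralGroup 4 → ZMod 2 := fun k d => k ((tau d).1, (tau d).2.2)
  have hinj4 : Function.Injective fun4 := fun k k' h => funext fun p => by
    obtain ⟨d, hd1, hd2⟩ := cls_surjective p.1 p.2
    have := congrFun h d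
    simp only [fun4, hd1, hd2] at this
    exact this
  let G4 : (ZMod 2 × ZMod 2 → ZMod 2) × Z 3 → S := fun p => ⟨sec (fun4 p.1) * (p.2 : T),
    S.mul_mem (hmain _ (hsecW _) fun d => by
        rw [hsec]
        show p.1 _ = p.1 _
        rw [(cls_lemma d).1, (cls_lemma d).2])
      ⟨H.Z3_le_W p.2.2, fun x hx => by
        rw [commutatorElement_eq_one_iff_mul_comm.2 (H.comm_W_Z3 hx p.2.2).eq]; exact one_mem _⟩⟩
  have hG4 : Function.Injective G4 := by
    rintro ⟨k, n⟩ ⟨k', n'⟩ h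
    have h' : sec (fun4 k) * (n : T) = sec (fun4 k') * (n' : T) := congrArg Subtype.val h
    have hk := congrArg M.φ h'
    rw [M.add _ (hsecW _) _ (H.Z3_le_W n.2), M.add _ (hsecW _) _ (H.Z3_le_W n'.2), hsec, hsec,
      (M.ker _ (H.Z3_le_W n.2)).2 n.2, (M.ker _ (H.Z3_le_W n'.2)).2 n'.2, add_zero, add_zero] at hk
    obtain rfl := hinj4 hk
    exact Prod.ext rfl (Subtype.ext (mul_left_cancel h'))
  have hS := Nat.card_le_card_of_injective G4 hG4
  rw [Nat.card_prod, H.card_Z 3 (by omega), Nat.card_fun, Nat.card_prod, Nat.card_zmod] at hS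
  exact H.crit (Z_mono (show 2 ≤ 3 by omega)) hcard2 M.hz3 M.nz3 (R := S) (fun s hs => hs.1) (fun s hs => hs.2)
    (by rw [H.sizes.2.1]; norm_num at hS ⊢; omega)

theorem center_eq (M : Model T) {y : T} (hy : y ∈ W T) (hc : ∀ x ∈ W T, Commute y x) : y ∈ Z 3 :=
  H.comm_small M hy fun x hx => by
    rw [commutatorElement_eq_one_iff_mul_comm.2 (hc x hx).eq]; exact one_mem _

theorem y_card (M : Model T) {z : T} (hz : z ∈ Z 3) {Y : Subgroup T} (hYW : Y ≤ W T)
    (hY : ∀ y ∈ Y, ∀ x ∈ W T, ⁅y, x⁆ ∈ Subgroup.zpowers z) : Nat.card Y ≤ 16 := by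
  haveI : Fact (Nat.Prime 2) := ⟨Nat.prime_two⟩
  have hY3 : Y ≤ Z 3 → Nat.card Y ≤ 16 := fun h => by
    have := Subgroup.card_le_of_le h
    rw [H.card_Z 3 (by omega)] at this
    omega
  by_cases hz2 : z ∈ Z 2
  · exact hY3 fun y hy => H.comm_small M (hYW hy) fun x hx => (Subgroup.zpowers_le.2 hz2) (hY y hy x hx)
  by_contra hbig
  have hc1 : ∀ y : T, Commute y M.z1 := fun y => by
    have h := M.hz1
    rw [Subgroup.upperCentralSeries_one] at h
    exact Subgroup.mem_center_iff.1 h y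
  obtain ⟨g, hg⟩ := M.π_surj hh
  have hz' : g * z * g⁻¹ = z * M.z1 := by
    rcases H.two_dichotomy (i := 2) (by omega) M.hz3 M.nz3 hz with h | h
    · exact absurd h hz2
    obtain ⟨u, w, huw⟩ := H.coords M.hz1 M.nz1 M.hz2 M.nz2 h
    have hfix2 : g * M.z2 * g⁻¹ = M.z2 := by
      rw [M.conj2, hg, show (tau hh).1 = 0 from rfl, ZMod.val_zero, pow_zero, mul_one]
    rw [show z = M.z3 * (M.z2 ^ u.val * M.z1 ^ w.val) by rw [← huw]; group,
      show g * (M.z3 * (M.z2 ^ u.val * M.z1 ^ w.val)) * g⁻¹ =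
        g * M.z3 * g⁻¹ * ((g * M.z2 ^ u.val * g⁻¹) * (g * M.z1 ^ w.val * g⁻¹)) by group,
      ← conj_pow, hfix2, ((hc1 g).pow_right _).eq, mul_inv_cancel_right, M.conj3, hg,
      show (tau hh).2.2 = 0 from rfl, show (tau hh).2.1 = 1 from rfl, ZMod.val_zero, pow_zero, ZMod.val_one, pow_one,
      one_mul, mul_assoc, ← (hc1 (M.z2 ^ u.val * M.z1 ^ w.val)).eq, ← mul_assoc, ← mul_assoc]
  let K : Subgroup T :=
    { carrier := {w | w ∈ Z 3 ∧ (w ∈ Z 1 ∨ z⁻¹ * w ∈ Z 1)}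
      one_mem' := ⟨(Z 3).one_mem, Or.inl (one_mem _)⟩
      mul_mem' := by
        rintro a b ⟨ha, h⟩ ⟨hb, h'⟩
        refine ⟨(Z 3).mul_mem ha hb, ?_⟩
        have hcza : Commute z⁻¹ a := H.comm_W_Z3 (H.Z3_le_W ha) ((Z 3).inv_mem hz)
        rcases h with h | h <;> rcases h' with h' | h'
        · exact Or.inl ((Z 1).mul_mem h h')
        · exact Or.inr (by rw [← mul_assoc, hcza.eq, mul_assoc]; exact (Z 1).mul_mem h h')
        · exact Or.inr (by rw [← mul_assoc]; exact (Z 1).mul_mem h h')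
        · refine Or.inl ?_
          have e : a * b = z⁻¹ * a * (z⁻¹ * b) := by
            rw [hcza.eq, mul_assoc a, ← mul_assoc z⁻¹ z⁻¹, show z⁻¹ * z⁻¹ = 1 by rw [← mul_inv_rev, H.elementary hz, inv_one], one_mul]
          rw [e]; exact (Z 1).mul_mem h h'
      inv_mem' := by
        rintro a ⟨ha, h⟩
        rw [show a⁻¹ = a from inv_eq_of_mul_eq_one_right (H.elementary ha)]
        exact ⟨ha, h⟩ }
  have hK3 : K ≤ Z 3 := fun w hw => hw.1
  have hz1K : M.z1 ∈ K := ⟨Z_mono (show 1 ≤ 3 by omega) M.hz1, Or.inl M.hz1⟩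
  have hzK : z ∈ K := ⟨hz, Or.inr (by rw [inv_mul_cancel]; exact one_mem _)⟩
  have h1K : Z 1 < K := lt_of_le_of_ne (fun w hw => ⟨Z_mono (show 1 ≤ 3 by omega) hw, Or.inl hw⟩)
    fun e => hz2 (Z_mono (show 1 ≤ 2 by omega) (e.ge hzK))
  have hKc : Nat.card (Z 3) ≤ 2 * Nat.card K := by
    have := card_double h1K
    rw [H.card_Z 1 (by omega)] at this
    rw [H.card_Z 3 (by omega)]
    omega
  have hz2K : M.z2 ∉ K := by
    rintro ⟨-, h | h⟩
    · exact M.nz2 h
    · refine hz2 ?_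
      rw [show z = M.z2 * (z⁻¹ * M.z2)⁻¹ by group]
      exact (Z 2).mul_mem M.hz2 ((Z 2).inv_mem (Z_mono (show 1 ≤ 2 by omega) h))
  let S : Subgroup T :=
    { carrier := {y | y ∈ W T ∧ ∀ x ∈ W T, ⁅y, x⁆ ∈ K}
      one_mem' := ⟨(W T).one_mem, fun x _ => by simp⟩
      mul_mem' := fun {a b} ha hb => ⟨(W T).mul_mem ha.1 hb.1, fun x hx => by
        rw [H.comm_mul_left ha.1 hb.1 hx]; exact K.mul_mem (ha.2 x hx) (hb.2 x hx)⟩
      inv_mem' := fun {a} ha => ⟨(W T).inv_mem ha.1, fun x hx => by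
        have h := H.comm_mul_left ha.1 ((W T).inv_mem ha.1) hx
        rw [mul_inv_cancel, commutatorElement_one_left] at h
        rw [eq_inv_of_mul_eq_one_right h.symm]; exact K.inv_mem (ha.2 x hx)⟩ }
  let Y' : Subgroup T := Y.map (MulAut.conj g).toMonoidHom
  have hY' : ∀ y ∈ Y', y ∈ W T ∧ ∀ x ∈ W T, ⁅y, x⁆ ∈ Subgroup.zpowers (z * M.z1) := by
    rintro _ ⟨y, hy, rfl⟩
    show g * y * g⁻¹ ∈ W T ∧ ∀ x ∈ W T, ⁅g * y * g⁻¹, x⁆ ∈ Subgroup.zpowers (z * M.z1)
    refine ⟨(inferInstance : (W T).Normal).conj_mem _ (hYW hy) g, fun x hx => ?_⟩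
    have hx' : g⁻¹ * x * g ∈ W T := by simpa using (inferInstance : (W T).Normal).conj_mem _ hx g⁻¹
    obtain ⟨k, hk⟩ := Subgroup.mem_zpowers_iff.1 (hY y hy _ hx')
    refine Subgroup.mem_zpowers_iff.2 ⟨k, ?_⟩
    rw [← hz', conj_zpow, hk, conjugate_commutatorElement, show g * (g⁻¹ * x * g) * g⁻¹ = x by group]
  have hYS : Y ≤ S := fun y hy => ⟨hYW hy, fun x hx => (Subgroup.zpowers_le.2 hzK) (hY y hy x hx)⟩
  have hY'S : Y' ≤ S := fun y hy =>
    ⟨(hY' y hy).1, fun x hx => (Subgroup.zpowers_le.2 (K.mul_mem hzK hz1K)) ((hY' y hy).2 x hx)⟩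
  have hcY : Nat.card Y' = Nat.card Y := Subgroup.card_map_of_injective (MulEquiv.injective _)
  by_cases hS : Nat.card (W T) ≤ 32 * Nat.card S
  · exact H.crit hK3 hKc (Z_mono (show 2 ≤ 3 by omega) M.hz2) hz2K (R := S) (fun s hs => hs.1) (fun s hs => hs.2) hS
  have hp2 : ∀ U : Subgroup T, ∃ k, Nat.card U = 2 ^ k := fun U => (H.two.to_subgroup U).exists_card_eq
  obtain ⟨k, hk⟩ := hp2 Y
  obtain ⟨l, hl⟩ := hp2 S
  rw [H.sizes.2.1, hl] at hS
  have hk5 : 5 ≤ k := by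
    by_contra h
    exact hbig (by rw [hk]; exact (Nat.pow_le_pow_right two_pos (show k ≤ 4 by omega)).trans (by norm_num))
  have hl5 : l ≤ 5 := by
    by_contra h
    exact hS (le_trans (by norm_num) (Nat.mul_le_mul_left 32 (Nat.pow_le_pow_right two_pos (show 6 ≤ l by omega))))
  have hcard : Nat.card S ≤ Nat.card Y := by rw [hk, hl]; exact Nat.pow_le_pow_right two_pos (by omega)
  have e1 : Y = S := Subgroup.eq_of_le_of_card_ge hYS hcard
  have e2 : Y' = S := Subgroup.eq_of_le_of_card_ge hY'S (by rw [hcY]; exact hcard)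
  refine hbig (hY3 fun y hy => H.center_eq M (hYW hy) fun x hx => ?_)
  rw [← commutatorElement_eq_one_iff_commute]
  have h1 := hY y hy x hx
  have h2 := (hY' y (by rw [e2, ← e1]; exact hy)).2 x hx
  obtain ⟨i, hi⟩ := Subgroup.mem_zpowers_iff.1 h1
  obtain ⟨j, hj⟩ := Subgroup.mem_zpowers_iff.1 h2
  have hinv2 : ∀ {w : T}, w * w = 1 → ∀ i : ℤ, w ^ i = 1 ∨ w ^ i = w := fun {w} hw i => by
    obtain ⟨m, rfl | rfl⟩ := Int.even_or_odd' i
    · left; rw [zpow_mul, zpow_ofNat, sq, hw, one_zpow]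
    · right; rw [zpow_add, zpow_mul, zpow_ofNat, sq, hw, one_zpow, one_mul, zpow_one]
  rcases hinv2 (H.elementary hz) i with a | a
  · rw [← hi, a]
  rcases hinv2 (H.elementary ((Z 3).mul_mem hz (Z_mono (show 1 ≤ 3 by omega) M.hz1))) j with b | b
  · rw [← hj, b]
  exact absurd (left_eq_mul.1 ((a.symm.trans (hi.trans (hj.symm.trans b))))) M.nz1

end Hyp

end Cfsg.Agent.Lie.RegularLayer
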