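import Cfsg.Agent.Lib.Lie.RegularLayerFacts

/-!
The dihedral layer is weakly closed and kills automorphisms of odd order.
-/

set_option autoImplicit false
set_option linter.style.haveILetI false
set_option linter.unusedSectionVars false

namespace Cfsg.Agent.Lie.RegularLayer

open scoped commutatorElement

theorem no_elementary : ¬ ∀ a : DihedralGroup 4, a * a = 1 := by decide +kernel

variable {T : Type*} [Group T] [Finite T]

local notation "Z" => Subgroup.upperCentralSeries T

/-- an automorphism fixing a subgroup pointwise and the cosets of it -/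
theorem trivial_step (hT : IsPGroup 2 T) (α : T ≃* T) {m : ℕ} (hm : Odd m) (hα : ∀ x, (α : T → T)^[m] x = x)
    {x n : T} (hn : α n = n) (hx : α x = x * n) : n = 1 := by
  have h : ∀ k, (α : T → T)^[k] x = x * n ^ k := by
    intro k
    induction k with
    | zero => simp
    | succ k ih => rw [Function.iterate_succ_apply', ih, map_mul, map_pow, hn, hx, mul_assoc, ← pow_succ']
  have h1 := (h m).symm.trans (hα x)
  rw [mul_eq_left] at h1
  obtain ⟨k, hk⟩ := hT n
  have hd : orderOf n ∣ Nat.gcd m (2 ^ k) :=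
    Nat.dvd_gcd (orderOf_dvd_of_pow_eq_one h1) (orderOf_dvd_of_pow_eq_one hk)
  rw [show Nat.gcd m (2 ^ k) = 1 from ((Nat.coprime_two_right.2 hm).pow_right k)] at hd
  exact orderOf_eq_one_iff.1 (Nat.dvd_one.1 hd)

namespace Hyp

variable (H : Hyp T)
include H

theorem odd_trivial (M : Model T) (α : T ≃* T) {m : ℕ} (hm : Odd m) (hα : ∀ x, (α : T → T)^[m] x = x) :
    ∀ x, α x = x := by
  classical
  haveI : Fact (Nat.Prime 2) := ⟨Nat.prime_two⟩
  haveI : Group.IsNilpotent T := H.two.isNilpotent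
  have hZ : ∀ (i : ℕ) (x : T), α x ∈ Z i ↔ x ∈ Z i := fun i x =>
    (Iff.of_eq (congrArg (fun S : Subgroup T => x ∈ S) (Subgroup.comap_upperCentralSeries α i)) :)
  have hz0 : Z 0 = ⊥ := Subgroup.upperCentralSeries_zero T
  have hfix1 : ∀ x ∈ Z 1, α x = x := by
    intro x hx
    rcases H.two_dichotomy (i := 0) (by omega) M.hz1 (fun h => M.nz1 (by rwa [hz0, Subgroup.mem_bot] at h)) hx
      with h | h <;> rw [hz0, Subgroup.mem_bot] at h
    · rw [h, map_one]
    · rw [← inv_mul_eq_one.1 h]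
      rcases H.two_dichotomy (i := 0) (by omega) M.hz1 (fun h => M.nz1 (by rwa [hz0, Subgroup.mem_bot] at h))
        ((hZ 1 _).2 M.hz1) with h' | h' <;> rw [hz0, Subgroup.mem_bot] at h'
      · exact absurd ((map_eq_one_iff α α.injective).1 h') M.nz1
      · exact (inv_mul_eq_one.1 h').symm
  have hup : ∀ i, i < 4 → (∀ x ∈ Z i, α x = x) → ∀ z, z ∈ Z (i + 1) → z ∉ Z i → ∀ x ∈ Z (i + 1), α x = x := by
    intro i hi hfix z hz hz' x hx
    have hzfix : α z = z := by
      rcases H.two_dichotomy hi hz hz' ((hZ (i + 1) z).2 hz) with h | h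
      · exact absurd ((hZ i z).1 h) hz'
      · have := trivial_step H.two α hm hα (x := z) (n := z⁻¹ * α z) (hfix _ h) (by group)
        exact (inv_mul_eq_one.1 this).symm
    rcases H.two_dichotomy hi hz hz' hx with h | h
    · exact hfix x h
    · rw [show x = z * (z⁻¹ * x) by group, map_mul, hzfix, hfix _ h]
  have hfix2 := hup 1 (by omega) hfix1 M.z2 M.hz2 M.nz2
  have hfix3 := hup 2 (by omega) hfix2 M.z3 M.hz3 M.nz3
  have hW : ∀ x, x ∈ W T → α x ∈ W T := fun x hx => Subgroup.mem_centralizer_iff.2 fun z hz => by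
    have h := congrArg α (Subgroup.mem_centralizer_iff.1 hx z hz)
    rwa [map_mul, map_mul, hfix3 z hz] at h
  have hquot : ∀ g, g⁻¹ * α g ∈ W T := by
    intro g
    refine Subgroup.mem_centralizer_iff.2 fun z hz => ?_
    have h := hfix3 _ ((inferInstance : (Z 3).Normal).conj_mem z hz g)
    rw [map_mul, map_mul, map_inv, hfix3 z hz] at h
    show z * (g⁻¹ * α g) = g⁻¹ * α g * z
    calc z * (g⁻¹ * α g) = g⁻¹ * (g * z * g⁻¹) * α g := by group
      _ = g⁻¹ * (α g * z * (α g)⁻¹) * α g := by rw [h]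
      _ = _ := by group
  have hπ : ∀ g, M.π (α g) = M.π g := fun g => by
    have h := (M.π_ker _).2 (hquot g)
    rw [map_mul, map_inv, inv_mul_eq_one] at h
    exact h.symm
  let it : ℕ → T → T := fun i => (α : T → T)^[i]
  have hitW : ∀ i x, x ∈ W T → it i x ∈ W T := by
    intro i
    induction i with
    | zero => exact fun x hx => hx
    | succ i ih =>
      intro x hx
      show (α : T → T)^[i + 1] x ∈ W T
      rw [Function.iterate_succ_apply']
      exact hW _ (ih x hx)
  have hitmul : ∀ i x y, it i (x * y) = it i x * it i y := by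
    intro i
    induction i with
    | zero => intro x y; rfl
    | succ i ih =>
      intro x y
      show (α : T → T)^[i + 1] (x * y) = (α : T → T)^[i + 1] x * (α : T → T)^[i + 1] y
      rw [Function.iterate_succ_apply', Function.iterate_succ_apply', Function.iterate_succ_apply', ← map_mul]
      exact congrArg α (ih x y)
  have hitπ : ∀ i g, M.π (it i g) = M.π g := by
    intro i
    induction i with
    | zero => exact fun g => rfl
    | succ i ih =>
      intro g
      show M.π ((α : T → T)^[i + 1] g) = M.π g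
      rw [Function.iterate_succ_apply', hπ]
      exact ih g
  let Sf : T → DihedralGroup 4 → ZMod 2 := fun x => ∑ i ∈ Finset.range m, M.φ (it i x)
  have hadd : ∀ x ∈ W T, ∀ y ∈ W T, Sf (x * y) = Sf x + Sf y := fun x hx y hy => by
    show ∑ i ∈ Finset.range m, M.φ (it i (x * y)) = _
    rw [← Finset.sum_add_distrib]
    exact Finset.sum_congr rfl fun i _ => by rw [hitmul, M.add _ (hitW i x hx) _ (hitW i y hy)]
  have h10 : Sf 1 = 0 := by
    have h := hadd 1 (one_mem _) 1 (one_mem _)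
    rw [one_mul] at h
    exact left_eq_add.1 h
  let K : Subgroup T :=
    { carrier := {x | x ∈ W T ∧ Sf x = 0}
      one_mem' := ⟨one_mem _, h10⟩
      mul_mem' := fun {x y} hx hy => ⟨(W T).mul_mem hx.1 hy.1, by rw [hadd x hx.1 y hy.1, hx.2, hy.2, add_zero]⟩
      inv_mem' := fun {x} hx => ⟨(W T).inv_mem hx.1, by
        have h := hadd x hx.1 x⁻¹ ((W T).inv_mem hx.1)
        rw [mul_inv_cancel, h10, hx.2, zero_add] at h
        exact h.symm⟩ }
  have hKn : K.Normal := ⟨fun x hx g => ⟨(inferInstance : (W T).Normal).conj_mem x hx.1 g, funext fun d => by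
    show (∑ i ∈ Finset.range m, M.φ (it i (g * x * g⁻¹))) d = 0
    have h := congrFun hx.2 (d * M.π g)
    simp only [Sf, Finset.sum_apply, Pi.zero_apply] at h ⊢
    refine Eq.trans (Finset.sum_congr rfl fun i _ => ?_) h
    have hgi : it i g * it i g⁻¹ = 1 := by
      rw [← hitmul, mul_inv_cancel]
      exact Function.iterate_fixed (map_one α) i
    rw [hitmul, hitmul, eq_inv_of_mul_eq_one_right hgi, M.conj _ _ (hitW i x hx.1), hitπ]⟩⟩
  have hvfix : ∀ i, M.φ (it i M.v) = fun _ => 1 := by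
    intro i
    have hi4 : it i M.v ∈ Z 4 ∧ it i M.v ∉ Z 3 := by
      induction i with
      | zero => exact ⟨M.hv, M.nv⟩
      | succ i ih =>
        show (α : T → T)^[i + 1] M.v ∈ Z 4 ∧ (α : T → T)^[i + 1] M.v ∉ Z 3
        rw [Function.iterate_succ_apply', hZ, hZ]
        exact ih
    rcases H.two_dichotomy (i := 3) (by omega) M.hv M.nv hi4.1 with h | h
    · exact absurd h hi4.2
    · rw [show it i M.v = M.v * (M.v⁻¹ * it i M.v) by group,
        M.add _ (H.Z4_le_W M.hv) _ (H.Z3_le_W h), (M.ker _ (H.Z3_le_W h)).2 h, add_zero, M.φv]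
  have hKZ : K ≤ Z 3 := by
    by_contra hne
    obtain ⟨u, hu, hu3, huT⟩ := exists_step (M := Z 3) _ K hKn le_rfl hne
    rcases H.two_dichotomy (i := 3) (by omega) (Subgroup.mem_upperCentralSeries_succ_iff.2 huT) hu3 M.hv with h | h
    · exact M.nv h
    have hK3 : u⁻¹ * M.v ∈ K := by
      refine ⟨H.Z3_le_W h, Finset.sum_eq_zero fun i _ => ?_⟩
      rw [show it i (u⁻¹ * M.v) = u⁻¹ * M.v from Function.iterate_fixed (hfix3 _ h) i]
      exact (M.ker _ (H.Z3_le_W h)).2 h
    have hv : M.v ∈ K := by rw [show M.v = u * (u⁻¹ * M.v) by group]; exact K.mul_mem hu hK3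
    have h2 := congrFun hv.2 1
    simp only [Sf, Finset.sum_apply, hvfix, Finset.sum_const, Finset.card_range, nsmul_eq_mul, mul_one,
      Pi.zero_apply] at h2
    obtain ⟨k, rfl⟩ := hm
    rw [Nat.cast_add, Nat.cast_mul, show ((2 : ℕ) : ZMod 2) = 0 from rfl, zero_mul, zero_add, Nat.cast_one] at h2
    exact one_ne_zero h2
  have hfixW : ∀ x ∈ W T, α x = x := by
    intro x hx
    have hy : x⁻¹ * α x ∈ W T := (W T).mul_mem ((W T).inv_mem hx) (hW x hx)
    have hshift : Sf (α x) = Sf x := by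
      show ∑ i ∈ Finset.range m, M.φ (it i (α x)) = ∑ i ∈ Finset.range m, M.φ (it i x)
      have h0 := Finset.sum_range_succ' (fun i => M.φ (it i x)) m
      rw [Finset.sum_range_succ, show it m x = x from hα x] at h0
      exact (add_right_cancel h0).symm
    have hK : x⁻¹ * α x ∈ K := ⟨hy, by
      have h := hadd x hx _ hy
      rw [mul_inv_cancel_left, hshift] at h
      exact left_eq_add.1 h⟩
    have := trivial_step H.two α hm hα (x := x) (n := x⁻¹ * α x) (hfix3 _ (hKZ hK)) (by group)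
    exact (inv_mul_eq_one.1 this).symm
  intro x
  have := trivial_step H.two α hm hα (x := x) (n := x⁻¹ * α x) (hfixW _ (hquot x)) (by group)
  exact (inv_mul_eq_one.1 this).symm

theorem iso_eq (M : Model T) (X : Subgroup T) (e : W T ≃* X) : X = W T := by
  classical
  haveI : Fact (Nat.Prime 2) := ⟨Nat.prime_two⟩
  let E : W T →* T := X.subtype.comp e.toMonoidHom
  have hEinj : Function.Injective E := X.subtype_injective.comp e.injective
  have hEX : ∀ w, E w ∈ X := fun w => (e w).2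
  have hEsurj : ∀ {x}, x ∈ X → ∃ w, E w = x := fun {x} hx => ⟨e.symm ⟨x, hx⟩, by
    show ((e (e.symm ⟨x, hx⟩) : X) : T) = x
    rw [e.apply_symm_apply]⟩
  let ZX : Subgroup T := ((Z 3).subgroupOf (W T)).map E
  have hZX8 : Nat.card ZX = 8 := by
    rw [Subgroup.card_map_of_injective (f := E) hEinj, Nat.card_congr (Subgroup.subgroupOfEquivOfLe H.Z3_le_W).toEquiv,
      H.card_Z 3 (by omega)]
    norm_num
  have hZXX : ZX ≤ X := by rintro _ ⟨w, -, rfl⟩; exact hEX w
  have hsq : ∀ x ∈ X, x * x ∈ ZX := fun x hx => by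
    obtain ⟨w, rfl⟩ := hEsurj hx
    exact ⟨w * w, H.phi_sq w.2, map_mul E w w⟩
  have hcm : ∀ x ∈ X, ∀ y ∈ X, ⁅x, y⁆ ∈ ZX := fun x hx y hy => by
    obtain ⟨v, rfl⟩ := hEsurj hx
    obtain ⟨w, rfl⟩ := hEsurj hy
    exact ⟨⁅v, w⁆, H.phi_comm v.2 w.2, map_commutatorElement E v w⟩
  have hcen : ∀ z ∈ ZX, ∀ x ∈ X, Commute z x := by
    rintro _ ⟨v, hv, rfl⟩ x hx
    obtain ⟨w, rfl⟩ := hEsurj hx
    exact (show Commute v w from Subtype.ext (H.comm_W_Z3 w.2 hv).eq).map E
  have hsub : ∀ U ≤ X, Nat.card X ≤ 16 * Nat.card U → ZX ≤ U := by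
    intro U hU hc z hz
    obtain ⟨v, hv, rfl⟩ := hz
    have h1 : Nat.card ((U.comap E).map (W T).subtype : Subgroup T) = Nat.card U := by
      rw [Subgroup.card_map_of_injective (W T).subtype_injective,
        ← Subgroup.card_map_of_injective (K := U.comap E) hEinj, Subgroup.map_comap_eq_self]
      intro u hu
      exact hEsurj (hU hu)
    have h2 := H.sub _ (Subgroup.map_subtype_le _) (by
      rw [h1, Nat.card_congr e.toEquiv]; exact hc)
    obtain ⟨v', hv', he⟩ := h2 (H.phi_eq.ge hv)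
    rw [← Subtype.ext he]
    exact hv'
  have hYlem : ∀ p ∈ ZX, ∀ Y ≤ X, (∀ y ∈ Y, ∀ x ∈ X, ⁅y, x⁆ ∈ Subgroup.zpowers p) → Nat.card Y ≤ 16 := by
    rintro _ ⟨v, hv, rfl⟩ Y hY hYp
    have h1 : Nat.card ((Y.comap E).map (W T).subtype : Subgroup T) = Nat.card Y := by
      rw [Subgroup.card_map_of_injective (W T).subtype_injective,
        ← Subgroup.card_map_of_injective (K := Y.comap E) hEinj, Subgroup.map_comap_eq_self]
      intro u hu
      exact hEsurj (hY hu)
    rw [← h1]
    refine H.y_card M hv (Subgroup.map_subtype_le _) ?_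
    rintro _ ⟨y, hy, rfl⟩ x hx
    obtain ⟨k, hk⟩ := Subgroup.mem_zpowers_iff.1 (hYp _ hy _ (hEX ⟨x, hx⟩))
    refine Subgroup.mem_zpowers_iff.2 ⟨k, ?_⟩
    rw [← map_zpow, ← map_commutatorElement] at hk
    have := congrArg Subtype.val (hEinj hk)
    rw [SubgroupClass.coe_zpow] at this
    exact this
  have hX : Nat.card X = 2 ^ 11 := by rw [← Nat.card_congr e.toEquiv, H.sizes.2.1]
  -- the image in the dihedral group
  let πX : X →* DihedralGroup 4 := M.π.comp X.subtype
  let J : Subgroup T := X ⊓ W T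
  have hker : Nat.card πX.ker = Nat.card J := Nat.card_congr
    { toFun := fun x => ⟨((x : X) : T), (x : X).2, (M.π_ker _).1 x.2⟩
      invFun := fun j => ⟨⟨j, j.2.1⟩, (M.π_ker _).2 j.2.2⟩
      left_inv := fun _ => rfl
      right_inv := fun _ => rfl }
  have hXJ : Nat.card X = Nat.card J * Nat.card πX.range := by
    rw [← hker, ← Subgroup.index_ker, Subgroup.card_mul_index]
  have hr8 : Nat.card πX.range ≤ 8 := (Subgroup.card_le_card_group _).trans_eq DihedralGroup.nat_card
  have hZJ : ZX ≤ J := hsub J inf_le_left (by rw [hXJ]; nlinarith)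
  have hinv : ∀ x ∈ X, M.π x * M.π x = 1 := fun x hx => by
    rw [← map_mul]; exact (M.π_ker _).2 (hZJ (hsq x hx)).2
  have hcomm : ∀ x ∈ X, ∀ y ∈ X, M.π x * M.π y = M.π y * M.π x := fun x hx y hy => by
    rw [← commutatorElement_eq_one_iff_mul_comm, ← map_commutatorElement]
    exact (M.π_ker _).2 (hZJ (hcm x hx y hy)).2
  -- images in the module
  let Φ : W T →* Multiplicative (DihedralGroup 4 → ZMod 2) :=
    MonoidHom.mk' (fun a => Multiplicative.ofAdd (M.φ a)) fun a b => by
      rw [← ofAdd_add, ← M.add a a.2 b b.2]; rfl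
  have hcard : ∀ S : Subgroup T, S ≤ W T →
      Nat.card S = Nat.card ↥(S ⊓ Z 3) * Nat.card ((S.subgroupOf (W T)).map Φ) := by
    intro S hS
    have h := (Φ.comp (S.subgroupOf (W T)).subtype).ker.card_mul_index
    rw [Subgroup.index_ker, MonoidHom.range_comp, Subgroup.range_subtype,
      Nat.card_congr (Subgroup.subgroupOfEquivOfLe hS).toEquiv] at h
    rw [← h]
    congr 1
    exact (Nat.card_congr
      { toFun := fun x => ⟨(((x : S.subgroupOf (W T)) : W T) : T), (x : S.subgroupOf (W T)).2,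
          (M.ker _ ((x : S.subgroupOf (W T)) : W T).2).1 (Multiplicative.ofAdd.injective (MonoidHom.mem_ker.1 x.2))⟩
        invFun := fun j => ⟨⟨⟨j, hS j.2.1⟩, j.2.1⟩,
          MonoidHom.mem_ker.2 (congrArg Multiplicative.ofAdd ((M.ker _ (hS j.2.1)).2 j.2.2))⟩
        left_inv := fun _ => rfl
        right_inv := fun _ => rfl })
  have hF := hcard ZX (hZJ.trans inf_le_right)
  rw [hZX8] at hF
  have hJ3 : Nat.card ↥(J ⊓ Z 3) ≤ 8 := by
    have h := Subgroup.card_le_of_le (inf_le_right : J ⊓ Z 3 ≤ Z 3)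
    rw [H.card_Z 3 (by omega)] at h
    exact h.trans_eq (by norm_num)
  have hfixed : ∀ a ∈ X, ∀ f ∈ (ZX.subgroupOf (W T)).map Φ, ∀ d,
      Multiplicative.toAdd f (d * M.π a) = Multiplicative.toAdd f d := by
    rintro a ha _ ⟨w, hw, rfl⟩ d
    show M.φ w (d * M.π a) = M.φ w d
    rw [← M.conj a w w.2, ← (show Commute (w : T) a from hcen _ hw a ha).eq, mul_inv_cancel_right]
  have hbound : ∀ a ∈ X, M.π a ≠ 1 → Nat.card J ≤ Nat.card ↥(J ⊓ Z 3) * 16 * Nat.card ((ZX.subgroupOf (W T)).map Φ) := by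
    intro a ha hπa
    have hWn : ∀ {j : T}, j ∈ W T → a * j * a⁻¹ ∈ W T := fun hj => (inferInstance : (W T).Normal).conj_mem _ hj a
    let ψ : J →* Multiplicative (DihedralGroup 4 → ZMod 2) :=
      MonoidHom.mk' (fun j => Multiplicative.ofAdd (M.φ (a * j * a⁻¹) + M.φ j)) fun i j => by
        rw [← ofAdd_add, Subgroup.coe_mul, show a * ((i : T) * j) * a⁻¹ = a * i * a⁻¹ * (a * j * a⁻¹) by group,
          M.add _ (hWn i.2.2) _ (hWn j.2.2), M.add _ i.2.2 _ j.2.2]
        congr 1
        abel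
    have hr : ψ.range ≤ (ZX.subgroupOf (W T)).map Φ := by
      rintro _ ⟨j, rfl⟩
      have hz := hcm a ha j j.2.1
      refine ⟨⟨⁅a, (j : T)⁆, (hZJ hz).2⟩, hz, ?_⟩
      show Multiplicative.ofAdd (M.φ ⁅a, (j : T)⁆) = Multiplicative.ofAdd (M.φ (a * j * a⁻¹) + M.φ j)
      have h := M.add _ (hWn j.2.2) (j : T)⁻¹ ((W T).inv_mem j.2.2)
      have h' := M.add _ j.2.2 (j : T)⁻¹ ((W T).inv_mem j.2.2)
      rw [mul_inv_cancel, (M.ker 1 (one_mem _)).2 (one_mem _)] at h'
      rw [commutatorElement_def, h]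
      congr 2
      exact CharTwo.add_eq_zero.1 (by rw [add_comm]; exact h'.symm)
    let Ka : Subgroup T := (ψ.ker).map J.subtype
    have hKa : Nat.card ψ.ker = Nat.card Ka := (Subgroup.card_map_of_injective J.subtype_injective).symm
    have hKW : Ka ≤ W T := (Subgroup.map_subtype_le _).trans inf_le_right
    have him : Nat.card ((Ka.subgroupOf (W T)).map Φ) ≤ 16 := by
      refine le_trans ?_ (fix_one (M.π a) hπa)
      rw [← Fintype.card_coe, ← Nat.card_eq_fintype_card]
      refine Nat.card_le_card_of_injective (fun f => ⟨Multiplicative.toAdd f.1, Finset.mem_filter.2 ⟨Finset.mem_univ _, ?_⟩⟩)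
        fun f g h => by simp only [Subtype.mk.injEq] at h; exact Subtype.ext (Multiplicative.toAdd.injective h)
      obtain ⟨w, hw, hwf⟩ := f.2
      obtain ⟨j, hj, hjw⟩ := hw
      intro d
      rw [← hwf]
      show M.φ w (d * M.π a) = M.φ w d
      rw [← M.conj a w w.2]
      have h0 : M.φ (a * j * a⁻¹) + M.φ j = 0 := Multiplicative.ofAdd.injective (MonoidHom.mem_ker.1 hj)
      rw [show (w : T) = (j : T) from hjw.symm]
      exact congrFun (CharTwo.add_eq_zero.1 h0) d
    calc Nat.card J = Nat.card ψ.ker * Nat.card ψ.range := by rw [← Subgroup.index_ker, Subgroup.card_mul_index]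
      _ ≤ (Nat.card ↥(J ⊓ Z 3) * 16) * Nat.card ((ZX.subgroupOf (W T)).map Φ) := by
        refine Nat.mul_le_mul ?_ (Subgroup.card_le_of_le hr)
        rw [hKa, hcard Ka hKW]
        exact Nat.mul_le_mul (Subgroup.card_le_of_le (inf_le_inf_right _ (Subgroup.map_subtype_le _))) him
  obtain ⟨k, hk, hk'⟩ := (Nat.dvd_prime_pow Nat.prime_two).1
    (show Nat.card πX.range ∣ 2 ^ 3 from (by rw [DihedralGroup.nat_card]; rfl : Nat.card (DihedralGroup 4) = 2 ^ 3) ▸
      Subgroup.card_subgroup_dvd_card _)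
  have hk3 : k ≠ 3 := by
    rintro rfl
    refine no_elementary fun d => ?_
    have htop : πX.range = ⊤ := Subgroup.eq_top_of_card_eq _ (by rw [hk', DihedralGroup.nat_card]; rfl)
    obtain ⟨x, rfl⟩ : d ∈ πX.range := htop ▸ Subgroup.mem_top d
    exact hinv x x.2
  by_cases hk0 : k = 0
  · subst hk0
    refine Subgroup.eq_of_le_of_card_ge (fun x hx => (M.π_ker x).1 ?_) (by rw [hX, H.sizes.2.1])
    have hbot : πX.range = ⊥ := Subgroup.eq_bot_of_card_eq _ (by simpa using hk')
    have : πX ⟨x, hx⟩ ∈ πX.range := ⟨_, rfl⟩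
    rw [hbot, Subgroup.mem_bot] at this
    exact this
  exfalso
  obtain ⟨d, hd, hd1⟩ : ∃ d ∈ πX.range, d ≠ 1 := by
    by_contra! hall
    have hbot : πX.range = ⊥ := (Subgroup.eq_bot_iff_forall _).2 hall
    rw [hbot, Subgroup.card_bot] at hk'
    exact hk0 (Nat.pow_eq_one.1 hk'.symm |>.resolve_left (by norm_num))
  obtain ⟨a, rfl⟩ := hd
  have hb := hbound a a.2 hd1
  set F := Nat.card ((ZX.subgroupOf (W T)).map Φ) with hFdef
  set j := Nat.card ↥(J ⊓ Z 3) with hjdef
  set q := Nat.card ↥(ZX ⊓ Z 3) with hqdef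
  have hF8 : q * F = 8 := hF.symm
  have hfull : j = 8 → Z 3 ≤ X := fun h z hz =>
    ((Subgroup.eq_of_le_of_card_ge (inf_le_right : J ⊓ Z 3 ≤ Z 3) (by
      rw [← hjdef, h, H.card_Z 3 (by omega)]; norm_num)).ge hz).1.1
  rcases (show k = 1 ∨ k = 2 by omega) with rfl | rfl
  · rw [hk', hX] at hXJ
    have hJ : Nat.card J = 1024 := by norm_num at hXJ; omega
    rw [hJ] at hb
    have hF8' : F ≤ 8 := Nat.le_of_dvd (by norm_num) ⟨q, by rw [mul_comm]; exact hF8.symm⟩
    have hj8 : j = 8 := by nlinarith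
    have hq1 : q = 1 := by
      rw [hj8] at hb
      have : F = 8 := by omega
      rw [this] at hF8; omega
    have hbot : ZX ⊓ Z 3 = ⊥ := Subgroup.card_eq_one.1 hq1
    refine hd1 ((M.π_ker _).2 (Subgroup.mem_centralizer_iff.2 fun z hz => ?_))
    have h : ⁅(a : T), z⁆ ∈ ZX ⊓ Z 3 := ⟨hcm _ a.2 _ (hfull hj8 hz), by
      rw [commutatorElement_def]
      exact (Z 3).mul_mem ((inferInstance : (Z 3).Normal).conj_mem _ hz a) ((Z 3).inv_mem hz)⟩
    rw [hbot, Subgroup.mem_bot, commutatorElement_eq_one_iff_mul_comm] at h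
    exact h.symm
  · obtain ⟨d', hd', hd'1, hne⟩ : ∃ d' ∈ πX.range, d' ≠ 1 ∧ d' ≠ πX a := by
      by_contra! hall
      have hle : ((πX.range : Subgroup (DihedralGroup 4)) : Set (DihedralGroup 4)) ⊆
          (({1, πX a} : Finset (DihedralGroup 4)) : Set (DihedralGroup 4)) := fun x hx => by
        by_cases h1 : x = 1
        · simp [h1]
        · simp [hall x hx h1]
      have h := Nat.card_mono (Finset.finite_toSet _) hle
      rw [Nat.card_coe_set_eq, Nat.card_coe_set_eq, Set.ncard_coe_finset, ← Nat.card_coe_set_eq] at h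
      change Nat.card πX.range ≤ _ at h
      rw [hk'] at h
      have : ({1, πX a} : Finset (DihedralGroup 4)).card ≤ 2 := Finset.card_le_two
      omega
    obtain ⟨b, rfl⟩ := hd'
    have hF4 : F ≤ 4 := by
      refine le_trans ?_ (fix_two (M.π a) (M.π b) hd1 hd'1 (fun e => hne e.symm) (hcomm _ a.2 _ b.2))
      rw [hFdef, ← Fintype.card_coe, ← Nat.card_eq_fintype_card]
      exact Nat.card_le_card_of_injective (fun f => ⟨Multiplicative.toAdd f.1, Finset.mem_filter.2 ⟨Finset.mem_univ _,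
        fun d => ⟨hfixed a a.2 _ f.2 d, hfixed b b.2 _ f.2 d⟩⟩⟩)
        fun f g h => by simp only [Subtype.mk.injEq] at h; exact Subtype.ext (Multiplicative.toAdd.injective h)
    rw [hk', hX] at hXJ
    have hJ : Nat.card J = 512 := by norm_num at hXJ; omega
    rw [hJ] at hb
    have hj8 : j = 8 := by nlinarith
    rw [hj8] at hb
    have hF4' : F = 4 := by omega
    have hq2 : q = 2 := by rw [hF4'] at hF8; omega
    set P := ZX ⊓ Z 3 with hP
    obtain ⟨p, hp, hp1⟩ : ∃ p ∈ P, p ≠ 1 := by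
      by_contra! hall
      rw [hqdef, (Subgroup.eq_bot_iff_forall _).2 hall, Subgroup.card_bot] at hq2
      norm_num at hq2
    have hPp : P ≤ Subgroup.zpowers p := fun w hw => by
      by_cases hw1 : w = 1
      · rw [hw1]; exact one_mem _
      · rcases mem_or_of_double (M := (⊥ : Subgroup T)) bot_le (by rw [Subgroup.card_bot, ← hqdef, hq2]) hp
          (fun h => hp1 ((Subgroup.mem_bot).1 h)) hw with h | h
        · exact absurd ((Subgroup.mem_bot).1 h) hw1
        · rw [← inv_mul_eq_one.1 ((Subgroup.mem_bot).1 h)]; exact Subgroup.mem_zpowers p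
    let S : Subgroup T :=
      { carrier := {y | y ∈ X ∧ ∀ x ∈ X, ⁅y, x⁆ ∈ P}
        one_mem' := ⟨X.one_mem, fun x _ => by simp⟩
        mul_mem' := fun {u w} hu hw => ⟨X.mul_mem hu.1 hw.1, fun x hx => by
          have e : ⁅u * w, x⁆ = u * ⁅w, x⁆ * u⁻¹ * ⁅u, x⁆ := by
            rw [commutatorElement_def, commutatorElement_def, commutatorElement_def]; group
          rw [e, ← (hcen _ (hw.2 x hx).1 u hu.1).eq, mul_inv_cancel_right]
          exact P.mul_mem (hw.2 x hx) (hu.2 x hx)⟩
        inv_mem' := fun {u} hu => ⟨X.inv_mem hu.1, fun x hx => by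
          have e : ⁅u⁻¹, x⁆ = u⁻¹ * ⁅u, x⁆⁻¹ * u := by
            rw [commutatorElement_def, commutatorElement_def]; group
          rw [e, ← (hcen _ (P.inv_mem (hu.2 x hx)).1 u⁻¹ (X.inv_mem hu.1)).eq, inv_mul_cancel_right]
          exact P.inv_mem (hu.2 x hx)⟩ }
    have h3S : Z 3 ≤ S ⊓ W T := fun z hz => ⟨⟨hfull hj8 hz, fun x hx => ⟨hcm _ (hfull hj8 hz) _ hx, by
      rw [commutatorElement_def, mul_assoc, mul_assoc, ← mul_assoc x]
      exact (Z 3).mul_mem hz ((inferInstance : (Z 3).Normal).conj_mem _ ((Z 3).inv_mem hz) x)⟩⟩, H.Z3_le_W hz⟩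
    have hXS : ZX ≤ S ⊓ W T := fun z hz => ⟨⟨hZXX hz, fun x hx => by
      rw [commutatorElement_eq_one_iff_mul_comm.2 (hcen z hz x hx).eq]; exact one_mem _⟩, (hZJ hz).2⟩
    have hS := hYlem p hp.1 S (fun y hy => hy.1) fun y hy x hx => hPp (hy.2 x hx)
    have hS' : 32 ≤ Nat.card ↥(S ⊓ W T) := by
      rw [hcard _ inf_le_right]
      have h1 : 8 ≤ Nat.card ↥((S ⊓ W T) ⊓ Z 3) := by
        have h := Subgroup.card_le_of_le (le_inf h3S (le_refl (Z 3)))
        rw [H.card_Z 3 (by omega)] at h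
        exact le_trans (by norm_num) h
      have h2 : 4 ≤ Nat.card (((S ⊓ W T).subgroupOf (W T)).map Φ) := by
        refine hF4'.symm.trans_le ?_
        rw [hFdef]
        exact Subgroup.card_le_of_le (Subgroup.map_mono (fun w hw => hXS hw))
      exact le_trans (by norm_num) (Nat.mul_le_mul h1 h2)
    have := (Subgroup.card_le_of_le (inf_le_left : S ⊓ W T ≤ S)).trans hS
    omega

end Hyp

end Cfsg.Agent.Lie.RegularLayer

namespace Cfsg.Agent.Lie.RegularLayer

variable {T : Type*} [Group T] [Finite T]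

theorem hyp_of (hT : IsPGroup 2 T) (ha : 2 ^ 14 ≤ Nat.card T) (hb : Nat.card (Subgroup.upperCentralSeries T 4) = 16)
    (hc : Nat.card (frattini (W T)) ≤ 8) (hd : ∀ U : Subgroup (W T), U.index ≤ 16 → frattini (W T) ≤ U) : Hyp T where
  two := hT
  big := ha
  four := hb
  small := by rw [Subgroup.card_map_of_injective (W T).subtype_injective]; exact hc
  sub := fun U hU hcard => by
    rintro _ ⟨x, hx, rfl⟩
    refine hd (U.subgroupOf (W T)) ?_ hx
    have h := (U.subgroupOf (W T)).card_mul_index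
    rw [Nat.card_congr (Subgroup.subgroupOfEquivOfLe hU).toEquiv] at h
    rw [← h, mul_comm 16] at hcard
    exact Nat.le_of_mul_le_mul_left hcard Nat.card_pos

end Cfsg.Agent.Lie.RegularLayer
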