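import Cfsg.Agent.Lib.Lie.RegularLayerD8

/-!
The overgroups of the unitriangular group in GL(3,2): either everything or a parabolic with a sign character.
-/

set_option autoImplicit false
set_option linter.unusedSectionVars false

namespace Cfsg.Agent.Lie.RegularLayer

/-- GL(3,2) -/
abbrev GLThree := GL (Fin 3) (ZMod 2)

/-- unitriangular matrix -/
def triMat (t : Tri) : Matrix (Fin 3) (Fin 3) (ZMod 2) := !![1, t.1, t.2.1; 0, 1, t.2.2; 0, 0, 1]

theorem triMat_inv : ∀ t : Tri, triMat t * triMat (t.1, t.2.1 + t.1 * t.2.2, t.2.2) = 1 ∧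
    triMat (t.1, t.2.1 + t.1 * t.2.2, t.2.2) * triMat t = 1 := by decide +kernel

/-- unitriangular matrix as a unit -/
def triUnit (t : Tri) : GLThree :=
  ⟨triMat t, triMat (t.1, t.2.1 + t.1 * t.2.2, t.2.2), (triMat_inv t).1, (triMat_inv t).2⟩

theorem triMat_tau_mul : ∀ d e : DihedralGroup 4, triMat (tau (d * e)) = triMat (tau d) * triMat (tau e) := by
  decide +kernel

/-- the dihedral group inside GL(3,2) -/
def triHom : DihedralGroup 4 →* GLThree :=
  MonoidHom.mk' (fun d => triUnit (tau d)) fun d e => Units.ext (triMat_tau_mul d e)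

theorem triHom_coe (d : DihedralGroup 4) : (triHom d : Matrix (Fin 3) (Fin 3) (ZMod 2)) = triMat (tau d) := rfl

theorem triHom_injective : Function.Injective triHom := by
  have h : ∀ d e : DihedralGroup 4, triMat (tau d) = triMat (tau e) → d = e := by decide +kernel
  exact fun d e he => h d e (congrArg Units.val he)

theorem triUnit_mem {S : Subgroup GLThree} (hU : ∀ d, triHom d ∈ S) (t : Tri) : triUnit t ∈ S := by
  obtain ⟨d, rfl⟩ := tau_surjective t
  exact hU d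

theorem two_one : ∀ a : ZMod 2, a = 0 ∨ a = 1 := by decide

theorem eq_top_of_transvections {S : Subgroup GLThree}
    (h : ∀ i j : Fin 3, i ≠ j → ∃ g ∈ S, (g : Matrix (Fin 3) (Fin 3) (ZMod 2)) = Matrix.transvection i j 1) :
    S = ⊤ := by
  refine eq_top_iff.2 fun g _ => ?_
  obtain ⟨L, L', D, hD⟩ := Matrix.Pivot.exists_list_transvec_mul_diagonal_mul_list_transvec
    (g : Matrix (Fin 3) (Fin 3) (ZMod 2))
  let P : Submonoid (Matrix (Fin 3) (Fin 3) (ZMod 2)) := S.toSubmonoid.map (Units.coeHom _)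
  have hmem : ∀ l : List (Matrix.TransvectionStruct (Fin 3) (ZMod 2)),
      (l.map Matrix.TransvectionStruct.toMatrix).prod ∈ P := by
    refine fun l => P.list_prod_mem fun M hM => ?_
    obtain ⟨⟨i, j, hij, c⟩, -, rfl⟩ := List.mem_map.1 hM
    rw [Matrix.TransvectionStruct.toMatrix_mk]
    rcases two_one c with rfl | rfl
    · rw [Matrix.transvection_zero]
      exact P.one_mem
    · obtain ⟨u, hu, hu'⟩ := h i j hij
      exact ⟨u, hu, hu'⟩
  have hdet : (g : Matrix (Fin 3) (Fin 3) (ZMod 2)).det ≠ 0 :=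
    ((Matrix.isUnit_iff_isUnit_det _).1 g.isUnit).ne_zero
  have hD1 : D = 1 := by
    funext i
    rcases two_one (D i) with hi | hi
    · refine absurd ?_ hdet
      rw [hD, Matrix.det_mul, Matrix.det_mul, Matrix.det_diagonal, Finset.prod_eq_zero (Finset.mem_univ i) hi,
        mul_zero, zero_mul]
    · exact hi
  have hg : (g : Matrix (Fin 3) (Fin 3) (ZMod 2)) ∈ P := by
    rw [hD, hD1, show Matrix.diagonal (1 : Fin 3 → ZMod 2) = 1 from Matrix.diagonal_one, mul_one]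
    exact P.mul_mem (hmem L) (hmem L')
  obtain ⟨u, hu, hu'⟩ := hg
  rwa [← Units.ext hu']

theorem trichotomy {S : Subgroup GLThree} (hU : ∀ d, triHom d ∈ S) :
    S = ⊤ ∨ (∀ g ∈ S, g.1 1 0 = 0 ∧ g.1 2 0 = 0) ∨ (∀ g ∈ S, g.1 2 0 = 0 ∧ g.1 2 1 = 0) := by
  classical
  by_cases hA : ∀ g ∈ S, g.1 1 0 = 0 ∧ g.1 2 0 = 0
  · exact Or.inr (Or.inl hA)
  have hcol : ∀ (g h : GLThree) (i : Fin 3),
      (g * h).1 i 0 = g.1 i 0 * h.1 0 0 + g.1 i 1 * h.1 1 0 + g.1 i 2 * h.1 2 0 := fun g h i => by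
    rw [Units.val_mul, Matrix.mul_apply, Fin.sum_univ_three]
  have htri : ∀ (a b c : ZMod 2) (g : GLThree), (triUnit (a, b, c) * g).1 0 0 = g.1 0 0 + a * g.1 1 0 + b * g.1 2 0 ∧
      (triUnit (a, b, c) * g).1 1 0 = g.1 1 0 + c * g.1 2 0 ∧ (triUnit (a, b, c) * g).1 2 0 = g.1 2 0 := by
    intro a b c g
    simp [hcol, triUnit, triMat]
  by_cases hB : ∀ g ∈ S, g.1 2 0 = 0
  · refine Or.inr (Or.inr fun g hg => ⟨hB g hg, ?_⟩)
    obtain ⟨h, hh, hh'⟩ : ∃ h ∈ S, h.1 1 0 = 1 := by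
      by_contra! hc
      exact hA fun g hg => ⟨(two_one _).resolve_right (hc g hg), hB g hg⟩
    have := hB _ (S.mul_mem hg hh)
    rw [hcol, hB g hg, hB h hh, hh'] at this
    simpa using this
  push Not at hB
  obtain ⟨g0, hg0, hg0'⟩ := hB
  have hg01 : g0.1 2 0 = 1 := (two_one _).resolve_left hg0'
  have hfour : ∀ x y : ZMod 2, ∃ g ∈ S, g.1 0 0 = x ∧ g.1 1 0 = y ∧ g.1 2 0 = 1 := by
    intro x y
    refine ⟨triUnit (0, g0.1 0 0 + x, g0.1 1 0 + y) * g0, S.mul_mem (triUnit_mem hU _) hg0, ?_⟩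
    obtain ⟨h1, h2, h3⟩ := htri 0 (g0.1 0 0 + x) (g0.1 1 0 + y) g0
    rw [h1, h2, h3, hg01, zero_mul, add_zero, mul_one, mul_one, ← add_assoc, ← add_assoc,
      CharTwo.add_self_eq_zero, CharTwo.add_self_eq_zero, zero_add, zero_add]
    exact ⟨rfl, rfl, rfl⟩
  obtain ⟨h, hh, hh1, hh2⟩ : ∃ h ∈ S, h.1 1 0 = 1 ∧ h.1 2 0 = 0 := by
    by_contra hc
    push Not at hc
    obtain ⟨g, hg, -, hg1, hg2⟩ := hfour 0 0
    have hy : ∀ y, g.1 1 1 * y + g.1 1 2 = 0 := by
      intro y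
      obtain ⟨k, hk, hk0, hk1, hk2⟩ := hfour (g.1 2 1 * y + g.1 2 2) y
      have h1 := hc _ (S.mul_mem hg hk)
      rw [hcol, hcol, hk0, hk1, hk2, hg1, hg2, one_mul, zero_mul, zero_add, mul_one, mul_one, add_assoc,
        CharTwo.add_self_eq_zero] at h1
      exact (two_one _).resolve_right fun e => h1 e rfl
    have h2 := hy 0
    rw [mul_zero, zero_add] at h2
    have h3 := hy 1
    rw [mul_one, h2, add_zero] at h3
    have hinv := congrFun (congrFun g.mul_inv 1) 1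
    rw [Matrix.mul_apply, Fin.sum_univ_three, hg1, h2, h3, Matrix.one_apply_eq] at hinv
    simp at hinv
  have hall : ∀ v : Fin 3 → ZMod 2, v ≠ 0 → ∃ g ∈ S, ∀ k, g.1 k 0 = v k := by
    intro v hv
    suffices ∃ g ∈ S, g.1 0 0 = v 0 ∧ g.1 1 0 = v 1 ∧ g.1 2 0 = v 2 by
      obtain ⟨g, hg, a, b, c⟩ := this
      exact ⟨g, hg, fun k => by fin_cases k <;> assumption⟩
    rcases two_one (v 2) with h2 | h2
    · rcases two_one (v 1) with h1 | h1
      · refine ⟨1, S.one_mem, ?_, ?_, ?_⟩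
        · rcases two_one (v 0) with h0 | h0
          · exact absurd (funext fun k => by fin_cases k <;> assumption) hv
          · rw [h0]; rfl
        · rw [h1]; rfl
        · rw [h2]; rfl
      · refine ⟨triUnit (h.1 0 0 + v 0, 0, 0) * h, S.mul_mem (triUnit_mem hU _) hh, ?_⟩
        obtain ⟨a, b, c⟩ := htri (h.1 0 0 + v 0) 0 0 h
        rw [a, b, c, hh1, hh2, h1, h2, mul_one, mul_zero, add_zero, add_zero, ← add_assoc, CharTwo.add_self_eq_zero,
          zero_add]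
        exact ⟨rfl, rfl, rfl⟩
    · rw [h2]; exact hfour _ _
  refine Or.inl (eq_top_of_transvections fun i j hij => ?_)
  obtain ⟨g, hg, hgc⟩ := hall (Pi.single i 1) (by simp)
  refine ⟨g * triUnit (g.1 j 1, g.1 j 2, 0) * g⁻¹, S.mul_mem (S.mul_mem hg (triUnit_mem hU _)) (S.inv_mem hg), ?_⟩
  have hji : g.1 j 0 = 0 := by rw [hgc, Pi.single_eq_of_ne' hij]
  have heq : g.1 * triMat (g.1 j 1, g.1 j 2, 0) = Matrix.transvection i j 1 * g.1 := by
    ext a b
    by_cases hai : a = i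
    · subst hai
      rw [Matrix.transvection_mul_apply_same, one_mul]
      have h0 : g.1 a 0 = 1 := by rw [hgc, Pi.single_eq_same]
      fin_cases b <;> simp [Matrix.mul_apply, Fin.sum_univ_three, triMat, h0, hji, add_comm]
    · rw [Matrix.transvection_mul_apply_of_ne _ _ _ _ hai]
      have h0 : g.1 a 0 = 0 := by rw [hgc, Pi.single_eq_of_ne hai]
      fin_cases b <;> simp [Matrix.mul_apply, Fin.sum_univ_three, triMat, h0]
  show g.1 * triMat (g.1 j 1, g.1 j 2, 0) * (g⁻¹).1 = _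
  rw [heq, mul_assoc, Units.mul_inv, mul_one]

/-- sign of a two by two matrix over the field of two elements -/
def sgnTwo (a b c d : ZMod 2) : ZMod 2 := if (a, b, c, d) ≠ (1, 0, 0, 1) ∧ a + d = 0 then 1 else 0

theorem sgnTwo_mul : ∀ a b c d a' b' c' d' : ZMod 2, a * d + b * c = 1 → a' * d' + b' * c' = 1 →
    sgnTwo (a * a' + b * c') (a * b' + b * d') (c * a' + d * c') (c * b' + d * d') =
      sgnTwo a b c d + sgnTwo a' b' c' d' := by decide +kernel

theorem mul_eq_one_two : ∀ x y : ZMod 2, x * y = 1 → y = 1 := by decide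

theorem exists_char {S : Subgroup GLThree} (hU : ∀ d, triHom d ∈ S) (hne : S ≠ ⊤) :
    ∃ χ : S → ZMod 2, (∀ g h, χ (g * h) = χ g + χ h) ∧
      ∃ d : DihedralGroup 4, d * d = 1 ∧ d ≠ 1 ∧ χ ⟨triHom d, hU d⟩ = 1 := by
  have hdet : ∀ g : GLThree, g.1.det = 1 := fun g =>
    (two_one _).resolve_left ((Matrix.isUnit_iff_isUnit_det _).1 g.isUnit).ne_zero
  have hmul : ∀ (g h : GLThree) (i k : Fin 3),
      (g * h).1 i k = g.1 i 0 * h.1 0 k + g.1 i 1 * h.1 1 k + g.1 i 2 * h.1 2 k := fun g h i k => by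
    rw [Units.val_mul, Matrix.mul_apply, Fin.sum_univ_three]
  rcases trichotomy hU with h | h | h
  · exact absurd h hne
  · have hblock : ∀ g : S, g.1.1 1 1 * g.1.1 2 2 + g.1.1 1 2 * g.1.1 2 1 = 1 := fun g => by
      have hd := hdet g.1
      rw [Matrix.det_fin_three, (h g.1 g.2).1, (h g.1 g.2).2] at hd
      refine mul_eq_one_two (g.1.1 0 0) _ ?_
      rw [← hd]
      simp only [CharTwo.sub_eq_add]
      ring
    refine ⟨fun g => sgnTwo (g.1.1 1 1) (g.1.1 1 2) (g.1.1 2 1) (g.1.1 2 2), fun g k => ?_,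
      DihedralGroup.sr 3, by decide, by decide, ?_⟩
    show sgnTwo _ _ _ _ = 1
    rfl
    show sgnTwo ((g.1 * k.1).1 1 1) _ _ _ = _
    simp only [Subgroup.coe_mul, hmul, (h g.1 g.2).1, (h g.1 g.2).2, zero_mul, zero_add]
    exact sgnTwo_mul _ _ _ _ _ _ _ _ (hblock g) (hblock k)
  · have hblock : ∀ g : S, g.1.1 0 0 * g.1.1 1 1 + g.1.1 0 1 * g.1.1 1 0 = 1 := fun g => by
      have hd := hdet g.1
      rw [Matrix.det_fin_three, (h g.1 g.2).1, (h g.1 g.2).2] at hd
      refine mul_eq_one_two (g.1.1 2 2) _ ?_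
      rw [← hd]
      simp only [CharTwo.sub_eq_add]
      ring
    refine ⟨fun g => sgnTwo (g.1.1 0 0) (g.1.1 0 1) (g.1.1 1 0) (g.1.1 1 1), fun g k => ?_,
      DihedralGroup.sr 0, by decide, by decide, ?_⟩
    show sgnTwo _ _ _ _ = 1
    rfl
    show sgnTwo ((g.1 * k.1).1 0 0) _ _ _ = _
    simp only [Subgroup.coe_mul, hmul, (h k.1 k.2).1, (h k.1 k.2).2, mul_zero, add_zero]
    exact sgnTwo_mul _ _ _ _ _ _ _ _ (hblock g) (hblock k)

end Cfsg.Agent.Lie.RegularLayer
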