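import Cfsg.Agent.Lib.Lie.RegularLayer

/-!
The transfer of a character of the normalizer of the layer survives on an outer involution of the layer.
-/

set_option autoImplicit false
set_option linter.style.haveILetI false
set_option linter.unusedSectionVars false

namespace Cfsg.Agent.Lie.RegularLayer

variable {G : Type*} [Group G] [Finite G]

theorem inf_double {K S C : Subgroup G} (hS : S ≤ K) (hKS : Nat.card K ≤ 2 * Nat.card S) (hC : C ≤ K) :
    Nat.card C ≤ 2 * Nat.card ↥(C ⊓ S) := by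
  classical
  by_cases h : C ≤ S
  · rw [inf_eq_left.2 h]; omega
  obtain ⟨y, hy, hyS⟩ := SetLike.not_le_iff_exists.1 h
  have hf : Function.Injective fun a : C => if h : (a : G) ∈ S then (Sum.inl ⟨a, a.2, h⟩ : ↥(C ⊓ S) ⊕ ↥(C ⊓ S))
      else Sum.inr ⟨y⁻¹ * a, C.mul_mem (C.inv_mem hy) a.2,
        (mem_or_of_double hS hKS (hC hy) hyS (hC a.2)).resolve_left h⟩ := by
    intro a b hab
    dsimp only at hab
    split_ifs at hab with ha hb
    · exact Subtype.ext (congrArg Subtype.val (Sum.inl.inj hab) :)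
    · exact Subtype.ext (mul_left_cancel (congrArg Subtype.val (Sum.inr.inj hab) :))
  have := Nat.card_le_card_of_injective _ hf
  rw [Nat.card_sum] at this
  omega

theorem exists_half {K U : Subgroup G} (hK : IsPGroup 2 K) (hUK : U ≤ K) (hne : U ≠ K) :
    ∃ S : Subgroup G, U ≤ S ∧ S ≤ K ∧ Nat.card K = 2 * Nat.card S := by
  haveI : Fact (Nat.Prime 2) := ⟨Nat.prime_two⟩
  obtain ⟨a, ha⟩ := hK.exists_card_eq
  obtain ⟨b, hb⟩ := (hK.to_le hUK).exists_card_eq
  have hlt := card_double (lt_of_le_of_ne hUK hne)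
  have hba : b < a := by
    by_contra h
    have := Nat.pow_le_pow_right (n := 2) two_pos (not_lt.1 h)
    have h0 : 0 < 2 ^ a := by positivity
    omega
  obtain ⟨R, hR, hUR⟩ := Sylow.exists_subgroup_card_pow_prime_le (p := 2) (m := a - 1)
    (by rw [ha]; exact pow_dvd_pow 2 (by omega)) (U.subgroupOf K)
    (by rw [Nat.card_congr (Subgroup.subgroupOfEquivOfLe hUK).toEquiv]; exact hb) (by omega)
  refine ⟨R.map K.subtype, fun u hu => ⟨⟨u, hUK hu⟩, hUR hu, rfl⟩, Subgroup.map_subtype_le R, ?_⟩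
  rw [Subgroup.card_map_of_injective K.subtype_injective, hR, ha, ← pow_succ']
  congr 1
  omega

section Orbit

variable {X : Type*} [MulAction G X]

/-- The orbit of a point under a subgroup. -/
noncomputable def orb [Fintype X] (S : Subgroup G) (p : X) : Finset X := by
  classical exact Finset.univ.filter fun q => ∃ s ∈ S, s • p = q

theorem mem_orb [Fintype X] {S : Subgroup G} {p q : X} : q ∈ orb S p ↔ ∃ s ∈ S, s • p = q := by
  simp [orb]

theorem orb_inv [Fintype X] {S : Subgroup G} {p : X} {s : G} (hs : s ∈ S) (q : X) :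
    s • q ∈ orb S p ↔ q ∈ orb S p := by
  simp only [mem_orb]
  constructor
  · rintro ⟨a, ha, he⟩
    exact ⟨s⁻¹ * a, S.mul_mem (S.inv_mem hs) ha, by rw [mul_smul, he, inv_smul_smul]⟩
  · rintro ⟨a, ha, rfl⟩
    exact ⟨s * a, S.mul_mem hs ha, mul_smul s a p⟩

end Orbit

section Cocycle

variable {X : Type*} [MulAction G X] (c : G → X → ZMod 2)
  (hc : ∀ g h p, c (g * h) p = c g (h • p) + c h p)

include hc

theorem sum_mul {B : Finset X} {g h : G} (hB : ∀ p, h • p ∈ B ↔ p ∈ B) :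
    ∑ p ∈ B, c (g * h) p = ∑ p ∈ B, c g p + ∑ p ∈ B, c h p := by
  rw [Finset.sum_congr rfl fun p _ => hc g h p, Finset.sum_add_distrib]
  congr 1
  exact Finset.sum_bij' (fun p _ => h • p) (fun p _ => h⁻¹ • p) (fun p hp => (hB p).2 hp)
    (fun p hp => (hB _).1 (by rwa [smul_inv_smul])) (fun p _ => inv_smul_smul h p) (fun p _ => smul_inv_smul h p)
    fun p _ => rfl

theorem sum_one (B : Finset X) : ∑ p ∈ B, c 1 p = 0 := by
  have h := sum_mul c hc (B := B) (g := 1) (h := 1) fun p => by rw [one_smul]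
  rw [one_mul] at h
  exact left_eq_add.1 h

/-- An additive sum over an invariant set kills whatever lies in all large subgroups. -/
theorem sum_kill {B : Finset X} {S : Subgroup G} (hB : ∀ s ∈ S, ∀ p, s • p ∈ B ↔ p ∈ B) {z : G}
    (hz : ∀ L : Subgroup G, L ≤ S → Nat.card S ≤ 2 * Nat.card L → z ∈ L) : ∑ p ∈ B, c z p = 0 := by
  classical
  let L : Subgroup G :=
    { carrier := {s | s ∈ S ∧ ∑ p ∈ B, c s p = 0}
      one_mem' := ⟨S.one_mem, sum_one c hc B⟩
      mul_mem' := fun {a b} ha hb => ⟨S.mul_mem ha.1 hb.1, by rw [sum_mul c hc (hB b hb.1), ha.2, hb.2, add_zero]⟩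
      inv_mem' := fun {a} ha => ⟨S.inv_mem ha.1, by
        have h := sum_mul c hc (g := a) (hB a⁻¹ (S.inv_mem ha.1))
        rw [mul_inv_cancel, sum_one c hc, ha.2, zero_add] at h
        exact h.symm⟩ }
  refine (hz L (fun s hs => hs.1) ?_).2
  by_cases hall : ∀ s ∈ S, ∑ p ∈ B, c s p = 0
  · have := Subgroup.card_le_of_le (show S ≤ L from fun s hs => ⟨hs, hall s hs⟩)
    omega
  push Not at hall
  obtain ⟨y, hy, hy0⟩ := hall
  have h1 : ∀ {a : ZMod 2}, a ≠ 0 → a = 1 := by decide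
  have hf : Function.Injective fun a : S => if h : ∑ p ∈ B, c a p = 0 then (Sum.inl ⟨a, a.2, h⟩ : L ⊕ L)
      else Sum.inr ⟨(a : G) * y, S.mul_mem a.2 hy, by rw [sum_mul c hc (hB y hy), h1 h, h1 hy0]; rfl⟩ := by
    intro a b hab
    dsimp only at hab
    split_ifs at hab with ha hb
    · simp only [Sum.inl.injEq, Subtype.mk.injEq] at hab
      exact Subtype.ext hab
    · simp only [Sum.inr.injEq, Subtype.mk.injEq] at hab
      exact Subtype.ext (mul_right_cancel hab)
  have := Nat.card_le_card_of_injective _ hf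
  rw [Nat.card_sum] at this
  omega

/-- The sum over an orbit is the sum over half of it, at a square or at a product of two conjugates. -/
theorem sum_split [Fintype X] {K S : Subgroup G} {p : X} (hSK : S ≤ K) (hKS : Nat.card K ≤ 2 * Nat.card S)
    (hstab : ∀ k ∈ K, k • p = p → k ∈ S) {t : G} (ht : t ∈ K) (htS : t ∉ S) {k : G} (hk : k ∈ K) :
    (k ∈ S → t⁻¹ * k * t ∈ S ∧ ∑ q ∈ orb K p, c k q = ∑ q ∈ orb S p, c (k * (t⁻¹ * k * t)) q) ∧
      (k ∉ S → k * k ∈ S ∧ ∑ q ∈ orb K p, c k q = ∑ q ∈ orb S p, c (k * k) q) := by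
  classical
  have hsplit : ∀ u ∈ K, u ∉ S → ∀ f : X → ZMod 2,
      ∑ q ∈ orb K p, f q = ∑ q ∈ orb S p, f q + ∑ q ∈ orb S p, f (u • q) := by
    intro u hu huS f
    have hd : Disjoint (orb S p) ((orb S p).image (u • ·)) := by
      rw [Finset.disjoint_left]
      intro q hq hqi
      obtain ⟨r, hr, hrq⟩ := Finset.mem_image.1 hqi
      obtain ⟨a, ha, hap⟩ := mem_orb.1 hq
      obtain ⟨b, hb, rfl⟩ := mem_orb.1 hr
      have h := hstab (a⁻¹ * (u * b)) (K.mul_mem (K.inv_mem (hSK ha)) (K.mul_mem hu (hSK hb)))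
        (by rw [mul_smul, mul_smul, inv_smul_eq_iff, hap]; exact hrq)
      refine huS ?_
      rw [show u = a * (a⁻¹ * (u * b)) * b⁻¹ by group]
      exact S.mul_mem (S.mul_mem ha h) (S.inv_mem hb)
    have hun : orb K p = orb S p ∪ (orb S p).image (u • ·) := by
      ext q
      rw [Finset.mem_union, Finset.mem_image, mem_orb]
      constructor
      · rintro ⟨a, ha, rfl⟩
        rcases mem_or_of_double hSK hKS hu huS ha with h | h
        · exact Or.inl (mem_orb.2 ⟨a, h, rfl⟩)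
        · exact Or.inr ⟨(u⁻¹ * a) • p, mem_orb.2 ⟨_, h, rfl⟩, by rw [← mul_smul, mul_inv_cancel_left]⟩
      · rintro (h | ⟨q', h, rfl⟩)
        · obtain ⟨a, ha, rfl⟩ := mem_orb.1 h
          exact ⟨a, hSK ha, rfl⟩
        · obtain ⟨a, ha, rfl⟩ := mem_orb.1 h
          exact ⟨u * a, K.mul_mem hu (hSK ha), mul_smul u a p⟩
    rw [hun, Finset.sum_union hd, Finset.sum_image fun a _ b _ h => MulAction.injective u h]
  refine ⟨fun hkS => ?_, fun hkS => ?_⟩
  · have hconj : t⁻¹ * k * t ∈ S := by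
      have hkt : k * t ∉ S := fun h => htS (by rw [show t = k⁻¹ * (k * t) by group]; exact S.mul_mem (S.inv_mem hkS) h)
      rcases mem_or_of_double hSK hKS ht htS (K.mul_mem hk ht) with h | h
      · exact absurd h hkt
      · rwa [mul_assoc]
    refine ⟨hconj, ?_⟩
    rw [hsplit t ht htS, sum_mul c hc (fun q => orb_inv hconj q)]
    congr 1
    have e1 : ∀ q, c k (t • q) = c (k * t) q + c t q := fun q => by
      rw [hc, add_assoc, CharTwo.add_self_eq_zero, add_zero]
    have e2 := sum_mul c hc (B := orb S p) (g := t) (h := t⁻¹ * k * t) fun q => orb_inv hconj q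
    rw [show t * (t⁻¹ * k * t) = k * t by group] at e2
    rw [Finset.sum_congr rfl fun q _ => e1 q, Finset.sum_add_distrib, e2, add_right_comm, CharTwo.add_self_eq_zero,
      zero_add]
  · have hkk : k * k ∈ S := by
      rcases mem_or_of_double hSK hKS hk hkS (K.mul_mem hk hk) with h | h
      · exact h
      · exact absurd (by simpa using h) hkS
    refine ⟨hkk, ?_⟩
    rw [hsplit k hk hkS, Finset.sum_congr rfl fun q _ => hc k k q, Finset.sum_add_distrib, add_comm]

end Cocycle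

/-- The transfer argument. -/
theorem char_absurd {W D N : Subgroup G} (hWN : ∀ n ∈ N, ∀ w ∈ W, n * w * n⁻¹ ∈ W) (hW2 : IsPGroup 2 W)
    (hWleN : W ≤ N) (hDW : D ≤ W) (χ : N → ZMod 2) (hχ : ∀ a b, χ (a * b) = χ a + χ b) {x : G} (hx : x ∈ N)
    (hχx : χ ⟨x, hx⟩ = 1) (hxx : x * x ∈ D) (hsq : ∀ a ∈ W, a * a ∈ D)
    (hcm : ∀ a ∈ W, ∀ b ∈ W, a * b * a⁻¹ * b⁻¹ ∈ D) (hel : ∀ d ∈ D, d * d = 1)
    (hcen : ∀ d ∈ D, ∀ w ∈ W, d * w = w * d) (hDN : ∀ n ∈ N, ∀ d ∈ D, n * d * n⁻¹ ∈ D)
    (hsub : ∀ L : Subgroup G, L ≤ W → Nat.card W ≤ 16 * Nat.card L → D ≤ L)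
    (hfix : ∀ g : G, (∀ w ∈ W, g⁻¹ * w * g ∈ N) → g ∈ N)
    (hhalf : ∀ (g : G) (U : Subgroup G), U ≤ W → Nat.card W ≤ 2 * Nat.card U →
      (∀ u ∈ U, g⁻¹ * u * g ∈ N) → ∀ u ∈ U, ∀ h, χ ⟨g⁻¹ * u * g, h⟩ = 0)
    (h2 : ∀ H : Subgroup G, H.index ≠ 2) : False := by
  classical
  haveI : Fact (Nat.Prime 2) := ⟨Nat.prime_two⟩
  haveI : Fintype (G ⧸ N) := Fintype.ofFinite _
  have hmem : ∀ (g : G) (p : G ⧸ N), (g • p).out⁻¹ * g * p.out ∈ N := by
    intro g p
    rw [mul_assoc, ← QuotientGroup.eq, QuotientGroup.out_eq']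
    conv_lhs => rw [← QuotientGroup.out_eq' p]
    exact MulAction.Quotient.smul_coe N g p.out
  let c : G → G ⧸ N → ZMod 2 := fun g p => χ ⟨(g • p).out⁻¹ * g * p.out, hmem g p⟩
  have hcongr : ∀ {a b : G} (ha : a ∈ N) (hb : b ∈ N), a = b → χ ⟨a, ha⟩ = χ ⟨b, hb⟩ := by
    intro a b ha hb h; subst h; rfl
  have hc : ∀ g h p, c (g * h) p = c g (h • p) + c h p := fun g h p => by
    show χ _ = χ _ + χ _
    rw [← hχ]
    refine hcongr _ _ ?_
    rw [mul_smul]
    group
  have hfixp : ∀ g p, g • p = p → ∃ h, c g p = χ ⟨p.out⁻¹ * g * p.out, h⟩ := fun g p hgp => by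
    have h := hmem g p
    rw [hgp] at h
    exact ⟨h, hcongr _ _ (by rw [hgp])⟩
  -- the group generated by the layer and the element
  have hxW : ∀ {w : G}, w ∈ W → x * w * x⁻¹ ∈ W := fun hw => hWN x hx _ hw
  have hxW' : ∀ {w : G}, w ∈ W → x⁻¹ * w * x ∈ W := fun {w} hw => by
    simpa using hWN x⁻¹ (N.inv_mem hx) w hw
  let K : Subgroup G :=
    { carrier := {k | k ∈ W ∨ x⁻¹ * k ∈ W}
      one_mem' := Or.inl W.one_mem
      mul_mem' := by
        rintro a b (ha | ha) (hb | hb)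
        · exact Or.inl (W.mul_mem ha hb)
        · refine Or.inr ?_
          rw [show x⁻¹ * (a * b) = x⁻¹ * a * x * (x⁻¹ * b) by group]
          exact W.mul_mem (hxW' ha) hb
        · exact Or.inr (by rw [← mul_assoc]; exact W.mul_mem ha hb)
        · refine Or.inl ?_
          rw [show a * b = x * x * (x⁻¹ * (x⁻¹ * a) * x) * (x⁻¹ * b) by group]
          exact W.mul_mem (W.mul_mem (hDW hxx) (hxW' ha)) hb
      inv_mem' := by
        rintro a (ha | ha)
        · exact Or.inl (W.inv_mem ha)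
        · refine Or.inr ?_
          rw [show x⁻¹ * a⁻¹ = x⁻¹ * (x⁻¹ * a)⁻¹ * x * (x * x)⁻¹ by group]
          exact W.mul_mem (hxW' (W.inv_mem ha)) (W.inv_mem (hDW hxx)) }
  have hWK : W ≤ K := fun w hw => Or.inl hw
  have hxK : x ∈ K := Or.inr (by rw [inv_mul_cancel]; exact W.one_mem)
  have hKN : K ≤ N := by
    rintro k (hk | hk)
    · exact hWleN hk
    · rw [show k = x * (x⁻¹ * k) by group]; exact N.mul_mem hx (hWleN hk)
  have hKtwo : IsPGroup 2 K := by
    intro k
    have hkk : (k : G) * k ∈ W := by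
      rcases k.2 with h | h
      · exact W.mul_mem h h
      · rw [show (k : G) * k = x * x * (x⁻¹ * (x⁻¹ * k) * x) * (x⁻¹ * k) by group]
        exact W.mul_mem (W.mul_mem (hDW hxx) (hxW' h)) h
    obtain ⟨n, hn⟩ := hW2 ⟨_, hkk⟩
    refine ⟨n + 1, Subtype.ext ?_⟩
    have h := congrArg Subtype.val hn
    simp only [SubmonoidClass.coe_pow, OneMemClass.coe_one] at h ⊢
    rw [pow_succ', pow_mul, sq, h]
  -- the transfer
  let V : G → ZMod 2 := fun g => ∑ p, c g p
  have hV : ∀ g h, V (g * h) = V g + V h := fun g h =>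
    sum_mul c hc fun p => iff_of_true (Finset.mem_univ _) (Finset.mem_univ _)
  have hV0 : V x = 0 := by
    by_contra hne
    let f : G →* Multiplicative (ZMod 2) := MonoidHom.mk' (fun g => Multiplicative.ofAdd (V g)) fun g h => by
      rw [← ofAdd_add, ← hV]
    refine h2 f.ker ?_
    rw [Subgroup.index_ker]
    have hle : Nat.card f.range ≤ 2 := (Subgroup.card_le_card_group _).trans_eq (by
      rw [Nat.card_congr Multiplicative.toAdd, Nat.card_zmod])
    have h1 : Nat.card f.range ≠ 1 := fun h => hne (by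
      have h' : f x ∈ f.range := ⟨x, rfl⟩
      rw [Subgroup.card_eq_one.1 h, Subgroup.mem_bot] at h'
      exact Multiplicative.ofAdd.injective h')
    have : 0 < Nat.card f.range := Nat.card_pos
    omega
  let base : G ⧸ N := QuotientGroup.mk 1
  have hbase : ∀ n ∈ N, n • base = base := fun n hn => by
    rw [MulAction.Quotient.smul_mk, smul_eq_mul, mul_one]
    exact QuotientGroup.eq.2 (by simpa using hn)
  -- the other orbits
  have horb : ∀ p, p ≠ base → ∑ q ∈ orb K p, c x q = 0 := by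
    intro p hp
    set U : Subgroup G := K ⊓ MulAction.stabilizer G p with hUdef
    have hUK : U ≠ K := by
      intro e
      refine hp ?_
      have hout := hfix p.out fun w hw => by
        have hs : w ∈ U := e.ge (hWK hw)
        have h := hmem w p
        rwa [MulAction.mem_stabilizer_iff.1 hs.2] at h
      rw [← QuotientGroup.out_eq' p]
      exact (QuotientGroup.eq.2 (by simpa using hout)).symm
    obtain ⟨S, hUS, hSK, hcard⟩ := exists_half hKtwo (inf_le_left : U ≤ K) hUK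
    have hstab : ∀ k ∈ K, k • p = p → k ∈ S := fun k hk h => hUS ⟨hk, h⟩
    have hW1 := inf_double hSK hcard.le hWK
    have hkill : ∀ (S' : Subgroup G) (z : G), z ∈ D → Nat.card W ≤ 8 * Nat.card ↥(W ⊓ S') →
        ∑ q ∈ orb S' p, c z q = 0 := fun S' z hz hcd =>
      sum_kill c hc (S := W ⊓ S') (fun s hs q => orb_inv hs.2 q) fun L hL hL2 =>
        hsub L (hL.trans inf_le_left) (by omega) hz
    by_cases hxS : x ∈ S
    · obtain ⟨t, ht, htS⟩ : ∃ t ∈ W, t ∉ S := by
        by_contra! hall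
        have hKS : K ≤ S := by
          rintro k (hk | hk)
          · exact hall k hk
          · rw [show k = x * (x⁻¹ * k) by group]; exact S.mul_mem hxS (hall _ hk)
        have := Subgroup.card_le_of_le hKS
        have : 0 < Nat.card S := Nat.card_pos
        omega
      obtain ⟨hconj, heq⟩ := (sum_split c hc hSK hcard.le hstab (hWK ht) htS hxK).1 hxS
      rw [heq]
      set e := x * (t⁻¹ * x * t) with he
      have heW : e ∈ W := by
        rw [show e = x * x * (x⁻¹ * t⁻¹ * x) * t by rw [he]; group]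
        exact W.mul_mem (W.mul_mem (hDW hxx) (hxW' (W.inv_mem ht))) ht
      have heS : e ∈ S := S.mul_mem hxS hconj
      by_cases hUeq : U = S
      · have horb1 : orb S p = {p} := by
          ext q
          rw [Finset.mem_singleton, mem_orb]
          constructor
          · rintro ⟨s, hs, rfl⟩
            exact (hUeq.ge hs).2
          · rintro rfl
            exact ⟨1, S.one_mem, one_smul _ _⟩
        rw [horb1, Finset.sum_singleton]
        obtain ⟨h, hval⟩ := hfixp e p (hUeq.ge heS).2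
        rw [hval]
        refine hhalf p.out (W ⊓ S) inf_le_left hW1 (fun u hu => ?_) e ⟨heW, heS⟩ h
        have h' := hmem u p
        rwa [MulAction.mem_stabilizer_iff.1 (hUeq.ge hu.2).2] at h'
      obtain ⟨S₂, hUS₂, hS₂S, hcard₂⟩ := exists_half (hKtwo.to_le hSK) hUS hUeq
      have hstab₂ : ∀ k ∈ S, k • p = p → k ∈ S₂ := fun k hk h => hUS₂ ⟨hSK hk, h⟩
      have hW2' : Nat.card W ≤ 8 * Nat.card ↥(W ⊓ S₂) := by
        have h := inf_double hS₂S hcard₂.le (inf_le_right : W ⊓ S ≤ S)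
        rw [inf_assoc, inf_eq_right.2 hS₂S] at h
        omega
      obtain ⟨t₂, ht₂, ht₂S⟩ : ∃ t₂ ∈ S, t₂ ∉ S₂ := by
        by_contra! hall
        have := Subgroup.card_le_of_le (show S ≤ S₂ from hall)
        have : 0 < Nat.card S₂ := Nat.card_pos
        omega
      by_cases heS₂ : e ∈ S₂
      · obtain ⟨-, heq₂⟩ := (sum_split c hc hS₂S hcard₂.le hstab₂ ht₂ ht₂S heS).1 heS₂
        rw [heq₂]
        refine hkill S₂ _ ?_ hW2'
        have hW_ : ∀ v ∈ W, e * (v⁻¹ * e * v) ∈ D := fun v hv => by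
          rw [show e * (v⁻¹ * e * v) = e * e * (e⁻¹ * v⁻¹ * e⁻¹⁻¹ * v⁻¹⁻¹) by group]
          exact D.mul_mem (hsq e heW) (hcm _ (W.inv_mem heW) _ (W.inv_mem hv))
        rcases hSK ht₂ with h | h
        · exact hW_ t₂ h
        · set w := x⁻¹ * t₂ with hw
          have he' : x⁻¹ * e * x ∈ W := hxW' heW
          have hee : e * (x⁻¹ * e * x) = 1 := by
            have h' : x * x * t = t * (x * x) := hcen _ hxx t ht
            have h'' : (x * x) * (x * x) = 1 := hel _ hxx
            calc e * (x⁻¹ * e * x) = x * t⁻¹ * (x * x * t) * x := by rw [he]; group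
              _ = x * t⁻¹ * (t * (x * x)) * x := by rw [h']
              _ = x * x * (x * x) := by group
              _ = 1 := h''
          rw [show e * (t₂⁻¹ * e * t₂) =
              e * (x⁻¹ * e * x) * ((x⁻¹ * e * x)⁻¹ * w⁻¹ * (x⁻¹ * e * x)⁻¹⁻¹ * w⁻¹⁻¹) by rw [hw]; group,
            hee, one_mul]
          exact hcm _ (W.inv_mem he') _ (W.inv_mem h)
      · obtain ⟨-, heq₂⟩ := (sum_split c hc hS₂S hcard₂.le hstab₂ ht₂ ht₂S heS).2 heS₂
        rw [heq₂]
        exact hkill S₂ _ (hsq e heW) hW2'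
    · obtain ⟨-, heq⟩ := (sum_split c hc hSK hcard.le hstab hxK hxS hxK).2 hxS
      rw [heq]
      exact hkill S _ hxx (by omega)
  -- summing the orbits
  let r : G ⧸ N → Finset (G ⧸ N) := fun p => orb K p
  have hr : ∀ p q, q ∈ r p → r q = r p := fun p q hq => by
    obtain ⟨k, hk, rfl⟩ := mem_orb.1 hq
    ext u
    simp only [r, mem_orb]
    constructor
    · rintro ⟨l, hl, rfl⟩
      exact ⟨l * k, K.mul_mem hl hk, mul_smul l k p⟩
    · rintro ⟨l, hl, rfl⟩
      exact ⟨l * k⁻¹, K.mul_mem hl (K.inv_mem hk), by rw [mul_smul, inv_smul_smul]⟩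
  have hsum : V x = ∑ O ∈ Finset.univ.image r, ∑ q ∈ O, c x q := by
    show ∑ p, c x p = _
    rw [← Finset.sum_fiberwise_of_maps_to (s := Finset.univ) (t := Finset.univ.image r) (g := r)
      fun p _ => Finset.mem_image_of_mem r (Finset.mem_univ p)]
    refine Finset.sum_congr rfl fun O hO => Finset.sum_congr ?_ fun _ _ => rfl
    obtain ⟨p, -, rfl⟩ := Finset.mem_image.1 hO
    ext q
    rw [Finset.mem_filter]
    refine ⟨fun h => h.2 ▸ mem_orb.2 ⟨1, K.one_mem, one_smul _ _⟩, fun h => ⟨Finset.mem_univ _, hr p q h⟩⟩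
  have hrbase : r base = {base} := by
    ext q
    simp only [r, mem_orb, Finset.mem_singleton]
    exact ⟨fun ⟨k, hk, hq⟩ => hq ▸ hbase k (hKN hk), fun h => ⟨1, K.one_mem, by rw [h, one_smul]⟩⟩
  have hbase1 : c x base = 1 := by
    obtain ⟨h, hval⟩ := hfixp x base (hbase x hx)
    rw [hval, ← hχx]
    have hb : (base.out : G) ∈ N := by
      have h' : QuotientGroup.mk (base.out) = (QuotientGroup.mk 1 : G ⧸ N) := QuotientGroup.out_eq' base
      simpa using N.inv_mem (QuotientGroup.eq.1 h')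
    rw [show (⟨base.out⁻¹ * x * base.out, h⟩ : N) = ⟨_, hb⟩⁻¹ * ⟨x, hx⟩ * ⟨_, hb⟩ from rfl, hχ, hχ,
      add_right_comm, ← hχ, inv_mul_cancel]
    have h10 : χ 1 = 0 := left_eq_add.1 (by rw [← hχ, one_mul])
    rw [h10, zero_add]
  rw [hsum, Finset.sum_eq_single (r base) (fun O hO hne => ?_)
    fun h => absurd (Finset.mem_image_of_mem r (Finset.mem_univ base)) h, hrbase, Finset.sum_singleton, hbase1] at hV0
  · exact one_ne_zero hV0
  · obtain ⟨p, -, rfl⟩ := Finset.mem_image.1 hO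
    exact horb p fun e => hne (by rw [e])

end Cfsg.Agent.Lie.RegularLayer
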