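import Cfsg.Agent.Lib.Lie.RegularLayerFusion
import Cfsg.Agent.Lib.Lie.RegularThreeTwo
import Cfsg.Agent.Lib.Lie.RegularTransfer

/-!
Large subgroups of the layer, their embeddings, and the coordinates of the small layer.
-/

set_option autoImplicit false
set_option linter.style.haveILetI false
set_option linter.unusedSectionVars false

namespace Cfsg.Agent.Lie.RegularLayer

open scoped commutatorElement

theorem tau_mem_sr : ∃ x y : DihedralGroup 4, (tau x).2.2 = 1 ∧ (tau y).1 = 1 ∧ (tau y).2.2 = 0 ∧ (tau y).2.1 = 0 :=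
  ⟨DihedralGroup.sr 3, DihedralGroup.sr 0, by decide, by decide, by decide, by decide⟩

theorem proper_subgroup_card (S : Subgroup (DihedralGroup 4)) (h : S ≠ ⊤) : Nat.card S ≤ 4 := by
  have hd : Nat.card S ∣ 8 := (Subgroup.card_subgroup_dvd_card S).trans (DihedralGroup.nat_card (n := 4)).dvd
  have hne : Nat.card S ≠ 8 := fun e => h (Subgroup.eq_top_of_card_eq S (by rw [e, DihedralGroup.nat_card]))
  obtain ⟨k, hk, hk'⟩ := (Nat.dvd_prime_pow Nat.prime_two).1 (show Nat.card S ∣ 2 ^ 3 from hd)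
  rcases lt_or_eq_of_le hk with hlt | rfl
  · rw [hk']
    exact (Nat.pow_le_pow_right two_pos (show k ≤ 2 by omega)).trans_eq (by norm_num)
  · exact absurd hk' hne

variable {T : Type*} [Group T] [Finite T]

local notation "Z" => Subgroup.upperCentralSeries T

namespace Hyp

variable (H : Hyp T)
include H

/-- An embedded copy of a subgroup of index two of the layer lies in the layer. -/
theorem half_image (M : Model T) {U : Subgroup T} (hU : U ≤ W T) (hc : Nat.card (W T) ≤ 2 * Nat.card U)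
    (E : U →* T) (hE : Function.Injective E) (u : U) : E u ∈ W T := by
  haveI : Fact (Nat.Prime 2) := ⟨Nat.prime_two⟩
  have hZU : Z 3 ≤ U := H.phi_eq.ge.trans (H.sub U hU (by omega))
  let X : Subgroup T := E.range
  let ZX : Subgroup T := ((Z 3).subgroupOf U).map E
  have hZX8 : Nat.card ZX = 8 := by
    rw [Subgroup.card_map_of_injective (f := E) hE, Nat.card_congr (Subgroup.subgroupOfEquivOfLe hZU).toEquiv,
      H.card_Z 3 (by omega)]
    norm_num
  have hsq : ∀ x ∈ X, x * x ∈ ZX := by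
    rintro _ ⟨v, rfl⟩
    exact ⟨v * v, H.phi_sq (hU v.2), map_mul E v v⟩
  have hcm : ∀ x ∈ X, ∀ y ∈ X, ⁅x, y⁆ ∈ ZX := by
    rintro _ ⟨v, rfl⟩ _ ⟨w, rfl⟩
    exact ⟨⁅v, w⁆, H.phi_comm (hU v.2) (hU w.2), map_commutatorElement E v w⟩
  have hcen : ∀ z ∈ ZX, ∀ x ∈ X, Commute z x := by
    rintro _ ⟨v, hv, rfl⟩ _ ⟨w, rfl⟩
    exact (show Commute v w from Subtype.ext (H.comm_W_Z3 (hU w.2) hv).eq).map E
  have hX : Nat.card (W T) ≤ 2 * Nat.card X := by
    rw [← Nat.card_congr (MonoidHom.ofInjective hE).toEquiv]; exact hc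
  let πX : X →* DihedralGroup 4 := M.π.comp X.subtype
  let J : Subgroup T := X ⊓ W T
  have hker : Nat.card πX.ker = Nat.card J := Nat.card_congr
    { toFun := fun x => ⟨((x : X) : T), (x : X).2, (M.π_ker _).1 x.2⟩
      invFun := fun j => ⟨⟨j, j.2.1⟩, (M.π_ker _).2 j.2.2⟩
      left_inv := fun _ => rfl
      right_inv := fun _ => rfl }
  have hXJ : Nat.card X = Nat.card J * Nat.card πX.range := by
    rw [← hker, ← Subgroup.index_ker πX, Subgroup.card_mul_index πX.ker]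
  have hr8 : Nat.card πX.range ≤ 8 := (Subgroup.card_le_card_group _).trans_eq DihedralGroup.nat_card
  have hZJ : Z 3 ≤ J := H.phi_eq.ge.trans (H.sub J inf_le_right (by nlinarith))
  have hne : πX.range ≠ ⊤ := by
    intro htop
    obtain ⟨dx, dy, hxc, hya, hyc, hyb⟩ := tau_mem_sr
    obtain ⟨⟨x, hx⟩, hπx⟩ := MonoidHom.range_eq_top.1 htop dx
    obtain ⟨⟨y, hy⟩, hπy⟩ := MonoidHom.range_eq_top.1 htop dy
    change M.π x = dx at hπx
    change M.π y = dy at hπy
    have hy3 : Commute ⁅x, M.z3⁆ y := hcen _ (hcm x hx _ (hZJ M.hz3).1) y hy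
    have hxz : ⁅x, M.z3⁆ = M.z3 * (M.z2 * M.z1 ^ (tau dx).2.1.val) * M.z3⁻¹ := by
      rw [commutatorElement_def, M.conj3, hπx, hxc, ZMod.val_one, pow_one]
    have h2Z3 : M.z2 ∈ Z 3 := Z_mono (show 2 ≤ 3 by omega) M.hz2
    have h1c : ∀ g : T, Commute g M.z1 := fun g => by
      have h := M.hz1
      rw [Subgroup.upperCentralSeries_one] at h
      exact Subgroup.mem_center_iff.1 h g
    have hxz' : ⁅x, M.z3⁆ = M.z2 * M.z1 ^ (tau dx).2.1.val := by
      rw [hxz, (H.comm_W_Z3 (H.Z3_le_W ((Z 3).mul_mem h2Z3 ((Z 3).pow_mem (Z_mono (show 1 ≤ 3 by omega) M.hz1) _)))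
        M.hz3).eq, mul_inv_cancel_right]
    rw [hxz'] at hy3
    have hconj : y * (M.z2 * M.z1 ^ (tau dx).2.1.val) * y⁻¹ = M.z2 * M.z1 ^ (tau dx).2.1.val := by
      rw [← hy3.eq, mul_inv_cancel_right]
    rw [show y * (M.z2 * M.z1 ^ (tau dx).2.1.val) * y⁻¹ = y * M.z2 * y⁻¹ * (y * M.z1 ^ (tau dx).2.1.val * y⁻¹) by group,
      M.conj2, hπy, hya, ((h1c y).pow_right _).eq, mul_inv_cancel_right, ZMod.val_one, pow_one] at hconj
    exact M.nz1 (mul_eq_left.1 (mul_right_cancel hconj))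
  have hJ : Nat.card (W T) ≤ 8 * Nat.card J := by
    have h4 := proper_subgroup_card _ hne
    nlinarith
  have hsub : Z 3 ≤ J ⊓ ZX := by
    intro z hz
    by_contra hzn
    obtain ⟨L, -, hLJ, hzL, -, hL2⟩ := exists_index_two (inf_le_left : J ⊓ ZX ≤ J)
      (fun a ha => ⟨J.mul_mem ha ha, hsq a ha.1⟩)
      (fun a ha b hb => ⟨by
        rw [commutatorElement_def]
        exact J.mul_mem (J.mul_mem (J.mul_mem ha hb) (J.inv_mem ha)) (J.inv_mem hb), hcm a ha.1 b hb.1⟩) (hZJ hz) hzn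
    exact hzL (H.sub L (hLJ.trans inf_le_right) (by omega) (H.phi_eq.ge hz))
  have hZX : Z 3 = ZX := Subgroup.eq_of_le_of_card_ge (hsub.trans inf_le_right)
    (by rw [hZX8, H.card_Z 3 (by omega)]; norm_num)
  refine Subgroup.mem_centralizer_iff.2 fun z hz => ?_
  exact (hcen z (hZX.le hz) (E u) ⟨u, rfl⟩).eq

/-- An element over an involution of the dihedral group with square in the small layer. -/
theorem exists_lift (M : Model T) {d : DihedralGroup 4} (hdd : d * d = 1) (hd : d ≠ 1) :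
    ∃ x : T, M.π x = d ∧ x * x ∈ Z 3 := by
  classical
  obtain ⟨t, ht⟩ := M.π_surj d
  have hd' : d⁻¹ = d := inv_eq_of_mul_eq_one_right hdd
  have htt : t * t ∈ W T := (M.π_ker _).1 (by rw [map_mul, ht, hdd])
  set f := M.φ (t * t)
  have hf : ∀ e, f (e * d) = f e := fun e => by
    have h := M.conj t (t * t) htt e
    rw [show t * (t * t) * t⁻¹ = t * t by group, ht] at h
    exact h.symm
  let idx := Fintype.equivFin (DihedralGroup 4)
  let a : DihedralGroup 4 → ZMod 2 := fun e => if idx e < idx (e * d) then f e else 0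
  obtain ⟨w, hw, hwa⟩ := M.surj a
  refine ⟨t * w, by rw [map_mul, (M.π_ker w).2 hw, mul_one, ht], ?_⟩
  have hmem : t⁻¹ * w * t ∈ W T := by simpa using (inferInstance : (W T).Normal).conj_mem w hw t⁻¹
  rw [show t * w * (t * w) = t * t * (t⁻¹ * w * t) * w by group]
  refine (M.ker _ ((W T).mul_mem ((W T).mul_mem htt hmem) hw)).1 ?_
  rw [M.add _ ((W T).mul_mem htt hmem) _ hw, M.add _ htt _ hmem]
  funext e
  have h := M.conj t⁻¹ w hw e
  rw [inv_inv, map_inv, ht, hd'] at h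
  rw [Pi.add_apply, Pi.add_apply, h, hwa]
  have hed : e * d ≠ e := fun he => hd (mul_eq_left.1 he)
  show f e + (if idx (e * d) < idx (e * d * d) then f (e * d) else 0) + (if idx e < idx (e * d) then f e else 0) = 0
  rw [mul_assoc, hdd, mul_one, hf]
  rcases lt_or_gt_of_ne (fun h => hed (idx.injective h)) with h | h
  · rw [if_pos h, if_neg (not_lt.2 h.le), add_zero, CharTwo.add_self_eq_zero]
  · rw [if_neg (not_lt.2 h.le), if_pos h, add_zero, CharTwo.add_self_eq_zero]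

/-- Coordinates on the small layer. -/
theorem coord_bijective (M : Model T) :
    Function.Bijective (fun v : Fin 3 → ZMod 2 => (⟨M.z3 ^ (v 2).val * (M.z2 ^ (v 1).val * M.z1 ^ (v 0).val),
      (Z 3).mul_mem ((Z 3).pow_mem M.hz3 _) ((Z 3).mul_mem ((Z 3).pow_mem (Z_mono (show 2 ≤ 3 by omega) M.hz2) _)
        ((Z 3).pow_mem (Z_mono (show 1 ≤ 3 by omega) M.hz1) _))⟩ : Z 3)) := by
  have hsurj : Function.Surjective (fun v : Fin 3 → ZMod 2 =>
      (⟨M.z3 ^ (v 2).val * (M.z2 ^ (v 1).val * M.z1 ^ (v 0).val),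
      (Z 3).mul_mem ((Z 3).pow_mem M.hz3 _) ((Z 3).mul_mem ((Z 3).pow_mem (Z_mono (show 2 ≤ 3 by omega) M.hz2) _)
        ((Z 3).pow_mem (Z_mono (show 1 ≤ 3 by omega) M.hz1) _))⟩ : Z 3)) := by
    rintro ⟨z, hz⟩
    rcases H.two_dichotomy (i := 2) (by omega) M.hz3 M.nz3 hz with h | h <;>
      obtain ⟨c, b, hcb⟩ := H.coords M.hz1 M.nz1 M.hz2 M.nz2 h
    · exact ⟨![b, c, 0], Subtype.ext (by simp [hcb])⟩
    · refine ⟨![b, c, 1], Subtype.ext ?_⟩
      simp only [Matrix.cons_val_zero, Matrix.cons_val_one, Matrix.cons_val, ZMod.val_one, pow_one]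
      rw [← hcb, mul_inv_cancel_left]
  refine (Nat.bijective_iff_surjective_and_card _).2 ⟨hsurj, ?_⟩
  rw [Nat.card_fun, Nat.card_zmod, Nat.card_eq_fintype_card, Fintype.card_fin, H.card_Z 3 (by omega)]

end Hyp

end Cfsg.Agent.Lie.RegularLayer
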