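import Cfsg.Agent.Lib.Lie.RegularThreeTwo

/-!
Rigidity of the regular module of the dihedral group of order 8 under GL(3,2), and a double transfer.
-/

set_option autoImplicit false
set_option linter.unusedSectionVars false
set_option linter.style.haveILetI false

namespace Cfsg.Agent.Lie.RegularLayer

open scoped commutatorElement

/-- zero-one matrix of a map of the three indices -/
def pMat (f : Fin 3 → Fin 3) : Matrix (Fin 3) (Fin 3) (ZMod 2) :=
  Matrix.of fun a b => if a = f b then 1 else 0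

theorem transvection_conj_corner : ∀ i j : Fin 3, i ≠ j →
    pMat ![i, -(i + j), j] * pMat (fun a => if a = i then 0 else if a = j then 2 else 1) = 1 ∧
    pMat (fun a => if a = i then 0 else if a = j then 2 else 1) * pMat ![i, -(i + j), j] = 1 ∧
    pMat ![i, -(i + j), j] * triMat (0, 1, 0) * pMat (fun a => if a = i then 0 else if a = j then 2 else 1) =
      Matrix.transvection i j 1 := by
  decide +kernel

theorem eq_top_of_normal_corner {M : Subgroup GLThree} [M.Normal] (h : triUnit (0, 1, 0) ∈ M) : M = ⊤ := by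
  refine eq_top_of_transvections fun i j hij => ?_
  obtain ⟨h1, h2, h3⟩ := transvection_conj_corner i j hij
  let P : GLThree := ⟨_, _, h1, h2⟩
  exact ⟨P * triUnit (0, 1, 0) * P⁻¹, ‹M.Normal›.conj_mem _ h P, h3⟩

theorem eq_top_of_corner_central {M : Subgroup GLThree} [M.Normal]
    (h : ∀ g : GLThree, triUnit (0, 1, 0) * g * (triUnit (0, 1, 0))⁻¹ * g⁻¹ ∈ M) : M = ⊤ := by
  refine eq_top_of_normal_corner ?_
  let π := QuotientGroup.mk' M
  set u := triUnit (0, 1, 0)
  have hall : ∀ i j : Fin 3, i ≠ j → ∀ v : GLThree, (v : Matrix (Fin 3) (Fin 3) (ZMod 2)) = Matrix.transvection i j 1 →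
      π v = π u := by
    intro i j hij v hv
    obtain ⟨h1, h2, h3⟩ := transvection_conj_corner i j hij
    let P : GLThree := ⟨_, _, h1, h2⟩
    have hv' : v = P * u * P⁻¹ := Units.ext (hv.trans h3.symm)
    rw [hv']
    have hc : π (u * P * u⁻¹ * P⁻¹) = 1 := (QuotientGroup.eq_one_iff _).2 (h P)
    rw [map_mul, map_mul, map_mul, map_inv, map_inv, mul_inv_eq_one, mul_inv_eq_iff_eq_mul] at hc
    rw [map_mul, map_mul, map_inv, ← hc]
    group
  have e1 : triMat (1, 0, 0) = Matrix.transvection 0 1 1 := by decide +kernel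
  have e2 : triMat (0, 0, 1) = Matrix.transvection 1 2 1 := by decide +kernel
  have hu2 : u * u = 1 := Units.ext (by decide +kernel)
  have hu : u = triUnit (1, 0, 0) * triUnit (0, 0, 1) * triUnit (1, 0, 0) * triUnit (0, 0, 1) :=
    Units.ext (by decide +kernel)
  refine (QuotientGroup.eq_one_iff _).1 (show π u = 1 from ?_)
  rw [hu, map_mul, map_mul, map_mul, hall 0 1 (by decide) (triUnit (1, 0, 0)) e1,
    hall 1 2 (by decide) (triUnit (0, 0, 1)) e2, mul_assoc (π u * π u), ← map_mul, ← map_mul, hu2, mul_one, map_one]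

theorem eq_top_of_seven {M : Subgroup GLThree} [M.Normal] (h : ∀ g : GLThree, g ^ 7 = 1 → g ∈ M) : M = ⊤ := by
  refine eq_top_of_normal_corner ?_
  let g : GLThree := ⟨!![0, 0, 1; 0, 1, 1; 1, 1, 0], !![1, 1, 1; 1, 1, 0; 1, 0, 0], by decide +kernel, by decide +kernel⟩
  have h1 : g ^ 7 = 1 := Units.ext (by decide +kernel)
  have h2 : (g * triUnit (0, 1, 0)) ^ 7 = 1 := Units.ext (by decide +kernel)
  simpa using M.mul_mem (M.inv_mem (h g h1)) (h _ h2)

/-- an automorphism of seventh power one of a small 3-group is trivial -/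
theorem seven_aut_eq_one {A : Type*} [Group A] [Finite A] {r : ℕ} (hr : Nat.card A = 3 ^ r) (hr5 : r ≤ 5)
    (φ : MulAut A) (hφ : φ ^ 7 = 1) : φ = 1 := by
  haveI : Fact (Nat.Prime 7) := ⟨by norm_num⟩
  haveI : Fact (Nat.Prime 3) := ⟨by norm_num⟩
  have h7 : IsPGroup 7 (Subgroup.zpowers φ) := by
    rintro ⟨x, hx⟩
    obtain ⟨k, rfl⟩ := Subgroup.mem_zpowers_iff.1 hx
    refine ⟨1, Subtype.ext ?_⟩
    show (φ ^ k) ^ (7 ^ 1) = 1
    rw [pow_one, ← zpow_natCast, ← zpow_mul, mul_comm k, zpow_mul, zpow_natCast, hφ, one_zpow]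
  let C : Subgroup A := φ.toMonoidHom.eqLocus (MonoidHom.id A)
  have hfix : MulAction.fixedPoints (Subgroup.zpowers φ) A = (C : Set A) := by
    ext a
    constructor
    · exact fun h => h ⟨φ, Subgroup.mem_zpowers φ⟩
    · rintro ha ⟨x, hx⟩
      have hle : Subgroup.zpowers φ ≤ MulAction.stabilizer (MulAut A) a := Subgroup.zpowers_le.2 ha
      exact hle hx
  have hmod := h7.card_modEq_card_fixedPoints A
  rw [hfix] at hmod
  obtain ⟨c, hcr, hc⟩ := (Nat.dvd_prime_pow (by norm_num : Nat.Prime 3)).1 (hr ▸ Subgroup.card_subgroup_dvd_card C)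
  change Nat.card A ≡ Nat.card C [MOD 7] at hmod
  rw [hr, hc] at hmod
  have hcr' : c = r := by
    unfold Nat.ModEq at hmod
    interval_cases r <;> interval_cases c <;> first | rfl | (exfalso; revert hmod; decide)
  have htop : C = ⊤ := Subgroup.eq_top_of_card_eq C (by rw [hc, hcr', hr])
  exact MulEquiv.ext fun a => (show a ∈ C from htop.symm ▸ Subgroup.mem_top a)

/-- an inverted automorphism of order dividing four of a group of order at most q squared has central square -/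
theorem square_central {A : Type*} [Group A] [Finite A] {q r : ℕ} (hq : q.Prime) (hq2 : q ≠ 2) (hr : Nat.card A = q ^ r)
    (hr2 : r ≤ 2) (hcomm : ∀ a b : A, a * b = b * a) (ψ σ : MulAut A) (hψ : ψ ^ 4 = 1)
    (hσ : σ * ψ * σ⁻¹ = ψ⁻¹) (χ : MulAut A) : ψ ^ 2 * χ = χ * ψ ^ 2 := by
  set φ := ψ ^ 2 with hφ
  have hφ2 : φ * φ = 1 := by rw [hφ, ← pow_add, hψ]
  letI : CommGroup A := { ‹Group A› with mul_comm := hcomm }
  have hφφ : ∀ a, φ (φ a) = a := fun a => by rw [← MulAut.mul_apply, hφ2, MulAut.one_apply]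
  let Ap : Subgroup A := φ.toMonoidHom.eqLocus (MonoidHom.id A)
  let Am : Subgroup A :=
    { carrier := {a | φ a = a⁻¹}
      mul_mem' := fun {a b} ha hb => by
        show φ (a * b) = (a * b)⁻¹
        rw [map_mul, ha, hb, mul_inv]
      one_mem' := by show φ 1 = 1⁻¹; rw [map_one, inv_one]
      inv_mem' := fun {a} ha => by show φ a⁻¹ = a⁻¹⁻¹; rw [map_inv, ha] }
  have hodd : Odd (Nat.card A) := hr ▸ (hq.odd_of_ne_two hq2).pow
  have hsq : ∀ a : A, a * a = 1 → a = 1 := fun a ha => by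
    have h1 : a ^ 2 = 1 := by rw [pow_two, ha]
    have h2 : orderOf a ∣ 2 := orderOf_dvd_of_pow_eq_one h1
    rcases (Nat.dvd_prime Nat.prime_two).1 h2 with h | h
    · exact orderOf_eq_one_iff.1 h
    · exact absurd (h ▸ orderOf_dvd_natCard a) hodd.not_two_dvd_nat
  by_cases hp : Ap = ⊥
  · have hinv : ∀ a, φ a = a⁻¹ := fun a => by
      have hmem : a * φ a ∈ Ap := by
        show φ (a * φ a) = a * φ a
        rw [map_mul, hφφ, mul_comm]
      rw [hp, Subgroup.mem_bot] at hmem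
      exact eq_inv_of_mul_eq_one_right hmem
    exact MulEquiv.ext fun a => by simp only [MulAut.mul_apply, hinv, map_inv]
  by_cases hm : Am = ⊥
  · have hfix : ∀ a, φ a = a := fun a => by
      have hmem : a * (φ a)⁻¹ ∈ Am := by
        show φ (a * (φ a)⁻¹) = (a * (φ a)⁻¹)⁻¹
        rw [map_mul, map_inv, hφφ, mul_inv, inv_inv, mul_comm]
      rw [hm, Subgroup.mem_bot, mul_inv_eq_one] at hmem
      exact hmem.symm
    exact MulEquiv.ext fun a => by simp only [MulAut.mul_apply, hfix]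
  exfalso
  haveI : Fact q.Prime := ⟨hq⟩
  have hcard : ∀ X : Subgroup A, X ≠ ⊥ → ∃ k, 1 ≤ k ∧ Nat.card X = q ^ k := fun X hX => by
    obtain ⟨k, -, hk⟩ := (Nat.dvd_prime_pow hq).1 (hr ▸ Subgroup.card_subgroup_dvd_card X)
    refine ⟨k, Nat.one_le_iff_ne_zero.2 fun e => hX (Subgroup.card_eq_one.1 ?_), hk⟩
    rw [hk, e, pow_zero]
  obtain ⟨kp, hkp, hkp'⟩ := hcard Ap hp
  obtain ⟨km, hkm, hkm'⟩ := hcard Am hm
  have hdisj : Ap ⊓ Am = ⊥ := (Subgroup.eq_bot_iff_forall _).2 fun a ha => hsq a <| by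
    have h1 : φ a = a := ha.1
    have h2 : φ a = a⁻¹ := ha.2
    exact mul_eq_one_iff_eq_inv.2 (h1.symm.trans h2)
  have hle : Nat.card (Ap × Am) ≤ Nat.card A :=
    Nat.card_le_card_of_injective (fun x : Ap × Am => (x.1 : A) * x.2)
      (Subgroup.mul_injective_of_disjoint (disjoint_iff.2 hdisj))
  rw [Nat.card_prod, hkp', hkm', hr, ← pow_add, Nat.pow_le_pow_iff_right hq.one_lt] at hle
  have hkm1 : km = 1 := by omega
  rw [hkm1, pow_one] at hkm'
  haveI : IsCyclic Am := isCyclic_of_prime_card hkm'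
  obtain ⟨b, hb⟩ := IsCyclic.exists_generator (α := Am)
  have hψφ : ψ * φ = φ * ψ := (Commute.refl ψ).pow_right 2
  have hσφ : σ * φ = φ * σ := by
    have h1 : σ * φ * σ⁻¹ = φ := by
      rw [hφ, ← conj_pow, hσ, inv_pow]
      exact inv_eq_of_mul_eq_one_right hφ2
    exact mul_inv_eq_iff_eq_mul.1 h1
  have hstable : ∀ θ : MulAut A, θ * φ = φ * θ → ∀ a ∈ Am, θ a ∈ Am := fun θ hθ a ha => by
    show φ (θ a) = (θ a)⁻¹
    rw [← MulAut.mul_apply, ← hθ, MulAut.mul_apply, show φ a = a⁻¹ from ha, map_inv]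
  have hgen : ∀ a ∈ Am, ∃ k : ℤ, (b : A) ^ k = a := fun a ha => by
    obtain ⟨k, hk⟩ := Subgroup.mem_zpowers_iff.1 (hb ⟨a, ha⟩)
    exact ⟨k, by simpa using congrArg Subtype.val hk⟩
  obtain ⟨i, hi⟩ := hgen _ (hstable ψ hψφ b b.2)
  obtain ⟨l, hl⟩ := hgen _ (hstable σ hσφ b b.2)
  have hcom : σ (ψ b) = ψ (σ b) := by
    rw [← hi, ← hl, map_zpow, map_zpow, ← hl, ← hi, ← zpow_mul, ← zpow_mul, mul_comm i]
  have hsw : σ (ψ b) = ψ⁻¹ (σ b) := by
    rw [← MulAut.mul_apply, mul_inv_eq_iff_eq_mul.1 hσ, MulAut.mul_apply]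
  have hfx : φ (σ b) = σ b := by
    rw [hφ, pow_two, MulAut.mul_apply, ← hcom, hsw, MulAut.apply_inv_self]
  have hone : (σ (b : A)) = 1 := hsq _ (by
    have h2 : φ (σ b) = (σ b)⁻¹ := hstable σ hσφ b b.2
    exact mul_eq_one_iff_eq_inv.2 (hfx.symm.trans h2))
  have hb1 : b = 1 := Subtype.ext ((map_eq_one_iff σ (EquivLike.injective σ)).1 hone)
  refine hm ((Subgroup.eq_bot_iff_forall _).2 fun a ha => ?_)
  obtain ⟨k, rfl⟩ := hgen a ha
  rw [hb1, OneMemClass.coe_one, one_zpow]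

/-- functions on the dihedral group of order 8 -/
abbrev Oct := DihedralGroup 4 → ZMod 2

theorem card_aut_oct : Nat.card (Oct ≃ₗ[ZMod 2] Oct) = 2 ^ 28 * (3 ^ 5 * (5 ^ 2 * (7 ^ 2 * (17 * (31 * 127))))) := by
  let e : Oct ≃ₗ[ZMod 2] (Fin 8 → ZMod 2) :=
    LinearEquiv.funCongrLeft (ZMod 2) (ZMod 2) (Fintype.equivFinOfCardEq (by simp [DihedralGroup.card])).symm
  have h1 : Nat.card (Oct ≃ₗ[ZMod 2] Oct) = Nat.card ((Fin 8 → ZMod 2) ≃ₗ[ZMod 2] (Fin 8 → ZMod 2)) :=
    Nat.card_congr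
      { toFun := fun f => e.symm ≪≫ₗ f ≪≫ₗ e
        invFun := fun f => e ≪≫ₗ f ≪≫ₗ e.symm
        left_inv := fun f => by ext x d; simp
        right_inv := fun f => by ext x d; simp }
  have h2 : Nat.card (GL (Fin 8) (ZMod 2)) = Nat.card ((Fin 8 → ZMod 2) ≃ₗ[ZMod 2] (Fin 8 → ZMod 2)) :=
    Nat.card_congr (Matrix.GeneralLinearGroup.toLin.trans
      (LinearMap.GeneralLinearGroup.generalLinearEquiv _ _)).toEquiv
  rw [h1, ← h2, Matrix.card_GL_field]
  simp [Fin.prod_univ_eight, ZMod.card]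

theorem rank_bound {q r : ℕ} (hq : q.Prime) (hq2 : q ≠ 2)
    (h : q ^ r ∣ 2 ^ 28 * (3 ^ 5 * (5 ^ 2 * (7 ^ 2 * (17 * (31 * 127)))))) : r ≤ 2 ∨ q = 3 ∧ r ≤ 5 := by
  by_contra hc
  rw [not_or, not_and, not_le, not_le] at hc
  obtain ⟨hr, h5⟩ := hc
  have h3 : q ^ 3 ∣ 2 ^ 28 * (3 ^ 5 * (5 ^ 2 * (7 ^ 2 * (17 * (31 * 127))))) := (pow_dvd_pow q hr).trans h
  have hmem : q ∣ 2 ^ 28 * (3 ^ 5 * (5 ^ 2 * (7 ^ 2 * (17 * (31 * 127))))) :=
    (dvd_pow_self q (by norm_num : (3 : ℕ) ≠ 0)).trans h3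
  have hpd : ∀ p, Nat.Prime p → q ∣ p → q = p := fun p hp h => (Nat.prime_dvd_prime_iff_eq hq hp).1 h
  rcases (Nat.Prime.dvd_mul hq).1 hmem with h' | h'
  · exact hq2 (hpd 2 Nat.prime_two (hq.dvd_of_dvd_pow h'))
  rcases (Nat.Prime.dvd_mul hq).1 h' with h' | h'
  · have e := hpd 3 (by norm_num) (hq.dvd_of_dvd_pow h')
    have h6 : q ^ 6 ∣ 2 ^ 28 * (3 ^ 5 * (5 ^ 2 * (7 ^ 2 * (17 * (31 * 127))))) := (pow_dvd_pow q (h5 e)).trans h
    rw [e] at h6
    norm_num at h6
  rcases (Nat.Prime.dvd_mul hq).1 h' with h' | h'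
  · have e := hpd 5 (by norm_num) (hq.dvd_of_dvd_pow h')
    rw [e] at h3; norm_num at h3
  rcases (Nat.Prime.dvd_mul hq).1 h' with h' | h'
  · have e := hpd 7 (by norm_num) (hq.dvd_of_dvd_pow h')
    rw [e] at h3; norm_num at h3
  rcases (Nat.Prime.dvd_mul hq).1 h' with h' | h'
  · have e := hpd 17 (by norm_num) h'
    rw [e] at h3; norm_num at h3
  rcases (Nat.Prime.dvd_mul hq).1 h' with h' | h'
  · have e := hpd 31 (by norm_num) h'
    rw [e] at h3; norm_num at h3
  · have e := hpd 127 (by norm_num) h'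
    rw [e] at h3; norm_num at h3

instance instFiniteOctAut : Finite (Oct ≃ₗ[ZMod 2] Oct) := Finite.of_injective _ DFunLike.coe_injective

theorem oct_shift_invariant : ∀ v : Oct, (∀ d, v (d * DihedralGroup.r 1) = v d) →
    (∀ d, v (d * DihedralGroup.sr 0) = v d) → ∀ d, v d = v 1 := by
  decide +kernel

/-- an odd order linear map commuting with all shifts is trivial -/
theorem eq_one_of_commute_shifts (S : DihedralGroup 4 → (Oct ≃ₗ[ZMod 2] Oct))
    (hS : ∀ g f d, S g f d = f (d * g)) (a : Oct ≃ₗ[ZMod 2] Oct) (hc : ∀ g, a * S g = S g * a)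
    {m : ℕ} (hm : Odd m) (ha : a ^ m = 1) : a = 1 := by
  have hcomm : ∀ g v, a (S g v) = S g (a v) := fun g v => by
    have := LinearEquiv.congr_fun (hc g) v
    exact this
  let one' : Oct := fun _ => 1
  have hconst : ∀ v : Oct, v ≠ 0 → (∀ g, S g v = v) → v = one' := fun v hv hg => by
    have hall : ∀ d, v d = v 1 := oct_shift_invariant _
      (fun d => by rw [← hS _ v, hg]) (fun d => by rw [← hS _ v, hg])
    rcases two_one (v 1) with h | h
    · exact absurd (funext fun d => (hall d).trans h) hv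
    · exact funext fun d => (hall d).trans h
  have hone' : one' ≠ 0 := fun h => one_ne_zero (congrFun h 1)
  have hSone : ∀ g, S g one' = one' := fun g => funext fun d => by rw [hS]
  have ha1 : a one' = one' := hconst _ (fun h => hone' (a.injective (h.trans (map_zero a).symm)))
    fun g => by rw [← hcomm, hSone]
  have hapow : ∀ (i : ℕ) g v, (a ^ i) (S g v) = S g ((a ^ i) v) := by
    intro i g v
    induction i with
    | zero => rfl
    | succ n ih => rw [pow_succ', LinearEquiv.mul_apply, ih, hcomm]; rfl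
  have hapow1 : ∀ i : ℕ, (a ^ i) one' = one' := by
    intro i
    induction i with
    | zero => rfl
    | succ n ih => rw [pow_succ', LinearEquiv.mul_apply, ih, ha1]
  let P : Oct →ₗ[ZMod 2] Oct := ∑ i ∈ Finset.range m, ((a ^ i : Oct ≃ₗ[ZMod 2] Oct) : Oct →ₗ[ZMod 2] Oct)
  have hP : ∀ v, P v = ∑ i ∈ Finset.range m, (a ^ i) v := fun v => by simp [P]
  have hPS : ∀ g v, P (S g v) = S g (P v) := fun g v => by
    rw [hP, hP, map_sum]
    exact Finset.sum_congr rfl fun i _ => hapow i g v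
  have hPone : P one' = one' := by
    rw [hP, Finset.sum_congr rfl fun i _ => hapow1 i, Finset.sum_const, Finset.card_range]
    funext d
    obtain ⟨k, rfl⟩ := hm
    simp [one', show (2 : ZMod 2) = 0 from rfl]
  have hinj : ∀ v, P v = 0 → v = 0 := by
    intro v hv
    by_contra hne
    have hS1 : ∀ g h u, S g (S h u) = S (g * h) u := fun g h u => funext fun d => by
      rw [hS, hS, hS, mul_assoc]
    have hS0 : ∀ u, S 1 u = u := fun u => funext fun d => by rw [hS, mul_one]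
    have step : ∀ g u, P u = 0 → u ≠ 0 → S g (S g u) = u →
        ∃ w, P w = 0 ∧ w ≠ 0 ∧ S g w = w ∧ (w = u ∨ w = u + S g u) := by
      intro g u hu hune hgg
      by_cases h : u + S g u = 0
      · refine ⟨u, hu, hune, ?_, Or.inl rfl⟩
        funext d
        have := congrFun h d
        rw [Pi.add_apply, Pi.zero_apply, CharTwo.add_eq_zero] at this
        exact this.symm
      · refine ⟨u + S g u, ?_, h, ?_, Or.inr rfl⟩
        · rw [map_add, hu, hPS, hu, map_zero, add_zero]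
        · rw [map_add, hgg, add_comm]
    obtain ⟨w1, hw1, hw1n, hw1f, -⟩ := step (.r 2) v hv hne (by rw [hS1]; exact hS0 v)
    obtain ⟨w2, hw2, hw2n, hw2f, hw2o⟩ := step (.r 1) w1 hw1 hw1n (by rw [hS1]; exact hw1f)
    obtain ⟨w3, hw3, hw3n, hw3f, hw3o⟩ := step (.sr 0) w2 hw2 hw2n (by rw [hS1]; exact hS0 w2)
    have hw3r : S (.r 1) w3 = w3 := by
      rcases hw3o with rfl | rfl
      · exact hw2f
      · rw [map_add, hw2f, hS1]
        congr 1
        have hr3 : S (.r 3) w2 = w2 := by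
          conv_rhs => rw [← hS0 w2]
          rw [show (DihedralGroup.r 3 : DihedralGroup 4) = .r 1 * (.r 1 * .r 1) from rfl, ← hS1, ← hS1, hw2f, hw2f,
            hw2f, hS0]
        rw [show (DihedralGroup.r 1 * DihedralGroup.sr 0 : DihedralGroup 4) = .sr 0 * .r 3 from rfl, ← hS1, hr3]
    have h3 : w3 = one' := by
      have hall : ∀ d, w3 d = w3 1 := oct_shift_invariant _
        (fun d => by rw [← hS _ w3, hw3r]) (fun d => by rw [← hS _ w3, hw3f])
      rcases two_one (w3 1) with h | h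
      · exact absurd (funext fun d => (hall d).trans h) hw3n
      · exact funext fun d => (hall d).trans h
    rw [h3, hPone] at hw3
    exact hone' hw3
  refine LinearEquiv.ext fun v => ?_
  have hz : P (a v + v) = 0 := by
    rw [map_add, hP, hP, ← Finset.sum_add_distrib]
    have h1 : ∀ i, (a ^ i) (a v) + (a ^ i) v = (a ^ (i + 1)) v - (a ^ i) v := fun i => by
      rw [pow_succ, LinearEquiv.mul_apply, sub_eq_add_neg, show -((a ^ i) v) = (a ^ i) v from
        funext fun d => CharTwo.neg_eq _]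
    rw [Finset.sum_congr rfl fun i _ => h1 i, Finset.sum_range_sub (fun i => (a ^ i) v), ha, pow_zero, sub_self]
  funext d
  have := congrFun (hinj _ hz) d
  rw [Pi.add_apply, Pi.zero_apply, CharTwo.add_eq_zero] at this
  exact this

theorem rigid_contra {N : Type*} [Group N] [Finite N] (κ : N →* GLThree) (hκ : Function.Surjective κ)
    (ρ : N →* (Oct ≃ₗ[ZMod 2] Oct)) (T : Sylow 2 N) (π : ↥(T : Subgroup N) →* DihedralGroup 4)
    (hπ : Function.Surjective π) (hκT : ∀ t : ↥(T : Subgroup N), κ t = triHom (π t))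
    (hρ : ∀ (t : ↥(T : Subgroup N)) f d, ρ t f d = f (d * π t))
    (hodd : Odd (Nat.card (κ.ker.map ρ))) {q : ℕ} (hq : q.Prime) (hq2 : q ≠ 2)
    (A : Subgroup (Oct ≃ₗ[ZMod 2] Oct)) (hAq : ∀ a ∈ A, a ^ q = 1) (hAc : ∀ a ∈ A, ∀ b ∈ A, a * b = b * a)
    (hnor : ∀ g : GLThree, ∃ h : N, ρ h ∈ Subgroup.normalizer (A : Set (Oct ≃ₗ[ZMod 2] Oct)) ∧ κ h = g)
    (hTn : ∀ t : ↥(T : Subgroup N), ρ t ∈ Subgroup.normalizer (A : Set (Oct ≃ₗ[ZMod 2] Oct))) : A = ⊥ := by
  let H0 : Subgroup N := (Subgroup.normalizer (A : Set (Oct ≃ₗ[ZMod 2] Oct))).comap ρ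
  let α : H0 →* MulAut A := A.normalizerMonoidHom.comp
    ((ρ.comp H0.subtype).codRestrict (Subgroup.normalizer (A : Set (Oct ≃ₗ[ZMod 2] Oct))) fun h => h.2)
  have hα : ∀ (h : H0) (a : A), ((α h a : A) : Oct ≃ₗ[ZMod 2] Oct) = ρ h * a * (ρ h)⁻¹ := fun h a => rfl
  have hα1 : ∀ h : H0, ρ h = 1 → α h = 1 := fun h hh => MulEquiv.ext fun a => Subtype.ext <| by
    rw [hα, hh]; simp
  let κ0 : H0 →* GLThree := κ.comp H0.subtype
  have hκ0 : Function.Surjective κ0 := fun g => by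
    obtain ⟨h, h1, h2⟩ := hnor g
    exact ⟨⟨h, h1⟩, h2⟩
  haveI hMn : (α.ker.map κ0).Normal := Subgroup.Normal.map inferInstance _ hκ0
  haveI : Fact q.Prime := ⟨hq⟩
  have hA : IsPGroup q A := fun a => ⟨1, Subtype.ext (by rw [pow_one]; exact hAq _ a.2)⟩
  obtain ⟨r, hr⟩ := hA.exists_card_eq
  have hdvd : q ^ r ∣ Nat.card (Oct ≃ₗ[ZMod 2] Oct) := hr ▸ Subgroup.card_subgroup_dvd_card A
  rw [card_aut_oct] at hdvd
  let toH : ↥(T : Subgroup N) →* H0 := (T : Subgroup N).subtype.codRestrict H0 hTn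
  have hρ1 : ∀ t, π t = 1 → ρ (toH t) = 1 := fun t ht => LinearEquiv.ext fun f => funext fun d => by
    show ρ (t : N) f d = f d
    rw [hρ, ht, mul_one]
  have htop : α.ker.map κ0 = ⊤ := by
    rcases rank_bound hq hq2 hdvd with h2 | ⟨h3, h5⟩
    · obtain ⟨t1, ht1⟩ := hπ (.r 1)
      obtain ⟨t2, ht2⟩ := hπ (.sr 0)
      have hψ : α (toH t1) ^ 4 = 1 := by
        rw [← map_pow, ← map_pow]
        refine hα1 _ (hρ1 _ ?_)
        rw [map_pow, ht1]; rfl
      have hσ : α (toH t2) * α (toH t1) * (α (toH t2))⁻¹ = (α (toH t1))⁻¹ := by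
        rw [eq_inv_iff_mul_eq_one, ← map_inv, ← map_mul, ← map_mul, ← map_mul, ← map_inv, ← map_mul, ← map_mul,
          ← map_mul]
        refine hα1 _ (hρ1 _ ?_)
        rw [map_mul, map_mul, map_mul, map_inv, ht1, ht2]; rfl
      refine eq_top_of_corner_central fun g => ?_
      obtain ⟨y, rfl⟩ := hκ0 g
      have hc : κ0 (toH (t1 ^ 2)) = triUnit (0, 1, 0) := by
        show κ (t1 ^ 2 : ↥(T : Subgroup N)) = _
        rw [hκT, map_pow, ht1]
        exact Units.ext (by decide +kernel)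
      refine ⟨toH (t1 ^ 2) * y * (toH (t1 ^ 2))⁻¹ * y⁻¹, ?_, ?_⟩
      · have := square_central hq hq2 hr h2 (fun a b => Subtype.ext (hAc _ a.2 _ b.2)) _ _ hψ hσ (α y)
        show α _ = 1
        rw [map_mul, map_mul, map_mul, map_inv, map_inv, map_pow, map_pow, this]
        group
      · rw [map_mul, map_mul, map_mul, map_inv, map_inv, hc]
    · subst h3
      refine eq_top_of_seven fun g hg => ?_
      obtain ⟨y, rfl⟩ := hκ0 g
      have h7 : ¬ 7 ∣ orderOf (α y) := fun hd => by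
        have hpos := orderOf_pos (α y)
        obtain ⟨k, hk⟩ := hd
        have h1 : (α y ^ k) ^ 7 = 1 := by rw [← pow_mul, mul_comm, ← hk, pow_orderOf_eq_one]
        have h2 := Nat.le_of_dvd (by omega) (orderOf_dvd_of_pow_eq_one (seven_aut_eq_one hr h5 _ h1))
        omega
      have hmem : κ0 y ^ orderOf (α y) ∈ α.ker.map κ0 :=
        ⟨y ^ orderOf (α y), by show α _ = 1; rw [map_pow, pow_orderOf_eq_one], map_pow κ0 y _⟩
      have hcop : Nat.Coprime (orderOf (α y)) 7 :=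
        ((Nat.Prime.coprime_iff_not_dvd (by norm_num)).2 h7).symm
      obtain ⟨k, hk⟩ := exists_pow_eq_self_of_coprime
        (hcop.coprime_dvd_right (orderOf_dvd_of_pow_eq_one hg))
      exact hk ▸ pow_mem hmem k
  have hT1 : ∀ t, α (toH t) = 1 := by
    intro t
    obtain ⟨l, hl, hl'⟩ : κ0 (toH t) ∈ α.ker.map κ0 := htop.symm ▸ Subgroup.mem_top _
    set k := l⁻¹ * toH t with hkdef
    have hαk : α k = α (toH t) := by
      rw [hkdef, map_mul, map_inv, show α l = 1 from hl, inv_one, one_mul]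
    have hkK : κ (k : N) = 1 := by
      show κ0 k = 1
      rw [hkdef, map_mul, map_inv, hl', inv_mul_cancel]
    have h1 : ρ (k : N) ^ Nat.card (κ.ker.map ρ) = 1 := by
      have := congrArg Subtype.val
        (pow_card_eq_one' (x := (⟨ρ k, Subgroup.mem_map_of_mem ρ hkK⟩ : κ.ker.map ρ)))
      simpa using this
    have h1' : α (toH t) ^ Nat.card (κ.ker.map ρ) = 1 := by
      rw [← hαk, ← map_pow]
      exact hα1 _ (by rw [SubmonoidClass.coe_pow, map_pow, h1])
    obtain ⟨j, hj⟩ := T.2 t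
    have h2' : α (toH t) ^ (2 ^ j) = 1 := by rw [← map_pow, ← map_pow, hj, map_one, map_one]
    exact (pow_eq_one_iff_of_coprime ((Nat.coprime_two_left.2 hodd).pow_left j)).1 ⟨h2', h1'⟩
  refine (Subgroup.eq_bot_iff_forall _).2 fun a ha => ?_
  let S : DihedralGroup 4 → (Oct ≃ₗ[ZMod 2] Oct) := fun g => ρ ((Classical.choose (hπ g) : ↥(T : Subgroup N)) : N)
  refine eq_one_of_commute_shifts S (fun g f d => ?_) a (fun g => ?_) (hq.odd_of_ne_two hq2) (hAq a ha)
  · show ρ _ f d = _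
    rw [hρ, Classical.choose_spec (hπ g)]
  · have h1 := congrArg (fun φ : MulAut A => ((φ ⟨a, ha⟩ : A) : Oct ≃ₗ[ZMod 2] Oct)) (hT1 (Classical.choose (hπ g)))
    rw [hα, MulAut.one_apply] at h1
    exact (mul_inv_eq_iff_eq_mul.1 h1).symm

/-- Rigidity: an odd kernel acts trivially on the regular module. -/
theorem octet_rigid {N : Type*} [Group N] [Finite N] (κ : N →* GLThree) (hκ : Function.Surjective κ)
    (ρ : N →* (Oct ≃ₗ[ZMod 2] Oct)) (T : Sylow 2 N) (π : ↥(T : Subgroup N) →* DihedralGroup 4)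
    (hπ : Function.Surjective π) (hκT : ∀ t : ↥(T : Subgroup N), κ t = triHom (π t))
    (hρ : ∀ (t : ↥(T : Subgroup N)) f d, ρ t f d = f (d * π t))
    (hodd : Odd (Nat.card (κ.ker.map ρ))) : ∀ n, κ n = 1 → ρ n = 1 := by
  set X := κ.ker.map ρ with hX
  suffices hbot : X = ⊥ by
    intro n hn
    have : ρ n ∈ X := Subgroup.mem_map_of_mem ρ hn
    rwa [hbot, Subgroup.mem_bot] at this
  by_contra hne
  have hc1 : Nat.card X ≠ 1 := fun h => hne (Subgroup.card_eq_one.1 h)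
  obtain ⟨q, hq, hqd⟩ := Nat.exists_prime_and_dvd hc1
  have hq2 : q ≠ 2 := by rintro rfl; exact hodd.not_two_dvd_nat hqd
  haveI : Fact q.Prime := ⟨hq⟩
  obtain ⟨Q⟩ : Nonempty (Sylow q κ.ker) := inferInstance
  let Qm : Subgroup N := (Q : Subgroup κ.ker).map κ.ker.subtype
  let S : Subgroup (Oct ≃ₗ[ZMod 2] Oct) := Qm.map ρ
  have hSne : S ≠ ⊥ := by
    intro hS
    let f : κ.ker →* X := ρ.subgroupMap κ.ker
    have hf : Function.Surjective f := ρ.subgroupMap_surjective κ.ker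
    have h1 : (Q.mapSurjective hf : Subgroup X) = ⊥ := by
      refine (Subgroup.eq_bot_iff_forall _).2 ?_
      rintro _ ⟨y, hy, rfl⟩
      refine Subtype.ext ?_
      have : ρ (y : N) ∈ S := Subgroup.mem_map_of_mem ρ (Subgroup.mem_map_of_mem κ.ker.subtype hy)
      rw [hS, Subgroup.mem_bot] at this
      exact this
    exact (Q.mapSurjective hf).ne_bot_of_dvd_card hqd h1
  have hSp : IsPGroup q S := (Q.2.map κ.ker.subtype).map ρ
  let A0 : Subgroup (Oct ≃ₗ[ZMod 2] Oct) :=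
    { carrier := {a | a ∈ S ∧ a ^ q = 1 ∧ ∀ s ∈ S, a * s = s * a}
      mul_mem' := fun {a b} ha hb => ⟨S.mul_mem ha.1 hb.1,
        by rw [(show Commute a b from ha.2.2 b hb.1).mul_pow, ha.2.1, hb.2.1, one_mul],
        fun s hs => (show Commute a s from ha.2.2 s hs).mul_left (hb.2.2 s hs)⟩
      one_mem' := ⟨S.one_mem, one_pow q, fun s _ => by rw [one_mul, mul_one]⟩
      inv_mem' := fun {a} ha => ⟨S.inv_mem ha.1, by rw [inv_pow, ha.2.1, inv_one],
        fun s hs => (show Commute a s from ha.2.2 s hs).inv_left⟩ }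
  have hA0ne : A0 ≠ ⊥ := by
    haveI : Nontrivial S := (Subgroup.nontrivial_iff_ne_bot S).2 hSne
    haveI : Nontrivial (Subgroup.center S) := hSp.center_nontrivial
    obtain ⟨n, hn, hnc⟩ := (IsPGroup.nontrivial_iff_card (hSp.to_subgroup (Subgroup.center S))).1 inferInstance
    obtain ⟨z, hz⟩ := exists_prime_orderOf_dvd_card' q (hnc ▸ dvd_pow_self q (by omega) : q ∣ Nat.card (Subgroup.center S))
    intro h
    have hmem : ((z : S) : Oct ≃ₗ[ZMod 2] Oct) ∈ A0 := ⟨(z : S).2, by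
      have h1 := pow_orderOf_eq_one z
      rw [hz] at h1
      exact congrArg (fun w : Subgroup.center S => ((w : S) : Oct ≃ₗ[ZMod 2] Oct)) h1,
      fun s hs => congrArg Subtype.val ((Subgroup.mem_center_iff.1 z.2) ⟨s, hs⟩).symm⟩
    rw [h, Subgroup.mem_bot] at hmem
    have hz1 : z = 1 := Subtype.ext (Subtype.ext hmem)
    rw [hz1, orderOf_one] at hz
    exact hq.ne_one hz.symm
  have hnor0 : ∀ n ∈ Subgroup.normalizer (Qm : Set N), ρ n ∈ Subgroup.normalizer (A0 : Set (Oct ≃ₗ[ZMod 2] Oct)) := by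
    have hconj : ∀ n ∈ Subgroup.normalizer (Qm : Set N), ∀ a ∈ A0, ρ n * a * (ρ n)⁻¹ ∈ A0 := by
      intro n hn a ha
      have hS : ∀ s ∈ S, ρ n * s * (ρ n)⁻¹ ∈ S := by
        rintro _ ⟨x, hx, rfl⟩
        rw [← map_inv, ← map_mul, ← map_mul]
        exact Subgroup.mem_map_of_mem ρ ((Subgroup.mem_normalizer_iff.1 hn x).1 hx)
      refine ⟨hS a ha.1, by rw [conj_pow, ha.2.1, mul_one, mul_inv_cancel], fun s hs => ?_⟩
      have hs' : (ρ n)⁻¹ * s * ρ n ∈ S := by
        obtain ⟨x, hx, rfl⟩ := hs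
        rw [← map_inv, ← map_mul, ← map_mul]
        refine Subgroup.mem_map_of_mem ρ ?_
        simpa using (Subgroup.mem_normalizer_iff.1 (inv_mem hn) x).1 hx
      calc ρ n * a * (ρ n)⁻¹ * s = ρ n * (a * ((ρ n)⁻¹ * s * ρ n)) * (ρ n)⁻¹ := by group
        _ = ρ n * (((ρ n)⁻¹ * s * ρ n) * a) * (ρ n)⁻¹ := by rw [ha.2.2 _ hs']
        _ = _ := by group
    intro n hn
    refine Subgroup.mem_normalizer_iff.2 fun a => ⟨hconj n hn a, fun h => ?_⟩
    have := hconj n⁻¹ (inv_mem hn) _ h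
    rw [map_inv, inv_inv] at this
    simpa [mul_assoc] using this
  let H0 : Subgroup N := (Subgroup.normalizer (A0 : Set (Oct ≃ₗ[ZMod 2] Oct))).comap ρ
  have hsup : H0 ⊔ κ.ker = ⊤ := top_le_iff.1 ((Sylow.normalizer_sup_eq_top Q).ge.trans
    (sup_le_sup_right (fun n hn => hnor0 n hn) _))
  have hidx : Odd H0.index := by
    have hd : H0.relIndex κ.ker ∣ Nat.card X := by
      rw [hX, ← Subgroup.relIndex_ker]
      exact Subgroup.relIndex_dvd_of_le_left _ (fun n hn => by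
        show ρ n ∈ Subgroup.normalizer (A0 : Set (Oct ≃ₗ[ZMod 2] Oct))
        rw [show ρ n = 1 from hn]; exact one_mem _)
    have h1 : κ.ker.relIndex H0 = κ.ker.index := by
      rw [← Subgroup.relIndex_sup_right, hsup, Subgroup.relIndex_top_right]
    have h2 : (H0 ⊓ κ.ker).index = H0.relIndex κ.ker * κ.ker.index := by
      rw [← Subgroup.inf_relIndex_right, Subgroup.relIndex_mul_index inf_le_right]
    have h3 : (H0 ⊓ κ.ker).index = κ.ker.relIndex H0 * H0.index := by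
      rw [← Subgroup.inf_relIndex_left, Subgroup.relIndex_mul_index inf_le_left]
    rw [h1, h2, mul_comm] at h3
    have h4 : H0.index = H0.relIndex κ.ker :=
      (Nat.eq_of_mul_eq_mul_left (Nat.pos_of_ne_zero Subgroup.index_ne_zero_of_finite) h3).symm
    exact h4 ▸ hodd.of_dvd_nat hd
  obtain ⟨x, hx⟩ := IsPGroup.nonempty_fixed_point_of_prime_not_dvd_card T.2 (N ⧸ H0)
    (by rw [← Subgroup.index_eq_card]; exact hidx.not_two_dvd_nat)
  induction x using QuotientGroup.induction_on with | H g =>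
  have hT : ∀ t : ↥(T : Subgroup N), g⁻¹ * t * g ∈ H0 := fun t => by
    have h := hx t
    rw [MulAction.compHom_smul_def] at h
    have h' : (QuotientGroup.mk ((t : N) * g) : N ⧸ H0) = QuotientGroup.mk g := h
    have := QuotientGroup.eq.1 h'.symm
    rwa [← mul_assoc] at this
  let A := A0.map (MulAut.conj (ρ g)).toMonoidHom
  have hnorA : ∀ n ∈ H0, ρ (g * n * g⁻¹) ∈ Subgroup.normalizer (A : Set (Oct ≃ₗ[ZMod 2] Oct)) := by
    intro n hn
    refine Subgroup.mem_normalizer_iff.2 fun a => ?_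
    simp only [A, Subgroup.mem_map_equiv, MulAut.conj_symm_apply, map_mul, map_inv]
    rw [Subgroup.mem_normalizer_iff.1 (show ρ n ∈ _ from hn) ((ρ g)⁻¹ * a * ρ g)]
    group
  refine hA0ne ((Subgroup.map_eq_bot_iff_of_injective A0 (MulAut.conj (ρ g)).injective).1
    (rigid_contra κ hκ ρ T π hπ hκT hρ hodd hq hq2 A ?_ ?_ ?_ ?_))
  · rintro _ ⟨a, ha, rfl⟩
    rw [← map_pow, ha.2.1, map_one]
  · rintro _ ⟨a, ha, rfl⟩ _ ⟨b, hb, rfl⟩
    rw [← map_mul, ← map_mul, ha.2.2 b hb.1]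
  · intro y
    obtain ⟨n, hn, k, hk, hnk⟩ := Subgroup.mem_sup_of_normal_right.1
      (hsup.symm ▸ Subgroup.mem_top (g⁻¹ * Function.surjInv hκ y * g))
    refine ⟨g * n * g⁻¹, hnorA n hn, ?_⟩
    have h1 := congrArg κ hnk
    rw [map_mul, show κ k = 1 from hk, mul_one, map_mul, map_mul, map_inv, Function.surjInv_eq hκ] at h1
    rw [map_mul, map_mul, map_inv, h1]
    group
  · intro t
    have := hnorA _ (hT t)
    simpa [mul_assoc] using this

/-- Burnside twice. -/
theorem central_layer_complement {C : Type*} [Group C] [Finite C] (S : Sylow 2 C) (D : Subgroup C) [D.Normal]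
    (hD : D ≤ Subgroup.center C) (hDS : D ≤ (S : Subgroup C))
    (hab : ∀ a ∈ (S : Subgroup C), ∀ b ∈ (S : Subgroup C), ⁅a, b⁆ ∈ D)
    (hN : ∀ n ∈ Subgroup.normalizer ((S : Subgroup C) : Set C), ∀ s ∈ (S : Subgroup C), ⁅n, s⁆ ∈ D) :
    ∃ O : Subgroup C, O.Normal ∧ Odd (Nat.card O) ∧ (S : Subgroup C) ⊔ O = ⊤ := by
  haveI : Fact (Nat.Prime 2) := ⟨Nat.prime_two⟩
  let f := QuotientGroup.mk' D
  let Sb : Sylow 2 (C ⧸ D) := S.mapSurjective (QuotientGroup.mk'_surjective D)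
  have hker : f.ker ≤ (S : Subgroup C) := by rw [QuotientGroup.ker_mk']; exact hDS
  have hcomap : (Sb : Subgroup (C ⧸ D)).comap f = S := Subgroup.comap_map_eq_self hker
  have hP : Subgroup.normalizer ((Sb : Subgroup (C ⧸ D)) : Set (C ⧸ D)) ≤
      Subgroup.centralizer ((Sb : Subgroup (C ⧸ D)) : Set (C ⧸ D)) := by
    intro y hy
    obtain ⟨n, rfl⟩ := QuotientGroup.mk'_surjective D y
    have hn : n ∈ Subgroup.normalizer ((S : Subgroup C) : Set C) := by
      refine Subgroup.mem_normalizer_iff.2 fun s => ?_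
      rw [← hcomap, Subgroup.mem_comap, Subgroup.mem_comap, map_mul, map_mul, map_inv]
      exact Subgroup.mem_normalizer_iff.1 hy (f s)
    refine Subgroup.mem_centralizer_iff.2 ?_
    rintro _ ⟨s, hs, rfl⟩
    have h1 : f ⁅n, s⁆ = 1 := (QuotientGroup.eq_one_iff _).2 (hN n hn s hs)
    rw [map_commutatorElement, commutatorElement_eq_one_iff_commute] at h1
    exact h1.eq.symm
  let K := (MonoidHom.transferSylow Sb hP).ker
  let M := K.comap f
  have hKS := MonoidHom.ker_transferSylow_isComplement' Sb hP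
  have hMD : D ≤ M := fun d hd => by
    show f d ∈ K
    rw [show f d = 1 from (QuotientGroup.eq_one_iff d).2 hd]; exact one_mem _
  have hMS : (S : Subgroup C) ⊔ M = ⊤ := by
    refine top_le_iff.1 fun c _ => ?_
    obtain ⟨k, hk, s, hs, hks⟩ : ∃ k ∈ K, ∃ s ∈ (Sb : Subgroup (C ⧸ D)), k * s = f c := by
      obtain ⟨⟨⟨k, hk⟩, ⟨s, hs⟩⟩, hks⟩ := hKS.2 (f c)
      exact ⟨k, hk, s, hs, hks⟩
    obtain ⟨s0, hs0, rfl⟩ := hs
    have hm : c * s0⁻¹ ∈ M := by
      show f (c * s0⁻¹) ∈ K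
      rw [map_mul, map_inv, ← hks, mul_inv_cancel_right]
      exact hk
    rw [show c = c * s0⁻¹ * s0 by group]
    exact mul_mem (Subgroup.mem_sup_right hm) (Subgroup.mem_sup_left hs0)
  have hDp : IsPGroup 2 (D.subgroupOf M) :=
    (S.2.to_le hDS).of_injective (Subgroup.subgroupOfEquivOfLe hMD).toMonoidHom
      (Subgroup.subgroupOfEquivOfLe hMD).injective
  have hidx : ¬ 2 ∣ (D.subgroupOf M).index := by
    have h1 : D.relIndex M = Nat.card K := by
      show D.relIndex (K.comap f) = _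
      have h2 : f.ker.relIndex M = Nat.card (M.map f) := Subgroup.relIndex_ker _ _
      rwa [QuotientGroup.ker_mk', Subgroup.map_comap_eq_self_of_surjective (QuotientGroup.mk'_surjective D)] at h2
    show ¬ 2 ∣ D.relIndex M
    rw [h1]
    exact MonoidHom.not_dvd_card_ker_transferSylow Sb hP
  let DS : Sylow 2 M := hDp.toSylow hidx
  have hP2 : Subgroup.normalizer ((DS : Subgroup M) : Set M) ≤ Subgroup.centralizer ((DS : Subgroup M) : Set M) :=
    fun y _ => Subgroup.mem_centralizer_iff.2 fun d hd => Subtype.ext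
      ((Subgroup.mem_center_iff.1 (hD hd)) y).symm
  let O0 := (MonoidHom.transferSylow DS hP2).ker
  have hO0S := MonoidHom.ker_transferSylow_isComplement' DS hP2
  have hO0odd : ¬ 2 ∣ Nat.card O0 := MonoidHom.not_dvd_card_ker_transferSylow DS hP2
  have hmem : ∀ x : M, orderOf x ∣ Nat.card O0 → x ∈ O0 := by
    intro x hx
    obtain ⟨k, hk⟩ := DS.2 (MonoidHom.transferSylow DS hP2 x)
    refine MonoidHom.mem_ker.2 ?_
    refine (pow_eq_one_iff_of_coprime ((Nat.prime_two.coprime_iff_not_dvd.2 hO0odd).pow_left k)).1 ⟨hk, ?_⟩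
    rw [← map_pow, orderOf_dvd_iff_pow_eq_one.1 hx, map_one]
  haveI hMn : M.Normal := (inferInstance : K.Normal).comap f
  refine ⟨O0.map M.subtype, ⟨fun o ho c => ?_⟩, ?_, ?_⟩
  · obtain ⟨x, hx, rfl⟩ := ho
    refine ⟨⟨c * x * c⁻¹, hMn.conj_mem _ x.2 c⟩, hmem _ ?_, rfl⟩
    rw [← Subgroup.orderOf_coe]
    show orderOf ((MulAut.conj c) (x : C)) ∣ _
    rw [MulEquiv.orderOf_eq, Subgroup.orderOf_coe]
    exact Subgroup.orderOf_dvd_natCard _ hx
  · rw [Nat.card_congr (O0.equivMapOfInjective M.subtype M.subtype_injective).toEquiv.symm, Nat.odd_iff]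
    omega
  · refine top_le_iff.1 (hMS.ge.trans (sup_le le_sup_left fun m hm => ?_))
    obtain ⟨⟨⟨o, ho⟩, ⟨d, hd⟩⟩, hod⟩ := hO0S.2 ⟨m, hm⟩
    have : (o : C) * (d : C) = m := congrArg Subtype.val hod
    rw [← this]
    exact mul_mem (Subgroup.mem_sup_right ⟨o, ho, rfl⟩) (Subgroup.mem_sup_left (hDS hd))

end Cfsg.Agent.Lie.RegularLayer
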