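import Cfsg.Agent.Lib.Lie.RegularNormalizerRep
import Cfsg.Agent.Lib.Lie.RegularOctetRigid
import Cfsg.Agent.Lib.Solv.Cores
import Cfsg.Prelude

/-!
The normalizers of the layer and of its small layer.
-/

set_option autoImplicit false
set_option linter.style.haveILetI false
set_option linter.unusedSectionVars false

namespace Cfsg.Agent.Lie.RegularLayer

open scoped commutatorElement

variable {G : Type*} [Group G] [Finite G] {T : Sylow 2 G}

local notation "P" => (T : Subgroup G)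
local notation "Z" => Zs T
local notation "NN" => Subgroup.normalizer (layer T : Set G)
local notation "MM" => Subgroup.normalizer (small T : Set G)

theorem layer_two : IsPGroup 2 ↥(layer T) := T.isPGroup'.to_le (Subgroup.map_subtype_le _)

theorem layer_le_norm : layer T ≤ NN := Subgroup.le_normalizer

theorem small_le_layer (H : Hyp ↥P) : small T ≤ layer T := Subgroup.map_mono H.Z3_le_W

variable (H : Hyp ↥(T : Subgroup G)) (M : Model ↥(T : Subgroup G))
  (κ : ↥(Subgroup.normalizer (small T : Set G)) →* GLThree)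
  (hker : ∀ m, κ m = 1 ↔ ∀ d ∈ small T, (m : G) * d * (m : G)⁻¹ = d)
  (hT : ∀ t : ↥(T : Subgroup G), κ ⟨t, T_le_smallNorm t.2⟩ = triHom (M.π t))
  (hw : Cfsg.IsWeaklyClosed (layer T) (T : Subgroup G))
  (h2 : ∀ K : Subgroup G, K.index ≠ 2)

include H hker hw in
theorem into_norm {g : G} (hg : ∀ w ∈ layer T, g⁻¹ * w * g ∈ NN) : g ∈ NN := by
  set U := (layer T).map (MulAut.conj g⁻¹).toMonoidHom with hU
  have hUN : U ≤ NN := by
    rintro _ ⟨w, hw', rfl⟩
    simpa using hg w hw'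
  obtain ⟨n, hn, hconj⟩ := sylow_into T T_le_layerNorm hUN (layer_two.map _)
  have hle : (layer T).map (MulAut.conj (n * g⁻¹)).toMonoidHom ≤ P := by
    rintro _ ⟨w, hw', rfl⟩
    have := hconj (g⁻¹ * w * g) ⟨w, hw', by simp⟩
    simpa [mul_assoc] using this
  have heq := hw.2 _ hle
  have hmem : n * g⁻¹ ∈ NN := by
    refine Subgroup.mem_normalizer_iff.2 fun w => ⟨fun hw' => ?_, fun hw' => ?_⟩
    · rw [← heq]; exact ⟨w, hw', by simp [mul_assoc]⟩
    · rw [← heq] at hw'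
      obtain ⟨v, hv, he⟩ := hw'
      simp only [MulEquiv.coe_toMonoidHom, MulAut.conj_apply, mul_left_inj, mul_right_inj] at he
      exact he ▸ hv
  have h := (NN).mul_mem ((NN).inv_mem hn) hmem
  rw [inv_mul_cancel_left] at h
  exact inv_inv g ▸ (NN).inv_mem h

include H M hker hT hw h2 in
theorem kappa_surj : Function.Surjective (κ.comp (Subgroup.inclusion (layerNorm_le H))) := by
  classical
  set f := κ.comp (Subgroup.inclusion (layerNorm_le H)) with hf
  have hfT : ∀ t : ↥P, f ⟨t, T_le_layerNorm t.2⟩ = triHom (M.π t) := fun t => hT t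
  have hU : ∀ d, triHom d ∈ f.range := fun d => by
    obtain ⟨t, rfl⟩ := M.π_surj d
    exact ⟨_, hfT t⟩
  rw [← MonoidHom.range_eq_top]
  by_contra hne
  obtain ⟨χ, hχ, d, hdd, hd, hχd⟩ := exists_char hU hne
  obtain ⟨x, hxπ, hxx⟩ := H.exists_lift M hdd hd
  have hχ1 : χ 1 = 0 := left_eq_add.1 (by rw [← hχ, one_mul])
  have hsymm : ∀ {a b : G}, a ∈ layer T → b ∈ layer T → a * b * a⁻¹ * b⁻¹ ∈ small T := by
    intro a b ha hb
    obtain ⟨a, ha', rfl⟩ := exists_of_layer ha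
    obtain ⟨b, hb', rfl⟩ := exists_of_layer hb
    exact coe_mem_small.2 (H.phi_comm ha' hb')
  refine char_absurd (W := layer T) (D := small T) (N := NN)
    (fun n hn w hw' => (Subgroup.mem_normalizer_iff.1 hn w).1 hw') layer_two layer_le_norm (small_le_layer H)
    (fun n => χ ⟨f n, ⟨n, rfl⟩⟩) (fun a b => by rw [← hχ]; congr 1; exact Subtype.ext (map_mul f a b))
    (x := (x : G)) (T_le_layerNorm x.2) ?_ (coe_mem_small.2 hxx) ?_ (fun a ha b hb => hsymm ha hb) ?_ ?_ ?_ ?_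
    (fun g hg => into_norm H κ hker hw hg) ?_ h2
  · rw [← hχd]
    congr 1
    exact Subtype.ext ((hfT x).trans (congrArg triHom hxπ))
  · intro a ha
    obtain ⟨a, ha', rfl⟩ := exists_of_layer ha
    exact coe_mem_small.2 (H.phi_sq ha')
  · intro d hd
    obtain ⟨d, hd', rfl⟩ := exists_of_small hd
    exact congrArg Subtype.val (H.elementary hd')
  · intro d hd w hw'
    obtain ⟨d, hd', rfl⟩ := exists_of_small hd
    obtain ⟨w, hw'', rfl⟩ := exists_of_layer hw'
    exact congrArg Subtype.val (H.comm_W_Z3 hw'' hd').eq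
  · intro n hn d hd
    exact (Subgroup.mem_normalizer_iff.1 (layerNorm_le H hn) d).1 hd
  · intro L hL hcard g hg0
    obtain ⟨g, hg, rfl⟩ := exists_of_small hg0
    have hc1 : Nat.card (L.subgroupOf P) = Nat.card L :=
      Nat.card_congr (Subgroup.subgroupOfEquivOfLe (hL.trans (Subgroup.map_subtype_le _))).toEquiv
    refine (H.sub (L.subgroupOf P) (fun a ha => coe_mem_layer.1 (hL ha)) ?_ (H.phi_eq.ge hg) :)
    rw [hc1]
    rwa [Subgroup.card_map_of_injective (T : Subgroup G).subtype_injective] at hcard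
  · intro g U hU hcard hgU u hu h
    have hUc : ∀ u ∈ U, g⁻¹ * u * g ∈ NN := hgU
    set U' := U.map (MulAut.conj g⁻¹).toMonoidHom with hU'
    have hU'N : U' ≤ NN := by
      rintro _ ⟨v, hv, rfl⟩
      simpa using hUc v hv
    obtain ⟨n, hn, hconj⟩ := sylow_into T T_le_layerNorm hU'N ((layer_two.to_le hU).map _)
    let U₀ : Subgroup ↥P := U.subgroupOf P
    have hU₀W : U₀ ≤ W ↥P := fun a ha => coe_mem_layer.1 (hU ha)
    let E : ↥U₀ →* ↥P := MonoidHom.mk' (fun v => ⟨n * (g⁻¹ * ((v : ↥P) : G) * g) * n⁻¹,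
      hconj _ ⟨_, v.2, by simp⟩⟩) fun v v' => Subtype.ext (by simp [mul_assoc])
    have hE : Function.Injective E := fun v v' h => by
      have h' := congrArg Subtype.val h
      change n * (g⁻¹ * ((v : ↥P) : G) * g) * n⁻¹ = n * (g⁻¹ * ((v' : ↥P) : G) * g) * n⁻¹ at h'
      simpa using h'
    have hcard₀ : Nat.card (W ↥P) ≤ 2 * Nat.card U₀ := by
      rw [Nat.card_congr (Subgroup.subgroupOfEquivOfLe (hU.trans (Subgroup.map_subtype_le _))).toEquiv]
      rwa [Subgroup.card_map_of_injective (T : Subgroup G).subtype_injective] at hcard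
    have hmem := H.half_image M hU₀W hcard₀ E hE ⟨⟨u, Subgroup.map_subtype_le _ (hU hu)⟩, hu⟩
    have hf1 := hfT (E ⟨⟨u, Subgroup.map_subtype_le _ (hU hu)⟩, hu⟩)
    rw [(M.π_ker _).2 hmem, map_one] at hf1
    have hmap : f ⟨n * (g⁻¹ * u * g) * n⁻¹, (NN).mul_mem ((NN).mul_mem hn h) ((NN).inv_mem hn)⟩ = 1 := hf1
    rw [show (⟨n * (g⁻¹ * u * g) * n⁻¹, (NN).mul_mem ((NN).mul_mem hn h) ((NN).inv_mem hn)⟩ : ↥NN) =
      ⟨n, hn⟩ * ⟨_, h⟩ * ⟨n, hn⟩⁻¹ from rfl, map_mul, map_mul, map_inv, mul_inv_eq_one, mul_eq_left] at hmap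
    rw [← hχ1]
    congr 1
    exact Subtype.ext hmap

include H M hker hT hw in
theorem kernel_trivial (hsurj : Function.Surjective (κ.comp (Subgroup.inclusion (layerNorm_le H)))) :
    ∀ (n : G) (hn : n ∈ NN), κ ⟨n, layerNorm_le H hn⟩ = 1 → ∀ a ∈ layer T, n * a * n⁻¹ * a⁻¹ ∈ small T := by
  classical
  haveI : Fact (Nat.Prime 2) := ⟨Nat.prime_two⟩
  obtain ⟨ρ, hρT, hρ⟩ := exists_rho H M
  set f := κ.comp (Subgroup.inclusion (layerNorm_le H)) with hf
  have hodd : Odd (Nat.card (f.ker.map ρ)) := by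
    rw [← Nat.not_even_iff_odd, even_iff_two_dvd]
    intro h
    obtain ⟨⟨_, n, hn, rfl⟩, hz⟩ := exists_prime_orderOf_dvd_card' 2 h
    have h1 : orderOf (ρ n) = 2 := (Subgroup.orderOf_coe _).trans hz
    obtain ⟨m, hm, hord⟩ : ∃ m, ¬ 2 ∣ m ∧ orderOf n = 2 ^ (orderOf n).factorization 2 * m :=
      ⟨_, Nat.not_dvd_ordCompl Nat.prime_two (orderOf_pos n).ne', (Nat.ordProj_mul_ordCompl_eq_self _ 2).symm⟩
    set k := (orderOf n).factorization 2
    have hp : (n ^ m) ^ 2 ^ k = 1 := by rw [← pow_mul, mul_comm, ← hord, pow_orderOf_eq_one]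
    have hU2 : IsPGroup 2 ↥(Subgroup.zpowers ((n ^ m : ↥NN) : G)) := by
      obtain ⟨j, -, hj⟩ := (Nat.dvd_prime_pow Nat.prime_two).1 (orderOf_dvd_of_pow_eq_one hp)
      exact IsPGroup.of_card (n := j) (by rw [Nat.card_zpowers, Subgroup.orderOf_coe, hj])
    obtain ⟨c, hc, hconj⟩ := sylow_into T T_le_layerNorm (Subgroup.zpowers_le.2 (n ^ m).2) hU2
    set t : ↥P := ⟨_, hconj _ (Subgroup.mem_zpowers _)⟩
    have ht : (⟨t, T_le_layerNorm t.2⟩ : ↥NN) = ⟨c, hc⟩ * n ^ m * ⟨c, hc⟩⁻¹ := rfl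
    have hn1 : f n = 1 := hn
    have hπ : M.π t = 1 := by
      have h1 : f ⟨t, T_le_layerNorm t.2⟩ = triHom (M.π t) := hT t
      rw [ht, map_mul, map_mul, map_pow, hn1, one_pow, mul_one, map_inv, mul_inv_cancel, eq_comm,
        map_eq_one_iff _ triHom_injective] at h1
      exact h1
    have hρt : ρ ⟨t, T_le_layerNorm t.2⟩ = 1 := LinearEquiv.ext fun g => funext fun d => by
      rw [hρT, hπ, mul_one]; rfl
    rw [ht, map_mul, map_mul, map_inv, map_pow, mul_inv_eq_one, mul_eq_left] at hρt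
    exact hm (h1 ▸ orderOf_dvd_of_pow_eq_one hρt)
  let eP : ↥((P).subgroupOf NN) ≃* ↥P := Subgroup.subgroupOfEquivOfLe T_le_layerNorm
  have key := octet_rigid f hsurj ρ (T.subtype T_le_layerNorm) (M.π.comp eP.toMonoidHom)
    (M.π_surj.comp eP.surjective) (fun t => hT (eP t)) (fun t g d => hρT (eP t) g d) hodd
  intro n hn hκ a ha
  exact hρ ⟨n, hn⟩ (key ⟨n, hn⟩ hκ) a ha

include H M hker hT hw h2 in
theorem main :
    ((NN).subgroupOf MM ⊔ Cfsg.oddCore ↥MM = ⊤) ∧
      ∃ (_ : ((layer T).subgroupOf NN ⊔ Cfsg.oddCore ↥NN).Normal),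
        Nonempty (↥NN ⧸ ((layer T).subgroupOf NN ⊔ Cfsg.oddCore ↥NN) ≃* GL (Fin 3) (ZMod 2)) := by
  classical
  haveI : Fact (Nat.Prime 2) := ⟨Nat.prime_two⟩
  haveI : ∀ X : Subgroup G, (Cfsg.oddCore ↥X).Normal := fun X => Solv.pPrimeCore_normal 2
  set f := κ.comp (Subgroup.inclusion (layerNorm_le H)) with hf
  have hsurj : Function.Surjective f := kappa_surj H M κ hker hT hw h2
  have hrho := kernel_trivial H M κ hker hT hw hsurj
  set C := Subgroup.centralizer (small T : Set G) with hC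
  have hCM : C ≤ MM := fun c hc => Subgroup.mem_normalizer_iff.2 fun d =>
    ⟨fun hd => by rwa [← Subgroup.mem_centralizer_iff.1 hc d hd, mul_inv_cancel_right], fun hd => by
      have := Subgroup.mem_centralizer_iff.1 (C.inv_mem hc) _ hd
      rwa [show d = c⁻¹ * (c * d * c⁻¹) * c by group, ← this, inv_mul_cancel_right]⟩
  have hCker : ∀ m : ↥MM, κ m = 1 ↔ (m : G) ∈ C := fun m => by
    rw [hker, Subgroup.mem_centralizer_iff]
    exact forall₂_congr fun d _ => ⟨fun h => (mul_inv_eq_iff_eq_mul.1 h).symm, fun h => by rw [← h, mul_inv_cancel_right]⟩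
  have hWC : layer T ≤ C := by
    intro w hw'
    obtain ⟨w, hw'', rfl⟩ := exists_of_layer hw'
    refine Subgroup.mem_centralizer_iff.2 fun d hd => ?_
    obtain ⟨d, hd', rfl⟩ := exists_of_small hd
    exact congrArg Subtype.val (H.comm_W_Z3 hw'' hd').eq
  have hTC : ∀ t ∈ P, t ∈ C → t ∈ layer T := fun t ht htC => by
    have ha : (⟨t, ht⟩ : ↥P) ∈ W ↥P := Subgroup.mem_centralizer_iff.2 fun z hz =>
      Subtype.ext (Subgroup.mem_centralizer_iff.1 htC z (coe_mem_small.2 hz))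
    exact coe_mem_layer.2 ha
  have hCn : ∀ m ∈ MM, ∀ c ∈ C, m * c * m⁻¹ ∈ C := by
    intro m hm c hc
    refine Subgroup.mem_centralizer_iff.2 fun d hd => ?_
    have h := Subgroup.mem_centralizer_iff.1 hc (m⁻¹ * d * m)
      (by simpa using (Subgroup.mem_normalizer_iff.1 ((MM).inv_mem hm) d).1 hd)
    calc d * (m * c * m⁻¹) = m * (m⁻¹ * d * m * c) * m⁻¹ := by group
      _ = m * (c * (m⁻¹ * d * m)) * m⁻¹ := by rw [h]
      _ = _ := by group
  obtain ⟨S, hS⟩ := (layer_two.comap_subtype (H := layer T) (K := C)).exists_le_sylow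
  have hSeq : (S : Subgroup ↥C) = (layer T).subgroupOf C := by
    refine (Subgroup.eq_of_le_of_card_ge hS ?_).symm
    obtain ⟨m, hm, hmem⟩ := sylow_into T T_le_smallNorm (U := (S : Subgroup ↥C).map C.subtype)
      ((Subgroup.map_subtype_le _).trans hCM) (S.isPGroup'.map _)
    rw [show Subgroup.comap C.subtype (layer T) = (layer T).subgroupOf C from rfl,
      Nat.card_congr (Subgroup.subgroupOfEquivOfLe hWC).toEquiv]
    refine Nat.card_le_card_of_injective
      (fun s : ↥(S : Subgroup ↥C) => (⟨m * ((s : ↥C) : G) * m⁻¹,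
        hTC _ (hmem _ ⟨_, s.2, rfl⟩) (hCn m hm _ (s : ↥C).2)⟩ : ↥(layer T))) fun a b h => ?_
    have h' := congrArg Subtype.val h
    exact Subtype.ext (Subtype.ext (by simpa using h'))
  haveI hDn : ((small T).subgroupOf C).Normal := ⟨fun d hd c =>
    (Subgroup.mem_normalizer_iff.1 (hCM c.2) (d : G)).1 hd⟩
  obtain ⟨O, hOn, hOodd, hsup⟩ := central_layer_complement S ((small T).subgroupOf C)
    (fun d hd => Subgroup.mem_center_iff.2 fun c => Subtype.ext (Subgroup.mem_centralizer_iff.1 c.2 d hd).symm)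
    (hSeq ▸ fun d hd => small_le_layer H hd)
    (fun a ha b hb => by
      rw [hSeq] at ha hb
      obtain ⟨a', ha', hae⟩ := exists_of_layer (ha : (a : G) ∈ layer T)
      obtain ⟨b', hb', hbe⟩ := exists_of_layer (hb : (b : G) ∈ layer T)
      show (a : G) * b * (a : G)⁻¹ * (b : G)⁻¹ ∈ small T
      rw [show (a : G) = (a' : G) from hae.symm, show (b : G) = (b' : G) from hbe.symm]
      exact coe_mem_small.2 (H.phi_comm ha' hb'))
    (fun n hn s hs => by
      have hnN : (n : G) ∈ NN := by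
        refine Subgroup.mem_normalizer_iff.2 fun g => ⟨fun hg => ?_, fun hg => ?_⟩
        · have h := (Subgroup.mem_normalizer_iff.1 hn ⟨g, hWC hg⟩).1 (hSeq.ge hg)
          rw [hSeq] at h
          exact h
        · have hgC : g ∈ C := by
            have h := C.mul_mem (C.mul_mem (C.inv_mem n.2) (hWC hg)) n.2
            rwa [show (n : G)⁻¹ * ((n : G) * g * (n : G)⁻¹) * n = g by group] at h
          have h := (Subgroup.mem_normalizer_iff.1 hn ⟨g, hgC⟩).2 (hSeq.ge hg)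
          rw [hSeq] at h
          exact h
      exact hrho _ hnN ((hCker _).2 n.2) _ (hSeq.le hs))
  have hdec : ∀ c ∈ C, ∃ w ∈ layer T, ∃ o : ↥C, o ∈ O ∧ c = w * o := by
    intro c hc
    have h : (⟨c, hc⟩ : ↥C) ∈ (S : Subgroup ↥C) ⊔ O := hsup ▸ Subgroup.mem_top _
    obtain ⟨s, hs, o, ho, he⟩ := Subgroup.mem_sup_of_normal_right.1 h
    exact ⟨(s : G), hSeq.le hs, o, ho, (congrArg Subtype.val he).symm⟩
  -- the odd elements of the centralizer
  have hOchar : ∀ c : ↥C, Odd (orderOf c) → c ∈ O := by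
    intro c hc
    rw [← QuotientGroup.eq_one_iff (N := O) c, ← orderOf_eq_one_iff]
    have hQ : IsPGroup 2 (↥C ⧸ O) := by
      refine (S.isPGroup'.of_surjective ((QuotientGroup.mk' O).comp (S : Subgroup ↥C).subtype) fun q => ?_)
      obtain ⟨x, rfl⟩ := QuotientGroup.mk_surjective q
      obtain ⟨s, hs, o, ho, rfl⟩ := Subgroup.mem_sup_of_normal_right.1
        (show x ∈ (S : Subgroup ↥C) ⊔ O from hsup ▸ Subgroup.mem_top x)
      exact ⟨⟨s, hs⟩, (QuotientGroup.mk_mul_of_mem s ho).symm⟩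
    obtain ⟨k, hk⟩ := hQ (c : ↥C ⧸ O)
    exact Nat.eq_one_of_dvd_coprimes ((Nat.coprime_two_right.2 hc).pow_right k)
      (orderOf_map_dvd (QuotientGroup.mk' O) c) (orderOf_dvd_of_pow_eq_one hk)
  have hOM : ∀ X : Subgroup G, X ≤ MM → ∀ o : ↥C, o ∈ O → (h : (o : G) ∈ X) →
      (⟨o, h⟩ : ↥X) ∈ Cfsg.oddCore ↥X := by
    intro X hX o ho h
    let OX : Subgroup ↥X := (O.map C.subtype).subgroupOf X
    haveI : OX.Normal := ⟨fun y hy x => by
      obtain ⟨o', ho', he⟩ := hy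
      refine ⟨⟨(x : G) * (o' : G) * (x : G)⁻¹, hCn _ (hX x.2) _ o'.2⟩, hOchar _ ?_, ?_⟩
      · rw [← Subgroup.orderOf_coe]
        show Odd (orderOf ((x : G) * (o' : G) * (x : G)⁻¹))
        rw [show (x : G) * (o' : G) * (x : G)⁻¹ = MulAut.conj (x : G) (o' : G) from rfl, MulEquiv.orderOf_eq,
          Subgroup.orderOf_coe]
        exact hOodd.of_dvd_nat (Subgroup.orderOf_dvd_natCard _ ho')
      · show (x : G) * (o' : G) * (x : G)⁻¹ = (x : G) * (y : G) * (x : G)⁻¹
        rw [show (o' : G) = (y : G) from he]⟩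
    refine Solv.normal_le_pPrimeCore (N := OX) ?_ ⟨o, ho, rfl⟩
    refine Nat.coprime_two_right.2 (hOodd.of_dvd_nat ?_)
    rw [← Subgroup.card_map_of_injective X.subtype_injective]
    refine (Subgroup.card_dvd_of_le (K := O.map C.subtype) ?_).trans (Subgroup.card_map_dvd _ _)
    rintro _ ⟨y, hy, rfl⟩
    exact hy
  have hkerf : f.ker = (layer T).subgroupOf NN ⊔ Cfsg.oddCore ↥NN := by
    refine le_antisymm (fun n hn => ?_) (sup_le (fun n hn => (hCker _).2 (hWC hn)) fun o ho => (hCker _).2 ?_)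
    · obtain ⟨w, hw', o, ho, he⟩ := hdec (n : G) ((hCker _).1 hn)
      have hoN : (o : G) ∈ NN := by
        rw [show (o : G) = w⁻¹ * n by rw [he, inv_mul_cancel_left]]
        exact (NN).mul_mem ((NN).inv_mem (layer_le_norm hw')) n.2
      rw [show n = ⟨w, layer_le_norm hw'⟩ * ⟨o, hoN⟩ from Subtype.ext he]
      exact Subgroup.mul_mem_sup (show (⟨w, layer_le_norm hw'⟩ : ↥NN) ∈ (layer T).subgroupOf NN from hw')
        (hOM NN (layerNorm_le H) o ho hoN)
    · refine Subgroup.mem_centralizer_iff.2 fun d hd => ?_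
      have hdW := small_le_layer H hd
      let d' : ↥NN := ⟨d, layer_le_norm hdW⟩
      have h1 : d' * o * d'⁻¹ * o⁻¹ ∈ Cfsg.oddCore ↥NN :=
        mul_mem (Subgroup.Normal.conj_mem inferInstance o ho d') (inv_mem ho)
      have h2' : ((d' * o * d'⁻¹ * o⁻¹ : ↥NN) : G) ∈ layer T := by
        show d * (o : G) * d⁻¹ * (o : G)⁻¹ ∈ layer T
        rw [show d * (o : G) * d⁻¹ * (o : G)⁻¹ = d * ((o : G) * d⁻¹ * (o : G)⁻¹) by group]
        exact (layer T).mul_mem hdW ((Subgroup.mem_normalizer_iff.1 o.2 _).1 ((layer T).inv_mem hdW))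
      have h3 : d' * o * d'⁻¹ * o⁻¹ = 1 := by
        obtain ⟨k, hk⟩ := layer_two (⟨_, h2'⟩ : ↥(layer T))
        have hk' : (d' * o * d'⁻¹ * o⁻¹) ^ 2 ^ k = 1 := Subtype.ext (by
          have h := congrArg Subtype.val hk
          rw [SubmonoidClass.coe_pow] at h ⊢
          exact h)
        refine orderOf_eq_one_iff.1 (Nat.eq_one_of_dvd_coprimes
          ((Solv.pPrimeCore_coprime (G := ↥NN) 2).pow_right k) (Subgroup.orderOf_dvd_natCard _ h1)
          (orderOf_dvd_of_pow_eq_one hk'))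
      exact (congrArg Subtype.val (mul_inv_eq_iff_eq_mul.1 (mul_inv_eq_one.1 h3)) :)
  refine ⟨eq_top_iff.2 fun m _ => ?_, hkerf ▸ inferInstance, ?_⟩
  · obtain ⟨n, hn⟩ := hsurj (κ m)
    set n' : ↥MM := Subgroup.inclusion (layerNorm_le H) n
    have hc : ((n'⁻¹ * m : ↥MM) : G) ∈ C := (hCker _).1 (by rw [map_mul, map_inv, ← hn]; exact inv_mul_cancel _)
    obtain ⟨w, hw', o, ho, he⟩ := hdec _ hc
    have hwN : (n : G) * w ∈ NN := (NN).mul_mem n.2 (layer_le_norm hw')
    rw [show m = ⟨(n : G) * w, layerNorm_le H hwN⟩ * ⟨o, hCM o.2⟩ from Subtype.ext (by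
      show (m : G) = (n : G) * w * o
      rw [mul_assoc, ← he, Subgroup.coe_mul, InvMemClass.coe_inv]
      show _ = (n : G) * ((n : G)⁻¹ * m)
      rw [mul_inv_cancel_left])]
    exact Subgroup.mul_mem_sup hwN (hOM MM le_rfl o ho (hCM o.2))
  · exact ⟨(QuotientGroup.quotientMulEquivOfEq hkerf.symm).trans (QuotientGroup.quotientKerEquivOfSurjective f hsurj)⟩

end Cfsg.Agent.Lie.RegularLayer
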