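import Cfsg.Agent.Lib.Lie.RegularNormalizer

/-!
The action of the normalizer of the small layer on it, and of the normalizer of the layer on the quotient.
-/

set_option autoImplicit false
set_option linter.style.haveILetI false
set_option linter.unusedSectionVars false

namespace Cfsg.Agent.Lie.RegularLayer

open scoped commutatorElement

/-- The conjugate of a 2-subgroup lies in a given Sylow subgroup, by an element of an overgroup. -/
theorem sylow_into {G : Type*} [Group G] [Finite G] (T : Sylow 2 G) {N U : Subgroup G} (hT : (T : Subgroup G) ≤ N)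
    (hU : U ≤ N) (hU2 : IsPGroup 2 U) : ∃ n ∈ N, ∀ u ∈ U, n * u * n⁻¹ ∈ (T : Subgroup G) := by
  haveI : Fact (Nat.Prime 2) := ⟨Nat.prime_two⟩
  obtain ⟨Q, hQ⟩ := (hU2.comap_subtype (H := U) (K := N)).exists_le_sylow
  obtain ⟨n, hn⟩ := MulAction.exists_smul_eq N Q (T.subtype hT)
  refine ⟨n, n.2, fun u hu => ?_⟩
  have hmem : (n * ⟨u, hU hu⟩ * n⁻¹ : N) ∈ ((n • Q : Sylow 2 N) : Subgroup N) := by
    rw [Sylow.coe_subgroup_smul]
    exact ⟨⟨u, hU hu⟩, hQ hu, rfl⟩
  rw [hn] at hmem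
  exact hmem

variable {G : Type*} [Group G] [Finite G] {T : Sylow 2 G}

local notation "P" => (T : Subgroup G)
/-- The upper central series of the Sylow subgroup. -/
abbrev Zs (T : Sylow 2 G) : ℕ → Subgroup ↥(T : Subgroup G) := Subgroup.upperCentralSeries ↥(T : Subgroup G)

local notation "Z" => Zs T

/-- The layer in the group. -/
abbrev layer (T : Sylow 2 G) : Subgroup G := (W ↥(T : Subgroup G)).map (T : Subgroup G).subtype

/-- The small layer in the group. -/
abbrev small (T : Sylow 2 G) : Subgroup G :=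
  (Subgroup.upperCentralSeries ↥(T : Subgroup G) 3).map (T : Subgroup G).subtype

theorem coe_mem_layer {a : ↥P} : (a : G) ∈ layer T ↔ a ∈ W ↥P :=
  Subgroup.mem_map_iff_mem (T : Subgroup G).subtype_injective

theorem coe_mem_small {a : ↥P} : (a : G) ∈ small T ↔ a ∈ Z 3 :=
  Subgroup.mem_map_iff_mem (T : Subgroup G).subtype_injective

theorem exists_of_layer {g : G} (hg : g ∈ layer T) : ∃ a : ↥P, a ∈ W ↥P ∧ (a : G) = g := hg

theorem exists_of_small {g : G} (hg : g ∈ small T) : ∃ a : ↥P, a ∈ Z 3 ∧ (a : G) = g := hg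

theorem T_le_layerNorm : P ≤ Subgroup.normalizer (layer T : Set G) := by
  intro t ht
  refine Subgroup.mem_normalizer_iff.2 fun g => ⟨?_, ?_⟩
  · rintro hg
    obtain ⟨a, ha, rfl⟩ := exists_of_layer hg
    exact coe_mem_layer.2 ((inferInstance : (W ↥P).Normal).conj_mem a ha ⟨t, ht⟩)
  · intro hg
    obtain ⟨a, ha, he⟩ := exists_of_layer hg
    have h := coe_mem_layer.2 ((inferInstance : (W ↥P).Normal).conj_mem a ha ⟨t, ht⟩⁻¹)
    simp only [Subgroup.coe_mul, inv_inv, InvMemClass.coe_inv] at h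
    rwa [he, show t⁻¹ * (t * g * t⁻¹) * t = g by group] at h

theorem T_le_smallNorm : P ≤ Subgroup.normalizer (small T : Set G) := by
  intro t ht
  refine Subgroup.mem_normalizer_iff.2 fun g => ⟨?_, ?_⟩
  · rintro hg
    obtain ⟨a, ha, rfl⟩ := exists_of_small hg
    exact coe_mem_small.2 ((inferInstance : (Z 3).Normal).conj_mem a ha ⟨t, ht⟩)
  · intro hg
    obtain ⟨a, ha, he⟩ := exists_of_small hg
    have h := coe_mem_small.2 ((inferInstance : (Z 3).Normal).conj_mem a ha ⟨t, ht⟩⁻¹)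
    simp only [Subgroup.coe_mul, inv_inv, InvMemClass.coe_inv] at h
    rwa [he, show t⁻¹ * (t * g * t⁻¹) * t = g by group] at h

theorem layerNorm_le (H : Hyp ↥P) :
    Subgroup.normalizer (layer T : Set G) ≤ Subgroup.normalizer (small T : Set G) := by
  have he : small T = ⁅layer T, layer T⁆ := by
    rw [← Subgroup.map_commutator, H.comm_eq]
  intro n hn
  rw [he]
  have hmap : (layer T).map (MulAut.conj n).toMonoidHom = layer T := by
    ext g
    rw [Subgroup.mem_map_equiv, MulAut.conj_symm_apply]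
    have h := Subgroup.mem_normalizer_iff.1 hn (n⁻¹ * g * n)
    rwa [show n * (n⁻¹ * g * n) * n⁻¹ = g by group] at h
  refine Subgroup.mem_normalizer_iff.2 fun g => ?_
  have h2 : (⁅layer T, layer T⁆).map (MulAut.conj n).toMonoidHom = ⁅layer T, layer T⁆ := by
    rw [Subgroup.map_commutator, hmap]
  conv_rhs => rw [← h2]
  rw [Subgroup.mem_map_equiv, MulAut.conj_symm_apply, show n⁻¹ * (n * g * n⁻¹) * n = g by group]

/-- The action on the small layer in coordinates. -/
theorem exists_kappa (H : Hyp ↥P) (M : Model ↥P) :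
    ∃ κ : ↥(Subgroup.normalizer (small T : Set G)) →* GLThree,
      (∀ m, κ m = 1 ↔ ∀ d ∈ small T, (m : G) * d * (m : G)⁻¹ = d) ∧
      ∀ t : ↥P, κ ⟨t, T_le_smallNorm t.2⟩ = triHom (M.π t) := by
  classical
  let e : (Fin 3 → ZMod 2) ≃ ↥(Z 3) := Equiv.ofBijective _ (H.coord_bijective M)
  have hadd : ∀ v w, e (v + w) = e v * e w := by
    intro v w
    apply Subtype.ext
    show M.z3 ^ (v 2 + w 2).val * (M.z2 ^ (v 1 + w 1).val * M.z1 ^ (v 0 + w 0).val) = _ * _
    have e1 : M.z1 * M.z1 = 1 := H.elementary (Z_mono (show 1 ≤ 3 by omega) M.hz1)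
    have e2 : M.z2 * M.z2 = 1 := H.elementary (Z_mono (show 2 ≤ 3 by omega) M.hz2)
    rw [pow_val_add (H.elementary M.hz3), pow_val_add e2, pow_val_add e1]
    have hc : ∀ {a b : ↥P}, a ∈ Z 3 → b ∈ Z 3 → Commute a b := fun ha hb => H.comm_W_Z3 (H.Z3_le_W hb) ha
    have m1 : ∀ k : ℕ, M.z1 ^ k ∈ Z 3 := fun k => (Z 3).pow_mem (Z_mono (show 1 ≤ 3 by omega) M.hz1) k
    have m2 : ∀ k : ℕ, M.z2 ^ k ∈ Z 3 := fun k => (Z 3).pow_mem (Z_mono (show 2 ≤ 3 by omega) M.hz2) k
    have m3 : ∀ k : ℕ, M.z3 ^ k ∈ Z 3 := fun k => (Z 3).pow_mem M.hz3 k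
    show _ = M.z3 ^ (v 2).val * (M.z2 ^ (v 1).val * M.z1 ^ (v 0).val) *
      (M.z3 ^ (w 2).val * (M.z2 ^ (w 1).val * M.z1 ^ (w 0).val))
    rw [(hc (m2 (v 1).val) (m2 (w 1).val)).eq]
    rw [(hc ((Z 3).mul_mem (m2 (v 1).val) (m1 (v 0).val)) (m3 (w 2).val)).mul_mul_mul_comm,
      (hc (m1 (v 0).val) (m2 (w 1).val)).mul_mul_mul_comm, (hc (m2 (w 1).val) (m2 (v 1).val)).eq]
  set MM := Subgroup.normalizer (small T : Set G)
  let cj : MM → ↥(Z 3) → ↥(Z 3) := fun m a =>
    ⟨⟨(m : G) * ((a : ↥P) : G) * (m : G)⁻¹,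
      (exists_of_small ((Subgroup.mem_normalizer_iff.1 m.2 _).1 (coe_mem_small.2 a.2))).choose_spec.2 ▸
        (exists_of_small ((Subgroup.mem_normalizer_iff.1 m.2 _).1 (coe_mem_small.2 a.2))).choose.2⟩,
      coe_mem_small.1 ((Subgroup.mem_normalizer_iff.1 m.2 _).1 (coe_mem_small.2 a.2))⟩
  have hcj : ∀ m a, (((cj m a : ↥(Z 3)) : ↥P) : G) = (m : G) * ((a : ↥P) : G) * (m : G)⁻¹ := fun m a => rfl
  have hext : ∀ {a b : ↥(Z 3)}, ((a : ↥P) : G) = ((b : ↥P) : G) → a = b := fun h => Subtype.ext (Subtype.ext h)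
  let lin : MM → ((Fin 3 → ZMod 2) →ₗ[ZMod 2] (Fin 3 → ZMod 2)) := fun m =>
    (AddMonoidHom.mk' (fun v => e.symm (cj m (e v))) fun v w => e.injective (by
      rw [e.apply_symm_apply, hadd, hadd, e.apply_symm_apply, e.apply_symm_apply]
      exact hext (by
        simp only [hcj, Subgroup.coe_mul]
        group))).toZModLinearMap 2
  have hlin : ∀ m v, e (lin m v) = cj m (e v) := fun m v => e.apply_symm_apply _
  let F : MM →* Matrix (Fin 3) (Fin 3) (ZMod 2) :=
    { toFun := fun m => LinearMap.toMatrix' (lin m)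
      map_one' := by
        rw [← LinearMap.toMatrix'_id]
        congr 1
        refine LinearMap.ext fun v => e.injective ?_
        rw [hlin]
        exact hext (by simp [hcj])
      map_mul' := fun m m' => by
        rw [← LinearMap.toMatrix'_comp]
        congr 1
        refine LinearMap.ext fun v => e.injective ?_
        rw [hlin, LinearMap.comp_apply, hlin, hlin]
        exact hext (by
          simp only [hcj, Subgroup.coe_mul]
          group) }
  refine ⟨F.toHomUnits, fun m => ?_, fun t => ?_⟩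
  · rw [Units.ext_iff, MonoidHom.coe_toHomUnits, Units.val_one]
    show LinearMap.toMatrix' (lin m) = 1 ↔ _
    rw [← LinearMap.toMatrix'_id, LinearMap.toMatrix'.injective.eq_iff]
    constructor
    · intro h d hd
      obtain ⟨a, ha, rfl⟩ := exists_of_small hd
      have h' := hlin m (e.symm ⟨a, ha⟩)
      rw [h, LinearMap.id_apply, e.apply_symm_apply] at h'
      exact (congrArg (fun x : ↥(Z 3) => ((x : ↥P) : G)) h').symm
    · intro h
      refine LinearMap.ext fun v => e.injective ?_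
      rw [hlin, LinearMap.id_apply]
      exact hext (h _ (coe_mem_small.2 (e v).2))
  · refine Units.ext ?_
    rw [MonoidHom.coe_toHomUnits]
    show LinearMap.toMatrix' (lin ⟨t, T_le_smallNorm t.2⟩) = triMat (tau (M.π t))
    ext i j
    rw [LinearMap.toMatrix'_apply]
    have hkey : lin ⟨t, T_le_smallNorm t.2⟩ (Pi.single j 1) = fun k => triMat (tau (M.π t)) k j := by
      refine e.injective ?_
      rw [hlin]
      refine hext ?_
      rw [hcj]
      show ((t * (M.z3 ^ ((Pi.single j (1 : ZMod 2) : Fin 3 → ZMod 2) 2).val *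
          (M.z2 ^ ((Pi.single j (1 : ZMod 2) : Fin 3 → ZMod 2) 1).val *
            M.z1 ^ ((Pi.single j (1 : ZMod 2) : Fin 3 → ZMod 2) 0).val)) * t⁻¹ : ↥P) : G) =
        ((M.z3 ^ (triMat (tau (M.π t)) 2 j).val * (M.z2 ^ (triMat (tau (M.π t)) 1 j).val *
          M.z1 ^ (triMat (tau (M.π t)) 0 j).val) : ↥P) : G)
      congr 1
      have h1 : t * M.z1 * t⁻¹ = M.z1 := by
        have h := M.hz1
        rw [Subgroup.upperCentralSeries_one] at h
        rw [Subgroup.mem_center_iff.1 h t, mul_inv_cancel_right]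
      fin_cases j
      · simpa [triMat, ZMod.val_one] using h1
      · simpa [triMat, ZMod.val_one] using M.conj2 t
      · simpa [triMat, ZMod.val_one] using M.conj3 t
    exact congrFun hkey i

/-- The action on the large layer modulo the small one. -/
theorem exists_rho (H : Hyp ↥P) (M : Model ↥P) :
    ∃ ρ : ↥(Subgroup.normalizer (layer T : Set G)) →*
        ((DihedralGroup 4 → ZMod 2) ≃ₗ[ZMod 2] (DihedralGroup 4 → ZMod 2)),
      (∀ (t : ↥P) f d, ρ ⟨t, T_le_layerNorm t.2⟩ f d = f (d * M.π t)) ∧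
      ∀ n, ρ n = 1 → ∀ a ∈ layer T, (n : G) * a * (n : G)⁻¹ * a⁻¹ ∈ small T := by
  classical
  set NN := Subgroup.normalizer (layer T : Set G) with hNN
  choose sec hsecW hsec using M.surj
  have hmemP : ∀ (n : NN) (a : ↥(W ↥P)), (n : G) * ((a : ↥P) : G) * (n : G)⁻¹ ∈ P := fun n a =>
    Subgroup.map_subtype_le _ ((Subgroup.mem_normalizer_iff.1 n.2 _).1 (coe_mem_layer.2 a.2))
  let cj : NN → ↥(W ↥P) → ↥(W ↥P) := fun n a =>
    ⟨⟨_, hmemP n a⟩, coe_mem_layer.1 ((Subgroup.mem_normalizer_iff.1 n.2 _).1 (coe_mem_layer.2 a.2))⟩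
  have hcjmul : ∀ n a b, cj n (a * b) = cj n a * cj n b := fun n a b => Subtype.ext (Subtype.ext (by
    show (n : G) * (((a : ↥P) : G) * ((b : ↥P) : G)) * (n : G)⁻¹ =
      (n : G) * ((a : ↥P) : G) * (n : G)⁻¹ * ((n : G) * ((b : ↥P) : G) * (n : G)⁻¹)
    group))
  have hwd : ∀ n (a b : ↥(W ↥P)), M.φ a = M.φ b → M.φ (cj n a) = M.φ (cj n b) := by
    intro n a b h
    have h1 : ((b⁻¹ * a : ↥(W ↥P)) : ↥P) ∈ Z 3 := (M.ker _ (b⁻¹ * a).2).1 (by
      have h2 := M.add _ b.2 _ (b⁻¹ * a).2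
      rw [← Subgroup.coe_mul, mul_inv_cancel_left, h] at h2
      exact left_eq_add.1 h2)
    have h3 : (cj n (b⁻¹ * a) : ↥P) ∈ Z 3 := coe_mem_small.1
      ((Subgroup.mem_normalizer_iff.1 (layerNorm_le H n.2) _).1 (coe_mem_small.2 h1))
    rw [show a = b * (b⁻¹ * a) by group, hcjmul, Subgroup.coe_mul, M.add _ (cj n b).2 _ (cj n (b⁻¹ * a)).2,
      (M.ker _ (cj n (b⁻¹ * a)).2).2 h3, add_zero]
  let s : (DihedralGroup 4 → ZMod 2) → ↥(W ↥P) := fun f => ⟨sec f, hsecW f⟩
  let lin : NN → ((DihedralGroup 4 → ZMod 2) →ₗ[ZMod 2] (DihedralGroup 4 → ZMod 2)) := fun n =>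
    (AddMonoidHom.mk' (fun f => M.φ (cj n (s f))) fun f g => by
      rw [hwd n (s (f + g)) (s f * s g) (by
        show M.φ (sec (f + g)) = M.φ (sec f * sec g)
        rw [hsec, M.add _ (hsecW f) _ (hsecW g), hsec, hsec]), hcjmul, Subgroup.coe_mul,
        M.add _ (cj n (s f)).2 _ (cj n (s g)).2]).toZModLinearMap 2
  have hlin : ∀ n f, lin n f = M.φ (cj n (s f)) := fun n f => rfl
  have hlinφ : ∀ n (a : ↥(W ↥P)), lin n (M.φ a) = M.φ (cj n a) := fun n a => hwd n _ _ (hsec _)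
  let F : NN →* Module.End (ZMod 2) (DihedralGroup 4 → ZMod 2) :=
    { toFun := lin
      map_one' := LinearMap.ext fun f => by
        rw [hlin, show cj 1 (s f) = s f from Subtype.ext (Subtype.ext (by simp [cj]))]
        exact hsec f
      map_mul' := fun n n' => LinearMap.ext fun f => by
        rw [Module.End.mul_apply, hlin n' f, hlinφ, hlin]
        congr 2
        refine Subtype.ext (Subtype.ext ?_)
        show ((n * n' : NN) : G) * _ * ((n * n' : NN) : G)⁻¹ =
          (n : G) * ((n' : G) * ((s f : ↥P) : G) * (n' : G)⁻¹) * (n : G)⁻¹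
        rw [Subgroup.coe_mul]
        group }
  refine ⟨(LinearMap.GeneralLinearGroup.generalLinearEquiv (ZMod 2) _).toMonoidHom.comp F.toHomUnits,
    fun t f d => ?_, fun n hn a ha => ?_⟩
  · show lin ⟨t, _⟩ f d = f (d * M.π t)
    rw [hlin, show ((cj ⟨t, T_le_layerNorm t.2⟩ (s f) : ↥(W ↥P)) : ↥P) = t * (s f : ↥P) * t⁻¹ from rfl,
      M.conj t _ (s f).2]
    show M.φ (sec f) _ = _
    rw [hsec]
  · obtain ⟨a, ha', rfl⟩ := exists_of_layer ha
    have h := congrArg (fun e : (DihedralGroup 4 → ZMod 2) ≃ₗ[ZMod 2] (DihedralGroup 4 → ZMod 2) => e (M.φ a)) hn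
    change lin n (M.φ a) = M.φ a at h
    rw [hlinφ n ⟨a, ha'⟩] at h
    have hm : (cj n ⟨a, ha'⟩ : ↥P) * a⁻¹ ∈ W ↥P := (W ↥P).mul_mem (cj n ⟨a, ha'⟩).2 ((W ↥P).inv_mem ha')
    have h2 : M.φ ((cj n ⟨a, ha'⟩ : ↥P) * a⁻¹) = 0 := by
      have h3 := M.add _ hm _ ha'
      rw [inv_mul_cancel_right, h] at h3
      exact right_eq_add.1 h3
    exact coe_mem_small.2 ((M.ker _ hm).1 h2)

end Cfsg.Agent.Lie.RegularLayer
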