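import Cfsg.Agent.Lib.Lie.SmallRep
import Cfsg.Agent.Lib.Lie.OrthOddGen
import Cfsg.Agent.Lib.Lie.SmallRepIso
import Cfsg.Agent.Lib.Lie.FactsB2

/-!
The five-dimensional representation of the presented group of type B2 and the isomorphism with the projective
derived group of the split form in five variables.
-/

set_option autoImplicit false
set_option maxRecDepth 100000

namespace Cfsg.Agent.Lie

open Cfsg.Lie Matrix
open scoped MatrixGroups commutatorElement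

/-- The root operators: two coordinates (the second zero for short roots) and a sign. -/
def b2Tab : List (ℕ × ℕ × ℤ) := [(3, 4, -1), (3, 0, -1), (4, 0, -1), (2, 3, 1), (1, 4, 1), (2, 0, 1), (1, 0, 1), (1, 2, 1)]

/-- The opposite coordinate. -/
def opp5 (i : ℕ) : ℕ := if i ≤ 2 then i + 2 else i - 2

/-- The representation. -/
def b2Rep : SRep where
  N := 5
  ent r :=
    if r < 8 then
      (fun p : ℕ × ℕ × ℤ =>
        if p.2.1 = 0 then [(⟨0, opp5 p.1, 1, 0, p.2.2⟩ : Tm), ⟨p.1, 0, 1, 0, -2 * p.2.2⟩, ⟨p.1, opp5 p.1, 2, 0, -p.2.2 ^ 2⟩]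
        else [(⟨p.1, opp5 p.2.1, 1, 0, p.2.2⟩ : Tm), ⟨p.2.1, opp5 p.1, 1, 0, -p.2.2⟩])
        (b2Tab.getD r (0, 0, 0))
    else []
  wt r i :=
    (fun p : ℕ × ℕ × ℤ =>
      if p.2.1 = 0 then (if i = p.1 then 2 else 0) - (if i = opp5 p.1 then 2 else 0)
      else (if i = p.1 ∨ i = p.2.1 then 1 else 0) - (if i = opp5 p.1 ∨ i = opp5 p.2.1 then 1 else 0))
      (b2Tab.getD r (0, 0, 0))

theorem b2Rep_ok : b2Rep.okRels chevB2 = true := by decide +kernel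

/-- The coordinates. -/
abbrev e5 : Unit ⊕ (Fin 2 ⊕ Fin 2) ≃ Fin b2Rep.N :=
  (Equiv.sumCongr (Equiv.ofUnique Unit (Fin 1)) finSumFinEquiv).trans finSumFinEquiv

/-- The sign. -/
abbrev b2Sign (r : Fin 8) : ℤ := (b2Tab.getD r.val (0, 0, 0)).2.2

theorem b2Tab_long : ∀ r : Fin 8, ∀ a b : Fin 2 ⊕ Fin 2,
    (e5 (Sum.inr a) : ℕ) = (b2Tab.getD r.val (0, 0, 0)).1 → (e5 (Sum.inr b) : ℕ) = (b2Tab.getD r.val (0, 0, 0)).2.1 →
    b2Rep.ent r.val = [⟨(e5 (Sum.inr a) : ℕ), (e5 (Sum.inr b.swap) : ℕ), 1, 0, b2Sign r⟩,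
      ⟨(e5 (Sum.inr b) : ℕ), (e5 (Sum.inr a.swap) : ℕ), 1, 0, -b2Sign r⟩] ∧ a ≠ b ∧ a ≠ b.swap := by
  intro r a b
  fin_cases r <;> rcases a with a | a <;> rcases b with b | b <;> fin_cases a <;> fin_cases b <;>
    intro h1 h2 <;> first | exact absurd h1 (by decide) | exact absurd h2 (by decide) | exact ⟨rfl, by decide, by decide⟩

theorem b2Tab_short : ∀ r : Fin 8, ∀ a : Fin 2 ⊕ Fin 2,
    (e5 (Sum.inr a) : ℕ) = (b2Tab.getD r.val (0, 0, 0)).1 → (b2Tab.getD r.val (0, 0, 0)).2.1 = 0 →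
    b2Rep.ent r.val = [⟨(e5 (Sum.inl ()) : ℕ), (e5 (Sum.inr a.swap) : ℕ), 1, 0, b2Sign r⟩,
      ⟨(e5 (Sum.inr a) : ℕ), (e5 (Sum.inl ()) : ℕ), 1, 0, -2 * b2Sign r⟩,
      ⟨(e5 (Sum.inr a) : ℕ), (e5 (Sum.inr a.swap) : ℕ), 2, 0, -b2Sign r ^ 2⟩] := by
  intro r a
  fin_cases r <;> rcases a with a | a <;> fin_cases a <;>
    intro h1 h2 <;> first | exact absurd h1 (by decide) | exact absurd h2 (by decide) | rfl

theorem b2Tab_exists : ∀ r : Fin 8, ∃ a : Fin 2 ⊕ Fin 2, (e5 (Sum.inr a) : ℕ) = (b2Tab.getD r.val (0, 0, 0)).1 ∧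
    ((b2Tab.getD r.val (0, 0, 0)).2.1 = 0 ∨
      ∃ b : Fin 2 ⊕ Fin 2, (e5 (Sum.inr b) : ℕ) = (b2Tab.getD r.val (0, 0, 0)).2.1) := by decide +kernel

theorem b2Tab_coverLong : ∀ a b : Fin 2 ⊕ Fin 2, a ≠ b → a ≠ b.swap → ∃ r : Fin 8,
    (b2Sign r = 1 ∨ b2Sign r = -1) ∧
    (((e5 (Sum.inr a) : ℕ) = (b2Tab.getD r.val (0, 0, 0)).1 ∧ (e5 (Sum.inr b) : ℕ) = (b2Tab.getD r.val (0, 0, 0)).2.1) ∨
      ((e5 (Sum.inr b) : ℕ) = (b2Tab.getD r.val (0, 0, 0)).1 ∧ (e5 (Sum.inr a) : ℕ) = (b2Tab.getD r.val (0, 0, 0)).2.1)) := by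
  decide +kernel

theorem b2Tab_coverShort : ∀ a : Fin 2 ⊕ Fin 2, ∃ r : Fin 8, (b2Sign r = 1 ∨ b2Sign r = -1) ∧
    (e5 (Sum.inr a) : ℕ) = (b2Tab.getD r.val (0, 0, 0)).1 ∧ (b2Tab.getD r.val (0, 0, 0)).2.1 = 0 := by
  decide +kernel

variable {F : Type*} [Field F]

theorem matUnit_e5 (i j : Unit ⊕ (Fin 2 ⊕ Fin 2)) :
    matUnit e5 (R := F) (e5 i : ℕ) (e5 j : ℕ) = Matrix.single i j 1 := by
  ext p q
  rw [matUnit_apply, Matrix.single_apply]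
  exact if_congr (by simp [Fin.val_inj, eq_comm]) rfl rfl

theorem b2Rep_long {r : Fin 8} {a b : Fin 2 ⊕ Fin 2} (ha : (e5 (Sum.inr a) : ℕ) = (b2Tab.getD r.val (0, 0, 0)).1)
    (hb : (e5 (Sum.inr b) : ℕ) = (b2Tab.getD r.val (0, 0, 0)).2.1) (t : F) (v : Unit ⊕ (Fin 2 ⊕ Fin 2) → F) :
    b2Rep.mat e5 F r.val t *ᵥ v = OddGen.sel a b ((b2Sign r : F) * t) v := by
  obtain ⟨he, -, -⟩ := b2Tab_long r a b ha hb
  rw [SRep.mat, Matrix.add_mulVec, Matrix.one_mulVec]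
  simp only [he, List.map_cons, List.map_nil, evL_cons, evL_nil, add_zero, Tm.ev, pow_one, pow_zero, mul_one,
    Int.cast_neg]
  rw [matUnit_e5, matUnit_e5, Matrix.add_mulVec, Matrix.smul_mulVec, Matrix.smul_mulVec]
  funext q
  simp only [Pi.add_apply, Pi.smul_apply, Matrix.single_mulVec, Function.update_apply, Pi.zero_apply,
    smul_eq_mul, one_mul, OddGen.sel_apply]
  split_ifs <;> ring

theorem b2Rep_short {r : Fin 8} {a : Fin 2 ⊕ Fin 2} (ha : (e5 (Sum.inr a) : ℕ) = (b2Tab.getD r.val (0, 0, 0)).1)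
    (hb : (b2Tab.getD r.val (0, 0, 0)).2.1 = 0) (t : F) (v : Unit ⊕ (Fin 2 ⊕ Fin 2) → F) :
    b2Rep.mat e5 F r.val t *ᵥ v = OddGen.sh a ((b2Sign r : F) * t) v := by
  rw [SRep.mat, Matrix.add_mulVec, Matrix.one_mulVec]
  simp only [b2Tab_short r a ha hb, List.map_cons, List.map_nil, evL_cons, evL_nil, add_zero, Tm.ev, pow_one,
    pow_zero, mul_one, Int.cast_neg, Int.cast_mul, Int.cast_pow, Int.cast_ofNat]
  rw [matUnit_e5, matUnit_e5, matUnit_e5]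
  simp only [Matrix.add_mulVec, Matrix.smul_mulVec]
  funext q
  simp only [Pi.add_apply, Pi.smul_apply, Matrix.single_mulVec, Function.update_apply, Pi.zero_apply,
    smul_eq_mul, one_mul, OddGen.sh_apply]
  split_ifs <;> ring

/-- The isomorphism. -/
theorem b2_iso_pOmega (hF2 : ∃ a : F, a ≠ 0 ∧ a ≠ 1) :
    Nonempty (↥(chevB2.group F) ≃* Cfsg.POmega F (Cfsg.quadFormOdd 2 F)) := by
  have hF := factsB2
  have hout : ∀ r, chevB2.nroots ≤ r → b2Rep.ent r = [] := fun r hr => if_neg (not_lt.2 hr)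
  obtain ⟨φ, hφ, -⟩ := SRep.exists_hom (e := e5) (F := F) b2Rep_ok (fun r hr => hF.neg_lt hr) hout
  have sgn : ∀ r : Fin 8, (b2Sign r = 1 ∨ b2Sign r = -1) → (b2Sign r : F) * (b2Sign r : F) = 1 := by
    intro r h; rcases h with h | h <;> rw [h] <;> simp
  have keyL : ∀ a b : Fin 2 ⊕ Fin 2, a ≠ b → a ≠ b.swap → ∀ c : F, ∃ g ∈ φ.range, ∀ v,
      g.1 *ᵥ v = OddGen.sel a b c v := by
    intro a b hab hab' c
    obtain ⟨r, hs, hr⟩ := b2Tab_coverLong a b hab hab'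
    rcases hr with ⟨ha, hb⟩ | ⟨hb, ha⟩
    · refine ⟨_, ⟨chevB2.stGen F r.val ((b2Sign r : F) * c), rfl⟩, fun v => ?_⟩
      rw [hφ, b2Rep_long ha hb, ← mul_assoc, sgn r hs, one_mul]
    · refine ⟨_, ⟨chevB2.stGen F r.val ((b2Sign r : F) * -c), rfl⟩, fun v => ?_⟩
      rw [hφ, b2Rep_long hb ha, ← mul_assoc, sgn r hs, one_mul]
      funext q
      simp only [OddGen.sel_apply]
      split_ifs <;> ring
  have keyS : ∀ (a : Fin 2 ⊕ Fin 2) (c : F), ∃ g ∈ φ.range, ∀ v, g.1 *ᵥ v = OddGen.sh a c v := by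
    intro a c
    obtain ⟨r, hs, ha, hb⟩ := b2Tab_coverShort a
    refine ⟨_, ⟨chevB2.stGen F r.val ((b2Sign r : F) * c), rfl⟩, fun v => ?_⟩
    rw [hφ, b2Rep_short ha hb, ← mul_assoc, sgn r hs, one_mul]
  have hS : OddGen.HasAll F 2 :=
    ⟨fun a b h h' c => let ⟨g, _, hg⟩ := keyL a b h h' c; ⟨g, hg⟩, fun a c => let ⟨g, _, hg⟩ := keyS a c; ⟨g, hg⟩⟩
  have hrange : φ.range = Subgroup.closure (OddGen.gens F 2) := by
    refine le_antisymm ?_ ((Subgroup.closure_le _).2 ?_)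
    · rw [MonoidHom.range_eq_map, ← stGen_closure hF, MonoidHom.map_closure, Subgroup.closure_le]
      rintro _ ⟨_, ⟨⟨r, t⟩, rfl⟩, rfl⟩
      obtain ⟨a, ha, hb | ⟨b, hb⟩⟩ := b2Tab_exists r
      · exact Subgroup.subset_closure (Or.inr ⟨a, _, fun v => by rw [hφ]; exact b2Rep_short ha hb t v⟩)
      · obtain ⟨-, h, h'⟩ := b2Tab_long r a b ha hb
        exact Subgroup.subset_closure (Or.inl ⟨a, b, _, h, h', fun v => by rw [hφ]; exact b2Rep_long ha hb t v⟩)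
    · rintro g (⟨a, b, c, h, h', hg⟩ | ⟨a, c, hg⟩)
      · obtain ⟨g', hg'm, hg'⟩ := keyL a b h h' c
        rw [OddGen.ext_single (g := g) (h := g') fun q => by rw [hg, hg']]
        exact hg'm
      · obtain ⟨g', hg'm, hg'⟩ := keyS a c
        rw [OddGen.ext_single (g := g) (h := g') fun q => by rw [hg, hg']]
        exact hg'm
  refine iso_of_rep hF (stHyp_of_mem (by simp)) (by decide) okConnB2 (perfect_small hF okPerfB2 hF2) _ φ
    (hrange.trans (OddGen.derived_eq hS (by omega) hF2).symm) ?_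
  -- two root elements which do not commute
  obtain ⟨g1, ⟨a, rfl⟩, hg1⟩ := keyL (Sum.inl 0) (Sum.inr 1) (by decide) (by decide) 1
  obtain ⟨g2, ⟨b, rfl⟩, hg2⟩ := keyS (Sum.inl 1) 1
  refine ⟨a, b, fun he => ?_⟩
  have h := congrArg (fun g : GL (Unit ⊕ (Fin 2 ⊕ Fin 2)) F =>
    (g.1 *ᵥ Pi.single (Sum.inr (Sum.inr 1)) 1) (Sum.inr (Sum.inl 0))) he
  simp only [Units.val_mul, ← Matrix.mulVec_mulVec, hg1, hg2] at h
  simp [OddGen.sel_apply, OddGen.sh_apply, Pi.single_apply] at h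

end Cfsg.Agent.Lie
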