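import Cfsg.Agent.Lib.Lie.SmallRep
import Cfsg.Agent.Lib.Lie.OrthPlusGen
import Cfsg.Agent.Lib.Lie.SmallRepIso
import Cfsg.Agent.Lib.Lie.FactsD4

/-!
The eight-dimensional representation of the presented group of type D4 and the isomorphism with the projective
derived group of the hyperbolic form.
-/

set_option autoImplicit false
set_option maxRecDepth 100000

namespace Cfsg.Agent.Lie

open Cfsg.Lie Matrix
open scoped MatrixGroups commutatorElement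

/-- The root operators: two coordinates and a sign. -/
def d4Tab : List (ℕ × ℕ × ℤ) := [(4, 5, -1), (4, 6, -1), (3, 4, 1), (4, 7, -1), (2, 4, -1), (1, 4, 1), (5, 6, 1), (3, 5, -1), (5, 7, 1), (2, 5, 1), (3, 6, 1), (6, 7, -1), (2, 3, 1), (2, 7, 1), (1, 6, 1), (1, 3, -1), (1, 7, -1), (1, 2, -1), (0, 5, 1), (0, 6, -1), (0, 3, 1), (0, 7, 1), (0, 2, 1), (0, 1, 1)]

/-- The representation. -/
def d4Rep : SRep where
  N := 8
  ent r :=
    if r < 24 then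
      (fun p : ℕ × ℕ × ℤ => [(⟨p.1, (p.2.1 + 4) % 8, 1, 0, p.2.2⟩ : Tm), ⟨p.2.1, (p.1 + 4) % 8, 1, 0, -p.2.2⟩])
        (d4Tab.getD r (0, 0, 0))
    else []
  wt r i :=
    (fun p : ℕ × ℕ × ℤ => (if i = p.1 ∨ i = p.2.1 then 1 else 0) -
      (if i = (p.1 + 4) % 8 ∨ i = (p.2.1 + 4) % 8 then 1 else 0)) (d4Tab.getD r (0, 0, 0))

theorem d4Rep_ok : d4Rep.okRels chevD4 = true := by decide +kernel

/-- The coordinates. -/
abbrev e8 : Fin 4 ⊕ Fin 4 ≃ Fin d4Rep.N := finSumFinEquiv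

theorem d4Tab_spec : ∀ r : Fin 24, ∀ a b : Fin 4 ⊕ Fin 4, (e8 a : ℕ) = (d4Tab.getD r.val (0, 0, 0)).1 →
    (e8 b : ℕ) = (d4Tab.getD r.val (0, 0, 0)).2.1 →
    (e8 b.swap : ℕ) = ((d4Tab.getD r.val (0, 0, 0)).2.1 + 4) % 8 ∧
    (e8 a.swap : ℕ) = ((d4Tab.getD r.val (0, 0, 0)).1 + 4) % 8 ∧ a ≠ b ∧ a ≠ b.swap := by decide +kernel

theorem d4Tab_exists : ∀ r : Fin 24, ∃ a b : Fin 4 ⊕ Fin 4, (e8 a : ℕ) = (d4Tab.getD r.val (0, 0, 0)).1 ∧
    (e8 b : ℕ) = (d4Tab.getD r.val (0, 0, 0)).2.1 := by decide +kernel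

theorem d4Tab_cover : ∀ a b : Fin 4 ⊕ Fin 4, a ≠ b → a ≠ b.swap → ∃ r : Fin 24,
    ((d4Tab.getD r.val (0, 0, 0)).2.2 = 1 ∨ (d4Tab.getD r.val (0, 0, 0)).2.2 = -1) ∧
    (((e8 a : ℕ) = (d4Tab.getD r.val (0, 0, 0)).1 ∧ (e8 b : ℕ) = (d4Tab.getD r.val (0, 0, 0)).2.1) ∨
      ((e8 b : ℕ) = (d4Tab.getD r.val (0, 0, 0)).1 ∧ (e8 a : ℕ) = (d4Tab.getD r.val (0, 0, 0)).2.1)) := by
  decide +kernel

theorem d4Torus : ∀ i : Fin 4 ⊕ Fin 4,
    d4Rep.wt 12 (e8 i) - d4Rep.wt 13 (e8 i) = if i = Sum.inl 3 then 2 else if i = Sum.inr 3 then -2 else 0 := by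
  decide +kernel

variable {F : Type*} [Field F]

theorem d4Rep_act {r : Fin 24} {a b : Fin 4 ⊕ Fin 4} (ha : (e8 a : ℕ) = (d4Tab.getD r.val (0, 0, 0)).1)
    (hb : (e8 b : ℕ) = (d4Tab.getD r.val (0, 0, 0)).2.1) (t : F) (v : Fin 4 ⊕ Fin 4 → F) :
    d4Rep.mat e8 F r.val t *ᵥ v = PlusGen.sel a b ((d4Tab.getD r.val (0, 0, 0)).2.2 * t) v := by
  obtain ⟨hbs, has, hab, -⟩ := d4Tab_spec r a b ha hb
  have hm : ∀ (i j : Fin 4 ⊕ Fin 4), matUnit e8 (R := F) (e8 i : ℕ) (e8 j : ℕ) = Matrix.single i j 1 := by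
    intro i j
    ext p q
    rw [matUnit_apply, Matrix.single_apply]
    exact if_congr (by simp [Fin.val_inj, eq_comm]) rfl rfl
  rw [SRep.mat, Matrix.add_mulVec, Matrix.one_mulVec]
  have he : d4Rep.ent r.val = [⟨(e8 a : ℕ), (e8 b.swap : ℕ), 1, 0, (d4Tab.getD r.val (0, 0, 0)).2.2⟩,
      ⟨(e8 b : ℕ), (e8 a.swap : ℕ), 1, 0, -(d4Tab.getD r.val (0, 0, 0)).2.2⟩] := by
    rw [hbs, has, ha, hb]
    exact if_pos r.isLt
  simp only [he, List.map_cons, List.map_nil, evL_cons, evL_nil, add_zero, Tm.ev, pow_one,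
    pow_zero, mul_one, Int.cast_neg]
  rw [hm, hm, Matrix.add_mulVec, Matrix.smul_mulVec, Matrix.smul_mulVec]
  funext q
  simp only [Pi.add_apply, Pi.smul_apply, Matrix.single_mulVec, Function.update_apply, Pi.zero_apply,
    smul_eq_mul, one_mul, PlusGen.sel_apply]
  split_ifs <;> ring

/-- The isomorphism. -/
theorem d4_iso_pOmega : Nonempty (↥(chevD4.group F) ≃* Cfsg.POmega F (Cfsg.quadFormPlus 4 F)) := by
  have hF := factsD4
  have hout : ∀ r, chevD4.nroots ≤ r → d4Rep.ent r = [] := fun r hr => if_neg (not_lt.2 hr)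
  obtain ⟨φ, hφ, hφh⟩ := SRep.exists_hom (e := e8) (F := F) d4Rep_ok (fun r hr => hF.neg_lt hr) hout
  have hS : PlusGen.HasAll F 4 ∧ PlusGen.gens F 4 ⊆ φ.range := by
    have key : ∀ a b : Fin 4 ⊕ Fin 4, a ≠ b → a ≠ b.swap → ∀ c : F, ∃ g ∈ φ.range, ∀ v,
        g.1 *ᵥ v = PlusGen.sel a b c v := by
      intro a b hab hab' c
      obtain ⟨r, hs, hr⟩ := d4Tab_cover a b hab hab'
      have hε : ∃ ε : F, ε = ((d4Tab.getD r.val (0, 0, 0)).2.2 : F) ∧ ε * ε = 1 := by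
        refine ⟨_, rfl, ?_⟩
        rcases hs with h | h <;> rw [h] <;> simp
      obtain ⟨ε, hε, hε2⟩ := hε
      rcases hr with ⟨ha, hb⟩ | ⟨hb, ha⟩
      · refine ⟨_, ⟨chevD4.stGen F r.val (ε * c), rfl⟩, fun v => ?_⟩
        rw [hφ, d4Rep_act ha hb, ← hε, ← mul_assoc, hε2, one_mul]
      · refine ⟨_, ⟨chevD4.stGen F r.val (ε * -c), rfl⟩, fun v => ?_⟩
        rw [hφ, d4Rep_act hb ha, ← hε, ← mul_assoc, hε2, one_mul]
        funext q
        simp only [PlusGen.sel_apply]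
        split_ifs <;> ring
    refine ⟨fun a b h h' c => ?_, ?_⟩
    · obtain ⟨g, -, hg⟩ := key a b h h' c; exact ⟨g, hg⟩
    · rintro g ⟨a, b, c, h, h', hg⟩
      obtain ⟨g', hg'm, hg'⟩ := key a b h h' c
      rw [PlusGen.ext_single (g := g) (h := g') fun q => by rw [hg, hg']]
      exact hg'm
  have hrange : φ.range = Subgroup.closure (PlusGen.gens F 4) := by
    refine le_antisymm ?_ ((Subgroup.closure_le _).2 hS.2)
    rw [MonoidHom.range_eq_map, ← stGen_closure hF, MonoidHom.map_closure, Subgroup.closure_le]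
    rintro _ ⟨_, ⟨⟨r, t⟩, rfl⟩, rfl⟩
    obtain ⟨a, b, ha, hb⟩ := d4Tab_exists r
    obtain ⟨-, -, h, h'⟩ := d4Tab_spec r a b ha hb
    exact Subgroup.subset_closure ⟨a, b, _, h, h', fun v => by rw [hφ]; exact d4Rep_act ha hb t v⟩
  have hsq : ∀ c : F, c ≠ 0 → ∃ h ∈ Subgroup.closure (PlusGen.gens F 4), PlusGen.Fix (4 - 1) h ∧
      h.1 *ᵥ Pi.single (Sum.inl ⟨4 - 1, by omega⟩) 1 = Pi.single (Sum.inl ⟨4 - 1, by omega⟩) (c ^ 2) := by
    intro c hc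
    obtain ⟨h, hh⟩ : ∃ h, h = φ (PresentedGroup.mk _ (chevD4.stH 12 c)) * φ (PresentedGroup.mk _ (chevD4.stH 13 c⁻¹)) :=
      ⟨_, rfl⟩
    refine ⟨h, by rw [hh, ← hrange]; exact mul_mem ⟨_, rfl⟩ ⟨_, rfl⟩, ?_⟩
    have hd : h.1 = Matrix.diagonal fun i => c ^ (d4Rep.wt 12 (e8 i) - d4Rep.wt 13 (e8 i)) := by
      rw [hh, Units.val_mul, hφh 12 (by decide) c hc, hφh 13 (by decide) _ (inv_ne_zero hc),
        Matrix.diagonal_mul_diagonal]
      exact congrArg _ (funext fun i => by rw [_root_.zpow_sub₀ hc, _root_.inv_zpow, div_eq_mul_inv])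
    have hcol : ∀ i, h.1 *ᵥ Pi.single i 1 = Pi.single i (c ^ (d4Rep.wt 12 (e8 i) - d4Rep.wt 13 (e8 i))) := by
      intro i
      rw [hd]
      simp [Matrix.diagonal_mulVec_single]
    refine ⟨fun a ha => ?_, ?_⟩
    · rw [hcol, d4Torus, if_neg, if_neg, zpow_zero] <;> rintro rfl <;> simp [PlusGen.pl] at ha
    · rw [hcol, d4Torus]
      exact congrArg _ (by simp [show (⟨4 - 1, by omega⟩ : Fin 4) = 3 from rfl, zpow_ofNat])
  refine iso_of_rep hF (stHyp_of_mem (by simp)) (by decide) okConnD4 (perfect_big hF okPerfD4) _ φ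
    (hrange.trans (PlusGen.derived_eq hS.1 (by omega) hsq).symm) ?_
  -- two root elements which do not commute
  obtain ⟨g1, hg1⟩ := hS.1 (Sum.inl 0) (Sum.inr 1) (by decide) (by decide) 1
  obtain ⟨g2, hg2⟩ := hS.1 (Sum.inl 1) (Sum.inr 2) (by decide) (by decide) 1
  obtain ⟨a, rfl⟩ : g1 ∈ φ.range := hS.2 ⟨_, _, _, by decide, by decide, hg1⟩
  obtain ⟨b, rfl⟩ : g2 ∈ φ.range := hS.2 ⟨_, _, _, by decide, by decide, hg2⟩
  refine ⟨a, b, fun he => ?_⟩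
  have h := congrArg (fun g : GL (Fin 4 ⊕ Fin 4) F => (g.1 *ᵥ Pi.single (Sum.inl 2) 1) (Sum.inl 0)) he
  simp only [Units.val_mul, ← Matrix.mulVec_mulVec, hg1, hg2] at h
  simp [PlusGen.sel_apply, Pi.single_apply] at h

end Cfsg.Agent.Lie
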