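import Cfsg.Agent.Lib.Lie.SU33Group
import Cfsg.Agent.Lib.Char.PSL2Degrees

/-!
Degrees of the irreducible characters of `PSU(3,3)`.
-/

set_option autoImplicit false
set_option maxHeartbeats 1000000
open Cfsg

namespace Cfsg.Agent.Lie.SU33

variable {F : Type*} [Field F] [Fintype F]

theorem exists_data [CharP F 3] [hF9 : Fact (Fintype.card F = 9)] : Nonempty (BorelData ↥(Cfsg.SU 3 F 3)) := by
  classical
  have hF := hF9.out
  obtain ⟨g, hg, ho, hg4⟩ := exists_gen hF
  have hg8u : g ^ 8 = 1 := by rw [← ho]; exact pow_orderOf_eq_one g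
  have hg8 : (g : F) ^ 8 = 1 := by rw [← Units.val_pow_eq_pow_val, hg8u, Units.val_one]
  set ζ : ℂ := Complex.exp (2 * Real.pi * Complex.I / 8) with hζdef
  have hζ : IsPrimitiveRoot ζ 8 := by
    have := Complex.isPrimitiveRoot_exp 8 (by norm_num)
    simpa using this
  set ζu : ℂˣ := Units.mk0 ζ (hζ.ne_zero (by norm_num)) with hζu
  have hζuo : orderOf ζu = 8 := by
    rw [← orderOf_units, hζu, Units.val_mk0, ← hζ.eq_orderOf]
  let χ : Fˣ →* ℂˣ := monoidHomOfForallMemZpowers hg (g' := ζu) (by rw [hζuo, ho])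
  have hχg : χ g = ζu := monoidHomOfForallMemZpowers_apply_gen _ _
  have hχinj : ∀ x, χ x = 1 → x = 1 := by
    intro x hx
    obtain ⟨k, rfl⟩ := Subgroup.mem_zpowers_iff.1 (hg x)
    rw [map_zpow, hχg, ← orderOf_dvd_iff_zpow_eq_one, hζuo] at hx
    rwa [← orderOf_dvd_iff_zpow_eq_one, ho]
  set ψ : (borel (F := F)) →* ℂˣ := χ.comp eigenV with hψdef
  have hψ1 : ∀ b, ψ b = 1 ↔ eigenV b = 1 := fun b =>
    ⟨fun h => hχinj _ h, fun h => by rw [hψdef, MonoidHom.comp_apply, h, map_one]⟩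
  have hu8 : ∀ x : Fˣ, x ^ 8 = 1 := fun x => by
    obtain ⟨k, rfl⟩ := Subgroup.mem_zpowers_iff.1 (hg x)
    rw [← zpow_natCast, zpow_comm, zpow_natCast, hg8u, one_zpow]
  have h8 : ∀ b, ψ b ^ 8 = 1 := fun b => by
    rw [hψdef, MonoidHom.comp_apply, ← map_pow, hu8, map_one]
  -- the torus
  let hbor : borel (F := F) := ⟨mk (torus g) (torus_gram hg8).1 (torus_gram hg8).2,
    by rw [mem_borel, coord_mk]; simp [torus]⟩
  have heig : eigenV hbor = g := Units.ext (by rw [eigenV_val, coord_mk]; simp [torus])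
  have hhmem : hbor ∈ meetConj borel weyl := by rw [meet_iff, coord_mk]; simp [torus]
  have hhpow : ∀ k : ℤ, hbor ^ k ∈ meetConj borel weyl := fun k => Subgroup.zpow_mem _ hhmem k
  have hH : Nat.card (meetConj (borel (F := F)) weyl) = 8 := by
    have hbij : Function.Bijective (fun b : meetConj (borel (F := F)) weyl => eigenV b.1) := by
      refine ⟨fun b b' h => Subtype.ext (meet_inj _ _ b.2 b'.2 h), fun x => ?_⟩
      obtain ⟨k, rfl⟩ := Subgroup.mem_zpowers_iff.1 (hg x)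
      exact ⟨⟨hbor ^ k, hhpow k⟩, by simp [map_zpow, heig]⟩
    rw [Nat.card_congr (Equiv.ofBijective _ hbij), ← orderOf_eq_card_of_forall_mem_zpowers hg, ho]
  have hsurj : Function.Surjective (eigenV (F := F)) := fun x => by
    obtain ⟨k, rfl⟩ := Subgroup.mem_zpowers_iff.1 (hg x)
    exact ⟨hbor ^ k, by rw [map_zpow, heig]⟩
  have hker : ψ.ker = (eigenV (F := F)).ker := by
    ext b
    rw [MonoidHom.mem_ker, MonoidHom.mem_ker, hψ1]
  have hB : Nat.card (borel (F := F)) = 216 := by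
    rw [← (eigenV (F := F)).ker.card_mul_index, card_kernel hF, Subgroup.index_ker,
      MonoidHom.range_eq_top.2 hsurj, Subgroup.card_top, ← orderOf_eq_card_of_forall_mem_zpowers hg, ho]
  -- representatives
  set j : F := (g : F) ^ 2 with hjdef
  have hj2 : j ^ 2 = -1 := by rw [hjdef, ← pow_mul]; exact hg4
  have hj0 : j ≠ 0 := by simp [hjdef]
  have hz : j + j ^ 3 = (0 : F) ^ 4 := by linear_combination j * hj2
  have hx : (-1 : F) + (-1) ^ 3 = 1 ^ 4 := by linear_combination -(three_eq_zero (F := F))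
  have hmz : uniG (0 : F) j hz ∈ borel := uniG_mem _ _ _
  have hmx : uniG (1 : F) (-1) hx ∈ borel := uniG_mem _ _ _
  have hzero : ∀ (k : ℕ) (f b : F) (hb : b + b ^ 3 = f ^ 4), ∃ (b' : F) (hb' : b' + b' ^ 3 = (((g : F) ^ 5) ^ k * f) ^ 4),
      IsConj (uniG f b hb) (uniG (((g : F) ^ 5) ^ k * f) b' hb') := by
    intro k f b hb
    induction k with
    | zero =>
      refine ⟨b, by simpa using hb, ?_⟩
      simp only [show ((g : F) ^ 5) ^ 0 * f = f by simp]
      exact IsConj.refl _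
    | succ k ih =>
      obtain ⟨b', hb', hconj⟩ := ih
      have hb'' : (-b') + (-b') ^ 3 = ((g : F) ^ 5 * (((g : F) ^ 5) ^ k * f)) ^ 4 := by
        rw [mul_pow ((g : F) ^ 5), ← hb']
        linear_combination (-(b' + b' ^ 3) * ((g : F) ^ 16 - (g : F) ^ 12 + (g : F) ^ 8 - (g : F) ^ 4 + 1)) * hg4
      have h := hconj.trans (conj_torus hg8 hg4 _ _ hb' hb'')
      simp only [show ((g : F) ^ 5) ^ (k + 1) * f = (g : F) ^ 5 * (((g : F) ^ 5) ^ k * f) by ring]
      exact ⟨-b', hb'', h⟩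
  refine ⟨{
    B := borel
    w := weyl
    ψ := ψ
    ζ := ζ
    hζ := hζ
    h8 := h8
    h := ⟨hbor, hhmem⟩
    hh := by rw [hψdef, MonoidHom.comp_apply, heig, hχg, hζu, Units.val_mk0]
    hw := weyl_not_mem
    hw2 := weyl_sq
    hflip := ?_
    hG := (card_su33 hF).1
    hB := hB
    hH := hH
    Z := centreU
    hZker := fun b hb => MonoidHom.mem_ker.2 ((hψ1 b).2 hb.1)
    hZcard := card_centreU hF
    hker := by rw [hker]; exact card_kernel hF
    exp3 := fun b hb => kernel_pow_three ((hψ1 b).1 hb)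
    z := ⟨_, hmz⟩
    hz := ⟨Units.ext (by rw [eigenV_val, coord_uniG]; simp [uni]), by rw [coord_uniG]; simp [uni]⟩
    hz1 := ?_
    x := ⟨_, hmx⟩
    hxk := (hψ1 _).2 (Units.ext (by rw [eigenV_val, coord_uniG]; simp [uni]))
    hxZ := ?_
    conjZ := ?_
    conjX := ?_
    simple := (card_su33 hF).2 }⟩
  · intro b hb
    rw [hψdef, MonoidHom.comp_apply, MonoidHom.comp_apply, ← map_pow]
    congr 1
    apply Units.ext
    rw [eigenV_val, Units.val_pow_eq_pow_val, eigenV_val]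
    show coord (weyl * b.1 * weyl⁻¹) 0 0 = coord b.1 0 0 ^ 5
    rw [(conj_weyl_entries b.1).1]
    obtain ⟨-, -, -, hcd, -, -, -⟩ := borel_eqs b.2
    have hc8 : coord b.1 0 0 ^ 8 = 1 := by rw [← eigenV_val, ← Units.val_pow_eq_pow_val, hu8, Units.val_one]
    have hd8 := pow_nine (coord b.1 2 2) hF
    -- raise `c d^3 = 1` to the fifth power
    have h1 : coord b.1 0 0 ^ 6 * coord b.1 2 2 ^ 18 = 1 := by
      rw [show coord b.1 2 2 ^ 18 = (coord b.1 2 2 ^ 3) ^ 6 by ring, ← mul_pow, hcd, one_pow]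
    have h18 : coord b.1 2 2 ^ 18 = coord b.1 2 2 ^ 2 := by linear_combination (coord b.1 2 2 ^ 9 + coord b.1 2 2) * hd8
    rw [h18] at h1
    linear_combination -(coord b.1 2 2) * h1 + coord b.1 0 0 ^ 5 * hcd
  · intro e
    have := congrArg (fun b : borel (F := F) => coord b.1 0 2) e
    simp [coord_uniG, uni] at this
    exact hj0 this
  · intro h
    have := h.2
    simp [coord_uniG, uni] at this
  · intro b hb hb1
    obtain ⟨hu, hbb⟩ := kernel_coord hb.1
    rw [hb.2] at hu hbb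
    set t := coord b.1 0 2 with htdef
    have ht0 : t ≠ 0 := by
      intro e
      rw [e, uni_zero] at hu
      exact hb1 (Subtype.ext (coord_inj (by rw [Subgroup.coe_one, map_one]; exact hu)))
    have hsq : t ^ 2 = -1 := mul_left_cancel₀ ht0 (by linear_combination hbb)
    have hbt : b.1 = uniG 0 t hbb := coord_inj (by rw [coord_uniG]; exact hu)
    show IsConj (uniG 0 j hz) b.1
    rw [hbt]
    rcases eq_or_eq_neg_of_sq_eq_sq j t (by rw [hj2, hsq]) with e | e
    · simp only [e]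
      exact IsConj.refl _
    · have h := conj_torus hg8 hg4 0 j hz (by linear_combination -1 * hz)
      simp only [mul_zero] at h
      simp only [show t = -j by rw [e, neg_neg]]
      exact h
  · intro b hb hbZ
    obtain ⟨hu, hbb⟩ := kernel_coord ((hψ1 b).1 hb)
    set f := coord b.1 1 2
    set t := coord b.1 0 2
    have hf : f ≠ 0 := fun e => hbZ ⟨(hψ1 b).1 hb, e⟩
    obtain ⟨k, hk⟩ : ∃ k : ℕ, ((g : F) ^ 5) ^ k = f := by
      obtain ⟨m, hm⟩ := (isOfFinOrder_of_finite g).mem_powers_iff_mem_zpowers.2 (hg (Units.mk0 f hf))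
      refine ⟨5 * m, ?_⟩
      have hm' : (g : F) ^ m = f := by simpa using congrArg (fun u : Fˣ => (u : F)) hm
      rw [← pow_mul, show 5 * (5 * m) = m + 8 * (3 * m) by ring, pow_add, pow_mul _ 8, hg8, one_pow,
        mul_one, hm']
    obtain ⟨b', hb', hconj⟩ := hzero k 1 (-1) hx
    have hbt : b.1 = uniG f t hbb := coord_inj (by rw [coord_uniG]; exact hu)
    show IsConj (uniG 1 (-1) hx) b.1
    rw [hbt]
    simp only [mul_one, hk] at hconj hb'
    exact hconj.trans (conj_fibre hF f b' t hf hb' hbb)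

theorem charP_three (hF : Fintype.card F = 9) : CharP F 3 := by
  obtain ⟨p, hp⟩ := CharP.exists F
  obtain ⟨⟨n, hn⟩, hpp, hc⟩ := FiniteField.card F p
  change Fintype.card F = p ^ n at hc
  have hd : p ∣ 3 ^ 2 := by rw [show (3 : ℕ) ^ 2 = p ^ n by rw [← hc, hF]; norm_num]; exact dvd_pow_self p hn.ne'
  rw [(Nat.prime_dvd_prime_iff_eq hpp Nat.prime_three).1 (hpp.dvd_of_dvd_pow hd)] at hp
  exact hp

/-- `PSU(3,3)` has order 6048 and degrees divisible by 6, 14 and 21. -/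
theorem psu_degrees (hF : Fintype.card F = 9) :
    Nat.card (Cfsg.PSU 3 F 3) = 6048 ∧ (∃ d ∈ charDegrees (Cfsg.PSU 3 F 3), 6 ∣ d) ∧
      (∃ d ∈ charDegrees (Cfsg.PSU 3 F 3), 14 ∣ d) ∧ (∃ d ∈ charDegrees (Cfsg.PSU 3 F 3), 21 ∣ d) := by
  haveI := charP_three hF
  haveI : Fact (Fintype.card F = 9) := ⟨hF⟩
  obtain ⟨D⟩ := exists_data (F := F)
  haveI := D.simple
  have hinj : Function.Injective (QuotientGroup.mk' (Subgroup.center ↥(Cfsg.SU 3 F 3))) := by
    rw [← MonoidHom.ker_eq_bot_iff, QuotientGroup.ker_mk']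
    rcases (inferInstance : (Subgroup.center ↥(Cfsg.SU 3 F 3)).Normal).eq_bot_or_eq_top with h | h
    · exact h
    · exfalso
      have hall : ∀ a c : ↥(Cfsg.SU 3 F 3), IsConj a c → a = c := fun a c hac => by
        obtain ⟨k, rfl⟩ := isConj_iff.1 hac
        rw [Subgroup.mem_center_iff.1 (h ▸ Subgroup.mem_top a) k, mul_inv_cancel_right]
      have := hall _ _ (D.conjZ _ (inv_mem D.hz) (inv_ne_one.2 D.hz1))
      have h2 : D.z * D.z = 1 := by
        have e : D.z = D.z⁻¹ := Subtype.ext this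
        nth_rw 1 [e]
        exact inv_mul_cancel _
      have h3 : D.z ^ 3 = 1 := Subtype.ext (by push_cast; exact D.exp3 _ (D.hZker D.hz))
      rw [pow_succ, pow_two, h2, one_mul] at h3
      exact D.hz1 h3
  let e : ↥(Cfsg.SU 3 F 3) ≃* Cfsg.PSU 3 F 3 :=
    MulEquiv.ofBijective (QuotientGroup.mk' _) ⟨hinj, QuotientGroup.mk'_surjective _⟩
  obtain ⟨⟨a, ha, ha'⟩, ⟨b, hb, hb'⟩, ⟨c, hc, hc'⟩⟩ := degree_witnesses D
  exact ⟨(Nat.card_congr e.toEquiv.symm).trans D.hG, ⟨a, (Cfsg.Agent.Char.PSL2Deg.mem_charDegrees_iso e).1 ha, ha'⟩,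
    ⟨b, (Cfsg.Agent.Char.PSL2Deg.mem_charDegrees_iso e).1 hb, hb'⟩, ⟨c, (Cfsg.Agent.Char.PSL2Deg.mem_charDegrees_iso e).1 hc, hc'⟩⟩

end Cfsg.Agent.Lie.SU33
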