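import Cfsg.Agent.Lib.Char.Linear

/-!
Values of characters at real elements of order three.
-/

set_option autoImplicit false
open scoped ComplexConjugate
open Cfsg

namespace Cfsg.Agent.Lie.SU33

open Cfsg.Agent.Char

universe u
variable {G : Type u} [Group G] [Fintype G]

theorem order_three_value {χ : G → ℂ} (hχ : IsCharacter G χ) {g : G} (hg : g ^ 3 = 1) (h1 : g ≠ 1)
    (hreal : χ g⁻¹ = χ g) : ∃ n : ℕ, 2 * χ g = 3 * (n : ℂ) - (deg χ : ℂ) ∧ n % 2 = deg χ % 2 := by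
  classical
  haveI : Fact (Nat.Prime 3) := ⟨Nat.prime_three⟩
  have ho : orderOf g = 3 := orderOf_eq_prime hg h1
  obtain ⟨n, hn⟩ := classInner_natCast (G := Subgroup.zpowers g)
    (isCharacter_comp (Subgroup.zpowers g).subtype hχ) isCharacter_one
  have hfo : IsOfFinOrder g := isOfFinOrder_of_finite g
  rw [classInner, Nat.card_zpowers, ho, ← (finEquivZPowers hfo).sum_comp,
    ← (finCongr ho.symm).sum_comp, Fin.sum_univ_three] at hn
  have hg2 : g ^ 2 = g⁻¹ := eq_inv_of_mul_eq_one_left (by rw [← pow_succ, hg])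
  simp [finEquivZPowers_apply, hg2, hreal, char_one_eq_deg hχ] at hn
  have he : 2 * χ g = 3 * (n : ℂ) - (deg χ : ℂ) := by linear_combination (3 : ℂ) * hn
  refine ⟨n, he, ?_⟩
  by_contra hpar
  have hodd : ∃ m : ℤ, 3 * (n : ℤ) - (deg χ : ℤ) = 2 * m + 1 := ⟨(3 * (n : ℤ) - deg χ - 1) / 2, by omega⟩
  obtain ⟨m, hm⟩ := hodd
  have hm' : (3 : ℂ) * n - deg χ = 2 * m + 1 := by exact_mod_cast hm
  have hint : IsIntegral ℤ ((1 / 2 : ℚ) : ℂ) := by
    have e : ((1 / 2 : ℚ) : ℂ) = χ g - (m : ℂ) := by push_cast; linear_combination (-1 / 2 : ℂ) * (he.trans hm')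
    rw [e]
    exact (char_isIntegral hχ g).sub (by simpa using isIntegral_algebraMap (R := ℤ) (A := ℂ) (x := m))
  have h2 : IsIntegral ℤ (1 / 2 : ℚ) := (isIntegral_algebraMap_iff (B := ℂ)
    (algebraMap ℚ ℂ).injective).1 (by simpa using hint)
  obtain ⟨k, hk⟩ := IsIntegrallyClosed.isIntegral_iff.1 h2
  have : (2 : ℚ) * (k : ℚ) = 1 := by
    rw [show (k : ℚ) = algebraMap ℤ ℚ k by simp, hk]; norm_num
  have : (2 : ℤ) * k = 1 := by exact_mod_cast this
  omega

theorem re_le_deg {χ : G → ℂ} (hχ : IsCharacter G χ) (g : G) : (χ g).re ≤ deg χ := by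
  refine (Complex.re_le_norm _).trans ((char_norm_le hχ g).trans (le_of_eq ?_))
  simp [char_one_eq_deg hχ]

end Cfsg.Agent.Lie.SU33
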