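import Cfsg.Agent.Lib.Lie.SU33Mackey
import Cfsg.Agent.Lib.Lie.SU33Values
import Cfsg.Prelude.Def_DegreeGraph

/-!
Character degrees of a simple group of order 6048 with a Borel subgroup like that of `U3(3)`.
-/

set_option autoImplicit false
set_option maxHeartbeats 1000000
open scoped ComplexConjugate
open Cfsg

namespace Cfsg.Agent.Lie.SU33

open Cfsg.Agent.Char

universe u

/-- A Borel subgroup as in `U3(3)`. -/
structure BorelData (G : Type u) [Group G] [Fintype G] where
  B : Subgroup G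
  w : G
  ψ : B →* ℂˣ
  ζ : ℂ
  hζ : IsPrimitiveRoot ζ 8
  h8 : ∀ b, ψ b ^ 8 = 1
  h : meetConj B w
  hh : ((ψ h.1 : ℂˣ) : ℂ) = ζ
  hw : w ∉ B
  hw2 : w * w = 1
  hflip : ∀ (b : B) (hb : w * (b : G) * w⁻¹ ∈ B), ψ ⟨_, hb⟩ = ψ b ^ 5
  hG : Nat.card G = 6048
  hB : Nat.card B = 216
  hH : Nat.card (meetConj B w) = 8
  Z : Subgroup B
  hZker : Z ≤ ψ.ker
  hZcard : Nat.card Z = 3
  hker : Nat.card ψ.ker = 27
  exp3 : ∀ b : B, ψ b = 1 → (b : G) ^ 3 = 1
  z : B
  hz : z ∈ Z
  hz1 : z ≠ 1
  x : B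
  hxk : ψ x = 1
  hxZ : x ∉ Z
  conjZ : ∀ b ∈ Z, b ≠ 1 → IsConj (z : G) b
  conjX : ∀ b, ψ b = 1 → b ∉ Z → IsConj (x : G) b
  simple : IsSimpleGroup G

variable {G : Type u} [Group G] [Fintype G] (D : BorelData G)

theorem charDegree_eq_deg (χ : G → ℂ) : charDegree χ = deg χ := rfl

theorem class_eq {χ : G → ℂ} (hχ : IsCharacter G χ) {a b : G} (h : IsConj a b) : χ b = χ a := by
  obtain ⟨c, rfl⟩ := isConj_iff.1 h
  exact isClassFunction_character hχ a c

noncomputable instance BorelData.fintypeB : Fintype D.B := Fintype.ofFinite _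

/-- The multiplicity of a power of `ψ` in the restriction. -/
noncomputable def mult (j : ℕ) (χ : IrrCharacter G) : ℕ :=
  (classInner_natCast (isCharacter_comp D.B.subtype (irr_isCharacter χ.2))
    (isCharacter_linear (D.ψ ^ j))).choose

theorem mult_spec (j : ℕ) (χ : IrrCharacter G) :
    classInner (fun b : D.B => (χ : G → ℂ) b) (lam D.B D.ψ j) = mult D j χ := by
  have h := (classInner_natCast (isCharacter_comp D.B.subtype (irr_isCharacter χ.2))
    (isCharacter_linear (D.ψ ^ j))).choose_spec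
  exact h

theorem indLam_expansion (j : ℕ) :
    indFun D.B (lam D.B D.ψ j) = ∑ χ : IrrCharacter G, mult D j χ • (χ : G → ℂ) := by
  obtain ⟨m, hm⟩ := exists_decomposition
    (isCharacter_indFun D.B (isCharacter_linear (D.ψ ^ j)))
  refine hm.trans (Finset.sum_congr rfl fun χ _ => ?_)
  congr 1
  have h := decomposition_coeff m hm χ
  rw [frobenius D.B _ (isClassFunction_character (irr_isCharacter χ.2)), ← classInner_symm] at h
  have h' : conj (classInner (fun b : D.B => (χ : G → ℂ) b) (lam D.B D.ψ j)) = (m χ : ℂ) := h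
  rw [mult_spec, map_natCast] at h'
  exact_mod_cast h'.symm

theorem sum_mult_mul (j k : ℕ) :
    ∑ χ : IrrCharacter G, mult D j χ * mult D k χ =
      (if j % 8 = k % 8 then 1 else 0) + (if j % 8 = 5 * k % 8 then 1 else 0) := by
  classical
  have h := classInner_indLam D.B D.w D.ψ D.hG D.hB D.hH D.hw D.hζ D.h8 D.h D.hh D.hw2 D.hflip j k
  rw [indLam_expansion D j, indLam_expansion D k] at h
  simp only [← Nat.cast_smul_eq_nsmul ℂ, classInner_sum_left, classInner_sum_right,
    classInner_smul_left, classInner_smul_right, irrC_orth, map_natCast, mul_ite, mul_one, mul_zero,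
    Finset.sum_ite_eq, Finset.sum_ite_eq', Finset.mem_univ, if_true] at h
  rw [← Nat.cast_inj (R := ℂ)]
  push_cast
  rw [← h]
  exact Finset.sum_congr rfl fun χ _ => mul_comm _ _

theorem sum_mult_deg (j : ℕ) :
    ∑ χ : IrrCharacter G, mult D j χ * deg (χ : G → ℂ) = 28 := by
  classical
  have h := congrFun (indLam_expansion D j) 1
  rw [indFun_one, Finset.sum_apply] at h
  have hi : D.B.index = 28 := by
    have := D.B.card_mul_index
    rw [D.hG, D.hB] at this
    omega
  have h1 : lam D.B D.ψ j 1 = 1 := by rw [lam_apply, map_one, Units.val_one, one_pow]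
  rw [h1, hi, mul_one] at h
  simp only [Pi.smul_apply, nsmul_eq_mul] at h
  rw [Finset.sum_congr rfl fun χ _ => by rw [char_one_eq_deg (irr_isCharacter χ.2)]] at h
  rw [← Nat.cast_inj (R := ℂ)]
  push_cast
  exact h.symm

/-- The multiplicity of the trivial character on the unipotent radical. -/
noncomputable def fixU (χ : IrrCharacter G) : ℕ := ∑ j ∈ Finset.range 8, mult D j χ

theorem fixU_eq (χ : IrrCharacter G) :
    27 * (fixU D χ : ℂ) = (deg (χ : G → ℂ) : ℂ) + 2 * (χ : G → ℂ) D.z + 24 * (χ : G → ℂ) D.x := by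
  classical
  have hs : ∀ b : D.B, ∑ j ∈ Finset.range 8, conj (lam D.B D.ψ j b) =
      if b ∈ D.ψ.ker then (8 : ℂ) else 0 := by
    intro b
    rw [← map_sum]
    by_cases hb : b ∈ D.ψ.ker
    · rw [if_pos hb]
      simp [lam_apply, MonoidHom.mem_ker.1 hb, map_ofNat]
    · rw [if_neg hb]
      simp only [lam_apply]
      rw [geom_sum_eq (fun e => hb (MonoidHom.mem_ker.2 (Units.ext e))), ← Units.val_pow_eq_pow_val,
        D.h8 b, Units.val_one, sub_self, zero_div, map_zero]
  have hf : (fixU D χ : ℂ) = (216 : ℂ)⁻¹ * (8 * ∑ b ∈ Finset.univ.filter (fun b : D.B => b ∈ D.ψ.ker),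
      (χ : G → ℂ) b) := by
    simp only [fixU, Nat.cast_sum, ← mult_spec, classInner, D.hB]
    rw [← Finset.mul_sum, Finset.sum_comm, Finset.mul_sum _ _ (8 : ℂ), Finset.sum_filter]
    congr 1
    refine Finset.sum_congr rfl fun b _ => ?_
    rw [← Finset.mul_sum, hs b]
    split_ifs <;> ring
  have hval : ∀ b ∈ Finset.univ.filter (fun b : D.B => b ∈ D.ψ.ker), (χ : G → ℂ) b =
      if b = 1 then (deg (χ : G → ℂ) : ℂ)
      else if b ∈ D.Z then (χ : G → ℂ) D.z else (χ : G → ℂ) D.x := by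
    intro b hb
    simp only [Finset.mem_filter, Finset.mem_univ, true_and, MonoidHom.mem_ker] at hb
    split_ifs with h1 h2
    · rw [h1, Subgroup.coe_one, char_one_eq_deg (irr_isCharacter χ.2)]
    · exact class_eq (irr_isCharacter χ.2) (D.conjZ b h2 h1)
    · exact class_eq (irr_isCharacter χ.2) (D.conjX b hb h2)
  have hK : (Finset.univ.filter (fun b : D.B => b ∈ D.ψ.ker)).card = 27 := by
    rw [← Fintype.card_subtype, ← Nat.card_eq_fintype_card]
    exact D.hker
  have hZ : (Finset.univ.filter (fun b : D.B => b ∈ D.Z)).card = 3 := by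
    rw [← Fintype.card_subtype, ← Nat.card_eq_fintype_card]
    exact D.hZcard
  have hsum : ∑ b ∈ Finset.univ.filter (fun b : D.B => b ∈ D.ψ.ker), (χ : G → ℂ) b =
      (deg (χ : G → ℂ) : ℂ) + 2 * (χ : G → ℂ) D.z + 24 * (χ : G → ℂ) D.x := by
    rw [Finset.sum_congr rfl hval, Finset.sum_ite, Finset.sum_ite, Finset.sum_const, Finset.sum_const,
      Finset.sum_const, Finset.filter_filter, Finset.filter_filter, Finset.filter_filter,
      Finset.filter_filter, Finset.filter_filter]
    have e1 : Finset.univ.filter (fun b : D.B => b ∈ D.ψ.ker ∧ b = 1) = {1} := by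
      ext b
      simp only [Finset.mem_filter, Finset.mem_univ, true_and, Finset.mem_singleton]
      exact ⟨fun e => e.2, fun e => ⟨e ▸ one_mem _, e⟩⟩
    have e2 : Finset.univ.filter (fun b : D.B => b ∈ D.ψ.ker ∧ ¬ b = 1 ∧ b ∈ D.Z) =
        (Finset.univ.filter (fun b : D.B => b ∈ D.Z)).erase 1 := by
      ext b
      simp only [Finset.mem_filter, Finset.mem_univ, true_and, Finset.mem_erase]
      exact ⟨fun e => ⟨e.2.1, e.2.2⟩, fun e => ⟨D.hZker e.2, e.1, e.2⟩⟩
    have e3 : Finset.univ.filter (fun b : D.B => b ∈ D.ψ.ker ∧ ¬ b = 1 ∧ ¬ b ∈ D.Z) =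
        Finset.univ.filter (fun b : D.B => b ∈ D.ψ.ker) \ Finset.univ.filter (fun b : D.B => b ∈ D.Z) := by
      ext b
      simp only [Finset.mem_filter, Finset.mem_univ, true_and, Finset.mem_sdiff]
      exact ⟨fun e => ⟨e.1, e.2.2⟩, fun e => ⟨e.1, fun h => e.2 (h ▸ one_mem _), e.2⟩⟩
    rw [e1, e2, e3, Finset.card_singleton, Finset.card_erase_of_mem (by simp [one_mem]),
      Finset.card_sdiff, hZ, Finset.inter_eq_left.2, hK, hZ]
    · simp [nsmul_eq_mul]
      ring
    · intro b hb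
      simp only [Finset.mem_filter, Finset.mem_univ, true_and] at hb ⊢
      exact D.hZker hb
  rw [hf, hsum]
  ring

theorem value_facts (χ : IrrCharacter G) :
    ∃ nz nx : ℕ, 4 * deg (χ : G → ℂ) + 9 * fixU D χ = nz + 12 * nx ∧
      nz % 2 = deg (χ : G → ℂ) % 2 ∧ nx % 2 = deg (χ : G → ℂ) % 2 ∧ nz ≤ deg (χ : G → ℂ) ∧
      (nz = deg (χ : G → ℂ) → ∀ g, (χ : G → ℂ) g = deg (χ : G → ℂ)) := by
  haveI := D.simple
  have hc := irr_isCharacter χ.2
  have hinvZ : (χ : G → ℂ) (D.z : G)⁻¹ = (χ : G → ℂ) D.z := by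
    rw [← Subgroup.coe_inv]
    exact class_eq hc (D.conjZ _ (inv_mem D.hz) (inv_ne_one.2 D.hz1))
  have hinvX : (χ : G → ℂ) (D.x : G)⁻¹ = (χ : G → ℂ) D.x := by
    rw [← Subgroup.coe_inv]
    exact class_eq hc (D.conjX _ (by rw [map_inv, D.hxk, inv_one]) (fun h => D.hxZ (by simpa using inv_mem h)))
  have hz1 : (D.z : G) ≠ 1 := fun e => D.hz1 (Subtype.ext e)
  have hx1 : (D.x : G) ≠ 1 := fun e => D.hxZ (by rw [Subtype.ext (e.trans D.B.coe_one.symm) (a1 := D.x) (a2 := 1)]; exact one_mem _)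
  obtain ⟨nz, hnz, hpz⟩ := order_three_value hc (D.exp3 _ (D.hZker D.hz)) hz1 hinvZ
  obtain ⟨nx, hnx, hpx⟩ := order_three_value hc (D.exp3 _ D.hxk) hx1 hinvX
  have hf := fixU_eq D χ
  have key : ((4 * deg (χ : G → ℂ) + 9 * fixU D χ : ℕ) : ℂ) = ((nz + 12 * nx : ℕ) : ℂ) := by
    push_cast
    linear_combination (1 / 3 : ℂ) * hf + (1 / 3 : ℂ) * hnz + 4 * hnx
  have hre := re_le_deg hc (D.z : G)
  have hre2 : 2 * ((χ : G → ℂ) D.z).re = 3 * (nz : ℝ) - deg (χ : G → ℂ) := by
    have := congrArg Complex.re hnz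
    simpa using this
  refine ⟨nz, nx, by exact_mod_cast key, hpz, hpx, ?_, ?_⟩
  · have : (nz : ℝ) ≤ deg (χ : G → ℂ) := by linarith
    exact_mod_cast this
  · intro e
    have hzd : (χ : G → ℂ) D.z = deg (χ : G → ℂ) := by
      rw [e] at hnz
      linear_combination (1 / 2 : ℂ) * hnz
    obtain ⟨n, ρ, -, hρ⟩ := χ.2
    rw [← hρ] at hzd ⊢
    have hfin : (deg ρ.character : ℂ) = (Module.finrank ℂ (Fin n → ℂ) : ℂ) := by
      rw [← char_one_eq_deg ⟨n, ρ, rfl⟩, Representation.char_one]
    rw [hfin] at hzd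
    have hker : (ρ : G →* _).ker = ⊤ := by
      rcases ((ρ : G →* _).normal_ker).eq_bot_or_eq_top with h | h
      · exfalso
        apply hz1
        have : (D.z : G) ∈ (ρ : G →* _).ker := MonoidHom.mem_ker.2 ((eq_id_iff ρ _).1 hzd)
        rw [h] at this
        simpa using this
      · exact h
    intro g
    rw [hfin, eq_id_iff]
    exact MonoidHom.mem_ker.1 (hker ▸ Subgroup.mem_top g : g ∈ (ρ : G →* _).ker)

theorem fixU_odd (χ : IrrCharacter G) : deg (χ : G → ℂ) % 2 = fixU D χ % 2 := by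
  obtain ⟨nz, nx, h, h1, h2, -, -⟩ := value_facts D χ
  omega

theorem mult_le_fixU {j : ℕ} (hj : j < 8) (χ : IrrCharacter G) : mult D j χ ≤ fixU D χ :=
  Finset.single_le_sum (f := fun i => mult D i χ) (fun _ _ => Nat.zero_le _) (Finset.mem_range.2 hj)

theorem fixU_of_even {j : ℕ} (hj : j < 8) (he : j % 2 = 0) (χ : IrrCharacter G) (hm : mult D j χ ≠ 0) :
    fixU D χ = mult D j χ := by
  refine Finset.sum_eq_single j (fun k hk hkj => ?_) (fun h => absurd (Finset.mem_range.2 hj) h)
  rw [Finset.mem_range] at hk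
  have h := sum_mult_mul D j k
  rw [if_neg (by omega), if_neg (by omega)] at h
  exact (mul_eq_zero.1 ((Finset.sum_eq_zero_iff.1 h) χ (Finset.mem_univ _))).resolve_left hm

theorem two_constituents {j : ℕ} (hj : j < 8) (he : j % 2 = 0) :
    ∃ a b : IrrCharacter G, a ≠ b ∧ mult D j a = 1 ∧ mult D j b = 1 ∧
      (∀ c, c ≠ a → c ≠ b → mult D j c = 0) ∧
      deg (a : G → ℂ) + deg (b : G → ℂ) = 28 ∧ deg (a : G → ℂ) % 2 = 1 ∧ deg (b : G → ℂ) % 2 = 1 := by
  classical
  have h := sum_mult_mul D j j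
  rw [if_pos rfl, if_pos (by omega)] at h
  have hle : ∀ c, mult D j c ≤ 1 := by
    intro c
    have := Finset.single_le_sum (f := fun i => mult D j i * mult D j i) (fun _ _ => Nat.zero_le _)
      (Finset.mem_univ c)
    simp only [h] at this
    by_contra hgt
    nlinarith
  have hsq : ∀ c, mult D j c * mult D j c = mult D j c := fun c => by
    rcases Nat.le_one_iff_eq_zero_or_eq_one.1 (hle c) with e | e <;> simp [e]
  rw [Finset.sum_congr rfl fun c _ => hsq c,
    ← Finset.sum_filter_ne_zero, Finset.sum_congr rfl (g := fun _ => 1) (fun c hc => by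
      have := hle c; have := (Finset.mem_filter.1 hc).2; omega)] at h
  rw [Finset.sum_const, smul_eq_mul, mul_one] at h
  obtain ⟨a, b, hab, hS⟩ := Finset.card_eq_two.1 h
  have hm : ∀ c, mult D j c ≠ 0 ↔ c = a ∨ c = b := fun c => by
    have := Finset.ext_iff.1 hS c
    simpa using this
  have ha : mult D j a = 1 := by have := (hm a).2 (Or.inl rfl); have := hle a; omega
  have hb : mult D j b = 1 := by have := (hm b).2 (Or.inr rfl); have := hle b; omega
  have h0 : ∀ c, c ≠ a → c ≠ b → mult D j c = 0 := fun c h1 h2 => by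
    by_contra hne
    rcases (hm c).1 hne with e | e
    · exact h1 e
    · exact h2 e
  refine ⟨a, b, hab, ha, hb, h0, ?_, ?_, ?_⟩
  · have hd := sum_mult_deg D j
    rw [Finset.sum_eq_add a b hab (fun c _ hc => by rw [h0 c hc.1 hc.2, zero_mul]) (by simp) (by simp),
      ha, hb, one_mul, one_mul] at hd
    exact hd
  · rw [fixU_odd D, fixU_of_even D hj he a (by omega), ha]
  · rw [fixU_odd D, fixU_of_even D hj he b (by omega), hb]

include D in
theorem deg_one_trivial (χ : IrrCharacter G) (hd : deg (χ : G → ℂ) = 1) (g : G) : (χ : G → ℂ) g = 1 := by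
  obtain ⟨nz, nx, -, h1, -, hle, htriv⟩ := value_facts D χ
  rw [htriv (by omega) g, hd, Nat.cast_one]

set_option synthInstance.maxSize 512 in
theorem pair_sizes : ∀ a : ℕ, a < 28 → a % 2 = 1 → a ∣ 6048 → (28 - a) ∣ 6048 →
    a = 1 ∨ a = 27 ∨ a = 7 ∨ a = 21 := by decide +kernel

include D in
theorem sum_deg_pair {j : ℕ} (hj : j < 8) (he : j % 2 = 0) :
    (j = 0 → ∑ χ : IrrCharacter G, mult D j χ * deg (χ : G → ℂ) ^ 2 = 730) ∧
    (j ≠ 0 → (∑ χ : IrrCharacter G, mult D j χ * deg (χ : G → ℂ) ^ 2 = 490) ∧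
      ∃ χ : IrrCharacter G, deg (χ : G → ℂ) = 21) := by
  classical
  obtain ⟨a, b, hab, ha, hb, h0, hsum, hao, hbo⟩ := two_constituents D hj he
  have hda := deg_dvd_card a.2
  have hdb := deg_dvd_card b.2
  rw [D.hG] at hda hdb
  have hpa := deg_pos a.2
  have hpb := deg_pos b.2
  have hsz := pair_sizes (deg (a : G → ℂ)) (by omega) hao hda (by rwa [show 28 - deg (a : G → ℂ) = deg (b : G → ℂ) by omega])
  have hS : ∑ χ : IrrCharacter G, mult D j χ * deg (χ : G → ℂ) ^ 2 =
      deg (a : G → ℂ) ^ 2 + deg (b : G → ℂ) ^ 2 := by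
    rw [Finset.sum_eq_add a b hab (fun c _ hc => by rw [h0 c hc.1 hc.2, zero_mul]) (by simp) (by simp),
      ha, hb, one_mul, one_mul]
  let one : IrrCharacter G := ⟨fun _ => 1, isIrrCharacter_one⟩
  have hone : ∀ χ : IrrCharacter G, deg (χ : G → ℂ) = 1 → χ = one := fun χ h =>
    Subtype.ext (funext (deg_one_trivial D χ h))
  have hone0 : mult D 0 one = 1 := by
    have h := mult_spec D 0 one
    have e : lam D.B D.ψ 0 = fun _ => 1 := funext fun b => by rw [lam_apply, pow_zero]
    rw [e] at h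
    have e2 : (fun b : D.B => (one : G → ℂ) b) = fun _ => 1 := rfl
    rw [e2, irr_self isIrrCharacter_one] at h
    exact_mod_cast h.symm
  constructor
  · rintro rfl
    have : one = a ∨ one = b := by
      by_contra hne
      push Not at hne
      rw [h0 one hne.1 hne.2] at hone0
      omega
    have hd1 : deg (one : G → ℂ) = 1 := by simp [deg, one]
    rw [hS]
    rcases this with e | e
    · rw [← e, hd1] at hsum ⊢
      rw [show deg (b : G → ℂ) = 27 by omega]
      norm_num
    · rw [← e, hd1] at hsum ⊢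
      rw [show deg (a : G → ℂ) = 27 by omega]
      norm_num
  · intro hj0
    have hno : mult D j one = 0 := by
      by_contra hne
      have h1 := fixU_of_even D hj he one hne
      have h2 := fixU_of_even D (j := 0) (by omega) rfl one (by omega)
      have h3 : mult D j one + mult D 0 one ≤ fixU D one := by
        rw [← Finset.sum_pair (f := fun i => mult D i one) hj0]
        exact Finset.sum_le_sum_of_subset fun i hi => by
          simp only [Finset.mem_insert, Finset.mem_singleton] at hi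
          rw [Finset.mem_range]; omega
      omega
    have hna : deg (a : G → ℂ) ≠ 1 := fun e => by rw [hone a e] at ha; omega
    have hnb : deg (b : G → ℂ) ≠ 1 := fun e => by rw [hone b e] at hb; omega
    rw [hS]
    rcases hsz with e | e | e | e
    · omega
    · omega
    · have eb : deg (b : G → ℂ) = 21 := by omega
      exact ⟨by rw [e, eb]; norm_num, b, eb⟩
    · have eb : deg (b : G → ℂ) = 7 := by omega
      exact ⟨by rw [e, eb]; norm_num, a, e⟩

theorem one_constituent {j : ℕ} (hj : j = 1 ∨ j = 3) :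
    ∃ a : IrrCharacter G, mult D j a = 1 ∧ (∀ c, c ≠ a → mult D j c = 0) ∧ deg (a : G → ℂ) = 28 := by
  classical
  have h := sum_mult_mul D j j
  rw [if_pos rfl, if_neg (by omega), add_zero] at h
  obtain ⟨a, -, hane⟩ := Finset.exists_ne_zero_of_sum_ne_zero (h ▸ one_ne_zero :
    ∑ χ : IrrCharacter G, mult D j χ * mult D j χ ≠ 0)
  rw [← Finset.add_sum_erase _ _ (Finset.mem_univ a)] at h
  have hpos := Nat.one_le_iff_ne_zero.2 hane
  have ha : mult D j a = 1 := Nat.eq_one_of_mul_eq_one_right (show mult D j a * mult D j a = 1 by omega)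
  have h0 : ∀ c, c ≠ a → mult D j c = 0 := fun c hc => by
    have := (Finset.sum_eq_zero_iff.1 (show ∑ χ ∈ Finset.univ.erase a, mult D j χ * mult D j χ = 0 by omega))
      c (Finset.mem_erase.2 ⟨hc, Finset.mem_univ _⟩)
    simpa using this
  refine ⟨a, ha, h0, ?_⟩
  have hd := sum_mult_deg D j
  rw [Finset.sum_eq_single a (fun c _ hc => by rw [h0 c hc, zero_mul]) (by simp), ha, one_mul] at hd
  exact hd

/-- Representatives of the orbits of linear characters. -/
def reps : Finset ℕ := {0, 2, 4, 6, 1, 3}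

theorem sum_reps (χ : IrrCharacter G) :
    ∑ j ∈ reps, mult D j χ = if fixU D χ = 0 then 0 else 1 := by
  classical
  have hlt : ∀ j ∈ reps, j < 8 := by decide
  split_ifs with h
  · refine Finset.sum_eq_zero fun j hj => ?_
    have := mult_le_fixU D (hlt j hj) χ
    omega
  · have hA : ∀ j < 8, j % 2 = 0 → mult D j χ ≤ 1 := by
      intro j hj he
      obtain ⟨a, b, -, ha, hb, h0, -⟩ := two_constituents D hj he
      by_cases h1 : χ = a
      · rw [h1, ha]
      · by_cases h2 : χ = b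
        · rw [h2, hb]
        · rw [h0 χ h1 h2]; omega
    have hC : ∀ j, j = 1 ∨ j = 3 → mult D j χ ≤ 1 := by
      intro j hj
      obtain ⟨a, ha, h0, -⟩ := one_constituent D hj
      by_cases h1 : χ = a
      · rw [h1, ha]
      · rw [h0 χ h1]; omega
    have hle : ∀ j ∈ reps, mult D j χ ≤ 1 := by
      intro j hj
      simp only [reps, Finset.mem_insert, Finset.mem_singleton] at hj
      rcases hj with rfl | rfl | rfl | rfl | rfl | rfl
      · exact hA 0 (by omega) rfl
      · exact hA 2 (by omega) rfl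
      · exact hA 4 (by omega) rfl
      · exact hA 6 (by omega) rfl
      · exact hC 1 (Or.inl rfl)
      · exact hC 3 (Or.inr rfl)
    have horth : ∀ j ∈ reps, ∀ k ∈ reps, j ≠ k → mult D j χ = 0 ∨ mult D k χ = 0 := by
      intro j hj k hk hjk
      have h2 := sum_mult_mul D j k
      have hne : ∀ j ∈ reps, ∀ k ∈ reps, j ≠ k → j % 8 ≠ k % 8 ∧ j % 8 ≠ 5 * k % 8 := by decide
      rw [if_neg (hne j hj k hk hjk).1, if_neg (hne j hj k hk hjk).2] at h2
      exact mul_eq_zero.1 ((Finset.sum_eq_zero_iff.1 h2) χ (Finset.mem_univ _))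
    obtain ⟨i, hi, hine⟩ := Finset.exists_ne_zero_of_sum_ne_zero h
    rw [Finset.mem_range] at hi
    obtain ⟨j, hj, hjne⟩ : ∃ j ∈ reps, mult D j χ ≠ 0 := by
      by_cases hir : i ∈ reps
      · exact ⟨i, hir, hine⟩
      · have hi' : i = 5 ∨ i = 7 := by
          simp only [reps, Finset.mem_insert, Finset.mem_singleton] at hir
          omega
        have hi5 : (i - 4 = 1 ∨ i - 4 = 3) := by omega
        refine ⟨i - 4, by rcases hi5 with e | e <;> rw [e] <;> decide, fun h0' => hine ?_⟩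
        obtain ⟨a, ha, h0, -⟩ := one_constituent D hi5
        have h1 := sum_mult_mul D (i - 4) i
        have h2 := sum_mult_mul D i i
        rw [if_neg (by omega), if_pos (by omega)] at h1
        rw [if_pos rfl, if_neg (by omega)] at h2
        rw [Finset.sum_eq_single a (fun c _ hc => by rw [h0 c hc, zero_mul]) (by simp), ha, one_mul,
          zero_add] at h1
        by_contra hne
        have hca : χ ≠ a := fun e => by rw [e] at h0'; omega
        have := Finset.add_le_sum (f := fun c => mult D i c * mult D i c) (s := (Finset.univ : Finset (IrrCharacter G)))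
          (fun _ _ => Nat.zero_le _) (Finset.mem_univ χ) (Finset.mem_univ a) hca
        simp only [h2, h1] at this
        have : 0 < mult D i χ * mult D i χ := Nat.pos_of_ne_zero (mul_ne_zero hne hne)
        omega
    rw [Finset.sum_eq_single j (fun k hk hkj => (horth k hk j hj hkj).resolve_right hjne) (fun h => absurd hj h)]
    have := hle j hj
    omega

include D in
/-- The sum of squares of the degrees of the characters outside the principal series. -/
theorem sum_cuspidal :
    ∑ χ ∈ Finset.univ.filter (fun χ : IrrCharacter G => fixU D χ = 0), deg (χ : G → ℂ) ^ 2 = 2280 := by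
  classical
  have htot : ∑ χ : IrrCharacter G, deg (χ : G → ℂ) ^ 2 = 6048 := by
    have := sum_sq_deg (G := G)
    rw [D.hG, Finset.sum_congr rfl fun χ _ => by rw [char_one_eq_deg (irr_isCharacter χ.2)]] at this
    exact_mod_cast this
  rw [← Finset.sum_filter_add_sum_filter_not Finset.univ (fun χ : IrrCharacter G => fixU D χ = 0)] at htot
  have hrest : ∑ χ ∈ Finset.univ.filter (fun χ : IrrCharacter G => ¬ fixU D χ = 0), deg (χ : G → ℂ) ^ 2 = 3768 := by
    rw [Finset.sum_filter, Finset.sum_congr rfl (g := fun χ => ∑ j ∈ reps, mult D j χ * deg (χ : G → ℂ) ^ 2)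
      (fun χ _ => by rw [← Finset.sum_mul, sum_reps]; split_ifs <;> simp), Finset.sum_comm]
    simp only [reps]
    rw [Finset.sum_insert (by decide), Finset.sum_insert (by decide), Finset.sum_insert (by decide),
      Finset.sum_insert (by decide), Finset.sum_insert (by decide), Finset.sum_singleton,
      (sum_deg_pair D (j := 0) (by omega) rfl).1 rfl, ((sum_deg_pair D (j := 2) (by omega) rfl).2 (by omega)).1,
      ((sum_deg_pair D (j := 4) (by omega) rfl).2 (by omega)).1,
      ((sum_deg_pair D (j := 6) (by omega) rfl).2 (by omega)).1]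
    have h28 : ∀ j, j = 1 ∨ j = 3 → ∑ χ : IrrCharacter G, mult D j χ * deg (χ : G → ℂ) ^ 2 = 784 := by
      intro j hj
      obtain ⟨a, ha, h0, hd⟩ := one_constituent D hj
      rw [Finset.sum_eq_single a (fun c _ hc => by rw [h0 c hc, zero_mul]) (by simp), ha, hd]
      norm_num
    rw [h28 1 (Or.inl rfl), h28 3 (Or.inr rfl)]
    all_goals norm_num
  omega

include D in
theorem cuspidal_shape (χ : IrrCharacter G) (hf : fixU D χ = 0) :
    ∃ k m : ℕ, deg (χ : G → ℂ) = 8 * k + 6 * m ∧ 0 < m := by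
  obtain ⟨nz, nx, h, h1, h2, hle, htriv⟩ := value_facts D χ
  have hne : nz ≠ deg (χ : G → ℂ) := by
    intro e
    have hall := htriv e
    have hfu := fixU_eq D χ
    rw [hall, hall, hf] at hfu
    have hp := deg_pos χ.2
    have : ((0 : ℕ) : ℂ) = ((27 * deg (χ : G → ℂ) : ℕ) : ℂ) := by push_cast at hfu ⊢; linear_combination hfu
    have := Nat.cast_injective this
    omega
  exact ⟨nz / 8, (deg (χ : G → ℂ) - nz) / 6, by omega, by omega⟩

set_option synthInstance.maxSize 512 in
theorem cuspidal_degrees : ∀ d : ℕ, d < 48 → d ∣ 6048 → ¬ 3 ∣ d →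
    (∃ k < 6, ∃ m < 9, d = 8 * k + 6 * (m + 1)) → d = 14 ∨ d = 28 ∨ d = 32 := by decide +kernel

include D in
/-- There are degrees divisible by `6`, `14` and `21`. -/
theorem degree_witnesses :
    (∃ d ∈ charDegrees G, 6 ∣ d) ∧ (∃ d ∈ charDegrees G, 14 ∣ d) ∧ (∃ d ∈ charDegrees G, 21 ∣ d) := by
  classical
  refine ⟨?_, ?_, ?_⟩
  · by_contra hcon
    push Not at hcon
    have hsh : ∀ χ ∈ Finset.univ.filter (fun χ : IrrCharacter G => fixU D χ = 0),
        deg (χ : G → ℂ) = 14 ∨ deg (χ : G → ℂ) = 28 ∨ deg (χ : G → ℂ) = 32 := by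
      intro χ hχ
      obtain ⟨k, m, hkm, hm⟩ := cuspidal_shape D χ (Finset.mem_filter.1 hχ).2
      have hbd := Finset.single_le_sum (f := fun ψ : IrrCharacter G => deg (ψ : G → ℂ) ^ 2)
        (fun _ _ => Nat.zero_le _) hχ
      simp only [sum_cuspidal D] at hbd
      have hlt : deg (χ : G → ℂ) < 48 := by
        by_contra hge
        nlinarith
      have hd := deg_dvd_card χ.2
      rw [D.hG] at hd
      have h3 : ¬ 3 ∣ deg (χ : G → ℂ) := fun h3 =>
        hcon _ ⟨χ, rfl⟩ (Nat.Coprime.mul_dvd_of_dvd_of_dvd (by norm_num : Nat.Coprime 2 3) ⟨4 * k + 3 * m, by rw [charDegree_eq_deg]; omega⟩ h3)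
      exact cuspidal_degrees _ hlt hd h3 ⟨k, by omega, m - 1, by omega, by omega⟩
    have hrep : ∃ a b c : ℕ, ∑ χ ∈ Finset.univ.filter (fun χ : IrrCharacter G => fixU D χ = 0),
        deg (χ : G → ℂ) ^ 2 = 196 * a + 784 * b + 1024 * c := by
      refine Finset.sum_induction _ (fun s => ∃ a b c : ℕ, s = 196 * a + 784 * b + 1024 * c) ?_
        ⟨0, 0, 0, rfl⟩ ?_
      · rintro _ _ ⟨a, b, c, rfl⟩ ⟨a', b', c', rfl⟩
        exact ⟨a + a', b + b', c + c', by ring⟩
      · intro χ hχ
        rcases hsh χ hχ with e | e | e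
        · exact ⟨1, 0, 0, by rw [e]; norm_num⟩
        · exact ⟨0, 1, 0, by rw [e]; norm_num⟩
        · exact ⟨0, 0, 1, by rw [e]; norm_num⟩
    obtain ⟨a, b, c, habc⟩ := hrep
    rw [sum_cuspidal D] at habc
    omega
  · obtain ⟨a, -, -, hd⟩ := one_constituent D (Or.inl rfl)
    exact ⟨28, ⟨a, hd⟩, by norm_num⟩
  · obtain ⟨χ, hχ⟩ := ((sum_deg_pair D (j := 2) (by omega) rfl).2 (by omega)).2
    exact ⟨21, ⟨χ, hχ⟩, dvd_rfl⟩

end Cfsg.Agent.Lie.SU33
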