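import Cfsg.Agent.Lib.Lie.SU3Three
import Cfsg.Agent.Lib.Lie.SU33Degrees
import Cfsg.Agent.Lib.Local.FS.SimplePSU3
import Cfsg.Agent.S0283

/-!
The Borel subgroup of `SU(3,3)` in coordinates.
-/

set_option autoImplicit false
set_option maxHeartbeats 1000000
open scoped Matrix
open Cfsg

namespace Cfsg.Agent.Lie.SU33

variable {F : Type*} [Field F] [Fintype F]

local notation "M3" => Matrix (Fin 3) (Fin 3) F
local notation "G3" => Subtype (fun g => g ∈ Cfsg.SU 3 F 3)

/-- Change to a basis `v, u, w` with `v, w` isotropic. -/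
def T : M3 := !![1, 1, 1; 1, -1, 1; 1, 0, -1]

/-- The inverse of `T`. -/
def Ti : M3 := !![1, 1, -1; -1, 1, 0; 1, 1, 1]

/-- The Gram matrix of the basis `v, u, w`. -/
def K : M3 := !![0, 0, 1; 0, -1, 0; 1, 0, 0]

variable [CharP F 3]

omit [Fintype F] in
theorem three_eq_zero : (3 : F) = 0 := by
  have := CharP.cast_eq_zero F 3
  exact_mod_cast this

omit [Fintype F] in
theorem T_mul_Ti : (T : M3) * Ti = 1 := by
  have h := three_eq_zero (F := F)
  ext i j
  fin_cases i <;> fin_cases j <;> simp [T, Ti, Matrix.mul_apply, Fin.sum_univ_three] <;>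
    first
      | linear_combination h
      | linear_combination (-1 : F) * h

omit [Fintype F] in
theorem Ti_mul_T : (Ti : M3) * T = 1 := mul_eq_one_comm.1 T_mul_Ti

omit [Fintype F] in
theorem T_gram : (T : M3)ᵀ * T = K := by
  have h := three_eq_zero (F := F)
  ext i j
  fin_cases i <;> fin_cases j <;> simp [T, K, Matrix.mul_apply, Fin.sum_univ_three] <;>
    first
      | linear_combination h
      | linear_combination (-1 : F) * h

omit [Fintype F] in
theorem map_T : (T : M3).map (frobenius F 3) = T := by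
  haveI : Fact (Nat.Prime 3) := ⟨Nat.prime_three⟩
  ext i j
  fin_cases i <;> fin_cases j <;> simp [T]

omit [Fintype F] in
theorem map_Ti : (Ti : M3).map (frobenius F 3) = Ti := by
  haveI : Fact (Nat.Prime 3) := ⟨Nat.prime_three⟩
  ext i j
  fin_cases i <;> fin_cases j <;> simp [Ti]

/-- The matrix of an element in the basis `v, u, w`. -/
def coord : G3 →* M3 where
  toFun g := Ti * g.1.1 * T
  map_one' := by simp [Ti_mul_T]
  map_mul' g g' := by
    show Ti * (g.1.1 * g'.1.1) * T = Ti * g.1.1 * T * (Ti * g'.1.1 * T)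
    simp [mul_assoc, ← mul_assoc T Ti, T_mul_Ti]

omit [Fintype F] in
theorem coord_inj {g g' : G3} (h : coord g = coord g') : g = g' := by
  refine Subtype.ext (Subtype.ext ?_)
  have := congrArg (fun M => T * M * Ti) h
  simpa [coord, mul_assoc, ← mul_assoc T Ti, T_mul_Ti] using this

omit [Fintype F] in
theorem coord_gram (g : G3) : (coord g)ᵀ * K * (coord g).map (frobenius F 3) = K := by
  haveI : Fact (Nat.Prime 3) := ⟨Nat.prime_three⟩
  have h := (SU3Three.mem_SU_iff g.1).1 g.2
  show (Ti * g.1.1 * T)ᵀ * K * (Ti * g.1.1 * T).map (frobenius F 3) = K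
  rw [Matrix.map_mul, Matrix.map_mul, map_T, map_Ti, Matrix.transpose_mul, Matrix.transpose_mul]
  have e : (Ti : M3)ᵀ * K * Ti = 1 := by
    rw [← T_gram, ← mul_assoc, ← Matrix.transpose_mul, T_mul_Ti, Matrix.transpose_one, one_mul, T_mul_Ti]
  calc Tᵀ * (g.1.1ᵀ * Tiᵀ) * K * (Ti * g.1.1.map (frobenius F 3) * T)
      = Tᵀ * (g.1.1ᵀ * (Tiᵀ * K * Ti) * g.1.1.map (frobenius F 3)) * T := by simp only [mul_assoc]
    _ = K := by rw [e, mul_one, h, mul_one, T_gram]

omit [Fintype F] in
theorem coord_det (g : G3) : (coord g).det = 1 := by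
  show (Ti * g.1.1 * T).det = 1
  rw [Matrix.det_mul, Matrix.det_mul, g.1.2, mul_one, ← Matrix.det_mul, Ti_mul_T, Matrix.det_one]

/-- An element with given coordinates. -/
def mk (M : M3) (h : Mᵀ * K * M.map (frobenius F 3) = K) (hd : M.det = 1) : G3 :=
  ⟨⟨T * M * Ti, by rw [Matrix.det_mul, Matrix.det_mul, hd, mul_one, ← Matrix.det_mul, T_mul_Ti, Matrix.det_one]⟩, by
    refine (SU3Three.mem_SU_iff _).2 ?_
    show (T * M * Ti)ᵀ * (T * M * Ti).map (frobenius F 3) = 1
    rw [Matrix.map_mul, Matrix.map_mul, map_T, map_Ti, Matrix.transpose_mul, Matrix.transpose_mul]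
    have e : (Ti : M3)ᵀ * K * Ti = 1 := by
      rw [← T_gram, ← mul_assoc, ← Matrix.transpose_mul, T_mul_Ti, Matrix.transpose_one, one_mul, T_mul_Ti]
    calc Tiᵀ * (Mᵀ * Tᵀ) * (T * M.map (frobenius F 3) * Ti)
        = Tiᵀ * (Mᵀ * (Tᵀ * T) * M.map (frobenius F 3)) * Ti := by simp only [mul_assoc]
      _ = 1 := by rw [T_gram, h, e]⟩

omit [Fintype F] in
theorem coord_mk (M : M3) (h : Mᵀ * K * M.map (frobenius F 3) = K) (hd : M.det = 1) :
    coord (mk M h hd) = M := by
  show Ti * (T * M * Ti) * T = M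
  simp [mul_assoc, Ti_mul_T, ← mul_assoc Ti T]

/-- The stabiliser of the isotropic point `v`. -/
def borelMonoid : Submonoid G3 where
  carrier := {g | coord g 1 0 = 0 ∧ coord g 2 0 = 0}
  one_mem' := by simp
  mul_mem' := fun {g g'} h h' => by
    simp only [Set.mem_ofPred_eq, map_mul, Matrix.mul_apply, Fin.sum_univ_three] at *
    simp [h.1, h.2, h'.1, h'.2]

omit [Fintype F] in
theorem inv_mem_of_finite {G : Type*} [Group G] [Finite G] (S : Submonoid G) {g : G} (hg : g ∈ S) : g⁻¹ ∈ S := by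
  rw [inv_eq_of_mul_eq_one_right (b := g ^ (orderOf g - 1)) (by
    rw [← pow_succ', Nat.sub_add_cancel (orderOf_pos g), pow_orderOf_eq_one])]
  exact pow_mem hg _

/-- The Borel subgroup. -/
def borel : Subgroup G3 :=
  { borelMonoid with inv_mem' := fun h => inv_mem_of_finite borelMonoid h }

theorem mem_borel (g : G3) : g ∈ borel ↔ coord g 1 0 = 0 ∧ coord g 2 0 = 0 := Iff.rfl

theorem pow_nine (x : F) (hF : Fintype.card F = 9) : x ^ 9 = x := hF ▸ FiniteField.pow_card x

/-- The equations satisfied by the coordinates of an element of the Borel subgroup. -/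
theorem borel_eqs {g : G3} (hg : g ∈ borel) :
    coord g 1 0 = 0 ∧ coord g 2 0 = 0 ∧ coord g 2 1 = 0 ∧
    coord g 0 0 * coord g 2 2 ^ 3 = 1 ∧ coord g 0 0 * coord g 1 1 * coord g 2 2 = 1 ∧
    coord g 0 1 * coord g 2 2 ^ 3 = coord g 1 1 * coord g 1 2 ^ 3 ∧
    coord g 0 2 * coord g 2 2 ^ 3 + coord g 2 2 * coord g 0 2 ^ 3 = coord g 1 2 ^ 4 := by
  haveI : Fact (Nat.Prime 3) := ⟨Nat.prime_three⟩
  obtain ⟨h10, h20⟩ := (mem_borel g).1 hg
  have hG := coord_gram g
  have hd := coord_det g
  have e01 := congrArg (fun M : M3 => M 0 1) hG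
  have e02 := congrArg (fun M : M3 => M 0 2) hG
  have e12 := congrArg (fun M : M3 => M 1 2) hG
  have e22 := congrArg (fun M : M3 => M 2 2) hG
  simp [K, Matrix.mul_apply, Fin.sum_univ_three, h10, h20, frobenius_def] at e01 e02 e12 e22
  have hc : coord g 0 0 ≠ 0 := fun h => by rw [h] at e02; simp at e02
  have h21 : coord g 2 1 = 0 := by
    rcases e01 with h | h
    · exact absurd h hc
    · exact h
  simp [Matrix.det_fin_three, h10, h20, h21] at hd
  simp [h21] at e12
  exact ⟨h10, h20, h21, e02, hd, by linear_combination e12, by linear_combination e22⟩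

theorem corner_mul {g g' : G3} (hg : g ∈ borel) (hg' : g' ∈ borel) :
    coord (g * g') 0 0 = coord g 0 0 * coord g' 0 0 := by
  obtain ⟨h1', h2'⟩ := (mem_borel g').1 hg'
  simp [Matrix.mul_apply, Fin.sum_univ_three, h1', h2']

/-- The eigenvalue on `v`. -/
def eigenV : (borel (F := F)) →* Fˣ :=
  MonoidHom.toHomUnits
    { toFun := fun g => coord g.1 0 0
      map_one' := by simp
      map_mul' := fun g g' => corner_mul g.2 g'.2 }

theorem eigenV_val (g : borel (F := F)) : ((eigenV g : Fˣ) : F) = coord g.1 0 0 := rfl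

/-- An upper unitriangular element. -/
def uni (f b : F) : M3 := !![1, f ^ 3, b; 0, 1, f; 0, 0, 1]

omit [Fintype F] in
theorem uni_mul (f b f' b' : F) :
    (uni f b : M3) * uni f' b' = uni (f + f') (b + b' + f ^ 3 * f') := by
  haveI : Fact (Nat.Prime 3) := ⟨Nat.prime_three⟩
  have e : (f + f') ^ 3 = f ^ 3 + f' ^ 3 := add_pow_char f f' 3
  ext i j
  fin_cases i <;> fin_cases j <;> simp [uni, Matrix.mul_apply, Fin.sum_univ_three, e] <;> ring

omit [Fintype F] in
theorem uni_zero : (uni 0 0 : M3) = 1 := by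
  ext i j
  fin_cases i <;> fin_cases j <;> simp [uni]

theorem pow_nine' [hF : Fact (Fintype.card F = 9)] (x : F) : x ^ 9 = x := hF.out ▸ FiniteField.pow_card x

theorem uni_gram [Fact (Fintype.card F = 9)] {f b : F} (hb : b + b ^ 3 = f ^ 4) :
    (uni f b : M3)ᵀ * K * (uni f b).map (frobenius F 3) = K ∧ (uni f b : M3).det = 1 := by
  haveI : Fact (Nat.Prime 3) := ⟨Nat.prime_three⟩
  constructor
  · ext i j
    fin_cases i <;> fin_cases j <;> simp [uni, K, Matrix.mul_apply, Fin.sum_univ_three, frobenius_def] <;>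
      first
        | linear_combination hb
        | linear_combination pow_nine' f
        | linear_combination (-1 : F) * pow_nine' f
        | ring1
  · simp [uni, Matrix.det_fin_three]

/-- An element of the unipotent radical. -/
def uniG [Fact (Fintype.card F = 9)] (f b : F) (hb : b + b ^ 3 = f ^ 4) : G3 := mk (uni f b) (uni_gram hb).1 (uni_gram hb).2

theorem uniG_mem [Fact (Fintype.card F = 9)] (f b : F) (hb : b + b ^ 3 = f ^ 4) : uniG f b hb ∈ borel := by
  rw [mem_borel, uniG, coord_mk]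
  simp [uni]

theorem coord_uniG [Fact (Fintype.card F = 9)] (f b : F) (hb : b + b ^ 3 = f ^ 4) : coord (uniG f b hb) = uni f b := coord_mk _ _ _

theorem cube_inj {x y : F} (h : x ^ 3 = y ^ 3) : x = y := by
  haveI : Fact (Nat.Prime 3) := ⟨Nat.prime_three⟩
  exact frobenius_inj F 3 (by simpa [frobenius_def] using h)

theorem kernel_coord {g : borel (F := F)} (hg : eigenV g = 1) :
    coord g.1 = uni (coord g.1 1 2) (coord g.1 0 2) ∧
      coord g.1 0 2 + coord g.1 0 2 ^ 3 = coord g.1 1 2 ^ 4 := by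
  obtain ⟨h10, h20, h21, hcd, hdet, ha, hb⟩ := borel_eqs g.2
  have hc : coord g.1 0 0 = 1 := by rw [← eigenV_val, hg, Units.val_one]
  rw [hc, one_mul] at hcd hdet
  have hd : coord g.1 2 2 = 1 := cube_inj (by rw [hcd, one_pow])
  rw [hd] at hdet ha hb
  rw [mul_one] at hdet
  rw [hdet] at ha
  refine ⟨?_, by linear_combination hb⟩
  ext i j
  fin_cases i <;> fin_cases j <;> simp [uni, h10, h20, h21, hc, hd, hdet]
  linear_combination ha

theorem kernel_pow_three {g : borel (F := F)} (hg : eigenV g = 1) : (g : G3) ^ 3 = 1 := by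
  have h3 := three_eq_zero (F := F)
  refine coord_inj ?_
  obtain ⟨e, -⟩ := kernel_coord hg
  rw [pow_succ, pow_two, map_mul, map_mul, map_one, e, uni_mul, uni_mul, ← uni_zero]
  haveI : Fact (Nat.Prime 3) := ⟨Nat.prime_three⟩
  rw [add_pow_char]
  congr 1
  · linear_combination (coord g.1 1 2) * h3
  · linear_combination (coord g.1 0 2 + coord g.1 1 2 ^ 4) * h3

/-- A generator of `Fˣ`. -/
theorem exists_gen (hF : Fintype.card F = 9) :
    ∃ g : Fˣ, (∀ x, x ∈ Subgroup.zpowers g) ∧ orderOf g = 8 ∧ (g : F) ^ 4 = -1 := by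
  classical
  obtain ⟨g, hg⟩ := IsCyclic.exists_generator (α := Fˣ)
  have ho : orderOf g = 8 := by
    rw [orderOf_eq_card_of_forall_mem_zpowers hg, Nat.card_eq_fintype_card, Fintype.card_units, hF]
  refine ⟨g, hg, ho, ?_⟩
  have h8 : ((g : F) ^ 4) * ((g : F) ^ 4) = 1 := by
    rw [← pow_add, ← Units.val_pow_eq_pow_val]
    have : g ^ (4 + 4) = 1 := by rw [show 4 + 4 = orderOf g by rw [ho]]; exact pow_orderOf_eq_one g
    rw [this, Units.val_one]
  rcases mul_self_eq_one_iff.1 h8 with h | h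
  · exfalso
    have : g ^ 4 = 1 := Units.ext (by simpa using h)
    have := orderOf_dvd_of_pow_eq_one this
    rw [ho] at this
    omega
  · exact h

/-- The torus element with eigenvalue `g` on `v`. -/
def torus (g : Fˣ) : M3 := !![(g : F), 0, 0; 0, (g : F) ^ 2, 0; 0, 0, (g : F) ^ 5]

theorem torus_gram {g : Fˣ} (h8 : (g : F) ^ 8 = 1) :
    (torus g)ᵀ * K * (torus g).map (frobenius F 3) = K ∧ (torus g).det = 1 := by
  haveI : Fact (Nat.Prime 3) := ⟨Nat.prime_three⟩
  constructor
  · ext i j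
    fin_cases i <;> fin_cases j <;> simp [torus, K, Matrix.mul_apply, Fin.sum_univ_three, frobenius_def] <;>
      first
        | linear_combination ((g : F) ^ 8 + 1) * h8
        | linear_combination h8
  · simp [torus, Matrix.det_fin_three]
    linear_combination h8

/-- The element exchanging `v` and `w`. -/
def weyl : G3 :=
  haveI : Fact (Nat.Prime 3) := ⟨Nat.prime_three⟩
  mk K (by ext i j; fin_cases i <;> fin_cases j <;>
      simp [K, Matrix.mul_apply, Fin.sum_univ_three, frobenius_def] <;> norm_num)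
    (by simp [K, Matrix.det_fin_three])

theorem coord_weyl : coord (weyl (F := F)) = K := coord_mk _ _ _

theorem weyl_sq : (weyl : G3) * weyl = 1 := by
  refine coord_inj ?_
  rw [map_mul, coord_weyl, map_one]
  ext i j
  fin_cases i <;> fin_cases j <;> simp [K, Matrix.mul_apply, Fin.sum_univ_three]

theorem weyl_not_mem : (weyl : G3) ∉ borel := by
  rw [mem_borel, coord_weyl]
  simp [K]

theorem conj_weyl_entries (g : G3) :
    coord (weyl * g * weyl⁻¹) 0 0 = coord g 2 2 ∧ coord (weyl * g * weyl⁻¹) 1 0 = -coord g 1 2 ∧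
    coord (weyl * g * weyl⁻¹) 2 0 = coord g 0 2 := by
  rw [inv_eq_of_mul_eq_one_right weyl_sq, map_mul, map_mul, coord_weyl]
  simp [K, Matrix.mul_apply, Matrix.vecMul, dotProduct, Fin.sum_univ_three]

noncomputable instance : Fintype G3 := Fintype.ofFinite _

noncomputable instance : Fintype (borel (F := F)) := Fintype.ofFinite _

theorem meet_iff (b : borel (F := F)) :
    b ∈ meetConj borel weyl ↔ coord b.1 1 2 = 0 ∧ coord b.1 0 2 = 0 := by
  obtain ⟨-, e1, e2⟩ := conj_weyl_entries b.1
  rw [mem_meetConj, mem_borel, e1, e2, neg_eq_zero]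

theorem meet_inj (b b' : borel (F := F)) (hb : b ∈ meetConj borel weyl) (hb' : b' ∈ meetConj borel weyl)
    (h : eigenV b = eigenV b') : b = b' := by
  have h' : coord b.1 0 0 = coord b'.1 0 0 := by rw [← eigenV_val, h, eigenV_val]
  obtain ⟨f0, b0⟩ := (meet_iff b).1 hb
  obtain ⟨f0', b0'⟩ := (meet_iff b').1 hb'
  obtain ⟨h10, h20, h21, hcd, hdet, ha, -⟩ := borel_eqs b.2
  obtain ⟨h10', h20', h21', hcd', hdet', ha', -⟩ := borel_eqs b'.2
  have hc0 : coord b.1 0 0 ≠ 0 := left_ne_zero_of_mul_eq_one hcd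
  have hd : coord b.1 2 2 = coord b'.1 2 2 := cube_inj (mul_left_cancel₀ hc0 (by rw [hcd, h', hcd']))
  have hd0 : coord b.1 2 2 ≠ 0 := fun e => by rw [e] at hcd; simp at hcd
  have he : coord b.1 1 1 = coord b'.1 1 1 := by
    refine mul_left_cancel₀ hc0 (mul_right_cancel₀ hd0 ?_)
    rw [hdet, h', hd, hdet']
  rw [f0] at ha
  rw [f0'] at ha'
  simp at ha ha'
  have a0 : coord b.1 0 1 = 0 := ha.resolve_right hd0
  have a0' : coord b'.1 0 1 = 0 := ha'.resolve_right (hd ▸ hd0)
  refine Subtype.ext (coord_inj ?_)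
  ext i j
  fin_cases i <;> fin_cases j <;> simp [h10, h20, h21, h10', h20', h21', f0, f0', b0, b0', a0, a0', h', hd, he]

theorem card_roots (hF : Fintype.card F = 9) : Nat.card {t : F // t + t ^ 3 = 0} = 3 := by
  classical
  obtain ⟨g, -, -, hg4⟩ := exists_gen hF
  set j : F := (g : F) ^ 2 with hj
  have hj2 : j ^ 2 = -1 := by rw [hj, ← pow_mul]; exact hg4
  have hj0 : j ≠ 0 := by simp [hj]
  have hjj : j ≠ -j := fun e => hj0 (by linear_combination j * (three_eq_zero (F := F)) - e)
  have hmem : ∀ t : F, t ∈ ({0, j, -j} : Finset F) ↔ t + t ^ 3 = 0 := by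
    intro t
    simp only [Finset.mem_insert, Finset.mem_singleton]
    constructor
    · rintro (rfl | rfl | rfl)
      · ring
      · linear_combination j * hj2
      · linear_combination -j * hj2
    · intro h
      have : t * ((t - j) * (t + j)) = 0 := by linear_combination h - t * hj2
      rcases mul_eq_zero.1 this with h | h
      · exact Or.inl h
      · rcases mul_eq_zero.1 h with h | h
        · exact Or.inr (Or.inl (sub_eq_zero.1 h))
        · exact Or.inr (Or.inr (eq_neg_of_add_eq_zero_left h))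
  rw [← Nat.card_congr (Equiv.subtypeEquivRight hmem), Nat.card_eq_fintype_card, Fintype.card_coe,
    Finset.card_insert_of_notMem (by simp only [Finset.mem_insert, Finset.mem_singleton, not_or]; exact ⟨Ne.symm hj0, fun e => hj0 (neg_eq_zero.1 e.symm)⟩), Finset.card_pair hjj]

theorem base_solution (hF : Fintype.card F = 9) (f : F) : (-f ^ 4) + (-f ^ 4) ^ 3 = f ^ 4 := by
  linear_combination (-f ^ 3) * pow_nine f hF - f ^ 4 * (three_eq_zero (F := F))

theorem cube_add (x y : F) : (x + y) ^ 3 = x ^ 3 + y ^ 3 := by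
  haveI : Fact (Nat.Prime 3) := ⟨Nat.prime_three⟩
  exact add_pow_char x y 3

theorem card_kernel [Fact (Fintype.card F = 9)] (hF : Fintype.card F = 9) : Nat.card (eigenV (F := F)).ker = 27 := by
  classical
  have h1 : ∀ (f t : F), t + t ^ 3 = 0 → (-f ^ 4 + t) + (-f ^ 4 + t) ^ 3 = f ^ 4 := fun f t ht => by
    rw [cube_add]
    linear_combination base_solution hF f + ht
  let φ : F × {t : F // t + t ^ 3 = 0} → (eigenV (F := F)).ker := fun p =>
    ⟨⟨uniG p.1 (-p.1 ^ 4 + p.2.1) (h1 p.1 p.2.1 p.2.2), uniG_mem _ _ _⟩,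
      MonoidHom.mem_ker.2 (Units.ext (by rw [eigenV_val, coord_uniG]; simp [uni]))⟩
  have hbij : Function.Bijective φ := by
    constructor
    · rintro ⟨f, t, ht⟩ ⟨f', t', ht'⟩ e
      have e' := congrArg (fun g : (eigenV (F := F)).ker => coord g.1.1) e
      simp only [φ, coord_uniG] at e'
      have ef := congrArg (fun M : M3 => M 1 2) e'
      have eb := congrArg (fun M : M3 => M 0 2) e'
      simp [uni] at ef eb
      subst ef
      simp at eb
      subst eb
      rfl
    · intro g
      obtain ⟨hu, hb⟩ := kernel_coord (MonoidHom.mem_ker.1 g.2)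
      set f := coord g.1.1 1 2
      set b := coord g.1.1 0 2
      have ht : (b + f ^ 4) + (b + f ^ 4) ^ 3 = 0 := by
        rw [cube_add]
        linear_combination hb - base_solution hF f + f ^ 4 * (0 : F)
      refine ⟨(f, ⟨b + f ^ 4, ht⟩), Subtype.ext (Subtype.ext (coord_inj ?_))⟩
      simp only [φ, coord_uniG]
      rw [hu]
      congr 1
      ring
  rw [← Nat.card_congr (Equiv.ofBijective φ hbij), Nat.card_prod, card_roots hF, Nat.card_eq_fintype_card, hF]

/-- The centre of the unipotent radical. -/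
def centreU : Subgroup (borel (F := F)) where
  carrier := {b | eigenV b = 1 ∧ coord b.1 1 2 = 0}
  one_mem' := by simp
  mul_mem' := fun {a b} ha hb => by
    refine ⟨by rw [map_mul, ha.1, hb.1, one_mul], ?_⟩
    rw [Subgroup.coe_mul, map_mul, (kernel_coord ha.1).1, (kernel_coord hb.1).1, uni_mul]
    simp [uni, ha.2, hb.2]
  inv_mem' := fun {a} ha => by
    refine ⟨by rw [map_inv, ha.1, inv_one], ?_⟩
    have h1 : eigenV a⁻¹ = 1 := by rw [map_inv, ha.1, inv_one]
    have h : coord (a.1 * (a⁻¹).1) = 1 := by rw [← Subgroup.coe_mul, mul_inv_cancel, Subgroup.coe_one, map_one]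
    rw [map_mul, (kernel_coord ha.1).1, (kernel_coord h1).1, uni_mul, ← uni_zero] at h
    have := congrArg (fun M : M3 => M 1 2) h
    simp [uni, ha.2] at this
    exact this

theorem card_centreU [Fact (Fintype.card F = 9)] (hF : Fintype.card F = 9) : Nat.card (centreU (F := F)) = 3 := by
  refine (Nat.card_congr ?_).trans (card_roots hF)
  exact
    { toFun := fun g => ⟨coord g.1.1 0 2, by
        have := (kernel_coord g.2.1).2
        rw [g.2.2] at this
        simpa using this⟩
      invFun := fun t => ⟨⟨uniG 0 t.1 (by simpa using t.2), uniG_mem _ _ _⟩,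
        Units.ext (by rw [eigenV_val, coord_uniG]; simp [uni]), by rw [coord_uniG]; simp [uni]⟩
      left_inv := fun g => Subtype.ext (Subtype.ext (coord_inj (by
        simp only [coord_uniG]
        rw [(kernel_coord g.2.1).1, g.2.2]
        simp [uni])))
      right_inv := fun t => Subtype.ext (by simp [coord_uniG, uni]) }

theorem conj_uni {k : G3} {M M' : M3} {x y : G3} (hk : coord k = M) (hM : M * coord x = M' * M)
    (hy : coord y = M') : IsConj x y := by
  refine isConj_iff.2 ⟨k, ?_⟩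
  rw [mul_inv_eq_iff_eq_mul]
  refine coord_inj ?_
  rw [map_mul, map_mul, hk, hy, hM]

theorem conj_torus [Fact (Fintype.card F = 9)] {g : Fˣ} (h8 : (g : F) ^ 8 = 1) (h4 : (g : F) ^ 4 = -1) (f b : F) (hb : b + b ^ 3 = f ^ 4)
    (hb' : (-b) + (-b) ^ 3 = ((g : F) ^ 5 * f) ^ 4) :
    IsConj (uniG f b hb) (uniG ((g : F) ^ 5 * f) (-b) hb') := by
  refine conj_uni (coord_mk (torus g) (torus_gram h8).1 (torus_gram h8).2) ?_ (coord_uniG _ _ hb')
  rw [coord_uniG]
  ext i j
  fin_cases i <;> fin_cases j <;> simp [torus, uni, Matrix.mul_apply, Fin.sum_univ_three] <;>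
    first
      | linear_combination (-(g : F) * f ^ 3 * ((g : F) ^ 8 + 1)) * h8
      | linear_combination (-(g : F) ^ 2 * f) * h8
      | linear_combination ((g : F) * b) * h4
      | ring

theorem conj_fibre [Fact (Fintype.card F = 9)] (hF : Fintype.card F = 9) (f b b' : F) (hf : f ≠ 0) (hb : b + b ^ 3 = f ^ 4)
    (hb' : b' + b' ^ 3 = f ^ 4) : IsConj (uniG f b hb) (uniG f b' hb') := by
  have h3 := three_eq_zero (F := F)
  set t := b' - b with ht
  have htt : t ^ 3 = -t := by
    have := cube_add t b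
    rw [ht, sub_add_cancel] at this
    linear_combination hb' - hb - this
  have hf8 : f ^ 8 = 1 := mul_right_cancel₀ hf (by rw [← pow_succ, pow_nine f hF, one_mul])
  set g := t * f ^ 5 with hg
  refine conj_uni (coord_uniG g (-g ^ 4) (base_solution hF g)) ?_ (coord_uniG _ _ hb')
  rw [coord_uniG, uni_mul, uni_mul, add_comm f g]
  congr 1
  have e : g ^ 3 * f - f ^ 3 * g = t := by
    rw [hg]
    linear_combination (f ^ 16) * htt + (-t * (f ^ 8 + 2)) * hf8 - t * h3
  linear_combination e - ht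

theorem card_su33 (hF : Fintype.card F = 9) :
    Nat.card G3 = 6048 ∧ IsSimpleGroup G3 := by
  have hF' : Fintype.card F = 3 ^ 2 := by rw [hF]; norm_num
  obtain ⟨p, e, σ, -, -, -, -, hσ⟩ := Cfsg.Agent.Classical.exists_usigma hF'
  have h := Local.FS.PSU3Simple.card_SU3 hσ
  have hz : Nat.card (Subgroup.center G3) = 1 := by
    rw [Cfsg.Agent.Classical.UCount.card_center_SU hσ (by norm_num)]
    rfl
  refine ⟨by omega, ?_⟩
  haveI := S0283.result (q := 3) hF' 3 (by norm_num) (by omega)
  have hbot := Subgroup.card_eq_one.1 hz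
  have hinj : Function.Injective (QuotientGroup.mk' (Subgroup.center G3)) := by
    rw [← MonoidHom.ker_eq_bot_iff, QuotientGroup.ker_mk']
    exact hbot
  let e : G3 ≃* G3 ⧸ Subgroup.center G3 :=
    MulEquiv.ofBijective (QuotientGroup.mk' _) ⟨hinj, QuotientGroup.mk'_surjective _⟩
  exact e.isSimpleGroup

end Cfsg.Agent.Lie.SU33
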