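import Cfsg.Agent.Lib.Char.Linear
import Cfsg.Agent.Lib.Char.Induction

/-!
Inner products of linear characters induced from a subgroup with two double cosets.
-/

set_option autoImplicit false
open scoped ComplexConjugate
open Cfsg

namespace Cfsg.Agent.Lie.SU33

open Cfsg.Agent.Char

universe u
variable {G : Type u} [Group G] [Fintype G] (B : Subgroup G) [Fintype B] (w : G) (ψ : B →* ℂˣ)

/-- The elements of `B` which `w` conjugates into `B`. -/
def meetConj : Subgroup B := B.comap ((MulAut.conj w).toMonoidHom.comp B.subtype)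

theorem mem_meetConj (b : B) : b ∈ meetConj B w ↔ w * (b : G) * w⁻¹ ∈ B := Iff.rfl

/-- A power of `ψ`, as a function. -/
noncomputable def lam (j : ℕ) : B → ℂ := fun b => ((ψ ^ j : B →* ℂˣ) b : ℂ)

theorem lam_apply (j : ℕ) (b : B) : lam B ψ j b = ((ψ b : ℂˣ) : ℂ) ^ j := by simp [lam]

theorem lam_conj (j : ℕ) (a b : B) : lam B ψ j (a * b * a⁻¹) = lam B ψ j b := by
  simp only [lam, map_mul, map_inv]
  rw [mul_comm ((ψ ^ j) a), mul_inv_cancel_right]

open scoped Classical in
theorem sum_lam {A : Subgroup B} [Fintype A] {ζ : ℂ} (hζ : IsPrimitiveRoot ζ 8)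
    (h8 : ∀ b, ψ b ^ 8 = 1) (a : A) (ha : ((ψ a.1 : ℂˣ) : ℂ) = ζ) (j k : ℕ) :
    ∑ b : A, lam B ψ j b.1 * conj (lam B ψ k b.1) = if j % 8 = k % 8 then (Nat.card A : ℂ) else 0 := by
  have h := irr_orth (isIrrCharacter_linear ((ψ ^ j).comp A.subtype))
    (isIrrCharacter_linear ((ψ ^ k).comp A.subtype))
  simp only [classInner] at h
  rw [inv_mul_eq_iff_eq_mul₀ (Nat.cast_ne_zero.2 Nat.card_pos.ne')] at h
  refine Eq.trans (Eq.trans ?_ h) ?_
  · rfl
  have hiff : ((fun g : A => ((((ψ ^ j).comp A.subtype) g : ℂˣ) : ℂ)) =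
      (fun g : A => ((((ψ ^ k).comp A.subtype) g : ℂˣ) : ℂ))) ↔ j % 8 = k % 8 := by
    constructor
    · intro e
      have e' := congrFun e a
      simp only [MonoidHom.comp_apply, Subgroup.coe_subtype, MonoidHom.pow_apply, Units.val_pow_eq_pow_val, ha] at e'
      rw [pow_eq_pow_mod j hζ.pow_eq_one, pow_eq_pow_mod k hζ.pow_eq_one] at e'
      exact hζ.pow_inj (Nat.mod_lt _ (by norm_num)) (Nat.mod_lt _ (by norm_num)) e'
    · intro e
      funext b
      simp only [MonoidHom.comp_apply, Subgroup.coe_subtype, MonoidHom.pow_apply]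
      rw [pow_eq_pow_mod j (h8 b.1), pow_eq_pow_mod k (h8 b.1), e]
  by_cases hjk : j % 8 = k % 8
  · rw [if_pos hjk, if_pos (hiff.2 hjk), mul_one]
  · rw [if_neg hjk, if_neg (fun e => hjk (hiff.1 e)), mul_zero]

variable (hG : Nat.card G = 6048) (hB : Nat.card B = 216)
  (hH : Nat.card (meetConj B w) = 8) (hw : w ∉ B)

include hG hB hH hw in
theorem exists_bwb (x : G) (hx : x ∉ B) : ∃ b c : B, x = (b : G) * w * c := by
  classical
  let φ : B × B → G := fun p => (p.1 : G) * w * p.2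
  have hsub : Finset.univ.image φ ⊆ Finset.univ.filter (fun g => g ∉ B) := by
    intro g hg
    obtain ⟨⟨b, c⟩, -, rfl⟩ := Finset.mem_image.1 hg
    simp only [Finset.mem_filter, Finset.mem_univ, true_and, φ]
    intro h
    apply hw
    have := B.mul_mem (B.mul_mem (B.inv_mem b.2) h) (B.inv_mem c.2)
    simpa [mul_assoc] using this
  have hfib : ∀ g ∈ Finset.univ.image φ, (Finset.univ.filter fun p => φ p = g).card ≤ 8 := by
    intro g hg
    obtain ⟨⟨b, c⟩, -, rfl⟩ := Finset.mem_image.1 hg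
    rw [← hH, Nat.card_eq_fintype_card, ← Fintype.card_coe]
    have key : ∀ p : ↥(Finset.univ.filter fun p => φ p = φ (b, c)), c * p.1.2⁻¹ ∈ meetConj B w := by
      rintro ⟨⟨b', c'⟩, hp⟩
      simp only [Finset.mem_filter, Finset.mem_univ, true_and, φ] at hp
      rw [mem_meetConj]
      have : w * ((c * c'⁻¹ : B) : G) * w⁻¹ = (b : G)⁻¹ * b' := by
        have e1 : (b' : G) = (b : G) * w * c * (c' : G)⁻¹ * w⁻¹ := by
          rw [← hp]
          group
        rw [e1]
        push_cast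
        group
      rw [this]
      exact B.mul_mem (B.inv_mem b.2) b'.2
    refine Fintype.card_le_of_injective (fun p => (⟨c * p.1.2⁻¹, key p⟩ : meetConj B w)) ?_
    rintro ⟨⟨b₁, c₁⟩, h1⟩ ⟨⟨b₂, c₂⟩, h2⟩ e
    simp only [Subtype.mk.injEq, mul_right_inj, inv_inj] at e
    simp only [Finset.mem_filter, Finset.mem_univ, true_and, φ] at h1 h2
    subst e
    have : b₁ = b₂ := Subtype.ext (by simpa using h1.trans h2.symm)
    subst this
    rfl
  have hle := Finset.card_le_mul_card_image Finset.univ 8 hfib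
  have hcompl : (Finset.univ.filter (fun g : G => g ∉ B)).card = 6048 - 216 := by
    rw [Finset.filter_not, Finset.card_sdiff, Finset.inter_univ, Finset.card_univ,
      ← Nat.card_eq_fintype_card, hG]
    congr 1
    rw [← hB, Nat.card_eq_fintype_card, ← Fintype.card_subtype]
  rw [Finset.card_univ, Fintype.card_prod, ← Nat.card_eq_fintype_card, hB] at hle
  have heq := Finset.eq_of_subset_of_card_le hsub (by omega)
  have hx' : x ∈ Finset.univ.image φ := by
    rw [heq]
    simp [hx]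
  obtain ⟨⟨b, c⟩, -, e⟩ := Finset.mem_image.1 hx'
  exact ⟨b, c, e.symm⟩

variable {ζ : ℂ} (hζ : IsPrimitiveRoot ζ 8) (h8 : ∀ b, ψ b ^ 8 = 1)
  (h : meetConj B w) (hh : ((ψ h.1 : ℂˣ) : ℂ) = ζ) (hw2 : w * w = 1)
  (hflip : ∀ (b : B) (hb : w * (b : G) * w⁻¹ ∈ B), ψ ⟨_, hb⟩ = ψ b ^ 5)

include hG hB hH hw hζ h8 hh hw2 hflip in
theorem classInner_indLam (j k : ℕ) :
    classInner (indFun B (lam B ψ j)) (indFun B (lam B ψ k)) =
      (if j % 8 = k % 8 then 1 else 0) + (if j % 8 = 5 * k % 8 then 1 else 0) := by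
  classical
  have hwi : w⁻¹ = w := inv_eq_of_mul_eq_one_right hw2
  rw [frobenius B _ (isClassFunction_indFun B _)]
  have hin : ∀ x ∈ B, ∑ b : B, lam B ψ j b * conj (extendByZero B (lam B ψ k) (x⁻¹ * b * x)) =
      if j % 8 = k % 8 then (216 : ℂ) else 0 := by
    intro x hx
    have e : ∀ b : B, extendByZero B (lam B ψ k) (x⁻¹ * b * x) = lam B ψ k b := fun b => by
      rw [extendByZero_mem B _ (B.mul_mem (B.mul_mem (B.inv_mem hx) b.2) hx)]
      rw [← lam_conj B ψ k ⟨x, hx⟩⁻¹ b]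
      congr 1
      ext
      simp
    simp only [e]
    have hs := sum_lam B ψ (A := (⊤ : Subgroup B)) hζ h8 ⟨h.1, trivial⟩ hh j k
    rw [Subgroup.card_top, hB, ← Subgroup.topEquiv.symm.toEquiv.sum_comp] at hs
    simpa using hs
  have hout : ∀ x : G, x ∉ B → ∑ b : B, lam B ψ j b * conj (extendByZero B (lam B ψ k) (x⁻¹ * b * x)) =
      if j % 8 = 5 * k % 8 then (8 : ℂ) else 0 := by
    intro x hx
    obtain ⟨a, c, rfl⟩ := exists_bwb B w hG hB hH hw x hx
    rw [← (MulAut.conj a).toEquiv.sum_comp]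
    have e : ∀ b : B, extendByZero B (lam B ψ k)
        (((a : G) * w * c)⁻¹ * ((MulAut.conj a).toEquiv b : B) * ((a : G) * w * c)) =
        if b ∈ meetConj B w then lam B ψ (5 * k) b else 0 := fun b => by
      have e1 : ((a : G) * w * c)⁻¹ * ((MulAut.conj a).toEquiv b : B) * ((a : G) * w * c) =
          ((c⁻¹ : B) : G) * (w * b * w⁻¹) * ((c⁻¹ : B) : G)⁻¹ := by
        simp only [MulEquiv.toEquiv_eq_coe, EquivLike.coe_coe, MulAut.conj_apply]
        push_cast
        rw [mul_inv_rev, mul_inv_rev, hwi]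
        group
      rw [e1]
      by_cases hb : b ∈ meetConj B w
      · rw [if_pos hb, mem_meetConj] at *
        rw [extendByZero_mem B _ (B.mul_mem (B.mul_mem (c⁻¹).2 hb) (B.inv_mem (c⁻¹).2))]
        rw [show (⟨_, B.mul_mem (B.mul_mem (c⁻¹).2 hb) (B.inv_mem (c⁻¹).2)⟩ : B) =
          c⁻¹ * ⟨_, hb⟩ * (c⁻¹)⁻¹ from Subtype.ext (by simp), lam_conj, lam_apply, lam_apply,
          hflip b hb, Units.val_pow_eq_pow_val, ← pow_mul]
      · rw [if_neg hb]
        refine extendByZero_not_mem B _ fun hm => hb ?_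
        rw [mem_meetConj]
        have := B.mul_mem (B.mul_mem (B.inv_mem (c⁻¹).2) hm) (c⁻¹).2
        simpa [mul_assoc] using this
    simp only [e]
    have e2 : ∀ b : B, lam B ψ j ((MulAut.conj a).toEquiv b) = lam B ψ j b := fun b => lam_conj B ψ j a b
    simp only [e2, apply_ite conj, map_zero, mul_ite, mul_zero]
    rw [← Finset.sum_filter, Finset.sum_subtype _ (p := fun b : B => b ∈ meetConj B w) (fun b => by simp)]
    · have hs := sum_lam B ψ (A := meetConj B w) hζ h8 h hh j (5 * k)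
      rw [hH] at hs
      simpa using hs
  simp only [classInner, indFun, map_mul, map_inv₀, map_natCast, map_sum, Finset.mul_sum]
  rw [Finset.sum_comm]
  have hpull : ∀ x : G, ∑ b : B, (Nat.card B : ℂ)⁻¹ * (lam B ψ j b *
      ((Nat.card B : ℂ)⁻¹ * conj (extendByZero B (lam B ψ k) (x⁻¹ * b * x)))) =
      (216 : ℂ)⁻¹ * (216 : ℂ)⁻¹ * (if x ∈ B then (if j % 8 = k % 8 then (216 : ℂ) else 0)
        else (if j % 8 = 5 * k % 8 then (8 : ℂ) else 0)) := by
    intro x
    rw [hB]
    push_cast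
    by_cases hx : x ∈ B
    · rw [if_pos hx, ← hin x hx, Finset.mul_sum]
      exact Finset.sum_congr rfl fun b _ => by ring
    · rw [if_neg hx, ← hout x hx, Finset.mul_sum]
      exact Finset.sum_congr rfl fun b _ => by ring
  simp only [hpull]
  rw [← Finset.mul_sum, Finset.sum_ite, Finset.sum_const, Finset.sum_const]
  have c1 : (Finset.univ.filter fun x : G => x ∈ B).card = 216 := by
    rw [← Fintype.card_subtype, ← hB, Nat.card_eq_fintype_card]
  have c2 : (Finset.univ.filter fun x : G => x ∉ B).card = 5832 := by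
    have := Finset.card_filter_add_card_filter_not (s := (Finset.univ : Finset G)) (fun x => x ∈ B)
    rw [c1, Finset.card_univ, ← Nat.card_eq_fintype_card, hG] at this
    omega
  rw [c1, c2]
  split_ifs <;> norm_num

end Cfsg.Agent.Lie.SU33
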