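import Mathlib
import Cfsg.Prelude.Def_Classical
import Cfsg.Agent.Lib.Lie.QuatFrobenius

/-!
The spectrum of `PSU 3 F 3`, `|F| = 9`.
-/

set_option autoImplicit false

open scoped Matrix

namespace Cfsg.Agent.Lie.SU3Three

variable {F : Type*} [Field F]

/-- The field of order `9` used for computation. -/
abbrev R9 := QuadraticAlgebra (ZMod 3) 2 0

theorem mem_SU_iff [CharP F 3] (g : Matrix.SpecialLinearGroup (Fin 3) F) :
    g ∈ Cfsg.SU 3 F 3 ↔ (g : Matrix (Fin 3) (Fin 3) F)ᵀ * (g : Matrix (Fin 3) (Fin 3) F).map (frobenius F 3) = 1 := by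
  haveI : Fact (Nat.Prime 3) := ⟨by norm_num⟩
  set M := (g : Matrix (Fin 3) (Fin 3) F) with hM
  have key : ∀ u v, Cfsg.hermForm 3 F 3 (M *ᵥ u) (M *ᵥ v) =
      u ⬝ᵥ ((Mᵀ * M.map (frobenius F 3)) *ᵥ (fun i => v i ^ 3)) := by
    intro u v
    rw [← Matrix.mulVec_mulVec, Matrix.dotProduct_mulVec, Matrix.vecMul_transpose, dotProduct]
    refine Finset.sum_congr rfl fun i _ => ?_
    congr 1
    show (frobenius F 3) ((M *ᵥ v) i) = _
    rw [RingHom.map_mulVec]
    rfl
  constructor
  · intro h
    ext i j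
    have := h (Pi.single i 1) (Pi.single j 1)
    rw [show (Cfsg.slToMat 3 F g) = M from rfl, key] at this
    have hs : (fun k => (Pi.single j (1 : F) : Fin 3 → F) k ^ 3) = Pi.single j 1 := by
      funext k
      by_cases hk : k = j <;> simp [hk]
    rw [hs, Matrix.mulVec_single_one, single_one_dotProduct] at this
    simp only [Matrix.col_apply] at this
    rw [this]
    by_cases hij : i = j
    · subst hij; simp [Cfsg.hermForm, Pi.single_apply, Finset.sum_ite_eq']
    · rw [Matrix.one_apply_ne hij]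
      simp [Cfsg.hermForm, Pi.single_apply, Ne.symm hij]
  · intro h u v
    rw [show (Cfsg.slToMat 3 F g) = M from rfl, key, h, Matrix.one_mulVec]
    rfl

theorem adjugate_trace [CharP F 3] {g : Matrix.SpecialLinearGroup (Fin 3) F} (hg : g ∈ Cfsg.SU 3 F 3) :
    (g : Matrix (Fin 3) (Fin 3) F).adjugate.trace = (g : Matrix (Fin 3) (Fin 3) F).trace ^ 3 := by
  have h := congrArg Matrix.transpose ((mem_SU_iff g).1 hg)
  rw [Matrix.transpose_mul, Matrix.transpose_transpose, Matrix.transpose_one] at h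
  have h2 := congrArg (· * (g : Matrix (Fin 3) (Fin 3) F).adjugate) h
  simp only [mul_assoc, Matrix.mul_adjugate, g.2, one_smul, mul_one, one_mul] at h2
  rw [← h2, Matrix.trace_transpose]
  exact (AddMonoidHom.map_trace (frobenius F 3).toAddMonoidHom _).symm

end Cfsg.Agent.Lie.SU3Three
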