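import Mathlib
import Cfsg.Prelude.Def_Local
import Cfsg.Agent.Lib.Solv.Component
import Cfsg.Agent.Lib.Solv.Subnormal
import Cfsg.Agent.Lib.Solv.Cores
import Cfsg.Agent.Lib.Fusion.AB
import Cfsg.Agent.Lib.Fusion.Cores
import Cfsg.Agent.Lib.Perm.Subnormalizer

/-!
A form of the theorem of Thompson and Wielandt on two maximal subgroups: if the second kernels
are both non-trivial, one of them is a `p`-group and the generalised Fitting subgroup is `O_p`.
-/

set_option autoImplicit false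
set_option linter.style.haveILetI false
open scoped commutatorElement

namespace Cfsg.Agent.Lie.TW

universe u

variable {G : Type u} [Group G]

/-- `O_r(H)` inside the ambient group. -/
def pc (r : ℕ) (H : Subgroup G) : Subgroup G := (Cfsg.pCore r H).map H.subtype

/-- The subgroup generated by the elements of `X` of order prime to `r`. -/
def res (r : ℕ) (X : Subgroup G) : Subgroup G :=
  Subgroup.closure {x : G | x ∈ X ∧ (orderOf x).Coprime r}

/-- A component of the subgroup `H`. -/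
def Comp (H L : Subgroup G) : Prop :=
  L ≤ H ∧ (L.subgroupOf H).IsSubnormal ∧ Cfsg.IsQuasisimple L

/-- `X` is subnormal in `H`. -/
def SnIn (H X : Subgroup G) : Prop := X ≤ H ∧ (X.subgroupOf H).IsSubnormal

theorem res_le (r : ℕ) (X : Subgroup G) : res r X ≤ X :=
  (Subgroup.closure_le _).2 fun _ h => h.1

theorem mem_res {r : ℕ} {X : Subgroup G} {x : G} (hx : x ∈ X) (ho : (orderOf x).Coprime r) : x ∈ res r X :=
  Subgroup.subset_closure ⟨hx, ho⟩

theorem orderOf_conj (g x : G) : orderOf (g * x * g⁻¹) = orderOf x :=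
  orderOf_injective (MulAut.conj g).toMonoidHom (MulAut.conj g).injective x

theorem mem_normalizer_of_conj [Finite G] {X : Subgroup G} {g : G} (h : ∀ x ∈ X, g * x * g⁻¹ ∈ X) :
    g ∈ Subgroup.normalizer (X : Set G) := by
  have e : X.map (MulAut.conj g).toMonoidHom = X :=
    Subgroup.eq_of_le_of_card_ge (by rintro _ ⟨x, hx, rfl⟩; exact h x hx)
      (le_of_eq (Nat.card_congr (X.equivMapOfInjective _ (MulAut.conj g).injective).toEquiv))
  refine Subgroup.mem_normalizer_iff.2 fun x => ⟨h x, fun hx => ?_⟩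
  have hx' : g * x * g⁻¹ ∈ X.map (MulAut.conj g).toMonoidHom := e.symm ▸ hx
  obtain ⟨y, hy, hxy⟩ := hx'
  have : y = x := (MulAut.conj g).injective (hxy.trans (by simp))
  exact this ▸ hy

theorem conj_mem_of_normalizer {X : Subgroup G} {g x : G} (h : g ∈ Subgroup.normalizer (X : Set G))
    (hx : x ∈ X) : g * x * g⁻¹ ∈ X := (Subgroup.mem_normalizer_iff.1 h x).1 hx

theorem res_conj [Finite G] (r : ℕ) {X : Subgroup G} {g : G} (h : g ∈ Subgroup.normalizer (X : Set G)) :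
    g ∈ Subgroup.normalizer (res r X : Set G) := by
  refine mem_normalizer_of_conj fun x hx => ?_
  have : (MulAut.conj g).toMonoidHom x ∈ (res r X).map (MulAut.conj g).toMonoidHom := ⟨x, hx, rfl⟩
  rw [res, MonoidHom.map_closure] at this
  refine (Subgroup.closure_mono (k := {x : G | x ∈ X ∧ (orderOf x).Coprime r}) ?_) this
  rintro _ ⟨y, ⟨hy, ho⟩, rfl⟩
  exact ⟨conj_mem_of_normalizer h hy, (orderOf_conj g y).symm ▸ ho⟩

variable [Finite G]

theorem res_eq_bot_iff {r : ℕ} [hr : Fact r.Prime] (X : Subgroup G) : res r X = ⊥ ↔ IsPGroup r X := by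
  constructor
  · intro h x
    obtain ⟨k, m, hm, hkm⟩ := Nat.exists_eq_pow_mul_and_not_dvd (orderOf_pos x.1).ne' r hr.out.ne_one
    refine ⟨k, Subtype.ext ?_⟩
    have h1 : orderOf (x.1 ^ r ^ k) = m := by
      rw [orderOf_pow_of_dvd (pow_ne_zero _ hr.out.ne_zero) (hkm ▸ dvd_mul_right _ _), hkm,
        Nat.mul_div_cancel_left _ (pow_pos hr.out.pos k)]
    have h2 := mem_res (r := r) (pow_mem x.2 (r ^ k))
      (h1.symm ▸ ((Nat.Prime.coprime_iff_not_dvd hr.out).2 hm).symm)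
    rw [h, Subgroup.mem_bot] at h2
    simpa using h2
  · intro h
    refine (Subgroup.closure_eq_bot_iff).2 fun x ⟨hx, ho⟩ => ?_
    obtain ⟨k, hk⟩ := h ⟨x, hx⟩
    exact orderOf_eq_one_iff.1 (Nat.eq_one_of_dvd_coprimes (ho.pow_right k) dvd_rfl
      (orderOf_dvd_of_pow_eq_one (congrArg Subtype.val hk)))

theorem pc_le (r : ℕ) (H : Subgroup G) : pc r H ≤ H := Subgroup.map_subtype_le _

theorem pc_isPGroup (r : ℕ) [Fact r.Prime] (H : Subgroup G) : IsPGroup r (pc r H) :=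
  (Solv.pCore_isPGroup (G := H) r).map _

theorem pc_normal (r : ℕ) (H : Subgroup G) : H ≤ Subgroup.normalizer (pc r H : Set G) := by
  haveI := Solv.pCore_normal (G := H) r
  intro h hh
  refine mem_normalizer_of_conj fun x hx => ?_
  obtain ⟨y, hy, rfl⟩ := hx
  exact ⟨⟨h, hh⟩ * y * ⟨h, hh⟩⁻¹, this.conj_mem y hy _, rfl⟩

theorem le_pc_of_snIn {r : ℕ} {H Y : Subgroup G} (h : SnIn H Y) (hp : IsPGroup r Y) : Y ≤ pc r H := by
  intro y hy
  exact ⟨⟨y, h.1 hy⟩, Perm.subnormal_pgroup_le_pCore h.2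
    (hp.comap_of_injective H.subtype H.subtype_injective) hy, rfl⟩

theorem snIn_of_normal {H Y : Subgroup G} (hle : Y ≤ H) (hn : H ≤ Subgroup.normalizer (Y : Set G)) :
    SnIn H Y :=
  ⟨hle, ((Subgroup.normal_subgroupOf_iff_le_normalizer hle).2 hn).isSubnormal⟩

theorem SnIn.trans {H Y Z : Subgroup G} (h1 : SnIn H Y) (h2 : SnIn Y Z) : SnIn H Z := by
  refine ⟨h2.1.trans h1.1, Subgroup.IsSubnormal.trans (show Z.subgroupOf H ≤ Y.subgroupOf H from fun _ hx => h2.1 hx) ?_ h1.2⟩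
  have h := h2.2.comap (Subgroup.subgroupOfEquivOfLe h1.1).toMonoidHom
  exact h

theorem le_pc_of_normal {r : ℕ} {H Y : Subgroup G} (hle : Y ≤ H)
    (hn : H ≤ Subgroup.normalizer (Y : Set G)) (hp : IsPGroup r Y) : Y ≤ pc r H :=
  le_pc_of_snIn (snIn_of_normal hle hn) hp

/-- In an extension of a subnormal subgroup of `r`-power index no new elements of order prime to `r`. -/
theorem mem_of_subnormal_index {Z : Type u} [Group Z] [Finite Z] {r : ℕ} [hr : Fact r.Prime] {X : Subgroup Z}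
    (hX : X.IsSubnormal) : (∃ k, X.index ∣ r ^ k) → ∀ x : Z, (orderOf x).Coprime r → x ∈ X := by
  induction hX with
  | top => exact fun _ x _ => Subgroup.mem_top x
  | step A B hAB hB hN ih =>
    rintro ⟨k, hk⟩ x hx
    have hxB : x ∈ B := ih ⟨k, (Subgroup.index_dvd_of_le hAB).trans hk⟩ x hx
    haveI := hN
    have h1 : orderOf (QuotientGroup.mk' (A.subgroupOf B) ⟨x, hxB⟩) ∣ r ^ k := by
      refine (orderOf_dvd_natCard _).trans ?_
      rw [← Subgroup.index_eq_card]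
      exact (Dvd.intro _ (Subgroup.relIndex_mul_index hAB) : A.relIndex B ∣ A.index).trans hk
    have h2 : orderOf (QuotientGroup.mk' (A.subgroupOf B) ⟨x, hxB⟩) ∣ orderOf x := by
      refine (orderOf_map_dvd _ _).trans ?_
      rw [← Subgroup.orderOf_coe]
    have := orderOf_eq_one_iff.1 (Nat.eq_one_of_dvd_coprimes (hx.pow_right k) h2 h1)
    exact (QuotientGroup.eq_one_iff (N := A.subgroupOf B) ⟨x, hxB⟩).1 this

/-- The `r'`-elements of `O_r(H) X`, for `X` subnormal in `H`, lie in `X`. -/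
theorem mem_of_pc_mul {r : ℕ} [hr : Fact r.Prime] {H X : Subgroup G} (hX : SnIn H X) {z : G}
    (hz : ∃ hzH : z ∈ H, (⟨z, hzH⟩ : H) ∈ X.subgroupOf H ⊔ Cfsg.pCore r H) (ho : (orderOf z).Coprime r) : z ∈ X := by
  haveI := Solv.pCore_normal (G := H) r
  set J : Subgroup H := X.subgroupOf H ⊔ Cfsg.pCore r H with hJ
  have hidx : ∃ k, ((X.subgroupOf H).subgroupOf J).index ∣ r ^ k := by
    obtain ⟨k, hk⟩ := IsPGroup.iff_card.1 (Solv.pCore_isPGroup (G := H) r)
    refine ⟨k, ?_⟩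
    have h1 := ((X.subgroupOf H).subgroupOf J).card_mul_index
    rw [Nat.card_congr (Subgroup.subgroupOfEquivOfLe (le_sup_left : X.subgroupOf H ≤ J)).toEquiv] at h1
    have h2 : Nat.card J ∣ Nat.card (Cfsg.pCore r H) * Nat.card (X.subgroupOf H) := by
      have h3 := Solv.card_sup_dvd (Cfsg.pCore r H) (X.subgroupOf H)
      rwa [sup_comm] at h3
    rw [← h1, hk, mul_comm (r ^ k)] at h2
    exact Nat.dvd_of_mul_dvd_mul_left Nat.card_pos h2
  obtain ⟨hzH, hzJ⟩ := hz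
  exact mem_of_subnormal_index (Solv.isSubnormal_subgroupOf (L := J) hX.2) hidx ⟨_, hzJ⟩
    (by rw [← Subgroup.orderOf_coe, ← Subgroup.orderOf_coe]; exact ho)

theorem conj_mem_of_sn {r : ℕ} [hr : Fact r.Prime] {H X : Subgroup G} (hX : SnIn H X) {u x : G}
    (hu : u ∈ pc r H) (hx : x ∈ X) (ho : (orderOf x).Coprime r) : u * x * u⁻¹ ∈ X := by
  obtain ⟨u', hu', rfl⟩ := hu
  refine mem_of_pc_mul hX ⟨show H.subtype u' * x * (H.subtype u')⁻¹ ∈ H from H.mul_mem (H.mul_mem u'.2 (hX.1 hx)) (H.inv_mem u'.2), ?_⟩ ((orderOf_conj (u' : G) x).symm ▸ ho)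
  rw [show (⟨H.subtype u' * x * (H.subtype u')⁻¹, _⟩ : H) = u' * ⟨x, hX.1 hx⟩ * u'⁻¹ from Subtype.ext (by simp)]
  exact mul_mem (mul_mem (Subgroup.mem_sup_right hu') (Subgroup.mem_sup_left (show (⟨x, hX.1 hx⟩ : H) ∈ X.subgroupOf H from hx)))
      (Subgroup.inv_mem _ (Subgroup.mem_sup_right hu'))

theorem pc_le_normalizer_res {r : ℕ} [Fact r.Prime] {H X : Subgroup G} (hX : SnIn H X) :
    pc r H ≤ Subgroup.normalizer (res r X : Set G) := by
  intro u hu
  refine mem_normalizer_of_conj fun x hx => ?_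
  have : (MulAut.conj u).toMonoidHom x ∈ (res r X).map (MulAut.conj u).toMonoidHom := ⟨x, hx, rfl⟩
  rw [res, MonoidHom.map_closure] at this
  refine (Subgroup.closure_mono (k := {x : G | x ∈ X ∧ (orderOf x).Coprime r}) ?_) this
  rintro _ ⟨y, ⟨hy, ho⟩, rfl⟩
  exact ⟨conj_mem_of_sn hX hu hy ho, (orderOf_conj u y).symm ▸ ho⟩

/-- The configuration of two maximal subgroups with their first and second kernels. -/
structure Cfg (H K A B A₂ B₂ : Subgroup G) : Prop where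
  normH : ∀ Y : Subgroup G, Y ≠ ⊥ → Y ≤ H → H ≤ Subgroup.normalizer (Y : Set G) → Subgroup.normalizer (Y : Set G) = H
  normK : ∀ Y : Subgroup G, Y ≠ ⊥ → Y ≤ K → K ≤ Subgroup.normalizer (Y : Set G) → Subgroup.normalizer (Y : Set G) = K
  ne : H ≠ K
  A_le : A ≤ H ⊓ K
  B_le : B ≤ H ⊓ K
  A_norm : H ≤ Subgroup.normalizer (A : Set G)
  B_norm : K ≤ Subgroup.normalizer (B : Set G)
  A_max : ∀ Y : Subgroup G, Y ≤ H ⊓ K → H ≤ Subgroup.normalizer (Y : Set G) → Y ≤ A
  B_max : ∀ Y : Subgroup G, Y ≤ H ⊓ K → K ≤ Subgroup.normalizer (Y : Set G) → Y ≤ B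
  A₂_le : A₂ ≤ A ⊓ B
  B₂_le : B₂ ≤ A ⊓ B
  A₂_norm : H ≤ Subgroup.normalizer (A₂ : Set G)
  B₂_norm : K ≤ Subgroup.normalizer (B₂ : Set G)
  card_pc : ∀ r : ℕ, Nat.card (pc r H) = Nat.card (pc r K)

variable {H K A B A₂ B₂ : Subgroup G}

theorem Cfg.symm (c : Cfg H K A B A₂ B₂) : Cfg K H B A B₂ A₂ where
  normH := c.normK
  normK := c.normH
  ne := c.ne.symm
  A_le := c.B_le.trans (le_of_eq (inf_comm _ _))
  B_le := c.A_le.trans (le_of_eq (inf_comm _ _))
  A_norm := c.B_norm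
  B_norm := c.A_norm
  A_max := fun Y h1 h2 => c.B_max Y (h1.trans (le_of_eq (inf_comm _ _))) h2
  B_max := fun Y h1 h2 => c.A_max Y (h1.trans (le_of_eq (inf_comm _ _))) h2
  A₂_le := c.B₂_le.trans (le_of_eq (inf_comm _ _))
  B₂_le := c.A₂_le.trans (le_of_eq (inf_comm _ _))
  A₂_norm := c.B₂_norm
  B₂_norm := c.A₂_norm
  card_pc := fun r => (c.card_pc r).symm

theorem Cfg.B₂_leK (c : Cfg H K A B A₂ B₂) : B₂ ≤ K :=
  ((c.B₂_le.trans inf_le_left).trans c.A_le).trans inf_le_right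

theorem Cfg.B₂_snH (c : Cfg H K A B A₂ B₂) : SnIn H B₂ := by
  have hAB : SnIn A (A ⊓ B) := snIn_of_normal inf_le_left fun a ha => mem_normalizer_of_conj fun x hx =>
    ⟨A.mul_mem (A.mul_mem ha hx.1) (A.inv_mem ha), conj_mem_of_normalizer (c.B_norm (c.A_le ha).2) hx.2⟩
  exact (snIn_of_normal (c.A_le.trans inf_le_left) c.A_norm).trans (hAB.trans
    (snIn_of_normal c.B₂_le fun x hx => c.B₂_norm (c.A_le hx.1).2))

theorem Cfg.eq_bot (c : Cfg H K A B A₂ B₂) {Y : Subgroup G} (hH : Y ≤ H) (hK : Y ≤ K)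
    (h1 : H ≤ Subgroup.normalizer (Y : Set G)) (h2 : K ≤ Subgroup.normalizer (Y : Set G)) : Y = ⊥ := by
  by_contra h
  exact c.ne ((c.normH Y h hH h1).symm.trans (c.normK Y h hK h2))

/-- The key lemma: `O_r(K) ∩ H ≤ O_r(H)`. -/
theorem Cfg.key (c : Cfg H K A B A₂ B₂) {r : ℕ} [Fact r.Prime] (hres : res r B₂ ≠ ⊥) :
    pc r K ⊓ H ≤ pc r H := by
  have hR : Subgroup.normalizer (res r B₂ : Set G) = K :=
    c.normK _ hres ((res_le r B₂).trans c.B₂_leK) fun k hk => res_conj r (c.B₂_norm hk)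
  have hpA : ∀ v : G, v ∈ pc r K → v ∈ H → ∀ y ∈ A, ⁅v, y⁆ ∈ A → ⁅v, y⁆ ∈ pc r H := by
    intro v hv hvH y hy hc
    have hY : SnIn A (A ⊓ pc r K) := snIn_of_normal inf_le_left fun a ha => mem_normalizer_of_conj fun x hx =>
      ⟨A.mul_mem (A.mul_mem ha hx.1) (A.inv_mem ha), conj_mem_of_normalizer (pc_normal r K (c.A_le ha).2) hx.2⟩
    refine le_pc_of_snIn ((snIn_of_normal (c.A_le.trans inf_le_left) c.A_norm).trans hY)
      ((pc_isPGroup r K).to_le inf_le_right) ⟨hc, ?_⟩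
    rw [commutatorElement_def, mul_assoc v y, mul_assoc v]
    exact mul_mem hv (conj_mem_of_normalizer (pc_normal r K (c.A_le hy).2) (inv_mem hv))
  have hconj : ∀ h ∈ H, ∀ v ∈ pc r K ⊓ H, h * v * h⁻¹ ∈ K := by
    intro h hh v hv
    rw [← hR]
    refine mem_normalizer_of_conj fun x hx => ?_
    have : (MulAut.conj (h * v * h⁻¹)).toMonoidHom x ∈ (res r B₂).map (MulAut.conj (h * v * h⁻¹)).toMonoidHom := ⟨x, hx, rfl⟩
    rw [res, MonoidHom.map_closure] at this
    refine (Subgroup.closure_mono (k := {x : G | x ∈ B₂ ∧ (orderOf x).Coprime r}) ?_) this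
    rintro _ ⟨y, ⟨hy, ho⟩, rfl⟩
    refine ⟨?_, (orderOf_conj _ y).symm ▸ ho⟩
    show h * v * h⁻¹ * y * (h * v * h⁻¹)⁻¹ ∈ B₂
    set y' := h⁻¹ * y * h with hy'
    have hy'A : y' ∈ A := by
      have h1 := conj_mem_of_normalizer (c.A_norm (inv_mem hh)) ((c.B₂_le hy).1 : y ∈ A)
      rwa [inv_inv] at h1
    have hcA : ⁅v, y'⁆ ∈ A := by
      rw [commutatorElement_def]
      exact mul_mem (conj_mem_of_normalizer (c.A_norm hv.2) hy'A) (inv_mem hy'A)
    have hu := hpA v hv.1 hv.2 y' hy'A hcA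
    -- work in the conjugate subnormal subgroup
    have hX : SnIn H (B₂.map (MulAut.conj h⁻¹).toMonoidHom) := by
      refine ⟨?_, ?_⟩
      · rintro _ ⟨z, hz, rfl⟩
        exact mul_mem (mul_mem (inv_mem hh) (c.B₂_snH.1 hz)) (inv_mem (inv_mem hh))
      · have h2 := c.B₂_snH.2.map (f := (MulAut.conj (⟨h, hh⟩⁻¹ : H)).toMonoidHom) (MulAut.conj _).surjective
        convert h2 using 1
        ext z
        constructor
        · rintro ⟨w, hw, e⟩
          exact ⟨⟨w, c.B₂_snH.1 hw⟩, hw, Subtype.ext e⟩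
        · rintro ⟨w, hw, e⟩
          exact ⟨w.1, hw, congrArg Subtype.val e⟩
    have hmem : v * y' * v⁻¹ ∈ B₂.map (MulAut.conj h⁻¹).toMonoidHom := by
      have hy'X : y' ∈ B₂.map (MulAut.conj h⁻¹).toMonoidHom := ⟨y, hy, by simp [hy']⟩
      obtain ⟨u, hu', hue⟩ := hu
      have e : v * y' * v⁻¹ = (u * ⟨y', hX.1 hy'X⟩ : H).1 := by
        push_cast
        rw [show (u : G) = ⁅v, y'⁆ from hue, commutatorElement_def]; group
      have ho' : (orderOf (v * y' * v⁻¹)).Coprime r := by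
        rw [orderOf_conj, hy', show h⁻¹ * y * h = h⁻¹ * y * h⁻¹⁻¹ by rw [inv_inv], orderOf_conj]; exact ho
      refine mem_of_pc_mul (r := r) hX ⟨e ▸ (u * ⟨y', hX.1 hy'X⟩ : H).2, ?_⟩ ho'
      have e' : (⟨v * y' * v⁻¹, e ▸ (u * ⟨y', hX.1 hy'X⟩ : H).2⟩ : H) = u * ⟨y', hX.1 hy'X⟩ := Subtype.ext e
      rw [e']
      exact mul_mem (Subgroup.mem_sup_right hu')
        (Subgroup.mem_sup_left (show (⟨y', hX.1 hy'X⟩ : H) ∈ (B₂.map (MulAut.conj h⁻¹).toMonoidHom).subgroupOf H from hy'X))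
    obtain ⟨z, hz, hze⟩ := hmem
    have hze' : h⁻¹ * z * h = v * y' * v⁻¹ := by rw [← hze]; simp
    have : h * v * h⁻¹ * y * (h * v * h⁻¹)⁻¹ = z := by
      calc h * v * h⁻¹ * y * (h * v * h⁻¹)⁻¹ = h * (v * (h⁻¹ * y * h) * v⁻¹) * h⁻¹ := by group
        _ = h * (h⁻¹ * z * h) * h⁻¹ := by rw [hze', hy']
        _ = z := by group
    rw [this]; exact hz
  set P : Subgroup G := Subgroup.closure {w | ∃ h ∈ H, ∃ v ∈ pc r K ⊓ H, h * v * h⁻¹ = w} with hP
  have hPD : P ≤ H ⊓ K := (Subgroup.closure_le _).2 fun w ⟨h, hh, v, hv, e⟩ =>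
    e ▸ ⟨H.mul_mem (H.mul_mem hh hv.2) (H.inv_mem hh), hconj h hh v hv⟩
  have hPH : H ≤ Subgroup.normalizer (P : Set G) := fun g hg => mem_normalizer_of_conj fun x hx => by
    have : (MulAut.conj g).toMonoidHom x ∈ P.map (MulAut.conj g).toMonoidHom := ⟨x, hx, rfl⟩
    rw [hP, MonoidHom.map_closure] at this
    refine (Subgroup.closure_mono (k := {w | ∃ h ∈ H, ∃ v ∈ pc r K ⊓ H, h * v * h⁻¹ = w}) ?_) this
    rintro _ ⟨_, ⟨h, hh, v, hv, rfl⟩, rfl⟩
    exact ⟨g * h, mul_mem hg hh, v, hv, by simp [mul_assoc]⟩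
  have hVA : pc r K ⊓ H ≤ A := fun v hv => c.A_max P hPD hPH
    (Subgroup.subset_closure ⟨1, one_mem H, v, hv, by simp⟩)
  exact le_pc_of_snIn ((snIn_of_normal (c.A_le.trans inf_le_left) c.A_norm).trans
    (snIn_of_normal hVA fun a ha => mem_normalizer_of_conj fun x hx =>
      ⟨conj_mem_of_normalizer (pc_normal r K (c.A_le ha).2) hx.1,
        H.mul_mem (H.mul_mem (c.A_le ha).1 hx.2) (H.inv_mem (c.A_le ha).1)⟩))
    ((pc_isPGroup r K).to_le inf_le_left)

theorem Cfg.pc_leK (c : Cfg H K A B A₂ B₂) {r : ℕ} [Fact r.Prime] (hres : res r B₂ ≠ ⊥) :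
    pc r H ≤ K := by
  rw [← c.normK _ hres ((res_le r B₂).trans c.B₂_leK) fun k hk => res_conj r (c.B₂_norm hk)]
  exact pc_le_normalizer_res c.B₂_snH

theorem Cfg.centralizer_B₂ (c : Cfg H K A B A₂ B₂) (hB : B₂ ≠ ⊥) :
    Subgroup.centralizer (B₂ : Set G) ≤ K := by
  intro x hx
  rw [← c.normK _ hB c.B₂_leK c.B₂_norm]
  refine mem_normalizer_of_conj fun y hy => ?_
  rw [← Subgroup.mem_centralizer_iff.1 hx y hy, mul_inv_cancel_right]
  exact hy

/-! ### Components -/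

theorem comp_isComponent {L : Subgroup G} (h : Comp H L) : Cfsg.IsComponent (L.subgroupOf H) :=
  ⟨h.2.1, Local.isQuasisimple_congr (Subgroup.subgroupOfEquivOfLe h.1).symm h.2.2⟩

theorem comp_dichotomy {L X : Subgroup G} (h : Comp H L) (hX : SnIn H X) : L ≤ X ∨ ⁅L, X⁆ = ⊥ := by
  rcases Solv.component_subnormal_dichotomy (comp_isComponent h) hX.2 with h1 | h1
  · exact Or.inl fun l hl => h1 (show (⟨l, h.1 hl⟩ : H) ∈ L.subgroupOf H from hl)
  · refine Or.inr ?_
    have h2 := congrArg (Subgroup.map H.subtype) h1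
    rwa [Subgroup.map_commutator, Subgroup.map_subgroupOf_eq_of_le h.1,
      Subgroup.map_subgroupOf_eq_of_le hX.1, Subgroup.map_bot] at h2

theorem comp_ne_self_centralizing {L : Subgroup G} (h : Comp H L) : ⁅L, L⁆ ≠ ⊥ :=
  Solv.qs_not_le_centralizer h.2.2

theorem comp_conj {L : Subgroup G} (hL : Comp H L) {h : G} (hh : h ∈ H) :
    Comp H (L.map (MulAut.conj h).toMonoidHom) := by
  refine ⟨?_, ?_, Local.isQuasisimple_congr (L.equivMapOfInjective _ (MulAut.conj h).injective) hL.2.2⟩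
  · rintro _ ⟨z, hz, rfl⟩
    exact H.mul_mem (H.mul_mem hh (hL.1 hz)) (H.inv_mem hh)
  · have h2 := hL.2.1.map (f := (MulAut.conj (⟨h, hh⟩ : H)).toMonoidHom) (MulAut.conj _).surjective
    convert h2 using 1
    ext z
    constructor
    · rintro ⟨w, hw, e⟩
      exact ⟨⟨w, hL.1 hw⟩, hw, Subtype.ext e⟩
    · rintro ⟨w, hw, e⟩
      exact ⟨w.1, hw, congrArg Subtype.val e⟩

theorem le_centralizer_of_comm {L X : Subgroup G} (h : ⁅L, X⁆ = ⊥) :
    L ≤ Subgroup.centralizer (X : Set G) :=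
  Subgroup.commutator_eq_bot_iff_le_centralizer.1 h

theorem comp_le_K (c : Cfg H K A B A₂ B₂) (hB : B₂ ≠ ⊥) {L : Subgroup G} (hL : Comp H L) : L ≤ K := by
  rcases comp_dichotomy hL c.B₂_snH with h | h
  · exact h.trans c.B₂_leK
  · exact (le_centralizer_of_comm h).trans (c.centralizer_B₂ hB)

/-- A perfect quasisimple group is generated by its elements of order prime to `r`. -/
theorem qs_res {M : Subgroup G} (hM : Cfsg.IsQuasisimple M) {r : ℕ} [hr : Fact r.Prime] {C : Subgroup G}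
    (hC : ∀ x ∈ M, (orderOf x).Coprime r → x ∈ C) : M ≤ C := by
  have h1 : Cfsg.pResidual r M = ⊤ := by
    haveI := Solv.qs_nontrivial hM
    by_contra hne
    haveI : Nontrivial (M ⧸ Cfsg.pResidual r M) := QuotientGroup.nontrivial_iff.2 hne
    haveI := (Fusion.isPGroup_quotient_pResidual (p := r) (G := M)).isNilpotent
    haveI : Group.IsPerfect (M ⧸ Cfsg.pResidual r M) := by
      haveI := hM.1
      refine ⟨?_⟩
      have := congrArg (Subgroup.map (QuotientGroup.mk' (Cfsg.pResidual r M))) (Group.IsPerfect.commutator_eq_top (G := M))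
      rwa [commutator_def, Subgroup.map_commutator, Subgroup.map_top_of_surjective _ (QuotientGroup.mk'_surjective _),
        ← commutator_def] at this
    exact Group.IsPerfect.not_isSolvable (G := M ⧸ Cfsg.pResidual r M) inferInstance
  intro x hx
  have : (⟨x, hx⟩ : M) ∈ C.subgroupOf M := by
    refine (Subgroup.closure_le _).2 (fun g (hg : (orderOf g).Coprime r) => ?_) (h1.symm ▸ Subgroup.mem_top _ : (⟨x, hx⟩ : M) ∈ Cfsg.pResidual r M)
    exact hC g.1 g.2 (by rwa [Subgroup.orderOf_coe])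
  exact this

theorem comp_of_D (c : Cfg H K A B A₂ B₂) (hB : B₂ ≠ ⊥) {M : Subgroup G} (hM : Comp (H ⊓ K) M) : Comp H M := by
  by_contra hnot
  have hMH : M ≤ H := hM.1.trans inf_le_left
  -- `M` centralises every component of `H`
  have hlay : ∀ L, Comp H L → ⁅M, L⁆ = ⊥ := by
    intro L hL
    have hLD : Comp (H ⊓ K) L := ⟨le_inf hL.1 (comp_le_K c hB hL),
      hL.2.1.comap (Subgroup.inclusion (inf_le_left : H ⊓ K ≤ H)), hL.2.2⟩
    rcases comp_dichotomy hM ⟨hLD.1, hLD.2.1⟩ with h | h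
    · exfalso
      have e := Solv.component_le_component (comp_isComponent hM) (comp_isComponent hLD) (fun x hx => h hx)
      have e' := congrArg (Subgroup.map (H ⊓ K).subtype) e
      rw [Subgroup.map_subgroupOf_eq_of_le hM.1, Subgroup.map_subgroupOf_eq_of_le hLD.1] at e'
      exact hnot (e' ▸ hL)
    · exact h
  have hsol : ∀ Y : Subgroup G, Y ≤ H ⊓ K → H ⊓ K ≤ Subgroup.normalizer (Y : Set G) → ∀ r : ℕ, r.Prime → IsPGroup r Y →
      ⁅M, Y⁆ = ⊥ := by
    intro Y hY hn r hr hp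
    haveI := Fact.mk hr
    haveI hnil := hp.isNilpotent
    rcases comp_dichotomy hM (snIn_of_normal hY hn) with h | h
    · exfalso
      haveI := Solv.qs_nontrivial hM.2.2
      haveI := hM.2.2.1
      haveI : Group.IsSolvable Y := inferInstance
      exact Group.IsPerfect.not_isSolvable (G := M) (Group.isSolvable_of_isSolvable_injective (Subgroup.inclusion_injective h))
    · exact h
  have hpc : ∀ (r : ℕ) [Fact r.Prime], ⁅M, pc r H⁆ = ⊥ := by
    intro r _
    have hI : ⁅M, pc r H ⊓ K⁆ = ⊥ := hsol _ (inf_le_inf_right K (pc_le r H))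
      (fun d hd => mem_normalizer_of_conj fun x hx =>
        ⟨conj_mem_of_normalizer (pc_normal r H hd.1) hx.1, K.mul_mem (K.mul_mem hd.2 hx.2) (K.inv_mem hd.2)⟩)
      r Fact.out ((pc_isPGroup r H).to_le inf_le_left)
    by_cases hres : res r B₂ = ⊥
    · have hBp : IsPGroup r B₂ := (res_eq_bot_iff B₂).1 hres
      have hBD : B₂ ≤ H ⊓ K := (c.B₂_le.trans inf_le_left).trans c.A_le
      have hMB := hsol _ hBD (fun d hd => c.B₂_norm hd.2) r Fact.out hBp
      refine Subgroup.commutator_eq_bot_iff_le_centralizer.2 (qs_res hM.2.2 (r := r) fun x hx ho => ?_)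
      refine Fusion.mem_centralizer_of_AB (pc_isPGroup r H) hBp (c.B₂_snH.1.trans (pc_normal r H))
        (pc_normal r H (hMH hx)) (fun t ht => (Subgroup.mem_centralizer_iff.1 (le_centralizer_of_comm hMB hx) t ht).symm) ho ?_
      intro q hq hqt
      have hqK : q ∈ K := c.centralizer_B₂ hB (Subgroup.mem_centralizer_iff.2 fun t ht => (hqt t ht).symm)
      exact (Subgroup.mem_centralizer_iff.1 (le_centralizer_of_comm hI hx) q ⟨hq, hqK⟩).symm
    · have := c.pc_leK hres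
      rwa [inf_eq_left.2 this] at hI
  have hcen : M.subgroupOf H ≤ Subgroup.centralizer (Cfsg.generalizedFittingSubgroup H : Set H) := by
    rw [Subgroup.le_centralizer_iff, Cfsg.generalizedFittingSubgroup]
    refine sup_le (sSup_le fun C hC => ?_) ?_
    · intro y hy
      refine Subgroup.mem_centralizer_iff.2 fun m hm => Subtype.ext ?_
      have hL : Comp H (C.map H.subtype) := by
        refine ⟨Subgroup.map_subtype_le _, ?_, Local.isQuasisimple_congr (C.equivMapOfInjective _ H.subtype_injective) hC.2⟩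
        rw [Subgroup.subgroupOf, Subgroup.comap_map_eq_self_of_injective H.subtype_injective]
        exact hC.1
      exact (Subgroup.mem_centralizer_iff.1 (le_centralizer_of_comm (hlay _ hL) hm) y.1 ⟨y, hy, rfl⟩).symm
    · rw [Solv.fitting_eq_iSup_pCore]
      refine iSup_le fun q => ?_
      haveI := Fact.mk q.2
      intro y hy
      refine Subgroup.mem_centralizer_iff.2 fun m hm => Subtype.ext ?_
      exact (Subgroup.mem_centralizer_iff.1 (le_centralizer_of_comm (hpc (q : ℕ)) hm) y.1 ⟨y, hy, rfl⟩).symm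
  refine comp_ne_self_centralizing hM ?_
  refine Subgroup.commutator_eq_bot_iff_le_centralizer.2 fun x hx => Subgroup.mem_centralizer_iff.2 fun y hy => ?_
  have hxF := Solv.centralizer_gfit_le (hcen (show (⟨x, hMH hx⟩ : H) ∈ M.subgroupOf H from hx))
  exact (congrArg Subtype.val (Subgroup.mem_centralizer_iff.1 (hcen (show (⟨y, hMH hy⟩ : H) ∈ M.subgroupOf H from hy)) _ hxF)).symm

theorem no_comp (c : Cfg H K A B A₂ B₂) (hA : A₂ ≠ ⊥) (hB : B₂ ≠ ⊥) (L : Subgroup G) : ¬ Comp H L := by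
  intro hL
  have e : ∀ M, Comp H M ↔ Comp (H ⊓ K) M := fun M =>
    ⟨fun h => ⟨le_inf h.1 (comp_le_K c hB h), h.2.1.comap (Subgroup.inclusion (inf_le_left : H ⊓ K ≤ H)), h.2.2⟩,
      comp_of_D c hB⟩
  have e' : ∀ M, Comp K M ↔ Comp (H ⊓ K) M := fun M => by
    rw [inf_comm]
    exact ⟨fun h => ⟨le_inf h.1 (comp_le_K c.symm hA h), h.2.1.comap (Subgroup.inclusion (inf_le_left : K ⊓ H ≤ K)), h.2.2⟩,
      comp_of_D c.symm hA⟩
  set E : Subgroup G := sSup {M | Comp H M} with hE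
  have hEH : E ≤ H := sSup_le fun M hM => hM.1
  have hE' : E = sSup {M | Comp K M} := by
    rw [hE]; congr 1; ext M; exact (e M).trans (e' M).symm
  have hEK : E ≤ K := hE' ▸ sSup_le fun M hM => hM.1
  have hn : ∀ X : Subgroup G, ∀ g ∈ X, g ∈ Subgroup.normalizer ((sSup {M | Comp X M} : Subgroup G) : Set G) := by
    intro X g hg
    refine mem_normalizer_of_conj fun x hx => ?_
    have : (MulAut.conj g).toMonoidHom x ∈ (sSup {M | Comp X M}).map (MulAut.conj g).toMonoidHom := ⟨x, hx, rfl⟩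
    rw [sSup_eq_iSup, Subgroup.map_iSup] at this
    refine (iSup_le fun M => ?_ : (⨆ M, (⨆ _ : M ∈ {M | Comp X M}, M).map (MulAut.conj g).toMonoidHom) ≤ sSup {M | Comp X M}) this
    rw [Subgroup.map_iSup]
    exact iSup_le fun hM => le_sSup (comp_conj hM hg)
  have h0 := c.eq_bot hEH hEK (hn H) (fun g hg => hE'.symm ▸ hn K g hg)
  refine comp_ne_self_centralizing hL ?_
  have : L = ⊥ := le_bot_iff.1 (h0 ▸ le_sSup hL)
  rw [this]; simp

theorem layer_eq_bot (c : Cfg H K A B A₂ B₂) (hA : A₂ ≠ ⊥) (hB : B₂ ≠ ⊥) : Cfsg.layer H = ⊥ := by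
  refine le_bot_iff.1 (sSup_le fun C hC => ?_)
  refine absurd ?_ (no_comp c hA hB (C.map H.subtype))
  refine ⟨Subgroup.map_subtype_le _, ?_, Local.isQuasisimple_congr (C.equivMapOfInjective _ H.subtype_injective) hC.2⟩
  rw [Subgroup.subgroupOf, Subgroup.comap_map_eq_self_of_injective H.subtype_injective]
  exact hC.1

/-! ### The Fitting subgroup -/

theorem pc_eq (c : Cfg H K A B A₂ B₂) {r : ℕ} [Fact r.Prime] (h1 : pc r H ≤ pc r K) : pc r H = ⊥ := by
  have e : pc r H = pc r K := Subgroup.eq_of_le_of_card_ge h1 (c.card_pc r).ge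
  exact c.eq_bot (pc_le r H) (e ▸ pc_le r K) (pc_normal r H) (e ▸ pc_normal r K)

theorem pc_eq_bot_of_two (c : Cfg H K A B A₂ B₂) {r : ℕ} [Fact r.Prime] (hA : res r A₂ ≠ ⊥)
    (hB : res r B₂ ≠ ⊥) : pc r H = ⊥ :=
  pc_eq c fun _ hx => c.symm.key hA ⟨hx, c.pc_leK hB hx⟩

theorem pc_comm {r q : ℕ} [Fact r.Prime] [Fact q.Prime] (hne : r ≠ q) (X : Subgroup G) {x y : G}
    (hx : x ∈ pc r X) (hy : y ∈ pc q X) : x * y = y * x := by
  obtain ⟨x, hx, rfl⟩ := hx
  obtain ⟨y, hy, rfl⟩ := hy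
  have hdis : Disjoint (Cfsg.pCore r X) (Cfsg.pCore q X) :=
    IsPGroup.disjoint_of_ne r q hne _ _ (Solv.pCore_isPGroup r) (Solv.pCore_isPGroup q)
  exact congrArg Subtype.val (Subgroup.commute_of_normal_of_disjoint _ _ (Solv.pCore_normal r) (Solv.pCore_normal q) hdis x y hx hy).eq

theorem pc_eq_bot_q (c : Cfg H K A B A₂ B₂) (hA : A₂ ≠ ⊥) (hB : B₂ ≠ ⊥) {p q : ℕ} [hp : Fact p.Prime] [hq : Fact q.Prime]
    (hne : q ≠ p) (hBp : IsPGroup p B₂) : res q A₂ ≠ ⊥ := by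
  intro hres
  have hAq : IsPGroup q A₂ := (res_eq_bot_iff _).1 hres
  have nres : ∀ (r s : ℕ) [Fact r.Prime] [Fact s.Prime] (X : Subgroup G), r ≠ s → X ≠ ⊥ → IsPGroup r X → res s X ≠ ⊥ := by
    intro r s _ _ X hrs hX hr h
    exact hX ((Subgroup.eq_bot_iff_forall _).2 fun x hx => by
      have := (IsPGroup.disjoint_of_ne r s hrs X X hr ((res_eq_bot_iff X).1 h)).le_bot ⟨hx, hx⟩
      exact this)
  -- symmetric statement
  have step : ∀ {H K A B A₂ B₂ : Subgroup G} {p q : ℕ} [Fact p.Prime] [Fact q.Prime], q ≠ p → Cfg H K A B A₂ B₂ → A₂ ≠ ⊥ → B₂ ≠ ⊥ →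
      IsPGroup p B₂ → IsPGroup q A₂ → pc q K ≤ pc q H := by
    intro H K A B A₂ B₂ p q _ _ hne c hA hB hBp hAq
    set U := pc p H with hU
    set Z := U ⊓ Subgroup.centralizer (U : Set G) with hZ
    have hBU : B₂ ≤ U := le_pc_of_snIn c.B₂_snH hBp
    have hZne : Z ≠ ⊥ := by
      intro h0
      haveI : Nontrivial U := by
        obtain ⟨x, hx, hx1⟩ := (Subgroup.ne_bot_iff_exists_ne_one.1 hB |>.elim fun x hx => ⟨x.1, x.2, fun e => hx (Subtype.ext e)⟩ : ∃ x ∈ B₂, x ≠ 1)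
        exact ⟨⟨x, hBU hx⟩, 1, fun e => hx1 (congrArg Subtype.val e)⟩
      haveI := (pc_isPGroup p H).center_nontrivial
      obtain ⟨z, hz⟩ := exists_ne (1 : Subgroup.center U)
      have hmem : (z.1 : G) ∈ Z := ⟨z.1.2, Subgroup.mem_centralizer_iff.2 fun w hw =>
        congrArg Subtype.val (Subgroup.mem_center_iff.1 z.2 ⟨w, hw⟩)⟩
      rw [h0, Subgroup.mem_bot] at hmem
      exact hz (Subtype.ext (Subtype.ext hmem))
    have hZK : Z ≤ pc p K := fun z hz => c.symm.key (nres q p A₂ hne hA hAq)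
      ⟨hz.1, c.centralizer_B₂ hB (Subgroup.mem_centralizer_iff.2 fun w hw =>
        Subgroup.mem_centralizer_iff.1 hz.2 w (hBU hw))⟩
    have hZH : Z ≤ H := inf_le_left.trans (pc_le p H)
    have hNZ := c.normH Z hZne hZH fun h hh => mem_normalizer_of_conj fun x hx =>
      ⟨conj_mem_of_normalizer (pc_normal p H hh) hx.1, Subgroup.mem_centralizer_iff.2 fun w hw => by
        have := Subgroup.mem_centralizer_iff.1 hx.2 (h⁻¹ * w * h⁻¹⁻¹) (conj_mem_of_normalizer (pc_normal p H (H.inv_mem hh)) hw)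
        rw [inv_inv] at this
        calc w * (h * x * h⁻¹) = h * (h⁻¹ * w * h * x) * h⁻¹ := by group
          _ = h * (x * (h⁻¹ * w * h)) * h⁻¹ := by rw [this]
          _ = h * x * h⁻¹ * w := by group⟩
    have hQH : pc q K ≤ H := by
      intro x hx
      rw [← hNZ]
      refine mem_normalizer_of_conj fun z hz => ?_
      rw [pc_comm hne K hx (hZK hz), mul_inv_cancel_right]
      exact hz
    exact fun x hx => c.key (nres p q B₂ hne.symm hB hBp) ⟨hx, hQH hx⟩
  have h1 := step hne.symm c.symm hB hA hAq hBp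
  have h2 : pc p H = ⊥ := pc_eq c h1
  have : B₂ = ⊥ := le_bot_iff.1 (h2 ▸ le_pc_of_snIn c.B₂_snH hBp)
  exact hB this

/-- If `B₂` is a `p`-group then so are the Fitting subgroups of `H` and `K`. -/
theorem pc_eq_bot_of_pGroup (c : Cfg H K A B A₂ B₂) (hA : A₂ ≠ ⊥) (hB : B₂ ≠ ⊥) {p q : ℕ} [hp : Fact p.Prime] [hq : Fact q.Prime]
    (hne : q ≠ p) (hBp : IsPGroup p B₂) : pc q H = ⊥ ∧ pc q K = ⊥ := by
  have h1 := pc_eq_bot_q c hA hB hne hBp
  have h2 : res q B₂ ≠ ⊥ := by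
    intro h
    exact hB ((Subgroup.eq_bot_iff_forall _).2 fun x hx =>
      (IsPGroup.disjoint_of_ne p q hne.symm B₂ B₂ hBp ((res_eq_bot_iff B₂).1 h)).le_bot ⟨hx, hx⟩)
  exact ⟨pc_eq_bot_of_two c h1 h2, pc_eq_bot_of_two c.symm h2 h1⟩

theorem gfit_eq (c : Cfg H K A B A₂ B₂) (hA : A₂ ≠ ⊥) (hB : B₂ ≠ ⊥) :
    Cfsg.generalizedFittingSubgroup H = ⨆ q : Nat.Primes, Cfsg.pCore (q : ℕ) H := by
  rw [Cfsg.generalizedFittingSubgroup, layer_eq_bot c hA hB, bot_sup_eq, Solv.fitting_eq_iSup_pCore]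

/-- The theorem. -/
theorem main (c : Cfg H K A B A₂ B₂) (hA : A₂ ≠ ⊥) (hB : B₂ ≠ ⊥) :
    ∃ p : ℕ, p.Prime ∧ (IsPGroup p A₂ ∨ IsPGroup p B₂) ∧
      Cfsg.generalizedFittingSubgroup H = Cfsg.pCore p H := by
  have red : ∀ p : ℕ, p.Prime → (∀ q : Nat.Primes, (q : ℕ) ≠ p → pc (q : ℕ) H = ⊥) →
      Cfsg.generalizedFittingSubgroup H = Cfsg.pCore p H := by
    intro p hp h
    rw [gfit_eq c hA hB]
    refine le_antisymm (iSup_le fun q => ?_) (le_iSup (fun q : Nat.Primes => Cfsg.pCore (q : ℕ) H) ⟨p, hp⟩)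
    by_cases e : (q : ℕ) = p
    · rw [e]
    · rw [(Subgroup.map_eq_bot_iff_of_injective _ H.subtype_injective).1 (h q e)]
      exact bot_le
  by_cases hex : ∃ p : ℕ, p.Prime ∧ (IsPGroup p A₂ ∨ IsPGroup p B₂)
  · obtain ⟨p, hp, hor⟩ := hex
    refine ⟨p, hp, hor, red p hp fun q hq => ?_⟩
    haveI := Fact.mk hp
    haveI := Fact.mk q.2
    rcases hor with h | h
    · exact (pc_eq_bot_of_pGroup c.symm hB hA hq h).2
    · exact (pc_eq_bot_of_pGroup c hA hB hq h).1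
  · exfalso
    push Not at hex
    have hall : ∀ q : Nat.Primes, pc (q : ℕ) H = ⊥ := fun q => by
      haveI := Fact.mk q.2
      exact pc_eq_bot_of_two c (fun e => (hex _ q.2).1 ((res_eq_bot_iff _).1 e))
        (fun e => (hex _ q.2).2 ((res_eq_bot_iff _).1 e))
    have hF : Cfsg.generalizedFittingSubgroup H = ⊥ := by
      rw [gfit_eq c hA hB]
      exact le_bot_iff.1 (iSup_le fun q => ((Subgroup.map_eq_bot_iff_of_injective _ H.subtype_injective).1 (hall q)).le)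
    have htop := Solv.centralizer_gfit_le (G := H)
    rw [hF] at htop
    have hHbot : H = ⊥ := (Subgroup.eq_bot_iff_forall _).2 fun x hx => by
      have h1 : (⟨x, hx⟩ : H) ∈ Subgroup.centralizer (((⊥ : Subgroup H) : Set H)) :=
        Subgroup.mem_centralizer_iff.2 fun y hy => by rw [(Subgroup.mem_bot.1 hy), one_mul, mul_one]
      exact congrArg Subtype.val (Subgroup.mem_bot.1 (htop h1))
    exact hA (le_bot_iff.1 (hHbot ▸ ((c.A₂_le.trans inf_le_left).trans c.A_le).trans inf_le_left))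

end Cfsg.Agent.Lie.TW
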