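import Mathlib
import Cfsg.Agent.Lib.Lie.ThompsonWielandt

/-!
The kernels of a point stabiliser on a suborbit, as a Thompson–Wielandt configuration.
-/

set_option autoImplicit false
set_option linter.style.haveILetI false
open MulAction

namespace Cfsg.Agent.Lie.TW

universe u v

variable {G : Type u} {Ω : Type v} [Group G] [MulAction G Ω]

/-- The kernel of the stabiliser of `a` on the suborbit of `b`. -/
def K₁ (a b : Ω) : Subgroup G :=
  stabilizer G a ⊓ ⨅ c : orbit (stabilizer G a) b, stabilizer G (c : Ω)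

/-- The second kernel. -/
def K₂ (a b : Ω) : Subgroup G :=
  K₁ a b ⊓ ⨅ c : orbit (stabilizer G a) b, K₁ (c : Ω) a

theorem mem_K₁ {a b : Ω} {g : G} :
    g ∈ K₁ a b ↔ g • a = a ∧ ∀ h : G, h • a = a → g • h • b = h • b := by
  simp only [K₁, Subgroup.mem_inf, Subgroup.mem_iInf, mem_stabilizer_iff, Subtype.forall]
  refine and_congr_right fun _ => ⟨fun h k hk => h _ ⟨⟨k, hk⟩, rfl⟩, ?_⟩
  rintro h _ ⟨⟨k, hk⟩, rfl⟩
  exact h k hk

theorem mem_K₂ {a b : Ω} {g : G} :
    g ∈ K₂ a b ↔ g ∈ K₁ a b ∧ ∀ h : G, h • a = a → g ∈ K₁ (h • b) a := by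
  simp only [K₂, Subgroup.mem_inf, Subgroup.mem_iInf, Subtype.forall]
  refine and_congr_right fun _ => ⟨fun h k hk => h _ ⟨⟨k, hk⟩, rfl⟩, ?_⟩
  rintro h _ ⟨⟨k, hk⟩, rfl⟩
  exact h k hk

theorem K₁_conj (a b : Ω) {g : G} (hg : g ∈ K₁ a b) (k : G) : k * g * k⁻¹ ∈ K₁ (k • a) (k • b) := by
  rw [mem_K₁] at hg ⊢
  refine ⟨by rw [mul_smul, mul_smul, inv_smul_smul, hg.1], fun h hh => ?_⟩
  have := hg.2 (k⁻¹ * h * k) (by rw [mul_smul, mul_smul, hh, inv_smul_smul])
  rw [mul_smul, mul_smul] at this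
  rw [mul_smul, mul_smul, this, smul_inv_smul]

theorem K₁_normalized (a b : Ω) {g : G} (hg : g ∈ K₁ a b) {k : G} (hk : k • a = a) :
    k * g * k⁻¹ ∈ K₁ a b := by
  rw [mem_K₁] at hg ⊢
  refine ⟨by rw [mul_smul, mul_smul, show k⁻¹ • a = a by rw [inv_smul_eq_iff, hk], hg.1, hk], fun h hh => ?_⟩
  have := hg.2 (k⁻¹ * h) (by rw [mul_smul, hh, inv_smul_eq_iff, hk])
  rw [mul_smul] at this
  rw [mul_smul, mul_smul, this, smul_inv_smul]

theorem K₂_normalized (a b : Ω) {g : G} (hg : g ∈ K₂ a b) {k : G} (hk : k • a = a) :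
    k * g * k⁻¹ ∈ K₂ a b := by
  rw [mem_K₂] at hg ⊢
  refine ⟨K₁_normalized a b hg.1 hk, fun h hh => ?_⟩
  have := K₁_conj _ _ (hg.2 (k⁻¹ * h) (by rw [mul_smul, hh, inv_smul_eq_iff, hk])) k
  rwa [hk, ← mul_smul, mul_inv_cancel_left] at this

theorem K₁_le (a b : Ω) : (K₁ a b : Subgroup G) ≤ stabilizer G a ⊓ stabilizer G b := by
  intro g hg
  rw [mem_K₁] at hg
  refine ⟨hg.1, ?_⟩
  have := hg.2 1 (one_smul _ _)
  rwa [one_smul] at this

theorem K₂_le (a b : Ω) : (K₂ a b : Subgroup G) ≤ K₁ a b ⊓ K₁ b a := by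
  intro g hg
  rw [mem_K₂] at hg
  refine ⟨hg.1, ?_⟩
  have := hg.2 1 (one_smul _ _)
  rwa [one_smul] at this

theorem K₁_max (a b : Ω) {Y : Subgroup G} (hY : Y ≤ stabilizer G a ⊓ stabilizer G b)
    (hn : stabilizer G a ≤ Subgroup.normalizer (Y : Set G)) : Y ≤ K₁ a b := by
  intro g hg
  rw [mem_K₁]
  refine ⟨(hY hg).1, fun h hh => ?_⟩
  have hm : h⁻¹ * g * h⁻¹⁻¹ ∈ Y := conj_mem_of_normalizer (hn (inv_mem (mem_stabilizer_iff.2 hh))) hg
  have h2 : (h⁻¹ * g * h⁻¹⁻¹) • b = b := (hY hm).2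
  rw [inv_inv, mul_smul, mul_smul, inv_smul_eq_iff] at h2
  exact h2

variable [Finite G] [Finite Ω] [FaithfulSMul G Ω]

theorem normalizer_eq (hprim : IsPreprimitive G Ω) [Nontrivial Ω] (a : Ω) {Y : Subgroup G} (hne : Y ≠ ⊥)
    (hle : Y ≤ stabilizer G a) (hn : stabilizer G a ≤ Subgroup.normalizer (Y : Set G)) :
    Subgroup.normalizer (Y : Set G) = stabilizer G a := by
  haveI := hprim.toIsPretransitive
  haveI := hprim
  rcases (IsCoatom.le_iff (IsPreprimitive.isCoatom_stabilizer_of_isPreprimitive G a)).1 hn with h | h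
  rotate_left
  · exact h
  · exfalso
    refine hne ((Subgroup.eq_bot_iff_forall _).2 fun y hy => eq_of_smul_eq_smul (α := Ω) fun (o : Ω) => ?_)
    obtain ⟨g, rfl⟩ := exists_smul_eq G a o
    have hm : g⁻¹ * y * g⁻¹⁻¹ ∈ Y := conj_mem_of_normalizer (h.symm ▸ Subgroup.mem_top _) hy
    have h2 : (g⁻¹ * y * g⁻¹⁻¹) • a = a := hle hm
    rw [inv_inv, mul_smul, mul_smul, inv_smul_eq_iff] at h2
    rw [one_smul, h2]

theorem pc_card_eq (hprim : IsPreprimitive G Ω) (a b : Ω) (r : ℕ) :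
    Nat.card (pc r (stabilizer G a)) = Nat.card (pc r (stabilizer G b)) := by
  haveI := hprim.toIsPretransitive
  obtain ⟨g, hg⟩ := exists_smul_eq G a b
  have hf := fun X : Subgroup G => Nat.card_congr
    ((Cfsg.pCore r X).equivMapOfInjective X.subtype X.subtype_injective).toEquiv
  rw [pc, pc, ← hf, ← hf]
  have e : (stabilizer G a) ≃* (stabilizer G b) := stabilizerEquivStabilizer hg.symm
  haveI := Fintype.ofFinite G
  have hmap : (Cfsg.pCore r (stabilizer G a)).map e.toMonoidHom = Cfsg.pCore r (stabilizer G b) := by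
    have key : ∀ {X Y : Subgroup G} (e : X ≃* Y), (Cfsg.pCore r X).map e.toMonoidHom ≤ Cfsg.pCore r Y := by
      intro X Y e
      rw [Cfsg.pCore, sSup_eq_iSup, Subgroup.map_iSup]
      refine iSup_le fun N => ?_
      rw [Subgroup.map_iSup]
      exact iSup_le fun hN => le_sSup ⟨hN.1.map _ e.surjective, hN.2.map _⟩
    refine le_antisymm (key e) fun y hy => ⟨e.symm y, key e.symm ⟨y, hy, rfl⟩, e.apply_symm_apply y⟩
  rw [← hmap]
  exact Nat.card_congr ((Cfsg.pCore r (stabilizer G a)).equivMapOfInjective _ e.injective).toEquiv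

theorem stabilizer_ne (hprim : IsPreprimitive G Ω) (a b : Ω)
    (h2 : 2 ≤ Nat.card (orbit (stabilizer G a) b)) : stabilizer G a ≠ stabilizer G b := by
  intro e
  have : Subsingleton (orbit (stabilizer G a) b) := ⟨by
    rintro ⟨_, ⟨h, rfl⟩⟩ ⟨_, ⟨k, rfl⟩⟩
    have hb : ∀ h : stabilizer G a, h • b = b := fun h => mem_stabilizer_iff.1 (e ▸ h.2 : (h : G) ∈ stabilizer G b)
    exact Subtype.ext ((hb h).trans (hb k).symm)⟩
  have := Finite.card_le_one_iff_subsingleton.2 this
  omega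

theorem cfg (hprim : IsPreprimitive G Ω) (a b : Ω) (h2 : 2 ≤ Nat.card (orbit (stabilizer G a) b)) :
    Cfg (stabilizer G a) (stabilizer G b) (K₁ a b) (K₁ b a) (K₂ a b) (K₂ b a) := by
  haveI : Nontrivial Ω := by
    haveI : Nontrivial (orbit (stabilizer G a) b) := Finite.one_lt_card_iff_nontrivial.1 (by omega)
    exact Function.Injective.nontrivial (f := fun c : orbit (stabilizer G a) b => (c : Ω)) Subtype.coe_injective
  have nm : ∀ (a : Ω) (Y : Subgroup G), (∀ g ∈ Y, ∀ k : G, k • a = a → k * g * k⁻¹ ∈ Y) →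
      stabilizer G a ≤ Subgroup.normalizer (Y : Set G) :=
    fun a Y h k hk => mem_normalizer_of_conj fun g hg => h g hg k (mem_stabilizer_iff.1 hk)
  exact
    { normH := fun Y h1 h2 h3 => normalizer_eq hprim a h1 h2 h3
      normK := fun Y h1 h2 h3 => normalizer_eq hprim b h1 h2 h3
      ne := stabilizer_ne hprim a b h2
      A_le := K₁_le a b
      B_le := (K₁_le b a).trans (le_of_eq (inf_comm _ _))
      A_norm := nm a _ fun _ hg _ hk => K₁_normalized a b hg hk
      B_norm := nm b _ fun _ hg _ hk => K₁_normalized b a hg hk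
      A_max := fun Y h1 h2 => K₁_max a b h1 h2
      B_max := fun Y h1 h2 => K₁_max b a (h1.trans (le_of_eq (inf_comm _ _))) h2
      A₂_le := K₂_le a b
      B₂_le := (K₂_le b a).trans (le_of_eq (inf_comm _ _))
      A₂_norm := nm a _ fun _ hg _ hk => K₂_normalized a b hg hk
      B₂_norm := nm b _ fun _ hg _ hk => K₂_normalized b a hg hk
      card_pc := pc_card_eq hprim a b }

theorem card_orbit_swap (hprim : IsPreprimitive G Ω) (a b : Ω) :
    Nat.card (orbit (stabilizer G b) a) = Nat.card (orbit (stabilizer G a) b) := by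
  haveI := hprim.toIsPretransitive
  have h1 : ∀ x y : Ω, Nat.card (orbit (stabilizer G x) y) * Nat.card (stabilizer G x ⊓ stabilizer G y : Subgroup G) =
      Nat.card (stabilizer G x) := by
    intro x y
    have h := (stabilizer (stabilizer G x) y).card_mul_index
    rw [index_stabilizer, ← Nat.card_coe_set_eq, mul_comm] at h
    have e : stabilizer (stabilizer G x) y = (stabilizer G y).subgroupOf (stabilizer G x) := rfl
    rw [e, Nat.card_congr (((stabilizer G y).subgroupOf (stabilizer G x)).equivMapOfInjective _ (stabilizer G x).subtype_injective).toEquiv,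
      Subgroup.subgroupOf_map_subtype, inf_comm] at h
    exact h
  have hc : Nat.card (stabilizer G a) = Nat.card (stabilizer G b) := by
    obtain ⟨g, hg⟩ := exists_smul_eq G a b
    exact Nat.card_congr (stabilizerEquivStabilizer hg.symm).toEquiv
  have ha := h1 a b
  have hb := h1 b a
  rw [inf_comm] at hb
  rw [hc, ← hb] at ha
  exact (Nat.eq_of_mul_eq_mul_right Nat.card_pos ha).symm

/-- The index of the first kernel. -/
theorem index_K₁ (a b : Ω) :
    ((K₁ (G := G) a b).subgroupOf (stabilizer G a)).index ∣ (Nat.card (orbit (stabilizer G a) b)).factorial := by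
  have h : (K₁ (G := G) a b).subgroupOf (stabilizer G a) = (toPermHom (stabilizer G a) (orbit (stabilizer G a) b)).ker := by
    ext g
    rw [Subgroup.mem_subgroupOf, mem_K₁, MonoidHom.mem_ker]
    constructor
    · rintro ⟨-, h⟩
      ext ⟨_, ⟨k, rfl⟩⟩
      exact h k (mem_stabilizer_iff.1 k.2)
    · intro h
      refine ⟨mem_stabilizer_iff.1 g.2, fun k hk => ?_⟩
      exact congrArg Subtype.val (Equiv.congr_fun h ⟨k • b, ⟨⟨k, hk⟩, rfl⟩⟩)
  rw [h, Subgroup.index_ker, ← Nat.card_perm]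
  exact Subgroup.card_subgroup_dvd_card _

/-- The index of the second kernel in the first. -/
theorem relIndex_K₂ (hprim : IsPreprimitive G Ω) (a b : Ω) (d : ℕ)
    (hd : Nat.card (orbit (stabilizer G a) b) = d) :
    ((K₂ (G := G) a b).subgroupOf (K₁ (G := G) a b)).index ∣ ((d - 1).factorial) ^ d := by
  haveI := hprim.toIsPretransitive
  let S : orbit (stabilizer G a) b → Set Ω := fun c => {x | x ∈ orbit (stabilizer G (c : Ω)) a ∧ x ≠ a}
  have hfix : ∀ (g : K₁ (G := G) a b) (c : orbit (stabilizer G a) b), g.1 • (c : Ω) = c ∧ g.1 • a = a := by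
    rintro ⟨g, hg⟩ ⟨_, ⟨k, rfl⟩⟩
    rw [mem_K₁] at hg
    exact ⟨hg.2 k (mem_stabilizer_iff.1 k.2), hg.1⟩
  have hS : ∀ (g : K₁ (G := G) a b) (c : orbit (stabilizer G a) b) (x : Ω), x ∈ S c → g.1 • x ∈ S c := by
    intro g c x hx
    obtain ⟨⟨k, hk⟩, rfl⟩ := hx.1
    refine ⟨⟨⟨g.1 * k, by rw [mem_stabilizer_iff, mul_smul, mem_stabilizer_iff.1 hk, (hfix g c).1]⟩, mul_smul g.1 k a⟩, fun e => hx.2 ?_⟩
    exact smul_left_cancel g.1 (e.trans (hfix g c).2.symm)
  let φ : K₁ (G := G) a b →* ((c : orbit (stabilizer G a) b) → Equiv.Perm (S c)) :=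
    { toFun := fun g c =>
        { toFun := fun x => ⟨g.1 • x.1, hS g c x.1 x.2⟩
          invFun := fun x => ⟨g.1⁻¹ • x.1, hS g⁻¹ c x.1 x.2⟩
          left_inv := fun x => Subtype.ext (inv_smul_smul _ _)
          right_inv := fun x => Subtype.ext (smul_inv_smul _ _) }
      map_one' := by funext c; ext x; exact one_smul G x.1
      map_mul' := fun g h => by funext c; ext x; exact mul_smul g.1 h.1 x.1 }
  have hker : φ.ker ≤ (K₂ a b).subgroupOf (K₁ (G := G) a b) := by
    intro g hg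
    rw [Subgroup.mem_subgroupOf, mem_K₂]
    refine ⟨g.2, fun k hk => mem_K₁.2 ⟨(hfix g ⟨k • b, ⟨⟨k, hk⟩, rfl⟩⟩).1, fun h hh => ?_⟩⟩
    by_cases e : h • a = a
    · rw [e]; exact (hfix g ⟨b, mem_orbit_self b⟩).2
    · exact congrArg Subtype.val (Equiv.congr_fun (congrFun (MonoidHom.mem_ker.1 hg) ⟨k • b, ⟨⟨k, hk⟩, rfl⟩⟩) ⟨h • a, ⟨⟨h, hh⟩, rfl⟩, e⟩)
  refine (Subgroup.index_dvd_of_le hker).trans ?_
  rw [Subgroup.index_ker]
  refine (Subgroup.card_subgroup_dvd_card _).trans ?_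
  haveI := Fintype.ofFinite (orbit (stabilizer G a) b)
  rw [Nat.card_pi]
  have hcard : ∀ c : orbit (stabilizer G a) b, Nat.card (Equiv.Perm (S c)) = (d - 1).factorial := by
    intro c
    rw [Nat.card_perm]
    congr 1
    have h1 : Nat.card (orbit (stabilizer G (c : Ω)) a) = d := by
      rw [card_orbit_swap hprim a c, ← hd, orbit_eq_iff.2 c.2]
    haveI := Fintype.ofFinite Ω
    have h2 : S c = orbit (stabilizer G (c : Ω)) a \ {a} := rfl
    rw [h2, Nat.card_coe_set_eq, Set.ncard_diff_singleton_of_mem (mem_orbit_self a), ← Nat.card_coe_set_eq, h1]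
  rw [Finset.prod_congr rfl (fun c _ => hcard c), Finset.prod_const, Finset.card_univ, ← Nat.card_eq_fintype_card, hd]

/-- The index of the second kernel in the stabiliser. -/
theorem index_K₂ (hprim : IsPreprimitive G Ω) (a b : Ω) (d : ℕ)
    (hd : Nat.card (orbit (stabilizer G a) b) = d) :
    ((K₂ (G := G) a b).subgroupOf (stabilizer G a)).index ∣ d.factorial * ((d - 1).factorial) ^ d := by
  have h := Subgroup.relIndex_mul_relIndex (K₂ a b : Subgroup G) (K₁ a b) (stabilizer G a)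
    ((K₂_le a b).trans inf_le_left) ((K₁_le a b).trans inf_le_left)
  change (K₂ a b).relIndex (stabilizer G a) ∣ _
  rw [← h, mul_comm]
  exact Nat.mul_dvd_mul (hd ▸ index_K₁ a b) (relIndex_K₂ hprim a b d hd)

theorem card_dvd_of_bot (hprim : IsPreprimitive G Ω) (a b : Ω) (d : ℕ)
    (hd : Nat.card (orbit (stabilizer G a) b) = d) (h : K₂ (G := G) a b = ⊥ ∨ K₂ (G := G) b a = ⊥) :
    Nat.card (stabilizer G a) ∣ d.factorial * ((d - 1).factorial) ^ d := by
  haveI := hprim.toIsPretransitive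
  rcases h with h | h
  · have := index_K₂ hprim a b d hd
    rwa [h, Subgroup.bot_subgroupOf, Subgroup.index_bot] at this
  · have := index_K₂ hprim b a d ((card_orbit_swap hprim a b).trans hd)
    rw [h, Subgroup.bot_subgroupOf, Subgroup.index_bot] at this
    obtain ⟨g, hg⟩ := exists_smul_eq G a b
    rwa [Nat.card_congr (stabilizerEquivStabilizer hg.symm).toEquiv]

/-- Wielandt's normal `p`-subgroup of bounded index. -/
theorem wielandt_pgroup (hprim : IsPreprimitive G Ω) (a b : Ω) (d : ℕ)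
    (hd : Nat.card (orbit (stabilizer G a) b) = d) (h2 : 2 ≤ d) :
    ∃ p : ℕ, p.Prime ∧ ∃ P : Subgroup (stabilizer G a), P.Normal ∧ IsPGroup p P ∧
      (∀ g : P, ((g : stabilizer G a) : G) • b = b) ∧ P.index ∣ d.factorial * ((d - 1).factorial) ^ d := by
  haveI := hprim.toIsPretransitive
  have c := cfg hprim a b (hd ▸ h2)
  by_cases hbot : K₂ (G := G) a b = ⊥ ∨ K₂ (G := G) b a = ⊥
  · refine ⟨2, Nat.prime_two, ⊥, inferInstance, IsPGroup.of_bot, fun g => ?_, ?_⟩
    · rw [Subgroup.mem_bot.1 g.2]; exact one_smul G b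
    · rw [Subgroup.index_bot]; exact card_dvd_of_bot hprim a b d hd hbot
  push Not at hbot
  obtain ⟨p, hp, hor, -⟩ := main c hbot.1 hbot.2
  haveI := Fact.mk hp
  refine ⟨p, hp, ?_⟩
  rcases hor with h | h
  · refine ⟨(K₂ a b).subgroupOf (stabilizer G a), (Subgroup.normal_subgroupOf_iff_le_normalizer
      (((K₂_le a b).trans inf_le_left).trans ((K₁_le a b).trans inf_le_left))).2 c.A₂_norm,
      h.comap_of_injective _ (stabilizer G a).subtype_injective, fun g => ?_, index_K₂ hprim a b d hd⟩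
    exact mem_stabilizer_iff.1 ((K₁_le a b) ((K₂_le a b) (Subgroup.mem_subgroupOf.1 g.2)).1).2
  · haveI := Solv.pCore_normal (G := stabilizer G a) p
    haveI : ((K₁ a b).subgroupOf (stabilizer G a)).Normal :=
      (Subgroup.normal_subgroupOf_iff_le_normalizer (c.A_le.trans inf_le_left)).2 c.A_norm
    refine ⟨Cfsg.pCore p (stabilizer G a) ⊓ (K₁ a b).subgroupOf (stabilizer G a), inferInstance,
      (Solv.pCore_isPGroup p).to_le inf_le_left, fun g => mem_stabilizer_iff.1 (c.A_le (Subgroup.mem_subgroupOf.1 g.2.2)).2, ?_⟩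
    set P := Cfsg.pCore p (stabilizer G a) ⊓ (K₁ a b).subgroupOf (stabilizer G a) with hP
    have hle : (K₂ b a).subgroupOf (stabilizer G a) ≤ P := fun x hx => by
      refine ⟨?_, ((c.B₂_le) hx).1⟩
      obtain ⟨y, hy, e⟩ := le_pc_of_snIn c.B₂_snH h hx
      exact (Subtype.ext e : y = x) ▸ hy
    have hK := index_K₂ hprim b a d ((card_orbit_swap hprim a b).trans hd)
    refine dvd_trans ?_ hK
    obtain ⟨m, hm⟩ := Subgroup.card_dvd_of_le hle
    have e1 := P.card_mul_index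
    have e2 := ((K₂ (G := G) b a).subgroupOf (stabilizer G b)).card_mul_index
    rw [Nat.card_congr (Subgroup.subgroupOfEquivOfLe c.B₂_leK).toEquiv] at e2
    rw [Nat.card_congr (Subgroup.subgroupOfEquivOfLe c.B₂_snH.1).toEquiv] at hm
    obtain ⟨g, hg⟩ := exists_smul_eq G a b
    rw [Nat.card_congr (stabilizerEquivStabilizer hg.symm).toEquiv, ← e2, hm, mul_assoc] at e1
    exact ⟨m, by rw [mul_comm]; exact (Nat.eq_of_mul_eq_mul_left Nat.card_pos e1).symm⟩

end Cfsg.Agent.Lie.TW
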