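import Mathlib
import Cfsg.Agent.Lib.Lie.SuborbitKernels

/-!
Primitive groups with a suborbit of length three: the basic structure of the stabilisers.
-/

set_option autoImplicit false
set_option linter.style.haveILetI false
open MulAction

namespace Cfsg.Agent.Lie.Sims

open TW (pc K₁ mem_normalizer_of_conj conj_mem_of_normalizer)

universe u v

variable {G : Type u} {Ω : Type v} [Group G] [MulAction G Ω]

/-- `x` lies in a suborbit of length three of `a`. -/
def Adj (G : Type u) {Ω : Type v} [Group G] [MulAction G Ω] (a x : Ω) : Prop :=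
  Nat.card (orbit (stabilizer G a) x) = 3

/-- The two-point stabiliser. -/
abbrev ar (a x : Ω) : Subgroup G := stabilizer G a ⊓ stabilizer G x

/-- `O_2` of a point stabiliser. -/
abbrev Q (a : Ω) : Subgroup G := pc 2 (stabilizer G a)

theorem mem_stab {a : Ω} {g : G} : g ∈ stabilizer G a ↔ g • a = a := mem_stabilizer_iff

theorem conj_stab {a : Ω} {g : G} (k : G) (h : g ∈ stabilizer G a) : k * g * k⁻¹ ∈ stabilizer G (k • a) := by
  rw [mem_stabilizer_iff] at h ⊢
  rw [mul_smul, mul_smul, inv_smul_smul, h]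

theorem conj_stab_iff {a : Ω} {g : G} (k : G) : k * g * k⁻¹ ∈ stabilizer G (k • a) ↔ g ∈ stabilizer G a := by
  refine ⟨fun h => ?_, conj_stab k⟩
  have := conj_stab k⁻¹ h
  rw [inv_smul_smul] at this
  simpa [mul_assoc] using this

theorem conj_ar {a x : Ω} {g : G} (k : G) (h : g ∈ ar a x) : k * g * k⁻¹ ∈ ar (k • a) (k • x) :=
  ⟨conj_stab k h.1, conj_stab k h.2⟩

theorem ar_comm (a x : Ω) : (ar a x : Subgroup G) = ar x a := inf_comm _ _

variable [Finite G] [Finite Ω] [FaithfulSMul G Ω]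

theorem adj_conj {a x : Ω} (h : Adj G a x) (k : G) : Adj G (k • a) (k • x) := by
  unfold Adj at h ⊢
  have hmap : orbit (stabilizer G (k • a)) (k • x) = (fun c : Ω => k • c) '' orbit (stabilizer G a) x := by
    ext c
    constructor
    · rintro ⟨⟨g, hg⟩, rfl⟩
      refine ⟨(k⁻¹ * g * k) • x, ⟨⟨k⁻¹ * g * k, ?_⟩, rfl⟩, ?_⟩
      · rw [← conj_stab_iff k]; simpa [mul_assoc] using hg
      · show k • (k⁻¹ * g * k) • x = g • k • x
        rw [mul_smul, mul_smul, smul_inv_smul]
    · rintro ⟨_, ⟨⟨g, hg⟩, rfl⟩, rfl⟩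
      refine ⟨⟨k * g * k⁻¹, conj_stab k hg⟩, ?_⟩
      show (k * g * k⁻¹) • k • x = k • g • x
      rw [mul_smul, mul_smul, inv_smul_smul]
  rw [hmap, Nat.card_coe_set_eq, Set.ncard_image_of_injective _ (MulAction.injective k), ← Nat.card_coe_set_eq, h]

theorem adj_smul {a x : Ω} (h : Adj G a x) {k : G} (hk : k ∈ stabilizer G a) : Adj G a (k • x) := by
  have := adj_conj h k
  rwa [mem_stabilizer_iff.1 hk] at this

theorem adj_symm (hprim : IsPreprimitive G Ω) {a x : Ω} (h : Adj G a x) : Adj G x a := by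
  unfold Adj at h ⊢
  rw [TW.card_orbit_swap hprim a x, h]

theorem cfg_adj (hprim : IsPreprimitive G Ω) {a x : Ω} (h : Adj G a x) :
    TW.Cfg (stabilizer G a) (stabilizer G x) (TW.K₁ a x) (TW.K₁ x a) (TW.K₂ a x) (TW.K₂ x a) :=
  TW.cfg (G := G) hprim a x (by rw [h]; norm_num)

/-- No nontrivial subgroup is normalised by both stabilisers. -/
theorem eq_bot_pair (hprim : IsPreprimitive G Ω) {a x : Ω} (h : Adj G a x) {Y : Subgroup G}
    (hle : Y ≤ ar a x) (h1 : stabilizer G a ≤ Subgroup.normalizer (Y : Set G))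
    (h2 : stabilizer G x ≤ Subgroup.normalizer (Y : Set G)) : Y = ⊥ :=
  (cfg_adj hprim h).eq_bot (hle.trans inf_le_left) (hle.trans inf_le_right) h1 h2

theorem card_stab_eq (hprim : IsPreprimitive G Ω) (a b : Ω) :
    Nat.card (stabilizer G a) = Nat.card (stabilizer G b) := by
  haveI := hprim.toIsPretransitive
  obtain ⟨g, hg⟩ := exists_smul_eq G a b
  exact Nat.card_congr (stabilizerEquivStabilizer hg.symm).toEquiv

theorem card_ar {a x : Ω} (h : Adj G a x) : 3 * Nat.card (ar a x : Subgroup G) = Nat.card (stabilizer G a) := by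
  have h1 := (stabilizer (stabilizer G a) x).card_mul_index
  rw [index_stabilizer, ← Nat.card_coe_set_eq, h] at h1
  have e : stabilizer (stabilizer G a) x = (stabilizer G x).subgroupOf (stabilizer G a) := rfl
  rw [e, Nat.card_congr (((stabilizer G x).subgroupOf (stabilizer G a)).equivMapOfInjective _ (stabilizer G a).subtype_injective).toEquiv,
    Subgroup.subgroupOf_map_subtype, inf_comm] at h1
  rw [mul_comm]; exact h1

theorem orbit_three {a x : Ω} (h : Adj G a x) {p q r : Ω} (hp : p ∈ orbit (stabilizer G a) x)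
    (hq : q ∈ orbit (stabilizer G a) x) (hr : r ∈ orbit (stabilizer G a) x)
    (h1 : p ≠ q) (h2 : p ≠ r) (h3 : q ≠ r) {s : Ω} (hs : s ∈ orbit (stabilizer G a) x) : s = p ∨ s = q ∨ s = r := by
  classical
  by_contra hc
  push Not at hc
  haveI := Fintype.ofFinite Ω
  have hsub : ({s, p, q, r} : Finset Ω) ⊆ (orbit (stabilizer G a) x).toFinset := by
    intro y hy
    simp only [Finset.mem_insert, Finset.mem_singleton] at hy
    rcases hy with rfl | rfl | rfl | rfl <;> simp_all
  have := Finset.card_le_card hsub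
  rw [Finset.card_insert_of_notMem (by simp [hc.1, hc.2.1, hc.2.2]), Finset.card_insert_of_notMem (by simp [h1, h2]),
    Finset.card_pair h3, ← Set.ncard_eq_toFinset_card', ← Nat.card_coe_set_eq, h] at this
  omega

/-- The odd order elements of a two-point stabiliser lie in the kernel. -/
theorem odd_mem_K₁ {a x : Ω} (h : Adj G a x) {g : G} (hg : g ∈ ar a x) (ho : (orderOf g).Coprime 2) :
    g ∈ K₁ a x := by
  rw [TW.mem_K₁]
  refine ⟨hg.1, fun k hk => ?_⟩
  by_contra hne
  have hx : g • x = x := hg.2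
  have hy : k • x ∈ orbit (stabilizer G a) x := ⟨⟨k, hk⟩, rfl⟩
  have hgy : g • k • x ∈ orbit (stabilizer G a) x := ⟨⟨g * k, mul_mem hg.1 hk⟩, mul_smul g k x⟩
  have hggy : g • g • k • x ∈ orbit (stabilizer G a) x := by
    refine ⟨⟨g * g * k, mul_mem (mul_mem hg.1 hg.1) hk⟩, ?_⟩
    show (g * g * k) • x = _
    rw [mul_smul, mul_smul]
  have hxy : x ≠ k • x := fun e => hne (by rw [← e, hx])
  have hxgy : x ≠ g • k • x := fun e => hxy (smul_left_cancel g (hx.trans e))
  have hgg : (g * g) • k • x = k • x := by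
    rw [mul_smul]
    rcases orbit_three h (mem_orbit_self x) hy hgy hxy hxgy (Ne.symm hne) hggy with e | e | e
    · exact absurd (smul_left_cancel g (hx.trans e.symm)) hxgy
    · exact e
    · exact absurd (smul_left_cancel g e) hne
  refine hne ?_
  have hsq : g * g ∈ stabilizer G (k • x) := hgg
  obtain ⟨m, hm⟩ := exists_pow_eq_self_of_coprime (x := g) ho.symm
  have := pow_mem hsq m
  rw [← pow_two, hm] at this
  exact this

theorem ar_isPGroup (hprim : IsPreprimitive G Ω) {a x : Ω} (h : Adj G a x) : IsPGroup 2 (ar (G := G) a x) := by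
  haveI : Fact (Nat.Prime 2) := ⟨Nat.prime_two⟩
  rw [← TW.res_eq_bot_iff]
  have hnorm : ∀ a x : Ω, Adj G a x → stabilizer G a ≤ Subgroup.normalizer ((TW.res 2 (ar a x) : Subgroup G) : Set G) := by
    intro a x h k hk
    refine mem_normalizer_of_conj fun g hg => ?_
    have : (MulAut.conj k).toMonoidHom g ∈ (TW.res 2 (ar a x : Subgroup G)).map (MulAut.conj k).toMonoidHom := ⟨g, hg, rfl⟩
    rw [TW.res, MonoidHom.map_closure] at this
    refine (Subgroup.closure_mono (k := {g : G | g ∈ (ar a x : Subgroup G) ∧ (orderOf g).Coprime 2}) ?_) this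
    rintro _ ⟨y, ⟨hy, ho⟩, rfl⟩
    exact ⟨TW.K₁_le a x (TW.K₁_normalized a x (odd_mem_K₁ h hy ho) (mem_stabilizer_iff.1 hk)), (TW.orderOf_conj k y).symm ▸ ho⟩
  refine eq_bot_pair hprim h (TW.res_le _ _) (hnorm a x h) ?_
  rw [show (ar a x : Subgroup G) = ar x a from ar_comm a x]
  exact hnorm x a (adj_symm hprim h)

theorem Q_le (hprim : IsPreprimitive G Ω) {a x : Ω} (h : Adj G a x) : (Q a : Subgroup G) ≤ ar a x := by
  haveI : Fact (Nat.Prime 2) := ⟨Nat.prime_two⟩
  have hQH : (Q a : Subgroup G) ≤ stabilizer G a := TW.pc_le 2 _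
  have hsup : IsPGroup 2 ↥(Q a ⊔ ar a x : Subgroup G) :=
    (TW.pc_isPGroup 2 _).to_sup_of_normal_left' (ar_isPGroup hprim h) (inf_le_left.trans (TW.pc_normal 2 _))
  have hle : (Q a ⊔ ar a x : Subgroup G) ≤ stabilizer G a := sup_le hQH inf_le_left
  obtain ⟨k, hk⟩ := IsPGroup.iff_card.1 hsup
  obtain ⟨j, hj⟩ := IsPGroup.iff_card.1 (ar_isPGroup hprim h)
  have h1 := Subgroup.card_dvd_of_le hle
  rw [← card_ar h, hk, hj] at h1
  have h2 : 2 ^ k ∣ 2 ^ j := Nat.Coprime.dvd_of_dvd_mul_left (Nat.Coprime.pow_left _ (by norm_num)) h1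
  have e : (ar a x : Subgroup G) = Q a ⊔ ar a x :=
    Subgroup.eq_of_le_of_card_ge le_sup_right (by rw [hk, hj]; exact Nat.le_of_dvd (by positivity) h2)
  exact e ▸ le_sup_left

theorem K₁_eq (hprim : IsPreprimitive G Ω) {a x : Ω} (h : Adj G a x) : (K₁ a x : Subgroup G) = Q a := by
  haveI : Fact (Nat.Prime 2) := ⟨Nat.prime_two⟩
  refine le_antisymm ?_ (TW.K₁_max a x (Q_le hprim h) (TW.pc_normal 2 _))
  exact TW.le_pc_of_normal ((TW.K₁_le a x).trans inf_le_left) (cfg_adj hprim h).A_norm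
    ((ar_isPGroup hprim h).to_le (TW.K₁_le a x))

theorem mem_Q_iff (hprim : IsPreprimitive G Ω) {a x : Ω} (h : Adj G a x) {g : G} :
    g ∈ (Q a : Subgroup G) ↔ g • a = a ∧ ∀ k : G, k • a = a → g • k • x = k • x := by
  rw [← K₁_eq hprim h, TW.mem_K₁]

theorem index_Q (hprim : IsPreprimitive G Ω) {a x : Ω} (h : Adj G a x) :
    Nat.card (stabilizer G a) = 3 * Nat.card (Q a : Subgroup G) ∨
      Nat.card (stabilizer G a) = 6 * Nat.card (Q a : Subgroup G) := by
  have h1 := TW.index_K₁ (G := G) a x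
  rw [h] at h1
  have h2 := ((K₁ (G := G) a x).subgroupOf (stabilizer G a)).card_mul_index
  rw [Nat.card_congr (Subgroup.subgroupOfEquivOfLe ((TW.K₁_le a x).trans inf_le_left)).toEquiv, K₁_eq hprim h] at h2
  rw [K₁_eq hprim h] at h1
  have h3 : Nat.card (Q a : Subgroup G) ∣ Nat.card (ar a x : Subgroup G) := Subgroup.card_dvd_of_le (Q_le hprim h)
  obtain ⟨m, hm⟩ := h3
  have hi : ((Q (G := G) a).subgroupOf (stabilizer G a)).index = 3 * m := by
    have := card_ar h
    rw [hm, ← h2] at this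
    exact Nat.eq_of_mul_eq_mul_left (Nat.card_pos (α := Q (G := G) a)) (by rw [← this]; ring)
  rw [hi] at h1 h2
  have hm2 : m ∣ 2 := Nat.dvd_of_mul_dvd_mul_left (by norm_num : 0 < 3) (by simpa [Nat.factorial] using h1)
  rcases (Nat.dvd_prime Nat.prime_two).1 hm2 with rfl | rfl
  · exact Or.inl (by rw [← h2]; ring)
  · exact Or.inr (by rw [← h2]; ring)

theorem card_three_of_index (hprim : IsPreprimitive G Ω) {a x : Ω} (h : Adj G a x)
    (h3 : Nat.card (stabilizer G a) = 3 * Nat.card (Q a : Subgroup G)) : Nat.card (stabilizer G a) = 3 := by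
  have key : ∀ p q : Ω, Adj G p q → (Q p : Subgroup G) = ar p q := by
    intro p q hpq
    refine Subgroup.eq_of_le_of_card_ge (Q_le hprim hpq) ?_
    have := card_ar hpq
    have h4 := TW.pc_card_eq (G := G) hprim a p 2
    rw [card_stab_eq hprim p a, h3] at this
    have : Nat.card (ar p q : Subgroup G) = Nat.card (Q a : Subgroup G) := Nat.eq_of_mul_eq_mul_left (by norm_num) this
    exact le_of_eq (this.trans h4)
  have hD : (ar a x : Subgroup G) = ⊥ := by
    refine eq_bot_pair hprim h le_rfl ?_ ?_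
    · rw [← key a x h]; exact TW.pc_normal 2 _
    · rw [ar_comm, ← key x a (adj_symm hprim h)]; exact TW.pc_normal 2 _
  rw [← card_ar h, hD, Subgroup.card_bot]

/-- The standing assumption: the stabiliser acts on a suborbit of length three as `S₃`. -/
def IndexSix (G : Type u) (Ω : Type v) [Group G] [MulAction G Ω] : Prop :=
  ∀ a : Ω, Nat.card (stabilizer G a) = 6 * Nat.card (pc 2 (stabilizer G a))

theorem indexSix_of_ne (hprim : IsPreprimitive G Ω) {a x : Ω} (h : Adj G a x)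
    (hne : Nat.card (stabilizer G a) ≠ 3) : IndexSix G Ω := by
  rcases index_Q hprim h with h3 | h6
  · exact absurd (card_three_of_index hprim h h3) hne
  · intro b
    rw [card_stab_eq hprim b a, h6]
    exact congrArg (6 * ·) (TW.pc_card_eq hprim a b 2)

theorem card_ar_six (h6 : IndexSix G Ω) {a x : Ω} (h : Adj G a x) :
    Nat.card (ar a x : Subgroup G) = 2 * Nat.card (Q a : Subgroup G) := by
  have := card_ar h
  rw [h6 a] at this
  show _ = 2 * Nat.card (pc 2 (stabilizer G a))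
  omega

theorem mul_mem_Q (hprim : IsPreprimitive G Ω) (h6 : IndexSix G Ω) {a x : Ω} (h : Adj G a x) {d e : G}
    (hd : d ∈ ar a x) (he : e ∈ ar a x) (hd' : d ∉ Q a) (he' : e ∉ Q a) : d⁻¹ * e ∈ Q a := by
  have hi : ((Q (G := G) a).subgroupOf (ar a x)).index = 2 := by
    have h1 := ((Q (G := G) a).subgroupOf (ar a x)).card_mul_index
    rw [Nat.card_congr (Subgroup.subgroupOfEquivOfLe (Q_le hprim h)).toEquiv, card_ar_six h6 h, mul_comm 2] at h1
    exact Nat.eq_of_mul_eq_mul_left Nat.card_pos h1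
  have := Subgroup.mul_mem_iff_of_index_two hi (a := (⟨d, hd⟩ : (ar a x : Subgroup G))⁻¹) (b := ⟨e, he⟩)
  exact this.2 (by simp [Subgroup.mem_subgroupOf, hd', he'])

theorem sq_mem_Q (hprim : IsPreprimitive G Ω) (h6 : IndexSix G Ω) {a x : Ω} (h : Adj G a x) {d : G}
    (hd : d ∈ ar a x) : d * d ∈ Q a := by
  by_cases hd' : d ∈ Q a
  · exact mul_mem hd' hd'
  · have := mul_mem_Q hprim h6 h (inv_mem hd) hd (fun e => hd' (inv_inv d ▸ inv_mem e)) hd'
    rwa [inv_inv] at this

theorem exists_notMem_Q (h6 : IndexSix G Ω) {a x : Ω} (h : Adj G a x) :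
    ∃ d ∈ ar a x, d ∉ (Q a : Subgroup G) := by
  by_contra hc
  push Not at hc
  have h1 := Subgroup.card_dvd_of_le (show (ar a x : Subgroup G) ≤ Q a from hc)
  rw [card_ar_six h6 h] at h1
  have := Nat.le_of_dvd Nat.card_pos h1
  have h0 : 0 < Nat.card (Q a : Subgroup G) := Nat.card_pos
  omega

theorem not_normal (hprim : IsPreprimitive G Ω) (h6 : IndexSix G Ω) {a x : Ω} (h : Adj G a x) :
    ¬ stabilizer G a ≤ Subgroup.normalizer ((ar a x : Subgroup G) : Set G) := by
  intro hn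
  haveI : Fact (Nat.Prime 2) := ⟨Nat.prime_two⟩
  obtain ⟨d, hd, hdQ⟩ := exists_notMem_Q h6 h
  exact hdQ (TW.le_pc_of_normal inf_le_left hn (ar_isPGroup hprim h) hd)

theorem eq_or_top {a x : Ω} (hax : Adj G a x) {M : Subgroup G}
    (h1 : ar a x ≤ M) (h2 : M ≤ stabilizer G a) : M = ar a x ∨ M = stabilizer G a := by
  obtain ⟨m, hm⟩ := Subgroup.card_dvd_of_le h1
  obtain ⟨n, hn⟩ := Subgroup.card_dvd_of_le h2
  rw [← card_ar hax, hm, mul_comm 3, mul_assoc] at hn
  have h3 : 3 = m * n := Nat.eq_of_mul_eq_mul_left Nat.card_pos hn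
  rcases (Nat.dvd_prime Nat.prime_three).1 (Dvd.intro n h3.symm) with rfl | rfl
  · exact Or.inl (Subgroup.eq_of_le_of_card_ge h1 (by rw [hm, mul_one])).symm
  · exact Or.inr (Subgroup.eq_of_le_of_card_ge h2 (by rw [hm, ← card_ar hax, mul_comm]))

theorem mem_of_fix_ar (hprim : IsPreprimitive G Ω) (h6 : IndexSix G Ω) {a x : Ω} (h : Adj G a x) {k : G}
    (hk : k ∈ stabilizer G a) (hn : k ∈ Subgroup.normalizer ((ar a x : Subgroup G) : Set G)) : k ∈ ar a x := by
  rcases eq_or_top h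
    (M := stabilizer G a ⊓ Subgroup.normalizer ((ar a x : Subgroup G) : Set G))
    (le_inf inf_le_left Subgroup.le_normalizer) inf_le_left with e | e
  · rw [← e]; exact ⟨hk, hn⟩
  · exact absurd (inf_eq_left.1 e) (not_normal hprim h6 h)

theorem ar_injective (hprim : IsPreprimitive G Ω) (h6 : IndexSix G Ω) {a x y : Ω} (h : Adj G a x)
    (hy : y ∈ orbit (stabilizer G a) x) (e : (ar a y : Subgroup G) = ar a x) : y = x := by
  obtain ⟨⟨k, hk⟩, rfl⟩ := hy
  have hkd : k ∈ ar a x := mem_of_fix_ar hprim h6 h hk (mem_normalizer_of_conj fun g hg => by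
    have := conj_ar k hg
    rw [mem_stabilizer_iff.1 hk] at this
    exact e ▸ this)
  exact hkd.2

theorem exists_other (hprim : IsPreprimitive G Ω) (h6 : IndexSix G Ω) {a x : Ω} (h : Adj G a x) (M : Subgroup G) :
    ∃ y ∈ orbit (stabilizer G a) x, (ar a y : Subgroup G) ≠ M := by
  by_contra hc
  push Not at hc
  obtain ⟨y, hy, hxy⟩ : ∃ y ∈ orbit (stabilizer G a) x, y ≠ x := by
    by_contra hc'
    push Not at hc'
    have : Subsingleton (orbit (stabilizer G a) x) := ⟨fun p q => Subtype.ext ((hc' p.1 p.2).trans (hc' q.1 q.2).symm)⟩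
    have := Finite.card_le_one_iff_subsingleton.2 this
    rw [h] at this; omega
  exact hxy (ar_injective hprim h6 h hy ((hc y hy).trans (hc x (mem_orbit_self x)).symm))

theorem ar_sup {a x y : Ω} (h : Adj G a x) (hy : Adj G a y) (hne : (ar a y : Subgroup G) ≠ ar a x) :
    ar a x ⊔ ar a y = stabilizer G a := by
  rcases eq_or_top h le_sup_left (sup_le inf_le_left inf_le_left) with e | e
  · exact absurd (Subgroup.eq_of_le_of_card_ge (sup_eq_left.1 e) (le_of_eq (Nat.eq_of_mul_eq_mul_left (by norm_num : 0 < 3)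
      ((card_ar h).trans (card_ar hy).symm)))) hne
  · exact e

/-- An element normalising a two-point stabiliser and moving its first point to the second. -/
theorem sigma (hprim : IsPreprimitive G Ω) {a x : Ω} (h : Adj G a x) :
    ∃ s : G, s • a = x ∧ ∀ g ∈ ar a x, s * g * s⁻¹ ∈ ar a x := by
  haveI := hprim.toIsPretransitive
  haveI : Fact (Nat.Prime 2) := ⟨Nat.prime_two⟩
  obtain ⟨g₀, hg₀⟩ := exists_smul_eq G a x
  -- both two-point stabilisers are Sylow 2-subgroups of the stabiliser of `x`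
  have h' := adj_conj h g₀
  rw [hg₀] at h'
  obtain ⟨P, hP⟩ : ∃ P : Sylow 2 (stabilizer G x), ∀ g, g ∈ P ↔ (g : G) ∈ ar a x := by
    refine ⟨⟨(ar a x).subgroupOf (stabilizer G x), (ar_isPGroup hprim h).comap_of_injective _ (stabilizer G x).subtype_injective, ?_⟩, fun g => Iff.rfl⟩
    intro R hR hle
    obtain ⟨j, hj⟩ := IsPGroup.iff_card.1 (ar_isPGroup hprim h)
    obtain ⟨k, hk⟩ := IsPGroup.iff_card.1 hR
    refine (Subgroup.eq_of_le_of_card_ge hle ?_).symm
    rw [Nat.card_congr (Subgroup.subgroupOfEquivOfLe (inf_le_right : (ar a x : Subgroup G) ≤ _)).toEquiv, hj, hk]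
    have h1 := Subgroup.card_subgroup_dvd_card R
    rw [hk, card_stab_eq hprim x a, ← card_ar h, hj] at h1
    exact Nat.le_of_dvd (by positivity) (Nat.Coprime.dvd_of_dvd_mul_left (Nat.Coprime.pow_left _ (by norm_num)) h1)
  obtain ⟨R, hR⟩ : ∃ R : Sylow 2 (stabilizer G x), ∀ g, g ∈ R ↔ (g : G) ∈ ar x (g₀ • x) := by
    refine ⟨⟨(ar x (g₀ • x)).subgroupOf (stabilizer G x), (ar_isPGroup hprim h').comap_of_injective _ (stabilizer G x).subtype_injective, ?_⟩, fun g => Iff.rfl⟩
    intro R hR hle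
    obtain ⟨j, hj⟩ := IsPGroup.iff_card.1 (ar_isPGroup hprim h')
    obtain ⟨k, hk⟩ := IsPGroup.iff_card.1 hR
    refine (Subgroup.eq_of_le_of_card_ge hle ?_).symm
    rw [Nat.card_congr (Subgroup.subgroupOfEquivOfLe (inf_le_left : (ar x (g₀ • x) : Subgroup G) ≤ _)).toEquiv, hj, hk]
    have h1 := Subgroup.card_subgroup_dvd_card R
    rw [hk, ← card_ar h', hj] at h1
    exact Nat.le_of_dvd (by positivity) (Nat.Coprime.dvd_of_dvd_mul_left (Nat.Coprime.pow_left _ (by norm_num)) h1)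
  obtain ⟨k, hk⟩ := exists_smul_eq (stabilizer G x) R P
  refine ⟨k.1 * g₀, by rw [mul_smul, hg₀]; exact k.2, fun g hg => ?_⟩
  have h1 := conj_ar g₀ hg
  rw [hg₀] at h1
  have h2 : (⟨g₀ * g * g₀⁻¹, h1.1⟩ : stabilizer G x) ∈ R := (hR _).2 h1
  have h3 : k * ⟨g₀ * g * g₀⁻¹, h1.1⟩ * k⁻¹ ∈ P := hk ▸ ⟨_, h2, rfl⟩
  have h4 := (hP _).1 h3
  simpa [mul_assoc] using h4

/-- No nontrivial subgroup of `ar a x` is normal in the stabiliser and invariant under `sigma`. -/
theorem eq_bot_sigma (hprim : IsPreprimitive G Ω) {a x : Ω} (h : Adj G a x) {s : G} (hs : s • a = x)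
    {Y : Subgroup G} (hle : Y ≤ ar a x) (h1 : stabilizer G a ≤ Subgroup.normalizer (Y : Set G))
    (h2 : ∀ y ∈ Y, s * y * s⁻¹ ∈ Y) : Y = ⊥ := by
  refine eq_bot_pair hprim h hle h1 ?_
  intro k hk
  have hs' : s ∈ Subgroup.normalizer (Y : Set G) := mem_normalizer_of_conj h2
  have hm : s⁻¹ * k * s ∈ stabilizer G a := by
    rw [← conj_stab_iff s, hs]
    simpa [mul_assoc] using hk
  have := mul_mem (mul_mem hs' (h1 hm)) (inv_mem hs')
  simpa [mul_assoc] using this

end Cfsg.Agent.Lie.Sims
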