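import Mathlib
import Cfsg.Agent.Lib.Lie.SimsBase

/-!
Primitive groups with a suborbit of length three: the subgroups generated by the centres of the
Sylow 2-subgroups of the stabilisers.
-/

set_option autoImplicit false
set_option linter.style.haveILetI false
open MulAction
open scoped commutatorElement

namespace Cfsg.Agent.Lie.Sims

open TW (pc K₁ mem_normalizer_of_conj conj_mem_of_normalizer)

universe u v

variable {G : Type u} {Ω : Type v} [Group G] [MulAction G Ω]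

/-- The elements of order dividing two in the centre of `D`. -/
def zz (D : Subgroup G) : Subgroup G where
  carrier := {g | g ∈ D ∧ (∀ d ∈ D, g * d = d * g) ∧ g * g = 1}
  one_mem' := ⟨one_mem D, fun d _ => by rw [one_mul, mul_one], one_mul 1⟩
  mul_mem' := by
    rintro g h ⟨hg, hg1, hg2⟩ ⟨hh, hh1, hh2⟩
    refine ⟨mul_mem hg hh, fun d hd => ?_, ?_⟩
    · rw [mul_assoc, hh1 d hd, ← mul_assoc, hg1 d hd, mul_assoc]
    · calc g * h * (g * h) = g * (h * g) * h := by group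
        _ = g * (g * h) * h := by rw [hh1 g hg]
        _ = (g * g) * (h * h) := by group
        _ = 1 := by rw [hg2, hh2, one_mul]
  inv_mem' := by
    rintro g ⟨hg, hg1, hg2⟩
    rw [show g⁻¹ = g from (mul_eq_one_iff_eq_inv.1 hg2).symm]
    exact ⟨hg, hg1, hg2⟩

theorem zz_le (D : Subgroup G) : zz D ≤ D := fun _ h => h.1

theorem zz_conj {D E : Subgroup G} {k g : G} (hk : ∀ d, d ∈ D ↔ k * d * k⁻¹ ∈ E) (hg : g ∈ zz D) :
    k * g * k⁻¹ ∈ zz E := by
  obtain ⟨h1, h2, h3⟩ := hg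
  refine ⟨(hk g).1 h1, fun e he => ?_, ?_⟩
  · have hd : k⁻¹ * e * k ∈ D := by rw [hk]; simpa [mul_assoc] using he
    calc k * g * k⁻¹ * e = k * (g * (k⁻¹ * e * k)) * k⁻¹ := by group
      _ = k * ((k⁻¹ * e * k) * g) * k⁻¹ := by rw [h2 _ hd]
      _ = e * (k * g * k⁻¹) := by group
  · calc k * g * k⁻¹ * (k * g * k⁻¹) = k * (g * g) * k⁻¹ := by group
      _ = 1 := by rw [h3, mul_one, mul_inv_cancel]

theorem conj_ar_iff {a x : Ω} (k g : G) : g ∈ ar a x ↔ k * g * k⁻¹ ∈ ar (k • a) (k • x) :=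
  ⟨conj_ar k, fun h => ⟨(conj_stab_iff k).1 h.1, (conj_stab_iff k).1 h.2⟩⟩

/-- The subgroup generated by the central involutions of the Sylow 2-subgroups of the stabiliser. -/
def Zp (G : Type u) {Ω : Type v} [Group G] [MulAction G Ω] (a : Ω) : Subgroup G :=
  Subgroup.closure {g | ∃ x, Adj G a x ∧ g ∈ zz (ar (G := G) a x)}

/-- The part of `Zp` centralised by the stabiliser. -/
def Ce (G : Type u) {Ω : Type v} [Group G] [MulAction G Ω] (a : Ω) : Subgroup G :=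
  Zp G a ⊓ Subgroup.centralizer (stabilizer G a : Set G)

theorem zz_le_Zp {a x : Ω} (h : Adj G a x) : zz (ar (G := G) a x) ≤ Zp G a :=
  fun _ hg => Subgroup.subset_closure ⟨x, h, hg⟩

variable [Finite G] [Finite Ω] [FaithfulSMul G Ω]

theorem Zp_conj {a : Ω} {g : G} (hg : g ∈ Zp G a) (k : G) : k * g * k⁻¹ ∈ Zp G (k • a) := by
  have : (MulAut.conj k).toMonoidHom g ∈ (Zp G a).map (MulAut.conj k).toMonoidHom := ⟨g, hg, rfl⟩
  rw [Zp, MonoidHom.map_closure] at this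
  refine (Subgroup.closure_mono (k := {g | ∃ x, Adj G (k • a) x ∧ g ∈ zz (ar (G := G) (k • a) x)}) ?_) this
  rintro _ ⟨y, ⟨x, hx, hy⟩, rfl⟩
  exact ⟨k • x, adj_conj hx k, zz_conj (conj_ar_iff k) hy⟩

theorem Zp_norm (a : Ω) : stabilizer G a ≤ Subgroup.normalizer (Zp G a : Set G) := fun k hk =>
  mem_normalizer_of_conj fun g hg => by
    have := Zp_conj hg k
    rwa [mem_stabilizer_iff.1 hk] at this

theorem Ce_conj {a : Ω} {g : G} (hg : g ∈ Ce G a) (k : G) : k * g * k⁻¹ ∈ Ce G (k • a) := by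
  refine ⟨Zp_conj hg.1 k, Subgroup.mem_centralizer_iff.2 fun h hh => ?_⟩
  have hm : k⁻¹ * h * k ∈ stabilizer G a := by
    rw [← conj_stab_iff k]; simpa [mul_assoc] using hh
  calc h * (k * g * k⁻¹) = k * ((k⁻¹ * h * k) * g) * k⁻¹ := by group
    _ = k * (g * (k⁻¹ * h * k)) * k⁻¹ := by rw [Subgroup.mem_centralizer_iff.1 hg.2 _ hm]
    _ = k * g * k⁻¹ * h := by group

theorem Ce_norm (a : Ω) : stabilizer G a ≤ Subgroup.normalizer (Ce G a : Set G) := fun k hk =>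
  mem_normalizer_of_conj fun g hg => by
    have := Ce_conj hg k
    rwa [mem_stabilizer_iff.1 hk] at this

/-- The standing hypotheses. -/
structure Hyp (G : Type u) (Ω : Type v) [Group G] [MulAction G Ω] : Prop where
  prim : IsPreprimitive G Ω
  six : IndexSix G Ω
  cent : ∀ a : Ω, Subgroup.centralizer (pc 2 (stabilizer G a) : Set G) ⊓ stabilizer G a ≤ pc 2 (stabilizer G a)

variable (hy : Hyp G Ω)
include hy

theorem zz_le_Q {a x : Ω} (h : Adj G a x) : zz (ar (G := G) a x) ≤ Q a := fun g hg =>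
  hy.cent a ⟨Subgroup.mem_centralizer_iff.2 fun q hq => (hg.2.1 q (Q_le hy.prim h hq)).symm, hg.1.1⟩

theorem Q_comm_zz {a x : Ω} (h : Adj G a x) {g q : G} (hg : g ∈ zz (ar (G := G) a x)) (hq : q ∈ Q a) :
    q * g = g * q := (hg.2.1 q (Q_le hy.prim h hq)).symm

theorem Zp_le_Q (a : Ω) : Zp G a ≤ Q a :=
  (Subgroup.closure_le _).2 fun _ ⟨_, h, hg⟩ => zz_le_Q hy h hg

theorem Q_comm_Zp {a : Ω} {g q : G} (hg : g ∈ Zp G a) (hq : q ∈ Q a) : q * g = g * q := by
  have : Zp G a ≤ Subgroup.centralizer ({q} : Set G) :=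
    (Subgroup.closure_le _).2 fun g ⟨x, h, hg⟩ =>
      Subgroup.mem_centralizer_singleton_iff.2 (Q_comm_zz hy h hg hq).symm
  exact (Subgroup.mem_centralizer_singleton_iff.1 (this hg)).symm

theorem Zp_comm {a : Ω} {g h : G} (hg : g ∈ Zp G a) (hh : h ∈ Zp G a) : g * h = h * g :=
  Q_comm_Zp hy hh (Zp_le_Q hy a hg)

theorem Zp_sq {a : Ω} {g : G} (hg : g ∈ Zp G a) : g * g = 1 := by
  induction hg using Subgroup.closure_induction with
  | mem g hg => obtain ⟨x, -, hg⟩ := hg; exact hg.2.2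
  | one => exact one_mul 1
  | mul g h hg hh eg eh =>
    calc g * h * (g * h) = g * (h * g) * h := by group
      _ = g * (g * h) * h := by rw [Zp_comm hy hh hg]
      _ = (g * g) * (h * h) := by group
      _ = 1 := by rw [eg, eh, one_mul]
  | inv g _ eg => rw [← mul_inv_rev, eg, inv_one]

theorem Zp_inv {a : Ω} {g : G} (hg : g ∈ Zp G a) : g⁻¹ = g :=
  (mul_eq_one_iff_eq_inv.1 (Zp_sq hy hg)).symm

/-- A two-point stabiliser is generated by `O₂` and any one element outside. -/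
theorem comm_ar_of {a x : Ω} (h : Adj G a x) {d g : G} (hd : d ∈ ar a x) (hd' : d ∉ Q a)
    (hdg : d * g = g * d) (hQ : ∀ q ∈ Q a, q * g = g * q) : ∀ e ∈ ar a x, g * e = e * g := by
  intro e he
  by_cases he' : e ∈ Q a
  · exact (hQ e he').symm
  · have hm := mul_mem_Q hy.prim hy.six h hd he hd' he'
    have e1 : e = d * (d⁻¹ * e) := (mul_inv_cancel_left d e).symm
    rw [e1, ← mul_assoc, ← hdg, mul_assoc, ← hQ _ hm, ← mul_assoc]

theorem zz_ne_bot {a x : Ω} (h : Adj G a x) : zz (ar (G := G) a x) ≠ ⊥ := by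
  haveI : Fact (Nat.Prime 2) := ⟨Nat.prime_two⟩
  haveI : Nontrivial (ar (G := G) a x) := by
    rw [← Finite.one_lt_card_iff_nontrivial, card_ar_six hy.six h]
    have : 0 < Nat.card (Q a : Subgroup G) := Nat.card_pos
    omega
  have hp := ar_isPGroup hy.prim h
  haveI := hp.center_nontrivial
  obtain ⟨z, hz⟩ := exists_prime_orderOf_dvd_card' 2 (G := Subgroup.center (ar (G := G) a x)) (by
    obtain ⟨k, hk⟩ := IsPGroup.iff_card.1 (hp.to_subgroup (Subgroup.center (ar (G := G) a x)))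
    rw [hk]
    refine dvd_pow_self 2 ?_
    rintro rfl
    rw [pow_zero] at hk
    have : 1 < Nat.card (Subgroup.center (ar (G := G) a x)) := Finite.one_lt_card
    omega)
  intro hbot
  have hm : ((z : ar (G := G) a x) : G) ∈ zz (ar (G := G) a x) := by
    refine ⟨(z : ar (G := G) a x).2, fun d hd => (congrArg Subtype.val (Subgroup.mem_center_iff.1 z.2 ⟨d, hd⟩)).symm, ?_⟩
    have := congrArg (fun u : Subgroup.center (ar (G := G) a x) => ((u : ar (G := G) a x) : G)) (hz ▸ pow_orderOf_eq_one z : z ^ 2 = 1)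
    simpa [pow_two] using this
  rw [hbot, Subgroup.mem_bot] at hm
  have : z = 1 := Subtype.ext (Subtype.ext hm)
  rw [this, orderOf_one] at hz
  omega

theorem zz_sigma {a x : Ω} {s : G} (hs : ∀ g ∈ ar a x, s * g * s⁻¹ ∈ ar (G := G) a x) {g : G}
    (hg : g ∈ zz (ar (G := G) a x)) : s * g * s⁻¹ ∈ zz (ar (G := G) a x) :=
  zz_conj (fun d => ⟨hs d, fun hd => by
    have hn : s ∈ Subgroup.normalizer ((ar a x : Subgroup G) : Set G) := mem_normalizer_of_conj hs
    exact (Subgroup.mem_normalizer_iff.1 hn d).2 hd⟩) hg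

theorem zz_not_normal {a x : Ω} (h : Adj G a x) :
    ¬ stabilizer G a ≤ Subgroup.normalizer (zz (ar (G := G) a x) : Set G) := by
  intro hn
  obtain ⟨s, hs, hsn⟩ := sigma hy.prim h
  exact zz_ne_bot hy h (eq_bot_sigma hy.prim h hs (zz_le _) hn fun g hg => zz_sigma hy hsn hg)

theorem cent_Zp {a x : Ω} (h : Adj G a x) {d : G} (hd : d ∈ ar a x)
    (hc : ∀ z ∈ Zp G a, d * z = z * d) : d ∈ Q a := by
  by_contra hd'
  refine zz_not_normal hy h ?_
  have hall : Zp G a = zz (ar (G := G) a x) := le_antisymm (fun z hz =>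
    ⟨Q_le hy.prim h (Zp_le_Q hy a hz), comm_ar_of hy h hd hd' (hc z hz) (fun q hq => Q_comm_Zp hy hz hq), Zp_sq hy hz⟩)
    (zz_le_Zp h)
  rw [← hall]
  exact Zp_norm a

/-- Thompson's subgroup forces a transvection. -/
theorem card_Zp_le {a x : Ω} (h : Adj G a x) :
    Nat.card (Zp G a) ≤ 2 * Nat.card (zz (ar (G := G) a x)) := by
  classical
  let S : Set (Subgroup G) := {E | E ≤ ar a x ∧ ∀ g ∈ E, g * g = 1}
  obtain ⟨E₀, hE₀, hmax⟩ := Set.exists_max_image S (fun E => Nat.card E) (Set.toFinite _)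
    ⟨⊥, bot_le, fun g hg => by rw [Subgroup.mem_bot.1 hg, one_mul]⟩
  set m := Nat.card E₀
  by_cases hall : ∀ E ∈ S, Nat.card E = m → E ≤ Q a
  · exfalso
    set J : Subgroup G := Subgroup.closure {g | ∃ E ∈ S, Nat.card E = m ∧ g ∈ E} with hJ
    have hconj : ∀ k : G, (∀ E ∈ S, Nat.card E = m → ∀ g ∈ E, k * g * k⁻¹ ∈ ar a x) → ∀ g ∈ J, k * g * k⁻¹ ∈ J := by
      intro k hk g hg
      have : (MulAut.conj k).toMonoidHom g ∈ J.map (MulAut.conj k).toMonoidHom := ⟨g, hg, rfl⟩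
      rw [hJ, MonoidHom.map_closure] at this
      refine (Subgroup.closure_mono (k := {g | ∃ E ∈ S, Nat.card E = m ∧ g ∈ E}) ?_) this
      rintro _ ⟨y, ⟨E, hE, hEm, hy⟩, rfl⟩
      refine ⟨E.map (MulAut.conj k).toMonoidHom, ⟨?_, ?_⟩, ?_, y, hy, rfl⟩
      · rintro _ ⟨w, hw, rfl⟩; exact hk E hE hEm w hw
      · rintro _ ⟨w, hw, rfl⟩
        rw [← map_mul, hE.2 w hw, map_one]
      · rw [← hEm]; exact (Nat.card_congr (E.equivMapOfInjective _ (MulAut.conj k).injective).toEquiv).symm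
    obtain ⟨s, hs, hsn⟩ := sigma hy.prim h
    have hJ0 : J = ⊥ := by
      refine eq_bot_sigma hy.prim h hs ((Subgroup.closure_le _).2 fun g ⟨E, hE, _, hg⟩ => hE.1 hg) ?_
        (hconj s fun E hE _ g hg => hsn g (hE.1 hg))
      intro k hk
      exact mem_normalizer_of_conj (hconj k fun E hE hEm g hg =>
        Q_le hy.prim h (conj_mem_of_normalizer (TW.pc_normal 2 _ hk) (hall E hE hEm hg)))
    have hle : E₀ ≤ J := fun g hg => Subgroup.subset_closure ⟨E₀, hE₀, rfl, hg⟩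
    rw [hJ0, le_bot_iff] at hle
    have h1 := hmax (zz (ar (G := G) a x)) ⟨zz_le _, fun g hg => hg.2.2⟩
    rw [show m = 1 by simp [m, hle]] at h1
    exact zz_ne_bot hy h (Subgroup.eq_bot_of_card_le _ h1)
  push Not at hall
  obtain ⟨E, hE, hEm, hEQ⟩ := hall
  obtain ⟨e, he, heQ⟩ := SetLike.not_le_iff_exists.1 hEQ
  have hEcomm : ∀ u ∈ E, ∀ w ∈ E, u * w = w * u := by
    intro u hu w hw
    have h1 := hE.2 _ (mul_mem hu hw)
    have hu' : u⁻¹ = u := (mul_eq_one_iff_eq_inv.1 (hE.2 u hu)).symm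
    have hw' : w⁻¹ = w := (mul_eq_one_iff_eq_inv.1 (hE.2 w hw)).symm
    rw [mul_eq_one_iff_eq_inv.1 h1, mul_inv_rev, hu', hw']
  set E' := E ⊓ Q a with hE'
  -- the index of `E'` in `E` is two
  have h1 : Nat.card E ≤ 2 * Nat.card E' := by
    have hi : (E'.subgroupOf E).index ≤ 2 := by
      rw [Subgroup.index_eq_card]
      have hbound : ∀ q : E ⧸ E'.subgroupOf E, q = QuotientGroup.mk 1 ∨ q = QuotientGroup.mk ⟨e, he⟩ := by
        intro q
        obtain ⟨w, rfl⟩ := QuotientGroup.mk_surjective q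
        by_cases hw : (w : G) ∈ Q a
        · left
          rw [QuotientGroup.eq]
          simpa [Subgroup.mem_subgroupOf, hE', Subgroup.mem_inf] using hw
        · right
          rw [QuotientGroup.eq, Subgroup.mem_subgroupOf, hE', Subgroup.mem_inf]
          push_cast
          refine ⟨mul_mem (inv_mem w.2) he, ?_⟩
          exact mul_mem_Q hy.prim hy.six h (hE.1 w.2) (hE.1 he) hw heQ
      haveI := Fintype.ofFinite (E ⧸ E'.subgroupOf E)
      rw [Nat.card_eq_fintype_card, ← Finset.card_univ]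
      refine (Finset.card_le_card (t := {QuotientGroup.mk 1, QuotientGroup.mk ⟨e, he⟩}) fun q _ => ?_).trans Finset.card_le_two
      simpa using hbound q
    have h2 := (E'.subgroupOf E).card_mul_index
    rw [Nat.card_congr (Subgroup.subgroupOfEquivOfLe (inf_le_left : E' ≤ E)).toEquiv] at h2
    rw [← h2, mul_comm]
    exact Nat.mul_le_mul_right _ hi
  have hS : Zp G a ⊔ E' ∈ S := by
    refine ⟨sup_le ((Zp_le_Q hy a).trans (Q_le hy.prim h)) (inf_le_left.trans hE.1), fun g hg => ?_⟩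
    rw [Subgroup.sup_eq_closure] at hg
    have hcomm : ∀ u ∈ ((Zp G a : Set G) ∪ (E' : Set G)), ∀ w ∈ ((Zp G a : Set G) ∪ (E' : Set G)), u * w = w * u := by
      rintro u (hu | hu) w (hw | hw)
      · exact Zp_comm hy hu hw
      · exact (Q_comm_Zp hy hu hw.2).symm
      · exact Q_comm_Zp hy hw hu.2
      · exact hEcomm u hu.1 w hw.1
    haveI := Subgroup.isMulCommutative_closure hcomm
    induction hg using Subgroup.closure_induction with
    | mem g hg =>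
      rcases hg with hg | hg
      · exact Zp_sq hy hg
      · exact hE.2 g hg.1
    | one => exact one_mul 1
    | mul g k hg hk eg ek =>
      have hgk : g * k = k * g := congrArg Subtype.val
        ((Subgroup.isMulCommutative_closure hcomm).is_comm.comm ⟨g, hg⟩ ⟨k, hk⟩)
      calc g * k * (g * k) = g * (k * g) * k := by group
        _ = g * (g * k) * k := by rw [hgk]
        _ = (g * g) * (k * k) := by group
        _ = 1 := by rw [eg, ek, one_mul]
    | inv g _ eg => rw [← mul_inv_rev, eg, inv_one]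
  have h2 := hmax _ hS
  have h3 : Zp G a ⊓ E' ≤ zz (ar (G := G) a x) := fun z hz =>
    ⟨hE.1 hz.2.1, comm_ar_of hy h (hE.1 he) heQ (hEcomm e he z hz.2.1) (fun q hq => Q_comm_Zp hy hz.1 hq), Zp_sq hy hz.1⟩
  have h4 : E'.relIndex (Zp G a) ≤ E'.relIndex (Zp G a ⊔ E') :=
    Subgroup.relIndex_le_of_le_right le_sup_left Subgroup.index_ne_zero_of_finite
  have h5 := ((E').subgroupOf (Zp G a)).card_mul_index
  have h6 := ((E').subgroupOf (Zp G a ⊔ E')).card_mul_index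
  rw [Nat.card_congr (((E').subgroupOf (Zp G a)).equivMapOfInjective _ (Zp G a).subtype_injective).toEquiv,
    Subgroup.subgroupOf_map_subtype, inf_comm] at h5
  rw [Nat.card_congr (Subgroup.subgroupOfEquivOfLe (le_sup_right : E' ≤ Zp G a ⊔ E')).toEquiv] at h6
  change _ * E'.relIndex (Zp G a) = _ at h5
  change _ * E'.relIndex (Zp G a ⊔ E') = _ at h6
  have h7 := Subgroup.card_le_of_le h3
  have h8 : E'.relIndex (Zp G a) ≤ 2 := by
    refine Nat.le_of_mul_le_mul_left ?_ (Nat.card_pos (α := E'))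
    calc Nat.card E' * E'.relIndex (Zp G a) ≤ Nat.card E' * E'.relIndex (Zp G a ⊔ E') := Nat.mul_le_mul_left _ h4
      _ = Nat.card (Zp G a ⊔ E' : Subgroup G) := h6
      _ ≤ m := h2
      _ ≤ Nat.card E' * 2 := by rw [← hEm, mul_comm]; exact h1
  calc Nat.card (Zp G a) = Nat.card (Zp G a ⊓ E' : Subgroup G) * E'.relIndex (Zp G a) := h5.symm
    _ ≤ Nat.card (zz (ar (G := G) a x)) * 2 := Nat.mul_le_mul h7 h8
    _ = _ := mul_comm _ _

theorem Ce_le_zz {a x : Ω} (h : Adj G a x) : Ce G a ≤ zz (ar (G := G) a x) := fun g hg =>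
  ⟨Q_le hy.prim h (Zp_le_Q hy a hg.1), fun d hd => (Subgroup.mem_centralizer_iff.1 hg.2 d hd.1).symm, Zp_sq hy hg.1⟩

theorem zz_inf {a x y : Ω} (h : Adj G a x) (hy' : Adj G a y) (hne : (ar a y : Subgroup G) ≠ ar a x) :
    zz (ar (G := G) a x) ⊓ zz (ar (G := G) a y) ≤ Ce G a := by
  intro g hg
  refine ⟨zz_le_Zp h hg.1, ?_⟩
  have hle : stabilizer G a ≤ Subgroup.centralizer ({g} : Set G) := by
    rw [← ar_sup h hy' hne]
    exact sup_le (fun d hd => Subgroup.mem_centralizer_singleton_iff.2 (hg.1.2.1 d hd).symm)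
      (fun d hd => Subgroup.mem_centralizer_singleton_iff.2 (hg.2.2.1 d hd).symm)
  exact Subgroup.mem_centralizer_iff.2 fun d hd => (Subgroup.mem_centralizer_singleton_iff.1 (hle hd))

theorem mul_mem_zz {a x : Ω} (h : Adj G a x) {u w : G} (hu : u ∈ Zp G a) (hw : w ∈ Zp G a)
    (hu' : u ∉ zz (ar (G := G) a x)) (hw' : w ∉ zz (ar (G := G) a x)) : u⁻¹ * w ∈ zz (ar (G := G) a x) := by
  have hle := zz_le_Zp (G := G) h
  set Z := zz (ar (G := G) a x)
  have h2 := (Z.subgroupOf (Zp G a)).card_mul_index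
  rw [Nat.card_congr (Subgroup.subgroupOfEquivOfLe hle).toEquiv] at h2
  have h3 : (Z.subgroupOf (Zp G a)).index ≤ 2 := by
    refine Nat.le_of_mul_le_mul_left ?_ (Nat.card_pos (α := Z))
    rw [h2, mul_comm]
    exact card_Zp_le hy h
  have h4 : (Z.subgroupOf (Zp G a)).index ≠ 1 := fun e => hu' (Subgroup.subgroupOf_eq_top.1 (Subgroup.index_eq_one.1 e) hu)
  have h5 : (Z.subgroupOf (Zp G a)).index = 2 := by
    have : (Z.subgroupOf (Zp G a)).index ≠ 0 := Subgroup.index_ne_zero_of_finite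
    omega
  have := Subgroup.mul_mem_iff_of_index_two h5 (a := (⟨u, hu⟩ : Zp G a)⁻¹) (b := ⟨w, hw⟩)
  exact this.2 (by simp [Subgroup.mem_subgroupOf, hu', hw'])

theorem exists_Zp_notMem {a x : Ω} (h : Adj G a x) :
    ∃ z ∈ Zp G a, z ∉ zz (ar (G := G) a x) := by
  by_contra hc
  push Not at hc
  refine zz_not_normal hy h ?_
  rw [show zz (ar (G := G) a x) = Zp G a from le_antisymm (zz_le_Zp h) hc]
  exact Zp_norm a

theorem Zp_norm_conj {a x : Ω} (h : Adj G a x) {d z : G} (hd : d ∈ ar a x) (hz : z ∈ Zp G a) :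
    d * z * d⁻¹ ∈ Zp G a := conj_mem_of_normalizer (Zp_norm a hd.1) hz

/-- The unique non-trivial commutator of `Zp` with a two-point stabiliser. -/
theorem exists_r {a x : Ω} (h : Adj G a x) :
    ∃ r : G, r ≠ 1 ∧ r ∈ zz (ar (G := G) a x) ∧ r ∉ Ce G a ∧
      (∀ z ∈ Zp G a, ∀ d ∈ ar a x, ⁅z, d⁆ = 1 ∨ ⁅z, d⁆ = r) ∧
      (∀ z ∈ Zp G a, z ∉ zz (ar (G := G) a x) → ∀ d ∈ ar a x, d ∉ Q a → ⁅z, d⁆ = r) := by
  obtain ⟨z₀, hz₀, hz₀'⟩ := exists_Zp_notMem hy h
  obtain ⟨d₀, hd₀, hd₀'⟩ := exists_notMem_Q hy.six h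
  have hne : d₀ * z₀ ≠ z₀ * d₀ := fun e => hz₀' ⟨Q_le hy.prim h (Zp_le_Q hy a hz₀),
    comm_ar_of hy h hd₀ hd₀' e (fun q hq => Q_comm_Zp hy hz₀ hq), Zp_sq hy hz₀⟩
  -- conjugation by any element outside agrees with that by `d₀`
  have hconj : ∀ z ∈ Zp G a, ∀ d ∈ ar a x, d ∉ Q a → d * z * d⁻¹ = d₀ * z * d₀⁻¹ := by
    intro z hz d hd hd'
    have hm := mul_mem_Q hy.prim hy.six h hd₀ hd hd₀' hd'
    have := Q_comm_Zp hy hz hm
    calc d * z * d⁻¹ = d₀ * ((d₀⁻¹ * d) * z) * (d⁻¹) := by group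
      _ = d₀ * (z * (d₀⁻¹ * d)) * d⁻¹ := by rw [this]
      _ = d₀ * z * d₀⁻¹ := by group
  have hcom : ∀ z ∈ Zp G a, ∀ d ∈ ar a x, d ∉ Q a → ⁅z, d⁆ = z * (d₀ * z * d₀⁻¹) := by
    intro z hz d hd hd'
    rw [commutatorElement_def, Zp_inv hy hz, ← hconj z hz d hd hd']
    group
  have hzz : ∀ w ∈ zz (ar (G := G) a x), w * (d₀ * w * d₀⁻¹) = 1 := fun w hw => by
    rw [← hw.2.1 d₀ hd₀, mul_inv_cancel_right, hw.2.2]
  set r := z₀ * (d₀ * z₀ * d₀⁻¹) with hr
  have hrZ : r ∈ Zp G a := mul_mem hz₀ (Zp_norm_conj hy h hd₀ hz₀)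
  have hout : ∀ z ∈ Zp G a, z ∉ zz (ar (G := G) a x) → z * (d₀ * z * d₀⁻¹) = r := by
    intro z hz hz'
    have hm := mul_mem_zz hy h hz₀ hz hz₀' hz'
    set w := z₀⁻¹ * z with hw
    have ez : z = z₀ * w := (mul_inv_cancel_left z₀ z).symm
    have e1 := hzz w hm
    have c1 : w * (d₀ * z₀ * d₀⁻¹) = (d₀ * z₀ * d₀⁻¹) * w :=
      Zp_comm hy (mul_mem (inv_mem hz₀) hz) (Zp_norm_conj hy h hd₀ hz₀)
    calc z * (d₀ * z * d₀⁻¹) = z₀ * w * ((d₀ * z₀ * d₀⁻¹) * (d₀ * w * d₀⁻¹)) := by rw [ez]; group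
      _ = z₀ * (w * (d₀ * z₀ * d₀⁻¹)) * (d₀ * w * d₀⁻¹) := by group
      _ = z₀ * (d₀ * z₀ * d₀⁻¹) * (w * (d₀ * w * d₀⁻¹)) := by rw [c1]; group
      _ = r := by rw [e1, mul_one]
  have hrne : r ≠ 1 := by
    intro e
    refine hne ?_
    rw [hr, mul_eq_one_iff_eq_inv, mul_inv_rev, mul_inv_rev, inv_inv, Zp_inv hy hz₀] at e
    calc d₀ * z₀ = d₀ * (d₀ * (z₀ * d₀⁻¹)) := by rw [← e]
      _ = (d₀ * d₀) * z₀ * d₀⁻¹ := by group
      _ = z₀ * (d₀ * d₀) * d₀⁻¹ := by rw [Q_comm_Zp hy hz₀ (sq_mem_Q hy.prim hy.six h hd₀)]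
      _ = z₀ * d₀ := by group
  have hrzz : r ∈ zz (ar (G := G) a x) := by
    refine ⟨Q_le hy.prim h (Zp_le_Q hy a hrZ), comm_ar_of hy h hd₀ hd₀' ?_ (fun q hq => Q_comm_Zp hy hrZ hq), Zp_sq hy hrZ⟩
    have h2 : d₀ * (d₀ * z₀ * d₀⁻¹) * d₀⁻¹ = z₀ := by
      calc d₀ * (d₀ * z₀ * d₀⁻¹) * d₀⁻¹ = (d₀ * d₀) * z₀ * (d₀ * d₀)⁻¹ := by group
        _ = z₀ := by rw [Q_comm_Zp hy hz₀ (sq_mem_Q hy.prim hy.six h hd₀), mul_inv_cancel_right]
    have h3 : d₀ * r * d₀⁻¹ = r := by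
      calc d₀ * r * d₀⁻¹ = (d₀ * z₀ * d₀⁻¹) * (d₀ * (d₀ * z₀ * d₀⁻¹) * d₀⁻¹) := by rw [hr]; group
        _ = r := by rw [h2, hr]; exact Zp_comm hy (Zp_norm_conj hy h hd₀ hz₀) hz₀
    exact mul_inv_eq_iff_eq_mul.1 h3
  refine ⟨r, hrne, hrzz, ?_, ?_, fun z hz hz' d hd hd' => by rw [hcom z hz d hd hd', hout z hz hz']⟩
  · intro hrC
    obtain ⟨y, hyo, hyne⟩ := exists_other hy.prim hy.six h (ar a x)
    have hya : Adj G a y := by
      obtain ⟨k, rfl⟩ := hyo
      exact adj_smul h k.2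
    refine zz_not_normal hy hya ?_
    rw [← ar_sup hya h (Ne.symm hyne)]
    refine sup_le (fun d hd => mem_normalizer_of_conj fun g hg => ?_) (fun d hd => mem_normalizer_of_conj fun g hg => ?_)
    · rw [← hg.2.1 d hd, mul_inv_cancel_right]; exact hg
    · by_cases hd' : d ∈ Q a
      · rw [Q_comm_zz hy hya hg hd', mul_inv_cancel_right]; exact hg
      · have hgZ := zz_le_Zp hya hg
        have e : g * (d * g * d⁻¹) ∈ Ce G a := by
          rw [hconj g hgZ d hd hd']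
          by_cases hg' : g ∈ zz (ar (G := G) a x)
          · rw [hzz g hg']; exact one_mem _
          · rw [hout g hgZ hg']; exact hrC
        have e2 := mul_mem hg (Ce_le_zz hy hya e)
        rwa [← mul_assoc, hg.2.2, one_mul] at e2
  · intro z hz d hd
    by_cases hd' : d ∈ Q a
    · exact Or.inl (commutatorElement_eq_one_iff_mul_comm.2 (Q_comm_Zp hy hz hd').symm)
    by_cases hz' : z ∈ zz (ar (G := G) a x)
    · exact Or.inl (commutatorElement_eq_one_iff_mul_comm.2 (hz'.2.1 d hd))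
    · exact Or.inr (by rw [hcom z hz d hd hd', hout z hz hz'])

theorem card_zz {a x : Ω} (h : Adj G a x) :
    Nat.card (zz (ar (G := G) a x)) = 2 * Nat.card (Ce G a) := by
  set Z := zz (ar (G := G) a x) with hZ
  obtain ⟨y, hyo, hyne⟩ := exists_other hy.prim hy.six h (ar a x)
  have hya : Adj G a y := by
    obtain ⟨k, rfl⟩ := hyo
    exact adj_smul h k.2
  obtain ⟨r, -, hr, hrC, -⟩ := exists_r hy h
  have hi : ((Ce G a).subgroupOf Z).index = 2 := by
    rw [Subgroup.index_eq_two_iff]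
    refine ⟨⟨r, hr⟩, fun b => ?_⟩
    rw [Subgroup.mem_subgroupOf, Subgroup.mem_subgroupOf]
    push_cast
    by_cases hb : (b : G) ∈ Ce G a
    · exact Or.inr ⟨hb, fun hbr => hrC (by simpa using mul_mem (inv_mem hb) hbr)⟩
    · refine Or.inl ⟨?_, hb⟩
      have hb' : (b : G) ∉ zz (ar (G := G) a y) := fun e => hb (zz_inf hy h hya hyne ⟨b.2, e⟩)
      have hr' : r ∉ zz (ar (G := G) a y) := fun e => hrC (zz_inf hy h hya hyne ⟨hr, e⟩)
      have := mul_mem_zz hy hya (zz_le_Zp h b.2) (zz_le_Zp h hr) hb' hr'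
      rw [Zp_inv hy (zz_le_Zp h b.2)] at this
      exact zz_inf hy h hya hyne ⟨mul_mem b.2 hr, this⟩
  have h2 := ((Ce G a).subgroupOf Z).card_mul_index
  rw [Nat.card_congr (Subgroup.subgroupOfEquivOfLe (Ce_le_zz hy h)).toEquiv, hi] at h2
  rw [← h2, mul_comm]

theorem Ce_inf {a x : Ω} (h : Adj G a x) : Ce G a ⊓ Ce G x = ⊥ := by
  refine eq_bot_pair hy.prim h (inf_le_left.trans ((Ce_le_zz hy h).trans (zz_le _))) ?_ ?_
  · intro k hk
    refine mem_normalizer_of_conj fun g hg => ?_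
    rw [Subgroup.mem_centralizer_iff.1 hg.1.2 k hk, mul_inv_cancel_right]
    exact hg
  · intro k hk
    refine mem_normalizer_of_conj fun g hg => ?_
    rw [Subgroup.mem_centralizer_iff.1 hg.2.2 k hk, mul_inv_cancel_right]
    exact hg

theorem card_Ce_le {a x : Ω} (h : Adj G a x) : Nat.card (Ce G x) ≤ 2 := by
  have hx : Ce G x ≤ zz (ar (G := G) a x) := by
    rw [ar_comm]; exact Ce_le_zz hy (adj_symm hy.prim h)
  let f : Ce G a × Ce G x → zz (ar (G := G) a x) := fun p =>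
    ⟨p.1.1 * p.2.1, mul_mem (Ce_le_zz hy h p.1.2) (hx p.2.2)⟩
  have hf : Function.Injective f := by
    rintro ⟨p, q⟩ ⟨p', q'⟩ e
    have e' : p.1 * q.1 = p'.1 * q'.1 := congrArg Subtype.val e
    have hm : p'.1⁻¹ * p.1 ∈ Ce G a ⊓ Ce G x := by
      refine ⟨(Ce G a).mul_mem ((Ce G a).inv_mem p'.2) p.2, ?_⟩
      rw [show p'.1⁻¹ * p.1 = q'.1 * q.1⁻¹ by rw [eq_mul_inv_iff_mul_eq, mul_assoc, e', inv_mul_cancel_left]]
      exact (Ce G x).mul_mem q'.2 ((Ce G x).inv_mem q.2)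
    rw [Ce_inf hy h, Subgroup.mem_bot, inv_mul_eq_one] at hm
    obtain rfl : p = p' := Subtype.ext hm.symm
    obtain rfl : q = q' := Subtype.ext (mul_left_cancel e')
    rfl
  have := Nat.card_le_card_of_injective f hf
  rw [Nat.card_prod, card_zz hy h, mul_comm 2] at this
  exact Nat.le_of_mul_le_mul_left this Nat.card_pos

end Cfsg.Agent.Lie.Sims
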