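import Mathlib
import Cfsg.Agent.Lib.Lie.SimsCentre

/-!
Primitive groups with a suborbit of length three: Sims' theorem.
-/

set_option autoImplicit false
set_option linter.style.haveILetI false
open MulAction
open scoped commutatorElement

namespace Cfsg.Agent.Lie.Sims

open TW (pc K₁ mem_normalizer_of_conj conj_mem_of_normalizer)

universe u v

variable {G : Type u} {Ω : Type v} [Group G] [MulAction G Ω]

/-- Walks along suborbits of length three. -/
def Walk (G : Type u) {Ω : Type v} [Group G] [MulAction G Ω] : ℕ → Ω → Ω → Prop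
  | 0, a, v => a = v
  | n + 1, a, v => ∃ u, Adj G a u ∧ Walk G n u v

theorem walk_trans {m n : ℕ} : ∀ {a b c : Ω}, Walk G m a b → Walk G n b c → Walk G (m + n) a c := by
  induction m with
  | zero => rintro a b c rfl h; rwa [Nat.zero_add]
  | succ m ih =>
    rintro a b c ⟨u, hu, h1⟩ h2
    rw [Nat.succ_add]
    exact ⟨u, hu, ih h1 h2⟩

theorem walk_last {n : ℕ} : ∀ {a v : Ω}, Walk G (n + 1) a v → ∃ u, Walk G n a u ∧ Adj G u v := by
  induction n with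
  | zero =>
    rintro a v ⟨u, hu, rfl⟩
    exact ⟨a, rfl, hu⟩
  | succ n ih =>
    rintro a v ⟨u, hu, h⟩
    obtain ⟨w, hw, hwv⟩ := ih h
    exact ⟨w, ⟨u, hu, hw⟩, hwv⟩

theorem walk_one {a b : Ω} (h : Adj G a b) : Walk G 1 a b := ⟨b, h, rfl⟩

variable [Finite G] [Finite Ω] [FaithfulSMul G Ω]

theorem walk_symm (hprim : IsPreprimitive G Ω) {n : ℕ} : ∀ {a b : Ω}, Walk G n a b → Walk G n b a := by
  induction n with
  | zero => rintro a b rfl; rfl
  | succ n ih =>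
    rintro a b ⟨u, hu, h⟩
    exact walk_trans (ih h) (walk_one (adj_symm hprim hu))

theorem walk_conj {n : ℕ} : ∀ {a b : Ω}, Walk G n a b → ∀ k : G, Walk G n (k • a) (k • b) := by
  induction n with
  | zero => rintro a b rfl k; rfl
  | succ n ih =>
    rintro a b ⟨u, hu, h⟩ k
    exact ⟨k • u, adj_conj hu k, ih h k⟩

theorem Q_conj (hprim : IsPreprimitive G Ω) {a x : Ω} (h : Adj G a x) {g : G} (k : G) (hg : g ∈ Q a) :
    k * g * k⁻¹ ∈ Q (k • a) := by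
  rw [← K₁_eq hprim (adj_conj h k)]
  rw [← K₁_eq hprim h] at hg
  exact TW.K₁_conj a x hg k

theorem stab_injective (hprim : IsPreprimitive G Ω) [Nontrivial Ω] {a b : Ω}
    (hne : (stabilizer G a : Subgroup G) ≠ ⊥) (e : stabilizer G a = stabilizer G b) : a = b := by
  haveI := hprim.toIsPretransitive
  obtain ⟨g, hg⟩ := exists_smul_eq G a b
  have hn : g ∈ Subgroup.normalizer (stabilizer G a : Set G) := mem_normalizer_of_conj fun h hh => by
    have := conj_stab g hh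
    rwa [hg, ← e] at this
  rw [TW.normalizer_eq hprim a hne le_rfl Subgroup.le_normalizer] at hn
  rw [← hg, mem_stabilizer_iff.1 hn]

/-- Two-point stabilisers at one point are conjugate. -/
theorem exists_conj_ar (hprim : IsPreprimitive G Ω) {a x y : Ω} (h : Adj G a x) (h' : Adj G a y) :
    ∃ k ∈ stabilizer G a, ∀ g ∈ ar a x, k * g * k⁻¹ ∈ ar a y := by
  haveI : Fact (Nat.Prime 2) := ⟨Nat.prime_two⟩
  have mk : ∀ z, Adj G a z → ∃ P : Sylow 2 (stabilizer G a), ∀ g, g ∈ P ↔ (g : G) ∈ ar a z := by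
    intro z hz
    refine ⟨⟨(ar a z).subgroupOf (stabilizer G a), (ar_isPGroup hprim hz).comap_of_injective _ (stabilizer G a).subtype_injective, ?_⟩, fun g => Iff.rfl⟩
    intro R hR hle
    obtain ⟨j, hj⟩ := IsPGroup.iff_card.1 (ar_isPGroup hprim hz)
    obtain ⟨k, hk⟩ := IsPGroup.iff_card.1 hR
    refine (Subgroup.eq_of_le_of_card_ge hle ?_).symm
    rw [Nat.card_congr (Subgroup.subgroupOfEquivOfLe (inf_le_left : (ar a z : Subgroup G) ≤ _)).toEquiv, hj, hk]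
    have h1 := Subgroup.card_subgroup_dvd_card R
    rw [hk, ← card_ar hz, hj] at h1
    exact Nat.le_of_dvd (by positivity) (Nat.Coprime.dvd_of_dvd_mul_left (Nat.Coprime.pow_left _ (by norm_num)) h1)
  obtain ⟨P, hP⟩ := mk x h
  obtain ⟨R, hR⟩ := mk y h'
  obtain ⟨k, hk⟩ := exists_smul_eq (stabilizer G a) P R
  refine ⟨k.1, k.2, fun g hg => ?_⟩
  have h3 : k * ⟨g, hg.1⟩ * k⁻¹ ∈ R := hk ▸ ⟨_, (hP ⟨g, hg.1⟩).2 hg, rfl⟩
  exact (hR _).1 h3

variable (hy : Hyp G Ω)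
include hy

theorem Q_ne {a x : Ω} (h : Adj G a x) : (Q a : Subgroup G) ≠ Q x := by
  intro e
  have h0 := eq_bot_pair hy.prim h (Q_le hy.prim h) (TW.pc_normal 2 _) (e ▸ TW.pc_normal 2 _)
  exact zz_ne_bot hy h (le_bot_iff.1 (h0 ▸ zz_le_Q hy h))

/-- Case I: the first centre does not lie in the neighbouring `O₂`. -/
theorem caseI {a x : Ω} (h : Adj G a x) (hnle : ¬ Zp G a ≤ Q x) :
    (Q a : Subgroup G) = Zp G a ∧ Nat.card (Q a : Subgroup G) ≤ 8 ∧
      ∃ e ∈ ar (G := G) a x, e ∉ (Q a : Subgroup G) ∧ e * e = 1 := by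
  have h' := adj_symm hy.prim h
  have hnle' : ¬ Zp G x ≤ Q a := by
    intro hle
    refine hnle fun z hz => cent_Zp hy h' ?_ fun w hw => (Q_comm_Zp hy hz (hle hw)).symm
    rw [ar_comm]; exact Q_le hy.prim h (Zp_le_Q hy a hz)
  have key : ∀ p q : Ω, Adj G p q → ∀ z ∈ Zp G p, z ∉ Q q → ∀ g ∈ (Q p : Subgroup G),
      (∃ g' ∈ (Q q : Subgroup G), g' ∈ (Q p : Subgroup G) ∧ (g' = g ∨ g' = z * g)) := by
    intro p q hpq z hz hz' g hg
    by_cases hg' : g ∈ (Q q : Subgroup G)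
    · exact ⟨g, hg', hg, Or.inl rfl⟩
    · refine ⟨z * g, ?_, mul_mem (Zp_le_Q hy p hz) hg, Or.inr rfl⟩
      have := mul_mem_Q hy.prim hy.six (adj_symm hy.prim hpq) (ar_comm (G := G) p q ▸ Q_le hy.prim hpq (Zp_le_Q hy p hz))
        (ar_comm (G := G) p q ▸ Q_le hy.prim hpq hg) hz' hg'
      rwa [Zp_inv hy hz] at this
  set S : Ω → Subgroup G := fun p => Subgroup.closure {s | ∃ g ∈ (Q p : Subgroup G), g * g = s} with hS
  have hsub : ∀ p q : Ω, Adj G p q → ¬ Zp G p ≤ Q q → S p ≤ S q := by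
    intro p q hpq hn
    obtain ⟨z, hz, hz'⟩ := SetLike.not_le_iff_exists.1 hn
    refine Subgroup.closure_mono ?_
    rintro _ ⟨g, hg, rfl⟩
    obtain ⟨g', hg', -, e | e⟩ := key p q hpq z hz hz' g hg
    · exact ⟨g', hg', by rw [e]⟩
    · refine ⟨g', hg', ?_⟩
      have hc := Q_comm_Zp hy hz hg
      calc g' * g' = z * (g * z) * g := by rw [e]; group
        _ = z * (z * g) * g := by rw [hc]
        _ = (z * z) * (g * g) := by group
        _ = g * g := by rw [Zp_sq hy hz, one_mul]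
  have hSle : ∀ p : Ω, S p ≤ (Q p : Subgroup G) := fun p =>
    (Subgroup.closure_le _).2 fun s ⟨g, hg, e⟩ => e ▸ mul_mem hg hg
  have hSn : ∀ p : Ω, stabilizer G p ≤ Subgroup.normalizer (S p : Set G) := by
    intro p k hk
    refine mem_normalizer_of_conj fun g hg => ?_
    have : (MulAut.conj k).toMonoidHom g ∈ (S p).map (MulAut.conj k).toMonoidHom := ⟨g, hg, rfl⟩
    rw [hS, MonoidHom.map_closure] at this
    refine (Subgroup.closure_mono (k := {s | ∃ g ∈ (Q p : Subgroup G), g * g = s}) ?_) this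
    rintro _ ⟨_, ⟨g, hg, rfl⟩, rfl⟩
    exact ⟨k * g * k⁻¹, conj_mem_of_normalizer (TW.pc_normal 2 _ hk) hg, by simp [mul_assoc]⟩
  have hS0 : S a = ⊥ := eq_bot_pair hy.prim h ((hSle a).trans (Q_le hy.prim h)) (hSn a)
    ((le_antisymm (hsub a x h hnle) (hsub x a h' hnle')) ▸ hSn x)
  have hsq : ∀ g ∈ (Q a : Subgroup G), g * g = 1 := fun g hg => by
    have : g * g ∈ S a := Subgroup.subset_closure ⟨g, hg, rfl⟩
    rwa [hS0, Subgroup.mem_bot] at this
  have hab : ∀ g ∈ (Q a : Subgroup G), ∀ k ∈ (Q a : Subgroup G), g * k = k * g := fun g hg k hk => by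
    have h1 := mul_eq_one_iff_eq_inv.1 (hsq _ (mul_mem hg hk))
    rwa [mul_inv_rev, ← mul_eq_one_iff_eq_inv.1 (hsq g hg), ← mul_eq_one_iff_eq_inv.1 (hsq k hk)] at h1
  have hsqx : ∀ g ∈ (Q x : Subgroup G), g * g = 1 := fun g hg => by
    have : g * g ∈ S x := Subgroup.subset_closure ⟨g, hg, rfl⟩
    rw [← le_antisymm (hsub a x h hnle) (hsub x a h' hnle'), hS0, Subgroup.mem_bot] at this
    exact this
  have habx : ∀ g ∈ (Q x : Subgroup G), ∀ k ∈ (Q x : Subgroup G), g * k = k * g := fun g hg k hk => by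
    have h1 := mul_eq_one_iff_eq_inv.1 (hsqx _ (mul_mem hg hk))
    rwa [mul_inv_rev, ← mul_eq_one_iff_eq_inv.1 (hsqx g hg), ← mul_eq_one_iff_eq_inv.1 (hsqx k hk)] at h1
  obtain ⟨z, hz, hz'⟩ := SetLike.not_le_iff_exists.1 hnle
  have heq : (Q a : Subgroup G) = Zp G a := by
    refine le_antisymm (fun g hg => ?_) (Zp_le_Q hy a)
    obtain ⟨g', hg'x, hg'a, e⟩ := key a x h z hz hz' g hg
    have hmem : g' ∈ zz (ar (G := G) a x) := ⟨Q_le hy.prim h hg'a, by
      rw [ar_comm]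
      exact comm_ar_of hy h' (ar_comm (G := G) a x ▸ Q_le hy.prim h (Zp_le_Q hy a hz)) hz' (hab z (Zp_le_Q hy a hz) g' hg'a)
        (fun q hq => habx q hq g' hg'x), hsq g' hg'a⟩
    rcases e with rfl | rfl
    · exact zz_le_Zp h hmem
    · simpa using mul_mem (inv_mem hz) (zz_le_Zp h hmem)
  refine ⟨heq, ?_, ?_⟩
  · rw [heq]
    have h1 := card_Zp_le hy h
    have h2 := card_Ce_le hy h'
    rw [card_zz hy h] at h1
    omega
  · obtain ⟨e, he, he'⟩ := SetLike.not_le_iff_exists.1 hnle'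
    exact ⟨e, ar_comm (G := G) x a ▸ Q_le hy.prim h' (Zp_le_Q hy x he), he', Zp_sq hy he⟩

/-- The key lemma of case II. -/
theorem comm_mem_Ce (hII : ∀ a x : Ω, Adj G a x → Zp G a ≤ Q x) {n : ℕ}
    (hmin : ∀ m ≤ n + 1, ∀ p q : Ω, Walk G m p q → Zp G p ≤ Q q)
    {a a₁ a' x : Ω} (ha₁ : Adj G a a₁) (hw : Walk G (n + 1) a₁ a') (hcrit : ¬ Zp G a ≤ Q a')
    (hx : Adj G a x) (hne : (ar a x : Subgroup G) ≠ ar a a₁) :
    ∀ z ∈ Zp G x, ∀ d ∈ ar x a, ⁅z, d⁆ ∈ Ce G a := by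
  have hx' := adj_symm hy.prim hx
  obtain ⟨r, hr1, hrzz, -, hrval, hrout⟩ := exists_r hy hx'
  have hrzz' : r ∈ zz (ar (G := G) a x) := by rw [ar_comm]; exact hrzz
  suffices hr : r ∈ Ce G a by
    intro z hz d hd
    rcases hrval z hz d hd with e | e
    · rw [e]; exact one_mem _
    · rw [e]; exact hr
  -- the end of the walk
  have hwall : Walk G (n + 1 + 1) a a' := ⟨a₁, ha₁, hw⟩
  obtain ⟨u, hau, hua'⟩ := walk_last hwall
  obtain ⟨w, haw, hwu⟩ := walk_last hau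
  have hu' := adj_symm hy.prim hua'
  have hZaa₁ : Zp G a' ≤ ar a a₁ := by
    intro t ht
    have h1 : t ∈ (Q a₁ : Subgroup G) := hmin _ le_rfl _ _ (walk_symm hy.prim hw) ht
    exact ar_comm (G := G) a₁ a ▸ Q_le hy.prim (adj_symm hy.prim ha₁) h1
  obtain ⟨t, ht, htQ⟩ := SetLike.not_le_iff_exists.1 (show ¬ Zp G a' ≤ Q a from fun hle => hcrit fun z hz => by
    have hzar : z ∈ ar a' u := ar_comm (G := G) u a' ▸ Q_le hy.prim hua' (hmin _ le_rfl _ _ hau hz)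
    exact cent_Zp hy hu' hzar fun s hs => (Q_comm_Zp hy hz (hle hs)).symm)
  by_cases hcase : Zp G x ≤ Q u
  · -- `Zp a ⊔ Zp x` is normalised by the stabiliser
    set M := Zp G a ⊔ Zp G x with hM
    have hxQa : Zp G x ≤ Q a := hII x a hx'
    have hQax : (Q a : Subgroup G) ≤ stabilizer G x := (Q_le hy.prim hx).trans inf_le_right
    have hnormx : ∀ k ∈ ar a x, ∀ m ∈ M, k * m * k⁻¹ ∈ M := by
      intro k hk m hm
      have : (MulAut.conj k).toMonoidHom m ∈ M.map (MulAut.conj k).toMonoidHom := ⟨m, hm, rfl⟩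
      rw [hM, Subgroup.map_sup] at this
      refine (sup_le ?_ ?_ : _ ≤ Zp G a ⊔ Zp G x) this
      · rintro _ ⟨y, hy', rfl⟩; exact Subgroup.mem_sup_left (conj_mem_of_normalizer (Zp_norm a hk.1) hy')
      · rintro _ ⟨y, hy', rfl⟩; exact Subgroup.mem_sup_right (conj_mem_of_normalizer (Zp_norm x hk.2) hy')
    -- the commutator with the far centre lies in `Zp a`
    obtain ⟨r', hr'1, -, -, hr'val, hr'out⟩ := exists_r hy hu'
    have hr'a : r' ∈ Zp G a := by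
      obtain ⟨za, hza, hza'⟩ := SetLike.not_le_iff_exists.1 hcrit
      obtain ⟨t₀, ht₀, ht₀'⟩ := exists_Zp_notMem hy hu'
      have hzaar : za ∈ ar a' u := ar_comm (G := G) u a' ▸ Q_le hy.prim hua' (hmin _ le_rfl _ _ hau hza)
      rw [← hr'out t₀ ht₀ ht₀' za hzaar hza', commutatorElement_def]
      exact mul_mem (conj_mem_of_normalizer (Zp_norm a (hZaa₁ ht₀).1) hza) (inv_mem hza)
    have hnt : ∀ m ∈ M, t * m * t⁻¹ ∈ M := by
      intro m hm
      have : (MulAut.conj t).toMonoidHom m ∈ M.map (MulAut.conj t).toMonoidHom := ⟨m, hm, rfl⟩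
      rw [hM, Subgroup.map_sup] at this
      refine (sup_le ?_ ?_ : _ ≤ Zp G a ⊔ Zp G x) this
      · rintro _ ⟨y, hy', rfl⟩; exact Subgroup.mem_sup_left (conj_mem_of_normalizer (Zp_norm a (hZaa₁ ht).1) hy')
      · rintro _ ⟨y, hy', rfl⟩
        have hyar : y ∈ ar a' u := ar_comm (G := G) u a' ▸ Q_le hy.prim hua' (hcase hy')
        have e : (MulAut.conj t).toMonoidHom y = ⁅t, y⁆ * y := by simp [commutatorElement_def, mul_assoc]
        rw [e]
        refine mul_mem ?_ (Subgroup.mem_sup_right hy')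
        rcases hr'val t ht y hyar with e' | e'
        · rw [e']; exact one_mem _
        · rw [e']; exact Subgroup.mem_sup_left hr'a
    have hnorm : stabilizer G a ≤ Subgroup.normalizer (M : Set G) := by
      rw [← ar_sup ha₁ hx hne]
      refine sup_le (fun k hk => ?_) (fun k hk => mem_normalizer_of_conj (hnormx k hk))
      have htn : t ∈ Subgroup.normalizer (M : Set G) := mem_normalizer_of_conj hnt
      by_cases hk' : k ∈ Q a
      · exact mem_normalizer_of_conj (hnormx k (Q_le hy.prim hx hk'))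
      · have h2 := mul_mem_Q hy.prim hy.six ha₁ (hZaa₁ ht) hk htQ hk'
        have := mul_mem htn (mem_normalizer_of_conj (hnormx _ (Q_le hy.prim hx h2)) : t⁻¹ * k ∈ Subgroup.normalizer (M : Set G))
        rwa [mul_inv_cancel_left] at this
    have hMval : ∀ m ∈ M, ∀ q ∈ (Q a : Subgroup G), ⁅m, q⁆ = 1 ∨ ⁅m, q⁆ = r := by
      intro m hm q hq
      have hMprod : ∃ za ∈ Zp G a, ∃ zx ∈ Zp G x, m = za * zx := by
        rw [hM, Subgroup.sup_eq_closure] at hm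
        induction hm using Subgroup.closure_induction with
        | mem y hy' =>
          rcases hy' with hy' | hy'
          · exact ⟨y, hy', 1, one_mem _, (mul_one y).symm⟩
          · exact ⟨1, one_mem _, y, hy', (one_mul y).symm⟩
        | one => exact ⟨1, one_mem _, 1, one_mem _, (one_mul 1).symm⟩
        | mul y y' _ _ e1 e2 =>
          obtain ⟨p, hp, p', hp', rfl⟩ := e1
          obtain ⟨s, hs, s', hs', rfl⟩ := e2
          refine ⟨p * s, mul_mem hp hs, p' * s', mul_mem hp' hs', ?_⟩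
          calc p * p' * (s * s') = p * (p' * s) * s' := by group
            _ = p * (s * p') * s' := by rw [Q_comm_Zp hy hs (hxQa hp')]
            _ = p * s * (p' * s') := by group
        | inv y _ e1 =>
          obtain ⟨p, hp, p', hp', rfl⟩ := e1
          refine ⟨p⁻¹, inv_mem hp, p'⁻¹, inv_mem hp', ?_⟩
          rw [mul_inv_rev, Q_comm_Zp hy (inv_mem hp) (inv_mem (hxQa hp'))]
      obtain ⟨za, hza, zx, hzx, rfl⟩ := hMprod
      have e1 : ⁅za * zx, q⁆ = za * ⁅zx, q⁆ * za⁻¹ * ⁅za, q⁆ := by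
        simp only [commutatorElement_def]; group
      rw [e1, commutatorElement_eq_one_iff_mul_comm.2 (Q_comm_Zp hy hza hq).symm, mul_one]
      rcases hrval zx hzx q (ar_comm (G := G) a x ▸ Q_le hy.prim hx hq) with e | e
      · left; rw [e, mul_one, mul_inv_cancel]
      · right
        rw [e, ← hrzz'.2.1 za (Q_le hy.prim hx (Zp_le_Q hy a hza)), mul_inv_cancel_right]
    obtain ⟨q₀, hq₀, hq₀'⟩ := SetLike.not_le_iff_exists.1 (show ¬ (Q a : Subgroup G) ≤ Q x from fun hle =>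
      Q_ne hy hx (Subgroup.eq_of_le_of_card_ge hle (le_of_eq (TW.pc_card_eq hy.prim a x 2).symm)))
    obtain ⟨zx₀, hzx₀, hzx₀'⟩ := exists_Zp_notMem hy hx'
    have hr0 := hrout zx₀ hzx₀ hzx₀' q₀ (ar_comm (G := G) a x ▸ Q_le hy.prim hx hq₀) hq₀'
    refine ⟨zz_le_Zp hx hrzz', Subgroup.mem_centralizer_iff.2 fun k hk => ?_⟩
    have e : k * r * k⁻¹ = ⁅k * zx₀ * k⁻¹, k * q₀ * k⁻¹⁆ := by
      rw [← hr0]; simp only [commutatorElement_def]; group
    rcases hMval _ (conj_mem_of_normalizer (hnorm hk) (Subgroup.mem_sup_right hzx₀)) _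
        (conj_mem_of_normalizer (TW.pc_normal 2 _ hk) hq₀) with e' | e'
    · rw [e', conj_eq_one_iff] at e
      exact absurd e hr1
    · rw [e'] at e
      exact mul_inv_eq_iff_eq_mul.1 e
  · obtain ⟨zx, hzx, hzx'⟩ := SetLike.not_le_iff_exists.1 hcase
    have hwx : zx ∈ Q w := hmin _ le_rfl _ _ (⟨a, hx', haw⟩ : Walk G (n + 1) x w) hzx
    have hzxar : zx ∈ ar u w := ar_comm (G := G) w u ▸ Q_le hy.prim hwu hwx
    obtain ⟨zu, hzu, hne'⟩ : ∃ zu ∈ Zp G u, zx * zu ≠ zu * zx := by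
      by_contra hc
      push Not at hc
      exact hzx' (cent_Zp hy (adj_symm hy.prim hwu) hzxar hc)
    have hzuar : zu ∈ ar x a :=
      ar_comm (G := G) a x ▸ Q_le hy.prim hx (hmin _ le_rfl _ _ (walk_symm hy.prim hau) hzu)
    have hru : ⁅zx, zu⁆ = r := (hrval zx hzx zu hzuar).resolve_left
      fun e => hne' (commutatorElement_eq_one_iff_mul_comm.1 e)
    have hrZu : r ∈ Zp G u := by
      rw [← hru, commutatorElement_def]
      exact mul_mem (conj_mem_of_normalizer (Zp_norm u hzxar.1) hzu) (inv_mem hzu)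
    have hrZa := zz_le_Zp hx hrzz'
    have htr : t * r = r * t := Q_comm_Zp hy hrZu (hII a' u hu' ht)
    refine zz_inf hy hx ha₁ (Ne.symm hne) ⟨hrzz', Q_le hy.prim ha₁ (Zp_le_Q hy a hrZa), ?_, Zp_sq hy hrZa⟩
    exact comm_ar_of hy ha₁ (hZaa₁ ht) htQ htr (fun q hq => Q_comm_Zp hy hrZa hq)

theorem caseII_false [Nontrivial Ω] {a₀ x₀ : Ω} (h₀ : Adj G a₀ x₀)
    (hII : ∀ a x : Ω, Adj G a x → Zp G a ≤ Q x) : False := by
  classical
  haveI := hy.prim.toIsPretransitive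
  haveI := hy.prim
  have adjX : ∀ a : Ω, ∃ x, Adj G a x := fun a => by
    obtain ⟨g, rfl⟩ := exists_smul_eq G a₀ a
    exact ⟨g • x₀, adj_conj h₀ g⟩
  -- every point is reached
  have hreach : ∀ v, ∃ n, Walk G n a₀ v := by
    let R : Subgroup G :=
      { carrier := {g | ∃ n, Walk G n a₀ (g • a₀)}
        one_mem' := ⟨0, (one_smul G a₀).symm⟩
        mul_mem' := by
          rintro g k ⟨m, hm⟩ ⟨n, hn⟩
          refine ⟨m + n, ?_⟩
          rw [mul_smul]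
          exact walk_trans hm (walk_conj hn g)
        inv_mem' := by
          rintro g ⟨m, hm⟩
          refine ⟨m, ?_⟩
          have := walk_conj (walk_symm hy.prim hm) g⁻¹
          rwa [inv_smul_smul] at this }
    have hRH : stabilizer G a₀ ≤ R := fun g hg => ⟨0, (mem_stabilizer_iff.1 hg).symm⟩
    obtain ⟨g₁, hg₁⟩ := exists_smul_eq G a₀ x₀
    have hg₁R : g₁ ∈ R := ⟨1, hg₁.symm ▸ walk_one h₀⟩
    rcases (IsCoatom.le_iff (IsPreprimitive.isCoatom_stabilizer_of_isPreprimitive G a₀)).1 hRH with e | e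
    · intro v
      obtain ⟨g, rfl⟩ := exists_smul_eq G a₀ v
      exact (e.symm ▸ Subgroup.mem_top g : g ∈ R)
    · exfalso
      rw [e, mem_stabilizer_iff, hg₁] at hg₁R
      subst hg₁R
      have := h₀
      rw [Adj] at this
      have hsub : Subsingleton (orbit (stabilizer G x₀) x₀) :=
        ⟨fun ⟨_, ⟨p, rfl⟩⟩ ⟨_, ⟨q, rfl⟩⟩ => Subtype.ext ((mem_stabilizer_iff.1 p.2).trans (mem_stabilizer_iff.1 q.2).symm)⟩
      rw [Nat.card_of_subsingleton (⟨x₀, mem_orbit_self x₀⟩ : orbit (stabilizer G x₀) x₀)] at this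
      omega
  have hex : ∃ n, ∃ p q : Ω, Walk G n p q ∧ ¬ Zp G p ≤ Q q := by
    by_contra hc
    push Not at hc
    refine zz_ne_bot hy h₀ ((Subgroup.eq_bot_iff_forall _).2 fun z hz => eq_of_smul_eq_smul (α := Ω) fun (v : Ω) => ?_)
    obtain ⟨n, hn⟩ := hreach v
    obtain ⟨x, hx⟩ := adjX v
    rw [one_smul]
    exact (Q_le hy.prim hx (hc n a₀ v hn (zz_le_Zp h₀ hz))).1
  obtain ⟨p₀, q₀, hpq, hcrit⟩ := Nat.find_spec hex
  have hmin' : ∀ m < Nat.find hex, ∀ p q : Ω, Walk G m p q → Zp G p ≤ Q q := fun m hm p q hw => by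
    by_contra hc
    exact Nat.find_min hex hm ⟨p, q, hw, hc⟩
  obtain ⟨n, hn⟩ : ∃ n, Nat.find hex = n + 1 + 1 := by
    refine ⟨Nat.find hex - 2, ?_⟩
    have : 2 ≤ Nat.find hex := by
      by_contra hlt
      interval_cases hh : Nat.find hex
      · obtain rfl : p₀ = q₀ := hpq
        exact hcrit (Zp_le_Q hy p₀)
      · obtain ⟨u, hu, hu'⟩ := hpq
        obtain rfl : u = q₀ := hu'
        exact hcrit (hII p₀ u hu)
    omega
  rw [hn] at hpq hmin'
  have hmin : ∀ m ≤ n + 1, ∀ p q : Ω, Walk G m p q → Zp G p ≤ Q q := fun m hm => hmin' m (Nat.lt_succ_of_le hm)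
  obtain ⟨p₁, hp₁, hp₁q⟩ := hpq
  -- the commutator lemma at every edge
  have hR : ∀ a x : Ω, Adj G a x → ∀ z ∈ Zp G x, ∀ d ∈ ar x a, ⁅z, d⁆ ∈ Ce G a := by
    intro a x hax
    obtain ⟨g, rfl⟩ := exists_smul_eq G p₀ a
    obtain ⟨y, hyo, hyne⟩ := exists_other hy.prim hy.six (adj_conj hp₁ g) (ar (g • p₀) x)
    obtain ⟨⟨k, hk⟩, rfl⟩ := hyo
    have hkg : (k * g) • p₀ = g • p₀ := by rw [mul_smul, mem_stabilizer_iff.1 hk]
    refine comm_mem_Ce hy hII hmin (a₁ := (k * g) • p₁) (a' := (k * g) • q₀) ?_ (walk_conj hp₁q _) ?_ hax ?_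
    · rw [← hkg]; exact adj_conj hp₁ _
    · intro hle
      refine hcrit fun z hz => ?_
      have h1 : (k * g) * z * (k * g)⁻¹ ∈ Q ((k * g) • q₀) := hle (hkg ▸ Zp_conj hz (k * g))
      obtain ⟨w, hw⟩ := adjX ((k * g) • q₀)
      have h2 := Q_conj hy.prim hw (k * g)⁻¹ h1
      rw [inv_smul_smul] at h2
      simpa [mul_assoc] using h2
    · rw [mul_smul]; exact Ne.symm hyne
  have hCe : ∀ a : Ω, ∀ c ∈ Ce G a, ∀ c' ∈ Ce G a, c ≠ 1 → c' ≠ 1 → c = c' := by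
    intro a c hc c' hc' h1 h2
    obtain ⟨x, hx⟩ := adjX a
    by_contra hne
    have hle := card_Ce_le hy (adj_symm hy.prim hx)
    haveI := Fintype.ofFinite (Ce G a)
    rw [Nat.card_eq_fintype_card] at hle
    have h3 : ({⟨c, hc⟩, ⟨c', hc'⟩, 1} : Finset (Ce G a)).card = 3 := by
      rw [Finset.card_insert_of_notMem (by simp [hne, h1]), Finset.card_pair (by simp [h2])]
    have := Finset.card_le_univ ({⟨c, hc⟩, ⟨c', hc'⟩, 1} : Finset (Ce G a))
    omega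
  have hCeinj : ∀ a b : Ω, ∀ c ∈ Ce G a, c ∈ Ce G b → c ≠ 1 → a = b := by
    intro a b c ha hb hc1
    have key : Ce G a = Ce G b := by
      refine le_antisymm (fun g hg => ?_) (fun g hg => ?_) <;> by_cases hg1 : g = 1
      · rw [hg1]; exact one_mem _
      · rw [hCe a g hg c ha hg1 hc1]; exact hb
      · rw [hg1]; exact one_mem _
      · rw [hCe b g hg c hb hg1 hc1]; exact ha
    have hne : Ce G a ≠ ⊥ := fun e => hc1 (Subgroup.mem_bot.1 (e ▸ ha))
    have hlea : ∀ v : Ω, Ce G v ≤ stabilizer G v := fun v g hg => TW.pc_le 2 _ (Zp_le_Q hy v hg.1)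
    have e1 := TW.normalizer_eq hy.prim a hne (hlea a) (Ce_norm a)
    have e2 := TW.normalizer_eq hy.prim b (key ▸ hne) (hlea b) (Ce_norm b)
    refine stab_injective hy.prim (fun e => hc1 (Subgroup.mem_bot.1 (e ▸ hlea a ha))) ?_
    rw [← e1, ← e2, key]
  have huniq : ∀ a x y : Ω, Adj G a x → Adj G a y → (ar a x : Subgroup G) = ar a y → x = y := by
    intro a x y hx hy' e
    obtain ⟨z, hz, hz'⟩ := exists_Zp_notMem hy hx
    obtain ⟨d, hd, hd'⟩ := exists_notMem_Q hy.six hx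
    obtain ⟨r, hr1, -, -, -, hout⟩ := exists_r hy hx
    have e0 := hout z hz hz' d hd hd'
    exact hCeinj x y r (e0 ▸ hR x a (adj_symm hy.prim hx) z hz d hd)
      (e0 ▸ hR y a (adj_symm hy.prim hy') z hz d (e ▸ hd)) hr1
  have hmem : ∀ a x y : Ω, Adj G a x → Adj G a y → y ∈ orbit (stabilizer G a) x := by
    intro a x y hx hy'
    obtain ⟨k, hk, hconj⟩ := exists_conj_ar hy.prim hx hy'
    refine ⟨⟨k, hk⟩, huniq a _ y (adj_smul hx hk) hy' ?_⟩
    refine le_antisymm (fun g hg => ?_) (fun g hg => ?_)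
    · have h1 : k⁻¹ * g * k ∈ ar a x := by
        rw [conj_ar_iff k, mem_stabilizer_iff.1 hk]
        simpa [mul_assoc] using hg
      simpa [mul_assoc] using hconj _ h1
    · obtain ⟨g', hg', e⟩ : ∃ g' ∈ ar a x, k * g' * k⁻¹ = g := by
        have hsub : (ar a x : Subgroup G).map (MulAut.conj k).toMonoidHom = ar a y := by
          refine Subgroup.eq_of_le_of_card_ge (by rintro _ ⟨w, hw, rfl⟩; exact hconj w hw) ?_
          rw [← Nat.card_congr ((ar a x : Subgroup G).equivMapOfInjective _ (MulAut.conj k).injective).toEquiv,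
            card_ar_six hy.six hx, card_ar_six hy.six hy']
        obtain ⟨w, hw, e⟩ := hsub.symm ▸ hg
        exact ⟨w, hw, e⟩
      have := conj_ar k hg'
      rw [mem_stabilizer_iff.1 hk] at this
      exact e ▸ this
  -- non-commuting centres
  have NCsymm : ∀ b p q : Ω, Adj G b p → Adj G b q → ¬ Zp G p ≤ Q q → ¬ Zp G q ≤ Q p := by
    intro b p q hp hq hn hle
    refine hn fun z hz => cent_Zp hy (adj_symm hy.prim hq) ?_ fun w hw => (Q_comm_Zp hy hz (hle hw)).symm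
    exact ar_comm (G := G) b q ▸ Q_le hy.prim hq (hII p b (adj_symm hy.prim hp) hz)
  obtain ⟨p₂, hp₂, hq₀⟩ := walk_last hp₁q
  have hmid : Adj G p₁ q₀ ∧ p₀ ≠ q₀ := by
    refine ⟨?_, fun e => hcrit (e ▸ Zp_le_Q hy q₀)⟩
    obtain ⟨z, hz, hz'⟩ := SetLike.not_le_iff_exists.1 hcrit
    have hzar : z ∈ ar q₀ p₂ := ar_comm (G := G) p₂ q₀ ▸ Q_le hy.prim hq₀ (hmin _ le_rfl p₀ p₂ ⟨p₁, hp₁, hp₂⟩ hz)
    obtain ⟨w, hw, hzw⟩ : ∃ w ∈ Zp G q₀, z * w ≠ w * z := by
      by_contra hc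
      push Not at hc
      exact hz' (cent_Zp hy (adj_symm hy.prim hq₀) hzar hc)
    have hwar : w ∈ ar p₀ p₁ := ar_comm (G := G) p₁ p₀ ▸ Q_le hy.prim (adj_symm hy.prim hp₁)
      (hmin _ le_rfl q₀ p₁ (walk_symm hy.prim hp₁q) hw)
    have hc1 : ⁅z, w⁆ ≠ 1 := fun e => hzw (commutatorElement_eq_one_iff_mul_comm.1 e)
    have h1 : ⁅z, w⁆ ∈ Ce G p₁ := hR p₁ p₀ (adj_symm hy.prim hp₁) z hz w hwar
    have h2 : ⁅w, z⁆ ∈ Ce G p₂ := hR p₂ q₀ hq₀ w hw z hzar
    rw [← commutatorElement_inv, inv_mem_iff] at h2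
    exact (hCeinj p₁ p₂ _ h1 h2 hc1).symm ▸ hq₀
  have NC : ∀ b p q : Ω, Adj G b p → Adj G b q → p ≠ q → ¬ Zp G p ≤ Q q := by
    intro b p q hp hq hne
    obtain ⟨g, hg⟩ := exists_smul_eq G p₁ b
    have hP := adj_conj (adj_symm hy.prim hp₁) g
    have hQ := adj_conj hmid.1 g
    rw [hg] at hP hQ
    have hPQ : g • p₀ ≠ g • q₀ := fun e => hmid.2 (smul_left_cancel g e)
    have hcr : ¬ Zp G (g • p₀) ≤ Q (g • q₀) := by
      intro hle
      refine hcrit fun z hz => ?_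
      obtain ⟨w, hw⟩ := adjX (g • q₀)
      have h2 := Q_conj hy.prim hw g⁻¹ (hle (Zp_conj hz g))
      rw [inv_smul_smul] at h2
      simpa [mul_assoc] using h2
    have hor : ∀ {v}, Adj G b v → v ∈ orbit (stabilizer G b) p := fun hv => hmem b p _ hp hv
    have third : ∀ s t : Ω, Adj G b s → Adj G b t → s ≠ t → ∃ w, Adj G b w ∧ w ≠ s ∧ w ≠ t := by
      intro s t hs ht hst
      by_contra hc
      push Not at hc
      haveI := Fintype.ofFinite Ω
      have hsub : (orbit (stabilizer G b) p).toFinset ⊆ {s, t} := fun w hw => by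
        rw [Set.mem_toFinset] at hw
        obtain ⟨k, rfl⟩ := hw
        have hw' : Adj G b ((k : G) • p) := adj_smul hp k.2
        by_cases e : (k : G) • p = s
        · exact Finset.mem_insert.2 (Or.inl e)
        · exact Finset.mem_insert.2 (Or.inr (Finset.mem_singleton.2 (hc _ hw' e)))
      have := (Finset.card_le_card hsub).trans Finset.card_le_two
      rw [← Set.ncard_eq_toFinset_card', ← Nat.card_coe_set_eq, hp] at this
      omega
    obtain ⟨R₁, hR₁, hR₁p, hR₁q⟩ := third p q hp hq hne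
    obtain ⟨R₂, hR₂, hR₂p, hR₂q⟩ := third _ _ hP hQ hPQ
    obtain ⟨⟨k, hk⟩, hkR⟩ := hmem b R₂ R₁ hR₂ hR₁
    have hkR' : k • R₂ = R₁ := hkR
    have hkP := adj_smul hP hk
    have hkQ := adj_smul hQ hk
    have hcr' : ¬ Zp G (k • g • p₀) ≤ Q (k • g • q₀) := by
      intro hle
      refine hcr fun z hz => ?_
      obtain ⟨w, hw⟩ := adjX (k • g • q₀)
      have h2 := Q_conj hy.prim hw k⁻¹ (hle (Zp_conj hz k))
      rw [inv_smul_smul] at h2
      simpa [mul_assoc] using h2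
    have n1 : k • g • p₀ ≠ R₁ := fun e => hR₂p (smul_left_cancel k (hkR'.trans e.symm))
    have n2 : k • g • q₀ ≠ R₁ := fun e => hR₂q (smul_left_cancel k (hkR'.trans e.symm))
    have n3 : k • g • p₀ ≠ k • g • q₀ := fun e => hPQ (smul_left_cancel k e)
    rcases orbit_three hp (hor hp) (hor hq) (hor hR₁) hne (Ne.symm hR₁p) (Ne.symm hR₁q) (hor hkP) with e1 | e1 | e1 <;>
      rcases orbit_three hp (hor hp) (hor hq) (hor hR₁) hne (Ne.symm hR₁p) (Ne.symm hR₁q) (hor hkQ) with e2 | e2 | e2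
    all_goals first
      | exact absurd e1 n1
      | exact absurd e2 n2
      | exact absurd (e1.trans e2.symm) n3
      | (rw [e1, e2] at hcr'; exact hcr')
      | (rw [e1, e2] at hcr'; exact NCsymm b q p hq hp hcr')
  -- the subgroups centralising the neighbouring centres
  let P₂ : Ω → G → Prop := fun a g => g ∈ (Q a : Subgroup G) ∧ ∀ y, Adj G a y → ∀ w ∈ Zp G y, g * w = w * g
  have hsq : ∀ a b : Ω, Adj G a b → ∀ g, P₂ a g → ∃ y, P₂ b y ∧ y * y = g * g := by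
    intro a b hab g ⟨hgQ, hgc⟩
    have hba := adj_symm hy.prim hab
    obtain ⟨b₂, hb₂o, hb₂ne⟩ := exists_other hy.prim hy.six hab (ar a b)
    have hb₂ : Adj G a b₂ := by obtain ⟨k, rfl⟩ := hb₂o; exact adj_smul hab k.2
    have hb₂ne' : b₂ ≠ b := fun e => hb₂ne (by rw [e])
    obtain ⟨w₂, hw₂, hw₂'⟩ := SetLike.not_le_iff_exists.1 (NC a b₂ b hb₂ hab hb₂ne')
    have hw₂a : w₂ ∈ (Q a : Subgroup G) := hII b₂ a (adj_symm hy.prim hb₂) hw₂
    have hw₂b : w₂ ∈ ar b a := ar_comm (G := G) a b ▸ Q_le hy.prim hab hw₂a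
    obtain ⟨k₀, hk₀, hk₀'⟩ : ∃ k : G, k • b = b ∧ w₂ • k • a ≠ k • a := by
      by_contra hc
      push Not at hc
      exact hw₂' ((mem_Q_iff hy.prim hba).2 ⟨hw₂b.1, hc⟩)
    set p := k₀ • a with hp
    have hbp : Adj G b p := adj_smul hba (mem_stabilizer_iff.2 hk₀)
    have hpa : p ≠ a := fun e => hk₀' (by rw [e]; exact hw₂b.2)
    have hbq : Adj G b (w₂ • p) := adj_smul hbp hw₂b.1
    have hqa : w₂ • p ≠ a := fun e => hpa (smul_left_cancel w₂ (e.trans (mem_stabilizer_iff.1 hw₂b.2).symm))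
    have hgb : g ∈ (Q b : Subgroup G) :=
      cent_Zp hy hba (ar_comm (G := G) a b ▸ Q_le hy.prim hab hgQ) (hgc b hab)
    have fin : ∀ y : G, y ∈ (Q b : Subgroup G) → (∀ w ∈ Zp G a, y * w = w * y) → y * w₂ = w₂ * y →
        (∀ w ∈ Zp G p, y * w = w * y) → P₂ b y := by
      intro y hyb h1 h2 h3
      refine ⟨hyb, fun v hv w hw => ?_⟩
      rcases orbit_three hba (mem_orbit_self a) (hmem b a p hba hbp) (hmem b a _ hba hbq) (Ne.symm hpa) (Ne.symm hqa)
          (Ne.symm hk₀') (hmem b a v hba hv) with rfl | rfl | rfl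
      · exact h1 w hw
      · exact h3 w hw
      · have hw' := Zp_conj hw w₂⁻¹
        rw [inv_smul_smul, inv_inv] at hw'
        calc y * w = (y * w₂) * (w₂⁻¹ * w * w₂) * w₂⁻¹ := by group
          _ = (w₂ * y) * (w₂⁻¹ * w * w₂) * w₂⁻¹ := by rw [h2]
          _ = w₂ * (y * (w₂⁻¹ * w * w₂)) * w₂⁻¹ := by group
          _ = w₂ * ((w₂⁻¹ * w * w₂) * y) * w₂⁻¹ := by rw [h3 _ hw']
          _ = w * (w₂ * y) * w₂⁻¹ := by group
          _ = w * (y * w₂) * w₂⁻¹ := by rw [h2]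
          _ = w * y := by group
    have hgw : g * w₂ = w₂ * g := hgc b₂ hb₂ w₂ hw₂
    have hpb := adj_symm hy.prim hbp
    have hgar : g ∈ ar p b := ar_comm (G := G) b p ▸ Q_le hy.prim hbp hgb
    by_cases hgp : g ∈ (Q p : Subgroup G)
    · exact ⟨g, fin g hgb (fun w hw => Q_comm_Zp hy hw hgQ) hgw (fun w hw => Q_comm_Zp hy hw hgp), rfl⟩
    · obtain ⟨za, hza, hza'⟩ := SetLike.not_le_iff_exists.1 (NC b a p hba hbp (Ne.symm hpa))
      have hzab : za ∈ (Q b : Subgroup G) := hII a b hab hza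
      have hm := mul_mem_Q hy.prim hy.six hpb (ar_comm (G := G) b p ▸ Q_le hy.prim hbp hzab) hgar hza' hgp
      rw [Zp_inv hy hza] at hm
      refine ⟨za * g, fin _ (mul_mem hzab hgb) (fun w hw => ?_) ?_ (fun w hw => Q_comm_Zp hy hw hm), ?_⟩
      · exact Q_comm_Zp hy hw (mul_mem (Zp_le_Q hy a hza) hgQ)
      · rw [mul_assoc, hgw, ← mul_assoc, ← Q_comm_Zp hy hza hw₂a, mul_assoc]
      · have hc := Q_comm_Zp hy hza hgQ
        calc za * g * (za * g) = za * (g * za) * g := by group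
          _ = za * (za * g) * g := by rw [hc]
          _ = za * za * (g * g) := by group
          _ = g * g := by rw [Zp_sq hy hza, one_mul]
  set S : Ω → Subgroup G := fun a => Subgroup.closure {s | ∃ g, P₂ a g ∧ g * g = s} with hS
  have hSb : S a₀ = ⊥ := by
    have hsub : ∀ a b : Ω, Adj G a b → S a ≤ S b := fun a b hab => Subgroup.closure_mono (by
      rintro _ ⟨g, hg, rfl⟩
      obtain ⟨y, hy', e⟩ := hsq a b hab g hg
      exact ⟨y, hy', e⟩)
    have hn : ∀ a : Ω, stabilizer G a ≤ Subgroup.normalizer (S a : Set G) := by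
      intro a k hk
      refine mem_normalizer_of_conj fun g hg => ?_
      have : (MulAut.conj k).toMonoidHom g ∈ (S a).map (MulAut.conj k).toMonoidHom := ⟨g, hg, rfl⟩
      rw [hS, MonoidHom.map_closure] at this
      refine (Subgroup.closure_mono (k := {s | ∃ g, P₂ a g ∧ g * g = s}) ?_) this
      rintro _ ⟨_, ⟨g, ⟨hg, hgc⟩, rfl⟩, rfl⟩
      refine ⟨k * g * k⁻¹, ⟨conj_mem_of_normalizer (TW.pc_normal 2 _ hk) hg, fun y hy' w hw => ?_⟩, by simp [mul_assoc]⟩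
      have hk' : k⁻¹ • a = a := by rw [inv_smul_eq_iff, mem_stabilizer_iff.1 hk]
      have hw' := Zp_conj hw k⁻¹
      rw [inv_inv] at hw'
      have := hgc (k⁻¹ • y) (hk' ▸ adj_conj hy' k⁻¹) _ hw'
      calc k * g * k⁻¹ * w = k * (g * (k⁻¹ * w * k)) * k⁻¹ := by group
        _ = k * ((k⁻¹ * w * k) * g) * k⁻¹ := by rw [this]
        _ = w * (k * g * k⁻¹) := by group
    refine eq_bot_pair hy.prim h₀ ((Subgroup.closure_le _).2 fun s ⟨g, hg, e⟩ => e ▸ Q_le hy.prim h₀ (mul_mem hg.1 hg.1))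
      (hn a₀) ((le_antisymm (hsub _ _ h₀) (hsub _ _ (adj_symm hy.prim h₀))) ▸ hn x₀)
  -- an element of order four
  obtain ⟨b₂, hb₂o, hb₂ne⟩ : ∃ b₂ ∈ orbit (stabilizer G a₀) x₀, b₂ ≠ x₀ := by
    obtain ⟨y, hyo, hyne⟩ := exists_other hy.prim hy.six h₀ (ar a₀ x₀)
    exact ⟨y, hyo, fun e => hyne (by rw [e])⟩
  have hb₂ : Adj G a₀ b₂ := by obtain ⟨k, rfl⟩ := hb₂o; exact adj_smul h₀ k.2
  obtain ⟨b₃, hb₃, hb₃x, hb₃2⟩ : ∃ b₃, Adj G a₀ b₃ ∧ b₃ ≠ x₀ ∧ b₃ ≠ b₂ := by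
    by_contra hc
    push Not at hc
    haveI := Fintype.ofFinite Ω
    have hsub : (orbit (stabilizer G a₀) x₀).toFinset ⊆ {x₀, b₂} := fun w hw => by
      rw [Set.mem_toFinset] at hw
      obtain ⟨k, rfl⟩ := hw
      have hw' : Adj G a₀ ((k : G) • x₀) := adj_smul h₀ k.2
      by_cases e : (k : G) • x₀ = x₀
      · exact Finset.mem_insert.2 (Or.inl e)
      · exact Finset.mem_insert.2 (Or.inr (Finset.mem_singleton.2 (hc _ hw' e)))
    have := (Finset.card_le_card hsub).trans Finset.card_le_two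
    rw [← Set.ncard_eq_toFinset_card', ← Nat.card_coe_set_eq, h₀] at this
    omega
  have zfun : ∀ b, ∃ z, Adj G a₀ b → z ∈ Zp G b ∧ z ∉ zz (ar (G := G) b a₀) := by
    intro b
    by_cases hb : Adj G a₀ b
    · obtain ⟨z, h1, h2⟩ := exists_Zp_notMem hy (adj_symm hy.prim hb)
      exact ⟨z, fun _ => ⟨h1, h2⟩⟩
    · exact ⟨1, fun h => absurd h hb⟩
  choose z hz using zfun
  have hzQ : ∀ b, Adj G a₀ b → z b ∈ (Q a₀ : Subgroup G) := fun b hb => hII b a₀ (adj_symm hy.prim hb) (hz b hb).1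
  have hspan : ∀ b, Adj G a₀ b → ∀ g : G, g ∈ (Q a₀ : Subgroup G) → g * z b = z b * g →
      ∀ w ∈ Zp G b, g * w = w * g := by
    intro b hb g hg hgz w hw
    by_cases hw' : w ∈ zz (ar (G := G) b a₀)
    · exact Q_comm_Zp hy (zz_le_Zp hb (ar_comm (G := G) b a₀ ▸ hw')) hg
    · have hm := mul_mem_zz hy (adj_symm hy.prim hb) (hz b hb).1 hw (hz b hb).2 hw'
      have e := Q_comm_Zp hy (zz_le_Zp hb (ar_comm (G := G) b a₀ ▸ hm)) hg
      calc g * w = (g * z b) * ((z b)⁻¹ * w) := by group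
        _ = z b * (g * ((z b)⁻¹ * w)) := by rw [hgz]; group
        _ = z b * (((z b)⁻¹ * w) * g) := by rw [e]
        _ = w * g := by group
  obtain ⟨c, hc, hc1⟩ : ∃ c ∈ Ce G a₀, c ≠ 1 := by
    obtain ⟨r, hr1, -, -, -, hout⟩ := exists_r hy (adj_symm hy.prim h₀)
    obtain ⟨d, hd, hd'⟩ := exists_notMem_Q hy.six (adj_symm hy.prim h₀)
    exact ⟨r, hout _ (hz x₀ h₀).1 (hz x₀ h₀).2 d hd hd' ▸ hR a₀ x₀ h₀ _ (hz x₀ h₀).1 d hd, hr1⟩
  have hcom : ∀ b b', Adj G a₀ b → Adj G a₀ b' → b ≠ b' → z b * z b' = c * (z b' * z b) := by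
    intro b b' hb hb' hne
    have hm : ⁅z b, z b'⁆ ∈ Ce G a₀ := hR a₀ b hb _ (hz b hb).1 _ (ar_comm (G := G) a₀ b ▸ Q_le hy.prim hb (hzQ b' hb'))
    have hne1 : ⁅z b, z b'⁆ ≠ 1 := by
      intro e
      rw [commutatorElement_eq_one_iff_mul_comm] at e
      refine NC a₀ b b' hb hb' hne fun w hw => ?_
      have hwQ : w ∈ (Q a₀ : Subgroup G) := hII b a₀ (adj_symm hy.prim hb) hw
      refine cent_Zp hy (adj_symm hy.prim hb') (ar_comm (G := G) a₀ b' ▸ Q_le hy.prim hb' hwQ) (hspan b' hb' w hwQ ?_)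
      exact (hspan b hb (z b') (hzQ b' hb') e.symm w hw).symm
    rw [← hCe a₀ _ hm c hc hne1 hc1, commutatorElement_def]
    group
  have hcc : ∀ g, g ∈ stabilizer G a₀ → g * c = c * g := fun g hg => Subgroup.mem_centralizer_iff.1 hc.2 g hg
  have hc2 : c * c = 1 := Zp_sq hy hc.1
  have hzs : ∀ b, Adj G a₀ b → z b * z b = 1 := fun b hb => Zp_sq hy (hz b hb).1
  have hzH : ∀ b, Adj G a₀ b → z b ∈ stabilizer G a₀ := fun b hb => TW.pc_le 2 _ (hzQ b hb)
  have k12 := hcom x₀ b₂ h₀ hb₂ (Ne.symm hb₂ne)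
  have k21 := hcom b₂ x₀ hb₂ h₀ hb₂ne
  have k13 := hcom x₀ b₃ h₀ hb₃ (Ne.symm hb₃x)
  have k31 := hcom b₃ x₀ hb₃ h₀ hb₃x
  have k23 := hcom b₂ b₃ hb₂ hb₃ (Ne.symm hb₃2)
  have k32 := hcom b₃ b₂ hb₃ hb₂ hb₃2
  have c1 := hcc _ (hzH x₀ h₀)
  have c2 := hcc _ (hzH b₂ hb₂)
  have c3 := hcc _ (hzH b₃ hb₃)
  have q1 := hzs x₀ h₀
  have q2 := hzs b₂ hb₂
  have q3 := hzs b₃ hb₃
  generalize e1 : z x₀ = z₁ at k12 k21 k13 k31 c1 q1
  generalize e2 : z b₂ = z₂ at k12 k21 k23 k32 c2 q2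
  generalize e3 : z b₃ = z₃ at k13 k31 k23 k32 c3 q3
  set f := z₁ * z₂ * z₃ with hf
  have hP : P₂ a₀ f := by
    refine ⟨mul_mem (mul_mem (e1 ▸ hzQ x₀ h₀) (e2 ▸ hzQ b₂ hb₂)) (e3 ▸ hzQ b₃ hb₃), fun y hy' w hw => ?_⟩
    refine hspan y hy' f (mul_mem (mul_mem (e1 ▸ hzQ x₀ h₀) (e2 ▸ hzQ b₂ hb₂)) (e3 ▸ hzQ b₃ hb₃)) ?_ w hw
    have hy3 : y = x₀ ∨ y = b₂ ∨ y = b₃ := orbit_three h₀ (mem_orbit_self x₀) hb₂o (hmem a₀ x₀ b₃ h₀ hb₃)
      (Ne.symm hb₂ne) (Ne.symm hb₃x) (Ne.symm hb₃2) (hmem a₀ x₀ y h₀ hy')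
    rcases hy3 with rfl | rfl | rfl
    · rw [e1, hf]
      calc z₁ * z₂ * z₃ * z₁ = z₁ * z₂ * (c * (z₁ * z₃)) := by rw [mul_assoc (z₁ * z₂), k31]
        _ = z₁ * ((z₂ * c) * z₁) * z₃ := by group
        _ = z₁ * (c * (z₂ * z₁)) * z₃ := by rw [c2]; group
        _ = z₁ * ((c * c) * (z₁ * z₂)) * z₃ := by rw [k21]; group
        _ = z₁ * (z₁ * z₂ * z₃) := by rw [hc2]; group
    · rw [e2, hf]
      calc z₁ * z₂ * z₃ * z₂ = z₁ * z₂ * (c * (z₂ * z₃)) := by rw [mul_assoc (z₁ * z₂), k32]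
        _ = z₁ * (z₂ * c) * z₂ * z₃ := by group
        _ = (z₁ * c) * (z₂ * z₂) * z₃ := by rw [c2]; group
        _ = (c * z₁) * (z₂ * z₂) * z₃ := by rw [c1]
        _ = c * (z₁ * z₂) * z₂ * z₃ := by group
        _ = (c * c) * (z₂ * z₁) * z₂ * z₃ := by rw [k12]; group
        _ = z₂ * (z₁ * z₂ * z₃) := by rw [hc2]; group
    · rw [e3, hf]
      calc z₁ * z₂ * z₃ * z₃ = z₁ * z₂ := by rw [mul_assoc, q3, mul_one]
        _ = z₁ * z₂ * (z₃ * z₃) := by rw [q3, mul_one]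
        _ = z₁ * (z₂ * z₃) * z₃ := by group
        _ = (z₁ * c) * (z₃ * z₂) * z₃ := by rw [k23]; group
        _ = c * (z₁ * z₃) * z₂ * z₃ := by rw [c1]; group
        _ = (c * c) * (z₃ * z₁) * z₂ * z₃ := by rw [k13]; group
        _ = z₃ * (z₁ * z₂ * z₃) := by rw [hc2]; group
  have hmem' : f * f ∈ S a₀ := Subgroup.subset_closure ⟨f, hP, rfl⟩
  rw [hSb, Subgroup.mem_bot] at hmem'
  refine hc1 ?_
  rw [← hmem', hf]
  symm
  calc z₁ * z₂ * z₃ * (z₁ * z₂ * z₃) = z₁ * z₂ * (z₃ * z₁) * z₂ * z₃ := by group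
    _ = z₁ * (z₂ * c) * z₁ * z₃ * z₂ * z₃ := by rw [k31]; group
    _ = z₁ * c * (z₂ * z₁) * (z₃ * z₂) * z₃ := by rw [c2]; group
    _ = z₁ * (c * c) * z₁ * z₂ * (c * (z₂ * z₃)) * z₃ := by rw [k21, k32]; group
    _ = (z₁ * z₁) * (z₂ * c) * z₂ * (z₃ * z₃) := by rw [hc2]; group
    _ = c * (z₂ * z₂) := by rw [q1, q3, c2]; group
    _ = c := by rw [q2, mul_one]

end Cfsg.Agent.Lie.Sims
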