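import Mathlib
import Cfsg.Agent.Lib.Lie.SimsMain
import Cfsg.Agent.Lib.Fusion.Dihedral
import Cfsg.Agent.Lib.Classical.KleinNormalizer

/-!
The point stabilisers of primitive groups with a suborbit of length three.
-/

set_option autoImplicit false
set_option linter.style.haveILetI false
open MulAction

namespace Cfsg.Agent.Lie.Sims

open TW (pc K₁ mem_normalizer_of_conj conj_mem_of_normalizer)

universe u v

variable {G : Type u} {Ω : Type v} [Group G] [MulAction G Ω] [Finite G] [Finite Ω] [FaithfulSMul G Ω]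

theorem eq_stab_of {a x : Ω} (h : Adj G a x) {M : Subgroup G} (h1 : ar a x ≤ M) {t : G}
    (ht : t ∈ stabilizer G a) (htM : t ∈ M) (htD : t ∉ ar a x) : stabilizer G a ≤ M := by
  rcases eq_or_top h (M := stabilizer G a ⊓ M) (le_inf inf_le_left h1) inf_le_left with e | e
  · exact absurd (e ▸ ⟨ht, htM⟩) htD
  · exact inf_eq_left.1 e

theorem notMem_ar_of_three (hprim : IsPreprimitive G Ω) {a x : Ω} (h : Adj G a x) {t : G}
    (ht : orderOf t = 3) : t ∉ ar a x := by
  intro hm
  obtain ⟨k, hk⟩ := IsPGroup.iff_orderOf.1 (ar_isPGroup hprim h) ⟨t, hm⟩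
  rw [Subgroup.orderOf_mk, ht] at hk
  rcases k with _ | k
  · norm_num at hk
  · have : 2 ∣ 3 := hk ▸ dvd_pow_self 2 (Nat.succ_ne_zero k)
    norm_num at this

theorem Q_card_pow (a : Ω) : ∃ k, Nat.card (Q (G := G) a) = 2 ^ k :=
  haveI : Fact (Nat.Prime 2) := ⟨Nat.prime_two⟩
  IsPGroup.iff_card.1 (TW.pc_isPGroup 2 _)

/-- With `O₂` of order at least four the stabiliser is 2-constrained. -/
theorem cent_le (hprim : IsPreprimitive G Ω) (h6 : IndexSix G Ω) {a₀ x₀ : Ω} (h₀ : Adj G a₀ x₀)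
    (hbig : 2 < Nat.card (Q (G := G) a₀)) (a : Ω) :
    Subgroup.centralizer (pc 2 (stabilizer G a) : Set G) ⊓ stabilizer G a ≤ pc 2 (stabilizer G a) := by
  haveI := hprim.toIsPretransitive
  haveI : Fact (Nat.Prime 2) := ⟨Nat.prime_two⟩
  set C := Subgroup.centralizer (pc 2 (stabilizer G a) : Set G) ⊓ stabilizer G a with hC
  by_cases hex : ∃ t ∈ C, orderOf t = 3
  · exfalso
    obtain ⟨t, ⟨htC, htH⟩, ht3⟩ := hex
    obtain ⟨g, hg⟩ := exists_smul_eq G a₀ a
    obtain ⟨x, hax⟩ : ∃ x, Adj G a x := ⟨g • x₀, hg ▸ adj_conj h₀ g⟩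
    obtain ⟨s, hs, -⟩ := sigma hprim hax
    have hxa := adj_symm hprim hax
    set I := (Q a : Subgroup G) ⊓ Q x with hI
    have hnorm : ∀ p q : Ω, Adj G p q → ∀ t : G, t ∈ stabilizer G p → orderOf t = 3 → (∀ z ∈ (Q p : Subgroup G), t * z = z * t) →
        stabilizer G p ≤ Subgroup.normalizer (((Q p : Subgroup G) ⊓ Q q : Subgroup G) : Set G) := by
      intro p q hpq t htp ht3 htc
      refine eq_stab_of hpq (fun d hd => mem_normalizer_of_conj fun z hz =>
        ⟨conj_mem_of_normalizer (TW.pc_normal 2 _ hd.1) hz.1, conj_mem_of_normalizer (TW.pc_normal 2 _ hd.2) hz.2⟩)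
        htp ?_ (notMem_ar_of_three hprim hpq ht3)
      refine mem_normalizer_of_conj fun z hz => ?_
      rw [htc z hz.1, mul_inv_cancel_right]
      exact hz
    have htx : s * t * s⁻¹ ∈ stabilizer G x := hs ▸ conj_stab s htH
    have hI0 : I = ⊥ := by
      refine eq_bot_pair hprim hax (inf_le_left.trans (Q_le hprim hax))
        (hnorm a x hax t htH ht3 fun z hz => (Subgroup.mem_centralizer_iff.1 htC z hz).symm) ?_
      rw [hI, inf_comm]
      refine hnorm x a hxa _ htx (by rw [TW.orderOf_conj, ht3]) fun z hz => ?_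
      have hz' := Q_conj hprim hxa s⁻¹ hz
      rw [show s⁻¹ • x = a by rw [inv_smul_eq_iff, hs], inv_inv] at hz'
      calc s * t * s⁻¹ * z = s * (t * (s⁻¹ * z * s)) * s⁻¹ := by group
        _ = s * ((s⁻¹ * z * s) * t) * s⁻¹ := by rw [(Subgroup.mem_centralizer_iff.1 htC _ hz').symm]
        _ = z * (s * t * s⁻¹) := by group
    have h4 : (Q x : Subgroup G).relIndex (Q a) ≤ (Q x : Subgroup G).relIndex (ar a x) :=
      Subgroup.relIndex_le_of_le_right (Q_le hprim hax) Subgroup.index_ne_zero_of_finite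
    have h5 := ((Q x : Subgroup G).subgroupOf (Q a)).card_mul_index
    rw [Nat.card_congr (((Q x : Subgroup G).subgroupOf (Q a)).equivMapOfInjective _ (Q a : Subgroup G).subtype_injective).toEquiv,
      Subgroup.subgroupOf_map_subtype, inf_comm, ← hI, hI0, Subgroup.card_bot, one_mul] at h5
    have h6' := ((Q x : Subgroup G).subgroupOf (ar a x)).card_mul_index
    have hle : (Q x : Subgroup G) ≤ ar a x := ar_comm (G := G) x a ▸ Q_le hprim hxa
    rw [Nat.card_congr (Subgroup.subgroupOfEquivOfLe hle).toEquiv, card_ar_six h6 hax,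
      show Nat.card (Q a : Subgroup G) = Nat.card (Q x : Subgroup G) from TW.pc_card_eq hprim a x 2, mul_comm 2] at h6'
    have h7 : (Q x : Subgroup G).relIndex (ar a x) = 2 := Nat.eq_of_mul_eq_mul_left Nat.card_pos h6'
    have h8 : Nat.card (Q (G := G) a₀) = Nat.card (Q (G := G) a) := TW.pc_card_eq hprim a₀ a 2
    change (Q x : Subgroup G).relIndex (Q a) = Nat.card (Q a : Subgroup G) at h5
    omega
  · push Not at hex
    have hp : IsPGroup 2 C := by
      refine IsPGroup.of_card (n := (Nat.card C).factorization 2) ?_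
      refine Nat.eq_of_factorization_eq Nat.card_pos.ne' (by positivity) fun r => ?_
      by_cases hr : r.Prime
      · rw [Nat.Prime.factorization_pow Nat.prime_two]
        by_cases hr2 : r = 2
        · subst hr2; simp
        · rw [Finsupp.single_eq_of_ne (by simpa using hr2)]
          refine Nat.factorization_eq_zero_of_not_dvd fun hd => ?_
          obtain ⟨k, hk⟩ := Q_card_pow (G := G) a
          have h1 := hd.trans (Subgroup.card_dvd_of_le (inf_le_right : C ≤ stabilizer G a))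
          rw [h6 a, show Nat.card (pc 2 (stabilizer G a)) = 2 ^ k from hk, show (6 : ℕ) * 2 ^ k = 3 * 2 ^ (k + 1) by ring] at h1
          rcases (Nat.Prime.dvd_mul hr).1 h1 with h3 | h3
          · have e3 := (Nat.prime_dvd_prime_iff_eq hr Nat.prime_three).1 h3
            haveI : Fact (Nat.Prime 3) := ⟨Nat.prime_three⟩
            obtain ⟨t, ht⟩ := exists_prime_orderOf_dvd_card' 3 (e3 ▸ hd)
            exact hex t t.2 (by rwa [Subgroup.orderOf_coe])
          · exact hr2 ((Nat.prime_dvd_prime_iff_eq hr Nat.prime_two).1 (hr.dvd_of_dvd_pow h3))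
      · rw [Nat.factorization_eq_zero_of_not_prime _ hr, Nat.Prime.factorization_pow Nat.prime_two, Finsupp.single_eq_of_ne (fun e => hr (by subst e; exact Nat.prime_two))]
    refine TW.le_pc_of_normal inf_le_right (fun k hk => mem_normalizer_of_conj fun c hc => ?_) hp
    refine ⟨Subgroup.mem_centralizer_iff.2 fun z hz => ?_, (stabilizer G a).mul_mem ((stabilizer G a).mul_mem hk hc.2) ((stabilizer G a).inv_mem hk)⟩
    have hz' := conj_mem_of_normalizer (TW.pc_normal 2 _ ((stabilizer G a).inv_mem hk)) hz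
    rw [inv_inv] at hz'
    calc z * (k * c * k⁻¹) = k * ((k⁻¹ * z * k) * c) * k⁻¹ := by group
      _ = k * (c * (k⁻¹ * z * k)) * k⁻¹ := by rw [Subgroup.mem_centralizer_iff.1 hc.1 _ hz']
      _ = k * c * k⁻¹ * z := by group

/-- Two involutions in different two-point stabilisers. -/
theorem exists_pair (hprim : IsPreprimitive G Ω) (h6 : IndexSix G Ω) {a x : Ω} (h : Adj G a x) {e : G}
    (he : e ∈ ar a x) (heQ : e ∉ (Q a : Subgroup G)) (he2 : e * e = 1) :
    ∃ e' ∈ stabilizer G a, e' * e' = 1 ∧ e ≠ e' ∧ orderOf e' = 2 ∧ 3 ∣ orderOf (e * e') := by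
  obtain ⟨y, hyo, hyne⟩ := exists_other hprim h6 h (ar a x)
  obtain ⟨⟨k, hk⟩, rfl⟩ := hyo
  have hye : k * e * k⁻¹ ∈ ar a (k • x) := by
    have := conj_ar k he
    rwa [mem_stabilizer_iff.1 hk] at this
  have he'2 : k * e * k⁻¹ * (k * e * k⁻¹) = 1 := by
    rw [show k * e * k⁻¹ * (k * e * k⁻¹) = k * (e * e) * k⁻¹ by group, he2, mul_one, mul_inv_cancel]
  have hay : Adj G a (k • x) := adj_smul h hk
  have he'Q : k * e * k⁻¹ ∉ (Q a : Subgroup G) := fun hm => heQ (by
    have := conj_mem_of_normalizer (TW.pc_normal 2 _ ((stabilizer G a).inv_mem hk)) hm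
    simpa [mul_assoc] using this)
  have hnot : k * e * k⁻¹ ∉ ar a x := by
    intro hm
    refine hyne (le_antisymm ?_ ?_) <;> intro g hg
    · by_cases hg' : g ∈ (Q a : Subgroup G)
      · exact Q_le hprim h hg'
      · have := mul_mem hm (Q_le hprim h (mul_mem_Q hprim h6 hay hye hg he'Q hg'))
        rwa [mul_inv_cancel_left] at this
    · by_cases hg' : g ∈ (Q a : Subgroup G)
      · exact Q_le hprim hay hg'
      · have := mul_mem hye (Q_le hprim hay (mul_mem_Q hprim h6 h hm hg he'Q hg'))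
        rwa [mul_inv_cancel_left] at this
  have hne : e ≠ k * e * k⁻¹ := fun e1 => hnot (e1 ▸ he)
  refine ⟨k * e * k⁻¹, hye.1, he'2, hne, (TW.orderOf_conj k e).trans (orderOf_eq_prime (by rw [pow_two, he2]) (fun e1 => heQ (e1 ▸ one_mem _))), ?_⟩
  by_contra h3
  haveI : Fact (Nat.Prime 2) := ⟨Nat.prime_two⟩
  set n := orderOf (e * (k * e * k⁻¹)) with hn
  set P := Subgroup.closure ({e, k * e * k⁻¹} : Set G) with hP
  have hPH : P ≤ stabilizer G a := (Subgroup.closure_le _).2 (by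
    rintro _ (rfl | rfl)
    · exact he.1
    · exact hye.1)
  obtain ⟨j, hj⟩ := Q_card_pow (G := G) a
  have hnd : n ∣ 2 ^ (j + 1) := by
    have h1 : n ∣ 6 * 2 ^ j := by
      have h2 := Subgroup.orderOf_dvd_natCard (stabilizer G a) (mul_mem he.1 hye.1 : e * (k * e * k⁻¹) ∈ stabilizer G a)
      rwa [h6 a, show Nat.card (pc 2 (stabilizer G a)) = 2 ^ j from hj] at h2
    rw [show (6 : ℕ) * 2 ^ j = 3 * 2 ^ (j + 1) by ring] at h1
    exact Nat.Coprime.dvd_of_dvd_mul_left ((Nat.Prime.coprime_iff_not_dvd Nat.prime_three).2 h3).symm h1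
  obtain ⟨i, -, hi⟩ := (Nat.dvd_prime_pow Nat.prime_two).1 hnd
  have oe : orderOf e = 2 := orderOf_eq_prime (by rw [pow_two, he2]) (fun e1 => heQ (e1 ▸ one_mem _))
  have oe' : orderOf (k * e * k⁻¹) = 2 := (TW.orderOf_conj k e).trans oe
  have hP2 : IsPGroup 2 P := by
    obtain ⟨φ⟩ := Fusion.closure_pair_equiv_dihedral (x := e) (y := k * e * k⁻¹) oe oe' hne
    refine IsPGroup.of_card (n := i + 1) ?_
    rw [Nat.card_congr φ.toEquiv, DihedralGroup.nat_card, ← hn, hi, pow_succ, mul_comm]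
  have hsup : IsPGroup 2 ↥(Q a ⊔ P : Subgroup G) :=
    (TW.pc_isPGroup 2 _).to_sup_of_normal_left' hP2 (hPH.trans (TW.pc_normal 2 _))
  have hDle : (ar a x : Subgroup G) ≤ Q a ⊔ P := by
    intro d hd
    by_cases hd' : d ∈ (Q a : Subgroup G)
    · exact Subgroup.mem_sup_left hd'
    · have hm := mul_mem_Q hprim h6 h he hd heQ hd'
      have := mul_mem (Subgroup.mem_sup_right (Subgroup.subset_closure (Set.mem_insert _ _) : e ∈ P) : e ∈ Q a ⊔ P)
        (Subgroup.mem_sup_left hm)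
      rwa [mul_inv_cancel_left] at this
  have heq : (ar a x : Subgroup G) = Q a ⊔ P := by
    refine Subgroup.eq_of_le_of_card_ge hDle ?_
    obtain ⟨m, hm⟩ := IsPGroup.iff_card.1 hsup
    obtain ⟨l, hl⟩ := IsPGroup.iff_card.1 (ar_isPGroup hprim h)
    have h1 := Subgroup.card_dvd_of_le (sup_le (TW.pc_le 2 _) hPH : (Q a ⊔ P : Subgroup G) ≤ stabilizer G a)
    rw [← card_ar h, hm, hl] at h1
    rw [hm, hl]
    exact Nat.le_of_dvd (by positivity) (Nat.Coprime.dvd_of_dvd_mul_left (Nat.Coprime.pow_left _ (by norm_num)) h1)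
  exact hnot (heq ▸ Subgroup.mem_sup_right (Subgroup.subset_closure (by simp)))

theorem order_twelve (hprim : IsPreprimitive G Ω) (h6 : IndexSix G Ω) {a x : Ω} (h : Adj G a x)
    (h2 : Nat.card (Q a : Subgroup G) = 2) : Nonempty (stabilizer G a ≃* DihedralGroup 6) := by
  haveI : Fact (Nat.Prime 2) := ⟨Nat.prime_two⟩
  have hxa := adj_symm hprim h
  have h2x : Nat.card (Q x : Subgroup G) = 2 := (TW.pc_card_eq hprim x a 2).trans h2
  obtain ⟨⟨e, heX⟩, he1⟩ := exists_prime_orderOf_dvd_card' 2 (G := (Q x : Subgroup G)) (by rw [h2x])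
  rw [Subgroup.orderOf_mk] at he1
  have he2 : e * e = 1 := by rw [← pow_two, ← he1]; exact pow_orderOf_eq_one e
  have heD : e ∈ ar a x := ar_comm (G := G) x a ▸ Q_le hprim hxa heX
  have hex : Subgroup.zpowers e = (Q x : Subgroup G) :=
    Subgroup.eq_of_le_of_card_ge (Subgroup.zpowers_le.2 heX) (by rw [Nat.card_zpowers, he1, h2x])
  have heQ : e ∉ (Q a : Subgroup G) := by
    intro hm
    have hae : Subgroup.zpowers e = (Q a : Subgroup G) :=
      Subgroup.eq_of_le_of_card_ge (Subgroup.zpowers_le.2 hm) (by rw [Nat.card_zpowers, he1, h2])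
    have h0 := eq_bot_pair hprim h (Q_le hprim h) (TW.pc_normal 2 _) (hae.symm.trans hex ▸ TW.pc_normal 2 _)
    rw [h0, Subgroup.card_bot] at h2
    omega
  obtain ⟨e', he'H, he'2, hne, he'o, h3⟩ := exists_pair hprim h6 h heD heQ he2
  obtain ⟨⟨q, hq⟩, hq1⟩ := exists_prime_orderOf_dvd_card' 2 (G := (Q a : Subgroup G)) (by rw [h2])
  rw [Subgroup.orderOf_mk] at hq1
  have hqQ : Subgroup.zpowers q = (Q a : Subgroup G) :=
    Subgroup.eq_of_le_of_card_ge (Subgroup.zpowers_le.2 hq) (by rw [Nat.card_zpowers, hq1, h2])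
  have hqc : ∀ k ∈ stabilizer G a, k * q = q * k := by
    intro k hk
    have hm : k * q * k⁻¹ ∈ Subgroup.zpowers q := hqQ ▸ conj_mem_of_normalizer (TW.pc_normal 2 _ hk) hq
    obtain ⟨i, hi⟩ := Subgroup.mem_zpowers_iff.1 hm
    rw [← zpow_mod_orderOf, hq1] at hi
    rcases Int.emod_two_eq i with h0 | h1
    · rw [show (i % ((2 : ℕ) : ℤ)) = 0 by simpa using h0, zpow_zero] at hi
      rw [conj_eq_one_iff.1 hi.symm, mul_one, one_mul]
    · rw [show (i % ((2 : ℕ) : ℤ)) = 1 by simpa using h1, zpow_one] at hi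
      exact mul_inv_eq_iff_eq_mul.1 hi.symm
  have hq2 : q * q = 1 := by rw [← pow_two, ← hq1]; exact pow_orderOf_eq_one q
  have hcard : Nat.card (stabilizer G a) = 12 := by rw [h6 a, show Nat.card (pc 2 (stabilizer G a)) = 2 from h2]
  have main : ∀ y : G, y ∈ stabilizer G a → y * y = 1 → e ≠ y → orderOf (e * y) = 6 → Nonempty (stabilizer G a ≃* DihedralGroup 6) := by
    intro y hy hy2 hne hord
    obtain ⟨φ⟩ := Fusion.closure_pair_equiv_dihedral (x := e) (y := y) he1 (orderOf_eq_prime (by rw [pow_two, hy2]) (fun e1 => by rw [e1, mul_one, he1] at hord; omega)) hne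
    have hle : Subgroup.closure ({e, y} : Set G) ≤ stabilizer G a := (Subgroup.closure_le _).2 (by
      rintro _ (rfl | rfl)
      · exact heD.1
      · exact hy)
    have hc := Nat.card_congr φ.toEquiv
    rw [DihedralGroup.nat_card, hord] at hc
    have e0 := Subgroup.eq_of_le_of_card_ge hle (by omega)
    rw [← e0, ← hord]
    exact ⟨φ⟩
  have hnd : orderOf (e * e') ∣ 12 := by
    rw [← hcard]
    exact Subgroup.orderOf_dvd_natCard _ (mul_mem heD.1 he'H : e * e' ∈ stabilizer G a)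
  obtain ⟨φ⟩ := Fusion.closure_pair_equiv_dihedral (x := e) (y := e') he1 he'o hne
  have hd : 2 * orderOf (e * e') ∣ 12 := by
    have hle : Subgroup.closure ({e, e'} : Set G) ≤ stabilizer G a := (Subgroup.closure_le _).2 (by
      rintro _ (rfl | rfl)
      · exact heD.1
      · exact he'H)
    have := Subgroup.card_dvd_of_le hle
    rwa [Nat.card_congr φ.toEquiv, DihedralGroup.nat_card, hcard] at this
  have : orderOf (e * e') = 3 ∨ orderOf (e * e') = 6 := by
    obtain ⟨m, hm⟩ := h3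
    rw [hm] at hd
    have : m ∣ 2 := Nat.dvd_of_mul_dvd_mul_left (by norm_num : 0 < 6) (by rwa [show 6 * m = 2 * (3 * m) by ring, show 6 * 2 = 12 by norm_num])
    rcases (Nat.dvd_prime Nat.prime_two).1 this with rfl | rfl
    · exact Or.inl (by rw [hm])
    · exact Or.inr (by rw [hm])
  rcases this with h' | h'
  · have hco : orderOf (e * (e' * q)) = 6 := by
      rw [← mul_assoc, (show Commute (e * e') q from hqc _ (mul_mem heD.1 he'H)).orderOf_mul_eq_mul_orderOf_of_coprime
        (by rw [h', hq1]; norm_num), h', hq1]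
    refine main (e' * q) (mul_mem he'H (TW.pc_le 2 _ hq)) ?_ ?_ hco
    · calc e' * q * (e' * q) = e' * (q * e') * q := by group
        _ = e' * (e' * q) * q := by rw [← hqc e' he'H]
        _ = (e' * e') * (q * q) := by group
        _ = 1 := by rw [he'2, hq2, one_mul]
    · intro e1
      rw [← e1, he2, orderOf_one] at hco
      omega
  · exact main e' he'H he'2 hne h'

theorem order_six (hprim : IsPreprimitive G Ω) (h6 : IndexSix G Ω) {a x : Ω} (h : Adj G a x)
    (h1 : Nat.card (Q a : Subgroup G) = 1) : Nonempty (stabilizer G a ≃* Equiv.Perm (Fin 3)) := by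
  have hinj : Function.Injective (toPermHom (stabilizer G a) (orbit (stabilizer G a) x)) := by
    rw [← MonoidHom.ker_eq_bot_iff, Subgroup.eq_bot_iff_forall]
    intro g hg
    refine Subtype.ext (Subgroup.mem_bot.1 ((Subgroup.eq_bot_of_card_le (Q a : Subgroup G) h1.le) ▸ (mem_Q_iff hprim h).2 ⟨mem_stabilizer_iff.1 g.2, fun k hk => ?_⟩))
    exact congrArg Subtype.val (Equiv.congr_fun (MonoidHom.mem_ker.1 hg) ⟨k • x, ⟨⟨k, hk⟩, rfl⟩⟩)
  have hbij : Function.Bijective (toPermHom (stabilizer G a) (orbit (stabilizer G a) x)) := by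
    haveI := Fintype.ofFinite (orbit (stabilizer G a) x)
    refine (Nat.bijective_iff_injective_and_card _).2 ⟨hinj, ?_⟩
    rw [Nat.card_perm, h, h6 a, show Nat.card (pc 2 (stabilizer G a)) = 1 from h1]
    rfl
  haveI : Finite (orbit (stabilizer G a) x) := inferInstance
  exact ⟨(MulEquiv.ofBijective _ hbij).trans (Finite.equivFinOfCardEq h).permCongrHom⟩

theorem klein_perm_four {M : Type*} [Group M] [Finite M] (V : Subgroup M) [V.Normal] (h4 : Nat.card V = 4)
    (hV : ∀ v ∈ V, v * v = 1) (hC : Subgroup.centralizer (V : Set M) ≤ V) (h24 : Nat.card M = 24) :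
    Nonempty (M ≃* Equiv.Perm (Fin 4)) := by
  haveI : Nontrivial V := Finite.one_lt_card_iff_nontrivial.1 (by omega)
  haveI : IsKleinFour V := ⟨h4, Monoid.exponent_eq_prime_iff Nat.prime_two |>.2 fun v hv =>
    orderOf_eq_prime (by rw [pow_two]; exact Subtype.ext (hV v.1 v.2)) hv⟩
  obtain ⟨f, hf⟩ := Classical.exists_injective_perm_four V hC (by rw [h24]; norm_num)
  exact ⟨MulEquiv.ofBijective f ((Nat.bijective_iff_injective_and_card f).2 ⟨hf, by rw [h24, Nat.card_perm, Nat.card_eq_fintype_card]; rfl⟩)⟩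

theorem big_case (hy : Hyp G Ω) {a x : Ω} (h : Adj G a x) (hnle : ¬ Zp G a ≤ Q x) :
    Nonempty (stabilizer G a ≃* Equiv.Perm (Fin 4)) ∨
      Nonempty (stabilizer G a ≃* Equiv.Perm (Fin 4) × Multiplicative (ZMod 2)) := by
  obtain ⟨heq, -, e, heD, heQ, he2⟩ := caseI hy h hnle
  have hZle : Zp G a ≤ stabilizer G a := (Zp_le_Q hy a).trans (TW.pc_le 2 _)
  have hCcard := card_Ce_le hy (adj_symm hy.prim h)
  have hQ : Nat.card (Zp G a) = 4 * Nat.card (Ce G a) := by
    have h1 := card_Zp_le hy h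
    have h2 := card_zz hy h
    have hlt : Nat.card (zz (ar (G := G) a x)) < Nat.card (Zp G a) := by
      refine lt_of_le_of_ne (Subgroup.card_le_of_le (zz_le_Zp h)) fun e1 => ?_
      obtain ⟨z, hz, hz'⟩ := exists_Zp_notMem hy h
      exact hz' ((Subgroup.eq_of_le_of_card_ge (zz_le_Zp h) e1.ge).symm ▸ hz)
    obtain ⟨m, hm⟩ := Subgroup.card_dvd_of_le (zz_le_Zp (G := G) h)
    rw [hm] at h1 hlt
    have hm1 : m ≤ 2 := Nat.le_of_mul_le_mul_left (by rw [mul_comm _ 2]; exact h1) Nat.card_pos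
    have hm2 : 1 < m := Nat.lt_of_mul_lt_mul_left (a := Nat.card (zz (ar (G := G) a x))) (by rwa [mul_one])
    rw [hm, h2, show m = 2 by omega]
    ring
  obtain ⟨e', he'H, he'2, -, -, h3⟩ := exists_pair hy.prim hy.six h heD heQ he2
  set n := orderOf (e * e')
  set t := (e * e') ^ (n / 3) with ht
  have ht3 : orderOf t = 3 := by
    obtain ⟨m, hm⟩ := h3
    have hn0 : 0 < n := orderOf_pos _
    have hm0 : m ≠ 0 := by rintro rfl; omega
    rw [ht, orderOf_pow_of_dvd (Nat.div_pos (by omega) (by norm_num)).ne' (Nat.div_dvd_of_dvd ⟨m, hm⟩)]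
    change n / (n / 3) = 3
    rw [hm, Nat.mul_div_cancel_left _ (by norm_num : 0 < 3), Nat.mul_div_cancel _ (Nat.pos_of_ne_zero hm0)]
  have htH : t ∈ stabilizer G a := pow_mem (mul_mem heD.1 he'H) _
  have htD : t ∉ ar a x := notMem_ar_of_three hy.prim h ht3
  have het : e * t * e⁻¹ = t⁻¹ := by
    rw [ht, ← conj_pow, ← inv_pow]
    congr 1
    rw [mul_inv_rev, (mul_eq_one_iff_eq_inv.1 he2).symm, (mul_eq_one_iff_eq_inv.1 he'2).symm, ← mul_assoc e e e', he2, one_mul]
  have hgen : ∀ M : Subgroup G, Zp G a ≤ M → e ∈ M → t ∈ M → stabilizer G a ≤ M := by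
    intro M h1 h2 h3'
    refine eq_stab_of h (fun d hd => ?_) htH h3' htD
    by_cases hd' : d ∈ (Q a : Subgroup G)
    · exact h1 (heq ▸ hd')
    · have hm := mul_mem_Q hy.prim hy.six h heD hd heQ hd'
      have := mul_mem h2 (h1 (heq ▸ hm))
      rwa [mul_inv_cancel_left] at this
  -- fixed points of `t`
  have hfix : ∀ z ∈ Zp G a, t * z = z * t → z ∈ Ce G a := by
    intro z hz htz
    obtain ⟨r, hr1, hrzz, hrC, hrval, -⟩ := exists_r hy h
    have hcent : ∀ w : G, w ∈ Zp G a → e * w = w * e → t * w = w * t → w ∈ Ce G a := by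
      intro w hw hew htw
      refine ⟨hw, Subgroup.mem_centralizer_iff.2 fun k hk => ?_⟩
      have hle := hgen (Subgroup.centralizer ({w} : Set G)) (fun q hq => Subgroup.mem_centralizer_singleton_iff.2 (Zp_comm hy hq hw))
        (Subgroup.mem_centralizer_singleton_iff.2 hew) (Subgroup.mem_centralizer_singleton_iff.2 htw)
      exact Subgroup.mem_centralizer_singleton_iff.1 (hle hk)
    rcases hrval z hz e heD with e1 | e1
    · exact hcent z hz (commutatorElement_eq_one_iff_mul_comm.1 e1).symm htz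
    · exfalso
      refine hrC (hcent r (zz_le_Zp h hrzz) (hrzz.2.1 e heD).symm ?_)
      have h5 : e * z * e⁻¹ = z * r := by
        rw [← e1, commutatorElement_def]
        calc e * z * e⁻¹ = (e * z⁻¹ * e⁻¹)⁻¹ := by group
          _ = e * z⁻¹ * e⁻¹ := Zp_inv hy (Zp_norm_conj hy h heD (inv_mem hz))
          _ = (z * z) * (e * z⁻¹ * e⁻¹) := by rw [Zp_sq hy hz, one_mul]
          _ = z * (z * e * z⁻¹ * e⁻¹) := by group
      have h6' : t⁻¹ * (e * z * e⁻¹) = (e * z * e⁻¹) * t⁻¹ := by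
        rw [← het]
        calc e * t * e⁻¹ * (e * z * e⁻¹) = e * (t * z) * e⁻¹ := by group
          _ = e * (z * t) * e⁻¹ := by rw [htz]
          _ = _ := by group
      rw [h5] at h6'
      have hc1 : Commute t (z * r) := (Commute.inv_left_iff.1 (show Commute t⁻¹ (z * r) from h6'))
      have hc2 : Commute t z⁻¹ := (show Commute t z from htz).inv_right
      have := hc2.mul_right hc1
      rw [inv_mul_cancel_left] at this
      exact this
  -- the commutator subgroup
  let φ : Zp G a →* stabilizer G a :=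
    { toFun := fun z => ⟨z.1 * (t * z.1 * t⁻¹), mul_mem (hZle z.2) (mul_mem (mul_mem htH (hZle z.2)) (inv_mem htH))⟩
      map_one' := by ext; simp
      map_mul' := fun z w => by
        ext
        have hw : w.1 * (t * z.1 * t⁻¹) = (t * z.1 * t⁻¹) * w.1 :=
          Zp_comm hy w.2 (conj_mem_of_normalizer (Zp_norm a htH) z.2)
        show z.1 * w.1 * (t * (z.1 * w.1) * t⁻¹) = z.1 * (t * z.1 * t⁻¹) * (w.1 * (t * w.1 * t⁻¹))
        calc z.1 * w.1 * (t * (z.1 * w.1) * t⁻¹) = z.1 * (w.1 * (t * z.1 * t⁻¹)) * (t * w.1 * t⁻¹) := by group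
          _ = z.1 * ((t * z.1 * t⁻¹) * w.1) * (t * w.1 * t⁻¹) := by rw [hw]
          _ = _ := by group }
  set W := φ.range with hW
  have hWZ : ∀ w ∈ W, (w : G) ∈ Zp G a := by
    rintro _ ⟨z, rfl⟩
    exact mul_mem z.2 (conj_mem_of_normalizer (Zp_norm a htH) z.2)
  have hker : φ.ker = (Ce G a).subgroupOf (Zp G a) := by
    ext z
    rw [MonoidHom.mem_ker, Subgroup.mem_subgroupOf, Subtype.ext_iff]
    show z.1 * (t * z.1 * t⁻¹) = 1 ↔ _
    constructor
    · intro e1
      refine hfix z.1 z.2 ?_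
      rw [mul_eq_one_iff_inv_eq, Zp_inv hy z.2] at e1
      exact mul_inv_eq_iff_eq_mul.1 e1.symm
    · intro e1
      rw [Subgroup.mem_centralizer_iff.1 e1.2 t htH, mul_inv_cancel_right, Zp_sq hy z.2]
  have hWcard : Nat.card W = 4 := by
    have h1 := φ.ker.card_mul_index
    have hle : Ce G a ≤ Zp G a := inf_le_left
    rw [Subgroup.index_ker, hker, Nat.card_congr (Subgroup.subgroupOfEquivOfLe hle).toEquiv, hQ,
      mul_comm 4] at h1
    exact Nat.eq_of_mul_eq_mul_left Nat.card_pos h1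
  have hWC : ∀ w ∈ W, (w : G) ∈ Ce G a → w = 1 := by
    rintro _ ⟨⟨z, hz⟩, rfl⟩ hw
    apply Subtype.ext
    show z * (t * z * t⁻¹) = 1
    change z * (t * z * t⁻¹) ∈ Ce G a at hw
    set c := z * (t * z * t⁻¹) with hc
    have htc : t * c * t⁻¹ = c := by rw [Subgroup.mem_centralizer_iff.1 hw.2 t htH, mul_inv_cancel_right]
    have e1 : t * z * t⁻¹ = z * c := by rw [hc, ← mul_assoc z z, Zp_sq hy hz, one_mul]
    have ht' : t ^ 3 = 1 := ht3 ▸ pow_orderOf_eq_one t
    have e2 : t ^ 3 * z * (t ^ 3)⁻¹ = z * c * c * c := by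
      calc t ^ 3 * z * (t ^ 3)⁻¹ = t * (t * (t * z * t⁻¹) * t⁻¹) * t⁻¹ := by rw [pow_succ, pow_succ, pow_one]; group
        _ = t * (t * (z * c) * t⁻¹) * t⁻¹ := by rw [e1]
        _ = t * ((t * z * t⁻¹) * (t * c * t⁻¹)) * t⁻¹ := by group
        _ = t * (z * c * c) * t⁻¹ := by rw [htc, e1]
        _ = (t * z * t⁻¹) * (t * c * t⁻¹) * (t * c * t⁻¹) := by group
        _ = z * c * c * c := by rw [htc, e1]
    rw [ht', one_mul, inv_one, mul_one, mul_assoc (z * c), Zp_sq hy hw.1, mul_one] at e2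
    exact mul_left_cancel (e2.symm.trans (mul_one z).symm)
  have hcardH : Nat.card (stabilizer G a) = 24 * Nat.card (Ce G a) := by
    rw [hy.six a, show Nat.card (pc 2 (stabilizer G a)) = Nat.card (Zp G a) by rw [← heq], hQ]
    ring
  haveI hWn : W.Normal := by
    constructor
    intro w hw k
    have hle := hgen ((Subgroup.normalizer (W : Set (stabilizer G a))).map (stabilizer G a).subtype) ?_ ?_ ?_ k.2
    · obtain ⟨k', hk', e1⟩ := hle
      obtain rfl : k' = k := Subtype.ext e1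
      exact conj_mem_of_normalizer hk' hw
    · intro z hz
      refine ⟨⟨z, hZle hz⟩, mem_normalizer_of_conj fun u hu => ?_, rfl⟩
      rw [show (⟨z, hZle hz⟩ : stabilizer G a) * u = u * ⟨z, hZle hz⟩ from Subtype.ext (Zp_comm hy hz (hWZ u hu)), mul_inv_cancel_right]
      exact hu
    · refine ⟨⟨e, heD.1⟩, mem_normalizer_of_conj ?_, rfl⟩
      rintro _ ⟨⟨z, hz⟩, rfl⟩
      have hze := conj_mem_of_normalizer (Zp_norm a heD.1) hz
      refine ⟨⟨t⁻¹ * (e * z * e⁻¹) * t, ?_⟩, Subtype.ext ?_⟩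
      · simpa using conj_mem_of_normalizer (Zp_norm a (inv_mem htH)) hze
      · show t⁻¹ * (e * z * e⁻¹) * t * (t * (t⁻¹ * (e * z * e⁻¹) * t) * t⁻¹) = e * (z * (t * z * t⁻¹)) * e⁻¹
        have h5 : e * t⁻¹ * e⁻¹ = t := by
          calc e * t⁻¹ * e⁻¹ = (e * t * e⁻¹)⁻¹ := by group
            _ = t := by rw [het, inv_inv]
        have h6 : t⁻¹ * (e * z * e⁻¹) * t = e * (t * z * t⁻¹) * e⁻¹ := by
          calc t⁻¹ * (e * z * e⁻¹) * t = (e * t * e⁻¹) * (e * z * e⁻¹) * (e * t⁻¹ * e⁻¹) := by rw [het, h5]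
            _ = _ := by group
        calc t⁻¹ * (e * z * e⁻¹) * t * (t * (t⁻¹ * (e * z * e⁻¹) * t) * t⁻¹) = (t⁻¹ * (e * z * e⁻¹) * t) * (e * z * e⁻¹) := by group
          _ = (e * (t * z * t⁻¹) * e⁻¹) * (e * z * e⁻¹) := by rw [h6]
          _ = e * ((t * z * t⁻¹) * z) * e⁻¹ := by group
          _ = _ := by rw [Zp_comm hy (conj_mem_of_normalizer (Zp_norm a htH) hz) hz]
    · refine ⟨⟨t, htH⟩, mem_normalizer_of_conj ?_, rfl⟩
      rintro _ ⟨⟨z, hz⟩, rfl⟩
      refine ⟨⟨t * z * t⁻¹, conj_mem_of_normalizer (Zp_norm a htH) hz⟩, Subtype.ext ?_⟩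
      show t * z * t⁻¹ * (t * (t * z * t⁻¹) * t⁻¹) = t * (z * (t * z * t⁻¹)) * t⁻¹
      group
  rcases (show Nat.card (Ce G a) = 1 ∨ Nat.card (Ce G a) = 2 by
    have h0 : 0 < Nat.card (Ce G a) := Nat.card_pos
    omega) with hc1 | hc2
  · left
    refine klein_perm_four W hWcard (fun w hw => Subtype.ext (Zp_sq hy (hWZ w hw))) (fun k hk => ?_) (by rw [hcardH, hc1])
    have hWeq : W = (Zp G a).subgroupOf (stabilizer G a) := Subgroup.eq_of_le_of_card_ge (fun w hw => hWZ w hw)
      (by rw [Nat.card_congr (Subgroup.subgroupOfEquivOfLe hZle).toEquiv, hWcard, hQ, hc1])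
    rw [hWeq, Subgroup.mem_subgroupOf, ← heq]
    refine hy.cent a ⟨Subgroup.mem_centralizer_iff.2 fun z hz => ?_, k.2⟩
    have hz' : z ∈ Zp G a := heq ▸ hz
    have hm : (⟨z, hZle hz'⟩ : stabilizer G a) ∈ W := by rw [hWeq, Subgroup.mem_subgroupOf]; exact hz'
    exact congrArg Subtype.val (Subgroup.mem_centralizer_iff.1 hk _ hm)
  · right
    set tt : stabilizer G a := ⟨t, htH⟩ with htt
    set ee : stabilizer G a := ⟨e, heD.1⟩ with hee
    set N := Subgroup.zpowers tt ⊔ W with hN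
    set M := Subgroup.zpowers ee ⊔ N with hM
    set C₀ := (Ce G a).subgroupOf (stabilizer G a) with hC₀
    have hC0c : ∀ c ∈ C₀, ∀ k : stabilizer G a, k * c = c * k := fun c hc k =>
      Subtype.ext (Subgroup.mem_centralizer_iff.1 (hc : (c : G) ∈ Ce G a).2 k.1 k.2)
    have hZWC : (Zp G a).subgroupOf (stabilizer G a) ≤ W ⊔ C₀ := by
      let ψ : W × C₀ → (Zp G a).subgroupOf (stabilizer G a) := fun p =>
        ⟨p.1.1 * p.2.1, mul_mem (hWZ _ p.1.2) ((p.2.2 : (p.2.1 : G) ∈ Ce G a).1)⟩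
      have hψ : Function.Injective ψ := by
        rintro ⟨⟨p, hp⟩, ⟨q, hq⟩⟩ ⟨⟨p', hp'⟩, ⟨q', hq'⟩⟩ e1
        have e2 : p * q = p' * q' := congrArg Subtype.val e1
        have e3 : p'⁻¹ * p = q' * q⁻¹ := by rw [eq_mul_inv_iff_mul_eq, mul_assoc, e2, inv_mul_cancel_left]
        have h0 := hWC _ (W.mul_mem (W.inv_mem hp') hp) (show ((p'⁻¹ * p : stabilizer G a) : G) ∈ Ce G a from
          (show p'⁻¹ * p ∈ C₀ by rw [e3]; exact C₀.mul_mem hq' (C₀.inv_mem hq)))
        obtain rfl : p' = p := inv_mul_eq_one.1 h0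
        obtain rfl : q = q' := mul_left_cancel e2
        rfl
      have hbij := (Nat.bijective_iff_injective_and_card ψ).2 ⟨hψ, by
        rw [Nat.card_prod, hWcard, show Nat.card C₀ = Nat.card (Ce G a) from Nat.card_congr (Subgroup.subgroupOfEquivOfLe (inf_le_left.trans hZle : Ce G a ≤ stabilizer G a)).toEquiv,
          Nat.card_congr (Subgroup.subgroupOfEquivOfLe hZle).toEquiv, hQ]⟩
      intro z hz
      obtain ⟨⟨p, q⟩, hpq⟩ := hbij.2 ⟨z, hz⟩
      rw [← show p.1 * q.1 = z from congrArg Subtype.val hpq]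
      exact mul_mem (Subgroup.mem_sup_left p.2) (Subgroup.mem_sup_right q.2)
    have htop : ∀ M' : Subgroup (stabilizer G a), W ≤ M' → C₀ ≤ M' → ee ∈ M' → tt ∈ M' → ∀ k, k ∈ M' := by
      intro M' h1 h2 h4 h5 k
      have hle := hgen (M'.map (stabilizer G a).subtype)
        (fun z hz => ⟨⟨z, hZle hz⟩, (hZWC.trans (sup_le h1 h2)) hz, rfl⟩) ⟨ee, h4, rfl⟩ ⟨tt, h5, rfl⟩ k.2
      obtain ⟨k', hk', e1⟩ := hle
      obtain rfl : k' = k := Subtype.ext e1
      exact hk'
    have hee1 : ee * tt * ee⁻¹ = tt⁻¹ := Subtype.ext het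
    haveI hNn : N.Normal := by
      refine Subgroup.normalizer_eq_top_iff.1 (eq_top_iff.2 fun k _ => htop _ ?_ ?_ ?_ ?_ k)
      · exact le_sup_right.trans Subgroup.le_normalizer
      · intro c hc
        refine mem_normalizer_of_conj fun u hu => ?_
        rw [← hC0c c hc u, mul_inv_cancel_right]
        exact hu
      · refine mem_normalizer_of_conj fun u hu => ?_
        have : (MulAut.conj ee).toMonoidHom u ∈ N.map (MulAut.conj ee).toMonoidHom := ⟨u, hu, rfl⟩
        rw [hN, Subgroup.map_sup, MonoidHom.map_zpowers] at this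
        refine (sup_le ?_ ?_ : _ ≤ Subgroup.zpowers tt ⊔ W) this
        · rw [Subgroup.zpowers_le]
          refine Subgroup.mem_sup_left ?_
          show ee * tt * ee⁻¹ ∈ _
          rw [hee1]; exact inv_mem (Subgroup.mem_zpowers tt)
        · rintro _ ⟨w, hw, rfl⟩
          exact Subgroup.mem_sup_right (hWn.conj_mem w hw ee)
      · exact Subgroup.le_normalizer (Subgroup.mem_sup_left (Subgroup.mem_zpowers tt))
    have hNelt : ∀ u ∈ N, ∃ i : ℤ, ∃ w ∈ W, u = tt ^ i * w := by
      intro u hu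
      rw [hN, Subgroup.mem_sup_of_normal_right] at hu
      obtain ⟨p, hp, w, hw, rfl⟩ := hu
      obtain ⟨i, rfl⟩ := Subgroup.mem_zpowers_iff.1 hp
      exact ⟨i, w, hw, rfl⟩
    have htpow : ∀ i : ℤ, (tt ^ i : stabilizer G a).1 ∈ ar a x → tt ^ i = 1 := by
      intro i hm
      by_contra hne1
      refine notMem_ar_of_three hy.prim h ?_ hm
      rw [Subgroup.orderOf_coe]
      have hd : orderOf (tt ^ i) ∣ 3 := by
        have : orderOf tt = 3 := by rw [← Subgroup.orderOf_coe]; exact ht3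
        exact this ▸ orderOf_dvd_of_mem_zpowers (Subgroup.mem_zpowers_iff.2 ⟨i, rfl⟩)
      rcases (Nat.dvd_prime Nat.prime_three).1 hd with e1 | e1
      · exact absurd (orderOf_eq_one_iff.1 e1) hne1
      · exact e1
    have hMC : ∀ c ∈ C₀, c ∈ M → c = 1 := by
      intro c hc hcM
      rw [hM, Subgroup.mem_sup_of_normal_right] at hcM
      obtain ⟨p, hp, u, hu, hpu⟩ := hcM
      obtain ⟨i, w, hw, rfl⟩ := hNelt u hu
      obtain ⟨j, rfl⟩ := Subgroup.mem_zpowers_iff.1 hp
      have heo : ee * ee = 1 := Subtype.ext he2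
      have hcD : (c : G) ∈ ar a x := Q_le hy.prim h (Zp_le_Q hy a (hc : (c : G) ∈ Ce G a).1)
      have hwD : (w : G) ∈ ar a x := Q_le hy.prim h (Zp_le_Q hy a (hWZ w hw))
      have hti : tt ^ i = (ee ^ j)⁻¹ * c * w⁻¹ := by rw [← hpu]; group
      have hejD : ((ee ^ j : stabilizer G a) : G) ∈ ar a x := by
        rw [Subgroup.coe_zpow]; exact zpow_mem heD j
      have h0 : tt ^ i = 1 := htpow i (by
        rw [hti]; push_cast
        exact mul_mem (mul_mem (inv_mem (by simpa using hejD)) hcD) (inv_mem hwD))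
      rw [h0, one_mul] at hpu
      rcases Int.even_or_odd j with ⟨l, rfl⟩ | ⟨l, rfl⟩
      · rw [← two_mul, zpow_mul, zpow_two, heo, one_zpow, one_mul] at hpu
        exact hpu ▸ hWC w hw (hpu.symm ▸ (hc : (c : G) ∈ Ce G a))
      · exfalso
        rw [zpow_add, zpow_one, zpow_mul, zpow_two, heo, one_zpow, one_mul] at hpu
        refine heQ (Zp_le_Q hy a ?_)
        have : ee = c * w⁻¹ := by rw [← hpu, mul_inv_cancel_right]
        rw [show e = (ee : G) from rfl, this]
        exact mul_mem (hc : (c : G) ∈ Ce G a).1 (inv_mem (hWZ w hw))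
    haveI hMn : M.Normal := by
      refine Subgroup.normalizer_eq_top_iff.1 (eq_top_iff.2 fun k _ => htop _ ?_ ?_ ?_ ?_ k)
      · exact (le_sup_right.trans le_sup_right).trans Subgroup.le_normalizer
      · intro c hc
        refine mem_normalizer_of_conj fun u hu => ?_
        rw [← hC0c c hc u, mul_inv_cancel_right]
        exact hu
      · exact Subgroup.le_normalizer (Subgroup.mem_sup_left (Subgroup.mem_zpowers ee))
      · exact Subgroup.le_normalizer (Subgroup.mem_sup_right (Subgroup.mem_sup_left (Subgroup.mem_zpowers tt)))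
    let χ : M × C₀ →* stabilizer G a :=
      { toFun := fun p => p.1.1 * p.2.1
        map_one' := mul_one 1
        map_mul' := fun p q => by
          show p.1.1 * q.1.1 * (p.2.1 * q.2.1) = p.1.1 * p.2.1 * (q.1.1 * q.2.1)
          calc p.1.1 * q.1.1 * (p.2.1 * q.2.1) = p.1.1 * (q.1.1 * p.2.1) * q.2.1 := by group
            _ = p.1.1 * (p.2.1 * q.1.1) * q.2.1 := by rw [hC0c _ p.2.2]
            _ = _ := by group }
    have hinj : Function.Injective χ := by
      rw [← MonoidHom.ker_eq_bot_iff, Subgroup.eq_bot_iff_forall]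
      rintro ⟨p, q⟩ hpq
      have e1 : p.1 * q.1 = 1 := hpq
      have hq : q.1 = 1 := hMC _ q.2 (by rw [eq_inv_of_mul_eq_one_right e1]; exact M.inv_mem p.2)
      rw [hq, mul_one] at e1
      exact Prod.ext (Subtype.ext e1) (Subtype.ext hq)
    have hsurj : Function.Surjective χ := fun k => by
      refine htop χ.range ?_ ?_ ?_ ?_ k
      · intro w hw; exact ⟨(⟨w, Subgroup.mem_sup_right (Subgroup.mem_sup_right hw)⟩, 1), mul_one w⟩
      · intro c hc; exact ⟨(1, ⟨c, hc⟩), one_mul c⟩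
      · exact ⟨(⟨ee, Subgroup.mem_sup_left (Subgroup.mem_zpowers ee)⟩, 1), mul_one ee⟩
      · exact ⟨(⟨tt, Subgroup.mem_sup_right (Subgroup.mem_sup_left (Subgroup.mem_zpowers tt))⟩, 1), mul_one tt⟩
    let iso := MulEquiv.ofBijective χ ⟨hinj, hsurj⟩
    have hC2 : Nat.card C₀ = 2 :=
      (Nat.card_congr (Subgroup.subgroupOfEquivOfLe (inf_le_left.trans hZle : Ce G a ≤ stabilizer G a)).toEquiv).trans hc2
    have hM24 : Nat.card M = 24 := by
      have h1 := Nat.card_congr iso.toEquiv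
      rw [Nat.card_prod, hC2, hcardH, hc2] at h1
      omega
    have hWM : W ≤ M := le_sup_right.trans le_sup_right
    haveI : (W.subgroupOf M).Normal := hWn.subgroupOf M
    obtain ⟨i4⟩ := klein_perm_four (W.subgroupOf M) ((Nat.card_congr (Subgroup.subgroupOfEquivOfLe hWM).toEquiv).trans hWcard)
      (fun v hv => Subtype.ext (Subtype.ext (Zp_sq hy (hWZ v.1 hv)))) (fun k hk => by
        rw [Subgroup.mem_subgroupOf]
        have hkc : ∀ z ∈ (Zp G a).subgroupOf (stabilizer G a), k.1 * z = z * k.1 := by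
          intro z hz
          have hle : W ⊔ C₀ ≤ Subgroup.centralizer ({k.1} : Set (stabilizer G a)) := sup_le
            (fun w hw => Subgroup.mem_centralizer_singleton_iff.2
              (congrArg Subtype.val (Subgroup.mem_centralizer_iff.1 hk ⟨w, hWM hw⟩ hw)))
            (fun c hc => Subgroup.mem_centralizer_singleton_iff.2 (hC0c c hc k.1).symm)
          exact (Subgroup.mem_centralizer_singleton_iff.1 (hle (hZWC hz))).symm
        have hkQ : (k.1 : G) ∈ Zp G a := by
          rw [← heq]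
          refine hy.cent a ⟨Subgroup.mem_centralizer_iff.2 fun z hz => ?_, k.1.2⟩
          exact (congrArg Subtype.val (hkc ⟨z, hZle (heq ▸ hz)⟩ (heq ▸ hz : z ∈ Zp G a))).symm
        have hmem := hZWC (show k.1 ∈ (Zp G a).subgroupOf (stabilizer G a) from hkQ)
        haveI : C₀.Normal := ⟨fun c hc g => by rw [hC0c c hc g, mul_inv_cancel_right]; exact hc⟩
        rw [Subgroup.mem_sup_of_normal_right] at hmem
        obtain ⟨w, hw, c, hc, e1⟩ := hmem
        have hc0 : c = 1 := hMC c hc (by rw [show c = w⁻¹ * k.1 by rw [← e1, inv_mul_cancel_left]]; exact M.mul_mem (M.inv_mem (hWM hw)) k.2)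
        rw [← e1, hc0, mul_one]; exact hw) hM24
    haveI : Fact (Nat.Prime 2) := ⟨Nat.prime_two⟩
    exact ⟨iso.symm.trans (i4.prodCongr (mulEquivOfPrimeCardEq (p := 2) hC2 (by simp)))⟩

/-- The structure of the point stabiliser. -/
theorem stabilizer_structure (hprim : IsPreprimitive G Ω) {a b : Ω} (h : Adj G a b) :
    Nonempty (stabilizer G a ≃* Multiplicative (ZMod 3)) ∨ Nonempty (stabilizer G a ≃* Equiv.Perm (Fin 3)) ∨
      Nonempty (stabilizer G a ≃* DihedralGroup 6) ∨ Nonempty (stabilizer G a ≃* Equiv.Perm (Fin 4)) ∨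
      Nonempty (stabilizer G a ≃* Equiv.Perm (Fin 4) × Multiplicative (ZMod 2)) := by
  by_cases h3 : Nat.card (stabilizer G a) = 3
  · haveI : Fact (Nat.Prime 3) := ⟨Nat.prime_three⟩
    exact Or.inl ⟨mulEquivOfPrimeCardEq (p := 3) h3 (by simp)⟩
  have h6 := indexSix_of_ne hprim h h3
  by_cases hbig : 2 < Nat.card (Q (G := G) a)
  · have hy : Hyp G Ω := ⟨hprim, h6, cent_le hprim h6 h hbig⟩
    haveI := hprim.toIsPretransitive
    haveI : Nontrivial Ω := by
      haveI : Nontrivial (orbit (stabilizer G a) b) := Finite.one_lt_card_iff_nontrivial.1 (by rw [h]; norm_num)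
      exact Function.Injective.nontrivial (f := fun c : orbit (stabilizer G a) b => (c : Ω)) Subtype.coe_injective
    by_cases hII : ∀ p q : Ω, Adj G p q → Zp G p ≤ Q q
    · exact (caseII_false hy h hII).elim
    push Not at hII
    obtain ⟨p, q, hpq, hn⟩ := hII
    obtain ⟨g, hg⟩ := exists_smul_eq G a p
    have iso := stabilizerEquivStabilizer (G := G) hg.symm
    rcases big_case hy hpq hn with i | i
    · exact Or.inr (Or.inr (Or.inr (Or.inl (i.map iso.trans))))
    · exact Or.inr (Or.inr (Or.inr (Or.inr (i.map iso.trans))))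
  · have h0 : 0 < Nat.card (Q (G := G) a) := Nat.card_pos
    rcases (show Nat.card (Q (G := G) a) = 1 ∨ Nat.card (Q (G := G) a) = 2 by omega) with h1 | h2
    · exact Or.inr (Or.inl (order_six hprim h6 h h1))
    · exact Or.inr (Or.inr (Or.inl (order_twelve hprim h6 h h2)))

end Cfsg.Agent.Lie.Sims
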