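import Cfsg.Agent.Lib.Char.CliffordInd
import Cfsg.Agent.Lib.Char.Central
import Cfsg.Agent.Lib.Char.Linear
import Cfsg.Agent.Lib.Char.Induction
import Cfsg.Prelude.Def_DegreeGraph
import Mathlib.GroupTheory.SemidirectProduct
import Mathlib.GroupTheory.Solvable

/-!
A soluble group of order 6048 with an irreducible character of degree 42.
-/

set_option autoImplicit false
open Cfsg

namespace Cfsg.Agent.Lie.SolvableDeg

/-- The abelian kernel of order 144. -/
abbrev V : Type := (ZMod 2 × ZMod 2 × ZMod 2) × ZMod 2 × (ZMod 3 × ZMod 3)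

/-- An automorphism of order 42. -/
def step : V ≃+ V where
  toFun v := ((v.1.2.2, v.1.1 + v.1.2.2, v.1.2.1), v.2.1, (-v.2.2.1, -v.2.2.1 - v.2.2.2))
  invFun v := ((v.1.2.1 + v.1.1, v.1.2.2, v.1.1), v.2.1, (-v.2.2.1, v.2.2.1 - v.2.2.2))
  left_inv := by unfold Function.LeftInverse; decide +kernel
  right_inv := by unfold Function.RightInverse Function.LeftInverse; decide +kernel
  map_add' := fun a b => by
    ext <;> simp <;> ring

/-- The powers of `step`, as functions. -/
def stepPow (k : ZMod 42) (v : V) : V := (⇑step)^[k.val] v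

set_option maxRecDepth 100000 in
theorem step_order : ∀ v : V, (⇑step)^[42] v = v := by decide +kernel

theorem step_pow_apply (n : ℕ) (v : V) : ((step.toMultiplicative) ^ n : MulAut (Multiplicative V)) (Multiplicative.ofAdd v) =
    Multiplicative.ofAdd ((⇑step)^[n] v) := by
  induction n generalizing v with
  | zero => rfl
  | succ n ih =>
    rw [pow_succ, MulAut.mul_apply, Function.iterate_succ_apply]
    exact ih _

theorem step_pow_card : (step.toMultiplicative : MulAut (Multiplicative V)) ^ 42 = 1 := by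
  refine MulEquiv.ext fun v => ?_
  rw [← ofAdd_toAdd v, step_pow_apply, step_order, ofAdd_toAdd]
  rfl

/-- The action of the cyclic group of order 42. -/
def act : Multiplicative (ZMod 42) →* MulAut (Multiplicative V) where
  toFun k := (step.toMultiplicative : MulAut (Multiplicative V)) ^ (Multiplicative.toAdd k).val
  map_one' := by simp
  map_mul' a b := by
    rw [← pow_add, toAdd_mul, ZMod.val_add, ← pow_eq_pow_mod _ step_pow_card]

theorem act_apply (k : Multiplicative (ZMod 42)) (v : V) :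
    act k (Multiplicative.ofAdd v) = Multiplicative.ofAdd (stepPow (Multiplicative.toAdd k) v) :=
  step_pow_apply _ _

/-- The group. -/
abbrev H : Type := Multiplicative V ⋊[act] Multiplicative (ZMod 42)

noncomputable instance : Fintype H := Fintype.ofEquiv _ SemidirectProduct.equivProd.symm

theorem card_H : Nat.card H = 6048 := by
  rw [SemidirectProduct.card]
  simp [Nat.card_eq_fintype_card]

theorem solvable_H : Group.IsSolvable H :=
  solvable_of_ker_le_range (SemidirectProduct.inl : Multiplicative V →* H) SemidirectProduct.rightHom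
    (le_of_eq SemidirectProduct.range_inl_eq_ker_rightHom.symm)

/-- A linear form with values in `ZMod 6`. -/
def form : V →+ ZMod 6 :=
  AddMonoidHom.mk' (fun v => (3 * v.1.1.val + 2 * v.2.2.2.val : ℕ)) (by
    have h2 : ∀ a b : ZMod 2, (((3 * (a + b).val : ℕ)) : ZMod 6) = ((3 * a.val : ℕ) : ZMod 6) + ((3 * b.val : ℕ) : ZMod 6) := by
      decide +kernel
    have h3 : ∀ a b : ZMod 3, (((2 * (a + b).val : ℕ)) : ZMod 6) = ((2 * a.val : ℕ) : ZMod 6) + ((2 * b.val : ℕ) : ZMod 6) := by
      decide +kernel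
    intro v w
    simp only [Prod.fst_add, Prod.snd_add, Nat.cast_add, h2, h3]
    ring)

set_option maxRecDepth 100000 in
theorem form_free : ∀ k : ZMod 42,
    (∀ v ∈ [(((1, 0, 0), 0, (0, 0)) : V), ((0, 1, 0), 0, (0, 0)), ((0, 0, 1), 0, (0, 0)),
      ((0, 0, 0), 0, (1, 0)), ((0, 0, 0), 0, (0, 1))], form (stepPow k v) = form v) → k = 0 := by
  decide +kernel

theorem exists_deg_42 : (42 : ℕ) ∈ charDegrees H := by
  classical
  set ζ : ℂ := Complex.exp (2 * Real.pi * Complex.I / 6) with hζdef
  have hζ : IsPrimitiveRoot ζ 6 := by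
    have := Complex.isPrimitiveRoot_exp 6 (by norm_num)
    simpa using this
  let e : AddChar (ZMod 6) ℂ := AddChar.zmodChar 6 hζ.pow_eq_one
  have einj : ∀ a b : ZMod 6, e a = e b → a = b := fun a b h => by
    rw [AddChar.zmodChar_apply, AddChar.zmodChar_apply] at h
    exact ZMod.val_injective 6 (hζ.pow_inj (ZMod.val_lt a) (ZMod.val_lt b) h)
  set N : Subgroup H := (SemidirectProduct.rightHom : H →* _).ker with hN
  let proj : N →* Multiplicative V :=
    { toFun := fun x => x.1.left
      map_one' := rfl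
      map_mul' := fun x y => by
        have hx : x.1.right = 1 := x.2
        simp [SemidirectProduct.mul_left, hx] }
  let l : N →* ℂˣ := (e.toMonoidHom.comp ((AddMonoidHom.toMultiplicative form).comp proj)).toHomUnits
  have hl : ∀ x : N, (l x : ℂ) = e (form (Multiplicative.toAdd x.1.left)) := fun x => rfl
  let θ : IrrCharacter N := ⟨fun x => (l x : ℂ), Char.isIrrCharacter_linear l⟩
  have hinert : ∀ g : H, Char.irrComp (MulAut.conjNormal g) θ = θ → g ∈ N := by
    intro g hg
    rw [hN, MonoidHom.mem_ker]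
    have hk : ∀ v : V, form (stepPow (Multiplicative.toAdd g.right) v) = form v := by
      intro v
      let n : N := ⟨SemidirectProduct.inl (Multiplicative.ofAdd v), by rw [hN, MonoidHom.mem_ker]; simp⟩
      have h := congrFun (congrArg Subtype.val hg) n
      rw [Char.irrComp_apply] at h
      have h' : (l (MulAut.conjNormal g n) : ℂ) = l n := h
      rw [hl, hl] at h'
      have h'' := einj _ _ h'
      have hconj : (MulAut.conjNormal g n).1.left = act g.right (Multiplicative.ofAdd v) := by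
        rw [MulAut.conjNormal_apply]
        simp [n, SemidirectProduct.mul_left, SemidirectProduct.inv_left, mul_comm, mul_left_comm]
      rw [hconj, act_apply] at h''
      simpa [n] using h''
    have := form_free _ fun v _ => hk v
    simpa [SemidirectProduct.rightHom_eq_right] using Multiplicative.toAdd.injective (this.trans (toAdd_one).symm)
  refine ⟨⟨_, Char.isIrr_indFun_of_inertia N θ hinert⟩, ?_⟩
  have hidx : N.index = 42 := by
    rw [hN, Subgroup.index_ker, MonoidHom.range_eq_top.2 SemidirectProduct.rightHom_surjective,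
      Subgroup.card_top]
    simp [Nat.card_eq_fintype_card]
  show charDegree _ = 42
  show ⌊(indFun N (θ : N → ℂ) 1).re⌋₊ = 42
  rw [Char.indFun_one, hidx]
  simp [θ]

/-- The degree graph of a group of order 6048 with degrees divisible by 6, 14 and 21. -/
theorem graph_complete {X : Type*} [Group X] [Finite X] (hX : Nat.card X = 6048)
    (h6 : ∃ d ∈ charDegrees X, 6 ∣ d) (h14 : ∃ d ∈ charDegrees X, 14 ∣ d) (h21 : ∃ d ∈ charDegrees X, 21 ∣ d) :
    degreePrimes X = {p | p = 2 ∨ p = 3 ∨ p = 7} ∧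
      ∀ p q, (degreeGraph X).Adj p q ↔ p ≠ q ∧ (p = 2 ∨ p = 3 ∨ p = 7) ∧ (q = 2 ∨ q = 3 ∨ q = 7) := by
  have hup : ∀ p, p.Prime → ∀ d ∈ Cfsg.charDegrees X, p ∣ d → p = 2 ∨ p = 3 ∨ p = 7 := by
    rintro p hp d ⟨χ, rfl⟩ hpd
    have h := hpd.trans (Char.deg_dvd_card χ.2)
    rw [hX, show (6048 : ℕ) = 2 ^ 5 * (3 ^ 3 * 7) by norm_num] at h
    rcases (Nat.Prime.dvd_mul hp).1 h with h | h
    · exact Or.inl ((Nat.prime_dvd_prime_iff_eq hp Nat.prime_two).1 (hp.dvd_of_dvd_pow h))
    · rcases (Nat.Prime.dvd_mul hp).1 h with h | h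
      · exact Or.inr (Or.inl ((Nat.prime_dvd_prime_iff_eq hp Nat.prime_three).1 (hp.dvd_of_dvd_pow h)))
      · exact Or.inr (Or.inr ((Nat.prime_dvd_prime_iff_eq hp (by norm_num)).1 h))
  have hp : ∀ p, p = 2 ∨ p = 3 ∨ p = 7 → p.Prime := by rintro p (rfl | rfl | rfl) <;> norm_num
  obtain ⟨x, hx, hx6⟩ := h6
  obtain ⟨y, hy, hy14⟩ := h14
  obtain ⟨z, hz, hz21⟩ := h21
  refine ⟨Set.ext fun p => ⟨fun ⟨h1, d, hd, h2⟩ => hup p h1 d hd h2, fun h => ⟨hp p h, ?_⟩⟩, fun p q => ⟨?_, ?_⟩⟩
  · rcases h with rfl | rfl | rfl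
    · exact ⟨x, hx, dvd_trans (by norm_num) hx6⟩
    · exact ⟨x, hx, dvd_trans (by norm_num) hx6⟩
    · exact ⟨y, hy, dvd_trans (by norm_num) hy14⟩
  · rintro ⟨h1, h2, h3, d, hd, h4⟩
    exact ⟨h1, hup p h2 d hd (dvd_trans (dvd_mul_right p q) h4), hup q h3 d hd (dvd_trans (dvd_mul_left q p) h4)⟩
  · rintro ⟨h1, h2, h3⟩
    refine ⟨h1, hp p h2, hp q h3, ?_⟩
    rcases h2 with rfl | rfl | rfl <;> rcases h3 with rfl | rfl | rfl <;> first
      | exact absurd rfl h1
      | exact ⟨x, hx, by simpa using hx6⟩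
      | exact ⟨y, hy, by simpa using hy14⟩
      | exact ⟨z, hz, by simpa using hz21⟩

end Cfsg.Agent.Lie.SolvableDeg
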