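import Mathlib

/-!
Sparse matrices with entries in ℤ[t, u], given as lists of terms, with a sound zero test
that the kernel evaluates quickly.
-/

set_option autoImplicit false

namespace Cfsg.Agent.Lie

/-- The term `c t^a u^b` at position (row, col). -/
structure Tm where
  row : ℕ
  col : ℕ
  a : ℕ
  b : ℕ
  c : ℤ

section eval

variable {ι : Type*} {N : ℕ} (e : ι ≃ Fin N) {R : Type*} [CommRing R]

/-- Matrix unit at numeric position (i, j); zero when out of range. -/
def matUnit (i j : ℕ) : Matrix ι ι R :=
  Matrix.of fun p q => if (e p : ℕ) = i ∧ (e q : ℕ) = j then 1 else 0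

theorem matUnit_apply (i j : ℕ) (p q : ι) :
    matUnit e (R := R) i j p q = if (e p : ℕ) = i ∧ (e q : ℕ) = j then 1 else 0 := rfl

theorem matUnit_mul [Fintype ι] (i j k l : ℕ) :
    matUnit e (R := R) i j * matUnit e k l =
      if j = k ∧ j < N then matUnit e i l else 0 := by
  ext p q
  simp only [Matrix.mul_apply, matUnit_apply]
  by_cases h : j = k ∧ j < N
  · obtain ⟨rfl, hj⟩ := h
    rw [if_pos ⟨rfl, hj⟩, matUnit_apply]
    rw [Finset.sum_eq_single (e.symm ⟨j, hj⟩)]
    · simp [ite_and]
      split_ifs <;> rfl
    · intro x _ hx
      have : (e x : ℕ) ≠ j := by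
        intro hxj
        exact hx (e.injective (Fin.ext (by simp [hxj])))
      simp [this]
    · simp
  · rw [if_neg h, Matrix.zero_apply]
    apply Finset.sum_eq_zero
    intro x _
    by_cases h1 : (e x : ℕ) = j
    · have hk : (e x : ℕ) ≠ k := fun h2 => h ⟨h1.symm.trans h2, h1 ▸ (e x).isLt⟩
      simp [hk]
    · simp [h1]

/-- Value of one term at (t, u). -/
def Tm.ev (t u : R) (m : Tm) : Matrix ι ι R :=
  ((m.c : R) * t ^ m.a * u ^ m.b) • matUnit e m.row m.col

/-- Value of a term list at (t, u). -/
def evL (t u : R) (L : List Tm) : Matrix ι ι R := (L.map (Tm.ev e t u)).sum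

@[simp] theorem evL_nil (t u : R) : evL e t u [] = 0 := rfl

@[simp] theorem evL_cons (t u : R) (m : Tm) (L : List Tm) :
    evL e t u (m :: L) = m.ev e t u + evL e t u L := by simp [evL]

theorem evL_append (t u : R) (L L' : List Tm) :
    evL e t u (L ++ L') = evL e t u L + evL e t u L' := by simp [evL]

theorem evL_flatMap {α : Type*} (t u : R) (L : List α) (f : α → List Tm) :
    evL e t u (L.flatMap f) = (L.map fun x => evL e t u (f x)).sum := by
  induction L with
  | nil => simp
  | cons x L ih => simp [evL_append, ih]

theorem evL_map_eq {t u t' u' : R} (f : Tm → Tm) (L : List Tm)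
    (h : ∀ m ∈ L, (f m).ev e t u = m.ev e t' u') :
    evL e t u (L.map f) = evL e t' u' L := by
  induction L with
  | nil => simp
  | cons x L ih =>
    simp only [List.map_cons, evL_cons]
    rw [h x (by simp), ih (fun m hm => h m (List.mem_cons_of_mem _ hm))]

end eval

/-! ### Operations -/

def Tm.neg (m : Tm) : Tm := ⟨m.row, m.col, m.a, m.b, -m.c⟩

def negL (L : List Tm) : List Tm := L.map Tm.neg

def scaleL (k : ℤ) (L : List Tm) : List Tm := L.map fun m => ⟨m.row, m.col, m.a, m.b, k * m.c⟩

def Tm.mul (m m' : Tm) : Tm := ⟨m.row, m'.col, m.a + m'.a, m.b + m'.b, m.c * m'.c⟩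

theorem nbeq (a b : ℕ) : Nat.beq a b = decide (a = b) := by
  rw [Bool.eq_iff_iff]
  simp

theorem nblt (a b : ℕ) : Nat.blt a b = decide (a < b) := by
  rw [Bool.eq_iff_iff]
  simp

/-- Radix tree of term lists. -/
inductive Bins where
  | leaf (L : List Tm)
  | node (l r : Bins)

/-- Sort terms by the low `d` bits of a key. -/
def mkBins : ℕ → List (ℕ × Tm) → Bins
  | 0, L => .leaf (L.map Prod.snd)
  | d + 1, L =>
    match L with
    | [] => .leaf []
    | _ => .node (mkBins d ((L.filter fun p => Nat.beq (p.1 % 2) 0).map fun p => (p.1 / 2, p.2)))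
        (mkBins d ((L.filter fun p => Nat.beq (p.1 % 2) 1).map fun p => (p.1 / 2, p.2)))

/-- Look up a key. -/
def Bins.get : Bins → ℕ → List Tm
  | .leaf L, _ => L
  | .node l r, k => cond (Nat.beq (k % 2) 0) (l.get (k / 2)) (r.get (k / 2))

theorem mkBins_get (d : ℕ) : ∀ (L : List (ℕ × Tm)) (k : ℕ), k < 2 ^ d → (∀ p ∈ L, p.1 < 2 ^ d) →
    (mkBins d L).get k = (L.filter fun p => p.1 == k).map Prod.snd := by
  induction d with
  | zero =>
    intro L k hk hL
    have hk0 : k = 0 := by simpa using hk
    subst hk0
    rw [List.filter_eq_self.2]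
    · rfl
    · intro p hp
      have := hL p hp
      simp only [pow_zero, Nat.lt_one_iff] at this
      simp [this]
  | succ d ih =>
    intro L k hk hL
    cases L with
    | nil => simp [mkBins, Bins.get]
    | cons x L =>
      have hk2 : k / 2 < 2 ^ d := by rw [pow_succ] at hk; omega
      have hstep : ∀ (bit : ℕ), k % 2 = bit →
          (mkBins d (((x :: L).filter fun p => Nat.beq (p.1 % 2) bit).map
              fun p => (p.1 / 2, p.2))).get (k / 2) =
            ((x :: L).filter fun p => p.1 == k).map Prod.snd := by
        intro bit hb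
        rw [ih _ _ hk2]
        · rw [List.filter_map, List.map_map, List.filter_filter]
          congr 1
          apply List.filter_congr
          intro p _
          have hbeq : Nat.beq (p.1 % 2) bit = decide (p.1 % 2 = bit) := by
            rw [Bool.eq_iff_iff]; simp
          simp only [Function.comp_apply, hbeq, beq_eq_decide]
          rw [Bool.eq_iff_iff]
          simp only [Bool.and_eq_true, decide_eq_true_eq]
          omega
        · intro p hp
          simp only [List.mem_map, List.mem_filter] at hp
          obtain ⟨q, ⟨hq, -⟩, rfl⟩ := hp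
          have := hL q hq
          rw [pow_succ] at this
          simp only
          omega
      simp only [mkBins, Bins.get]
      by_cases h : k % 2 = 0
      · have : Nat.beq (k % 2) 0 = true := by simp [h]
        rw [this]
        exact hstep 0 h
      · have : Nat.beq (k % 2) 0 = false := by simp [nbeq, h]
        rw [this]
        exact hstep 1 (by omega)

/-- Product of two term lists (indices at least `min N 512` at the inner position are dropped). -/
def mulL (N : ℕ) (A B : List Tm) : List Tm :=
  (fun T : Bins => A.flatMap fun m =>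
      cond (Nat.blt m.col N && Nat.blt m.col 512) ((T.get m.col).map fun m' => m.mul m') [])
    (mkBins 9 ((B.filter fun m' => Nat.blt m'.row 512).map fun m' => (m'.row, m')))

section eval

variable {ι : Type*} {N : ℕ} (e : ι ≃ Fin N) {R : Type*} [CommRing R]

theorem evL_negL (t u : R) (L : List Tm) : evL e t u (negL L) = - evL e t u L := by
  induction L with
  | nil => simp [negL]
  | cons x L ih =>
    simp only [negL, List.map_cons, evL_cons] at ih ⊢
    rw [ih]
    simp [Tm.neg, Tm.ev, add_comm]

theorem evL_scaleL (k : ℤ) (t u : R) (L : List Tm) :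
    evL e t u (scaleL k L) = (k : R) • evL e t u L := by
  induction L with
  | nil => simp [scaleL]
  | cons x L ih =>
    simp only [scaleL, List.map_cons, evL_cons] at ih ⊢
    rw [ih]
    simp [Tm.ev, smul_smul, mul_assoc]

theorem Tm.ev_mul [Fintype ι] (t u : R) (m m' : Tm) :
    m.ev e t u * m'.ev e t u =
      if m.col = m'.row ∧ m.col < N then (m.mul m').ev e t u else 0 := by
  simp only [Tm.ev, Matrix.smul_mul, Matrix.mul_smul, matUnit_mul]
  split_ifs with h
  · simp only [Tm.mul, smul_smul, Int.cast_mul, pow_add]
    congr 1
    ring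
  · simp

theorem evL_mulL [Fintype ι] (hN : N ≤ 512) (t u : R) (A B : List Tm) :
    evL e t u (mulL N A B) = evL e t u A * evL e t u B := by
  unfold mulL
  rw [evL_flatMap]
  induction A with
  | nil => simp
  | cons m A ih =>
    simp only [List.map_cons, List.sum_cons, evL_cons, add_mul, ih]
    congr 1
    by_cases hm : m.col < N
    · have h512 : m.col < 512 := by omega
      have : (Nat.blt m.col N && Nat.blt m.col 512) = true := by simp [hm, h512]
      rw [this, cond_true, mkBins_get 9 _ _ (by norm_num; omega)]
      · rw [List.filter_map, List.map_map, List.filter_filter]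
        clear ih
        induction B with
        | nil => simp
        | cons m' B ihB =>
          simp only [evL_cons, mul_add, ← ihB, Tm.ev_mul]
          by_cases hc : m.col = m'.row
          · rw [if_pos ⟨hc, hm⟩, List.filter_cons_of_pos (by simp [← hc, h512])]
            simp
          · rw [if_neg (fun h => hc h.1), List.filter_cons_of_neg (by simp [Ne.symm hc]), zero_add]
      · intro p hp
        simp only [List.mem_map, List.mem_filter] at hp
        obtain ⟨q, ⟨-, hq⟩, rfl⟩ := hp
        simpa using hq
    · have : Nat.blt m.col N = false := by simp [nblt, hm]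
      rw [this]
      simp only [Bool.false_and, cond_false, evL_nil]
      clear ih
      induction B with
      | nil => simp
      | cons m' B ihB => simp [mul_add, ← ihB, Tm.ev_mul, hm]

end eval

/-! ### Zero test -/

/-- Direct cancellation test: coefficients of equal keys sum to zero. -/
def cancelSmall : ℕ → List (ℕ × ℤ) → Bool
  | _, [] => true
  | 0, _ :: _ => false
  | f + 1, (k, c) :: L =>
    decide (c + ((L.filter fun p => Nat.beq p.1 k).map Prod.snd).sum = 0) &&
      cancelSmall f (L.filter fun p => !Nat.beq p.1 k)

/-- Radix cancellation test. -/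
def cancelRadix : ℕ → List (ℕ × ℤ) → Bool
  | 0, L => cancelSmall L.length L
  | d + 1, L =>
    cond (Nat.ble L.length 6) (cancelSmall L.length L)
      (cancelRadix d ((L.filter fun p => Nat.beq (p.1 % 2) 0).map fun p => (p.1 / 2, p.2)) &&
       cancelRadix d ((L.filter fun p => Nat.beq (p.1 % 2) 1).map fun p => (p.1 / 2, p.2)))

section cancel

variable {M : Type*} [AddCommGroup M]

theorem sum_smul_split (f : ℕ → M) (P : ℕ × ℤ → Bool) (L : List (ℕ × ℤ)) :
    (L.map fun p => p.2 • f p.1).sum =
      ((L.filter P).map fun p => p.2 • f p.1).sum +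
        ((L.filter fun p => !P p).map fun p => p.2 • f p.1).sum := by
  induction L with
  | nil => simp
  | cons x L ih =>
    cases h : P x <;> simp [List.filter_cons, h, ih] <;> abel

theorem cancelSmall_sound (f : ℕ → M) : ∀ (n : ℕ) (L : List (ℕ × ℤ)), cancelSmall n L = true →
    (L.map fun p => p.2 • f p.1).sum = 0 := by
  intro n
  induction n with
  | zero => intro L h; cases L <;> simp_all [cancelSmall]
  | succ n ih =>
    intro L h
    cases L with
    | nil => simp
    | cons x L =>
      obtain ⟨k, c⟩ := x
      simp only [cancelSmall, Bool.and_eq_true, decide_eq_true_eq] at h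
      rw [List.map_cons, List.sum_cons, sum_smul_split f (fun p => Nat.beq p.1 k) L, ih _ h.2,
        add_zero]
      have : ((L.filter fun p => Nat.beq p.1 k).map fun p => p.2 • f p.1).sum =
          ((L.filter fun p => Nat.beq p.1 k).map Prod.snd).sum • f k := by
        generalize hL' : L.filter (fun p => Nat.beq p.1 k) = L'
        have hk : ∀ p ∈ L', p.1 = k := by
          intro p hp
          rw [← hL'] at hp
          simpa using (List.mem_filter.1 hp).2
        clear hL' h
        induction L' with
        | nil => simp
        | cons y L' ih' =>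
          simp [add_smul, ih' (fun p hp => hk p (List.mem_cons_of_mem _ hp)), hk y (by simp)]
      rw [this, ← add_smul, h.1, zero_smul]

theorem cancelRadix_sound : ∀ (d : ℕ) (f : ℕ → M) (L : List (ℕ × ℤ)), cancelRadix d L = true →
    (L.map fun p => p.2 • f p.1).sum = 0 := by
  intro d
  induction d with
  | zero => intro f L h; exact cancelSmall_sound f _ L h
  | succ d ih =>
    intro f L h
    simp only [cancelRadix] at h
    cases hb : Nat.ble L.length 6
    · rw [hb, cond_false, Bool.and_eq_true] at h
      rw [sum_smul_split f (fun p => Nat.beq (p.1 % 2) 0)]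
      have h0 := ih (fun k => f (2 * k)) _ h.1
      have h1 := ih (fun k => f (2 * k + 1)) _ h.2
      rw [List.map_map] at h0 h1
      have e0 : ((L.filter fun p => Nat.beq (p.1 % 2) 0).map fun p => p.2 • f p.1).sum = 0 := by
        rw [← h0]
        congr 1
        apply List.map_congr_left
        intro p hp
        have hp2 : p.1 % 2 = 0 := by simpa using (List.mem_filter.1 hp).2
        simp only [Function.comp_apply]
        congr 2
        omega
      have e1 : ((L.filter fun p => !Nat.beq (p.1 % 2) 0).map fun p => p.2 • f p.1).sum = 0 := by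
        have hf : (L.filter fun p => !Nat.beq (p.1 % 2) 0) =
            L.filter fun p => Nat.beq (p.1 % 2) 1 := by
          apply List.filter_congr
          intro p _
          rcases Nat.mod_two_eq_zero_or_one p.1 with hp | hp <;> simp [nbeq, hp]
        rw [hf, ← h1]
        congr 1
        apply List.map_congr_left
        intro p hp
        have hp2 : p.1 % 2 = 1 := by simpa using (List.mem_filter.1 hp).2
        simp only [Function.comp_apply]
        congr 2
        omega
      rw [e0, e1, add_zero]
    · rw [hb, cond_true] at h
      exact cancelSmall_sound f _ L h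

end cancel

/-- Key of a term: low bits col, then row, then b, then a. -/
def Tm.key (m : Tm) : ℕ := m.col + 512 * (m.row + 512 * (m.b + 16 * m.a))

def Tm.fits (m : Tm) : Bool := Nat.blt m.col 512 && Nat.blt m.row 512 && Nat.blt m.b 16

/-- Sound test that a term list evaluates to zero at every point of every ring. -/
def isZeroL (L : List Tm) : Bool :=
  L.all Tm.fits && cancelRadix 18 (L.map fun m => (m.key, m.c))

/-- Test equality of two term lists as polynomial matrices. -/
def eqL (L L' : List Tm) : Bool := isZeroL (L ++ negL L')

section eval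

variable {ι : Type*} {N : ℕ} (e : ι ≃ Fin N) {R : Type*} [CommRing R]

theorem isZeroL_sound {L : List Tm} (h : isZeroL L = true) (t u : R) : evL e t u L = 0 := by
  simp only [isZeroL, Bool.and_eq_true, List.all_eq_true] at h
  let f : ℕ → Matrix ι ι R := fun k =>
    Tm.ev e t u ⟨k / 512 % 512, k % 512, k / 512 / 512 / 16, k / 512 / 512 % 16, 1⟩
  have := cancelRadix_sound 18 f _ h.2
  rw [List.map_map] at this
  rw [← this, evL]
  congr 1
  apply List.map_congr_left
  intro m hm
  have hm' := h.1 m hm
  simp only [Tm.fits, Bool.and_eq_true, Nat.blt_eq] at hm'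
  obtain ⟨⟨hc, hr⟩, hb⟩ := hm'
  have h1 : m.key / 512 = m.row + 512 * (m.b + 16 * m.a) := by simp [Tm.key]; omega
  have h2 : m.key % 512 = m.col := by simp [Tm.key]; omega
  have h3 : m.key / 512 % 512 = m.row := by rw [h1]; omega
  have h4 : m.key / 512 / 512 = m.b + 16 * m.a := by rw [h1]; omega
  have h5 : m.key / 512 / 512 / 16 = m.a := by rw [h4]; omega
  have h6 : m.key / 512 / 512 % 16 = m.b := by rw [h4]; omega
  simp only [Function.comp_apply, f, Tm.ev, h2, h3, h5, h6, Int.cast_one, one_mul,
    ← Int.cast_smul_eq_zsmul R, smul_smul]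
  congr 1
  ring

theorem eqL_sound {L L' : List Tm} (h : eqL L L' = true) (t u : R) :
    evL e t u L = evL e t u L' := by
  have := isZeroL_sound e h t u
  rw [evL_append, evL_negL] at this
  exact add_neg_eq_zero.1 this

end eval

end Cfsg.Agent.Lie
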