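import Mathlib
import Cfsg.Prelude.Def_LieExceptional

/-!
# The Suzuki group as the stabiliser of the Suzuki–Tits ovoid

Coordinates, the elements `tM` (translations), `dM` (torus), `wM` (inversion), and the
computation of the stabiliser of two points.
-/

set_option autoImplicit false

namespace Cfsg.Agent.Lie.Suzuki

open Matrix

variable {F : Type*} [Field F] {m : ℕ}

/-- The function of the ovoid. -/
def fv (m : ℕ) (x y : F) : F := x * y + x ^ (2 ^ (m + 1) + 2) + y ^ (2 ^ (m + 1))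

/-- Affine ovoid vector. -/
def vPt (m : ℕ) (x y : F) : Fin 4 → F := ![fv m x y, y, x, 1]

theorem vPt_ne (x y : F) : vPt m x y ≠ 0 := by
  intro h
  have := congrFun h 3
  simp [vPt] at this

/-- Affine ovoid point. -/
def pt (m : ℕ) (x y : F) : Projectivization F (Fin 4 → F) :=
  Projectivization.mk F (vPt m x y) (vPt_ne x y)

theorem fv_zero_zero : fv m (0 : F) 0 = 0 := by
  simp [fv]

theorem vPt_zero : vPt m (0 : F) 0 = ![0, 0, 0, 1] := by
  simp [vPt, fv_zero_zero]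

theorem pt_zero : pt m (0 : F) 0 = Cfsg.suzukiPointZero F := by
  simp [pt, Cfsg.suzukiPointZero, vPt_zero]

theorem mem_ovoid {p : Projectivization F (Fin 4 → F)} :
    p ∈ Cfsg.suzukiOvoid F m ↔ p = Cfsg.suzukiPointInfinity F ∨ ∃ x y : F, p = pt m x y := by
  constructor
  · rintro ⟨v, hv, rfl, rfl | ⟨x, y, rfl⟩⟩
    · exact Or.inl rfl
    · exact Or.inr ⟨x, y, rfl⟩
  · rintro (rfl | ⟨x, y, rfl⟩)
    · exact ⟨_, _, rfl, Or.inl rfl⟩
    · exact ⟨_, vPt_ne x y, rfl, Or.inr ⟨x, y, rfl⟩⟩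

theorem inf_mem : Cfsg.suzukiPointInfinity F ∈ Cfsg.suzukiOvoid F m :=
  mem_ovoid.2 (Or.inl rfl)

theorem pt_mem (x y : F) : pt m x y ∈ Cfsg.suzukiOvoid F m :=
  mem_ovoid.2 (Or.inr ⟨x, y, rfl⟩)

theorem pt_inj {x y x' y' : F} (h : pt m x y = pt m x' y') : x = x' ∧ y = y' := by
  obtain ⟨a, ha⟩ := (Projectivization.mk_eq_mk_iff' F _ _ _ _).1 h
  have h3 := congrFun ha 3
  have h2 := congrFun ha 2
  have h1 := congrFun ha 1
  simp [vPt] at h1 h2 h3
  subst h3
  simp at h1 h2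
  exact ⟨h2.symm, h1.symm⟩

theorem pt_ne_inf (x y : F) : pt m x y ≠ Cfsg.suzukiPointInfinity F := by
  intro h
  obtain ⟨a, ha⟩ := (Projectivization.mk_eq_mk_iff' F _ _ _ _).1 h
  have h3 := congrFun ha 3
  simp [vPt] at h3

/-- The ovoid is in bijection with `F × F` plus one point. -/
theorem card_ovoid [Fintype F] (m : ℕ) :
    Nat.card (Cfsg.suzukiOvoid F m) = Fintype.card F ^ 2 + 1 := by
  let φ : Option (F × F) → Cfsg.suzukiOvoid F m := fun o =>
    o.elim ⟨_, inf_mem⟩ (fun z => ⟨_, pt_mem z.1 z.2⟩)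
  have hb : Function.Bijective φ := by
    constructor
    · rintro (_ | z) (_ | z') h <;> simp [φ] at h
      · rfl
      · exact absurd h.symm (pt_ne_inf _ _)
      · exact absurd h (pt_ne_inf _ _)
      · obtain ⟨h1, h2⟩ := pt_inj h
        exact congrArg some (Prod.ext h1 h2)
    · rintro ⟨p, hp⟩
      rcases mem_ovoid.1 hp with rfl | ⟨x, y, rfl⟩
      · exact ⟨none, rfl⟩
      · exact ⟨some (x, y), rfl⟩
  rw [← Nat.card_congr (Equiv.ofBijective φ hb), Finite.card_option, Nat.card_prod,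
    Nat.card_eq_fintype_card]
  ring

theorem smul_mk (g : Matrix.SpecialLinearGroup (Fin 4) F) {v : Fin 4 → F} (hv : v ≠ 0)
    (h : (g : Matrix (Fin 4) (Fin 4) F) *ᵥ v ≠ 0) :
    g • Projectivization.mk F v hv = Projectivization.mk F ((g : Matrix (Fin 4) (Fin 4) F) *ᵥ v) h :=
  Projectivization.smul_mk g hv

theorem mulVec_ne_zero (g : Matrix.SpecialLinearGroup (Fin 4) F) {v : Fin 4 → F} (hv : v ≠ 0) :
    (g : Matrix (Fin 4) (Fin 4) F) *ᵥ v ≠ 0 := by
  intro h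
  have h1 : ((g⁻¹ * g : Matrix.SpecialLinearGroup (Fin 4) F) : Matrix (Fin 4) (Fin 4) F) *ᵥ v = 0 := by
    rw [Matrix.SpecialLinearGroup.coe_mul, ← Matrix.mulVec_mulVec, h, Matrix.mulVec_zero]
  rw [inv_mul_cancel, Matrix.SpecialLinearGroup.coe_one, Matrix.one_mulVec] at h1
  exact hv h1

theorem smul_mk_eq_of (g : Matrix.SpecialLinearGroup (Fin 4) F) {v w : Fin 4 → F} (hv : v ≠ 0)
    (hw : w ≠ 0) {c : F} (h : (g : Matrix (Fin 4) (Fin 4) F) *ᵥ v = c • w) :
    g • Projectivization.mk F v hv = Projectivization.mk F w hw := by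
  rw [smul_mk g hv (mulVec_ne_zero g hv), Projectivization.mk_eq_mk_iff']
  exact ⟨c, h.symm⟩

theorem smul_mk_eq_imp (g : Matrix.SpecialLinearGroup (Fin 4) F) {v w : Fin 4 → F} (hv : v ≠ 0)
    (hw : w ≠ 0) (h : g • Projectivization.mk F v hv = Projectivization.mk F w hw) :
    ∃ c : F, c ≠ 0 ∧ (g : Matrix (Fin 4) (Fin 4) F) *ᵥ v = c • w := by
  rw [smul_mk g hv (mulVec_ne_zero g hv), Projectivization.mk_eq_mk_iff'] at h
  obtain ⟨c, hc⟩ := h
  refine ⟨c, ?_, hc.symm⟩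
  rintro rfl
  exact mulVec_ne_zero g hv (by rw [← hc, zero_smul])

/-! ### The field -/

section FieldFacts

variable [Fintype F] (hF : Fintype.card F = 2 ^ (2 * m + 1))
include hF

theorem two_eq_zero : (2 : F) = 0 := by
  have h := Nat.cast_card_eq_zero F
  rw [hF, Nat.cast_pow] at h
  exact eq_zero_of_pow_eq_zero h

theorem charTwo : CharP F 2 :=
  (CharP.charP_iff_prime_eq_zero Nat.prime_two).2 (by exact_mod_cast two_eq_zero hF)

theorem add_self (x : F) : x + x = 0 := by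
  linear_combination x * two_eq_zero hF

theorem neg_eq (x : F) : -x = x := by
  linear_combination (-x) * two_eq_zero hF

theorem add_pow_sg (x y : F) :
    (x + y) ^ (2 ^ (m + 1)) = x ^ (2 ^ (m + 1)) + y ^ (2 ^ (m + 1)) := by
  have := charTwo hF
  have : Fact (Nat.Prime 2) := ⟨Nat.prime_two⟩
  exact add_pow_char_pow x y 2 (m + 1)

theorem sg_sg (x : F) : (x ^ (2 ^ (m + 1))) ^ (2 ^ (m + 1)) = x ^ 2 := by
  have h : 2 ^ (m + 1) * 2 ^ (m + 1) = Fintype.card F * 2 := by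
    rw [hF, ← pow_add, ← pow_succ]
    congr 1
    omega
  rw [← pow_mul, h, pow_mul, FiniteField.pow_card]

theorem sq_inj {a b : F} (h : a ^ 2 = b ^ 2) : a = b := by
  have h2 : (a - b) ^ 2 = 0 := by
    linear_combination h + (b ^ 2 - a * b) * two_eq_zero hF
  exact sub_eq_zero.1 (eq_zero_of_pow_eq_zero h2)

/-- The `σ + 1` power map is a bijection. -/
theorem sg_add_one_left_inv (b : F) :
    (b ^ (2 ^ (m + 1) - 1)) ^ (2 ^ (m + 1) + 1) = b ∧
    (b ^ (2 ^ (m + 1) + 1)) ^ (2 ^ (m + 1) - 1) = b := by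
  have hq : 2 ≤ Fintype.card F := Fintype.one_lt_card
  have h1 : 1 ≤ 2 ^ (m + 1) := Nat.one_le_two_pow
  have e : (2 ^ (m + 1) - 1) * (2 ^ (m + 1) + 1) = (Fintype.card F - 1) * 2 + 1 := by
    have h : 2 ^ (m + 1) * 2 ^ (m + 1) = Fintype.card F * 2 := by
      rw [hF, ← pow_add, ← pow_succ]
      congr 1
      omega
    obtain ⟨s, hs⟩ := Nat.exists_eq_add_of_le h1
    obtain ⟨k, hk⟩ := Nat.exists_eq_add_of_le hq
    rw [hs, hk] at h
    rw [hs, hk, show 2 + k - 1 = 1 + k from by omega, Nat.add_sub_cancel_left]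
    linarith
  have h : b ^ ((Fintype.card F - 1) * 2 + 1) = b := by
    rcases eq_or_ne b 0 with rfl | hb
    · exact zero_pow (by omega)
    · rw [pow_succ, pow_mul, FiniteField.pow_card_sub_one_eq_one b hb, one_pow, one_mul]
  constructor
  · rw [← pow_mul, e, h]
  · rw [← pow_mul, Nat.mul_comm, e, h]

theorem eq_one_of_pow_sg_add_one {b : F} (h : b ^ (2 ^ (m + 1) + 1) = 1) : b = 1 := by
  rw [← (sg_add_one_left_inv hF b).2, h, one_pow]

/-- The basic identity for translations. -/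
theorem fv_add (x y a b : F) :
    fv m (x + a) (y + a ^ (2 ^ (m + 1)) * x + b) =
      fv m x y + a * y + (b + a ^ (2 ^ (m + 1) + 1)) * x + fv m a b := by
  simp only [fv, pow_add (x + a) (2 ^ (m + 1)), pow_add x (2 ^ (m + 1)),
    pow_add a (2 ^ (m + 1)), add_pow_sg hF, mul_pow, sg_sg hF, pow_one]
  linear_combination
    (a ^ 2 ^ (m + 1) * x ^ 2 + x * a * x ^ 2 ^ (m + 1) + x ^ 2 ^ (m + 1) * a ^ 2
      + x * a * a ^ 2 ^ (m + 1)) * two_eq_zero hF

/-- The key identity behind the inversion. -/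
theorem fv_key (x y : F) :
    fv m x y ^ (2 ^ (m + 1)) * fv m x y =
      x * y * fv m x y ^ (2 ^ (m + 1)) + y ^ (2 ^ (m + 1)) * y ^ 2
        + x ^ (2 ^ (m + 1)) * fv m x y ^ 2 := by
  have hsq : (x ^ 2) ^ (2 ^ (m + 1)) = (x ^ (2 ^ (m + 1))) ^ 2 := by
    rw [← pow_mul, ← pow_mul, Nat.mul_comm]
  simp only [fv, pow_add x (2 ^ (m + 1)), add_pow_sg hF, mul_pow, sg_sg hF, hsq]
  linear_combination
    -((x ^ 2 ^ (m + 1)) ^ 2 * x ^ 3 * y + x ^ 2 ^ (m + 1) * x * y * y ^ 2 ^ (m + 1))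
      * two_eq_zero hF

theorem fv_eq_zero {x y : F} (h : fv m x y = 0) : x = 0 ∧ y = 0 := by
  have h1 : (2 : ℕ) ^ (m + 1) ≠ 0 := by positivity
  have hk := fv_key hF x y
  rw [h, zero_pow h1] at hk
  simp at hk
  subst hk
  refine ⟨?_, rfl⟩
  simp [fv, zero_pow h1] at h
  exact h

theorem fv_inv {x y : F} (h : fv m x y ≠ 0) :
    fv m (y / fv m x y) (x / fv m x y) = 1 / fv m x y := by
  have hk := fv_key hF x y
  have hP : fv m x y ^ (2 ^ (m + 1)) ≠ 0 := pow_ne_zero _ h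
  generalize hf : fv m x y = f at *
  simp only [fv, div_pow, pow_add y (2 ^ (m + 1)), pow_add f (2 ^ (m + 1))]
  generalize f ^ 2 ^ (m + 1) = P at *
  generalize y ^ 2 ^ (m + 1) = Y at *
  generalize x ^ 2 ^ (m + 1) = X at *
  have e : y / f * (x / f) + Y * y ^ 2 / (P * f ^ 2) + X / P =
      (x * y * P + Y * y ^ 2 + X * f ^ 2) / (P * f ^ 2) := by
    field_simp
  rw [e, ← hk]
  field_simp

end FieldFacts

/-! ### The elements -/

/-- Translation matrix. -/
def tMat (m : ℕ) (a b : F) : Matrix (Fin 4) (Fin 4) F :=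
  !![1, a, b + a ^ (2 ^ (m + 1) + 1), fv m a b;
     0, 1, a ^ (2 ^ (m + 1)), b;
     0, 0, 1, a;
     0, 0, 0, 1]

theorem det_tMat (a b : F) : (tMat m a b).det = 1 := by
  rw [Matrix.det_of_upperTriangular]
  · simp [tMat, Fin.prod_univ_four]
  · intro i j h
    fin_cases i <;> fin_cases j <;> simp [tMat] at h ⊢

/-- Translation element. -/
def tM (m : ℕ) (a b : F) : Matrix.SpecialLinearGroup (Fin 4) F := ⟨tMat m a b, det_tMat a b⟩

/-- Antidiagonal involution. -/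
def wM (F : Type*) [Field F] : Matrix.SpecialLinearGroup (Fin 4) F :=
  ⟨!![0, 0, 0, 1; 0, 0, 1, 0; 0, 1, 0, 0; 1, 0, 0, 0], by
    simp [Matrix.det_succ_row_zero, Fin.sum_univ_succ, Fin.succAbove]
    norm_num⟩

/-- Torus element. -/
def dM (m : ℕ) (k : Fˣ) : Matrix.SpecialLinearGroup (Fin 4) F :=
  ⟨Matrix.diagonal ![(k : F) ^ (2 ^ m + 1), (k : F) ^ (2 ^ m), ((k : F) ^ (2 ^ m))⁻¹,
      ((k : F) ^ (2 ^ m + 1))⁻¹], by
    rw [Matrix.det_diagonal, Fin.prod_univ_four]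
    have h1 : (k : F) ^ (2 ^ m) ≠ 0 := pow_ne_zero _ k.ne_zero
    have h2 : (k : F) ^ (2 ^ m + 1) ≠ 0 := pow_ne_zero _ k.ne_zero
    simp
    try field_simp⟩

theorem tMat_mulVec (a b : F) (v : Fin 4 → F) :
    tMat m a b *ᵥ v = ![v 0 + a * v 1 + (b + a ^ (2 ^ (m + 1) + 1)) * v 2 + fv m a b * v 3,
      v 1 + a ^ (2 ^ (m + 1)) * v 2 + b * v 3, v 2 + a * v 3, v 3] := by
  funext i
  fin_cases i <;> simp [tMat, Matrix.mulVec, dotProduct, Fin.sum_univ_four]

theorem wM_mulVec (v : Fin 4 → F) :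
    (wM F : Matrix (Fin 4) (Fin 4) F) *ᵥ v = ![v 3, v 2, v 1, v 0] := by
  funext i
  fin_cases i <;> simp [wM, Matrix.mulVec, dotProduct, Fin.sum_univ_four]

theorem dM_mulVec (k : Fˣ) (v : Fin 4 → F) :
    (dM m k : Matrix (Fin 4) (Fin 4) F) *ᵥ v =
      ![(k : F) ^ (2 ^ m + 1) * v 0, (k : F) ^ (2 ^ m) * v 1,
        ((k : F) ^ (2 ^ m))⁻¹ * v 2, ((k : F) ^ (2 ^ m + 1))⁻¹ * v 3] := by
  funext i
  fin_cases i <;> simp [dM, Matrix.mulVec_diagonal]

theorem tM_inf (a b : F) :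
    tM m a b • Cfsg.suzukiPointInfinity F = Cfsg.suzukiPointInfinity F := by
  refine smul_mk_eq_of (c := 1) _ _ _ ?_
  rw [show (tM m a b : Matrix (Fin 4) (Fin 4) F) = tMat m a b from rfl, tMat_mulVec]
  simp

theorem dM_inf (k : Fˣ) :
    dM m k • Cfsg.suzukiPointInfinity F = Cfsg.suzukiPointInfinity F := by
  refine smul_mk_eq_of (c := (k : F) ^ (2 ^ m + 1)) _ _ _ ?_
  rw [dM_mulVec]
  simp

theorem wM_inf : wM F • Cfsg.suzukiPointInfinity F = pt m 0 0 := by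
  refine smul_mk_eq_of (c := 1) _ _ _ ?_
  rw [wM_mulVec, vPt_zero]
  simp

theorem wM_zero : wM F • pt m (0 : F) 0 = Cfsg.suzukiPointInfinity F := by
  refine smul_mk_eq_of (c := 1) _ _ _ ?_
  rw [wM_mulVec, vPt_zero]
  simp

theorem wM_mul_self : wM F * wM F = 1 := by
  apply Subtype.ext
  rw [Matrix.SpecialLinearGroup.coe_mul, Matrix.SpecialLinearGroup.coe_one]
  ext i j
  fin_cases i <;> fin_cases j <;> simp [wM, Matrix.mul_apply, Fin.sum_univ_four]

theorem dM_mul (k l : Fˣ) : dM m (k * l) = dM m k * dM m l := by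
  apply Subtype.ext
  rw [Matrix.SpecialLinearGroup.coe_mul]
  simp only [dM, Matrix.diagonal_mul_diagonal]
  congr 1
  funext i
  fin_cases i <;> simp [mul_pow, mul_comm]

theorem dM_injective : Function.Injective (dM (F := F) m) := by
  intro k l h
  have h0 := congrArg (fun g : Matrix.SpecialLinearGroup (Fin 4) F =>
    (g : Matrix (Fin 4) (Fin 4) F) 0 0) h
  have h1 := congrArg (fun g : Matrix.SpecialLinearGroup (Fin 4) F =>
    (g : Matrix (Fin 4) (Fin 4) F) 1 1) h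
  simp [dM, pow_succ, h1] at h0 h1
  rw [h1] at h0
  exact Units.ext (mul_left_cancel₀ (pow_ne_zero _ l.ne_zero) h0)

section Membership

variable [Fintype F] (hF : Fintype.card F = 2 ^ (2 * m + 1))
include hF

omit [Fintype F] hF in
theorem sg_eq_sq (k : F) : k ^ (2 ^ (m + 1)) = (k ^ (2 ^ m)) ^ 2 := by
  rw [← pow_mul, pow_succ]

theorem tM_pt (a b x y : F) :
    tM m a b • pt m x y = pt m (x + a) (y + a ^ (2 ^ (m + 1)) * x + b) := by
  refine smul_mk_eq_of (c := 1) _ _ _ ?_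
  rw [show (tM m a b : Matrix (Fin 4) (Fin 4) F) = tMat m a b from rfl, tMat_mulVec, one_smul]
  simp [vPt, fv_add hF]

theorem tM_mul (a b c d : F) :
    tM m a b * tM m c d = tM m (a + c) (b + d + a ^ (2 ^ (m + 1)) * c) := by
  have h2 := two_eq_zero hF
  have hf := fv_add hF c d a b
  apply Subtype.ext
  rw [Matrix.SpecialLinearGroup.coe_mul]
  show tMat m a b * tMat m c d = tMat m _ _
  ext i j
  fin_cases i <;> fin_cases j <;>
    simp [tMat, Matrix.mul_apply, Fin.sum_univ_four]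
  · ring
  · simp only [pow_add _ (2 ^ (m + 1)) 1, pow_one, add_pow_sg hF]
    linear_combination -(a ^ (2 ^ (m + 1)) * c) * h2
  · rw [show b + d + a ^ (2 ^ (m + 1)) * c = d + a ^ (2 ^ (m + 1)) * c + b by ring, add_comm a c, hf]
    try ring
  · rw [add_pow_sg hF]
    try ring
  · ring
  · ring

theorem dM_pt (k : Fˣ) (x y : F) :
    dM m k • pt m x y = pt m ((k : F) * x) ((k : F) ^ (2 ^ (m + 1) + 1) * y) := by
  refine smul_mk_eq_of (c := ((k : F) ^ (2 ^ m + 1))⁻¹) _ _ _ ?_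
  have hk := k.ne_zero
  have hr : (k : F) ^ (2 ^ m) ≠ 0 := pow_ne_zero _ hk
  have hfv : fv m ((k : F) * x) ((k : F) ^ (2 ^ (m + 1) + 1) * y) =
      (k : F) ^ (2 ^ (m + 1) + 2) * fv m x y := by
    rw [fv, fv, mul_pow, mul_pow, pow_add (k : F) (2 ^ (m + 1)) 1, pow_one, mul_pow, sg_sg hF,
      pow_add (k : F) (2 ^ (m + 1)) 2]
    ring
  rw [dM_mulVec]
  simp only [vPt, hfv, Matrix.smul_cons, smul_eq_mul, Matrix.smul_empty]
  simp only [Matrix.cons_val]
  rw [pow_add (k : F) (2 ^ (m + 1)) 2, pow_add (k : F) (2 ^ (m + 1)) 1, sg_eq_sq, pow_succ]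
  funext i
  fin_cases i <;> simp <;> field_simp

theorem wM_pt {x y : F} (h : fv m x y ≠ 0) :
    wM F • pt m x y = pt m (y / fv m x y) (x / fv m x y) := by
  refine smul_mk_eq_of (c := fv m x y) _ _ _ ?_
  rw [wM_mulVec]
  funext i
  fin_cases i <;> simp [vPt, fv_inv hF h] <;> field_simp

theorem mem_Sz_of {g : Matrix.SpecialLinearGroup (Fin 4) F}
    (h : ∀ p ∈ Cfsg.suzukiOvoid F m, g • p ∈ Cfsg.suzukiOvoid F m) : g ∈ Cfsg.Sz F m := by
  refine (MulAction.mem_stabilizer_set_iff_smul_set_subset (Set.toFinite _)).2 ?_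
  rintro _ ⟨p, hp, rfl⟩
  exact h p hp

theorem tM_mem (a b : F) : tM m a b ∈ Cfsg.Sz F m := by
  refine mem_Sz_of hF fun p hp => ?_
  rcases mem_ovoid.1 hp with rfl | ⟨x, y, rfl⟩
  · rw [tM_inf]; exact inf_mem
  · rw [tM_pt hF]; exact pt_mem _ _

theorem dM_mem (k : Fˣ) : dM m k ∈ Cfsg.Sz F m := by
  refine mem_Sz_of hF fun p hp => ?_
  rcases mem_ovoid.1 hp with rfl | ⟨x, y, rfl⟩
  · rw [dM_inf]; exact inf_mem
  · rw [dM_pt hF]; exact pt_mem _ _

theorem wM_mem : wM F ∈ Cfsg.Sz F m := by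
  refine mem_Sz_of hF fun p hp => ?_
  rcases mem_ovoid.1 hp with rfl | ⟨x, y, rfl⟩
  · rw [wM_inf (m := m)]; exact pt_mem _ _
  · by_cases h : fv m x y = 0
    · obtain ⟨rfl, rfl⟩ := fv_eq_zero hF h
      rw [wM_zero]; exact inf_mem
    · rw [wM_pt hF h]; exact pt_mem _ _

theorem smul_mem {g : Matrix.SpecialLinearGroup (Fin 4) F} (hg : g ∈ Cfsg.Sz F m)
    {p : Projectivization F (Fin 4 → F)} (hp : p ∈ Cfsg.suzukiOvoid F m) :
    g • p ∈ Cfsg.suzukiOvoid F m :=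
  (MulAction.mem_stabilizer_set.1 hg p).2 hp

theorem coeff_zero (hm : 1 ≤ m) {c₁ c₂ c₃ : F}
    (h : ∀ t : F, c₁ * t ^ 2 + c₂ * t ^ (2 ^ (m + 1)) + c₃ * t ^ (2 ^ (m + 1) + 2) = 0) :
    c₁ = 0 ∧ c₂ = 0 ∧ c₃ = 0 := by
  classical
  obtain ⟨s, hs, hq⟩ : ∃ s, 2 ^ (m + 1) = s + 4 ∧ s + 6 < Fintype.card F := by
    obtain ⟨k, rfl⟩ := Nat.exists_eq_add_of_le hm
    refine ⟨2 ^ (1 + k + 1) - 4, ?_, ?_⟩
    · have h4 : 4 ≤ 2 ^ (1 + k + 1) := by
        calc (4 : ℕ) = 2 ^ 2 := by norm_num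
          _ ≤ 2 ^ (1 + k + 1) := Nat.pow_le_pow_right (by norm_num) (by omega)
      omega
    · have h4 : 4 ≤ 2 ^ (1 + k + 1) := by
        calc (4 : ℕ) = 2 ^ 2 := by norm_num
          _ ≤ 2 ^ (1 + k + 1) := Nat.pow_le_pow_right (by norm_num) (by omega)
      have h3 : 2 ^ (1 + k + 1) * 2 ≤ 2 ^ (2 * (1 + k) + 1) := by
        rw [← pow_succ]
        exact Nat.pow_le_pow_right (by norm_num) (by omega)
      omega
  rw [hs] at h
  let P : Polynomial F := Polynomial.monomial 2 c₁ + Polynomial.monomial (s + 4) c₂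
    + Polynomial.monomial (s + 4 + 2) c₃
  have hP : P = 0 := by
    refine Polynomial.eq_zero_of_natDegree_lt_card_of_eval_eq_zero' P Finset.univ
      (fun t _ => by simpa [P, Polynomial.eval_monomial] using h t) ?_
    have hd : P.natDegree ≤ s + 6 := by
      refine Polynomial.natDegree_add_le_of_degree_le (Polynomial.natDegree_add_le_of_degree_le ?_ ?_) ?_ <;>
        exact (Polynomial.natDegree_monomial_le _).trans (by omega)
    rw [Finset.card_univ]
    omega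
  refine ⟨?_, ?_, ?_⟩
  · have := congrArg (fun p : Polynomial F => p.coeff 2) hP
    simpa [P, Polynomial.coeff_monomial] using this
  · have := congrArg (fun p : Polynomial F => p.coeff (s + 4)) hP
    simpa [P, Polynomial.coeff_monomial] using this
  · have := congrArg (fun p : Polynomial F => p.coeff (s + 4 + 2)) hP
    simpa [P, Polynomial.coeff_monomial] using this

/-- An element fixing the point at infinity has last row `(0, 0, 0, δ)`. -/
theorem last_row {g : Matrix.SpecialLinearGroup (Fin 4) F} (hg : g ∈ Cfsg.Sz F m)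
    (h0 : g • Cfsg.suzukiPointInfinity F = Cfsg.suzukiPointInfinity F) :
    g 1 0 = 0 ∧ g 2 0 = 0 ∧ g 3 0 = 0 ∧ g 3 1 = 0 ∧ g 3 2 = 0 := by
  obtain ⟨c, _, hc⟩ := smul_mk_eq_imp g _ _ h0
  have e1 : g 1 0 = 0 := by simpa [Matrix.mulVec, dotProduct, Fin.sum_univ_four] using congrFun hc 1
  have e2 : g 2 0 = 0 := by simpa [Matrix.mulVec, dotProduct, Fin.sum_univ_four] using congrFun hc 2
  have e3 : g 3 0 = 0 := by simpa [Matrix.mulVec, dotProduct, Fin.sum_univ_four] using congrFun hc 3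
  have hne : ∀ x y : F, g 3 1 * y + g 3 2 * x + g 3 3 ≠ 0 := by
    intro x y
    rcases mem_ovoid.1 (smul_mem hF hg (pt_mem x y)) with h | ⟨x', y', h⟩
    · exact absurd (smul_left_cancel g (h.trans h0.symm)) (pt_ne_inf x y)
    · obtain ⟨d, hd, he⟩ := smul_mk_eq_imp g _ _ h
      have := congrFun he 3
      simp [Matrix.mulVec, dotProduct, Fin.sum_univ_four, vPt, e3] at this
      rw [this]
      exact hd
  refine ⟨e1, e2, e3, ?_, ?_⟩
  · by_contra h
    exact hne 0 (-(g 3 3) / g 3 1) (by field_simp; ring)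
  · by_contra h
    exact hne (-(g 3 3) / g 3 2) 0 (by field_simp; ring)

omit [Fintype F] hF in
theorem wM_conj_apply (g : Matrix.SpecialLinearGroup (Fin 4) F) :
    (wM F * g * wM F) 3 1 = g 0 2 ∧ (wM F * g * wM F) 3 2 = g 0 1 := by
  rw [Matrix.SpecialLinearGroup.coe_mul, Matrix.SpecialLinearGroup.coe_mul]
  constructor <;> simp [wM, Matrix.mul_apply, Matrix.vecMul, dotProduct, Fin.sum_univ_four]

/-- The stabiliser of two points consists of torus elements. -/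
theorem two_point (hm : 1 ≤ m) {g : Matrix.SpecialLinearGroup (Fin 4) F}
    (hg : g ∈ Cfsg.Sz F m)
    (h0 : g • Cfsg.suzukiPointInfinity F = Cfsg.suzukiPointInfinity F)
    (h1 : g • pt m (0 : F) 0 = pt m 0 0) : ∃ k : Fˣ, g = dM m k := by
  obtain ⟨g10, g20, g30, g31, g32⟩ := last_row hF hg h0
  have hg' : wM F * g * wM F ∈ Cfsg.Sz F m :=
    Subgroup.mul_mem _ (Subgroup.mul_mem _ (wM_mem hF) hg) (wM_mem hF)
  have hfix : (wM F * g * wM F) • Cfsg.suzukiPointInfinity F = Cfsg.suzukiPointInfinity F := by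
    rw [mul_smul, mul_smul, wM_inf (m := m), h1, wM_zero]
  obtain ⟨-, -, -, g02, g01⟩ := last_row hF hg' hfix
  rw [(wM_conj_apply g).1] at g02
  rw [(wM_conj_apply g).2] at g01
  obtain ⟨c, -, hc⟩ := smul_mk_eq_imp g _ _ h1
  rw [vPt_zero] at hc
  have g03 : g 0 3 = 0 := by simpa [Matrix.mulVec, dotProduct, Fin.sum_univ_four] using congrFun hc 0
  have g13 : g 1 3 = 0 := by simpa [Matrix.mulVec, dotProduct, Fin.sum_univ_four] using congrFun hc 1
  have g23 : g 2 3 = 0 := by simpa [Matrix.mulVec, dotProduct, Fin.sum_univ_four] using congrFun hc 2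
  have himg : ∀ x y : F, g 3 3 ≠ 0 ∧ g 0 0 / g 3 3 * fv m x y =
      fv m (g 2 1 / g 3 3 * y + g 2 2 / g 3 3 * x) (g 1 1 / g 3 3 * y + g 1 2 / g 3 3 * x) := by
    intro x y
    rcases mem_ovoid.1 (smul_mem hF hg (pt_mem x y)) with h | ⟨x', y', h⟩
    · exact absurd (smul_left_cancel g (h.trans h0.symm)) (pt_ne_inf x y)
    · obtain ⟨d, hd, he⟩ := smul_mk_eq_imp g _ _ h
      have i0 := congrFun he 0
      have i1 := congrFun he 1
      have i2 := congrFun he 2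
      have i3 := congrFun he 3
      simp [Matrix.mulVec, dotProduct, Fin.sum_univ_four, vPt, g10, g20, g30, g31, g32, g01, g02,
        g03, g13, g23] at i0 i1 i2 i3
      rw [i3]
      refine ⟨hd, ?_⟩
      have ex : x' = g 2 1 / d * y + g 2 2 / d * x := by
        field_simp; linear_combination -i2
      have ey : y' = g 1 1 / d * y + g 1 2 / d * x := by
        field_simp; linear_combination -i1
      rw [← ex, ← ey]
      field_simp
      linear_combination i0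
  have hd : g 3 3 ≠ 0 := (himg 0 0).1
  obtain ⟨L, hL⟩ : ∃ L, L = g 0 0 / g 3 3 := ⟨_, rfl⟩
  obtain ⟨A, hA⟩ : ∃ A, A = g 1 1 / g 3 3 := ⟨_, rfl⟩
  obtain ⟨B, hB⟩ : ∃ B, B = g 1 2 / g 3 3 := ⟨_, rfl⟩
  obtain ⟨C, hC⟩ : ∃ C, C = g 2 1 / g 3 3 := ⟨_, rfl⟩
  obtain ⟨D, hD⟩ : ∃ D, D = g 2 2 / g 3 3 := ⟨_, rfl⟩
  rw [← hL, ← hA, ← hB, ← hC, ← hD] at himg
  have hs0 : (2 : ℕ) ^ (m + 1) ≠ 0 := by positivity
  have hy : C * A = 0 ∧ A ^ 2 ^ (m + 1) - L = 0 ∧ C ^ (2 ^ (m + 1) + 2) = 0 := by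
    refine coeff_zero hF hm fun t => ?_
    have h := (himg 0 t).2
    simp [fv, mul_pow, zero_pow hs0] at h
    linear_combination -h
  have hx : D * B = 0 ∧ B ^ 2 ^ (m + 1) = 0 ∧ D ^ (2 ^ (m + 1) + 2) - L = 0 := by
    refine coeff_zero hF hm fun t => ?_
    have h := (himg t 0).2
    simp [fv, mul_pow, zero_pow hs0] at h
    linear_combination -h
  have hB0 : B = 0 := eq_zero_of_pow_eq_zero hx.2.1
  have hC0 : C = 0 := eq_zero_of_pow_eq_zero hy.2.2
  have hAL : A ^ 2 ^ (m + 1) = L := sub_eq_zero.1 hy.2.1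
  have hDL : D ^ (2 ^ (m + 1) + 2) = L := sub_eq_zero.1 hx.2.2
  have hLAD : L = A * D := by
    have h := (himg 1 1).2
    simp [fv, hB0, hC0, hAL, hDL] at h
    linear_combination h
  have g12 : g 1 2 = 0 := by rw [hB] at hB0; exact (div_eq_zero_iff.1 hB0).resolve_right hd
  have g21 : g 2 1 = 0 := by rw [hC] at hC0; exact (div_eq_zero_iff.1 hC0).resolve_right hd
  have hdiag : (g : Matrix (Fin 4) (Fin 4) F) = Matrix.diagonal ![g 0 0, g 1 1, g 2 2, g 3 3] := by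
    ext i j
    fin_cases i <;> fin_cases j <;>
      simp [g10, g20, g30, g31, g32, g01, g02, g03, g13, g23, g12, g21]
  have hdet : g 0 0 * g 1 1 * g 2 2 * g 3 3 = 1 := by
    have := g.2
    rw [hdiag, Matrix.det_diagonal, Fin.prod_univ_four] at this
    simpa using this
  have e0 : g 0 0 = L * g 3 3 := by rw [hL]; field_simp
  have e1 : g 1 1 = A * g 3 3 := by rw [hA]; field_simp
  have e2 : g 2 2 = D * g 3 3 := by rw [hD]; field_simp
  have hD0 : D ≠ 0 := by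
    rintro rfl
    rw [e2] at hdet
    simp at hdet
  let r : F := D ^ 2 ^ m
  have hsr : D ^ 2 ^ (m + 1) = r ^ 2 := sg_eq_sq D
  have hA' : A = r ^ 2 * D := by
    have h : A * D = r ^ 2 * D * D := by
      rw [← hLAD, ← hDL, pow_add, hsr]
      ring
    exact mul_right_cancel₀ hD0 h
  have hL' : L = r ^ 2 * D ^ 2 := by rw [← hDL, pow_add, hsr]
  have hδ : g 3 3 * (r * D) = 1 := by
    apply sq_inj hF
    apply sq_inj hF
    rw [e0, e1, e2, hA', hL'] at hdet
    linear_combination hdet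
  have hr : r ≠ 0 := pow_ne_zero _ hD0
  have hδ' : g 3 3 = (r * D)⁻¹ := eq_inv_of_mul_eq_one_left hδ
  refine ⟨Units.mk0 D hD0, Subtype.ext ?_⟩
  rw [hdiag]
  simp only [dM, Units.val_mk0, pow_succ]
  congr 1
  rw [e0, e1, e2, hA', hL', hδ']
  funext i
  fin_cases i <;> simp [r] <;> field_simp

end Membership

end Cfsg.Agent.Lie.Suzuki
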