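import Cfsg.Agent.Lib.Lie.SuzukiPartition
import Cfsg.Agent.Lib.Char.TIFamilyColumn
import Cfsg.Agent.Lib.Char.Exceptional
import Cfsg.Agent.Lib.Perm.PermChar
import Cfsg.Agent.Lib.Lead.SuzukiDegree
import Cfsg.Agent.Lib.Lie.SuzukiSp4
import Cfsg.Prelude.Def_DegreeGraph
import Mathlib

/-!
# The irreducible character degrees of the Suzuki groups

The degrees are `1, q², q² + 1, (q - 1)(q + r + 1), (q - 1)(q - r + 1), 2 ^ m (q - 1)`.
-/

set_option autoImplicit false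
set_option linter.unusedSectionVars false
set_option linter.style.haveILetI false

namespace Cfsg.Agent.Lie.Suzuki.Degrees

open MulAction Cfsg Cfsg.Agent.Char Cfsg.Agent.Lie.Suzuki
open scoped ComplexConjugate

variable {F : Type*} [Field F] {m : ℕ} [Fintype F] (hF : Fintype.card F = 2 ^ (2 * m + 1)) (hm : 1 ≤ m)

local notation "𝔾" => Cfsg.Sz F m
local notation "𝔒" => Cfsg.suzukiOvoid F m

/-- The column of squared norms. -/
theorem column {H : Type*} [Group H] [Fintype H] (k : H) :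
    ∑ χ : IrrCharacter H, Complex.normSq ((χ : H → ℂ) k) =
      (Nat.card (Subgroup.centralizer ({k} : Set H)) : ℝ) := by
  classical
  have h := second_orth (G := H) k k
  rw [if_pos (IsConj.refl k)] at h
  have h3 : (Nat.card H : ℂ) / (Nat.card {x : H // IsConj k x} : ℂ) =
      (Nat.card (Subgroup.centralizer ({k} : Set H)) : ℂ) := by
    rw [div_eq_iff (Nat.cast_ne_zero.2 (card_conjClass_ne_zero k)),
      ← Nat.cast_mul, mul_comm, card_conjClass_mul_centralizer]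
  rw [h3] at h
  simp only [Complex.mul_conj] at h
  exact_mod_cast h

/-- A column of the family in norms. -/
theorem family_normSq {H : Type*} [Group H] {S : Finset (IrrCharacter H)} {k : H} {a e : ℕ} {ε c : ℤ}
    (h : ∑ χ ∈ S, (χ : H → ℂ) k * conj ((χ : H → ℂ) k) = (a : ℂ) - e - 2 * ε * c + (S.card : ℂ) * c * c) :
    ∑ χ ∈ S, Complex.normSq ((χ : H → ℂ) k) = (a : ℝ) - e - 2 * ε * c + (S.card : ℝ) * c * c := by
  simp only [Complex.mul_conj] at h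
  exact_mod_cast h

theorem const_eq_zero {n : ℕ} {ε c : ℤ} {lim : ℕ} (hε : ε = 1 ∨ ε = -1)
    (hn : 2 + lim < n) (h : (n : ℝ) * c * c - 2 * ε * c ≤ lim) : c = 0 := by
  have h' : (n : ℤ) * c * c - 2 * ε * c ≤ lim := by exact_mod_cast h
  by_contra hc
  have h1 : 1 ≤ c * c := mul_self_pos.2 hc
  have h2 : 2 * ε * c ≤ 2 * (c * c) := by
    rcases hε with rfl | rfl <;> nlinarith [sq_nonneg (c - 1), sq_nonneg (c + 1)]
  have h3 : ((n : ℤ) - 2) * (c * c) ≤ lim := by linarith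
  have h4 : ((n : ℤ) - 2) * 1 ≤ ((n : ℤ) - 2) * (c * c) :=
    mul_le_mul_of_nonneg_left h1 (by omega)
  omega

/-- The arithmetic of the degrees when `q = 8`. -/
theorem eight_counts {n2 n4 n5 n8 n10 n13 : ℕ} (h4 : n4 = 0) (hT : n2 + n4 + n8 + n13 = 3)
    (hS : 4 * n2 + 16 * n4 + 25 * n5 + 64 * n8 + 100 * n10 + 169 * n13 = 252) :
    n2 = 2 ∧ n4 = 0 ∧ n5 = 3 ∧ n8 = 0 ∧ n10 = 0 ∧ n13 = 1 := by
  have a1 : n13 ≤ 1 := by omega
  have a2 : n8 ≤ 3 := by omega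
  have a3 : n10 ≤ 2 := by omega
  have a4 : n2 ≤ 3 := by omega
  interval_cases n13 <;> interval_cases n8 <;> interval_cases n10 <;> interval_cases n2 <;> omega

/-- The possible degrees and values at an element of order five when `q = 8`. -/
theorem eight_member {k : ℕ} {z : ℤ} (hd : k ∣ 4160) (h2 : 2 ≤ k) (h16 : k < 16)
    (hl : -1 ≤ z) (hu : z ≤ 1) (h5 : (5 : ℤ) ∣ ((7 * k : ℕ) : ℤ) + 4 * z) :
    k ∈ ({2, 4, 5, 8, 10, 13} : Finset ℕ) ∧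
      z * z = (if k = 2 ∨ k = 4 ∨ k = 8 ∨ k = 13 then 1 else 0) ∧ k ≠ 4 := by
  interval_cases k <;> interval_cases z <;> first | omega | decide

include hF hm

/-- The Steinberg character. -/
theorem steinberg [Fintype 𝔾] : ∃ St : IrrCharacter 𝔾,
    ∀ g : 𝔾, (St : 𝔾 → ℂ) g = (Nat.card (fixedBy 𝔒 g) : ℂ) - 1 := by
  classical
  haveI : Fintype 𝔒 := Fintype.ofFinite _
  haveI := sz_pretransitive (m := m) hF
  obtain ⟨a, b, hab⟩ := Partition.exists_ne_points hF hm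
  set P := Cfsg.Agent.Perm.PermChar.permChar 𝔾 𝔒 with hP
  have hquot : Nat.card (orbitRel.Quotient (stabilizer 𝔾 a) 𝔒) = 2 := by
    rw [Nat.card_eq_two_iff]
    refine ⟨Quotient.mk'' a, Quotient.mk'' b, fun h => ?_, ?_⟩
    · obtain ⟨s, hs⟩ := Quotient.exact' h
      have h2 : ((s : 𝔾) : 𝔾) • b = b → False := fun h3 => hab (hs.symm.trans h3)
      have hs' : (s : 𝔾) • b = a := hs
      have h4 : (s : 𝔾) • a = a := s.2
      exact hab (smul_left_cancel (s : 𝔾) (h4.trans hs'.symm))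
    · refine Set.eq_univ_of_forall fun x => ?_
      induction x using Quotient.inductionOn' with
      | h x =>
        by_cases hxa : x = a
        · rw [hxa]; exact Set.mem_insert _ _
        refine Set.mem_insert_of_mem _ (Quotient.eq''.2 ?_)
        obtain ⟨g, ga, gb⟩ := MulAction.is_two_pretransitive_iff.1 (sz_two_pretransitive (m := m) hF)
          hab (Ne.symm hxa)
        exact ⟨⟨g, ga⟩, gb⟩
  have hnorm : classInner P P = 2 := by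
    rw [hP, Cfsg.Agent.Perm.PermChar.inner_self a, hquot, Nat.cast_ofNat]
  obtain ⟨n, hn⟩ := exists_decomposition (Cfsg.Agent.Perm.PermChar.isCharacter_permChar (G := 𝔾) (Ω := 𝔒))
  set one : IrrCharacter 𝔾 := ⟨fun _ => 1, isIrrCharacter_one⟩
  have hone : n one = 1 := by
    have h := Cfsg.Agent.Perm.PermChar.inner_one (G := 𝔾) a
    rw [decomposition_coeff n hn one] at h
    exact_mod_cast h
  have hsq : ∑ χ, (n χ : ℤ) * n χ = 2 := by
    have h := classInner_int_combination (θ := P) (z := fun χ => (n χ : ℤ)) (by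
      rw [hP, hn]
      refine Finset.sum_congr rfl fun χ _ => ?_
      rw [Int.cast_natCast, Nat.cast_smul_eq_nsmul])
    rw [hnorm] at h
    exact_mod_cast h.symm
  rw [← Finset.add_sum_erase _ _ (Finset.mem_univ one), hone] at hsq
  obtain ⟨St, hSt, hSt0⟩ : ∃ χ ∈ Finset.univ.erase one, (n χ : ℤ) * n χ ≠ 0 := by
    refine Finset.exists_ne_zero_of_sum_ne_zero ?_
    push_cast at hsq ⊢
    omega
  have h1 : ∑ χ ∈ Finset.univ.erase one, n χ * n χ = 1 := by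
    have : ((∑ χ ∈ Finset.univ.erase one, n χ * n χ : ℕ) : ℤ) = 1 := by
      push_cast at hsq ⊢
      omega
    exact_mod_cast this
  have hSt1 : n St = 1 := by
    have hle := Finset.single_le_sum (f := fun χ => n χ * n χ) (fun χ _ => Nat.zero_le _) hSt
    rw [h1] at hle
    have hne : n St * n St ≠ 0 := by exact_mod_cast hSt0
    exact Nat.eq_one_of_mul_eq_one_left (show n St * n St = 1 by omega)
  have hz : ∀ χ, χ ≠ one → χ ≠ St → n χ = 0 := by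
    intro χ hχ hχ'
    rw [← Finset.add_sum_erase _ _ hSt, hSt1] at h1
    have h2 : ∑ ψ ∈ (Finset.univ.erase one).erase St, n ψ * n ψ = 0 := by omega
    have h3 := Finset.sum_eq_zero_iff.1 h2 χ
      (Finset.mem_erase.2 ⟨hχ', Finset.mem_erase.2 ⟨hχ, Finset.mem_univ _⟩⟩)
    exact mul_self_eq_zero.1 h3
  refine ⟨St, fun g => ?_⟩
  have h := congrFun hn g
  rw [Finset.sum_apply, ← Finset.add_sum_erase _ _ (Finset.mem_univ one),
    ← Finset.add_sum_erase _ _ hSt, Finset.sum_eq_zero fun χ hχ => ?_] at h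
  · rw [hone, hSt1, one_smul, one_smul, add_zero] at h
    show (St : 𝔾 → ℂ) g = P g - 1
    rw [hP, h]
    show _ = (1 : ℂ) + _ - 1
    ring
  · simp only [Finset.mem_erase, Finset.mem_univ, and_true] at hχ
    rw [hz χ hχ.2 hχ.1, zero_smul, Pi.zero_apply]

/-- The data of the principal series: the characters outside it and the trivial and Steinberg
characters vanish on the split torus, and have degree divisible by `q - 1`. -/
theorem principal_series [Fintype 𝔾] {a b : 𝔒} (hab : a ≠ b) (St : IrrCharacter 𝔾)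
    (hSt : ∀ g : 𝔾, (St : 𝔾 → ℂ) g = (Nat.card (fixedBy 𝔒 g) : ℂ) - 1) :
    ∃ S R : Finset (IrrCharacter 𝔾),
      2 * S.card + 2 = Fintype.card F ∧
      (∀ χ ∈ S, (charDegree (χ : 𝔾 → ℂ)) = Fintype.card F ^ 2 + 1) ∧
      (∀ χ ∈ S, ∀ g : 𝔾, g ≠ 1 → Nat.card (fixedBy 𝔒 g) ≤ 1 →
        (χ : 𝔾 → ℂ) g = (Nat.card (fixedBy 𝔒 g) : ℂ)) ∧
      (∀ χ : IrrCharacter 𝔾, χ ∈ R ↔ χ ∉ S ∧ (χ : 𝔾 → ℂ) ≠ (fun _ => 1) ∧ χ ≠ St) ∧
      (∀ χ ∈ R, ∀ g : 𝔾, g ≠ 1 → 2 ≤ Nat.card (fixedBy 𝔒 g) → (χ : 𝔾 → ℂ) g = 0) ∧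
      (∀ χ ∈ R, Fintype.card F - 1 ∣ charDegree (χ : 𝔾 → ℂ)) ∧
      (∀ f : IrrCharacter 𝔾 → ℂ, ∑ χ, f χ =
        f ⟨fun _ => 1, isIrrCharacter_one⟩ + f St + ∑ χ ∈ S, f χ + ∑ χ ∈ R, f χ) ∧
      (∀ f : IrrCharacter 𝔾 → ℝ, ∑ χ, f χ =
        f ⟨fun _ => 1, isIrrCharacter_one⟩ + f St + ∑ χ ∈ S, f χ + ∑ χ ∈ R, f χ) := by
  classical
  set q := Fintype.card F with hq
  obtain ⟨h8, heven, -⟩ := q_facts hF hm
  set A : Subgroup 𝔾 := stabilizer 𝔾 a ⊓ stabilizer 𝔾 b with hA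
  haveI : Fintype A := Fintype.ofFinite _
  have hcA : Nat.card A = q - 1 := two_point_card hF hm hab
  obtain ⟨S, ε, c, hε, hcard, hsum1, hsum2, -, hout, -, hconst, hnonc⟩ := exists_ti_family A
    (Partition.split_ti hF hm hab) (fun k hk hk1 => (Partition.split_centralizer hF hm hab hk hk1).le)
    (Partition.split_comm hF hm hab) 2 (by rw [Partition.split_normalizer_card hF hm hab, hcA])
    (by rw [hcA]; omega)
  rw [hcA] at hcard
  set one : IrrCharacter 𝔾 := ⟨fun _ => 1, isIrrCharacter_one⟩ with hone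
  have hfix : ∀ k ∈ A, k ≠ 1 → Nat.card (fixedBy 𝔒 k) = 2 := fun k hk hk1 =>
    Partition.split_card_fixedBy hF hm hab hk hk1
  have hSt1 : (St : 𝔾 → ℂ) 1 = (q : ℂ) ^ 2 := by
    rw [hSt, fixedBy_one_eq_univ, Nat.card_congr (Equiv.Set.univ 𝔒), card_points hF hm]
    push_cast
    ring
  have hne : one ≠ St := fun h => by
    have h1 := congrFun (congrArg Subtype.val h) 1
    rw [hSt1] at h1
    have h2 : ((1 : ℕ) : ℂ) = ((q ^ 2 : ℕ) : ℂ) := by push_cast; exact h1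
    have h3 : 1 = q ^ 2 := by exact_mod_cast h2
    nlinarith
  have hnot : ∀ χ : IrrCharacter 𝔾, (∀ k ∈ A, k ≠ 1 → (χ : 𝔾 → ℂ) k = 1) → χ ∉ S := by
    intro χ h hχ
    obtain ⟨x, hx, y, hy, hx1, hy1, hxy⟩ := hnonc χ hχ
    exact hxy ((h x hx hx1).trans (h y hy hy1).symm)
  have hStA : ∀ k ∈ A, k ≠ 1 → (St : 𝔾 → ℂ) k = 1 := fun k hk hk1 => by
    rw [hSt, hfix k hk hk1]; norm_num
  have honeS : one ∉ S := hnot one fun _ _ _ => rfl
  have hStS : St ∉ S := hnot St hStA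
  set R : Finset (IrrCharacter 𝔾) := ((Finset.univ \ S).erase one).erase St with hR
  have hRmem : ∀ χ : IrrCharacter 𝔾, χ ∈ R ↔ χ ∉ S ∧ (χ : 𝔾 → ℂ) ≠ (fun _ => 1) ∧ χ ≠ St := by
    intro χ
    simp only [hR, Finset.mem_erase, Finset.mem_sdiff, Finset.mem_univ, true_and]
    rw [show ((χ : 𝔾 → ℂ) ≠ fun _ => 1) = (χ ≠ one) by rw [hone, ne_eq, ne_eq, Subtype.ext_iff]]
    tauto
  have hsplit : ∀ {M : Type} [AddCommMonoid M] (f : IrrCharacter 𝔾 → M), ∑ χ, f χ =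
      f one + f St + ∑ χ ∈ S, f χ + ∑ χ ∈ R, f χ := by
    intro M _ f
    rw [← Finset.sum_sdiff (Finset.subset_univ S),
      ← Finset.add_sum_erase _ _ (Finset.mem_sdiff.2 ⟨Finset.mem_univ one, honeS⟩),
      ← Finset.add_sum_erase _ _ (Finset.mem_erase.2 ⟨hne.symm, Finset.mem_sdiff.2 ⟨Finset.mem_univ St, hStS⟩⟩)]
    rw [← hR]
    abel
  obtain ⟨k₀, hk₀, hk₀1⟩ : ∃ k ∈ A, k ≠ 1 := by
    haveI : Nontrivial A := Finite.one_lt_card_iff_nontrivial.1 (by omega)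
    obtain ⟨k, hk⟩ := exists_ne (1 : A)
    exact ⟨k, k.2, fun h => hk (Subtype.ext h)⟩
  -- the column at an element of the torus
  have hcol : ∀ k ∈ A, k ≠ 1 → (S.card : ℝ) * c * c - 2 * ε * c + ∑ χ ∈ R, Complex.normSq ((χ : 𝔾 → ℂ) k) = 0 := by
    intro k hk hk1
    have h := column k
    rw [Partition.split_centralizer hF hm hab hk hk1, ← hA, hcA, hsplit,
      family_normSq (hsum2 k hk hk1), hcA, hStA k hk hk1,
      show (one : 𝔾 → ℂ) k = 1 from rfl, map_one] at h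
    push_cast at h
    linarith
  have hc : c = 0 := by
    have h := hcol k₀ hk₀ hk₀1
    have h' : (0 : ℝ) ≤ ∑ χ ∈ R, Complex.normSq ((χ : 𝔾 → ℂ) k₀) :=
      Finset.sum_nonneg fun χ _ => Complex.normSq_nonneg _
    refine const_eq_zero (lim := 0) hε ?_ (by push_cast; linarith)
    omega
  have hvan : ∀ χ ∈ R, ∀ k ∈ A, k ≠ 1 → (χ : 𝔾 → ℂ) k = 0 := by
    intro χ hχ k hk hk1
    have h := hcol k hk hk1
    rw [hc, Int.cast_zero, mul_zero, mul_zero, sub_zero, zero_add] at h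
    exact Complex.normSq_eq_zero.1
      ((Finset.sum_eq_zero_iff_of_nonneg fun χ _ => Complex.normSq_nonneg _).1 h χ hχ)
  have hsumk : ∑ χ ∈ S, (χ : 𝔾 → ℂ) k₀ = -(ε : ℂ) := by
    rw [hsum1 k₀ hk₀ hk₀1, hc, Int.cast_zero, mul_zero, add_zero]
  obtain ⟨χ₀, hχ₀⟩ : S.Nonempty := Finset.card_pos.1 (by omega)
  -- degree
  have hdeg : (ε : ℤ) = 1 ∧ ∀ χ ∈ S, charDegree (χ : 𝔾 → ℂ) = q ^ 2 + 1 := by
    have h := regular_sum (G := 𝔾) k₀
    rw [if_neg hk₀1, hsplit, hStA k₀ hk₀ hk₀1, hSt1, Finset.sum_eq_zero (s := R) fun χ hχ => by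
      rw [hvan χ hχ k₀ hk₀ hk₀1, mul_zero]] at h
    have hd : ∀ χ ∈ S, (χ : 𝔾 → ℂ) 1 = (χ₀ : 𝔾 → ℂ) 1 := fun χ hχ =>
      hout χ hχ χ₀ hχ₀ 1 fun _ _ => rfl
    rw [Finset.sum_congr (s₁ := S) rfl fun χ hχ => by rw [hd χ hχ], ← Finset.mul_sum, hsumk,
      char_one_eq_deg (irr_isCharacter χ₀.2)] at h
    simp only [hone, one_mul, mul_one, add_zero] at h
    have h' : (1 + q ^ 2 : ℤ) = ε * (deg (χ₀ : 𝔾 → ℂ) : ℤ) := by
      have : ((1 + q ^ 2 : ℤ) : ℂ) = ((ε * (deg (χ₀ : 𝔾 → ℂ) : ℤ) : ℤ) : ℂ) := by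
        push_cast
        linear_combination h
      exact_mod_cast this
    rcases hε with rfl | rfl
    · refine ⟨rfl, fun χ hχ => ?_⟩
      have h1 := hd χ hχ
      rw [char_one_eq_deg (irr_isCharacter χ.2), char_one_eq_deg (irr_isCharacter χ₀.2)] at h1
      have h2 : deg (χ : 𝔾 → ℂ) = deg (χ₀ : 𝔾 → ℂ) := by exact_mod_cast h1
      rw [charDegree_eq_deg, h2]
      have : ((q ^ 2 + 1 : ℕ) : ℤ) = (deg (χ₀ : 𝔾 → ℂ) : ℤ) := by push_cast; linarith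
      exact_mod_cast this.symm
    · exfalso
      have h1 : (0 : ℤ) ≤ q ^ 2 := sq_nonneg _
      have h2 : (0 : ℤ) ≤ (deg (χ₀ : 𝔾 → ℂ) : ℤ) := Int.natCast_nonneg _
      linarith
  -- values on elements with at most one fixed point
  have hvalS : ∀ χ ∈ S, ∀ g : 𝔾, g ≠ 1 → Nat.card (fixedBy 𝔒 g) ≤ 1 →
      (χ : 𝔾 → ℂ) g = (Nat.card (fixedBy 𝔒 g) : ℂ) := by
    intro χ hχ g hg hfg
    have hoff : ∀ x : 𝔾, x * g * x⁻¹ ∈ A → g = 1 := fun x hx => by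
      by_contra
      have h2 := hfix _ hx (fun h => hg (conj_eq_one_iff.1 h))
      rw [Partition.card_fixedBy_conj hF] at h2
      omega
    have hnc : ¬ IsConj k₀ g := fun hc' => by
      obtain ⟨x, hx⟩ := isConj_iff.1 hc'
      have h2 := hfix k₀ hk₀ hk₀1
      rw [← Partition.card_fixedBy_conj hF x k₀, hx] at h2
      omega
    have h := second_orth (G := 𝔾) k₀ g
    rw [if_neg hnc, hsplit, hStA k₀ hk₀ hk₀1, hSt, show (one : 𝔾 → ℂ) k₀ = 1 from rfl, Finset.sum_eq_zero (s := R) fun ψ hψ => by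
      rw [hvan ψ hψ k₀ hk₀ hk₀1, zero_mul],
      Finset.sum_congr (s₁ := S) rfl fun ψ hψ => by rw [hout ψ hψ χ hχ g hoff],
      ← Finset.sum_mul, hsumk, hdeg.1] at h
    have h' := congrArg conj h
    simp only [map_add, map_sub, map_mul, map_neg, map_intCast, map_natCast, map_one, map_zero,
      Complex.conj_conj, Int.cast_one] at h'
    linear_combination -h'
  refine ⟨S, R, by omega, hdeg.2, hvalS, hRmem, ?_, ?_, fun f => hsplit f, fun f => hsplit f⟩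
  · intro χ hχ g hg h2
    obtain ⟨x, hx⟩ := Partition.conj_split hF hm hab h2
    rw [← isClassFunction_character (irr_isCharacter χ.2) g x]
    exact hvan χ hχ _ hx fun h => hg (conj_eq_one_iff.1 h)
  · intro χ hχ
    obtain ⟨t, ht⟩ := classInner_natCast (isCharacter_comp A.subtype (irr_isCharacter χ.2))
      (irr_isCharacter (isIrrCharacter_one (G := A)))
    simp only [classInner, map_one, mul_one] at ht
    rw [← Finset.add_sum_erase _ _ (Finset.mem_univ (1 : A)), Finset.sum_eq_zero fun k hk => ?_,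
      add_zero, Function.comp_apply, map_one, char_one_eq_deg (irr_isCharacter χ.2), hcA] at ht
    · refine ⟨t, ?_⟩
      have hq1 : ((q - 1 : ℕ) : ℂ) ≠ 0 := Nat.cast_ne_zero.2 (by omega)
      rw [inv_mul_eq_iff_eq_mul₀ hq1] at ht
      rw [charDegree_eq_deg]
      exact_mod_cast ht
    · exact hvan χ hχ k k.2 fun h => (Finset.mem_erase.1 hk).1 (Subtype.ext h)

/-- A member outside the principal series has degree at least `2 ^ m (q - 1)`. -/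
theorem rest_degree_ge [Fintype 𝔾] (χ : IrrCharacter 𝔾) {g : 𝔾} (hg : (χ : 𝔾 → ℂ) g = 0) :
    2 ^ m * (2 ^ (2 * m + 1) - 1) ≤ charDegree (χ : 𝔾 → ℂ) := by
  obtain ⟨n, ρ, hirr, hρ⟩ := χ.2
  haveI := sz_simple hF hm
  have hn : charDegree (χ : 𝔾 → ℂ) = n := by
    rw [charDegree, ← hρ, Representation.char_one, Module.finrank_fin_fun, Complex.natCast_re, Nat.floor_natCast]
  rw [hn]
  refine Cfsg.Agent.Lead.SuzukiDeg.min_degree hF hm ρ ((MonoidHom.ker_eq_bot_iff _).1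
    ((IsSimpleGroup.eq_bot_or_eq_top_of_normal (MonoidHom.ker ρ) inferInstance).resolve_right fun htop => ?_))
  have h1 : ρ g = ρ 1 := by
    have h2 : g ∈ MonoidHom.ker ρ := htop ▸ Subgroup.mem_top g
    rw [MonoidHom.mem_ker] at h2
    rw [h2, map_one]
  refine irr_one_ne_zero χ.2 ?_
  rw [← hg, ← hρ, Representation.character, Representation.character]
  rw [h1]

/-- The exceptional family of one torus. -/
theorem torus_family [Fintype 𝔾] {U V : Subgroup 𝔾}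
    (hU : (∀ u ∈ U, u ≠ 1 → Subgroup.centralizer ({u} : Set 𝔾) = U) ∧ (∀ x ∈ U, ∀ y ∈ U, x * y = y * x) ∧
      Nat.card (Subgroup.normalizer (U : Set 𝔾)) = 4 * Nat.card U ∧
      (∀ u ∈ U, u ≠ 1 → Nat.card (fixedBy 𝔒 u) = 0))
    (hV : ∀ u ∈ V, u ≠ 1 → Nat.card (fixedBy 𝔒 u) = 0)
    (hbig : 9 ≤ Nat.card U) (hcop : (Nat.card U).Coprime (Nat.card V)) (St : IrrCharacter 𝔾)
    (hSt : ∀ g : 𝔾, (St : 𝔾 → ℂ) g = (Nat.card (fixedBy 𝔒 g) : ℂ) - 1) (S R : Finset (IrrCharacter 𝔾))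
    (hval : ∀ χ ∈ S, ∀ g : 𝔾, g ≠ 1 → Nat.card (fixedBy 𝔒 g) ≤ 1 →
        (χ : 𝔾 → ℂ) g = (Nat.card (fixedBy 𝔒 g) : ℂ))
    (hR : ∀ χ : IrrCharacter 𝔾, χ ∈ R ↔ χ ∉ S ∧ (χ : 𝔾 → ℂ) ≠ (fun _ => 1) ∧ χ ≠ St) :
    ∃ (T : Finset (IrrCharacter 𝔾)) (ε c : ℤ), (ε = 1 ∨ ε = -1) ∧ T ⊆ R ∧
      4 * T.card + 1 = Nat.card U ∧
      (∀ k ∈ U, k ≠ 1 → ∑ χ ∈ T, Complex.normSq ((χ : 𝔾 → ℂ) k) =
        (Nat.card U : ℝ) - 4 - 2 * ε * c + (T.card : ℝ) * c * c) ∧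
      (∀ χ ∈ T, ∀ [Fintype U] [DecidableEq U], ∑ k ∈ (Finset.univ : Finset U).erase 1, (χ : 𝔾 → ℂ) k =
        -(ε : ℂ) * 4 + ((Nat.card U : ℂ) - 1) * c) ∧
      (∀ χ ∈ T, ∀ ψ ∈ T, ∀ v ∈ V, (χ : 𝔾 → ℂ) v = (ψ : 𝔾 → ℂ) v) ∧
      (∀ χ ∈ T, ∀ ψ ∈ T, (∀ k ∈ U, k ≠ 1 → (χ : 𝔾 → ℂ) k = (ψ : 𝔾 → ℂ) k) → χ = ψ) ∧
      (∀ χ : IrrCharacter 𝔾, χ ∉ T → ∃ z : ℤ, ∀ k ∈ U, k ≠ 1 → (χ : 𝔾 → ℂ) k = z) ∧
      (∀ χ ∈ T, ∃ a ∈ U, ∃ b ∈ U, a ≠ 1 ∧ b ≠ 1 ∧ (χ : 𝔾 → ℂ) a ≠ (χ : 𝔾 → ℂ) b) := by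
  classical
  obtain ⟨h1, h2, h3, h4⟩ := hU
  haveI : Fintype U := Fintype.ofFinite _
  obtain ⟨T, ε, c, hε, hcard, -, hsum2, hsum3, hout, hdist, hconst, hnonc⟩ := exists_ti_family U
    (Partition.torus_ti hF hm h1) (fun k hk hk1 => (h1 k hk hk1).le) h2 4 h3 (by omega)
  refine ⟨T, ε, c, hε, fun χ hχ => ?_, hcard, fun k hk hk1 => ?_, fun χ hχ => ?_,
    fun χ hχ ψ hψ v hv => ?_, hdist, hconst, hnonc⟩
  · rw [hR]
    obtain ⟨x, hx, y, hy, hx1, hy1, hxy⟩ := hnonc χ hχ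
    refine ⟨fun hS => hxy ?_, fun h => hxy ?_, fun h => hxy ?_⟩
    · rw [hval χ hS x hx1 (by rw [h4 x hx hx1]; omega), hval χ hS y hy1 (by rw [h4 y hy hy1]; omega),
        h4 x hx hx1, h4 y hy hy1]
    · rw [h]
    · rw [h, hSt, hSt, h4 x hx hx1, h4 y hy hy1]
  · exact family_normSq (e := 4) (hsum2 k hk hk1)
  · intro i1 i2
    obtain rfl : i2 = Classical.decEq _ := Subsingleton.elim _ _
    have e : i1 = Fintype.ofFinite U := Subsingleton.elim _ _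
    subst e
    convert hsum3 χ hχ
    norm_num
  · refine hout χ hχ ψ hψ v fun x hx => ?_
    have h5 : orderOf v ∣ Nat.card U := by
      rw [← MulEquiv.orderOf_eq (MulAut.conj x) v, MulAut.conj_apply, ← Subgroup.orderOf_mk _ hx]
      exact orderOf_dvd_natCard _
    have h6 : orderOf v ∣ Nat.card V := by rw [← Subgroup.orderOf_mk v hv]; exact orderOf_dvd_natCard _
    exact orderOf_eq_one_iff.1 (Nat.eq_one_of_dvd_coprimes hcop h5 h6)

/-- The degree in a torus family. -/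
theorem torus_degree [Fintype 𝔾] {U V : Subgroup 𝔾}
    (hU : (∀ u ∈ U, u ≠ 1 → Subgroup.centralizer ({u} : Set 𝔾) = U) ∧ (∀ x ∈ U, ∀ y ∈ U, x * y = y * x) ∧
      Nat.card (Subgroup.normalizer (U : Set 𝔾)) = 4 * Nat.card U ∧
      (∀ u ∈ U, u ≠ 1 → Nat.card (fixedBy 𝔒 u) = 0))
    (hprod : Nat.card U * Nat.card V = Fintype.card F ^ 2 + 1)
    (hcover : ∀ g : 𝔾, g ≠ 1 → Nat.card (fixedBy 𝔒 g) = 0 →
      ∃ c : 𝔾, c * g * c⁻¹ ∈ U ∨ c * g * c⁻¹ ∈ V)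
    (St : IrrCharacter 𝔾) (hSt : ∀ g : 𝔾, (St : 𝔾 → ℂ) g = (Nat.card (fixedBy 𝔒 g) : ℂ) - 1)
    (χ : IrrCharacter 𝔾) (hne : χ ≠ St)
    (h2 : ∀ g : 𝔾, g ≠ 1 → 2 ≤ Nat.card (fixedBy 𝔒 g) → (χ : 𝔾 → ℂ) g = 0)
    (hVz : ∀ v ∈ V, v ≠ 1 → (χ : 𝔾 → ℂ) v = 0) {ε : ℤ} (hε : ε = 1 ∨ ε = -1)
    [Fintype U] [DecidableEq U]
    (hsum : ∑ k ∈ (Finset.univ : Finset U).erase 1, (χ : 𝔾 → ℂ) k = -(ε : ℂ) * 4) :
    charDegree (χ : 𝔾 → ℂ) = Nat.card V * (Fintype.card F - 1) := by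
  classical
  obtain ⟨h1, -, h3, h4⟩ := hU
  set q := Fintype.card F with hq
  obtain ⟨h8, -⟩ := q_facts hF hm
  let f : 𝔾 → ℂ := fun g => if g = 1 then 0 else (χ : 𝔾 → ℂ) g * (St : 𝔾 → ℂ) g
  have hf : IsClassFunction 𝔾 f := fun g x => by
    simp only [f, conj_eq_one_iff, isClassFunction_character (irr_isCharacter χ.2) g x,
      isClassFunction_character (irr_isCharacter St.2) g x]
  have hsupp : ∀ g : 𝔾, f g ≠ 0 → ∃ x : 𝔾, x * g * x⁻¹ ∈ U ∧ x * g * x⁻¹ ≠ 1 := by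
    intro g hg
    by_cases hg1 : g = 1
    · exact absurd (if_pos hg1) hg
    simp only [f, if_neg hg1, mul_ne_zero_iff] at hg
    have h0 : Nat.card (fixedBy 𝔒 g) = 0 := by
      by_contra h0
      rcases Nat.lt_or_ge (Nat.card (fixedBy 𝔒 g)) 2 with h | h
      · exact hg.2 (by rw [hSt, show Nat.card (fixedBy 𝔒 g) = 1 by omega]; norm_num)
      · exact hg.1 (h2 g hg1 h)
    obtain ⟨c, hc | hc⟩ := hcover g hg1 h0
    · exact ⟨c, hc, fun h => hg1 (conj_eq_one_iff.1 h)⟩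
    · refine absurd ?_ hg.1
      rw [← isClassFunction_character (irr_isCharacter χ.2) g c]
      exact hVz _ hc fun h => hg1 (conj_eq_one_iff.1 h)
  have hs := sum_ti_support U (Partition.torus_ti hF hm h1) hf hsupp
  rw [Finset.sum_congr rfl (g := fun k : U => -((χ : 𝔾 → ℂ) k)) fun k hk => by
    have hk1 : (k : 𝔾) ≠ 1 := fun h => (Finset.mem_erase.1 hk).1 (Subtype.ext h)
    simp only [f, if_neg hk1]
    rw [hSt, h4 k k.2 hk1]
    simp, Finset.sum_neg_distrib, hsum] at hs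
  have hSt1 : (St : 𝔾 → ℂ) 1 = (q : ℂ) ^ 2 := by
    rw [hSt, fixedBy_one_eq_univ, Nat.card_congr (Equiv.Set.univ 𝔒), card_points hF hm]
    push_cast
    ring
  have horth : classInner (χ : 𝔾 → ℂ) (St : 𝔾 → ℂ) = 0 := by rw [irrC_orth, if_neg hne]
  simp only [classInner, mul_eq_zero, inv_eq_zero, Nat.cast_eq_zero, Nat.card_pos.ne', false_or] at horth
  have hz : ∑ g : 𝔾, f g + (χ : 𝔾 → ℂ) 1 * (St : 𝔾 → ℂ) 1 = 0 := by
    rw [← horth, ← Finset.sum_erase_add _ _ (Finset.mem_univ (1 : 𝔾)),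
      ← Finset.sum_erase_add _ _ (Finset.mem_univ (1 : 𝔾))]
    simp only [f, if_true, add_zero, conj_char_one (irr_isCharacter St.2)]
    congr 1
    refine Finset.sum_congr rfl fun g hg => ?_
    rw [if_neg (Finset.mem_erase.1 hg).1, hSt]
    simp
  rw [hs, hSt1, char_one_eq_deg (irr_isCharacter χ.2)] at hz
  have hidx : (Subgroup.normalizer (U : Set 𝔾)).index * 4 = q ^ 2 * (Nat.card V * (q - 1)) := by
    have h := Subgroup.index_mul_card (Subgroup.normalizer (U : Set 𝔾))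
    rw [h3, card_sz hF hm, ← hq, ← hprod] at h
    refine Nat.eq_of_mul_eq_mul_right (Nat.card_pos (α := U)) ?_
    linarith
  have hz' : (ε : ℂ) * ((q ^ 2 * (Nat.card V * (q - 1)) : ℕ) : ℂ) + (deg (χ : 𝔾 → ℂ) : ℂ) * (q : ℂ) ^ 2 = 0 := by
    rw [← hidx]
    push_cast
    linear_combination hz
  have hz'' : ε * ((Nat.card V * (q - 1) : ℕ) : ℤ) + (deg (χ : 𝔾 → ℂ) : ℤ) = 0 := by
    have h9 : ((ε * ((Nat.card V * (q - 1) : ℕ) : ℤ) + (deg (χ : 𝔾 → ℂ) : ℤ) : ℤ) : ℂ) * (q : ℂ) ^ 2 = 0 := by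
      push_cast at hz' ⊢
      linear_combination hz'
    rcases mul_eq_zero.1 h9 with h | h
    · exact_mod_cast h
    · exact absurd h (pow_ne_zero _ (Nat.cast_ne_zero.2 (by omega)))
  rw [charDegree_eq_deg]
  rcases hε with rfl | rfl
  · have := deg_pos χ.2
    omega
  · omega

/-- The constants of a torus family vanish. -/
theorem torus_constants [Fintype 𝔾] {U : Subgroup 𝔾}
    (hU : ∀ u ∈ U, u ≠ 1 → Subgroup.centralizer ({u} : Set 𝔾) = U)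
    (hUf : ∀ u ∈ U, u ≠ 1 → Nat.card (fixedBy 𝔒 u) = 0) (St : IrrCharacter 𝔾)
    (hSt : ∀ g : 𝔾, (St : 𝔾 → ℂ) g = (Nat.card (fixedBy 𝔒 g) : ℂ) - 1) (S R T T' : Finset (IrrCharacter 𝔾))
    (hval : ∀ χ ∈ S, ∀ g : 𝔾, g ≠ 1 → Nat.card (fixedBy 𝔒 g) ≤ 1 →
        (χ : 𝔾 → ℂ) g = (Nat.card (fixedBy 𝔒 g) : ℂ))
    (hsplit : ∀ f : IrrCharacter 𝔾 → ℝ, ∑ χ, f χ =
        f ⟨fun _ => 1, isIrrCharacter_one⟩ + f St + ∑ χ ∈ S, f χ + ∑ χ ∈ R, f χ)
    (hT : T ⊆ R) (hT' : T' ⊆ R) (hdisj : Disjoint T T') {ε c : ℤ} (hε : ε = 1 ∨ ε = -1)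
    (hn : 5 ≤ T.card) (hn' : 5 ≤ T'.card) {k : 𝔾} (hk : k ∈ U) (hk1 : k ≠ 1)
    (hcol : ∑ χ ∈ T, Complex.normSq ((χ : 𝔾 → ℂ) k) =
        (Nat.card U : ℝ) - 4 - 2 * ε * c + (T.card : ℝ) * c * c)
    {χ₁ : IrrCharacter 𝔾} {z : ℤ} (hz : (χ₁ : 𝔾 → ℂ) k = z)
    (heq : ∀ χ ∈ T', (χ : 𝔾 → ℂ) k = (χ₁ : 𝔾 → ℂ) k) : c = 0 ∧ z = 0 := by
  classical
  have h := column k
  rw [hU k hk hk1, hsplit, Finset.sum_eq_zero (s := S) fun χ hχ => by
    rw [hval χ hχ k hk1 (by rw [hUf k hk hk1]; omega), hUf k hk hk1, Nat.cast_zero, map_zero],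
    hSt, hUf k hk hk1, ← Finset.sum_sdiff (Finset.union_subset hT hT'), Finset.sum_union hdisj, hcol,
    Finset.sum_congr (s₁ := T') rfl fun χ hχ => by rw [heq χ hχ, hz],
    Finset.sum_const, nsmul_eq_mul, Complex.normSq_intCast] at h
  simp only [Nat.cast_zero, zero_sub, Complex.normSq_neg, map_one] at h
  have hR0 : (0 : ℝ) ≤ ∑ χ ∈ R \ (T ∪ T'), Complex.normSq ((χ : 𝔾 → ℂ) k) :=
    Finset.sum_nonneg fun χ _ => Complex.normSq_nonneg _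
  have hz0 : (0 : ℝ) ≤ (T'.card : ℝ) * ((z : ℝ) * z) := mul_nonneg (Nat.cast_nonneg _) (mul_self_nonneg _)
  have hc : c = 0 := by
    refine const_eq_zero (lim := 2) hε (by omega : 2 + 2 < T.card) ?_
    push_cast
    linarith
  refine ⟨hc, ?_⟩
  subst hc
  have hzle : (T'.card : ℤ) * (z * z) ≤ 2 := by
    have : (T'.card : ℝ) * ((z : ℝ) * z) ≤ 2 := by push_cast at h; linarith
    exact_mod_cast this
  by_contra hz'
  have h1 : 1 ≤ z * z := mul_self_pos.2 hz'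
  have h2 : (5 : ℤ) * 1 ≤ (T'.card : ℤ) * (z * z) :=
    mul_le_mul (by exact_mod_cast hn') h1 (by norm_num) (by omega)
  omega

/-- The characters outside the principal series for `q ≥ 32`. -/
theorem rest_general [Fintype 𝔾] (h2m : 2 ≤ m) {U V : Subgroup 𝔾}
    (hkU : Nat.card U = 2 ^ (2 * m + 1) + 2 ^ (m + 1) + 1)
    (hkV : Nat.card V = 2 ^ (2 * m + 1) - 2 ^ (m + 1) + 1)
    (hprod : Nat.card U * Nat.card V = Fintype.card F ^ 2 + 1) (hcop : (Nat.card U).Coprime (Nat.card V))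
    (hW : ∀ W ∈ ({U, V} : Set (Subgroup 𝔾)),
      (∀ u ∈ W, u ≠ 1 → Subgroup.centralizer ({u} : Set 𝔾) = W) ∧ (∀ x ∈ W, ∀ y ∈ W, x * y = y * x) ∧
      Nat.card (Subgroup.normalizer (W : Set 𝔾)) = 4 * Nat.card W ∧
      (∀ u ∈ W, u ≠ 1 → Nat.card (fixedBy 𝔒 u) = 0))
    (hcover : ∀ g : 𝔾, g ≠ 1 → Nat.card (fixedBy 𝔒 g) = 0 →
      ∃ c : 𝔾, c * g * c⁻¹ ∈ U ∨ c * g * c⁻¹ ∈ V)
    {a b : 𝔒} (hab : a ≠ b) (St : IrrCharacter 𝔾)
    (hSt : ∀ g : 𝔾, (St : 𝔾 → ℂ) g = (Nat.card (fixedBy 𝔒 g) : ℂ) - 1) (S R : Finset (IrrCharacter 𝔾))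
    (hval : ∀ χ ∈ S, ∀ g : 𝔾, g ≠ 1 → Nat.card (fixedBy 𝔒 g) ≤ 1 →
        (χ : 𝔾 → ℂ) g = (Nat.card (fixedBy 𝔒 g) : ℂ))
    (hR : ∀ χ : IrrCharacter 𝔾, χ ∈ R ↔ χ ∉ S ∧ (χ : 𝔾 → ℂ) ≠ (fun _ => 1) ∧ χ ≠ St)
    (hR2 : ∀ χ ∈ R, ∀ g : 𝔾, g ≠ 1 → 2 ≤ Nat.card (fixedBy 𝔒 g) → (χ : 𝔾 → ℂ) g = 0)
    (hsplit : ∀ f : IrrCharacter 𝔾 → ℝ, ∑ χ, f χ =
        f ⟨fun _ => 1, isIrrCharacter_one⟩ + f St + ∑ χ ∈ S, f χ + ∑ χ ∈ R, f χ)
    (hsq : (∑ χ ∈ R, (charDegree (χ : 𝔾 → ℂ)) ^ 2) + (Fintype.card F ^ 2) ^ 2 + 1 +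
        S.card * (Fintype.card F ^ 2 + 1) ^ 2 = Nat.card 𝔾)
    (hS : 2 * S.card + 2 = Fintype.card F) :
    ((Finset.image (fun χ : IrrCharacter 𝔾 => charDegree (χ : 𝔾 → ℂ)) R : Finset ℕ) : Set ℕ) =
      {(Fintype.card F - 1) * Nat.card U, (Fintype.card F - 1) * Nat.card V,
        2 ^ m * (Fintype.card F - 1)} := by
  classical
  set q := Fintype.card F with hq
  set t := 2 ^ m with ht
  have ht4 : 4 ≤ t := (Nat.pow_le_pow_right (by norm_num) h2m : 2 ^ 2 ≤ 2 ^ m)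
  have hqt : q = 2 * t ^ 2 := by rw [hF, ht, ← pow_mul, pow_succ, mul_comm m 2]; ring
  have hrt : 2 ^ (m + 1) = 2 * t := by rw [ht, pow_succ]; ring
  have hkU' : Nat.card U = 2 * t ^ 2 + 2 * t + 1 := by rw [hkU, ← hF, hqt, hrt]
  have hkV' : Nat.card V = 2 * t ^ 2 - 2 * t + 1 := by rw [hkV, ← hF, hqt, hrt]
  have htt : 4 * t ≤ t ^ 2 := by rw [sq]; exact Nat.mul_le_mul_right t ht4
  haveI : Fintype U := Fintype.ofFinite _
  haveI : Fintype V := Fintype.ofFinite _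
  obtain ⟨TU, εU, cU, hεU, hTUR, hcardU, hcolU, hsumU, heqU, hdistU, hconstU, hncU⟩ :=
    torus_family hF hm (hW U (Or.inl rfl)) (hW V (Or.inr rfl)).2.2.2 (by omega) hcop St hSt S R hval hR
  obtain ⟨TV, εV, cV, hεV, hTVR, hcardV, hcolV, hsumV, heqV, hdistV, hconstV, hncV⟩ :=
    torus_family hF hm (hW V (Or.inr rfl)) (hW U (Or.inl rfl)).2.2.2 (by omega) hcop.symm St hSt S R hval hR
  have hdisj : Disjoint TU TV := by
    rw [Finset.disjoint_left]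
    intro χ hχU hχV
    obtain ⟨ψ, hψ, hne⟩ := Finset.exists_mem_ne (by omega : 1 < TV.card) χ
    have heq : ∀ u ∈ U, (ψ : 𝔾 → ℂ) u = (χ : 𝔾 → ℂ) u := fun u hu => heqV ψ hψ χ hχV u hu
    by_cases hψU : ψ ∈ TU
    · exact hne (hdistU ψ hψU χ hχU fun u hu _ => heq u hu)
    · obtain ⟨z, hz⟩ := hconstU ψ hψU
      obtain ⟨x, hx, y, hy, hx1, hy1, hxy⟩ := hncU χ hχU
      exact hxy (by rw [← heq x hx, ← heq y hy, hz x hx hx1, hz y hy hy1])
  obtain ⟨χU, hχU⟩ : TU.Nonempty := Finset.card_pos.1 (by omega)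
  obtain ⟨χV, hχV⟩ : TV.Nonempty := Finset.card_pos.1 (by omega)
  obtain ⟨zU, hzU⟩ := hconstU χV (Finset.disjoint_right.1 hdisj hχV)
  obtain ⟨zV, hzV⟩ := hconstV χU (Finset.disjoint_left.1 hdisj hχU)
  have hex : ∀ W : Subgroup 𝔾, 1 < Nat.card W → ∃ k ∈ W, k ≠ 1 := fun W hW => by
    haveI : Nontrivial W := Finite.one_lt_card_iff_nontrivial.1 hW
    obtain ⟨k, hk⟩ := exists_ne (1 : W)
    exact ⟨k, k.2, fun h => hk (Subtype.ext h)⟩
  obtain ⟨u, hu, hu1⟩ := hex U (by omega)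
  obtain ⟨v, hv, hv1⟩ := hex V (by omega)
  obtain ⟨hcU, hzU0⟩ := torus_constants hF hm (hW U (Or.inl rfl)).1 (hW U (Or.inl rfl)).2.2.2 St hSt S R
    TU TV hval hsplit hTUR hTVR hdisj hεU (by omega) (by omega) hu hu1 (hcolU u hu hu1) (hzU u hu hu1)
    (fun χ hχ => heqV χ hχ χV hχV u hu)
  obtain ⟨hcV, hzV0⟩ := torus_constants hF hm (hW V (Or.inr rfl)).1 (hW V (Or.inr rfl)).2.2.2 St hSt S R
    TV TU hval hsplit hTVR hTUR hdisj.symm hεV (by omega) (by omega) hv hv1 (hcolV v hv hv1) (hzV v hv hv1)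
    (fun χ hχ => heqU χ hχ χU hχU v hv)
  have hdU : ∀ χ ∈ TU, charDegree (χ : 𝔾 → ℂ) = Nat.card V * (q - 1) := fun χ hχ => by
    refine torus_degree hF hm (hW U (Or.inl rfl)) hprod hcover St hSt χ ((hR χ).1 (hTUR hχ)).2.2
      (hR2 χ (hTUR hχ)) (fun w hw hw1 => ?_) hεU ?_
    · rw [heqU χ hχ χU hχU w hw, hzV w hw hw1, hzV0, Int.cast_zero]
    · rw [hsumU χ hχ, hcU, Int.cast_zero, mul_zero, add_zero]
  have hdV : ∀ χ ∈ TV, charDegree (χ : 𝔾 → ℂ) = Nat.card U * (q - 1) := fun χ hχ => by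
    refine torus_degree hF hm (hW V (Or.inr rfl)) (by rw [mul_comm]; exact hprod)
      (fun g hg h0 => (hcover g hg h0).imp fun c hc => hc.symm) St hSt χ ((hR χ).1 (hTVR hχ)).2.2
      (hR2 χ (hTVR hχ)) (fun w hw hw1 => ?_) hεV ?_
    · rw [heqV χ hχ χV hχV w hw, hzU w hw hw1, hzU0, Int.cast_zero]
    · rw [hsumV χ hχ, hcV, Int.cast_zero, mul_zero, add_zero]
  set W := R \ (TU ∪ TV) with hWdef
  have hg0 : ∀ χ ∈ R, 2 ^ m * (2 ^ (2 * m + 1) - 1) ≤ charDegree (χ : 𝔾 → ℂ) := fun χ hχ => by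
    obtain ⟨k, hk, hk1⟩ := hex (stabilizer 𝔾 a ⊓ stabilizer 𝔾 b) (by
      rw [two_point_card hF hm hab, ← hq, hqt]; omega)
    exact rest_degree_ge hF hm χ (g := k)
      (hR2 χ hχ k hk1 (Partition.split_card_fixedBy hF hm hab hk hk1).ge)
  have hWsum : ∑ χ ∈ W, charDegree (χ : 𝔾 → ℂ) ^ 2 = 2 * (t * (q - 1)) ^ 2 := by
    rw [← Finset.sum_sdiff (Finset.union_subset hTUR hTVR), Finset.sum_union hdisj,
      Finset.sum_congr (s₁ := TU) rfl fun χ hχ => by rw [hdU χ hχ],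
      Finset.sum_congr (s₁ := TV) rfl fun χ hχ => by rw [hdV χ hχ], Finset.sum_const, Finset.sum_const,
      smul_eq_mul, smul_eq_mul, card_sz hF hm, ← hq, hkU', hkV', ← hWdef] at hsq
    have e1 : (2 * t ^ 2 - 2 * t + 1 : ℕ) = ((2 * t ^ 2 + 1) - 2 * t : ℕ) := by omega
    have hV0 : 2 * t ≤ 2 * t ^ 2 := by omega
    have hq1 : 1 ≤ q := by omega
    have hq2 : 1 ≤ 2 * t ^ 2 := by omega
    rw [hkU'] at hcardU
    rw [hkV'] at hcardV
    rw [hqt] at hS hsq ⊢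
    zify [hV0, hq2] at hsq hS hcardU hcardV ⊢
    refine mul_left_cancel₀ (show (4 : ℤ) ≠ 0 by norm_num) ?_
    linear_combination 4 * hsq - 2 * ((2 * (t : ℤ) ^ 2) ^ 2 + 1) ^ 2 * hS -
      ((2 * (t : ℤ) ^ 2 - 2 * t + 1) * (2 * (t : ℤ) ^ 2 - 1)) ^ 2 * hcardU -
      ((2 * (t : ℤ) ^ 2 + 2 * t + 1) * (2 * (t : ℤ) ^ 2 - 1)) ^ 2 * hcardV
  have hW : W.Nonempty ∧ ∀ χ ∈ W, charDegree (χ : 𝔾 → ℂ) = t * (q - 1) := by
    have hw0 : 0 < t * (q - 1) := Nat.mul_pos (by omega) (by omega)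
    have hge : ∀ χ ∈ W, t * (q - 1) ≤ charDegree (χ : 𝔾 → ℂ) := fun χ hχ => by
      have := hg0 χ (Finset.mem_sdiff.1 hχ).1
      rwa [← hF] at this
    have hle : W.card * (t * (q - 1)) ^ 2 ≤ 2 * (t * (q - 1)) ^ 2 := by
      rw [← hWsum, ← smul_eq_mul, ← Finset.sum_const]
      exact Finset.sum_le_sum fun χ hχ => Nat.pow_le_pow_left (hge χ hχ) 2
    have hc2 : W.card ≤ 2 := Nat.le_of_mul_le_mul_right hle (pow_pos hw0 2)
    have hc : W.card = 2 := by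
      by_contra hne
      rcases (by omega : W.card = 0 ∨ W.card = 1) with h | h
      · rw [Finset.card_eq_zero.1 h, Finset.sum_empty] at hWsum
        have := pow_pos hw0 2
        omega
      · obtain ⟨χ, hχ⟩ := Finset.card_eq_one.1 h
        rw [hχ, Finset.sum_singleton] at hWsum
        have hd0 : charDegree (χ : 𝔾 → ℂ) ≠ 0 := fun h0 => by
          rw [h0] at hWsum
          have := pow_pos hw0 2
          omega
        have h' := congrArg (fun n => n.factorization 2) hWsum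
        simp only [Nat.factorization_mul two_ne_zero (pow_ne_zero _ hw0.ne'), Nat.factorization_pow,
          Finsupp.coe_add, Finsupp.coe_smul, Pi.add_apply, Pi.smul_apply, smul_eq_mul,
          Nat.prime_two.factorization_self] at h'
        omega
    refine ⟨Finset.card_pos.1 (by omega), fun χ hχ => ?_⟩
    by_contra hne
    have hlt : ∑ _χ ∈ W, (t * (q - 1)) ^ 2 < ∑ χ ∈ W, charDegree (χ : 𝔾 → ℂ) ^ 2 :=
      Finset.sum_lt_sum (fun ψ hψ => Nat.pow_le_pow_left (hge ψ hψ) 2)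
        ⟨χ, hχ, Nat.pow_lt_pow_left (lt_of_le_of_ne (hge χ hχ) (Ne.symm hne)) two_ne_zero⟩
    rw [hWsum, Finset.sum_const, hc, smul_eq_mul] at hlt
    exact lt_irrefl _ hlt
  ext d
  simp only [Finset.coe_image, Set.mem_image, Finset.mem_coe, Set.mem_insert_iff, Set.mem_singleton_iff]
  constructor
  · rintro ⟨χ, hχ, rfl⟩
    by_cases hU' : χ ∈ TU
    · exact Or.inr (Or.inl (by rw [hdU χ hU', mul_comm]))
    by_cases hV' : χ ∈ TV
    · exact Or.inl (by rw [hdV χ hV', mul_comm])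
    exact Or.inr (Or.inr (hW.2 χ (Finset.mem_sdiff.2 ⟨hχ, by simp [hU', hV']⟩)))
  · rintro (rfl | rfl | rfl)
    · exact ⟨χV, hTVR hχV, by rw [hdV χV hχV, mul_comm]⟩
    · exact ⟨χU, hTUR hχU, by rw [hdU χU hχU, mul_comm]⟩
    · obtain ⟨χ, hχ⟩ := hW.1
      exact ⟨χ, (Finset.mem_sdiff.1 hχ).1, hW.2 χ hχ⟩

/-- The characters outside the principal series for `q = 8`. -/
theorem rest_eight [Fintype 𝔾] (h1m : m = 1) {U V : Subgroup 𝔾}
    (hkU : Nat.card U = 2 ^ (2 * m + 1) + 2 ^ (m + 1) + 1)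
    (hkV : Nat.card V = 2 ^ (2 * m + 1) - 2 ^ (m + 1) + 1)
    (hV : (∀ u ∈ V, u ≠ 1 → Subgroup.centralizer ({u} : Set 𝔾) = V) ∧ (∀ x ∈ V, ∀ y ∈ V, x * y = y * x) ∧
      Nat.card (Subgroup.normalizer (V : Set 𝔾)) = 4 * Nat.card V ∧
      (∀ u ∈ V, u ≠ 1 → Nat.card (fixedBy 𝔒 u) = 0))
    {a b : 𝔒} (hab : a ≠ b) (St : IrrCharacter 𝔾)
    (hSt : ∀ g : 𝔾, (St : 𝔾 → ℂ) g = (Nat.card (fixedBy 𝔒 g) : ℂ) - 1) (S R : Finset (IrrCharacter 𝔾))
    (hval : ∀ χ ∈ S, ∀ g : 𝔾, g ≠ 1 → Nat.card (fixedBy 𝔒 g) ≤ 1 →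
        (χ : 𝔾 → ℂ) g = (Nat.card (fixedBy 𝔒 g) : ℂ))
    (hR2 : ∀ χ ∈ R, ∀ g : 𝔾, g ≠ 1 → 2 ≤ Nat.card (fixedBy 𝔒 g) → (χ : 𝔾 → ℂ) g = 0)
    (hdvd : ∀ χ ∈ R, Fintype.card F - 1 ∣ charDegree (χ : 𝔾 → ℂ))
    (hsplit : ∀ f : IrrCharacter 𝔾 → ℝ, ∑ χ, f χ =
        f ⟨fun _ => 1, isIrrCharacter_one⟩ + f St + ∑ χ ∈ S, f χ + ∑ χ ∈ R, f χ)
    (hsq : (∑ χ ∈ R, (charDegree (χ : 𝔾 → ℂ)) ^ 2) + (Fintype.card F ^ 2) ^ 2 + 1 +
        S.card * (Fintype.card F ^ 2 + 1) ^ 2 = Nat.card 𝔾)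
    (hS : 2 * S.card + 2 = Fintype.card F) :
    ((Finset.image (fun χ : IrrCharacter 𝔾 => charDegree (χ : 𝔾 → ℂ)) R : Finset ℕ) : Set ℕ) =
      {(Fintype.card F - 1) * Nat.card U, (Fintype.card F - 1) * Nat.card V,
        2 ^ m * (Fintype.card F - 1)} := by
  classical
  obtain ⟨hV1, hV2, hV3, hV4⟩ := hV
  have hq : Fintype.card F = 8 := by rw [hF, h1m]; norm_num
  have e8 : 2 ^ (2 * m + 1) = 8 := by rw [h1m]; norm_num
  have e4 : 2 ^ (m + 1) = 4 := by rw [h1m]; norm_num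
  have e2 : 2 ^ m = 2 := by rw [h1m]; norm_num
  rw [e8, e4] at hkU hkV
  replace hkU : Nat.card U = 13 := hkU.trans (by norm_num)
  replace hkV : Nat.card V = 5 := hkV.trans (by norm_num)
  have hcardG : Nat.card 𝔾 = 29120 := by rw [card_sz hF hm, hq]; norm_num
  haveI : Fintype V := Fintype.ofFinite _
  obtain ⟨⟨x, hx⟩, hx'⟩ : ∃ x : V, x ≠ 1 := by
    haveI : Nontrivial V := Finite.one_lt_card_iff_nontrivial.1 (by omega)
    exact exists_ne 1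
  have hx1 : x ≠ 1 := fun h => hx' (Subtype.ext h)
  -- the normalizer is transitive on the torus
  have hconj : ∀ y ∈ V, y ≠ 1 → IsConj x y := by
    intro y hy hy1
    set N := Subgroup.normalizer (V : Set 𝔾) with hN
    haveI : (V.subgroupOf N).Normal := Subgroup.normal_in_normalizer
    let φ : N ⧸ V.subgroupOf N → {w : V // w ≠ 1} := fun w =>
      ⟨⟨(w.out : 𝔾) * x * (w.out : 𝔾)⁻¹, (Subgroup.mem_set_normalizer_iff.1 w.out.2 x).1 hx⟩,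
        fun h => hx1 (conj_eq_one_iff.1 (congrArg Subtype.val h))⟩
    have hφ : Function.Injective φ := fun v w h => by
      have h' : (v.out : 𝔾) * x * (v.out : 𝔾)⁻¹ = (w.out : 𝔾) * x * (w.out : 𝔾)⁻¹ :=
        congrArg (fun t : {w : V // w ≠ 1} => ((t.1 : V) : 𝔾)) h
      rw [← QuotientGroup.out_eq' v, ← QuotientGroup.out_eq' w, QuotientGroup.eq, Subgroup.mem_subgroupOf]
      refine (hV1 x hx hx1).le ?_
      rw [Subgroup.mem_centralizer_singleton_iff, Subgroup.coe_mul, Subgroup.coe_inv]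
      calc (v.out : 𝔾)⁻¹ * w.out * x
          = (v.out : 𝔾)⁻¹ * ((w.out : 𝔾) * x * (w.out : 𝔾)⁻¹) * w.out := by group
        _ = x * ((v.out : 𝔾)⁻¹ * w.out) := by rw [← h']; group
    have h4 : Nat.card (N ⧸ V.subgroupOf N) = 4 := by
      have h := (V.subgroupOf N).index_mul_card
      rw [Nat.card_congr (Subgroup.subgroupOfEquivOfLe Subgroup.le_normalizer).toEquiv, hN, hV3] at h
      rw [← Subgroup.index_eq_card]
      exact Nat.eq_of_mul_eq_mul_right Nat.card_pos h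
    have h5 : Nat.card {w : V // w ≠ 1} = 4 := by
      rw [Nat.card_eq_fintype_card, Fintype.card_subtype_compl, Fintype.card_subtype_eq,
        Fintype.card_eq_nat_card, hkV]
    have hbij : Function.Bijective φ := (Nat.bijective_iff_injective_and_card φ).2 ⟨hφ, h4.trans h5.symm⟩
    obtain ⟨w, hw⟩ := hbij.2 ⟨⟨y, hy⟩, fun h => hy1 (congrArg Subtype.val h)⟩
    exact isConj_iff.2 ⟨w.out, congrArg (fun t : {w : V // w ≠ 1} => ((t.1 : V) : 𝔾)) hw⟩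
  have hvalue : ∀ χ : IrrCharacter 𝔾, ∃ z : ℤ, (χ : 𝔾 → ℂ) x = z ∧
      (5 : ℤ) ∣ (charDegree (χ : 𝔾 → ℂ) : ℤ) + 4 * z := by
    intro χ
    obtain ⟨t, ht⟩ := classInner_natCast (isCharacter_comp V.subtype (irr_isCharacter χ.2))
      (irr_isCharacter (isIrrCharacter_one (G := V)))
    simp only [classInner, map_one, mul_one] at ht
    rw [← Finset.add_sum_erase _ _ (Finset.mem_univ (1 : V)), Finset.sum_congr rfl
      (g := fun _ => (χ : 𝔾 → ℂ) x) (fun k hk => ?_), Finset.sum_const,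
      Finset.card_erase_of_mem (Finset.mem_univ _), Finset.card_univ, ← Nat.card_eq_fintype_card, hkV,
      Function.comp_apply, map_one, char_one_eq_deg (irr_isCharacter χ.2),
      inv_mul_eq_iff_eq_mul₀ (by norm_num), nsmul_eq_mul] at ht
    · push_cast at ht
      have hq' : (χ : 𝔾 → ℂ) x = (((5 * (t : ℚ) - deg (χ : 𝔾 → ℂ)) / 4 : ℚ) : ℂ) := by
        push_cast
        linear_combination ht / 4
      obtain ⟨z, hz⟩ := isIntegral_rat_cast_imp (q := (5 * (t : ℚ) - deg (χ : 𝔾 → ℂ)) / 4)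
        (hq' ▸ char_isIntegral (irr_isCharacter χ.2) x)
      refine ⟨z, by rw [hq', ← hz]; simp, ⟨t, ?_⟩⟩
      have : ((charDegree (χ : 𝔾 → ℂ) : ℤ) + 4 * z : ℚ) = ((5 * (t : ℤ) : ℤ) : ℚ) := by
        rw [charDegree_eq_deg]
        push_cast
        linear_combination 4 * hz
      exact_mod_cast this
    · have hk1 : (k : 𝔾) ≠ 1 := fun h => (Finset.mem_erase.1 hk).1 (Subtype.ext h)
      obtain ⟨c, hc⟩ := isConj_iff.1 (hconj k k.2 hk1)
      show (χ : 𝔾 → ℂ) k = _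
      rw [← hc, isClassFunction_character (irr_isCharacter χ.2)]
  choose z hz hz5 using hvalue
  have hcol : ∑ χ ∈ R, z χ * z χ = 3 := by
    have h := column x
    rw [hV1 x hx hx1, hkV, hsplit, Finset.sum_eq_zero (s := S) fun χ hχ => by
      rw [hval χ hχ x hx1 (by rw [hV4 x hx hx1]; omega), hV4 x hx hx1, Nat.cast_zero, map_zero],
      hSt, hV4 x hx hx1] at h
    simp only [hz, Complex.normSq_intCast, Nat.cast_zero, zero_sub, Complex.normSq_neg, map_one] at h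
    have h' : ((∑ χ ∈ R, z χ * z χ : ℤ) : ℝ) = ((3 : ℤ) : ℝ) := by
      push_cast at h ⊢
      linarith
    exact_mod_cast h'
  have hsq' : ∑ χ ∈ R, charDegree (χ : 𝔾 → ℂ) ^ 2 = 12348 := by
    rw [hcardG, hq] at hsq
    rw [hq] at hS
    have : S.card = 3 := by omega
    rw [this] at hsq
    omega
  have hdeg : ∀ χ ∈ R, ∃ k ∈ ({2, 4, 5, 8, 10, 13} : Finset ℕ), charDegree (χ : 𝔾 → ℂ) = 7 * k ∧
      z χ * z χ = (if k = 2 ∨ k = 4 ∨ k = 8 ∨ k = 13 then 1 else 0) ∧ k ≠ 4 := by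
    intro χ hχ
    obtain ⟨k, hk⟩ := hdvd χ hχ
    rw [hq] at hk
    obtain ⟨y, hy, hy1⟩ : ∃ y ∈ stabilizer 𝔾 a ⊓ stabilizer 𝔾 b, y ≠ 1 := by
      haveI : Nontrivial ↥(stabilizer 𝔾 a ⊓ stabilizer 𝔾 b) := Finite.one_lt_card_iff_nontrivial.1 (by
        rw [two_point_card hF hm hab, hq]; norm_num)
      obtain ⟨y, hy⟩ := exists_ne (1 : ↥(stabilizer 𝔾 a ⊓ stabilizer 𝔾 b))
      exact ⟨y, y.2, fun h => hy (Subtype.ext h)⟩
    have hge := rest_degree_ge hF hm χ (hR2 χ hχ y hy1 (Partition.split_card_fixedBy hF hm hab hy hy1).ge)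
    have hd := deg_dvd_card χ.2
    rw [← charDegree_eq_deg, hcardG, hk] at hd
    have hd' : k ∣ 4160 := by
      rw [show 29120 = 7 * 4160 by norm_num] at hd
      exact Nat.dvd_of_mul_dvd_mul_left (by norm_num) hd
    have hle : charDegree (χ : 𝔾 → ℂ) ^ 2 ≤ 12348 := hsq' ▸
      Finset.single_le_sum (f := fun χ : IrrCharacter 𝔾 => charDegree (χ : 𝔾 → ℂ) ^ 2)
        (fun _ _ => Nat.zero_le _) hχ
    have hk16 : k < 16 := by
      by_contra h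
      have : 112 ^ 2 ≤ charDegree (χ : 𝔾 → ℂ) ^ 2 := Nat.pow_le_pow_left (by omega) 2
      omega
    have hz3 : z χ * z χ ≤ 3 := hcol ▸
      Finset.single_le_sum (f := fun χ => z χ * z χ) (fun _ _ => mul_self_nonneg _) hχ
    have hzb : -1 ≤ z χ ∧ z χ ≤ 1 := by constructor <;> nlinarith
    have h5 := hz5 χ
    rw [hk] at h5 hge
    rw [e8, e2] at hge
    norm_num at hge
    have hk2 : 2 ≤ k := by omega
    obtain ⟨m1, m2, m3⟩ := eight_member hd' hk2 hk16 hzb.1 hzb.2 h5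
    exact ⟨k, m1, by rw [hk], m2, m3⟩
  choose! K hKm hKd hKz hK4 using hdeg
  let n : ℕ → ℕ := fun k => (R.filter fun χ => K χ = k).card
  have hfib : ∀ f : ℕ → ℕ, ∑ χ ∈ R, f (K χ) =
      n 2 * f 2 + n 4 * f 4 + n 5 * f 5 + n 8 * f 8 + n 10 * f 10 + n 13 * f 13 := by
    intro f
    rw [← Finset.sum_fiberwise_of_maps_to' hKm f]
    simp [n, Finset.sum_insert, add_assoc]
  have h252 : ∑ χ ∈ R, K χ ^ 2 = 252 := by
    rw [Finset.sum_congr rfl fun χ hχ => by rw [hKd χ hχ, mul_pow], ← Finset.mul_sum] at hsq'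
    omega
  have h3 : ∑ χ ∈ R, (if K χ = 2 ∨ K χ = 4 ∨ K χ = 8 ∨ K χ = 13 then 1 else 0) = 3 := by
    have : ((∑ χ ∈ R, (if K χ = 2 ∨ K χ = 4 ∨ K χ = 8 ∨ K χ = 13 then 1 else 0) : ℕ) : ℤ) = 3 := by
      rw [← hcol, Nat.cast_sum]
      refine Finset.sum_congr rfl fun χ hχ => ?_
      rw [hKz χ hχ]
      split_ifs <;> rfl
    exact_mod_cast this
  rw [hfib fun k => k ^ 2] at h252
  rw [hfib fun k => if k = 2 ∨ k = 4 ∨ k = 8 ∨ k = 13 then 1 else 0] at h3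
  have h40 : n 4 = 0 := Finset.card_eq_zero.2 (Finset.filter_eq_empty_iff.2 fun χ hχ => hK4 χ hχ)
  norm_num at h252 h3
  obtain ⟨c2, -, c5, c8, c10, c13⟩ := eight_counts (n5 := n 5) (n10 := n 10) h40 h3 (by linarith)
  have hmem : ∀ k, 0 < n k → ∃ χ ∈ R, K χ = k := fun k hk => by
    obtain ⟨χ, hχ⟩ := Finset.card_pos.1 hk
    exact ⟨χ, (Finset.mem_filter.1 hχ).1, (Finset.mem_filter.1 hχ).2⟩
  have hzero : ∀ χ ∈ R, ∀ k, n k = 0 → K χ ≠ k := fun χ hχ k hk =>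
    (Finset.filter_eq_empty_iff.1 (Finset.card_eq_zero.1 hk)) hχ
  rw [hkU, hkV, hq, e2]
  ext d
  simp only [Finset.coe_image, Set.mem_image, Finset.mem_coe, Set.mem_insert_iff, Set.mem_singleton_iff]
  constructor
  · rintro ⟨χ, hχ, rfl⟩
    have hk := hKm χ hχ
    have h4' := hK4 χ hχ
    have h8' := hzero χ hχ 8 c8
    have h10' := hzero χ hχ 10 c10
    simp only [Finset.mem_insert, Finset.mem_singleton] at hk
    rw [hKd χ hχ]
    rcases hk with h | h | h | h | h | h <;> simp_all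
  · rintro (rfl | rfl | rfl)
    · obtain ⟨χ, hχ, hK⟩ := hmem 13 (by omega)
      exact ⟨χ, hχ, by rw [hKd χ hχ, hK]⟩
    · obtain ⟨χ, hχ, hK⟩ := hmem 5 (by omega)
      exact ⟨χ, hχ, by rw [hKd χ hχ, hK]⟩
    · obtain ⟨χ, hχ, hK⟩ := hmem 2 (by omega)
      exact ⟨χ, hχ, by rw [hKd χ hχ, hK]⟩

/-- **The character degrees of the Suzuki group.** -/
theorem charDegrees_eq [Fintype 𝔾] : Cfsg.charDegrees 𝔾 =
    {1, Fintype.card F ^ 2, Fintype.card F ^ 2 + 1,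
      (Fintype.card F - 1) * (2 ^ (2 * m + 1) + 2 ^ (m + 1) + 1),
      (Fintype.card F - 1) * (2 ^ (2 * m + 1) - 2 ^ (m + 1) + 1),
      2 ^ m * (Fintype.card F - 1)} := by
  classical
  set q := Fintype.card F with hq
  obtain ⟨h8, -⟩ := q_facts hF hm
  obtain ⟨U, V, hkU, hkV, hprod, hcop, hW, hcover⟩ := Partition.exists_tori hF hm
  obtain ⟨a, b, hab⟩ := Partition.exists_ne_points hF hm
  obtain ⟨St, hSt⟩ := steinberg hF hm
  obtain ⟨S, R, hS, hdS, hval, hR, hR2, hdvd, hsplitC, hsplit⟩ := principal_series hF hm hab St hSt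
  set one : IrrCharacter 𝔾 := ⟨fun _ => 1, isIrrCharacter_one⟩ with hone
  have hdone : charDegree (one : 𝔾 → ℂ) = 1 := by
    simp [charDegree, hone]
  have hdSt : charDegree (St : 𝔾 → ℂ) = q ^ 2 := by
    rw [charDegree, hSt, fixedBy_one_eq_univ, Nat.card_congr (Equiv.Set.univ 𝔒), card_points hF hm,
      show ((q ^ 2 + 1 : ℕ) : ℂ) - 1 = ((q ^ 2 : ℕ) : ℂ) by push_cast; ring, Complex.natCast_re,
      Nat.floor_natCast]
  have hsq : (∑ χ ∈ R, (charDegree (χ : 𝔾 → ℂ)) ^ 2) + (q ^ 2) ^ 2 + 1 + S.card * (q ^ 2 + 1) ^ 2 =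
      Nat.card 𝔾 := by
    have h := sum_sq_deg (G := 𝔾)
    rw [Finset.sum_congr rfl fun χ _ => by rw [char_one_eq_deg (irr_isCharacter χ.2)], hsplitC,
      Finset.sum_congr (s₁ := S) rfl (g := fun _ => (((q ^ 2 + 1 : ℕ) : ℂ)) ^ 2) fun χ hχ => by
        rw [← charDegree_eq_deg, hdS χ hχ],
      Finset.sum_const, nsmul_eq_mul, ← charDegree_eq_deg, ← charDegree_eq_deg, hdone, hdSt,
      Finset.sum_congr rfl fun χ _ => by rw [← charDegree_eq_deg]] at h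
    have h' : 1 ^ 2 + (q ^ 2) ^ 2 + S.card * (q ^ 2 + 1) ^ 2 + ∑ χ ∈ R, (charDegree (χ : 𝔾 → ℂ)) ^ 2 =
        Nat.card 𝔾 := by exact_mod_cast h
    linarith
  have hrest : ((Finset.image (fun χ : IrrCharacter 𝔾 => charDegree (χ : 𝔾 → ℂ)) R : Finset ℕ) : Set ℕ) =
      {(q - 1) * Nat.card U, (q - 1) * Nat.card V, 2 ^ m * (q - 1)} := by
    rcases Nat.lt_or_ge m 2 with h | h
    · exact rest_eight hF hm (by omega) hkU hkV (hW V (Or.inr rfl)) hab St hSt S R hval hR2 hdvd hsplit hsq hS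
    · exact rest_general hF hm h hkU hkV hprod hcop hW hcover hab St hSt S R hval hR hR2 hsplit hsq hS
  rw [hkU, hkV] at hrest
  ext d
  simp only [Cfsg.charDegrees, Set.mem_setOf_eq, Set.mem_insert_iff, Set.mem_singleton_iff]
  have hr : ∀ d, (∃ χ ∈ R, charDegree (χ : 𝔾 → ℂ) = d) ↔
      (d = (q - 1) * (2 ^ (2 * m + 1) + 2 ^ (m + 1) + 1) ∨
        d = (q - 1) * (2 ^ (2 * m + 1) - 2 ^ (m + 1) + 1) ∨ d = 2 ^ m * (q - 1)) := fun d => by
    have h := Set.ext_iff.1 hrest d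
    simpa using h
  constructor
  · rintro ⟨χ, rfl⟩
    by_cases hS' : χ ∈ S
    · exact Or.inr (Or.inr (Or.inl (hdS χ hS')))
    by_cases h1 : (χ : 𝔾 → ℂ) = fun _ => 1
    · exact Or.inl (by rw [h1]; exact hdone)
    by_cases h2 : χ = St
    · exact Or.inr (Or.inl (by rw [h2, hdSt]))
    exact Or.inr (Or.inr (Or.inr ((hr _).1 ⟨χ, (hR χ).2 ⟨hS', h1, h2⟩, rfl⟩)))
  · rintro (rfl | rfl | rfl | h)
    · exact ⟨one, hdone⟩
    · exact ⟨St, hdSt⟩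
    · obtain ⟨χ, hχ⟩ : S.Nonempty := Finset.card_pos.1 (by omega)
      exact ⟨χ, hdS χ hχ⟩
    · obtain ⟨χ, -, hχ⟩ := (hr d).2 h
      exact ⟨χ, hχ⟩

end Cfsg.Agent.Lie.Suzuki.Degrees
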