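import Cfsg.Agent.Lib.Lie.SuzukiTori

/-!
# The two classes of tori of a Suzuki group
-/

set_option autoImplicit false

namespace Cfsg.Agent.Lie.Suzuki

open MulAction

variable {F : Type*} [Field F] {m : ℕ} [Fintype F] (hF : Fintype.card F = 2 ^ (2 * m + 1)) (hm : 1 ≤ m)
include hF hm

/-- The index of a torus in its normaliser. -/
theorem torus_index {p : ℕ} (hp : p.Prime) (hd : p ∣ Fintype.card F ^ 2 + 1) {x : Cfsg.Sz F m} (hx : orderOf x = p) :
    ∃ e, (e = 1 ∨ e = 2 ∨ e = 4) ∧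
      Nat.card (Subgroup.normalizer ((Subgroup.centralizer ({x} : Set (Cfsg.Sz F m)) : Subgroup _) : Set (Cfsg.Sz F m))) =
        e * Nat.card (Subgroup.centralizer ({x} : Set (Cfsg.Sz F m))) := by
  classical
  haveI := Fact.mk hp
  obtain ⟨hc, hfpf, hdvd, hconj⟩ := torus hF hm hp hd hx
  obtain ⟨hpq, -⟩ := order_four hF hm hp hd
  set U := Subgroup.centralizer ({x} : Set (Cfsg.Sz F m)) with hU
  set N := Subgroup.normalizer ((U : Subgroup _) : Set (Cfsg.Sz F m)) with hN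
  set q := Fintype.card F
  have hxU : x ∈ U := Subgroup.mem_centralizer_singleton_iff.2 rfl
  have hUN : U ≤ N := Subgroup.le_normalizer
  have key : ∀ g : N, ∃ j, j < 4 ∧ (g : Cfsg.Sz F m) * x * (g : Cfsg.Sz F m)⁻¹ = x ^ (q ^ j) :=
    fun g => hconj g ((Subgroup.mem_normalizer_iff.1 g.2 x).1 hxU)
  choose jf hj hjf using key
  have hker : ∀ g h : N, jf g = jf h → (g : Cfsg.Sz F m)⁻¹ * h ∈ U := by
    intro g h e
    refine Subgroup.mem_centralizer_singleton_iff.2 ?_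
    have h1 := hjf g
    rw [e, ← hjf h] at h1
    calc (g : Cfsg.Sz F m)⁻¹ * h * x = (g : Cfsg.Sz F m)⁻¹ * ((h : Cfsg.Sz F m) * x * (h : Cfsg.Sz F m)⁻¹) * h := by group
      _ = x * ((g : Cfsg.Sz F m)⁻¹ * h) := by rw [← h1]; group
  set e := (U.subgroupOf N).index with he
  have hcard : Nat.card N = e * Nat.card U := by
    have := (U.subgroupOf N).index_mul_card
    rw [Nat.card_congr (Subgroup.subgroupOfEquivOfLe hUN).toEquiv] at this
    exact this.symm
  haveI hnor : (U.subgroupOf N).Normal := Subgroup.normal_in_normalizer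
  have hle : e ≤ 4 := by
    let Φ : N ⧸ U.subgroupOf N → Fin 4 := fun w => ⟨jf w.out, hj _⟩
    have hinj : Function.Injective Φ := fun v w h => by
      have := hker v.out w.out (congrArg Fin.val h)
      rw [← QuotientGroup.out_eq' v, ← QuotientGroup.out_eq' w]
      exact QuotientGroup.eq.2 (Subgroup.mem_subgroupOf.2 this)
    simpa [he, Subgroup.index_eq_card] using Nat.card_le_card_of_injective Φ hinj
  have h3 : e ≠ 3 := by
    intro h3
    haveI : Fact (Nat.Prime 3) := ⟨Nat.prime_three⟩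
    obtain ⟨w, hw⟩ := exists_prime_orderOf_dvd_card' (G := N ⧸ U.subgroupOf N) 3 (by
      rw [← Subgroup.index_eq_card, ← he, h3])
    obtain ⟨g, rfl⟩ := QuotientGroup.mk'_surjective _ w
    have hg3 : ((g ^ 3 : N) : Cfsg.Sz F m) ∈ U := by
      refine Subgroup.mem_subgroupOf.1 ((QuotientGroup.eq_one_iff _).1 ?_)
      rw [QuotientGroup.mk_pow, ← hw]
      exact pow_orderOf_eq_one _
    have hgU : (g : Cfsg.Sz F m) ∉ U := fun h => by
      rw [show QuotientGroup.mk' (U.subgroupOf N) g = 1 from (QuotientGroup.eq_one_iff _).2 (Subgroup.mem_subgroupOf.2 h),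
        orderOf_one] at hw
      omega
    have hpow : ∀ k : ℕ, ((g : Cfsg.Sz F m) ^ k) * x * ((g : Cfsg.Sz F m) ^ k)⁻¹ = x ^ (q ^ (jf g * k)) := fun k => by
      induction k with
      | zero => simp
      | succ k ih =>
        calc (g : Cfsg.Sz F m) ^ (k + 1) * x * ((g : Cfsg.Sz F m) ^ (k + 1))⁻¹
            = (g : Cfsg.Sz F m) * ((g : Cfsg.Sz F m) ^ k * x * ((g : Cfsg.Sz F m) ^ k)⁻¹) * (g : Cfsg.Sz F m)⁻¹ := by
              rw [pow_succ']; group
          _ = ((g : Cfsg.Sz F m) * x * (g : Cfsg.Sz F m)⁻¹) ^ (q ^ (jf g * k)) := by rw [ih, conj_pow]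
          _ = x ^ (q ^ (jf g * (k + 1))) := by rw [hjf, ← pow_mul, ← pow_add]; ring_nf
    have h := hpow 3
    rw [← SubgroupClass.coe_pow, Subgroup.mem_centralizer_singleton_iff.1 hg3, mul_inv_cancel_right] at h
    have h' : x ^ 1 = x ^ (q ^ (jf g * 3)) := by rw [pow_one]; exact h
    rw [pow_eq_pow_iff_modEq, hx, Nat.modEq_iff_dvd' (Nat.one_le_pow _ _ Fintype.card_pos), hpq] at h'
    have hj0 : jf g = 0 := by have := hj g; omega
    have := hjf g
    rw [hj0, pow_zero, pow_one] at this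
    exact hgU (Subgroup.mem_centralizer_singleton_iff.2 (mul_inv_eq_iff_eq_mul.1 this))
  have h0 : e ≠ 0 := Subgroup.index_ne_zero_of_finite
  exact ⟨e, by omega, hcard⟩

/-- **The two classes of tori.** -/
theorem two_tori :
    ∀ k ∈ ({2 ^ (2 * m + 1) + 2 ^ (m + 1) + 1, 2 ^ (2 * m + 1) - 2 ^ (m + 1) + 1} : Set ℕ),
      ∃ U : Subgroup (Cfsg.Sz F m), IsCyclic U ∧ Nat.card U = k ∧
        (∀ u ∈ U, u ≠ 1 → Subgroup.centralizer {u} = U) ∧
        Nat.card (Subgroup.normalizer (U : Set (Cfsg.Sz F m))) = 4 * k := by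
  classical
  letI := Fintype.ofFinite (Cfsg.Sz F m)
  set G := Cfsg.Sz F m
  set q := Fintype.card F with hq
  obtain ⟨h8, -, h3n, -⟩ := q_facts hF hm
  rw [← hq] at h8 h3n
  set S := Finset.univ.filter fun g : G => ∀ a : Cfsg.suzukiOvoid F m, g • a ≠ a with hS
  have hScard : 2 * S.card = q ^ 3 * (q - 1) ^ 2 := fpf_count hF hm
  set X := Finset.univ.filter fun x : G => (orderOf x).Prime ∧ orderOf x ∣ q ^ 2 + 1 with hX
  have hXmem : ∀ x, x ∈ X ↔ (orderOf x).Prime ∧ orderOf x ∣ q ^ 2 + 1 := fun x => by simp [hX]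
  have hcardG : Fintype.card G = q ^ 2 * (q ^ 2 + 1) * (q - 1) := by
    rw [← Nat.card_eq_fintype_card, card_sz hF hm]
  have hnG : q ^ 2 + 1 ∣ Fintype.card G := ⟨q ^ 2 * (q - 1), by rw [hcardG]; ring⟩
  let U : G → Subgroup G := fun x => Subgroup.centralizer ({x} : Set G)
  let A : G → Finset G := fun x => Finset.univ.filter fun g : G => g ≠ 1 ∧ ∃ c : G, c * g * c⁻¹ ∈ U x
  -- the tori are disjoint
  have hTI : ∀ x ∈ X, ∀ y ∈ X, ∀ g : G, g ≠ 1 → g ∈ U x → g ∈ U y → U x = U y := by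
    intro x hx y hy g hg1 hgx hgy
    obtain ⟨hxp, hxd⟩ := (hXmem x).1 hx
    obtain ⟨hyp, hyd⟩ := (hXmem y).1 hy
    exact (eq_torus hF hm hxp hxd rfl hgx hg1).symm.trans (eq_torus hF hm hyp hyd rfl hgy hg1)
  -- conjugation
  have hUconj : ∀ c x : G, (U x).map (MulAut.conj c).toMonoidHom = U (c * x * c⁻¹) := by
    intro c x
    refine le_antisymm ?_ ?_
    · rintro _ ⟨g, hg, rfl⟩
      refine Subgroup.mem_centralizer_singleton_iff.2 ?_
      have e := Subgroup.mem_centralizer_singleton_iff.1 hg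
      show c * g * c⁻¹ * (c * x * c⁻¹) = c * x * c⁻¹ * (c * g * c⁻¹)
      rw [conj_mul, conj_mul, e]
    · intro g hg
      have e := Subgroup.mem_centralizer_singleton_iff.1 hg
      refine ⟨c⁻¹ * g * c, Subgroup.mem_centralizer_singleton_iff.2 ?_, by simp [mul_assoc]⟩
      calc c⁻¹ * g * c * x = c⁻¹ * (g * (c * x * c⁻¹)) * c := by group
        _ = x * (c⁻¹ * g * c) := by rw [e]; group
  have hXconj : ∀ c x : G, x ∈ X → c * x * c⁻¹ ∈ X := fun c x hx => by
    have ho : orderOf (c * x * c⁻¹) = orderOf x := by rw [← MulAut.conj_apply, MulEquiv.orderOf_eq]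
    rw [hXmem, ho]; exact (hXmem x).1 hx
  -- every fixed-point-free element lies in a torus
  have hcover : ∀ g ∈ S, ∃ x ∈ X, g ∈ U x := by
    intro g hg
    have hfix := (Finset.mem_filter.1 hg).2
    have hg1 : g ≠ 1 := fun h => hfix ⟨_, inf_mem⟩ (h ▸ one_smul _ _)
    obtain ⟨r, hr, hrd⟩ := Nat.exists_prime_and_dvd (fun h => hg1 (orderOf_eq_one_iff.1 h))
    have hy := orderOf_pow_orderOf_div (orderOf_pos g).ne' hrd
    exact ⟨_, (hXmem _).2 ⟨by rwa [hy], by rw [hy]; exact prime_dvd_of_fpf hF hm hfix hr hrd⟩,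
      Subgroup.mem_centralizer_singleton_iff.2 (Commute.self_pow g _).eq⟩
  have hsubS : ∀ x ∈ X, A x ⊆ S := by
    intro x hx g hg
    obtain ⟨-, hg1, c, hc⟩ := Finset.mem_filter.1 hg
    obtain ⟨hxp, hxd⟩ := (hXmem x).1 hx
    obtain ⟨-, hfpf, -⟩ := torus hF hm hxp hxd rfl
    refine Finset.mem_filter.2 ⟨Finset.mem_univ _, fun a ha => hfpf _ hc (fun h => hg1 (conj_eq_one_iff.1 h)) (c • a) ?_⟩
    rw [mul_smul, mul_smul, inv_smul_smul, ha]
  -- the size of the union of the conjugates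
  have hA : ∀ x ∈ X, ∃ e u, (e = 1 ∨ e = 2 ∨ e = 4) ∧ u = Nat.card (U x) ∧ u ∣ q ^ 2 + 1 ∧ 5 ≤ u ∧
      Nat.card (Subgroup.normalizer ((U x : Subgroup G) : Set G)) = e * u ∧
      (A x).card * (e * u) = Fintype.card G * (u - 1) := by
    intro x hx
    obtain ⟨hxp, hxd⟩ := (hXmem x).1 hx
    obtain ⟨-, -, hdvd, -⟩ := torus hF hm hxp hxd rfl
    obtain ⟨e, he, hN⟩ := torus_index hF hm hxp hxd rfl
    refine ⟨e, Nat.card (U x), he, rfl, hdvd, ?_, hN, ?_⟩
    · have h5 : 5 ≤ orderOf x := by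
        have h2 := ((q_facts hF hm).2.2.2 _ hxp hxd).1
        have h3 : orderOf x ≠ 3 := fun h => h3n (h ▸ hxd)
        have := hxp.two_le
        have h4 : orderOf x ≠ 4 := fun h => by rw [h] at hxp; norm_num at hxp
        omega
      have hxU : x ∈ U x := Subgroup.mem_centralizer_singleton_iff.2 rfl
      have := orderOf_dvd_natCard (⟨x, hxU⟩ : U x)
      rw [Subgroup.orderOf_mk] at this
      exact h5.trans (Nat.le_of_dvd Nat.card_pos this)
    · -- double count pairs `(c, g)`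
      have h1 : ∀ g ∈ A x, (Finset.univ.filter fun c : G => c * g * c⁻¹ ∈ U x).card = e * Nat.card (U x) := by
        intro g hg
        obtain ⟨-, hg1, c₀, hc₀⟩ := Finset.mem_filter.1 hg
        rw [← hN, Nat.card_eq_fintype_card, ← Finset.card_univ]
        symm
        refine Finset.card_bij (fun n _ => (n : G) * c₀) (fun n _ => Finset.mem_filter.2 ⟨Finset.mem_univ _, ?_⟩)
          (fun a _ b _ h => Subtype.ext (mul_right_cancel h)) (fun c hc => ?_)
        · have := (Subgroup.mem_normalizer_iff.1 n.2 _).1 hc₀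
          convert this using 1; group
        · obtain ⟨-, hc⟩ := Finset.mem_filter.1 hc
          refine ⟨⟨c * c₀⁻¹, ?_⟩, Finset.mem_univ _, inv_mul_cancel_right c c₀⟩
          have e1 : U ((c * c₀⁻¹) * x * (c * c₀⁻¹)⁻¹) = U x := by
            refine hTI _ (hXconj _ _ hx) _ hx (c * g * c⁻¹) (fun h => hg1 (conj_eq_one_iff.1 h)) ?_ hc
            rw [← hUconj]
            exact ⟨c₀ * g * c₀⁻¹, hc₀, by simp [mul_assoc]⟩
          rw [← hUconj] at e1
          exact Subgroup.mem_normalizer_iff.2 fun w => by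
            refine ⟨fun hw => ?_, fun hw => ?_⟩
            · have := Subgroup.mem_map_of_mem (MulAut.conj (c * c₀⁻¹)).toMonoidHom hw
              rw [e1] at this
              exact this
            change _ ∈ U x at hw
            rw [← e1] at hw
            obtain ⟨w', hw', he'⟩ := hw
            have : w' = w := by
              simp only [MulEquiv.coe_toMonoidHom, MulAut.conj_apply] at he'
              exact mul_left_cancel (mul_right_cancel he')
            exact this ▸ hw'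
      have h2 : ∀ c : G, ((A x).filter fun g => c * g * c⁻¹ ∈ U x).card = Nat.card (U x) - 1 := by
        intro c
        rw [Nat.card_eq_fintype_card, ← Finset.card_univ, ← Finset.card_erase_of_mem (Finset.mem_univ (1 : U x))]
        symm
        refine Finset.card_bij (fun w _ => c⁻¹ * (w : G) * c) (fun w hw => ?_)
          (fun a _ b _ h => Subtype.ext (mul_left_cancel (mul_right_cancel h))) (fun g hg => ?_)
        · have e : c * (c⁻¹ * (w : G) * c) * c⁻¹ = w := by group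
          refine Finset.mem_filter.2 ⟨Finset.mem_filter.2 ⟨Finset.mem_univ _, fun h => ?_, c, by rw [e]; exact w.2⟩,
            by rw [e]; exact w.2⟩
          exact Finset.ne_of_mem_erase hw (Subtype.ext (by rw [← e, h]; simp))
        · obtain ⟨hgA, hc⟩ := Finset.mem_filter.1 hg
          refine ⟨⟨_, hc⟩, Finset.mem_erase.2 ⟨fun h => (Finset.mem_filter.1 hgA).2.1 ?_, Finset.mem_univ _⟩, by simp [mul_assoc]⟩
          exact conj_eq_one_iff.1 (congrArg Subtype.val h)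
      have h := Finset.sum_card_bipartiteAbove_eq_sum_card_bipartiteBelow
        (s := A x) (t := (Finset.univ : Finset G)) (fun g c => c * g * c⁻¹ ∈ U x)
      have e1 : ∀ g ∈ A x, ((Finset.univ : Finset G).bipartiteAbove (fun g c => c * g * c⁻¹ ∈ U x) g).card =
          e * Nat.card (U x) := fun g hg => h1 g hg
      have e2 : ∀ c : G, ((A x).bipartiteBelow (fun g c => c * g * c⁻¹ ∈ U x) c).card = Nat.card (U x) - 1 :=
        fun c => h2 c
      rw [Finset.sum_congr rfl e1, Finset.sum_congr rfl (fun c _ => e2 c), Finset.sum_const,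
        Finset.sum_const, smul_eq_mul, smul_eq_mul, Finset.card_univ] at h
      exact h
  -- classes
  have hdisj : ∀ x ∈ X, ∀ y ∈ X, (∀ c, U (c * x * c⁻¹) ≠ U y) → Disjoint (A x) (A y) := by
    intro x hx y hy hne
    rw [Finset.disjoint_left]
    intro g hgx hgy
    obtain ⟨-, hg1, c, hc⟩ := Finset.mem_filter.1 hgx
    obtain ⟨-, -, d, hd⟩ := Finset.mem_filter.1 hgy
    refine hne (d * c⁻¹) (hTI _ (hXconj _ _ hx) _ hy (d * g * d⁻¹) (fun h => hg1 (conj_eq_one_iff.1 h)) ?_ hd)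
    rw [← hUconj]
    exact ⟨c * g * c⁻¹, hc, by simp [mul_assoc]⟩
  have hq1 : 1 ≤ q := by omega
  have hSlt : 2 * S.card < Fintype.card G ∧ Fintype.card G < 4 * S.card := by
    rw [hcardG]
    obtain ⟨w, hw⟩ : ∃ w, q = w + 1 := ⟨q - 1, by omega⟩
    rw [hw] at h8 hScard ⊢
    rw [Nat.add_sub_cancel] at hScard ⊢
    constructor
    · rw [hScard]
      have : 0 < w := by omega
      have : 0 < (w + 1) ^ 2 * w := by positivity
      nlinarith
    · have : 0 < w := by omega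
      have : 0 < (w + 1) ^ 2 * w := by positivity
      nlinarith
  have hbnd : ∀ (a e u G₀ : ℕ), 5 ≤ u → a * (e * u) = G₀ * (u - 1) → 4 * G₀ ≤ 5 * (e * a) ∧ e * a ≤ G₀ := by
    intro a e u G₀ hu h
    obtain ⟨v, rfl⟩ : ∃ v, u = v + 1 := ⟨u - 1, by omega⟩
    rw [Nat.add_sub_cancel] at h
    exact ⟨Nat.le_of_mul_le_mul_right (c := v + 1) (by nlinarith) (by omega),
      Nat.le_of_mul_le_mul_right (c := v + 1) (by nlinarith) (by omega)⟩
  -- a Sylow subgroup lies in one torus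
  have hsyl : ∀ r : ℕ, r.Prime → r ∣ q ^ 2 + 1 →
      ∃ z ∈ X, (∀ x : G, orderOf x = r → ∃ c, U (c * z * c⁻¹) = U x) ∧
        (∀ n, r ^ n ∣ q ^ 2 + 1 → r ^ n ∣ Nat.card (U z)) := by
    intro r hr hrd
    haveI := Fact.mk hr
    obtain ⟨P⟩ : Nonempty (Sylow r G) := inferInstance
    obtain ⟨x, hx⟩ := exists_prime_orderOf_dvd_card' r (P.dvd_card_of_dvd_card (by
      rw [Nat.card_eq_fintype_card]; exact hrd.trans hnG))
    have hx' : orderOf (x : G) = r := by rw [Subgroup.orderOf_coe, hx]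
    have hcy := sylow_cyclic hF hm (p := r) (((q_facts hF hm).2.2.2 r hr hrd).1) P
    letI := hcy.commGroup
    have hPU : (P : Subgroup G) ≤ U x := fun a ha => Subgroup.mem_centralizer_singleton_iff.2
      (congrArg Subtype.val (mul_comm (⟨a, ha⟩ : (P : Subgroup G)) x))
    refine ⟨x, (hXmem _).2 (by rw [hx']; exact ⟨hr, hrd⟩), fun y hy => ?_, fun n hn => ?_⟩
    · obtain ⟨Q, hQ⟩ := (IsPGroup.of_card (n := 1) (by rw [Nat.card_zpowers, hy, pow_one]) :
        IsPGroup r (Subgroup.zpowers y)).exists_le_sylow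
      obtain ⟨c, hc⟩ := MulAction.exists_smul_eq G P Q
      have hmem : y ∈ (Q : Subgroup G) := hQ (Subgroup.mem_zpowers y)
      rw [← hc] at hmem
      obtain ⟨w, hw, hwe⟩ := hmem
      refine ⟨c, hTI _ (hXconj _ _ ((hXmem _).2 (by rw [hx']; exact ⟨hr, hrd⟩))) _ ((hXmem _).2 (by rw [hy]; exact ⟨hr, hrd⟩)) y
        (fun h => by rw [h, orderOf_one] at hy; exact hr.ne_one hy.symm) ?_
        (Subgroup.mem_centralizer_singleton_iff.2 rfl)⟩
      rw [← hUconj]
      exact ⟨w, hPU hw, hwe⟩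
    · refine Nat.dvd_trans ?_ (Subgroup.card_dvd_of_le hPU)
      rw [P.card_eq_multiplicity]
      have h0 : Nat.card G ≠ 0 := Nat.card_pos.ne'
      exact pow_dvd_pow r ((hr.pow_dvd_iff_le_factorization h0).1
        (hn.trans (by rw [Nat.card_eq_fintype_card]; exact hnG)))
  -- no class with index one or two
  have hfour : ∀ x ∈ X, ∀ e u, (e = 1 ∨ e = 2 ∨ e = 4) → u = Nat.card (U x) → u ∣ q ^ 2 + 1 → 5 ≤ u →
      (A x).card * (e * u) = Fintype.card G * (u - 1) → e = 4 := by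
    intro x hx e u he hu hud hu5 hAc
    obtain ⟨hb1, hb2⟩ := hbnd _ _ _ _ hu5 hAc
    have hle := Finset.card_le_card (hsubS x hx)
    rcases he with rfl | rfl | rfl
    · omega
    · exfalso
      by_cases hall : ∀ y ∈ X, ∃ c, U (c * x * c⁻¹) = U y
      · have hSA : S ⊆ A x := fun g hg => by
          obtain ⟨y, hy, hgy⟩ := hcover g hg
          obtain ⟨c, hc⟩ := hall y hy
          rw [← hc, ← hUconj] at hgy
          obtain ⟨w, hw, rfl⟩ := hgy
          refine Finset.mem_filter.2 ⟨Finset.mem_univ _, fun h => ?_, c⁻¹, by simpa [mul_assoc] using hw⟩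
          exact (Finset.mem_filter.1 hg).2 ⟨_, inf_mem⟩ (by rw [h]; exact one_smul _ _)
        have hSeq : (A x).card = S.card := le_antisymm hle (Finset.card_le_card hSA)
        have hun : u = q ^ 2 + 1 := by
          refine Nat.dvd_antisymm hud ?_
          refine (Nat.dvd_iff_prime_pow_dvd_dvd u (q ^ 2 + 1)).2 fun r k hr hrk => ?_
          rcases Nat.eq_zero_or_pos k with rfl | hk
          · simp
          obtain ⟨z, hz, -, hzd⟩ := hsyl r hr ((dvd_pow_self r hk.ne').trans hrk)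
          obtain ⟨c, hc⟩ := hall z hz
          have hcd := hzd k hrk
          rw [← hc, ← hUconj, Subgroup.card_map_of_injective (MulAut.conj c).injective, ← hu] at hcd
          exact hcd
        rw [hSeq, hun, hcardG, Nat.add_sub_cancel] at hAc
        obtain ⟨w, hw⟩ : ∃ w, q = w + 1 := ⟨q - 1, by omega⟩
        rw [hw] at hAc hScard h8
        rw [Nat.add_sub_cancel] at hAc hScard
        have : 0 < w := by omega
        have : 0 < (w + 1) ^ 3 * w := by positivity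
        nlinarith
      · push Not at hall
        obtain ⟨y, hy, hne⟩ := hall
        obtain ⟨e', u', he', -, -, hu5', -, hAc'⟩ := hA y hy
        obtain ⟨hb1', -⟩ := hbnd _ _ _ _ hu5' hAc'
        have hun := Finset.card_le_card (Finset.union_subset (hsubS x hx) (hsubS y hy))
        rw [Finset.card_union_of_disjoint (hdisj x hx y hy hne)] at hun
        rcases he' with rfl | rfl | rfl <;> omega
    · rfl
  -- two classes
  obtain ⟨x₁, hx₁⟩ : ∃ x, x ∈ X := by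
    obtain ⟨g, hg⟩ : S.Nonempty := Finset.card_pos.1 (by omega)
    obtain ⟨x, hx, -⟩ := hcover g hg
    exact ⟨x, hx⟩
  obtain ⟨e₁, u₁, he₁, hu₁, hud₁, hu₁5, hN₁, hA₁⟩ := hA x₁ hx₁
  obtain rfl := hfour x₁ hx₁ e₁ u₁ he₁ hu₁ hud₁ hu₁5 hA₁
  obtain ⟨x₂, hx₂, hne⟩ : ∃ y ∈ X, ∀ c, U (c * x₁ * c⁻¹) ≠ U y := by
    by_contra hno
    push Not at hno
    obtain ⟨-, hb2⟩ := hbnd _ _ _ _ hu₁5 hA₁
    have hSA : S ⊆ A x₁ := fun g hg => by
      obtain ⟨y, hy, hgy⟩ := hcover g hg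
      obtain ⟨c, hc⟩ := hno y hy
      rw [← hc, ← hUconj] at hgy
      obtain ⟨w, hw, rfl⟩ := hgy
      refine Finset.mem_filter.2 ⟨Finset.mem_univ _, fun h => ?_, c⁻¹, by simpa [mul_assoc] using hw⟩
      exact (Finset.mem_filter.1 hg).2 ⟨_, inf_mem⟩ (by rw [h]; exact one_smul _ _)
    have := Finset.card_le_card hSA
    omega
  obtain ⟨e₂, u₂, he₂, hu₂, hud₂, hu₂5, hN₂, hA₂⟩ := hA x₂ hx₂
  obtain rfl := hfour x₂ hx₂ e₂ u₂ he₂ hu₂ hud₂ hu₂5 hA₂
  have hall : ∀ z ∈ X, (∃ c, U (c * x₁ * c⁻¹) = U z) ∨ ∃ c, U (c * x₂ * c⁻¹) = U z := by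
    intro z hz
    by_contra h
    push Not at h
    obtain ⟨h1, h2⟩ := h
    obtain ⟨e₃, u₃, he₃, hu₃, hud₃, hu₃5, -, hA₃⟩ := hA z hz
    obtain rfl := hfour z hz e₃ u₃ he₃ hu₃ hud₃ hu₃5 hA₃
    obtain ⟨a1, -⟩ := hbnd _ _ _ _ hu₁5 hA₁
    obtain ⟨a2, -⟩ := hbnd _ _ _ _ hu₂5 hA₂
    obtain ⟨a3, -⟩ := hbnd _ _ _ _ hu₃5 hA₃
    have hun := Finset.card_le_card (Finset.union_subset
      (Finset.union_subset (hsubS x₁ hx₁) (hsubS x₂ hx₂)) (hsubS z hz))
    rw [Finset.card_union_of_disjoint (Finset.disjoint_union_left.2 ⟨hdisj x₁ hx₁ z hz h1, hdisj x₂ hx₂ z hz h2⟩),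
      Finset.card_union_of_disjoint (hdisj x₁ hx₁ x₂ hx₂ hne)] at hun
    omega
  have hsum : (A x₁).card + (A x₂).card = S.card := by
    rw [← Finset.card_union_of_disjoint (hdisj x₁ hx₁ x₂ hx₂ hne)]
    refine le_antisymm (Finset.card_le_card (Finset.union_subset (hsubS x₁ hx₁) (hsubS x₂ hx₂)))
      (Finset.card_le_card fun g hg => ?_)
    have hg1 : g ≠ 1 := fun h => (Finset.mem_filter.1 hg).2 ⟨_, inf_mem⟩ (by rw [h]; exact one_smul _ _)
    obtain ⟨y, hy, hgy⟩ := hcover g hg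
    rcases hall y hy with ⟨c, hc⟩ | ⟨c, hc⟩
    all_goals rw [← hc, ← hUconj] at hgy
    all_goals obtain ⟨w, hw, rfl⟩ := hgy
    · exact Finset.mem_union_left _ (Finset.mem_filter.2 ⟨Finset.mem_univ _, hg1, c⁻¹, by simpa [mul_assoc] using hw⟩)
    · exact Finset.mem_union_right _ (Finset.mem_filter.2 ⟨Finset.mem_univ _, hg1, c⁻¹, by simpa [mul_assoc] using hw⟩)
  have hprod : u₁ * u₂ = q ^ 2 + 1 := by
    have hco : u₁.Coprime u₂ := by
      refine Nat.coprime_of_dvd fun r hr h1 h2 => ?_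
      haveI := Fact.mk hr
      have hrd := h1.trans hud₁
      rw [hu₁] at h1
      rw [hu₂] at h2
      obtain ⟨y₁, hy₁⟩ := exists_prime_orderOf_dvd_card' r h1
      obtain ⟨y₂, hy₂⟩ := exists_prime_orderOf_dvd_card' r h2
      have ho₁ : orderOf (y₁ : G) = r := by rw [Subgroup.orderOf_coe, hy₁]
      have ho₂ : orderOf (y₂ : G) = r := by rw [Subgroup.orderOf_coe, hy₂]
      obtain ⟨z, hz, hzc, -⟩ := hsyl r hr hrd
      obtain ⟨c₁, hc₁⟩ := hzc _ ho₁
      obtain ⟨c₂, hc₂⟩ := hzc _ ho₂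
      have hne₁ : (y₁ : G) ≠ 1 := fun h => by rw [h, orderOf_one] at ho₁; exact hr.ne_one ho₁.symm
      have hne₂ : (y₂ : G) ≠ 1 := fun h => by rw [h, orderOf_one] at ho₂; exact hr.ne_one ho₂.symm
      have e₁ : U x₁ = U (y₁ : G) := hTI _ hx₁ _ ((hXmem _).2 (by rw [ho₁]; exact ⟨hr, hrd⟩)) _ hne₁ y₁.2
        (Subgroup.mem_centralizer_singleton_iff.2 rfl)
      have e₂ : U x₂ = U (y₂ : G) := hTI _ hx₂ _ ((hXmem _).2 (by rw [ho₂]; exact ⟨hr, hrd⟩)) _ hne₂ y₂.2
        (Subgroup.mem_centralizer_singleton_iff.2 rfl)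
      refine hne (c₂ * c₁⁻¹) ?_
      rw [e₂, ← hc₂, ← hUconj, ← hUconj, e₁, ← hc₁, ← hUconj, Subgroup.map_map]
      congr 1
      ext w
      simp [mul_assoc]
    refine Nat.dvd_antisymm (hco.mul_dvd_of_dvd_of_dvd hud₁ hud₂) ?_
    refine (Nat.dvd_iff_prime_pow_dvd_dvd _ _).2 fun r k hr hrk => ?_
    rcases Nat.eq_zero_or_pos k with rfl | hk
    · simp
    obtain ⟨z, hz, -, hzd⟩ := hsyl r hr ((dvd_pow_self r hk.ne').trans hrk)
    have hcd := hzd k hrk
    rcases hall z hz with ⟨c, hc⟩ | ⟨c, hc⟩ <;>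
      rw [← hc, ← hUconj, Subgroup.card_map_of_injective (MulAut.conj c).injective] at hcd
    · exact (hu₁ ▸ hcd).trans (dvd_mul_right _ _)
    · exact (hu₂ ▸ hcd).trans (dvd_mul_left _ _)
  -- the equation
  set R := 2 ^ (m + 1) with hR
  have hRR : R ^ 2 = 2 * q := by rw [hR, hF, ← pow_mul, ← pow_succ']; congr 1; ring
  have hsol : ((u₁ : ℤ) = q + R + 1 ∧ (u₂ : ℤ) = q - R + 1) ∨ ((u₂ : ℤ) = q + R + 1 ∧ (u₁ : ℤ) = q - R + 1) := by
    rw [hcardG] at hA₁ hA₂
    obtain ⟨v₁, hv₁⟩ : ∃ v, u₁ = v + 1 := ⟨u₁ - 1, by omega⟩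
    obtain ⟨v₂, hv₂⟩ : ∃ v, u₂ = v + 1 := ⟨u₂ - 1, by omega⟩
    obtain ⟨w, hw⟩ : ∃ w, q = w + 1 := ⟨q - 1, by omega⟩
    rw [hw] at hA₁ hA₂ hScard hprod hRR ⊢
    rw [hv₁, Nat.add_sub_cancel, Nat.add_sub_cancel] at hA₁
    rw [hv₂, Nat.add_sub_cancel, Nat.add_sub_cancel] at hA₂
    rw [Nat.add_sub_cancel] at hScard
    rw [hv₁, hv₂] at hprod ⊢
    zify at hA₁ hA₂ hScard hprod hsum hRR
    push_cast
    have hne0 : ((w : ℤ) + 1) ^ 2 * w * (((w : ℤ) + 1) ^ 2 + 1) ≠ 0 := by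
      have : 0 < w := by omega
      positivity
    have hlin : (v₁ : ℤ) + v₂ + 2 = 2 * ((w : ℤ) + 1) + 2 := by
      refine mul_left_cancel₀ hne0 ?_
      linear_combination ((v₂ : ℤ) + 1) * hA₁ + ((v₁ : ℤ) + 1) * hA₂
        - 2 * ((v₁ : ℤ) + 1) * ((v₂ : ℤ) + 1) * hScard - 4 * ((v₁ : ℤ) + 1) * ((v₂ : ℤ) + 1) * hsum
        + (2 * ((w : ℤ) + 1) ^ 2 * (((w : ℤ) + 1) ^ 2 + 1) * w - 2 * ((w : ℤ) + 1) ^ 3 * (w : ℤ) ^ 2) * hprod
    have hfac : ((v₁ : ℤ) - ((w + 1) + R)) * ((v₁ : ℤ) - ((w + 1) - R)) = 0 := by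
      linear_combination ((v₁ : ℤ) + 1) * hlin - hprod - hRR
    rcases mul_eq_zero.1 hfac with h | h
    · exact Or.inl ⟨by linarith, by linarith⟩
    · exact Or.inr ⟨by linarith, by linarith⟩
  have out : ∀ x ∈ X, ∀ u : ℕ, u = Nat.card (U x) → Nat.card (Subgroup.normalizer ((U x : Subgroup G) : Set G)) = 4 * u →
      ∀ k, u = k → ∃ V : Subgroup G, IsCyclic V ∧ Nat.card V = k ∧ (∀ w ∈ V, w ≠ 1 → Subgroup.centralizer {w} = V) ∧
        Nat.card (Subgroup.normalizer (V : Set G)) = 4 * k := by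
    intro x hx u hu hN k hk
    obtain ⟨hxp, hxd⟩ := (hXmem x).1 hx
    subst hk
    exact ⟨U x, (torus hF hm hxp hxd rfl).1, hu.symm, fun w hw hw1 => eq_torus hF hm hxp hxd rfl hw hw1, hN⟩
  have hRq : R ≤ q := by
    rw [hR, hF]; exact Nat.pow_le_pow_right (by norm_num) (by omega)
  intro k hk
  try rw [← hF] at hk
  simp only [Set.mem_insert_iff, Set.mem_singleton_iff] at hk
  rcases hsol with ⟨a, b⟩ | ⟨a, b⟩ <;> rcases hk with rfl | rfl
  · exact out x₁ hx₁ u₁ hu₁ hN₁ _ (by omega)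
  · exact out x₂ hx₂ u₂ hu₂ hN₂ _ (by omega)
  · exact out x₂ hx₂ u₂ hu₂ hN₂ _ (by omega)
  · exact out x₁ hx₁ u₁ hu₁ hN₁ _ (by omega)

/-- Every torus is conjugate to one of the two. -/
theorem torus_conj {p : ℕ} (hp : p.Prime) (hd : p ∣ Fintype.card F ^ 2 + 1) {x : Cfsg.Sz F m}
    (hx : orderOf x = p) :
    ∃ (U : Subgroup (Cfsg.Sz F m)) (c : Cfsg.Sz F m), Nat.card (Subgroup.normalizer (U : Set (Cfsg.Sz F m))) = 4 * Nat.card U ∧
      Nat.card U ∈ ({2 ^ (2 * m + 1) + 2 ^ (m + 1) + 1, 2 ^ (2 * m + 1) - 2 ^ (m + 1) + 1} : Set ℕ) ∧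
      U = (Subgroup.centralizer ({x} : Set (Cfsg.Sz F m))).map (MulAut.conj c).toMonoidHom := by
  haveI := Fact.mk hp
  obtain ⟨U₁, hc₁, hk₁, hU₁, hN₁⟩ := two_tori hF hm _ (Or.inl rfl)
  obtain ⟨U₂, hc₂, hk₂, hU₂, hN₂⟩ := two_tori hF hm _ (Or.inr rfl)
  have hprod : Nat.card U₁ * Nat.card U₂ = Fintype.card F ^ 2 + 1 := by
    rw [hk₁, hk₂, hF]
    have h1 : 2 ^ (m + 1) ≤ 2 ^ (2 * m + 1) := Nat.pow_le_pow_right (by norm_num) (by omega)
    have h2 : (2 ^ (m + 1)) ^ 2 = 2 * 2 ^ (2 * m + 1) := by rw [← pow_mul, ← pow_succ']; congr 1; ring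
    zify [h1] at h2 ⊢
    linear_combination -h2
  -- some conjugate of one of the two contains `x`
  obtain ⟨U, hU, hN, hdU, hset⟩ : ∃ U : Subgroup (Cfsg.Sz F m), (∀ u ∈ U, u ≠ 1 → Subgroup.centralizer {u} = U) ∧
      Nat.card (Subgroup.normalizer (U : Set (Cfsg.Sz F m))) = 4 * Nat.card U ∧ p ∣ Nat.card U ∧
      Nat.card U ∈ ({2 ^ (2 * m + 1) + 2 ^ (m + 1) + 1, 2 ^ (2 * m + 1) - 2 ^ (m + 1) + 1} : Set ℕ) := by
    rcases hp.dvd_mul.1 (hprod ▸ hd) with h | h
    · exact ⟨U₁, hU₁, by rw [hN₁, hk₁], h, Or.inl hk₁⟩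
    · exact ⟨U₂, hU₂, by rw [hN₂, hk₂], h, Or.inr hk₂⟩
  obtain ⟨y, hy⟩ := exists_prime_orderOf_dvd_card' p hdU
  have hy' : orderOf (y : Cfsg.Sz F m) = p := by rw [Subgroup.orderOf_coe, hy]
  have hy1 : (y : Cfsg.Sz F m) ≠ 1 := fun h => by rw [h, orderOf_one] at hy'; exact hp.ne_one hy'.symm
  -- move `x` next to `y` by Sylow
  have hp2 := ((q_facts hF hm).2.2.2 p hp hd).1
  obtain ⟨P, hP⟩ := (IsPGroup.of_card (n := 1) (by rw [Nat.card_zpowers, hx, pow_one]) :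
    IsPGroup p (Subgroup.zpowers x)).exists_le_sylow
  obtain ⟨Q, hQ⟩ := (IsPGroup.of_card (n := 1) (by rw [Nat.card_zpowers, hy', pow_one]) :
    IsPGroup p (Subgroup.zpowers (y : Cfsg.Sz F m))).exists_le_sylow
  obtain ⟨c, hc⟩ := MulAction.exists_smul_eq (Cfsg.Sz F m) P Q
  have hcx : c * x * c⁻¹ ∈ (Q : Subgroup (Cfsg.Sz F m)) := by
    rw [← hc]; exact ⟨x, hP (Subgroup.mem_zpowers x), rfl⟩
  haveI hQc := sylow_cyclic hF hm hp2 Q
  have hcomm : c * x * c⁻¹ * y = y * (c * x * c⁻¹) := congrArg Subtype.val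
    (hQc.commGroup.mul_comm (⟨_, hcx⟩ : (Q : Subgroup (Cfsg.Sz F m))) ⟨_, hQ (Subgroup.mem_zpowers _)⟩)
  have hmem : c * x * c⁻¹ ∈ U := by
    rw [← hU y y.2 hy1]
    exact Subgroup.mem_centralizer_singleton_iff.2 hcomm
  have hcx1 : c * x * c⁻¹ ≠ 1 := fun h => by
    rw [conj_eq_one_iff.1 h, orderOf_one] at hx; exact hp.ne_one hx.symm
  have hUeq : U = (Subgroup.centralizer ({x} : Set (Cfsg.Sz F m))).map (MulAut.conj c).toMonoidHom := by
    rw [← hU _ hmem hcx1]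
    refine le_antisymm (fun g hg => ?_) ?_
    · have e := Subgroup.mem_centralizer_singleton_iff.1 hg
      refine ⟨c⁻¹ * g * c, Subgroup.mem_centralizer_singleton_iff.2 ?_, by simp [mul_assoc]⟩
      calc c⁻¹ * g * c * x = c⁻¹ * (g * (c * x * c⁻¹)) * c := by group
        _ = x * (c⁻¹ * g * c) := by rw [e]; group
    · rintro _ ⟨g, hg, rfl⟩
      refine Subgroup.mem_centralizer_singleton_iff.2 ?_
      show c * g * c⁻¹ * (c * x * c⁻¹) = c * x * c⁻¹ * (c * g * c⁻¹)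
      rw [conj_mul, conj_mul, Subgroup.mem_centralizer_singleton_iff.1 hg]
  exact ⟨U, c, hN, hset, hUeq⟩

/-- Every torus has index four in its normaliser. -/
theorem torus_index_eq_four {p : ℕ} (hp : p.Prime) (hd : p ∣ Fintype.card F ^ 2 + 1) {x : Cfsg.Sz F m}
    (hx : orderOf x = p) :
    Nat.card (Subgroup.normalizer ((Subgroup.centralizer ({x} : Set (Cfsg.Sz F m)) : Subgroup _) : Set (Cfsg.Sz F m))) =
      4 * Nat.card (Subgroup.centralizer ({x} : Set (Cfsg.Sz F m))) := by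
  obtain ⟨U, c, hN, -, hUeq⟩ := torus_conj hF hm hp hd hx
  rw [hUeq, ← Subgroup.map_equiv_normalizer_eq, Subgroup.card_map_of_injective (MulAut.conj c).injective,
    Subgroup.card_map_of_injective (MulAut.conj c).injective] at hN
  exact hN

end Cfsg.Agent.Lie.Suzuki
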