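import Cfsg.Agent.Lib.Lie.SuzukiTori
import Cfsg.Agent.Lib.Lie.SuzukiToriCount
import Cfsg.Agent.Lib.Small.SuzukiSylowFacts
import Cfsg.Agent.Lib.Small.SuzukiAut

/-!
# Actions of fixity two of the Suzuki groups
-/

set_option autoImplicit false

namespace Cfsg.Agent.Lie.Suzuki

open MulAction

variable {F : Type*} [Field F] {m : ℕ} [Fintype F] (hF : Fintype.card F = 2 ^ (2 * m + 1)) (hm : 1 ≤ m)
include hF hm

theorem two_point_card {a b : Cfsg.suzukiOvoid F m} (hab : a ≠ b) :
    Nat.card ↥(stabilizer (Cfsg.Sz F m) a ⊓ stabilizer (Cfsg.Sz F m) b) = Fintype.card F - 1 := by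
  classical
  have hne : (⟨_, inf_mem⟩ : Cfsg.suzukiOvoid F m) ≠ ⟨_, pt_mem (0 : F) 0⟩ :=
    fun h => pt_ne_inf 0 0 (congrArg Subtype.val h).symm
  obtain ⟨f, hf⟩ := two_point_cyclic hF hm hab
  refine le_antisymm ?_ ?_
  · rw [← Fintype.card_units, ← Nat.card_eq_fintype_card]
    exact Nat.card_le_card_of_injective f hf
  · obtain ⟨g, ga, gb⟩ := MulAction.is_two_pretransitive_iff.1 (sz_two_pretransitive (m := m) hF) hne hab
    have hmem : ∀ k : Fˣ, g * dS hF k * g⁻¹ ∈ stabilizer (Cfsg.Sz F m) a ⊓ stabilizer (Cfsg.Sz F m) b := fun k => by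
      have h1 : dS hF k • (⟨_, inf_mem⟩ : Cfsg.suzukiOvoid F m) = ⟨_, inf_mem⟩ := Subtype.ext (dM_inf k)
      have h2 : dS hF k • (⟨_, pt_mem (0 : F) 0⟩ : Cfsg.suzukiOvoid F m) = ⟨_, pt_mem (0 : F) 0⟩ :=
        Subtype.ext (by show dM m k • pt m (0 : F) 0 = pt m 0 0; rw [dM_pt hF, mul_zero, mul_zero])
      rw [Subgroup.mem_inf, mem_stabilizer_iff, mem_stabilizer_iff]
      constructor
      · rw [← ga, mul_smul, mul_smul, inv_smul_smul, h1]
      · rw [← gb, mul_smul, mul_smul, inv_smul_smul, h2]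
    rw [← Fintype.card_units, ← Nat.card_eq_fintype_card]
    exact Nat.card_le_card_of_injective (fun k => (⟨_, hmem k⟩ : ↥(stabilizer (Cfsg.Sz F m) a ⊓ stabilizer (Cfsg.Sz F m) b)))
      fun k l h => dM_injective (congrArg Subtype.val (mul_left_cancel (mul_right_cancel (congrArg Subtype.val h))))

/-- An element of odd order fixing a point fixes exactly two. -/
theorem odd_two_fixed {g : Cfsg.Sz F m} (hg : g ≠ 1) (hodd : ¬ 2 ∣ orderOf g) {a : Cfsg.suzukiOvoid F m}
    (ha : g • a = a) : ∃ b, b ≠ a ∧ g • b = b ∧ ∀ c, g • c = c → c = a ∨ c = b := by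
  obtain ⟨r, hr, hrd⟩ := Nat.exists_prime_and_dvd (fun h => hg (orderOf_eq_one_iff.1 h))
  haveI := Fact.mk hr
  have hr2 : r ≠ 2 := fun h => hodd (h ▸ hrd)
  set y := g ^ (orderOf g / r) with hy
  have hyo : orderOf y = r := orderOf_pow_orderOf_div (orderOf_pos g).ne' hrd
  have hya : y • a = a := Subgroup.pow_mem (stabilizer (Cfsg.Sz F m) a) (mem_stabilizer_iff.2 ha) _
  have hP : IsPGroup r (Subgroup.zpowers y) := IsPGroup.of_card (n := 1) (by rw [Nat.card_zpowers, hyo, pow_one])
  obtain ⟨b, hb, hba⟩ : ∃ b : Cfsg.suzukiOvoid F m, y • b = b ∧ b ≠ a := by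
    by_contra hno
    push Not at hno
    have hfx : fixedPoints (Subgroup.zpowers y) (Cfsg.suzukiOvoid F m) = {a} := by
      ext b
      refine ⟨fun h => hno b (h ⟨_, Subgroup.mem_zpowers _⟩), fun h => ?_⟩
      rw [Set.mem_singleton_iff.1 h]
      rintro ⟨w, j, rfl⟩
      exact Subgroup.zpow_mem (stabilizer (Cfsg.Sz F m) a) (mem_stabilizer_iff.2 hya) j
    have hmod := hP.card_modEq_card_fixedPoints (Cfsg.suzukiOvoid F m)
    rw [card_points hF hm, hfx, Nat.card_coe_set_eq, Set.ncard_singleton] at hmod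
    have hd' := (Nat.modEq_iff_dvd' (by omega)).1 hmod.symm
    rw [Nat.add_sub_cancel] at hd'
    have h := hr.dvd_of_dvd_pow hd'
    rw [hF] at h
    exact hr2 ((Nat.prime_dvd_prime_iff_eq hr Nat.prime_two).1 (hr.dvd_of_dvd_pow h))
  have hy1 : y ≠ 1 := fun h => by rw [h, orderOf_one] at hyo; exact hr.ne_one hyo.symm
  have honly : ∀ c : Cfsg.suzukiOvoid F m, y • c = c → c = a ∨ c = b := by
    intro c hc
    by_contra h
    push Not at h
    exact hy1 ((zassenhaus hF hm).2.2.1 y a b c hba.symm h.2.symm h.1.symm hya hb hc)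
  have hgb : g • b = b := by
    refine (honly _ ?_).resolve_left fun h => hba (smul_left_cancel g (h.trans ha.symm))
    rw [← mul_smul, ← (Commute.self_pow g _).eq, mul_smul, hb]
  exact ⟨b, hba, hgb, fun c hc => honly c (Subgroup.pow_mem (stabilizer (Cfsg.Sz F m) c) (mem_stabilizer_iff.2 hc) _)⟩

/-- **Fixity two.** -/
theorem fixity_two {Ω : Type*} [Fintype Ω] [MulAction (Cfsg.Sz F m) Ω] [FaithfulSMul (Cfsg.Sz F m) Ω]
    (htr : IsPretransitive (Cfsg.Sz F m) Ω)
    (hfix : ∀ g : Cfsg.Sz F m, g ≠ 1 → Nat.card (fixedBy Ω g) ≤ 2)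
    (hex : ∃ g : Cfsg.Sz F m, g ≠ 1 ∧ Nat.card (fixedBy Ω g) = 2) :
    (Fintype.card Ω = Fintype.card F ^ 2 + 1 ∧ IsMultiplyPretransitive (Cfsg.Sz F m) Ω 2) ∨
      (Fintype.card Ω = Fintype.card F ^ 2 * (Fintype.card F ^ 2 + 1) ∧
        ∀ α : Ω, Nat.card (stabilizer (Cfsg.Sz F m) α) = Fintype.card F - 1) := by
  classical
  haveI := sz_pretransitive (m := m) hF
  set q := Fintype.card F with hq
  obtain ⟨h8, heven, -, -⟩ := q_facts hF hm
  rw [← hq] at h8 heven
  obtain ⟨g₀, hg₀, hg₀2⟩ := hex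
  obtain ⟨⟨α₀, hα₀⟩⟩ : Nonempty (fixedBy Ω g₀) := (Nat.card_pos_iff.1 (by omega)).1
  haveI : Nonempty Ω := ⟨α₀⟩
  have hfix' : ∀ g : Cfsg.Sz F m, g ≠ 1 → ∀ (A : Subgroup (Cfsg.Sz F m)) (α : Ω),
      (∀ x ∈ A, g • (x • α) = x • α) → Nat.card (orbit A α) ≤ 2 := by
    intro g hg A α h
    refine le_trans ?_ (hfix g hg)
    refine Nat.card_mono (Set.toFinite _) ?_
    rintro _ ⟨x, rfl⟩
    exact h x x.2
  -- subgroups of odd order with an orbit of size at most two fix the point
  have hodd_fix : ∀ (A : Subgroup (Cfsg.Sz F m)) (α : Ω), ¬ 2 ∣ Nat.card A → Nat.card (orbit A α) ≤ 2 →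
      ∀ x ∈ A, x • α = α := by
    intro A α hA hle x hx
    have hd : Nat.card (orbit A α) ∣ Nat.card A := by
      rw [Nat.card_congr (orbitEquivQuotientStabilizer A α)]
      exact ⟨_, Subgroup.card_eq_card_quotient_mul_card_subgroup _⟩
    have h1 : Nat.card (orbit A α) = 1 := by
      have h0 : 0 < Nat.card (orbit A α) := Nat.card_pos_iff.2 ⟨⟨⟨α, mem_orbit_self α⟩⟩, inferInstance⟩
      rcases (show Nat.card (orbit A α) = 1 ∨ Nat.card (orbit A α) = 2 by omega) with h | h
      · exact h
      · exact absurd (h ▸ hd) hA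
    obtain ⟨hs, -⟩ := Nat.card_eq_one_iff_unique.1 h1
    exact congrArg Subtype.val (Subsingleton.elim (⟨x • α, ⟨⟨x, hx⟩, rfl⟩⟩ : orbit A α) ⟨α, mem_orbit_self α⟩)
  have hidx : ∀ α : Ω, Fintype.card Ω * Nat.card (stabilizer (Cfsg.Sz F m) α) = q ^ 2 * (q ^ 2 + 1) * (q - 1) := by
    intro α
    rw [← Nat.card_eq_fintype_card, ← index_stabilizer_of_transitive (G := Cfsg.Sz F m) α, Subgroup.index_mul_card,
      card_sz hF hm]
  by_cases hev : ∃ z : Cfsg.Sz F m, orderOf z = 2 ∧ ∃ α : Ω, z • α = α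
  · left
    obtain ⟨z, hz, α', hzα'⟩ := hev
    haveI : Fact (Nat.Prime 2) := ⟨Nat.prime_two⟩
    obtain ⟨P, hP⟩ := (IsPGroup.of_card (n := 1) (by rw [Nat.card_zpowers, hz, pow_one]) :
      IsPGroup 2 (Subgroup.zpowers z)).exists_le_sylow
    obtain ⟨c, hc⟩ := Small.SuzukiFacts.exists_conj_uSub hF hm P
    have hzu : c⁻¹ * z * c ∈ uSub hF := by
      have := hP (Subgroup.mem_zpowers z)
      rw [hc] at this
      obtain ⟨w, hw, he⟩ := this
      rw [← he]
      simpa [mul_assoc] using hw
    set z₁ := c⁻¹ * z * c with hz₁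
    set α := c⁻¹ • α' with hα
    have hz₁α : z₁ • α = α := by rw [hz₁, hα, mul_smul, mul_smul, smul_inv_smul, hzα']
    have hz₁o : orderOf z₁ = 2 := by
      rw [hz₁, ← hz, show c⁻¹ * z * c = MulAut.conj c⁻¹ z by simp, MulEquiv.orderOf_eq]
    have hz₁1 : z₁ ≠ 1 := fun h => by rw [h, orderOf_one] at hz₁o; omega
    obtain ⟨b₀, hb₀⟩ : z₁ ∈ zSub hF :=
      (Small.SuzukiAut.mem_zSub_iff hF z₁).2 ⟨hzu, by rw [← pow_two, ← hz₁o, pow_orderOf_eq_one]⟩
    set H := stabilizer (Cfsg.Sz F m) α with hH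
    -- the orbit of the Sylow subgroup
    have horb : Nat.card (orbit (uSub (m := m) hF) α) ≤ 2 := hfix' z₁ hz₁1 _ α fun x hx => by
      obtain ⟨a, b, rfl⟩ := hx
      rw [← mul_smul, hb₀, tS_zero_comm hF, mul_smul, ← hb₀, hz₁α]
    have hsq : ∀ a b : F, tS (m := m) hF a b * tS hF a b ∈ H := by
      intro a b
      by_cases h : tS (m := m) hF a b • α = α
      · exact mul_mem (mem_stabilizer_iff.2 h) (mem_stabilizer_iff.2 h)
      rw [mem_stabilizer_iff, mul_smul]
      by_contra h2
      have hsub : ({α, tS (m := m) hF a b • α, tS (m := m) hF a b • tS (m := m) hF a b • α} : Set Ω) ⊆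
          orbit (uSub (m := m) hF) α := by
        rintro w (rfl | rfl | rfl)
        · exact mem_orbit_self _
        · exact ⟨⟨_, a, b, rfl⟩, rfl⟩
        · exact ⟨⟨_, a, b, rfl⟩ * ⟨_, a, b, rfl⟩, (mul_smul (tS hF a b) (tS hF a b) α)⟩
      have h3 := Set.ncard_le_ncard hsub (Set.toFinite _)
      rw [← Nat.card_coe_set_eq (orbit _ _), Set.ncard_insert_of_notMem (by
        rintro (e | e)
        · exact h e.symm
        · exact h2 e.symm), Set.ncard_pair (fun e => h (smul_left_cancel _ e).symm)] at h3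
      omega
    have hZ : ∀ b : F, tS (m := m) hF 0 b ∈ H := by
      intro b
      have := hsq (b ^ (2 ^ (m + 1) - 1)) 0
      rw [tS_mul hF, add_self hF, add_zero, zero_add, ← pow_succ, (sg_add_one_left_inv hF b).1] at this
      exact this
    have hD : ∀ k : Fˣ, dS (m := m) hF k • α = α := by
      intro k
      refine hodd_fix (dS (m := m) hF).range α ?_ (hfix' z₁ hz₁1 _ α ?_) _ ⟨k, rfl⟩
      · rw [← Nat.card_congr (MonoidHom.ofInjective (f := dS (m := m) hF)
          (fun k l h => dM_injective (congrArg Subtype.val h))).toEquiv, Nat.card_eq_fintype_card, Fintype.card_units]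
        obtain ⟨t, ht⟩ := heven
        omega
      · rintro _ ⟨l, rfl⟩
        have e : (dS hF l)⁻¹ * z₁ * dS hF l ∈ H := by
          rw [hb₀, ← map_inv, dS_mul_tS hF hm, mul_assoc, ← map_mul, inv_mul_cancel, map_one, mul_one, mul_zero]
          exact hZ _
        have e' := mem_stabilizer_iff.1 e
        rw [mul_smul, mul_smul, inv_smul_eq_iff] at e'
        exact e'
    have hU : ∀ a b : F, tS (m := m) hF a b ∈ H := by
      obtain ⟨a₁, b₁, ha₁, h₁⟩ : ∃ a b : F, a ≠ 0 ∧ tS (m := m) hF a b ∈ H := by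
        by_contra hno
        push Not at hno
        have hle : stabilizer (uSub (m := m) hF) α ≤ (zSub hF).subgroupOf (uSub hF) := by
          rintro ⟨g, a, b, rfl⟩ hg
          refine Subgroup.mem_subgroupOf.2 ⟨b, ?_⟩
          by_cases ha : a = 0
          · rw [ha]
          · exact absurd (mem_stabilizer_iff.2 hg) (hno a b ha)
        have h1 := Subgroup.card_le_of_le hle
        rw [Nat.card_congr (Subgroup.subgroupOfEquivOfLe (zSub_le hF)).toEquiv, card_zSub hF] at h1
        have h2 := (stabilizer (uSub (m := m) hF) α).index_mul_card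
        rw [index_stabilizer, card_uSub hF, ← Nat.card_coe_set_eq] at h2
        have : Nat.card (orbit (uSub (m := m) hF) α) * Nat.card (stabilizer (uSub (m := m) hF) α) ≤ 2 * q :=
          Nat.mul_le_mul horb h1
        nlinarith
      intro a b
      by_cases ha : a = 0
      · rw [ha]; exact hZ b
      set k : Fˣ := Units.mk0 (a / a₁) (div_ne_zero ha ha₁) with hk
      have h2 : tS (m := m) hF a ((k : F) ^ (2 ^ (m + 1) + 1) * b₁) ∈ H := by
        have h3 : dS hF k * tS hF a₁ b₁ * (dS hF k)⁻¹ ∈ H :=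
          mul_mem (mul_mem (mem_stabilizer_iff.2 (hD k)) h₁) (inv_mem (mem_stabilizer_iff.2 (hD k)))
        rw [dS_mul_tS hF hm, mul_inv_cancel_right, show (k : F) * a₁ = a from div_mul_cancel₀ a ha₁] at h3
        exact h3
      have h4 := mul_mem (hZ (b + (k : F) ^ (2 ^ (m + 1) + 1) * b₁)) h2
      rw [tS_mul hF, zero_add, zero_pow (by positivity), zero_mul, add_zero, add_assoc, add_self hF, add_zero] at h4
      exact h4
    have hS : stabilizer (Cfsg.Sz F m) (Cfsg.suzukiPointInfinity F) = H := by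
      have hle : stabilizer (Cfsg.Sz F m) (Cfsg.suzukiPointInfinity F) ≤ H := fun g hg => by
        obtain ⟨a, b, k, rfl⟩ := sz_fix hF hm g hg
        exact mul_mem (hU a b) (mem_stabilizer_iff.2 (hD k))
      by_contra hne
      have htop := (Small.SuzukiFacts.stab_maximal hF hm).1.2 H (lt_of_le_of_ne hle hne)
      refine hg₀ (FaithfulSMul.eq_of_smul_eq_smul (α := Ω) fun w => ?_)
      obtain ⟨t, rfl⟩ := exists_smul_eq (Cfsg.Sz F m) α w
      have e1 : g₀ * t ∈ H := htop ▸ Subgroup.mem_top _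
      have e2 : t ∈ H := htop ▸ Subgroup.mem_top _
      rw [one_smul, ← mul_smul, mem_stabilizer_iff.1 e1, mem_stabilizer_iff.1 e2]
    set p : Cfsg.suzukiOvoid F m := ⟨_, inf_mem⟩ with hp
    have hstab : ∀ g : Cfsg.Sz F m, g • p = p ↔ g • α = α := fun g => by
      rw [← mem_stabilizer_iff (a := α), ← hH, ← hS, mem_stabilizer_iff, Subtype.ext_iff, coe_smul_ovoid hF]
      rfl
    refine ⟨?_, ?_⟩
    · have h := hidx α
      rw [← hH, ← hS, card_stab_inf hF hm] at h
      refine Nat.eq_of_mul_eq_mul_right (show 0 < q ^ 2 * (q - 1) by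
        have : 0 < q - 1 := by omega
        positivity) ?_
      rw [← hq] at h
      rw [h]; ring
    · rw [is_two_pretransitive_iff]
      intro a b c d hab hcd
      obtain ⟨ga, rfl⟩ := exists_smul_eq (Cfsg.Sz F m) α a
      obtain ⟨gb, rfl⟩ := exists_smul_eq (Cfsg.Sz F m) α b
      obtain ⟨gc, rfl⟩ := exists_smul_eq (Cfsg.Sz F m) α c
      obtain ⟨gd, rfl⟩ := exists_smul_eq (Cfsg.Sz F m) α d
      have key : ∀ g h : Cfsg.Sz F m, g • p = h • p ↔ g • α = h • α := fun g h => by
        rw [← inv_smul_eq_iff, ← mul_smul, hstab, mul_smul, inv_smul_eq_iff]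
      obtain ⟨t, h1, h2⟩ := is_two_pretransitive_iff.1 (sz_two_pretransitive (m := m) hF)
        (fun h => hab ((key ga gb).1 h)) (fun h => hcd ((key gc gd).1 h))
      rw [← mul_smul, key, mul_smul] at h1 h2
      exact ⟨t, h1, h2⟩
  · right
    push Not at hev
    have hodd : ∀ (g : Cfsg.Sz F m) (α : Ω), g • α = α → ¬ 2 ∣ orderOf g := fun g α hg h =>
      hev _ (orderOf_pow_orderOf_div (orderOf_pos g).ne' h) α
        (Subgroup.pow_mem (stabilizer (Cfsg.Sz F m) α) (mem_stabilizer_iff.2 hg) _)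
    have hoddH : ∀ α : Ω, ¬ 2 ∣ Nat.card (stabilizer (Cfsg.Sz F m) α) := fun α h => by
      haveI : Fact (Nat.Prime 2) := ⟨Nat.prime_two⟩
      obtain ⟨g, hg⟩ := exists_prime_orderOf_dvd_card' 2 h
      exact hodd (g : Cfsg.Sz F m) α g.2 (by rw [Subgroup.orderOf_coe, hg])
    -- every element of a stabiliser fixes two points of the ovoid
    have hpair : ∀ (α : Ω) (g : Cfsg.Sz F m), g • α = α → g ≠ 1 → ∃ a b : Cfsg.suzukiOvoid F m, a ≠ b ∧
        (∀ c, g • c = c ↔ c = a ∨ c = b) ∧
        stabilizer (Cfsg.Sz F m) a ⊓ stabilizer (Cfsg.Sz F m) b ≤ stabilizer (Cfsg.Sz F m) α := by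
      intro α g hgα hg1
      by_cases hfree : ∀ a : Cfsg.suzukiOvoid F m, g • a ≠ a
      · exfalso
        obtain ⟨r, hr, hrd⟩ := Nat.exists_prime_and_dvd (fun h => hg1 (orderOf_eq_one_iff.1 h))
        have hrn := prime_dvd_of_fpf hF hm hfree hr hrd
        have hy := orderOf_pow_orderOf_div (orderOf_pos g).ne' hrd
        obtain ⟨hcy, -, hdvd, -⟩ := torus hF hm hr hrn hy
        set U := Subgroup.centralizer ({g ^ (orderOf g / r)} : Set (Cfsg.Sz F m)) with hU
        have hgU : g ∈ U := Subgroup.mem_centralizer_singleton_iff.2 (Commute.self_pow g _).eq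
        have hodU : ¬ 2 ∣ Nat.card U := fun h => by
          have h2 := h.trans hdvd
          rw [← even_iff_two_dvd, Nat.even_add_one] at h2
          exact h2 (heven.pow_of_ne_zero two_ne_zero)
        have hUfix : ∀ x ∈ U, x • α = α := hodd_fix U α hodU (hfix' g hg1 U α fun x hx => by
          have e : g * x = x * g := congrArg Subtype.val (hcy.commGroup.mul_comm ⟨g, hgU⟩ ⟨x, hx⟩)
          rw [← mul_smul, e, mul_smul, hgα])
        set N := Subgroup.normalizer ((U : Subgroup _) : Set (Cfsg.Sz F m)) with hN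
        have horb : Nat.card (orbit N α) ≤ 2 := hfix' g hg1 N α fun x hx => by
          have e := hUfix _ (((Subgroup.mem_normalizer_iff''.1 hx) g).1 hgU)
          rw [mul_smul, mul_smul, inv_smul_eq_iff] at e
          exact e
        obtain ⟨ε, hε, hNc⟩ := torus_index hF hm hr hrn hy
        have hst : Nat.card (stabilizer N α) ∣ Nat.card U := by
          have h1 : Nat.card (stabilizer N α) ∣ ε * Nat.card U := hNc ▸ Subgroup.card_subgroup_dvd_card _
          have h2 : ¬ 2 ∣ Nat.card (stabilizer N α) := fun h => hoddH α (h.trans (Subgroup.card_dvd_of_injective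
            ({ toFun := fun s : stabilizer N α => (⟨((s : N) : Cfsg.Sz F m), s.2⟩ : stabilizer (Cfsg.Sz F m) α)
               map_one' := rfl, map_mul' := fun _ _ => rfl } : stabilizer N α →* stabilizer (Cfsg.Sz F m) α)
            fun s t h => Subtype.ext (Subtype.ext (congrArg Subtype.val h :))))
          have hco : (Nat.card (stabilizer N α)).Coprime ε := by
            have h4 := (Nat.prime_two.coprime_iff_not_dvd.2 h2).symm.pow_right 2
            rcases hε with rfl | rfl | rfl
            · exact Nat.coprime_one_right _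
            · exact (Nat.prime_two.coprime_iff_not_dvd.2 h2).symm
            · exact h4
          exact hco.dvd_of_dvd_mul_left h1
        have hε4 : ε = 4 := by
          rw [torus_index_eq_four hF hm hr hrn hy] at hNc
          exact (Nat.eq_of_mul_eq_mul_right Nat.card_pos hNc).symm
        have h5 := (stabilizer N α).index_mul_card
        rw [index_stabilizer, ← Nat.card_coe_set_eq, hNc, hε4] at h5
        have := Nat.le_of_dvd Nat.card_pos hst
        have : 0 < Nat.card U := Nat.card_pos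
        nlinarith
      push Not at hfree
      obtain ⟨a, ha⟩ := hfree
      obtain ⟨b, hba, hb, honly⟩ := odd_two_fixed hF hm hg1 (hodd g α hgα) ha
      refine ⟨a, b, hba.symm, fun c => ⟨honly c, fun h => by rcases h with rfl | rfl <;> assumption⟩, ?_⟩
      set D := stabilizer (Cfsg.Sz F m) a ⊓ stabilizer (Cfsg.Sz F m) b with hD
      obtain ⟨f, hf⟩ := two_point_cyclic hF hm hba.symm
      intro x hx
      refine mem_stabilizer_iff.2 (hodd_fix D α ?_ (hfix' g hg1 D α fun y hy => ?_) x hx)
      · rw [hD, two_point_card hF hm hba.symm, ← hq]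
        obtain ⟨t, ht⟩ := heven
        omega
      · have hgD : g ∈ D := ⟨mem_stabilizer_iff.2 ha, mem_stabilizer_iff.2 hb⟩
        have e : g * y = y * g := congrArg Subtype.val
          (hf (by rw [map_mul, map_mul, mul_comm]) : (⟨g, hgD⟩ : D) * ⟨y, hy⟩ = ⟨y, hy⟩ * ⟨g, hgD⟩)
        rw [← mul_smul, e, mul_smul, hgα]
    have hmain : ∀ α : Ω, stabilizer (Cfsg.Sz F m) α ≠ ⊥ → Nat.card (stabilizer (Cfsg.Sz F m) α) = q - 1 := by
      intro α hne
      set H := stabilizer (Cfsg.Sz F m) α with hH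
      letI : Fintype H := Fintype.ofFinite _
      letI : Fintype (Cfsg.suzukiOvoid F m) := Fintype.ofFinite _
      -- stabilisers in `H` of fixed points
      have hHa : ∀ a : Cfsg.suzukiOvoid F m, (∃ h : H, h ≠ 1 ∧ h • a = a) → Nat.card (stabilizer H a) = q - 1 := by
        rintro a ⟨h, hh1, hha⟩
        obtain ⟨a', b', hab', hiff, hle⟩ := hpair α h h.2 (fun e => hh1 (Subtype.ext e))
        set D := stabilizer (Cfsg.Sz F m) a' ⊓ stabilizer (Cfsg.Sz F m) b'
        have hDa : D ≤ stabilizer (Cfsg.Sz F m) a := by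
          rcases (hiff a).1 hha with rfl | rfl
          exacts [inf_le_left, inf_le_right]
        refine le_antisymm ?_ ?_
        · -- the image modulo the Sylow subgroup
          refine Nat.le_of_dvd (by omega) ?_
          have h1 : Nat.card (stabilizer H a) ∣ Nat.card (stabilizer (Cfsg.Sz F m) a) :=
            Subgroup.card_dvd_of_injective
              ({ toFun := fun s : stabilizer H a => (⟨((s : H) : Cfsg.Sz F m), s.2⟩ : stabilizer (Cfsg.Sz F m) a)
                 map_one' := rfl, map_mul' := fun _ _ => rfl } : stabilizer H a →* stabilizer (Cfsg.Sz F m) a)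
              fun s t h => Subtype.ext (Subtype.ext (congrArg Subtype.val h :))
          have e := (stabilizer (Cfsg.Sz F m) a).index_mul_card
          rw [index_stabilizer_of_transitive, card_points hF hm, card_sz hF hm, ← hq] at e
          have e' : Nat.card (stabilizer (Cfsg.Sz F m) a) = q ^ 2 * (q - 1) :=
            Nat.eq_of_mul_eq_mul_left (show 0 < q ^ 2 + 1 by positivity) (e.trans (by ring))
          rw [e'] at h1
          have h2 : ¬ 2 ∣ Nat.card (stabilizer H a) := fun h => hoddH α (h.trans (Subgroup.card_subgroup_dvd_card _))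
          refine (Nat.Coprime.pow_right 2 ?_).dvd_of_dvd_mul_left h1
          rw [hF]
          exact (Nat.prime_two.coprime_iff_not_dvd.2 h2).symm.pow_right _
        · rw [← two_point_card hF hm hab']
          exact Nat.card_le_card_of_injective (fun d : D => (⟨⟨d, hle d.2⟩, hDa d.2⟩ : stabilizer H a))
            fun d e h => Subtype.ext (congrArg (fun s : stabilizer H a => ((s : H) : Cfsg.Sz F m)) h)
      set P := Finset.univ.filter fun a : Cfsg.suzukiOvoid F m => ∃ h : H, h ≠ 1 ∧ h • a = a with hP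
      -- pairs
      have h1 : 2 * (Fintype.card H - 1) = P.card * (q - 2) := by
        have hd := Finset.sum_card_bipartiteAbove_eq_sum_card_bipartiteBelow
          (s := (Finset.univ : Finset H).erase 1) (t := P) (fun (h : H) (a : Cfsg.suzukiOvoid F m) => h • a = a)
        have e1 : ∀ h ∈ (Finset.univ : Finset H).erase 1,
            (P.bipartiteAbove (fun (h : H) (a : Cfsg.suzukiOvoid F m) => h • a = a) h).card = 2 := by
          intro h hh
          have hh1 := Finset.ne_of_mem_erase hh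
          obtain ⟨a', b', hab', hiff, -⟩ := hpair α h h.2 (fun e => hh1 (Subtype.ext e))
          rw [Finset.card_eq_two]
          refine ⟨a', b', hab', Finset.ext fun c => ?_⟩
          rw [Finset.mem_bipartiteAbove, Finset.mem_insert, Finset.mem_singleton]
          refine ⟨fun hc => (hiff c).1 hc.2, fun hc => ?_⟩
          have hc' : h • c = c := (hiff c).2 hc
          exact ⟨Finset.mem_filter.2 ⟨Finset.mem_univ _, h, hh1, hc'⟩, hc'⟩
        have e2 : ∀ a ∈ P, (((Finset.univ : Finset H).erase 1).bipartiteBelow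
            (fun (h : H) (a : Cfsg.suzukiOvoid F m) => h • a = a) a).card = q - 2 := by
          intro a ha
          have e := hHa a (Finset.mem_filter.1 ha).2
          have hset : ((Finset.univ : Finset H).erase 1).bipartiteBelow
              (fun (h : H) (a : Cfsg.suzukiOvoid F m) => h • a = a) a =
              ((stabilizer H a : Set H).toFinset).erase 1 := by
            ext h
            rw [Finset.mem_bipartiteBelow, Finset.mem_erase, Finset.mem_erase, Set.mem_toFinset]
            simp only [Finset.mem_univ, and_true, SetLike.mem_coe, mem_stabilizer_iff]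
          rw [hset, Finset.card_erase_of_mem (by simp), Set.toFinset_card, ← Nat.card_eq_fintype_card]
          show Nat.card (stabilizer H a) - 1 = q - 2
          omega
        rw [Finset.sum_congr rfl e1, Finset.sum_congr rfl e2, Finset.sum_const, Finset.sum_const, smul_eq_mul,
          smul_eq_mul, Finset.card_erase_of_mem (Finset.mem_univ _), Finset.card_univ] at hd
        omega
      -- orbits
      obtain ⟨s, hs⟩ : q - 1 ∣ Fintype.card H := by
        obtain ⟨h, hh⟩ := (Subgroup.ne_bot_iff_exists_ne_one).1 hne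
        obtain ⟨a', b', -, hiff, -⟩ := hpair α h h.2 (fun e => hh (Subtype.ext e))
        rw [← hHa a' ⟨h, hh, (hiff a').2 (Or.inl rfl)⟩, ← Nat.card_eq_fintype_card]
        exact Subgroup.card_subgroup_dvd_card _
      have h2 : s ∣ P.card := by
        rw [Finset.card_eq_sum_card_image (fun a : Cfsg.suzukiOvoid F m => (orbit H a).toFinset) P]
        refine Finset.dvd_sum fun O hO => ?_
        obtain ⟨a, ha, rfl⟩ := Finset.mem_image.1 hO
        refine dvd_of_eq ?_
        have hset : (P.filter fun x => (orbit H x).toFinset = (orbit H a).toFinset) = (orbit H a).toFinset := by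
          ext x
          rw [Finset.mem_filter, Set.toFinset_inj, orbit_eq_iff, Set.mem_toFinset]
          refine ⟨fun hx => hx.2, fun hx => ⟨?_, hx⟩⟩
          obtain ⟨t, rfl⟩ := hx
          obtain ⟨h, hh1, hha⟩ := (Finset.mem_filter.1 ha).2
          refine Finset.mem_filter.2 ⟨Finset.mem_univ _, t * h * t⁻¹, fun e => hh1 (conj_eq_one_iff.1 e), ?_⟩
          rw [mul_smul, mul_smul, inv_smul_smul, hha]
        rw [hset, Set.toFinset_card, ← Nat.card_eq_fintype_card,
          Nat.card_congr (orbitEquivQuotientStabilizer H a)]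
        have := Subgroup.card_eq_card_quotient_mul_card_subgroup (stabilizer H a)
        rw [hHa a (Finset.mem_filter.1 ha).2, Nat.card_eq_fintype_card (α := H), hs, mul_comm] at this
        exact Nat.eq_of_mul_eq_mul_right (by omega) this
      obtain ⟨j, hj⟩ := h2
      have hodd' : ¬ 2 ∣ s := fun h => hoddH α (by rw [Nat.card_eq_fintype_card, hs]; exact h.mul_left _)
      have hpos : 0 < Fintype.card H := Fintype.card_pos
      have h3 : s ∣ 2 := by
        rw [hs, hj] at h1
        have e1 : s ∣ 2 * ((q - 1) * s) := ⟨2 * (q - 1), by ring⟩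
        have e2 : s ∣ 2 * ((q - 1) * s - 1) := ⟨j * (q - 2), by rw [h1]; ring⟩
        have := Nat.dvd_sub e1 e2
        rw [hs] at hpos
        rwa [show 2 * ((q - 1) * s) - 2 * ((q - 1) * s - 1) = 2 by omega] at this
      rcases (Nat.dvd_prime Nat.prime_two).1 h3 with h | h
      · rw [Nat.card_eq_fintype_card, hs, h, mul_one]
      · exfalso; subst h; exact hodd' dvd_rfl
    have hne : stabilizer (Cfsg.Sz F m) α₀ ≠ ⊥ := fun h => hg₀ (Subgroup.mem_bot.1 (h ▸ mem_stabilizer_iff.2 hα₀))
    refine ⟨?_, fun α => hmain α ?_⟩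
    · have h := hidx α₀
      rw [hmain α₀ hne] at h
      exact Nat.eq_of_mul_eq_mul_right (by omega) h
    · obtain ⟨t, rfl⟩ := exists_smul_eq (Cfsg.Sz F m) α₀ α
      rw [stabilizer_smul_eq_stabilizer_map_conj]
      intro h
      exact hne ((Subgroup.map_eq_bot_iff_of_injective _ (MulAut.conj t).injective).1 h)

end Cfsg.Agent.Lie.Suzuki
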