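import Cfsg.Agent.Lib.Lie.TwistG2H
import Cfsg.Agent.Lib.Lie.TwistSimple
import Cfsg.Agent.Lib.Lie.TwistComm

/-!
The twisted groups of type ²G₂ over fields with more than three elements are perfect and simple.
-/

set_option autoImplicit false
set_option maxRecDepth 4000

namespace Cfsg.Agent.Lie.G2

open Cfsg.Lie Matrix Twist
open scoped MatrixGroups commutatorElement

theorem okPiConn_Os : okPiConn chevG2 Os := by decide +kernel

theorem weights_pos : ([7, 6, 8, 9, 10, 11] : List ℕ).map (wList chevG2) =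
    [[2, -1], [-3, 2], [-1, 1], [1, 0], [3, -1], [0, 1]] := by
  decide +kernel

theorem cartan_at (r : Fin 12) : (List.finRange 2).map (fun m : Fin 2 => chevG2.cartan m.val r.val) =
    wList chevG2 r.val := by
  rw [wList]
  exact List.ext_getElem (by simp; rfl) fun k h1 h2 => by simp

variable {K : Type*} [Field K] [Fintype K] {m : ℕ}

omit [Fintype K] in
theorem torChar_eval (c : Fin chevG2.rank → Kˣ) {r : ℕ} (hr : r < 12) {v : List ℤ} (hv : wList chevG2 r = v) :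
    torChar chevG2 c r = (List.zipWith (fun u e => u ^ e) [c 0, c 1] v).prod := by
  have h1 : torChar chevG2 c r = ((List.finRange 2).map (fun m : Fin 2 => c m ^ chevG2.cartan m.val r)).prod :=
    ((congrArg List.prod (List.ofFn_eq_map (f := fun m : Fin 2 => c m ^ chevG2.cartan m.val r))).symm.trans
      List.prod_ofFn).symm
  rw [h1, ← hv, ← cartan_at ⟨r, hr⟩]
  rfl

variable (S : Setup K m)

include S

theorem Setup.N3_mul (t u v t' u' v' : K) :
    N3 (posRel S.h3) m t u v * N3 (posRel S.h3) m t' u' v' =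
      N3 (posRel S.h3) m (t + t') (u + u' - (t' ^ 3 ^ m) ^ 3 * t)
        (v + v' - t' * u - (t' ^ 3 ^ m) ^ 3 * t * t + (t' ^ 3 ^ m) ^ 3 * t * t') := by
  obtain ⟨a, b, c, h⟩ := S.fix_pos (mul_mem (S.N3_mem_US t u v) (S.N3_mem_US t' u' v'))
    (S.data.le_fix (mul_mem (S.pos_mem t u v) (S.pos_mem t' u' v')))
  have h' := h
  simp only [N3] at h'
  rw [G2Rel.N_mul] at h'
  obtain ⟨-, hb, -, -, he, hf⟩ := S.N_inj h'
  rw [h, ← hb, ← he, ← hf]
  congr 1 <;> ring

theorem Setup.N3_zero : N3 (posRel S.h3) m (0 : K) 0 0 = 1 := by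
  simp [N3, N_pos_eq, zero_pow, factsG2.xg_zero]

theorem Setup.N3_inv (t u v : K) : ∃ u' v', (N3 (posRel S.h3) m t u v)⁻¹ = N3 (posRel S.h3) m (-t) u' v' := by
  obtain ⟨a, b, c, h⟩ := S.fix_pos (inv_mem (S.N3_mem_US t u v)) (S.data.le_fix (inv_mem (S.pos_mem t u v)))
  refine ⟨b, c, ?_⟩
  have h1 := (S.N3_mul t u v a b c).symm.trans ((congrArg _ h.symm).trans ((mul_inv_cancel _).trans S.N3_zero.symm))
  rw [h, neg_eq_of_add_eq_zero_right (S.N3_inj h1).1]

theorem Setup.torus_conj_N3 (z : Kˣ) (t u v : K) :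
    torus chevG2 K (S.crd z) * N3 (posRel S.h3) m t u v * (torus chevG2 K (S.crd z))⁻¹ =
      N3 (posRel S.h3) m ((z : K) ^ (2 : ℤ) * ((z : K) ^ (3 * 3 ^ m))⁻¹ * t)
        ((z : K) ^ (3 * 3 ^ m) * (z : K)⁻¹ * u) ((z : K) * v) := by
  obtain ⟨a, b, c, h⟩ := S.fix_pos (x := torus chevG2 K (S.crd z) * N3 (posRel S.h3) m t u v *
    (torus chevG2 K (S.crd z))⁻¹) (by
      have hn : ∀ r, r < chevG2.nroots → r ∈ ([6, 7, 8, 9, 10, 11] : List ℕ) → ∀ x : K,
          torus chevG2 K (S.crd z) * factsG2.xg r x * (torus chevG2 K (S.crd z))⁻¹ ∈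
            (factsG2.tsys K).US [6, 7, 8, 9, 10, 11] := fun r hr hm x => by
        rw [factsG2.torus_conj _ hr]; exact CommSys.x_mem_US _ hm _
      have e : torus chevG2 K (S.crd z) * N3 (posRel S.h3) m t u v * (torus chevG2 K (S.crd z))⁻¹ =
          MulAut.conj (torus chevG2 K (S.crd z)) (N3 (posRel S.h3) m t u v) := rfl
      rw [e, N3, N_pos_eq]
      simp only [map_mul]
      exact mul_mem (mul_mem (mul_mem (mul_mem (mul_mem (hn 7 (by decide) (by simp) _) (hn 6 (by decide) (by simp) _))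
        (hn 8 (by decide) (by simp) _)) (hn 9 (by decide) (by simp) _)) (hn 10 (by decide) (by simp) _))
        (hn 11 (by decide) (by simp) _))
    (S.data.le_fix (mul_mem (mul_mem (S.torus_mem z) (S.pos_mem t u v)) (inv_mem (S.torus_mem z))))
  have hw := weights_pos
  simp only [List.map_cons, List.map_nil, List.cons.injEq, and_true] at hw
  obtain ⟨w7, w6, w8, w9, w10, w11⟩ := hw
  have h' := h
  rw [show torus chevG2 K (S.crd z) * N3 (posRel S.h3) m t u v * (torus chevG2 K (S.crd z))⁻¹ =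
    MulAut.conj (torus chevG2 K (S.crd z)) (N3 (posRel S.h3) m t u v) from rfl, N3, N_pos_eq] at h'
  simp only [map_mul, MulAut.conj_apply] at h'
  rw [factsG2.torus_conj _ (show 7 < chevG2.nroots by decide), factsG2.torus_conj _ (show 6 < chevG2.nroots by decide),
    factsG2.torus_conj _ (show 8 < chevG2.nroots by decide), factsG2.torus_conj _ (show 9 < chevG2.nroots by decide),
    factsG2.torus_conj _ (show 10 < chevG2.nroots by decide), factsG2.torus_conj _ (show 11 < chevG2.nroots by decide),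
    torChar_eval _ (show 6 < 12 by decide) w6, torChar_eval _ (show 10 < 12 by decide) w10,
    torChar_eval _ (show 11 < 12 by decide) w11, ← N_pos_eq S.h3] at h'
  obtain ⟨-, hb, -, -, he, hf⟩ := S.N_inj h'
  rw [h, ← hb, ← he, ← hf]
  congr 1 <;> simp [Setup.crd, ← pow_mul, mul_comm (3 ^ m) 3, mul_comm, zpow_ofNat]

theorem Setup.N3_derived (hm : 1 ≤ m) (t u v : K) :
    N3 (posRel S.h3) m t u v ∈ ⁅S.data.G1, S.data.G1⁆ := by
  obtain ⟨z, hz⟩ := IsCyclic.exists_ofOrder_eq_natCard (α := Kˣ)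
  rw [Nat.card_units, S.hK] at hz
  have hz0 : (z : K) ≠ 0 := z.ne_zero
  have hpow : ∀ k, 0 < k → k < 3 ^ (2 * m + 1) - 1 → (z : K) ^ k ≠ 1 := fun k hk hk' hh => by
    rw [← hz] at hk'
    exact pow_ne_one_of_lt_orderOf hk.ne' hk' (Units.ext (by rw [Units.val_pow_eq_pow_val, hh, Units.val_one]))
  have he : 3 ≤ 3 ^ m := (pow_one 3).symm.le.trans (Nat.pow_le_pow_right (by norm_num) hm)
  have hq : 3 * 3 ^ m + 2 < 3 ^ (2 * m + 1) - 1 := by
    rw [show 2 * m + 1 = 1 + (m + m) by omega, pow_add, pow_add, pow_one]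
    have : 3 * (3 * 3 ^ m) ≤ 3 * (3 ^ m * 3 ^ m) := by gcongr
    omega
  set L : K := (z : K) ^ (2 : ℤ) * ((z : K) ^ (3 * 3 ^ m))⁻¹ with hL
  set M : K := (z : K) ^ (3 * 3 ^ m) * (z : K)⁻¹ with hM
  have hL1 : L - 1 ≠ 0 := fun h => by
    rw [sub_eq_zero, hL, mul_inv_eq_one₀ (pow_ne_zero _ hz0), zpow_ofNat] at h
    refine hpow (3 * 3 ^ m - 2) (by omega) (by omega) (mul_right_cancel₀ (pow_ne_zero 2 hz0) ?_)
    rw [← pow_add, Nat.sub_add_cancel (by omega), one_mul, h]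
  have hM1 : M - 1 ≠ 0 := fun h => by
    rw [sub_eq_zero, hM, mul_inv_eq_one₀ hz0] at h
    refine hpow (3 * 3 ^ m - 1) (by omega) (by omega) (mul_right_cancel₀ hz0 ?_)
    rw [← pow_succ, Nat.sub_add_cancel (by omega), one_mul, h]
  have hz1 : (z : K) - 1 ≠ 0 := fun h => hpow 1 one_pos (by omega) (by rw [pow_one, sub_eq_zero.1 h])
  have hcomm : ∀ t u v : K, N3 (posRel S.h3) m (L * t) (M * u) ((z : K) * v) *
      (N3 (posRel S.h3) m t u v)⁻¹ ∈ ⁅S.data.G1, S.data.G1⁆ := fun t u v => by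
    rw [hL, hM, ← S.torus_conj_N3, ← commutatorElement_def]
    exact Subgroup.commutator_mem_commutator (S.torus_mem z) (S.pos_mem t u v)
  have h3mul : ∀ x : K, (0 : K) ^ 3 ^ m = 0 := fun _ => zero_pow (by positivity)
  have hV : ∀ v : K, N3 (posRel S.h3) m 0 0 v ∈ ⁅S.data.G1, S.data.G1⁆ := fun v => by
    have h := hcomm 0 0 (v / ((z : K) - 1))
    have hi : (N3 (posRel S.h3) m 0 0 (v / ((z : K) - 1)))⁻¹ = N3 (posRel S.h3) m 0 0 (-(v / ((z : K) - 1))) :=
      inv_eq_of_mul_eq_one_right (by rw [S.N3_mul]; simp [h3mul 0, S.N3_zero])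
    rw [hi, S.N3_mul] at h
    simp only [mul_zero, add_zero, sub_zero, zero_mul, h3mul 0, zero_pow (show 3 ≠ 0 by decide)] at h
    rwa [show (z : K) * (v / ((z : K) - 1)) + -(v / ((z : K) - 1)) = v by field_simp; ring] at h
  have hU : ∀ u v : K, N3 (posRel S.h3) m 0 u v ∈ ⁅S.data.G1, S.data.G1⁆ := fun u v => by
    have h := hcomm 0 (u / (M - 1)) 0
    have hi : (N3 (posRel S.h3) m 0 (u / (M - 1)) 0)⁻¹ = N3 (posRel S.h3) m 0 (-(u / (M - 1))) 0 :=
      inv_eq_of_mul_eq_one_right (by rw [S.N3_mul]; simp [h3mul 0, S.N3_zero])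
    rw [hi, S.N3_mul] at h
    simp only [mul_zero, add_zero, sub_zero, zero_mul, h3mul 0, zero_pow (show 3 ≠ 0 by decide)] at h
    rw [show M * (u / (M - 1)) + -(u / (M - 1)) = u by field_simp; ring] at h
    have := mul_mem h (hV v)
    rw [S.N3_mul] at this
    simpa [h3mul 0] using this
  have h := hcomm (t / (L - 1)) 0 0
  obtain ⟨u', v', hi⟩ := S.N3_inv (t / (L - 1)) 0 0
  rw [hi, S.N3_mul, show L * (t / (L - 1)) + -(t / (L - 1)) = t by field_simp; ring] at h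
  replace h : ∃ a b, N3 (posRel S.h3) m t a b ∈ ⁅S.data.G1, S.data.G1⁆ := ⟨_, _, h⟩
  obtain ⟨a, b, h⟩ := h
  have := mul_mem h (hU (u - a) (v - b))
  rw [S.N3_mul] at this
  simpa [h3mul 0] using this

theorem Setup.perfect (hm : 1 ≤ m) : commutator ↥(twistedG2 K (3 ^ m)) = ⊤ := by
  refine S.data.perfect (S := {g | ∃ w ∈ g2Words K (3 ^ m), (g : Matrix chevG2.Idx chevG2.Idx K) = chevG2.wordMat K w})
    le_rfl (fun g hg => ⟨Subgroup.subset_closure hg, ?_⟩) fun ω hω x hx hxf => ?_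
  · obtain ⟨w, hw, hgw⟩ := hg
    rw [show g = factsG2.wg w from Units.ext (by rw [hgw, factsG2.coe_wg])]
    obtain ⟨ω, hω⟩ := List.exists_mem_of_ne_nil Os (by decide +kernel)
    have hm' := List.mem_map_of_mem (f := fun ω => orbL chevG2 (ω.map Fin.val)) hω
    have hn' := List.mem_map_of_mem (f := fun ω => Twist.negL chevG2 ω) hω
    rw [orbLs, List.mem_singleton] at hm'
    rw [negLs, List.mem_singleton] at hn'
    obtain ⟨t, u, v, rfl | rfl⟩ := hw
    · exact ⟨ω, hω, Or.inl (hm' ▸ S.wg_U t u v ▸ S.N3_mem_US t u v)⟩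
    · refine ⟨ω, hω, Or.inr (hn' ▸ S.wg_V t u v ▸ ?_)⟩
      have hX : ∀ r ∈ ([5, 4, 3, 2, 1, 0] : List ℕ), ∀ z : K, factsG2.xg r z ∈ (factsG2.tsys K).US [5, 4, 3, 2, 1, 0] :=
        fun r hr z => CommSys.x_mem_US _ hr z
      exact mul_mem (mul_mem (mul_mem (mul_mem (mul_mem (hX 4 (by simp) _) (hX 5 (by simp) _)) (hX 3 (by simp) _))
        (hX 2 (by simp) _)) (hX 1 (by simp) _)) (hX 0 (by simp) _)
  · have hm' := List.mem_map_of_mem (f := fun ω => orbL chevG2 (ω.map Fin.val)) hω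
    rw [orbLs, List.mem_singleton] at hm'
    rw [hm'] at hx
    obtain ⟨t, u, v, rfl⟩ := S.fix_pos hx hxf
    exact S.N3_derived hm t u v

theorem Setup.simple (hm : 1 ≤ m) :
    IsSimpleGroup ↥(twistedG2 K (3 ^ m)) ∧ ¬ IsMulCommutative ↥(twistedG2 K (3 ^ m)) := by
  obtain ⟨ω, hω⟩ := List.exists_mem_of_ne_nil Os (by decide +kernel)
  exact S.data.simple hω okPiConn_Os (S.perfect hm) (S.data.core_trivial S.coord)

end Cfsg.Agent.Lie.G2
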