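import Cfsg.Agent.Lib.Lie.AnisotropicSolvable
import Cfsg.Agent.Lib.Fusion.Critical

/-!
Automorphism groups of 2-groups with at most three involutions are solvable.
-/

set_option autoImplicit false

namespace Cfsg.Agent.Lie.ThreeInv

open Cfsg.Agent.Lie.AnisoMap

attribute [local instance] _root_.Classical.propDecidable

universe u v

theorem solvable_of_card_primes {G : Type u} [Group G] [Finite G]
    (h : ∀ r : ℕ, r.Prime → r ∣ Nat.card G → r = 2 ∨ r = 3) : Group.IsSolvable G :=
  Cfsg.Agent.Char.isSolvable_of_two_primes Nat.prime_two Nat.prime_three _ rfl h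

theorem solvable_of_ker {G : Type u} {H : Type v} [Group G] [Group H] (f : G →* H)
    (hk : Group.IsSolvable ↥f.ker) (hr : Group.IsSolvable ↥f.range) : Group.IsSolvable G :=
  solvable_of_ker_le_range f.ker.subtype f.rangeRestrict
    (by rw [MonoidHom.ker_rangeRestrict, Subgroup.range_subtype])

theorem finite_mulAut {D : Type u} [Group D] [Finite D] : Finite (MulAut D) :=
  Finite.of_injective (fun f : MulAut D => (f : D → D)) DFunLike.coe_injective

theorem step {D : Type u} [Group D] (hD : IsPGroup 2 D) {α : MulAut D} {r : ℕ} (hr : Odd r) (ha : α ^ r = 1)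
    {x w : D} (hx : α x = x * w) (hw : α w = w) : w = 1 := by
  have hiter : ∀ i : ℕ, (α ^ i) x = x * w ^ i := by
    intro i
    induction i with
    | zero => rw [pow_zero, pow_zero, mul_one]; rfl
    | succ i ih => rw [pow_succ', MulAut.mul_apply, ih, map_mul, map_pow, hw, hx, pow_succ', mul_assoc]
  have e := hiter r
  rw [ha, MulAut.one_apply, left_eq_mul] at e
  obtain ⟨k, hk⟩ := hD w
  have e3 : w ^ Nat.gcd (2 ^ k) r = 1 := pow_gcd_eq_one.2 ⟨hk, e⟩
  rwa [((Nat.coprime_two_left.2 hr).pow_left k).gcd_eq_one, pow_one] at e3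

set_option maxHeartbeats 1000000 in
/-- The central case. -/
theorem solvable_central {D : Type u} [Group D] [Finite D] (hD : IsPGroup 2 D)
    (hsq : ∀ x : D, x * x ∈ Subgroup.center D) (h4 : Nat.card {x : D // x * x = 1} ≤ 4) :
    Group.IsSolvable (MulAut D) := by
  haveI : Fact (Nat.Prime 2) := ⟨Nat.prime_two⟩
  haveI := finite_mulAut (D := D)
  rcases subsingleton_or_nontrivial D with h | h
  · haveI : Subsingleton (MulAut D) := ⟨fun a b => MulEquiv.ext fun x => Subsingleton.elim _ _⟩
    infer_instance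
  set Z := Subgroup.center D with hZdef
  letI : CommGroup ↥Z :=
    { (inferInstance : Group ↥Z) with
      mul_comm := fun a b => Subtype.ext ((Subgroup.mem_center_iff.1 b.2) (a : D)) }
  let sq : ↥Z →* ↥Z := powMonoidHom 2
  let Y := ↥Z ⧸ sq.range
  let π : ↥Z →* Y := QuotientGroup.mk' sq.range
  have hπ : Function.Surjective π := QuotientGroup.mk'_surjective _
  have hπsq : ∀ z : ↥Z, π (z * z) = 1 := fun z =>
    (QuotientGroup.eq_one_iff _).2 ⟨z, by show z ^ 2 = z * z; rw [pow_two]⟩
  have hYexp : ∀ y : Y, y * y = 1 := fun y => by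
    obtain ⟨z, rfl⟩ := hπ y
    rw [← map_mul]; exact hπsq z
  -- the number of values
  have hYker : Nat.card Y = Nat.card ↥sq.ker := by
    have h1 : Nat.card ↥Z = Nat.card ↥sq.ker * Nat.card ↥sq.range := by
      rw [← Subgroup.index_ker, Subgroup.card_mul_index]
    have h2 := Subgroup.card_eq_card_quotient_mul_card_subgroup sq.range
    exact Nat.eq_of_mul_eq_mul_right (Nat.card_pos (α := ↥sq.range)) (h2.symm.trans h1)
  have hkerT : ∀ k : ↥sq.ker, ((k : ↥Z) : D) * ((k : ↥Z) : D) = 1 := fun k => by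
    have := MonoidHom.mem_ker.1 k.2
    rw [show sq (k : ↥Z) = (k : ↥Z) ^ 2 from rfl, pow_two] at this
    exact congrArg Subtype.val this
  have hY4 : Nat.card Y ≤ 4 := by
    rw [hYker]
    refine le_trans (Nat.card_le_card_of_injective (fun k : ↥sq.ker => (⟨((k : ↥Z) : D), hkerT k⟩ : {x : D // x * x = 1}))
      fun a b e => Subtype.ext (Subtype.ext (congrArg (fun y : {x : D // x * x = 1} => (y : D)) e))) h4
  have hker2 : 2 ≤ Nat.card ↥sq.ker := by
    haveI := hD.center_nontrivial
    obtain ⟨k, hk⟩ := IsPGroup.iff_card.1 (hD.to_subgroup Z)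
    have h2 : 2 ∣ Nat.card ↥Z := by
      rcases k with _ | k
      · rw [pow_zero] at hk; exact absurd hk (Finite.one_lt_card (α := ↥Z)).ne'
      · exact ⟨2 ^ k, by rw [hk, pow_succ']⟩
    obtain ⟨z, hz⟩ := exists_prime_orderOf_dvd_card' 2 h2
    have hz1 : z ∈ sq.ker := MonoidHom.mem_ker.2 (by show z ^ 2 = 1; rw [← hz, pow_orderOf_eq_one])
    have hzne : z ≠ 1 := fun e => by rw [e, orderOf_one] at hz; exact absurd hz (by norm_num)
    haveI : Nontrivial ↥sq.ker := ⟨⟨⟨z, hz1⟩, 1, fun e => hzne (congrArg Subtype.val e)⟩⟩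
    exact Finite.one_lt_card
  -- the quotient by the centre
  have hEexp : ∀ e : D ⧸ Z, e * e = 1 := fun e => by
    obtain ⟨x, rfl⟩ := QuotientGroup.mk_surjective e
    rw [← QuotientGroup.mk_mul, QuotientGroup.eq_one_iff]
    exact hsq x
  letI : CommGroup (D ⧸ Z) :=
    { (inferInstance : Group (D ⧸ Z)) with
      mul_comm := fun a b => by
        have ha : ∀ c : D ⧸ Z, c⁻¹ = c := fun c => inv_eq_of_mul_eq_one_right (hEexp c)
        rw [← ha (a * b), mul_inv_rev, ha, ha] }
  have hzc : ∀ z : ↥Z, ∀ x : D, x * (z : D) = (z : D) * x := fun z x => Subgroup.mem_center_iff.1 z.2 x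
  let kk : D → D → D := fun x y => y * x * y⁻¹ * x⁻¹
  have hkk : ∀ x y, kk x y ∈ Z := fun x y => by
    have : ((kk x y : D) : D ⧸ Z) = 1 := by
      simp only [kk, QuotientGroup.mk_mul, QuotientGroup.mk_inv]
      rw [mul_comm (y : D ⧸ Z) x, mul_inv_cancel_right, mul_inv_cancel]
    exact (QuotientGroup.eq_one_iff _).1 this
  let s : D → Y := fun x => π ⟨x * x, hsq x⟩
  have hs : ∀ x (z : ↥Z), s (x * z) = s x := by
    intro x z
    have : (⟨x * z * (x * z), hsq _⟩ : ↥Z) = ⟨x * x, hsq x⟩ * (z * z) := by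
      refine Subtype.ext ?_
      show x * (z : D) * (x * z) = x * x * ((z : D) * z)
      rw [show x * (z : D) * (x * z) = x * ((z : D) * x) * z by simp only [mul_assoc], ← hzc z x]
      simp only [mul_assoc]
    show π _ = π _
    rw [this, map_mul, hπsq, mul_one]
  let q : D ⧸ Z → Y := Quotient.lift s fun a b hab => by
    have h' := QuotientGroup.leftRel_apply.1 hab
    rw [show b = a * ((⟨a⁻¹ * b, h'⟩ : ↥Z) : D) from (mul_inv_cancel_left a b).symm, hs]
  have hqmk : ∀ x : D, q (x : D ⧸ Z) = s x := fun x => rfl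
  have hsmul : ∀ x y, s (x * y) = π ⟨kk x y, hkk x y⟩ * s x * s y := by
    intro x y
    show π _ = π _ * π _ * π _
    rw [← map_mul, ← map_mul]
    refine congrArg π (Subtype.ext ?_)
    show x * y * (x * y) = kk x y * (x * x) * (y * y)
    calc x * y * (x * y) = x * kk x y * (x * y * y) := by simp only [kk]; group
      _ = kk x y * x * (x * y * y) := by rw [hzc ⟨_, hkk x y⟩ x]
      _ = kk x y * (x * x) * (y * y) := by simp only [mul_assoc]
  have hkbil : ∀ x y z, kk x (y * z) = kk x z * kk x y := by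
    intro x y z
    calc kk x (y * z) = y * kk x z * (x * y⁻¹ * x⁻¹) := by simp only [kk]; group
      _ = kk x z * y * (x * y⁻¹ * x⁻¹) := by rw [hzc ⟨_, hkk x z⟩ y]
      _ = kk x z * kk x y := by simp only [kk, mul_assoc]
  have hpol : ∀ x y : D, q ((x : D ⧸ Z) * y) * q x * q y = π ⟨kk x y, hkk x y⟩ := by
    intro x y
    rw [← QuotientGroup.mk_mul, hqmk, hqmk, hqmk, hsmul, mul_assoc, mul_assoc, mul_assoc,
      show s x * (s y * (s x * s y)) = (s x * s x) * (s y * s y) by simp only [mul_comm, mul_left_comm],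
      hYexp, hYexp, one_mul, mul_one]
  have hq : IsQuad q := by
    refine ⟨hEexp, hYexp, ?_, fun a b c => ?_⟩
    · show π _ = 1
      rw [show (⟨(1 : D) * 1, hsq 1⟩ : ↥Z) = 1 from Subtype.ext (one_mul 1), map_one]
    · obtain ⟨x, rfl⟩ := QuotientGroup.mk_surjective a
      obtain ⟨y, rfl⟩ := QuotientGroup.mk_surjective b
      obtain ⟨z, rfl⟩ := QuotientGroup.mk_surjective c
      rw [← QuotientGroup.mk_mul (N := Z) y z, hpol, hpol, hpol, ← map_mul]
      refine congrArg π (Subtype.ext ?_)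
      show kk x (y * z) = kk x y * kk x z
      rw [hkbil]; exact hzc ⟨_, hkk x y⟩ _
  -- zeros
  have hzero : ∀ e : D ⧸ Z, q e = 1 → ∃ u : D, (u : D ⧸ Z) = e ∧ u * u = 1 := by
    intro e he
    obtain ⟨x, rfl⟩ := QuotientGroup.mk_surjective e
    obtain ⟨z, hz⟩ := (QuotientGroup.eq_one_iff _).1 (show π ⟨x * x, hsq x⟩ = 1 from he)
    have hz' : (z : D) * z = x * x := by
      have := congrArg Subtype.val hz
      rwa [show sq z = z ^ 2 from rfl, pow_two] at this
    refine ⟨x * ((z⁻¹ : ↥Z) : D), QuotientGroup.mk_mul_of_mem x (z⁻¹ : ↥Z).2, ?_⟩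
    rw [show x * ((z⁻¹ : ↥Z) : D) * (x * ((z⁻¹ : ↥Z) : D)) = x * (((z⁻¹ : ↥Z) : D) * x) * ((z⁻¹ : ↥Z) : D) by
      simp only [mul_assoc], ← hzc, Subgroup.coe_inv, ← mul_assoc, ← hz', mul_inv_cancel_right, mul_inv_cancel]
  have hFew : FewZeros q := by
    by_cases hin : ∀ u : D, u * u = 1 → u ∈ Z
    · refine Or.inl fun e he => ?_
      obtain ⟨u, rfl, hu⟩ := hzero e he
      exact (QuotientGroup.eq_one_iff _).2 (hin u hu)
    push Not at hin
    obtain ⟨u, hu, huZ⟩ := hin
    have hprod : ∀ (v : D) (k : ↥sq.ker), v * v = 1 → (v * ((k : ↥Z) : D)) * (v * ((k : ↥Z) : D)) = 1 := by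
      intro v k hv
      rw [show v * ((k : ↥Z) : D) * (v * ((k : ↥Z) : D)) = v * (((k : ↥Z) : D) * v) * ((k : ↥Z) : D) by
        simp only [mul_assoc], ← hzc, ← mul_assoc, hv, one_mul, hkerT]
    have hcount : ∀ (n : ℕ) (f : Fin n → D), (∀ i, f i * f i = 1) → (∀ i j, (f i)⁻¹ * f j ∈ Z → i = j) →
        n * Nat.card ↥sq.ker ≤ 4 := by
      intro n f hf hd
      have := Nat.card_le_card_of_injective
        (fun p : Fin n × ↥sq.ker => (⟨f p.1 * ((p.2 : ↥Z) : D), hprod _ _ (hf p.1)⟩ : {x : D // x * x = 1})) (by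
        rintro ⟨i, k⟩ ⟨j, l⟩ e
        have e' : f i * ((k : ↥Z) : D) = f j * ((l : ↥Z) : D) := congrArg Subtype.val e
        have hij : i = j := hd i j (by
          rw [show (f i)⁻¹ * f j = ((k : ↥Z) : D) * ((l : ↥Z) : D)⁻¹ by
            rw [inv_mul_eq_iff_eq_mul, ← mul_assoc, e', mul_inv_cancel_right]]
          exact Z.mul_mem k.1.2 (Z.inv_mem l.1.2))
        subst hij
        exact Prod.ext rfl (Subtype.ext (Subtype.ext (mul_left_cancel e'))))
      rw [Nat.card_prod, Nat.card_eq_fintype_card (α := Fin n), Fintype.card_fin] at this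
      exact this.trans h4
    refine Or.inr ⟨?_, fun a b ha hb ha' hb' => ?_⟩
    · have := hcount 2 ![1, u] (fun i => by fin_cases i <;> simp [hu]) (fun i j => by
        fin_cases i <;> fin_cases j <;> simp [huZ])
      omega
    · by_contra hab
      obtain ⟨v, rfl, hv⟩ := hzero a ha'
      obtain ⟨w, rfl, hw⟩ := hzero b hb'
      rw [Ne, QuotientGroup.eq_one_iff] at ha hb
      rw [QuotientGroup.eq] at hab
      have hab' : w⁻¹ * v ∉ Z := fun e => hab (by simpa using Z.inv_mem e)
      have := hcount 3 ![1, v, w] (fun i => by fin_cases i <;> simp [hv, hw]) (fun i j => by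
        fin_cases i <;> fin_cases j <;> simp [ha, hb, hab, hab'])
      omega
  -- the action on the values
  have hZα : ∀ (α : MulAut D) (z : ↥Z), α (z : D) ∈ Z := fun α z => Subgroup.mem_center_iff.2 fun g => by
    have := congrArg α (hzc z (α.symm g))
    rwa [map_mul, map_mul, α.apply_symm_apply] at this
  let act : MulAut D → ↥Z →* ↥Z := fun α => (α.toMonoidHom.comp Z.subtype).codRestrict Z (hZα α)
  have hact : ∀ α, sq.range ≤ sq.range.comap (act α) := by
    rintro α _ ⟨z, rfl⟩
    exact ⟨act α z, (map_pow (act α) z 2).symm⟩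
  let actY : MulAut D → Y →* Y := fun α => QuotientGroup.map _ _ (act α) (hact α)
  have hactY : ∀ α z, actY α (π z) = π (act α z) := fun α z => rfl
  have hmul : ∀ α β y, actY (α * β) y = actY α (actY β y) := fun α β y => by
    obtain ⟨z, rfl⟩ := hπ y
    exact (hactY (α * β) z).trans (congrArg π (Subtype.ext rfl))
  have hone : ∀ y, actY 1 y = y := fun y => by
    obtain ⟨z, rfl⟩ := hπ y
    exact (hactY 1 z).trans (congrArg π (Subtype.ext rfl))
  let r1 : MulAut D →* Equiv.Perm Y :=
    { toFun := fun α => ⟨actY α, actY α⁻¹, fun y => by rw [← hmul, inv_mul_cancel, hone],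
        fun y => by rw [← hmul, mul_inv_cancel, hone]⟩
      map_one' := Equiv.ext hone
      map_mul' := fun α β => Equiv.ext (hmul α β) }
  refine solvable_of_ker r1 ?_ (solvable_of_card_primes fun r hr hd => ?_)
  swap
  · have hd' := hd.trans r1.range.card_subgroup_dvd_card
    rw [Nat.card_perm] at hd'
    have h1 := hr.dvd_factorial.1 hd'
    have h2 := hr.two_le
    have h3 : r ≤ 4 := h1.trans hY4
    interval_cases r
    · exact Or.inl rfl
    · exact Or.inr rfl
    · exact absurd hr (by norm_num)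
  have hfix1 : ∀ α : ↥r1.ker, ∀ z : ↥Z, π (act α.1 z) = π z := fun α z => by
    have := MonoidHom.mem_ker.1 α.2
    exact (Equiv.ext_iff.1 this (π z) : _)
  let r2 : ↥r1.ker →* MulAut (D ⧸ Z) :=
    MonoidHom.mk' (fun α => QuotientGroup.congr Z Z α.1 (Subgroup.characteristic_iff_map_eq.1 inferInstance α.1))
      fun α β => MulEquiv.ext fun e => by
        obtain ⟨x, rfl⟩ := QuotientGroup.mk_surjective e
        rfl
  refine solvable_of_ker r2 (solvable_of_card_primes fun r hr hd => ?_)
    (AnisoMap.solvable hq hY4 hFew r2.range fun g hg e => ?_)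
  · by_contra hr2
    push Not at hr2
    haveI : Fact r.Prime := ⟨hr⟩
    obtain ⟨⟨⟨α, hα⟩, hα2⟩, hg⟩ := exists_prime_orderOf_dvd_card' r hd
    have ho : orderOf α = r := by rw [← hg, ← Subgroup.orderOf_coe, ← Subgroup.orderOf_coe]
    have hodd : Odd r := hr.odd_of_ne_two hr2.1
    have har : α ^ r = 1 := ho ▸ pow_orderOf_eq_one α
    obtain ⟨N, hN⟩ := IsPGroup.iff_card.1 (hD.to_subgroup Z)
    have hfixZ : ∀ i : ℕ, i ≤ N → ∀ z : ↥Z, α ((z : D) ^ 2 ^ (N - i)) = (z : D) ^ 2 ^ (N - i) := by
      intro i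
      induction i with
      | zero =>
        intro _ z
        have : z ^ 2 ^ (N - 0) = 1 := by rw [Nat.sub_zero, ← hN, pow_card_eq_one']
        have e : ((z : D)) ^ 2 ^ (N - 0) = 1 := congrArg Subtype.val this
        rw [e, map_one]
      | succ i ih =>
        intro hi z
        obtain ⟨w, hw⟩ := QuotientGroup.eq.1 (hfix1 ⟨α, hα⟩ z).symm
        have e1 : α (z : D) = z * ((w : D)) ^ 2 := by
          have e := congrArg Subtype.val hw
          have e' : ((w : D)) ^ 2 = (z : D)⁻¹ * α z := e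
          rw [e', mul_inv_cancel_left]
        have e2 : α ((z : D) ^ 2 ^ (N - (i + 1))) = (z : D) ^ 2 ^ (N - (i + 1)) * (w : D) ^ 2 ^ (N - i) := by
          rw [map_pow, e1, Commute.mul_pow ((show Commute (z : D) (w : D) from (hzc w z)).pow_right 2), ← pow_mul,
            ← pow_succ', show N - (i + 1) + 1 = N - i by omega]
        rw [e2, step hD hodd har e2 (ih (by omega) w), mul_one]
    refine absurd ho ?_
    have : α = 1 := MulEquiv.ext fun x => by
      have hm : x⁻¹ * α x ∈ Z := by
        have := congrArg (fun f : MulAut (D ⧸ Z) => f (x : D ⧸ Z)) (MonoidHom.mem_ker.1 hα2)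
        exact QuotientGroup.eq.1 this.symm
      have hw : α (x⁻¹ * α x) = x⁻¹ * α x := by simpa using hfixZ N le_rfl ⟨_, hm⟩
      have e := step hD hodd har (mul_inv_cancel_left x (α x)).symm hw
      exact (inv_mul_eq_one.1 e).symm
    rw [this, orderOf_one]
    exact hr.ne_one.symm
  · obtain ⟨α, rfl⟩ := hg
    obtain ⟨x, rfl⟩ := QuotientGroup.mk_surjective e
    show s (α.1 x) = s x
    refine Eq.trans ?_ (hfix1 α ⟨x * x, hsq x⟩)
    exact congrArg π (Subtype.ext (map_mul α.1 x x).symm)

/-- A finite 2-group with at most three involutions has solvable automorphism group. -/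
theorem solvable_mulAut {X : Type u} [Group X] [Finite X] (h2 : IsPGroup 2 X)
    (h4 : Nat.card {x : X // x * x = 1} ≤ 4) : Group.IsSolvable (MulAut X) := by
  haveI : Fact (Nat.Prime 2) := ⟨Nat.prime_two⟩
  haveI := finite_mulAut (D := X)
  obtain ⟨H, hHc, hsq, -, hcen⟩ := Cfsg.Agent.Fusion.exists_critical h2
  haveI := hHc
  haveI : H.Normal := inferInstance
  haveI : Group.IsSolvable (MulAut ↥H) := by
    refine solvable_central (h2.to_subgroup H) (fun x => Subgroup.mem_center_iff.2 fun g => ?_) ?_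
    · have h := (hsq x x.2).2
      exact Subtype.ext (by
        show (g : X) * ((x : X) * x) = (x : X) * x * g
        rw [← pow_two]
        exact h g g.2)
    · exact le_trans (Nat.card_le_card_of_injective
        (fun x : {x : ↥H // x * x = 1} => (⟨(x.1 : X), congrArg Subtype.val x.2⟩ : {x : X // x * x = 1}))
        fun a b e => Subtype.ext (Subtype.ext (congrArg (fun y : {x : X // x * x = 1} => (y : X)) e))) h4
  let r : MulAut X →* MulAut ↥H :=
    MonoidHom.mk' (fun α => (α.subgroupMap H).trans (MulEquiv.subgroupCongr (Subgroup.characteristic_iff_map_eq.1 hHc α)))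
      fun α β => MulEquiv.ext fun x => Subtype.ext rfl
  refine solvable_of_ker r (solvable_of_card_primes fun p hp hd => ?_)
    (solvable_of_solvable_injective (f := r.range.subtype) r.range.subtype_injective)
  by_contra hne
  push Not at hne
  haveI : Fact p.Prime := ⟨hp⟩
  obtain ⟨⟨α, hα⟩, hg⟩ := exists_prime_orderOf_dvd_card' p hd
  have ho : orderOf α = p := by rw [← hg, ← Subgroup.orderOf_coe]
  have h1 : α = 1 := Cfsg.Agent.Fusion.aut_eq_one_of_fix h2 hcen α
    (by rw [ho]; exact (Nat.coprime_primes hp Nat.prime_two).2 hne.1)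
    fun x hx => congrArg Subtype.val (MulEquiv.congr_fun (MonoidHom.mem_ker.1 hα) ⟨x, hx⟩)
  rw [h1, orderOf_one] at ho
  exact hp.ne_one ho.symm

end Cfsg.Agent.Lie.ThreeInv
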