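import Cfsg.Agent.Lib.Lie.Tits

/-!
The Weyl group of a Tits system has the Coxeter presentation.
-/

set_option autoImplicit false

namespace Cfsg.Agent.Lie.ExchangeCox

/-- Alternating word of length k starting with x. -/
def alt {ι : Type*} (x y : ι) : ℕ → List ι
  | 0 => []
  | k + 1 => x :: alt y x k

theorem length_alt {ι : Type*} : ∀ (x y : ι) (k : ℕ), (alt x y k).length = k
  | _, _, 0 => rfl
  | x, y, k + 1 => by simp [alt, length_alt y x k]

theorem alt_succ_succ {ι : Type*} (x y : ι) (k : ℕ) : alt x y (k + 2) = x :: y :: alt x y k := rfl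

/-- A group generated by involutions with the exchange property. -/
structure Sys (ι W : Type*) [Group W] where
  gen : ι → W
  sq : ∀ i, gen i * gen i = 1
  surj : ∀ w : W, ∃ ω : List ι, (ω.map gen).prod = w
  ne : ∀ i j, gen i = gen j → i = j
  red : List ι → Prop
  red_iff : ∀ ω, red ω ↔ ∀ ω' : List ι, (ω'.map gen).prod = (ω.map gen).prod → ω.length ≤ ω'.length
  exchange : ∀ i ω, red ω → ¬ red (i :: ω) →
    ∃ α t β, ω = α ++ t :: β ∧ gen i * (ω.map gen).prod = ((α ++ β).map gen).prod

variable {ι W : Type*} [Group W] (E : Sys ι W) {Γ : Type*} [Group Γ]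

/-- Evaluation. -/
def ev {V : Type*} [Group V] (f : ι → V) (ω : List ι) : V := (ω.map f).prod

theorem ev_cons {V : Type*} [Group V] (f : ι → V) (i : ι) (ω : List ι) :
    ev f (i :: ω) = f i * ev f ω := by simp [ev]

theorem ev_append {V : Type*} [Group V] (f : ι → V) (α β : List ι) :
    ev f (α ++ β) = ev f α * ev f β := by simp [ev]

theorem ev_alt {V : Type*} [Group V] (f : ι → V) (hsq : ∀ i, f i * f i = 1) (x y : ι) :
    ∀ k, (f x * f y) ^ k = ev f (alt x y k) * (ev f (alt y x k))⁻¹ := by
  intro k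
  have hinv : ∀ i, (f i)⁻¹ = f i := fun i => inv_eq_of_mul_eq_one_right (hsq i)
  induction k generalizing x y with
  | zero => simp [alt, ev]
  | succ k ih =>
    simp only [alt, ev_cons, mul_inv_rev, hinv]
    rw [← mul_assoc, mul_assoc (f x) (ev f _), ← ih y x, pow_succ']
    have : ∀ n : ℕ, (f x * f y) ^ n * f x = f x * (f y * f x) ^ n := by
      intro n
      induction n with
      | zero => simp
      | succ n ihn => rw [pow_succ', mul_assoc, ihn, pow_succ' (f y * f x), ← mul_assoc, ← mul_assoc, ← mul_assoc]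
    rw [← this k, ← pow_succ', pow_succ, ← mul_assoc]

theorem red_tail {i : ι} {ω : List ι} (h : E.red (i :: ω)) : E.red ω := by
  rw [E.red_iff] at h ⊢
  intro ω' hω'
  have := h (i :: ω') (by simp [hω'])
  simpa using this

theorem red_init {i : ι} {ω : List ι} (h : E.red (ω ++ [i])) : E.red ω := by
  rw [E.red_iff] at h ⊢
  intro ω' hω'
  have := h (ω' ++ [i]) (by simp [hω'])
  simpa using this

variable (f : ι → Γ)

/-- Reduced words with equal values have equal images, for length k. -/
def Good (k : ℕ) : Prop :=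
  ∀ ω ω' : List ι, ω.length = k → ω'.length = k → E.red ω → E.red ω' →
    ev E.gen ω = ev E.gen ω' → ev f ω = ev f ω'

variable (hf : ∀ i, f i * f i = 1)
  (hbraid : ∀ (x y : ι) (k : ℕ), ev E.gen (alt x y k) = ev E.gen (alt y x k) →
    ev f (alt x y k) = ev f (alt y x k))

theorem good_pair {k : ℕ} (ih : Good E f k) {x y : ι} {γ δ : List ι} (hxy : x ≠ y)
    (hl : γ.length = k) (hl' : δ.length = k) (hr : E.red (x :: γ)) (hr' : E.red (y :: δ))
    (he : ev E.gen (x :: γ) = ev E.gen (y :: δ)) :
    ev f (x :: γ) = ev f (y :: δ) ∨ ∃ α t, γ = α ++ [t] ∧ E.red (y :: x :: α) ∧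
      ev E.gen (y :: x :: α) = ev E.gen (x :: γ) ∧ ev f (y :: x :: α) = ev f (y :: δ) := by
  have hnot : ¬ E.red (y :: x :: γ) := by
    rw [E.red_iff]
    intro h
    have := h δ (by
      show ev E.gen δ = ev E.gen (y :: x :: γ)
      rw [ev_cons _ y, he, ev_cons, ← mul_assoc, E.sq, one_mul])
    simp [hl, hl'] at this
  obtain ⟨α, t, β, hab, hex⟩ := E.exchange y (x :: γ) hr hnot
  have hex' : E.gen y * ev E.gen (x :: γ) = ev E.gen (α ++ β) := hex
  have hμv : ev E.gen (y :: (α ++ β)) = ev E.gen (x :: γ) := by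
    rw [ev_cons, ← hex', ← mul_assoc, E.sq, one_mul]
  have hμl : (α ++ β).length = k := by
    have := congrArg List.length hab
    simp only [List.length_cons, List.length_append] at this ⊢
    omega
  have hμr : E.red (y :: (α ++ β)) := by
    rw [E.red_iff] at hr ⊢
    intro ω' hω'
    have := hr ω' (hω'.trans hμv)
    simp only [List.length_cons, hμl]
    simpa [hl] using this
  have hμω : ev f (y :: (α ++ β)) = ev f (y :: δ) := by
    rw [ev_cons, ev_cons]
    congr 1
    refine ih _ _ hμl hl' (red_tail E hμr) (red_tail E hr') ?_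
    have h2 := hμv.trans he
    rw [ev_cons, ev_cons] at h2
    exact mul_left_cancel h2
  cases α with
  | nil =>
    exfalso
    simp only [List.nil_append, List.cons.injEq] at hab
    rw [List.nil_append, ev_cons, ev_cons, ← hab.2] at hμv
    exact hxy (E.ne _ _ (mul_right_cancel hμv)).symm
  | cons a α =>
    simp only [List.cons_append, List.cons.injEq] at hab
    obtain ⟨rfl, hγ⟩ := hab
    rcases List.eq_nil_or_concat β with rfl | ⟨β', z, rfl⟩
    · refine Or.inr ⟨α, t, hγ, ?_, ?_, ?_⟩
      · simpa using hμr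
      · simpa using hμv
      · simpa using hμω
    · left
      rw [List.concat_eq_append] at hγ hμv hμω hμl hμr
      rw [← hμω]
      have e1 : x :: γ = (x :: (α ++ t :: β')) ++ [z] := by simp [hγ]
      have e2 : y :: (x :: α ++ (β' ++ [z])) = (y :: x :: (α ++ β')) ++ [z] := by simp
      rw [e1, e2, ev_append, ev_append]
      congr 1
      refine ih _ _ ?_ ?_ (red_init E (e1 ▸ hr)) (red_init E (e2 ▸ hμr)) ?_
      · have := congrArg List.length e1; simp at this ⊢; omega
      · simp at hμl ⊢; omega
      · have h2 := hμv.symm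
        rw [e1, e2, ev_append, ev_append] at h2
        exact mul_right_cancel h2

include hbraid in
theorem good_step {k : ℕ} (ih : Good E f k) : Good E f (k + 1) := by
  have hcore : ∀ j p, p + j = k + 1 → ∀ (x y : ι) (γ δ : List ι), x ≠ y → γ.length = k →
      δ.length = k → E.red (x :: γ) → E.red (y :: δ) → ev E.gen (x :: γ) = ev E.gen (y :: δ) →
      (x :: γ).take p = alt x y p → ev f (x :: γ) = ev f (y :: δ) := by
    intro j
    induction j with
    | zero =>
      intro p hp x y γ δ hxy hl hl' hr hr' he ht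
      rw [Nat.add_zero] at hp
      subst hp
      rw [List.take_of_length_le (by simp [hl])] at ht
      rcases good_pair E f ih hxy hl hl' hr hr' he with h | ⟨α, t, hγ, hμr, hμv, hμω⟩
      · exact h
      rw [← hμω]
      have hα : x :: α = alt x y k := by
        have h1 : (x :: γ).take k = (alt x y (k + 1)).take k := by rw [ht]
        have h2 : ∀ (a b : ι) (m : ℕ), (alt a b (m + 1)).take m = alt a b m := by
          intro a b m
          induction m generalizing a b with
          | zero => rfl
          | succ m ihm => rw [alt, List.take_succ_cons, ihm]; rfl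
        rw [h2] at h1
        rw [← h1, hγ, ← List.cons_append]
        have hlen : (x :: α).length = k := by
          rw [hγ] at hl; simpa using hl
        rw [← hlen, List.take_left]
      rw [ht] at hμv ⊢
      rw [hα] at hμv ⊢
      exact hbraid x y (k + 1) hμv.symm
    | succ j ihj =>
      intro p hp x y γ δ hxy hl hl' hr hr' he ht
      rcases good_pair E f ih hxy hl hl' hr hr' he with h | ⟨α, t, hγ, hμr, hμv, hμω⟩
      · exact h
      rw [← hμω]
      have hlen : (x :: α).length = k := by rw [hγ] at hl; simpa using hl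
      refine (ihj (p + 1) (by omega) y x (x :: α) γ (Ne.symm hxy) hlen hl hμr hr hμv ?_).symm
      rw [List.take_succ_cons, alt, List.cons.injEq]
      refine ⟨rfl, ?_⟩
      rw [← ht, hγ, ← List.cons_append, List.take_append_of_le_length (by omega)]
  intro ω ω' hl hl' hr hr' he
  obtain ⟨x, γ, rfl⟩ := List.exists_cons_of_length_eq_add_one hl
  obtain ⟨y, δ, rfl⟩ := List.exists_cons_of_length_eq_add_one hl'
  by_cases hxy : x = y
  · subst hxy
    rw [ev_cons, ev_cons] at he ⊢
    rw [ih γ δ (by simpa using hl) (by simpa using hl') (red_tail E hr) (red_tail E hr')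
      (mul_left_cancel he)]
  · exact hcore (k + 1) 0 (by omega) x y γ δ hxy (by simpa using hl) (by simpa using hl') hr hr' he
      (by simp [alt])

include hbraid in
theorem good : ∀ k, Good E f k
  | 0 => fun ω ω' hl hl' _ _ _ => by
    rw [List.eq_nil_of_length_eq_zero hl, List.eq_nil_of_length_eq_zero hl']
  | k + 1 => good_step E f hbraid (good k)

include hf hbraid in
/-- Every word has the image of a reduced word with the same value. -/
theorem exists_red : ∀ ω : List ι, ∃ ρ, E.red ρ ∧ ev E.gen ρ = ev E.gen ω ∧ ev f ρ = ev f ω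
  | [] => ⟨[], (E.red_iff _).2 (by simp), rfl, rfl⟩
  | i :: ω => by
    obtain ⟨ρ, hr, hv, hi⟩ := exists_red ω
    by_cases h : E.red (i :: ρ)
    · exact ⟨i :: ρ, h, by rw [ev_cons, ev_cons, hv], by rw [ev_cons, ev_cons, hi]⟩
    obtain ⟨α, t, β, rfl, hex⟩ := E.exchange i ρ hr h
    have hex' : E.gen i * ev E.gen (α ++ t :: β) = ev E.gen (α ++ β) := hex
    have hval : ev E.gen (i :: (α ++ β)) = ev E.gen (α ++ t :: β) := by
      rw [ev_cons, ← hex', ← mul_assoc, E.sq, one_mul]
    have hlen : (i :: (α ++ β)).length = (α ++ t :: β).length := by simp; omega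
    have hred : E.red (i :: (α ++ β)) := by
      rw [E.red_iff] at hr ⊢
      intro ω' hω'
      rw [hlen]
      exact hr ω' (hω'.trans hval)
    refine ⟨α ++ β, red_tail E hred, by rw [ev_cons E.gen i ω, ← hv, hex'], ?_⟩
    have hg := good E f hbraid _ _ _ hlen rfl hred hr hval
    rw [ev_cons f i ω, ← hi, ← hg, ev_cons, ← mul_assoc, hf, one_mul]

include hf hbraid in
theorem eq_one_of_ev {ω : List ι} (h : ev E.gen ω = 1) : ev f ω = 1 := by
  obtain ⟨ρ, hr, hv, hi⟩ := exists_red E f hf hbraid ω
  rw [E.red_iff] at hr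
  have := hr [] (by show ev E.gen [] = ev E.gen ρ; rw [hv, h]; rfl)
  rw [← hi, List.eq_nil_of_length_eq_zero (Nat.le_zero.1 this)]
  rfl

end Cfsg.Agent.Lie.ExchangeCox

namespace Cfsg.Agent.Lie.ExchangeCox

variable {ι W : Type*} [Group W] (E : Sys ι W)

/-- The Coxeter matrix. -/
noncomputable def cox : CoxeterMatrix ι where
  M := Matrix.of fun i j => orderOf (E.gen i * E.gen j)
  isSymm := by
    refine Matrix.IsSymm.ext fun i j => ?_
    simp only [Matrix.of_apply]
    rw [← orderOf_inv (E.gen i * E.gen j), mul_inv_rev, inv_eq_of_mul_eq_one_right (E.sq i),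
      inv_eq_of_mul_eq_one_right (E.sq j)]
  diagonal i := by simp [E.sq]
  off_diagonal i j hij h := hij (E.ne i j (by
    simp only [Matrix.of_apply] at h
    rw [orderOf_eq_one_iff, mul_eq_one_iff_eq_inv, inv_eq_of_mul_eq_one_right (E.sq j)] at h
    exact h))

theorem cox_apply (i j : ι) : (cox E) i j = orderOf (E.gen i * E.gen j) := rfl

theorem simple_sq (i : ι) : (cox E).simple i * (cox E).simple i = 1 :=
  (cox E).toCoxeterSystem.simple_mul_simple_self i

theorem simple_pow (i j : ι) : ((cox E).simple i * (cox E).simple j) ^ (cox E) i j = 1 :=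
  (cox E).toCoxeterSystem.simple_mul_simple_pow i j

theorem liftable : CoxeterMatrix.IsLiftable (cox E) E.gen := fun i j => by
  rw [cox_apply]; exact pow_orderOf_eq_one _

/-- The map from the Coxeter group. -/
noncomputable def toW : (cox E).Group →* W := (cox E).toCoxeterSystem.lift ⟨E.gen, liftable E⟩

theorem toW_simple (i : ι) : toW E ((cox E).simple i) = E.gen i :=
  (cox E).toCoxeterSystem.lift_apply_simple (liftable E) i

theorem toW_ev (ω : List ι) : toW E (ev (cox E).simple ω) = ev E.gen ω := by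
  induction ω with
  | nil => simp [ev]
  | cons i ω ih => rw [ev_cons, ev_cons, map_mul, ih, toW_simple]

theorem exists_word (g : (cox E).Group) : ∃ ω : List ι, ev (cox E).simple ω = g := by
  obtain ⟨ω, hω⟩ := (cox E).toCoxeterSystem.wordProd_surjective g
  exact ⟨ω, by rw [← hω]; rfl⟩

theorem toW_bijective : Function.Bijective (toW E) := by
  refine ⟨(injective_iff_map_eq_one _).2 fun g hg => ?_, fun w => ?_⟩
  · obtain ⟨ω, rfl⟩ := exists_word E g
    rw [toW_ev] at hg
    refine eq_one_of_ev E _ (simple_sq E) (fun x y k h => ?_) hg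
    have h1 : (E.gen x * E.gen y) ^ k = 1 := by rw [ev_alt _ E.sq, h, mul_inv_cancel]
    obtain ⟨m, hm⟩ := orderOf_dvd_of_pow_eq_one h1
    have h2 : ((cox E).simple x * (cox E).simple y) ^ k = 1 := by
      rw [hm, pow_mul, ← cox_apply, simple_pow, one_pow]
    rw [ev_alt _ (simple_sq E), mul_inv_eq_one] at h2
    exact h2
  · obtain ⟨ω, hω⟩ := E.surj w
    exact ⟨ev (cox E).simple ω, by rw [toW_ev]; exact hω⟩

/-- The Coxeter system. -/
noncomputable def coxeterSystem : CoxeterSystem (cox E) W :=
  ⟨(MulEquiv.ofBijective (toW E) (toW_bijective E)).symm⟩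

theorem coxeterSystem_simple (i : ι) : (coxeterSystem E).simple i = E.gen i := by
  show (MulEquiv.ofBijective (toW E) (toW_bijective E)) ((cox E).simple i) = _
  exact toW_simple E i

end Cfsg.Agent.Lie.ExchangeCox

namespace Cfsg.Agent.Lie.Tits

variable {G : Type*} [Group G] (P : Cfsg.BNPair G) [hN : ((P.B ⊓ P.N).subgroupOf P.N).Normal]

/-- The image of a distinguished representative in the Weyl group. -/
def genW (s : P.S) : P.N ⧸ (P.B ⊓ P.N).subgroupOf P.N := QuotientGroup.mk (⟨(s : G), P.subset s.2⟩ : P.N)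

theorem mk_eq_iff {a b : P.N} :
    (QuotientGroup.mk a : P.N ⧸ (P.B ⊓ P.N).subgroupOf P.N) = QuotientGroup.mk b ↔
      Cong P (a : G) (b : G) := by
  rw [QuotientGroup.eq, Subgroup.mem_subgroupOf]
  rfl

theorem prod_genW (ω : List P.S) : ∃ a : P.N, (a : G) = (ω.map Subtype.val).prod ∧
    (ω.map (genW P)).prod = QuotientGroup.mk a := by
  induction ω with
  | nil => exact ⟨1, by simp, by simp⟩
  | cons s ω ih =>
    obtain ⟨a, ha, he⟩ := ih
    exact ⟨⟨(s : G), P.subset s.2⟩ * a, by simp [ha], by simp [he, genW]⟩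

theorem val_isWord (ω : List P.S) : IsWord P (ω.map Subtype.val) := by
  intro x hx
  obtain ⟨s, -, rfl⟩ := List.mem_map.1 hx
  exact s.2

theorem genW_eq_iff (ω ω' : List P.S) : (ω.map (genW P)).prod = (ω'.map (genW P)).prod ↔
    Cong P (ω.map Subtype.val).prod (ω'.map Subtype.val).prod := by
  obtain ⟨a, ha, he⟩ := prod_genW P ω
  obtain ⟨b, hb, he'⟩ := prod_genW P ω'
  rw [he, he', mk_eq_iff, ha, hb]

theorem lift_word {τ : List G} (hτ : IsWord P τ) : ∃ τ' : List P.S, τ'.map Subtype.val = τ := by
  induction τ with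
  | nil => exact ⟨[], rfl⟩
  | cons x τ ih =>
    obtain ⟨τ', h⟩ := ih fun y hy => hτ y (List.mem_cons_of_mem _ hy)
    exact ⟨⟨x, hτ x List.mem_cons_self⟩ :: τ', by rw [List.map_cons, h]⟩

/-- The exchange system of the Weyl group. -/
noncomputable def weylSys : ExchangeCox.Sys P.S (P.N ⧸ (P.B ⊓ P.N).subgroupOf P.N) where
  gen := genW P
  sq s := by
    rw [genW, ← QuotientGroup.mk_mul, QuotientGroup.eq_one_iff, Subgroup.mem_subgroupOf]
    exact S_sq s.2
  surj w := by
    obtain ⟨n, rfl⟩ := QuotientGroup.mk_surjective w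
    obtain ⟨τ, hτ, -, hc⟩ := exists_reduced (P := P) n.2
    obtain ⟨τ', rfl⟩ := lift_word P hτ
    obtain ⟨a, ha, he⟩ := prod_genW P τ'
    refine ⟨τ', ?_⟩
    rw [he, mk_eq_iff, ha]
    exact hc
  ne s t h := by
    rw [genW, genW, mk_eq_iff] at h
    exact Subtype.ext (P.inj _ s.2 _ t.2 (H_le_B h))
  red ω := len P (ω.map Subtype.val).prod = ω.length
  red_iff ω := by
    constructor
    · intro h ω' he
      rw [genW_eq_iff] at he
      rw [← h, ← len_congr he]
      simpa using len_le (val_isWord P ω') (Cong.refl _)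
    · intro h
      refine le_antisymm (by simpa using len_le (val_isWord P ω) (Cong.refl _)) ?_
      obtain ⟨τ, hτ, hl, hc⟩ := exists_reduced (word_N (val_isWord P ω))
      obtain ⟨τ', rfl⟩ := lift_word P hτ
      rw [← hl]
      simpa using h τ' ((genW_eq_iff P _ _).2 hc)
  exchange s ω hr hn := by
    have hs := s.2
    have hle : len P ((s : G) * (ω.map Subtype.val).prod) ≤ (ω.map Subtype.val).length := by
      have h1 := len_mul_le hs (word_N (val_isWord P ω))
      simp only [List.map_cons, List.prod_cons, List.length_cons] at hn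
      simp only [List.length_map]
      omega
    obtain ⟨α, t, β, hab, hc⟩ := exchange hs _ (val_isWord P ω) (by simpa using hr) hle
    obtain ⟨α', tl, rfl, hα, htl⟩ := List.map_eq_append_iff.1 hab
    obtain ⟨t', β', rfl, ht, hβ⟩ := List.map_eq_cons_iff.1 htl
    subst hα ht hβ
    refine ⟨α', t', β', rfl, ?_⟩
    have h := (genW_eq_iff P (s :: (α' ++ t' :: β')) (α' ++ β')).2 (by simpa using hc)
    simpa using h

end Cfsg.Agent.Lie.Tits
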