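import Mathlib.GroupTheory.PGroup
import Mathlib.GroupTheory.GroupAction.MultipleTransitivity
import Mathlib.GroupTheory.GroupAction.Quotient
import Mathlib.Data.Fintype.Perm
import Mathlib.Data.Fintype.CardEmbedding
import Mathlib.Tactic.NormNum.Prime

/-!
Fixed point counts exclude doubly transitive actions of a group of order 17971200 with suitable
subgroups of orders 27 and 25.
-/

set_option autoImplicit false
set_option linter.unusedSectionVars false

namespace Cfsg.Agent.Lie.TitsDegrees

open MulAction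

variable {T : Type*} [Group T] {Ω : Type*} [Fintype Ω] [MulAction T Ω]

/-- The number of fixed points. -/
noncomputable def fx (Ω : Type*) [MulAction T Ω] (g : T) : ℕ := Nat.card (fixedBy Ω g)

theorem fx_conj (h g : T) : fx Ω (h * g * h⁻¹) = fx Ω g := by
  refine (Nat.card_congr (Equiv.subtypeEquiv (MulAction.toPerm h) fun x => ?_)).symm
  simp only [mem_fixedBy, MulAction.toPerm_apply, mul_smul, inv_smul_smul, smul_left_cancel_iff]

theorem fx_one : fx Ω (1 : T) = Fintype.card Ω := by
  rw [fx, fixedBy_one_eq_univ, Nat.card_eq_fintype_card]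
  exact Fintype.card_setUniv

theorem fx_lt [FaithfulSMul T Ω] {g : T} (hg : g ≠ 1) : fx Ω g < Fintype.card Ω := by
  classical
  rw [fx, Nat.card_eq_fintype_card]
  obtain ⟨x, hx⟩ : ∃ x : Ω, g • x ≠ x := by
    by_contra h
    exact hg (FaithfulSMul.eq_of_smul_eq_smul (α := Ω) fun x => by simpa using (not_exists.1 h) x)
  exact Fintype.card_subtype_lt (x := x) hx

theorem sum_fix (P : Subgroup T) [Fintype P] (f : ℕ) (hf : ∀ g : P, g ≠ 1 → fx Ω (g : T) = f) :
    ∃ k, Fintype.card Ω + (Nat.card P - 1) * f = k * Nat.card P ∧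
      ((∀ x : Ω, ∃ g : P, g • x ≠ x) → ∀ p : ℕ, p.Prime → IsPGroup p P → p * k ≤ Fintype.card Ω) := by
  classical
  haveI : Fintype (Quotient (orbitRel P Ω)) := Fintype.ofFinite _
  refine ⟨Fintype.card (Quotient (orbitRel P Ω)), ?_, fun hno p hp hP => ?_⟩
  · have h := MulAction.sum_card_fixedBy_eq_card_orbits_mul_card_group P Ω
    have e : ∀ g : P, Fintype.card (fixedBy Ω g) = fx Ω (g : T) := fun g => by
      rw [fx, ← Nat.card_eq_fintype_card]
      rfl
    simp only [e] at h
    rw [← Finset.add_sum_erase _ _ (Finset.mem_univ (1 : P)), OneMemClass.coe_one, fx_one,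
      Finset.sum_congr rfl fun g hg => hf g (Finset.ne_of_mem_erase hg), Finset.sum_const, Finset.card_erase_of_mem
        (Finset.mem_univ _), Finset.card_univ, smul_eq_mul] at h
    rw [Nat.card_eq_fintype_card (α := P)]
    exact h
  · haveI := Fact.mk hp
    rw [Fintype.card_congr (MulAction.selfEquivSigmaOrbits P Ω), Fintype.card_sigma, mul_comm, ← smul_eq_mul]
    refine Finset.card_nsmul_le_sum _ _ _ fun q _ => ?_
    obtain ⟨n, hn⟩ := hP.card_orbit q.out
    rw [← Nat.card_eq_fintype_card, hn]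
    rcases n with _ | n
    · obtain ⟨g, hg⟩ := hno q.out
      haveI : Subsingleton (orbit P q.out) := by
        rw [pow_zero] at hn
        exact (Nat.card_eq_one_iff_unique.1 hn).1
      exact absurd (congrArg Subtype.val (Subsingleton.elim (⟨g • q.out, mem_orbit _ g⟩ : orbit P q.out) ⟨q.out, mem_orbit_self _⟩)) hg
    · exact Nat.le_self_pow (Nat.succ_ne_zero n) p

theorem degrees : ((List.range 4241).all fun n => Nat.blt n 3 || (!(Nat.beq (17971200 % (n * (n - 1))) 0) ||
    [3, 4, 5, 6, 9, 10, 13, 16, 25, 26, 27, 40, 65].contains n)) = true := by decide +kernel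

theorem no_doubly [FaithfulSMul T Ω] (hT : Nat.card T = 17971200) (h3 : 3 ≤ Fintype.card Ω)
    (P Q : Subgroup T) (hP : Nat.card P = 27) (hQ : Nat.card Q = 25) (a b w c : T)
    (haP : ∀ g : P, g ≠ 1 → ∃ h : T, (g : T) = h * a * h⁻¹)
    (hbQ : ∀ g : Q, g ≠ 1 → ∃ h : T, (g : T) = h * b * h⁻¹) (hb : b ∈ Q) (ha1 : a ≠ 1) (hb1 : b ≠ 1)
    (hw : ∀ g ∈ Q, w * g * w⁻¹ ∈ Q) (hwa : w = c * a * c⁻¹) (ha3 : a ^ 3 = 1) :
    ¬ IsMultiplyPretransitive T Ω 2 := by
  classical
  intro h2
  haveI := h2
  haveI : Finite T := Nat.finite_of_card_ne_zero (by rw [hT]; norm_num)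
  haveI : Fintype P := Fintype.ofFinite P
  haveI : Fintype Q := Fintype.ofFinite Q
  set n := Fintype.card Ω with hn
  haveI : Nonempty (Fin 2 ↪ Ω) := Function.Embedding.nonempty_of_card_le (by rw [Fintype.card_fin]; omega)
  have hdvd : n * (n - 1) ∣ 17971200 := by
    have h := MulAction.index_stabilizer_of_transitive T (Classical.arbitrary (Fin 2 ↪ Ω))
    rw [Nat.card_eq_fintype_card, Fintype.card_embedding_eq, Fintype.card_fin] at h
    rw [← hT]
    refine dvd_trans (dvd_of_eq ?_) (Subgroup.index_dvd_card (stabilizer T (Classical.arbitrary (Fin 2 ↪ Ω))))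
    rw [h]
    simp [Nat.descFactorial_succ, mul_comm, hn]
  have hmem : n ∈ [3, 4, 5, 6, 9, 10, 13, 16, 25, 26, 27, 40, 65] := by
    have hle : n * (n - 1) ≤ 17971200 := Nat.le_of_dvd (by norm_num) hdvd
    have hlt : n < 4241 := by
      by_contra hc
      have : 4241 * 4240 ≤ n * (n - 1) := Nat.mul_le_mul (by omega) (by omega)
      omega
    have h := List.all_eq_true.1 degrees n (List.mem_range.2 hlt)
    simp only [Bool.or_eq_true, Bool.not_eq_true', List.contains_iff_mem] at h
    rcases h with h | h | h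
    · exact absurd (Nat.blt_eq.mp h) (by omega)
    · exact absurd (Nat.mod_eq_zero_of_dvd hdvd) (fun e => by rw [e] at h; exact Bool.false_ne_true h.symm)
    · exact h
  have hfP : ∀ g : P, g ≠ 1 → fx Ω (g : T) = fx Ω a := fun g hg => by
    obtain ⟨h, e⟩ := haP g hg
    rw [e, fx_conj]
  have hfQ : ∀ g : Q, g ≠ 1 → fx Ω (g : T) = fx Ω b := fun g hg => by
    obtain ⟨h, e⟩ := hbQ g hg
    rw [e, fx_conj]
  obtain ⟨k, hk, -⟩ := sum_fix (Ω := Ω) P _ hfP
  obtain ⟨m, hm, hm'⟩ := sum_fix (Ω := Ω) Q _ hfQ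
  rw [hP, ← hn] at hk
  rw [hQ, ← hn] at hm
  have hfa : fx Ω a < n := fx_lt ha1
  have hfb : fx Ω b < n := fx_lt hb1
  haveI : Fact (Nat.Prime 5) := ⟨by norm_num⟩
  have hQp : IsPGroup 5 Q := IsPGroup.of_card (n := 2) (by rw [hQ]; norm_num)
  have h27 : 27 ≤ n := by
    by_contra hc
    omega
  have hcases : n = 27 ∨ n = 40 ∨ n = 65 := by
    simp only [List.mem_cons, List.not_mem_nil, or_false] at hmem
    omega
  rcases hcases with h | h
  · -- twenty-seven points
    have hfa0 : fx Ω a = 0 := by omega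
    have hfb2 : fx Ω b = 2 := by omega
    have hcw : fx Ω w = 0 := by rw [hwa, fx_conj, hfa0]
    have hmod := hQp.card_modEq_card_fixedPoints Ω
    have hsub : Nat.card (fixedPoints Q Ω) ≤ 2 := by
      rw [← hfb2]
      refine Nat.card_mono (Set.toFinite _) fun x hx => ?_
      exact hx ⟨b, hb⟩
    have hcard : Nat.card (fixedPoints Q Ω) = 2 := by
      rw [Nat.card_eq_fintype_card (α := Ω), ← hn, h] at hmod
      rw [Nat.ModEq] at hmod
      omega
    obtain ⟨x, y, hxy, huniv⟩ := Nat.card_eq_two_iff.1 hcard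
    have hmap : ∀ z : fixedPoints Q Ω, (w⁻¹ • (z : Ω)) ∈ fixedPoints Q Ω := fun z g => by
      show (g : T) • (w⁻¹ • (z : Ω)) = w⁻¹ • (z : Ω)
      have := z.2 ⟨_, hw g g.2⟩
      change (w * g * w⁻¹) • (z : Ω) = z at this
      rw [mul_smul, mul_smul] at this
      exact eq_inv_smul_iff.2 this
    have hall : ∀ z : fixedPoints Q Ω, z = x ∨ z = y := fun z => by
      have := (Set.ext_iff.1 huniv z).2 (Set.mem_univ _)
      simpa using this
    let u : fixedPoints Q Ω → fixedPoints Q Ω := fun z => ⟨_, hmap z⟩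
    have hu3 : u (u (u x)) = x := Subtype.ext (by
      show w⁻¹ • w⁻¹ • w⁻¹ • (x : Ω) = x
      rw [← mul_smul, ← mul_smul, show w⁻¹ * w⁻¹ * w⁻¹ = (w ^ 3)⁻¹ by group, hwa, conj_pow, ha3, mul_one, mul_inv_cancel, inv_one, one_smul])
    have hux : u x = x := by
      rcases hall (u x) with e | e
      · exact e
      · rcases hall (u y) with e' | e'
        · rw [e, e', e] at hu3
          exact absurd hu3.symm hxy
        · rw [e, e', e'] at hu3
          exact absurd hu3.symm hxy
    have hpos : 0 < fx Ω w := by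
      rw [fx, Nat.card_pos_iff]
      refine ⟨⟨⟨x, ?_⟩⟩, inferInstance⟩
      show w • (x : Ω) = x
      exact eq_inv_smul_iff.1 (congrArg Subtype.val hux).symm
    omega
  · have hb15 : 15 ≤ fx Ω b := by omega
    have hno : ∀ x : Ω, ∃ g : Q, g • x ≠ x := fun x => by
      by_contra hc
      have hle : Q ≤ stabilizer T x := fun g hg => by
        simpa using (not_exists.1 hc) ⟨g, hg⟩
      haveI : IsPretransitive T Ω := MulAction.isPretransitive_of_is_two_pretransitive
      have hi := MulAction.index_stabilizer_of_transitive T x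
      have hc' := Subgroup.card_mul_index (stabilizer T x)
      rw [hi, Nat.card_eq_fintype_card (α := Ω), ← hn, hT] at hc'
      obtain ⟨j, hj⟩ := hQ ▸ Subgroup.card_dvd_of_le hle
      rw [hj] at hc'
      rcases h with h | h <;> rw [h] at hc' <;> omega
    have := hm' hno 5 (by norm_num) hQp
    omega

end Cfsg.Agent.Lie.TitsDegrees
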