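import Cfsg.Agent.Lib.Lie.TitsDegreesData
import Cfsg.Agent.Lib.Lie.TitsDegreesFix
import Cfsg.Agent.Lib.Lie.TitsMult.Index
import Cfsg.Agent.Lib.Lie.TitsMult.ThreeData
import Cfsg.Agent.Lib.Lie.TitsMult.FiveData

/-!
The Tits group has no faithful doubly transitive action.
-/

set_option autoImplicit false
set_option maxRecDepth 100000

noncomputable section

namespace Cfsg.Agent.Lie.TitsDegrees

open Cfsg.Lie Cfsg.Agent.Lie F4Two TitsMult Matrix
open scoped MatrixGroups

attribute [local irreducible] F4Two.mulL wM gW chevF4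

/-- The elements agree under a closed table. -/
def tableOK (gs : List Elem) (N : ℕ) (wd st hs : List (List ℕ)) : Bool :=
  Nat.beq gs.length 2 && (Nat.beq wd.length N && ((wd.getD 0 [] == []) && (wd.getD 1 [] == [0]) &&
    ((List.range N).all fun i => (wd.getD i []).all (fun s => Nat.blt s 2) &&
      ((List.range 2).all fun s => Nat.blt ((st.getD i []).getD s 0) N &&
        (gW gs (wd.getD i [] ++ [s]) == gW gs (wd.getD ((st.getD i []).getD s 0) []))) &&
      (Nat.beq i 0 || conjOK gs (wM (hs.getD i [])) [0] (wd.getD i []))) &&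
    decide ((List.range N).map (fun i => F4Two.app (gW gs (wd.getD i [])) vv % 2 ^ 52)).Nodup))

theorem three_ok : threeGens.all elemOK = true ∧ tableOK threeGens 27 threeWords threeStep threeConj = true ∧
    (gW threeGens [0, 0, 0] == idL) = true := by decide +kernel

theorem five_ok : fiveGens.all elemOK = true ∧ tableOK fiveGens 25 fiveWords fiveStep fiveConj = true := by
  decide +kernel

theorem norm_ok : (Nat.blt (normImg.getD 0 0) 25 && (Nat.blt (normImg.getD 1 0) 25 &&
    (conjOK fiveGens (wM normWord) [0] (fiveWords.getD (normImg.getD 0 0) []) &&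
      (conjOK fiveGens (wM normWord) [1] (fiveWords.getD (normImg.getD 1 0) []) &&
        (F4Two.mulL (wM normConj) (gW threeGens [0]) == F4Two.mulL (wM normWord) (wM normConj)))))) = true := by
  decide +kernel

/-- A word as an element. -/
def tv (h : List ℕ) : TitsGroup := ⟨TitsMult.evL h, TitsMult.evL_comm h⟩

theorem rep_tv (h : List ℕ) : Rep (tv h).1.1 (wM h) := TitsMult.rep_evL h

theorem rep_mul {x y : TitsGroup} {A B : List ℕ} (hx : Rep x.1.1 A) (hy : Rep y.1.1 B) :
    Rep (x * y).1.1 (F4Two.mulL A B) := by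
  rw [Subgroup.coe_mul, Subgroup.coe_mul]
  exact hx.mul hy

/-- A word in generators. -/
def el (gs : List Elem) (w : List ℕ) : TitsGroup := (w.map fun s => tv (gs.getD s noElem).1).prod

theorem el_val (gs : List Elem) : ∀ w : List ℕ, (el gs w).1 = (w.map (gen gs)).prod
  | [] => rfl
  | s :: w => by
    rw [el, List.map_cons, List.prod_cons, Subgroup.coe_mul, List.map_cons, List.prod_cons, ← el_val gs w]
    simp only [el, tv, gen]

theorem el_append (gs : List Elem) (u v : List ℕ) : el gs (u ++ v) = el gs u * el gs v := by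
  simp [el]

theorem rep_el {gs : List Elem} (hg : gs.all elemOK = true) (h2 : gs.length = 2) {w : List ℕ}
    (hw : ∀ s ∈ w, s < 2) : Rep (el gs w).1.1 (gW gs w) := by
  rw [el_val]
  exact rep_gW hg w (h2 ▸ hw)

theorem val_ext {x y : TitsGroup} {A : List ℕ} (hx : Rep x.1.1 A) (hy : Rep y.1.1 A) : x = y :=
  Subtype.ext (Subtype.ext (hx.eq hy))

theorem conj_of {gs : List Elem} (hg : gs.all elemOK = true) (h2 : gs.length = 2) {h a p : List ℕ}
    (ha : ∀ s ∈ a, s < 2) (hp : ∀ s ∈ p, s < 2) (hok : conjOK gs (wM h) a p = true) :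
    el gs p = tv h * el gs a * (tv h)⁻¹ := by
  refine (mul_inv_eq_iff_eq_mul.2 ?_).symm
  refine val_ext (A := F4Two.mulL (wM h) (gW gs a)) ?_ ?_
  · exact rep_mul (rep_tv h) (rep_el hg h2 ha)
  · rw [show F4Two.mulL (wM h) (gW gs a) = F4Two.mulL (gW gs p) (wM h) from beq_iff_eq.1 hok]
    exact rep_mul (rep_el hg h2 hp) (rep_tv h)

theorem subgroup_of {gs : List Elem} {N : ℕ} {wd st hs : List (List ℕ)} (hN : 1 < N)
    (hg : gs.all elemOK = true) (hok : tableOK gs N wd st hs = true) :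
    ∃ P : Subgroup TitsGroup, Nat.card P = N ∧ (∀ i < N, el gs (wd.getD i []) ∈ P) ∧
      (∀ g ∈ P, ∃ i < N, g = el gs (wd.getD i [])) ∧ el gs [0] ≠ 1 ∧
      ∀ g : P, g ≠ 1 → ∃ h : TitsGroup, (g : TitsGroup) = h * el gs [0] * h⁻¹ := by
  haveI := TitsMult.finite_GT
  simp only [tableOK, Bool.and_eq_true, Nat.beq_eq, beq_iff_eq, List.all_eq_true, List.mem_range,
    Nat.blt_eq, Bool.or_eq_true, decide_eq_true_eq] at hok
  obtain ⟨h2, hlen, ⟨⟨h0, h1⟩, hall⟩, hnd⟩ := hok
  have hlet : ∀ i < N, ∀ s ∈ wd.getD i [], s < 2 := fun i hi => (hall i hi).1.1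
  let E : ℕ → TitsGroup := fun i => el gs (wd.getD i [])
  have hstep : ∀ i < N, ∀ s < 2, ∃ j < N, E i * el gs [s] = E j := by
    intro i hi s hs
    obtain ⟨hj, he⟩ := (hall i hi).1.2 s hs
    refine ⟨_, hj, ?_⟩
    rw [← el_append]
    refine val_ext (rep_el hg h2 fun t ht => ?_) (he ▸ rep_el hg h2 (hlet _ hj))
    rcases List.mem_append.1 ht with ht | ht
    · exact hlet i hi t ht
    · rw [List.mem_singleton.1 ht]; exact hs
  have hword : ∀ (w : List ℕ), (∀ s ∈ w, s < 2) → ∀ i < N, ∃ j < N, E i * el gs w = E j := by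
    intro w
    induction w with
    | nil => exact fun _ i hi => ⟨i, hi, by simp [el]⟩
    | cons s w ih =>
      intro hw i hi
      obtain ⟨j, hj, e⟩ := hstep i hi s (hw s (List.mem_cons_self ..))
      obtain ⟨k, hk, e'⟩ := ih (fun t ht => hw t (List.mem_cons_of_mem _ ht)) j hj
      exact ⟨k, hk, by rw [show s :: w = [s] ++ w from rfl, el_append, ← mul_assoc, e, e']⟩
  have hone : E 0 = 1 := by show el gs (wd.getD 0 []) = 1; rw [h0]; rfl
  have hinj : ∀ i < N, ∀ j < N, E i = E j → i = j := by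
    intro i hi j hj e
    have hc : ∀ k < N, TitsMult.nv ((E k).1.1.val *ᵥ TitsMult.vec vv) = F4Two.app (gW gs (wd.getD k [])) vv % 2 ^ 52 := by
      intro k hk
      rw [show (E k).1.1.val *ᵥ TitsMult.vec vv = TitsMult.vec (F4Two.app (gW gs (wd.getD k [])) vv) from
        (rep_el hg h2 (hlet k hk)).mulVec vv, TitsMult.nv_vec]
    have key : (fun i => F4Two.app (gW gs (wd.getD i [])) vv % 2 ^ 52) i =
        (fun i => F4Two.app (gW gs (wd.getD i [])) vv % 2 ^ 52) j := by
      show _ % _ = _ % _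
      rw [← hc i hi, ← hc j hj, e]
    exact List.inj_on_of_nodup_map hnd (List.mem_range.2 hi) (List.mem_range.2 hj) key
  let S : Submonoid TitsGroup :=
    { carrier := {g | ∃ i < N, g = E i}
      one_mem' := ⟨0, by omega, hone.symm⟩
      mul_mem' := by
        rintro _ _ ⟨i, hi, rfl⟩ ⟨j, hj, rfl⟩
        obtain ⟨k, hk, e⟩ := hword _ (hlet j hj) i hi
        exact ⟨k, hk, e⟩ }
  let P : Subgroup TitsGroup :=
    { toSubmonoid := S
      inv_mem' := by
        intro x hx
        obtain ⟨m, hm⟩ := isOfFinOrder_iff_pow_eq_one.1 (isOfFinOrder_of_finite x)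
        have e : x⁻¹ = x ^ (m - 1) := inv_eq_of_mul_eq_one_right (by
          rw [← pow_succ', Nat.sub_add_cancel hm.1, hm.2])
        exact e ▸ S.pow_mem hx (m - 1) }
  have hne : el gs [0] ≠ 1 := fun e => by
    have := hinj 1 hN 0 (by omega) (by rw [hone]; show el gs (wd.getD 1 []) = 1; rw [h1, e])
    omega
  refine ⟨P, ?_, fun i hi => ⟨i, hi, rfl⟩, fun g hg => hg, hne, ?_⟩
  · rw [← Nat.card_fin N]
    refine (Nat.card_eq_of_bijective (fun i : Fin N => (⟨E i, i, i.2, rfl⟩ : P)) ⟨?_, ?_⟩).symm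
    · intro i j e
      exact Fin.ext (hinj i i.2 j j.2 (congrArg Subtype.val e))
    · rintro ⟨_, i, hi, rfl⟩
      exact ⟨⟨i, hi⟩, rfl⟩
  · rintro ⟨_, i, hi, rfl⟩ hg1
    rcases (hall i hi).2 with hz | hz
    · exact absurd (Subtype.ext (show E i = 1 from (congrArg E hz).trans hone)) hg1
    · exact ⟨_, conj_of hg h2 (fun s hs => by rw [List.mem_singleton.1 hs]; norm_num) (hlet i hi) hz⟩

theorem not_two_transitive {Ω : Type*} [Fintype Ω] [MulAction TitsGroup Ω] [FaithfulSMul TitsGroup Ω]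
    (hΩ : 3 ≤ Fintype.card Ω) : ¬ MulAction.IsMultiplyPretransitive TitsGroup Ω 2 := by
  obtain ⟨hg3, ht3, hcube⟩ := three_ok
  obtain ⟨hg5, ht5⟩ := five_ok
  obtain ⟨P, hP, -, -, ha, hPc⟩ := subgroup_of (by norm_num) hg3 ht3
  obtain ⟨Q, hQ, hQm, hQe, hb, hQc⟩ := subgroup_of (by norm_num) hg5 ht5
  have hn := norm_ok
  simp only [Bool.and_eq_true, Nat.blt_eq, beq_iff_eq] at hn
  obtain ⟨hi, hj, hA, hB, hC⟩ := hn
  have hlet : ∀ k < 25, ∀ s ∈ fiveWords.getD k [], s < 2 := by decide +kernel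
  have hgen : ∀ s < 2, el fiveGens [s] ∈ Q ∧ tv normWord * el fiveGens [s] * (tv normWord)⁻¹ ∈ Q := by
    intro s hs
    constructor
    · obtain ⟨k, hk, e⟩ : ∃ k < 25, fiveWords.getD k [] = [s] := by revert s; decide +kernel
      exact e ▸ hQm k hk
    · interval_cases s
      · rw [← conj_of hg5 rfl (by simp) (hlet _ hi) hA]
        exact hQm _ hi
      · rw [← conj_of hg5 rfl (by simp) (hlet _ hj) hB]
        exact hQm _ hj
  have hword : ∀ w : List ℕ, (∀ s ∈ w, s < 2) → tv normWord * el fiveGens w * (tv normWord)⁻¹ ∈ Q := by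
    intro w
    induction w with
    | nil => exact fun _ => by simp [el]
    | cons s w ih =>
      intro hw
      rw [show s :: w = [s] ++ w from rfl, el_append, show tv normWord * (el fiveGens [s] * el fiveGens w) *
        (tv normWord)⁻¹ = (tv normWord * el fiveGens [s] * (tv normWord)⁻¹) *
        (tv normWord * el fiveGens w * (tv normWord)⁻¹) by group]
      exact mul_mem (hgen s (hw s (List.mem_cons_self ..))).2 (ih fun t ht => hw t (List.mem_cons_of_mem _ ht))
  have h0 : ∀ s ∈ [0], s < 2 := by simp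
  refine no_doubly TitsMult.card_tits hΩ P Q hP hQ (el threeGens [0]) (el fiveGens [0]) (tv normWord) (tv normConj)
    hPc hQc (hgen 0 (by norm_num)).1 ha hb (fun g hg => ?_) ?_ ?_
  · obtain ⟨k, hk, rfl⟩ := hQe g hg
    exact hword _ (hlet k hk)
  · refine (mul_inv_eq_iff_eq_mul.2 ?_).symm
    refine val_ext (A := F4Two.mulL (wM normConj) (gW threeGens [0])) (rep_mul (rep_tv _) (rep_el hg3 rfl h0)) ?_
    rw [hC]
    exact rep_mul (rep_tv _) (rep_tv _)
  · rw [show el threeGens [0] ^ 3 = el threeGens [0, 0, 0] by simp [el, pow_succ, mul_assoc]]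
    refine val_ext (A := idL) (beq_iff_eq.1 hcube ▸ rep_el hg3 rfl (by simp)) ?_
    exact rep_one

end Cfsg.Agent.Lie.TitsDegrees
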