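import Cfsg.Agent.Lib.Lie.TitsMult.Defs

/-!
Subgroups of orders 27 and 25 of the Tits group with conjugators between their elements (generated).
-/

set_option autoImplicit false
set_option maxRecDepth 100000

namespace Cfsg.Agent.Lie.TitsDegrees

/-- words for the elements -/
def threeWords : List (List ℕ) := [[], [0], [1], [0, 0], [0, 1], [1, 0], [1, 1], [0, 0, 1], [0, 1, 0], [0, 1, 1], [1, 0, 0], [1, 0, 1], [1, 1, 0], [0, 0, 1, 0], [0, 0, 1, 1], [0, 1, 0, 0], [0, 1, 0, 1], [0, 1, 1, 0], [1, 0, 1, 1], [1, 1, 0, 1], [0, 0, 1, 0, 0], [0, 0, 1, 0, 1], [0, 0, 1, 1, 0], [0, 1, 0, 1, 1], [0, 1, 1, 0, 1], [0, 0, 1, 0, 1, 1], [0, 0, 1, 1, 0, 1]]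

/-- right multiplication by the generators -/
def threeStep : List (List ℕ) := [[1, 2], [3, 4], [5, 6], [0, 7], [8, 9], [10, 11], [12, 0], [13, 14], [15, 16], [17, 1], [2, 17], [14, 18], [16, 19], [20, 21], [22, 3], [4, 22], [6, 23], [21, 24], [23, 5], [24, 20], [7, 12], [9, 25], [11, 26], [25, 8], [26, 10], [18, 13], [19, 15]]

/-- conjugators onto the elements -/
def threeConj : List (List ℕ) := [[], [], [12, 6, 11, 12, 7, 6], [9], [12, 8, 8, 8, 11, 12, 11, 12, 10, 11, 12, 6], [1, 11, 7, 7, 7, 7, 7, 7, 7, 12, 11, 6, 12, 11, 7, 12, 10], [12, 11, 12, 9, 4, 8], [8, 8, 8, 11, 12, 11, 12, 11, 6, 12, 11, 7], [0, 7, 7, 7, 7, 7, 7, 7, 12, 11, 6, 12, 11, 7, 12, 10], [0, 3, 5, 5, 5, 8, 8, 8, 12, 11, 12, 11, 12, 11, 12, 7], [2, 12, 7, 7, 7, 7, 7, 7, 7, 11, 12, 11, 12, 8, 11, 12, 7, 0], [2, 7, 7, 7, 7, 7, 7, 7, 12, 11, 12, 10, 11, 12, 5, 10], [8,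 8, 8, 4, 11, 12, 11, 12, 11, 12, 4, 10], [2, 9, 11, 12, 11, 6, 12, 7], [2, 11, 7, 7, 7, 7, 7, 7, 7, 12, 11, 12, 10, 11, 12, 5, 10], [11, 12, 6, 11, 12, 7, 6], [9, 8, 8, 8, 4, 11, 12, 11, 12, 11, 12, 4, 10], [2, 8, 8, 8, 4, 12, 11, 12, 11, 12, 4, 10], [6, 1, 12, 11, 12, 3], [4, 6, 12, 11, 12, 11, 12, 4], [1, 5, 5, 5, 8, 8, 8, 12, 11, 12, 6, 11, 12, 10, 0], [11, 12, 11, 12, 9, 4, 8], [2, 9, 11, 12, 11, 12, 4, 8], [12, 11, 6, 12, 7, 12, 11, 12], [6, 12, 8, 11, 12, 6], [12, 7, 11, 7, 12, 11, 7, 12], [1, 3, 12, 11, 10, 12, 11, 10, 12]]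

/-- words for the elements -/
def fiveWords : List (List ℕ) := [[], [0], [1], [0, 0], [0, 1], [1, 1], [0, 0, 0], [0, 0, 1], [0, 1, 1], [1, 1, 1], [0, 0, 0, 0], [0, 0, 0, 1], [0, 0, 1, 1], [0, 1, 1, 1], [1, 1, 1, 1], [0, 0, 0, 0, 1], [0, 0, 0, 1, 1], [0, 0, 1, 1, 1], [0, 1, 1, 1, 1], [0, 0, 0, 0, 1, 1], [0, 0, 0, 1, 1, 1], [0, 0, 1, 1, 1, 1], [0, 0, 0, 0, 1, 1, 1], [0, 0, 0, 1, 1, 1, 1], [0, 0, 0, 0, 1, 1, 1, 1]]

/-- right multiplication by the generators -/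
def fiveStep : List (List ℕ) := [[1, 2], [3, 4], [4, 5], [6, 7], [7, 8], [8, 9], [10, 11], [11, 12], [12, 13], [13, 14], [0, 15], [15, 16], [16, 17], [17, 18], [18, 0], [2, 19], [19, 20], [20, 21], [21, 1], [5, 22], [22, 23], [23, 3], [9, 24], [24, 6], [14, 10]]

/-- conjugators onto the elements -/
def fiveConj : List (List ℕ) := [[], [], [3, 8, 12, 8, 0], [8, 7, 3], [6, 6, 6, 10, 10, 10, 10, 10, 10, 10, 12, 11, 12, 9, 5, 10], [8, 1, 12, 7, 3], [7, 8, 5, 0], [4, 12, 5, 7, 12, 11, 12, 10], [12, 8, 12, 9, 11, 12, 10], [8, 12, 7, 3], [7, 4, 7], [4, 9, 12, 7, 12, 11, 12, 10], [10, 10, 10, 10, 10, 10, 10, 12, 11, 12, 5, 8, 12], [12, 7, 12, 7, 11, 12, 10, 0], [8, 12, 8, 2, 0], [6, 6, 6, 10, 10, 10, 10, 10, 10, 10, 12, 5, 11, 12, 10, 4], [10, 10, 10, 10, 10, 10, 10, 12, 7, 11, 12, 4, 10], [10, 10, 10, 10, 10, 10, 10, 12, 7, 11, 12, 5, 10, 0],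 [2, 8, 8, 8, 10, 12, 11, 12, 10, 5, 2], [12, 5, 8, 12, 11, 12, 10], [1, 10, 10, 10, 10, 10, 10, 10, 12, 7, 11, 12, 4, 10], [4, 10, 10, 10, 10, 10, 10, 10, 12, 11, 5, 12, 10, 6, 0], [1, 12, 5, 8, 12, 11, 12, 10], [4, 10, 10, 10, 10, 10, 10, 10, 12, 7, 11, 10, 12, 10], [0, 10, 10, 10, 10, 10, 10, 10, 12, 11, 12, 7, 12, 5, 2]]

/-- an element of order three normalising the second subgroup -/
def normWord : List ℕ := [12, 8, 12, 9, 11, 12, 10]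

/-- its conjugator -/
def normConj : List ℕ := [0, 12, 7, 12, 8]

/-- the images of the generators -/
def normImg : List ℕ := [8, 13]

end Cfsg.Agent.Lie.TitsDegrees
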