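import Cfsg.Agent.Lib.Lie.Relations

/-!
Diagonal elements: h_i(c) and conjugation by diagonal matrices attached to characters.
-/

set_option autoImplicit false

namespace Cfsg.Agent.Lie

open Cfsg.Lie Matrix

/-- The diagonal matrix which is 1 on the h_j and χ(s) on e_s. -/
noncomputable def diagM (D : ChevalleyDatum) {F : Type*} [Field F] (χ : ℕ → F) :
    Matrix D.Idx D.Idx F :=
  Matrix.diagonal (Sum.elim (fun _ => (1 : F)) fun s => χ s.val)

variable {D : ChevalleyDatum} {F : Type*} [Field F]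

theorem diagM_mulVec_eH (χ : ℕ → F) (j : ℕ) (hj : j < D.rank) :
    diagM D χ *ᵥ eI D F j = eI D F j := by
  funext p
  rw [diagM, mulVec_diagonal]
  cases p with
  | inl i => simp
  | inr v =>
    have : D.rank + (v : ℕ) ≠ j := by omega
    simp [eI_apply, idx_inr, this]

theorem diagM_mulVec_eR (χ : ℕ → F) (s : ℕ) : diagM D χ *ᵥ eR D F s = χ s • eR D F s := by
  funext p
  rw [diagM, mulVec_diagonal, Pi.smul_apply, smul_eq_mul]
  cases p with
  | inl i =>
    have : (i : ℕ) ≠ D.rank + s := by have := i.isLt; omega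
    simp [eI_apply, idx_inl, this]
  | inr v =>
    by_cases h : (v : ℕ) = s <;> simp [eI_apply, idx_inr, h]

namespace Facts

variable (hF : Facts D)

/-- A multiplicative function on the roots, as needed to act on the chain table. -/
structure IsChar (χ : ℕ → F) : Prop where
  neg : ∀ s, s < D.nroots → χ (D.neg s) * χ s = 1
  chain : ∀ s, s < D.nroots → ∀ v, v < D.nroots → ∀ q ∈ (D.chainEntry s v).zipIdx,
    χ q.1.1 = χ v * χ s ^ (q.2 + 1)

theorem diag_chainVec {χ : ℕ → F} (hχ : IsChar (D := D) χ) (s v : ℕ) (hs : s < D.nroots)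
    (hv : v < D.nroots) (t : F) :
    diagM D χ *ᵥ chainVec s v t = χ v • chainVec s v (χ s * t) := by
  simp only [chainVec]
  have key : ∀ L : List ((ℕ × ℤ) × ℕ), (∀ q ∈ L, χ q.1.1 = χ v * χ s ^ (q.2 + 1)) →
      diagM D χ *ᵥ (L.map fun q => ((q.1.2 : F) * t ^ (q.2 + 1)) • eR D F q.1.1).sum =
        χ v • (L.map fun q => ((q.1.2 : F) * (χ s * t) ^ (q.2 + 1)) • eR D F q.1.1).sum := by
    intro L hL
    induction L with
    | nil => simp
    | cons q L ih =>
      simp only [List.map_cons, List.sum_cons, mulVec_add, smul_add, mulVec_smul, diagM_mulVec_eR,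
        smul_smul, ih fun x hx => hL x (List.mem_cons_of_mem _ hx)]
      congr 2
      rw [hL q (by simp)]
      ring
  exact key _ (hχ.chain s hs v hv)

include hF in
/-- diag(χ) x_s(t) = x_s(χ(s) t) diag(χ). -/
theorem diag_x {χ : ℕ → F} (hχ : IsChar (D := D) χ) (s : ℕ) (hs : s < D.nroots) (t : F) :
    diagM D χ * D.x F s t = D.x F s (χ s * t) * diagM D χ := by
  refine mat_ext_eI (fun j hj => ?_) fun v hv => ?_
  · rw [← mulVec_mulVec, ← mulVec_mulVec, x_mulVec_eH s hs t j hj, mulVec_sub, mulVec_smul,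
      diagM_mulVec_eH _ j hj, diagM_mulVec_eR, x_mulVec_eH s hs _ j hj, smul_smul]
    congr 2
    ring
  · rw [← mulVec_mulVec, ← mulVec_mulVec, diagM_mulVec_eR χ v, mulVec_smul]
    by_cases h1 : v = s
    · subst h1
      rw [x_mulVec_self v hs, diagM_mulVec_eR, x_mulVec_self v hs]
    by_cases h2 : v = D.neg s
    · subst h2
      rw [x_mulVec_neg hF s hs, mulVec_sub, mulVec_add, mulVec_smul, mulVec_sum, diagM_mulVec_eR,
        diagM_mulVec_eR, x_mulVec_neg hF s hs, smul_sub, smul_add, Finset.smul_sum]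
      have hn := hχ.neg s hs
      congr 1
      · congr 1
        refine Finset.sum_congr rfl fun j hj => ?_
        rw [mulVec_smul, diagM_mulVec_eH _ j (Finset.mem_range.1 hj), smul_smul]
        congr 1
        linear_combination (-(co D s j : F) * t) * hn
      · rw [smul_smul, smul_smul]
        congr 1
        linear_combination (-χ s * t ^ 2) * hn
    · rw [x_mulVec_other hF s hs t v hv h1 h2, mulVec_add, diagM_mulVec_eR,
        diag_chainVec hχ s v hs hv, x_mulVec_other hF s hs _ v hv h1 h2, smul_add]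

include hF in
theorem isChar_pow {c : F} (hc : c ≠ 0) (f : ℕ → ℤ)
    (hf : ∀ s, s < D.nroots → f (D.neg s) = -f s)
    (hf' : ∀ s, s < D.nroots → ∀ v, v < D.nroots → ∀ q ∈ (D.chainEntry s v).zipIdx,
      f q.1.1 = f v + (q.2 + 1 : ℕ) * f s) :
    IsChar (D := D) fun s => c ^ f s := by
  have _ := hF
  refine ⟨fun s hs => ?_, fun s hs v hv q hq => ?_⟩
  · rw [hf s hs, _root_.zpow_neg, inv_mul_cancel₀ (_root_.zpow_ne_zero _ hc)]
  · show c ^ f q.1.1 = c ^ f v * (c ^ f s) ^ (q.2 + 1)
    rw [hf' s hs v hv q hq, zpow_add₀ hc, ← zpow_natCast (c ^ f s), ← _root_.zpow_mul, mul_comm (f s)]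

include hF in
theorem isChar_cartan {i : ℕ} (hi : i < D.rank) {c : F} (hc : c ≠ 0) :
    IsChar (D := D) fun s => c ^ D.cartan i s :=
  hF.isChar_pow hc _ (fun s hs => hF.cartan_neg i hi s hs)
    fun s hs v _ q hq => hF.chain_cartan s hs v q hq i hi

include hF in
/-- h_i(c) is diagonal. -/
theorem hMat_simple (i : ℕ) (hi : i < D.rank) (c : F) (hc : c ≠ 0) :
    D.hMat F (D.simple i) c = diagM D fun s => c ^ D.cartan i s := by
  have hn : D.hMat F (D.simple i) c = D.nMat F (D.simple i) c * D.nMat F (D.simple i) (-1) := by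
    simp [ChevalleyDatum.hMat, ChevalleyDatum.hWord, ChevalleyDatum.nMat, ChevalleyDatum.wordMat]
  have h1 : (-1 : F) ≠ 0 := neg_ne_zero.2 one_ne_zero
  rw [hn]
  refine mat_ext_eI (fun j hj => ?_) fun s hs => ?_
  · rw [← mulVec_mulVec, nMat_mulVec_eH hF i hi _ h1 j hj, mulVec_sub, mulVec_smul,
      nMat_mulVec_eH hF i hi c hc j hj, nMat_mulVec_eH hF i hi c hc i hi, diagM_mulVec_eH _ j hj,
      hF.cartan_simple i hi]
    push_cast
    module
  · rw [← mulVec_mulVec, nMat_mulVec_eR hF i hi _ h1 s hs, mulVec_smul,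
      nMat_mulVec_eR hF i hi c hc _ (hF.refl_lt i hi s hs), hF.refl_refl i hi s hs,
      diagM_mulVec_eR, smul_smul, hF.cartan_refl_self hi hs, _root_.neg_neg]
    congr 1
    have h := hF.sgn_mul_refl (F := F) hi hs
    have key : ∀ z : ℤ, (-1 : F) ^ (-z) = (-1) ^ z.natAbs := fun z => by
      rcases Int.natAbs_eq z with he | he
      · conv_lhs => rw [he, _root_.zpow_neg, zpow_natCast, ← inv_pow, inv_neg, inv_one]
      · conv_lhs => rw [he, _root_.neg_neg, zpow_natCast]
    have hsq : ((-1 : F) ^ (D.cartan i s).natAbs) * (-1) ^ (D.cartan i s).natAbs = 1 := by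
      rw [← pow_add, ← two_mul, pow_mul, neg_one_sq, one_pow]
    simp only [sgn] at h
    rw [key]
    linear_combination (c ^ D.cartan i s * (-1 : F) ^ (D.cartan i s).natAbs) * h + c ^ D.cartan i s * hsq

end Facts

end Cfsg.Agent.Lie
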