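import Cfsg.Agent.Lib.Lie.TwistOrth

/-!
Frobenius powers and orbits consisting of commuting fundamental roots.
-/

set_option autoImplicit false

namespace Cfsg.Agent.Lie

open Cfsg.Lie Matrix
open scoped MatrixGroups

theorem exists_frob {K : Type*} [Field K] [Fintype K] {q n : ℕ} (hq : IsPrimePow q) (hn : n ≠ 0)
    (hK : Fintype.card K = q ^ n) : ∃ fr : K →+* K, ∀ t, fr t = t ^ q := by
  obtain ⟨p, k, hp, hk, rfl⟩ := hq
  have hp' : p.Prime := hp.nat_prime
  have : Fact p.Prime := ⟨hp'⟩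
  have : CharP K p := by
    obtain ⟨c, hc⟩ := CharP.exists K
    obtain ⟨m, hc', hcard⟩ := FiniteField.card K c
    have hdvd : c ∣ (p ^ k) ^ n := by rw [← hK, hcard]; exact dvd_pow_self c m.pos.ne'
    have h1 := hc'.dvd_of_dvd_pow (hc'.dvd_of_dvd_pow hdvd)
    exact ((Nat.prime_dvd_prime_iff_eq hc' hp').1 h1) ▸ hc
  have _ := hn
  exact ⟨iterateFrobenius K p k, fun t => iterateFrobenius_def p k t⟩

variable {D : ChevalleyDatum} {F : Type*} [Field F]

namespace Twist

variable {hF : Facts D} (T : Twist hF F) {Os : List (List (Fin D.rank))}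

/-- The fundamental roots of an orbit. -/
def simples (D : ChevalleyDatum) (ω : List (Fin D.rank)) : List ℕ := ω.map fun i => D.simple i.val

theorem nw_orbit (ω : List (Fin D.rank)) :
    (hF.tsys F).nw ω = ((simples D ω).map fun r => hF.ng r (1 : F)).prod := by
  rw [TorusSys.nw, simples, List.map_map]
  congr 1
  exact List.map_congr_left fun i _ => hF.tsys_nS i

theorem neg_ne_one (hOs : okOrbits D T.R T.σ Os = true) {ω : List (Fin D.rank)} (hω : ω ∈ Os)
    (hnd : (simples D ω).Nodup) (hc : okComm2 D (simples D ω) = true) :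
    ((simples D ω).map fun r => hF.xg (D.neg r) (-1 : F)).prod ≠ 1 := by
  intro h1
  have h2 := hF.prod_ng hnd hc (fun _ => (1 : F))
  simp only [inv_one] at h2
  rw [h1, mul_one, ← nw_orbit (hF := hF)] at h2
  have hU : (hF.sys F).prodOver (simples D ω) (fun _ => 1) ∈ (hF.tsys F).U := by
    refine CommSys.US_mono _ (L := simples D ω) (fun r hr => ?_) (CommSys.prodOver_mem _ _ _)
    obtain ⟨i, -, rfl⟩ := List.mem_map.1 hr
    exact Facts.mem_posL.2 ⟨hF.simple_ge i.val i.isLt, hF.simple_lt i.val i.isLt⟩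
  obtain ⟨c, hc, hce⟩ := (hF.tsys F).nw_eq (ω := ω) (w := T.wO ω) rfl
  rw [hce] at h2
  have hB : (hF.tsys F).nW (T.wO ω) ∈ (hF.tsys F).B := by
    rw [show (hF.tsys F).nW (T.wO ω) = c⁻¹ * (c * (hF.tsys F).nW (T.wO ω)) by group, h2]
    exact mul_mem ((hF.tsys F).H_le_B (inv_mem hc)) ((hF.tsys F).U_le_B (mul_mem hU hU))
  have h3 := hF.hsep _ hB
  have h4 := T.invList_wO hOs hω
  rw [h3] at h4
  obtain ⟨r, hr⟩ := List.exists_mem_of_ne_nil _ (T.orbL_ne_nil hOs hω)
  rw [← h4] at hr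
  obtain ⟨h, hi⟩ := TorusSys.mem_invList.1 hr
  rw [RefSystem.inv_one] at hi
  exact Finset.notMem_empty _ hi

end Twist

end Cfsg.Agent.Lie
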