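import Cfsg.Agent.Lib.Lie.TwistFrob
import Cfsg.Agent.Lib.Lie.GraphTables
import Cfsg.Prelude.Def_LieTwisted

/-!
The triality twisted groups as twisted groups.
-/

set_option autoImplicit false
set_option maxRecDepth 4000

namespace Cfsg.Agent.Lie.D4

open Cfsg.Lie Matrix Twist
open scoped MatrixGroups

/-- The orbits of nodes. -/
def Os : List (List (Fin chevD4.rank)) := [[1], [0, 2, 3]].map (fnodes chevD4)

/-- The permutation of nodes. -/
def σ : Equiv.Perm (Fin chevD4.rank) :=
  nodePerm chevD4 [2, 1, 3, 0] [3, 1, 0, 2] (by decide +kernel)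

theorem okTwist_σ : okTwist chevD4 graphD4a σ = true := by decide +kernel

theorem okOrbits_Os : okOrbits chevD4 graphD4a σ Os = true := by decide +kernel

theorem orbLs : Os.map (fun ω => orbL chevD4 (ω.map Fin.val)) = [[14], [12, 13, 18]] := by decide +kernel

theorem negLs : Os.map (fun ω => Twist.negL chevD4 ω) = [[9], [11, 10, 5]] := by decide +kernel

theorem simplesLs : Os.map (fun ω => simples chevD4 ω) = [[14], [18, 13, 12]] := by decide +kernel

theorem okComm_all : ([[14], [9], [12, 13, 18], [18, 13, 12], [5, 10, 11], [11, 10, 5]] : List (List ℕ)).all (okComm chevD4) = true := by decide +kernel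

theorem okComm' {L : List ℕ} (h : L ∈ ([[14], [9], [12, 13, 18], [18, 13, 12], [5, 10, 11], [11, 10, 5]] : List (List ℕ))) : okComm chevD4 L = true :=
  List.all_eq_true.1 okComm_all L h

variable {K : Type*} [Field K] [Fintype K] {q : ℕ}

/-- The twisting endomorphism. -/
theorem exists_T (hq : IsPrimePow q) (hK : Fintype.card K = q ^ 3) :
    ∃ T : Twist factsD4 K, T.R = graphD4a ∧ T.σ = σ ∧ ∀ t, T.fr t = t ^ q := by
  obtain ⟨fr, hfr⟩ := exists_frob hq (by norm_num) hK
  obtain ⟨T, h1, h2, h3, -⟩ := factsD4.exists_twist (modField_zero K) okMap_D4a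
    (stHyp_of_mem (by simp)) okOrder_D4a (RingHom.id K) (fun t => (pow_one t).symm) σ okTwist_σ fr
  exact ⟨T, h1, h2, fun t => by rw [h3, hfr]⟩

variable (K) (q) in
/-- Everything needed about the group. -/
structure Setup where
  hq : 2 ≤ q
  hK : Nat.card K = q ^ 3
  T : Twist factsD4 K
  hR : T.R = graphD4a
  hs : T.σ = σ
  hfr : ∀ t, T.fr t = t ^ q

theorem nonempty_setup (hq : IsPrimePow q) (hK : Fintype.card K = q ^ 3) : Nonempty (Setup K q) := by
  obtain ⟨T, h1, h2, h3⟩ := exists_T hq hK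
  exact ⟨⟨hq.two_le, by rw [Nat.card_eq_fintype_card, hK], T, h1, h2, h3⟩⟩

namespace Setup

variable (S : Setup K q)

include S

theorem pow_cube (t : K) : ((t ^ q) ^ q) ^ q = t := by
  rw [← pow_mul, ← pow_mul, show q * (q * q) = q ^ 3 by ring, ← S.hK, Nat.card_eq_fintype_card]
  exact FiniteField.pow_card t

theorem stable {L : List ℕ} (h : L ∈ ([[14], [9], [12, 13, 18], [18, 13, 12], [5, 10, 11], [11, 10, 5]] :
    List (List ℕ))) : okStable chevD4 S.T.R L = true := by
  rw [S.hR]
  exact List.all_eq_true.1 (by decide +kernel : ([[14], [9], [12, 13, 18], [18, 13, 12], [5, 10, 11],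
    [11, 10, 5]] : List (List ℕ)).all (okStable chevD4 graphD4a) = true) L h

theorem expo_one {r : ℕ} (hr : r < 24) : S.T.R.expo r = 1 := by
  rw [S.hR]; revert r; decide +kernel

/-- Coordinates of the generators of the triple orbit. -/
def cB (q : ℕ) (t : K) (r : ℕ) : K :=
  if r = 18 ∨ r = 5 then t else if r = 13 ∨ r = 10 then t ^ q else (t ^ q) ^ q

theorem A_fix {r : ℕ} (hr : r = 14 ∨ r = 9) {t : K} (ht : t ^ q = t) : factsD4.xg r t ∈ S.T.fix := by
  have h := S.T.prodOver_mem_fix (L := [r]) (okComm' (by rcases hr with rfl | rfl <;> simp))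
    (S.stable (by rcases hr with rfl | rfl <;> simp)) (fun _ => t) (fun s hs => by
      obtain rfl := List.mem_singleton.1 hs
      rw [S.expo_one (by omega), pow_one, S.hfr, ht])
  simpa [CommSys.prodOver, Facts.sys_x] using h

theorem B_fix {L : List ℕ} (hL : L = [18, 13, 12] ∨ L = [5, 10, 11]) (t : K) :
    (factsD4.sys K).prodOver L (cB q t) ∈ S.T.fix := by
  refine S.T.prodOver_mem_fix (okComm' (by rcases hL with rfl | rfl <;> simp))
    (S.stable (by rcases hL with rfl | rfl <;> simp)) _ (fun s hs => ?_)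
  rw [S.hfr, S.expo_one (by rcases hL with rfl | rfl <;> simp at hs <;> omega), pow_one, S.hR]
  rcases hL with rfl | rfl <;> simp only [List.mem_cons, List.not_mem_nil, or_false] at hs <;>
    rcases hs with rfl | rfl | rfl <;>
    simp [cB, RMap.img, graphD4a, S.pow_cube]

omit S in
theorem mem_twisted {w : List (ℕ × K)} (hw : w ∈ d4Words K q) : factsD4.wg w ∈ twistedD4 K q :=
  Subgroup.subset_closure ⟨w, hw, factsD4.coe_wg w⟩

theorem A_mem {r : ℕ} (hr : r = 14 ∨ r = 9) {t : K} (ht : t ^ q = t) :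
    factsD4.xg r t ∈ twistedD4 K q := by
  have h := mem_twisted (w := [(r, t)]) (Or.inl ⟨t, ht, r, by
    simp [d4p2, d4m2]; omega, rfl⟩)
  simpa [Facts.wg] using h

theorem B_mem {L : List ℕ} (hL : L = [18, 13, 12] ∨ L = [5, 10, 11]) (t : K) :
    (factsD4.sys K).prodOver L (cB q t) ∈ twistedD4 K q := by
  have hq2 : t ^ (q ^ 2) = (t ^ q) ^ q := by rw [← pow_mul, pow_two]
  rcases hL with rfl | rfl
  · have h := mem_twisted (w := [(18, t), (13, t ^ q), (12, t ^ (q ^ 2))])
      (Or.inr ⟨t, (d4p1, d4p3, d4p4), by simp, rfl⟩)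
    simpa [Facts.wg, CommSys.prodOver, Facts.sys_x, cB, hq2] using h
  · have h := mem_twisted (w := [(5, t), (10, t ^ q), (11, t ^ (q ^ 2))])
      (Or.inr ⟨t, (d4m1, d4m3, d4m4), by simp, rfl⟩)
    simpa [Facts.wg, CommSys.prodOver, Facts.sys_x, cB, hq2] using h

theorem le_fix : twistedD4 K q ≤ S.T.fix := by
  refine (Subgroup.closure_le _).2 ?_
  rintro g ⟨w, hw, hg⟩
  rw [show g = factsD4.wg w from Units.ext (by rw [hg, factsD4.coe_wg])]
  rcases hw with ⟨t, ht, r, hr, rfl⟩ | ⟨t, rs, hrs, rfl⟩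
  · simp only [List.mem_cons, List.not_mem_nil, or_false, d4p2, d4m2] at hr
    simpa [Facts.wg] using S.A_fix hr ht
  · have hq2 : t ^ (q ^ 2) = (t ^ q) ^ q := by rw [← pow_mul, pow_two]
    simp only [List.mem_cons, List.not_mem_nil, or_false] at hrs
    rcases hrs with rfl | rfl
    · simpa [Facts.wg, CommSys.prodOver, Facts.sys_x, cB, hq2, d4p1, d4p3, d4p4] using S.B_fix (Or.inl rfl) t
    · simpa [Facts.wg, CommSys.prodOver, Facts.sys_x, cB, hq2, d4m1, d4m3, d4m4] using S.B_fix (Or.inr rfl) t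

theorem hOs : okOrbits chevD4 S.T.R S.T.σ Os = true := by rw [S.hR, S.hs]; exact okOrbits_Os

theorem closed {ω : List (Fin chevD4.rank)} (hω : ω ∈ Os) :
    ClosedList chevD4 (orbL chevD4 (ω.map Fin.val)) := by
  rw [← S.T.invList_wO S.hOs hω]; exact TorusSys.closed_invList _

theorem fix_A {x : GL chevD4.Idx K} (hcl : ClosedList chevD4 [14])
    (hx : x ∈ (factsD4.tsys K).US [14]) (hf : x ∈ S.T.fix) :
    ∃ a : K, a ^ q = a ∧ x = factsD4.xg 14 a := by
  obtain ⟨t, rfl, ht⟩ := S.T.fix_US hcl (okComm' (by simp)) (S.stable (by simp)) hx hf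
  refine ⟨t 14, ?_, by simp [CommSys.prodOver, Facts.sys_x]⟩
  have := ht 14 (by simp)
  rw [S.hfr, S.expo_one (by norm_num), pow_one, S.hR, show graphD4a.img 14 = 14 from rfl] at this
  exact this.symm

theorem fix_B {x : GL chevD4.Idx K} (hcl : ClosedList chevD4 [12, 13, 18])
    (hx : x ∈ (factsD4.tsys K).US [12, 13, 18]) (hf : x ∈ S.T.fix) :
    ∃ a : K, x = (factsD4.sys K).prodOver [18, 13, 12] (cB q a) := by
  obtain ⟨t, rfl, ht⟩ := S.T.fix_US hcl (okComm' (by simp)) (S.stable (by simp)) hx hf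
  have h18 := ht 18 (by simp)
  have h13 := ht 13 (by simp)
  rw [S.hfr, S.expo_one (by norm_num), pow_one, S.hR, show graphD4a.img 18 = 13 from rfl] at h18
  rw [S.hfr, S.expo_one (by norm_num), pow_one, S.hR, show graphD4a.img 13 = 12 from rfl] at h13
  refine ⟨t 18, ?_⟩
  rw [factsD4.prodOver_perm (L := [12, 13, 18]) (L' := [18, 13, 12]) (okComm' (by simp)) (by decide) t]
  simp [CommSys.prodOver, Facts.sys_x, cB, h13, h18]

/-- The hypotheses of the general theory. -/
def data : TwData S.T Os where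
  hOs := S.hOs
  hl := coeff_of_mem (by simp)
  G1 := twistedD4 K q
  le_fix := S.le_fix
  q := q
  d := 1
  hd := one_ne_zero
  orb_le := fun ω hω x hx => by
    have hm := List.mem_map_of_mem (f := fun ω => orbL chevD4 (ω.map Fin.val)) hω
    have hcl := S.closed hω
    rw [orbLs] at hm
    simp only [List.mem_cons, List.not_mem_nil, or_false] at hm
    obtain ⟨hxL, hxf⟩ := hx
    rcases hm with h | h <;> rw [h] at hxL hcl
    · obtain ⟨a, ha, rfl⟩ := S.fix_A hcl hxL hxf
      exact S.A_mem (Or.inl rfl) ha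
    · obtain ⟨a, rfl⟩ := S.fix_B hcl hxL hxf
      exact S.B_mem (Or.inl rfl) a
  orb_card := fun ω hω => by
    have hm := List.mem_map_of_mem (f := fun ω => orbL chevD4 (ω.map Fin.val)) hω
    have hcl := S.closed hω
    rw [orbLs] at hm
    simp only [List.mem_cons, List.not_mem_nil, or_false] at hm
    rcases hm with h | h <;> rw [h] at hcl ⊢ <;> rw [pow_one]
    · rw [List.length_singleton, pow_one]
      refine Eq.trans ?_ (card_pow_eq_self (q := q) (F := K) S.hq S.hK)
      refine (Nat.card_eq_of_bijective (fun a : {t : K // t ^ q = t} =>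
        (⟨factsD4.xg 14 a.1, CommSys.x_mem_US _ (by simp) a.1, S.A_fix (Or.inl rfl) a.2⟩ :
          ↥((factsD4.tsys K).US [14] ⊓ S.T.fix))) ⟨fun a b hab => ?_, fun x => ?_⟩).symm
      · have := factsD4.prodOver_inj hcl (t := fun _ => a.1) (t' := fun _ => b.1)
          (by simpa [CommSys.prodOver, Facts.sys_x] using congrArg Subtype.val hab) 14 (by simp)
        exact Subtype.ext this
      · obtain ⟨a, ha, hxa⟩ := S.fix_A hcl x.2.1 x.2.2
        exact ⟨⟨a, ha⟩, Subtype.ext hxa.symm⟩
    · rw [show ([12, 13, 18] : List ℕ).length = 3 from rfl, ← S.hK]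
      have hperm : ∀ a : K, (factsD4.sys K).prodOver [18, 13, 12] (cB q a) =
          (factsD4.sys K).prodOver [12, 13, 18] (cB q a) := fun a =>
        factsD4.prodOver_perm (okComm' (by simp)) (by decide) _
      refine (Nat.card_eq_of_bijective (fun a : K =>
        (⟨(factsD4.sys K).prodOver [18, 13, 12] (cB q a), by
          rw [hperm]; exact CommSys.prodOver_mem _ _ _, S.B_fix (Or.inl rfl) a⟩ :
          ↥((factsD4.tsys K).US [12, 13, 18] ⊓ S.T.fix))) ⟨fun a b hab => ?_, fun x => ?_⟩).symm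
      · have h1 := congrArg Subtype.val hab
        simp only [hperm] at h1
        have := factsD4.prodOver_inj hcl h1 18 (by simp)
        simpa [cB] using this
      · obtain ⟨a, hxa⟩ := S.fix_B hcl x.2.1 x.2.2
        exact ⟨a, Subtype.ext hxa.symm⟩
  neg_exists := fun ω hω => by
    have hn := List.mem_map_of_mem (f := fun ω => Twist.negL chevD4 ω) hω
    have hs := List.mem_map_of_mem (f := fun ω => simples chevD4 ω) hω
    rw [negLs] at hn
    rw [simplesLs] at hs
    simp only [List.mem_cons, List.not_mem_nil, or_false] at hn hs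
    have hcc : ∀ L, L = [14] ∨ L = [18, 13, 12] → okComm2 chevD4 L = true := by
      rintro L (rfl | rfl) <;> decide +kernel
    have hne := S.T.neg_ne_one S.hOs hω (by rcases hs with h | h <;> rw [h] <;> decide) (hcc _ hs)
    have hm1 : ((-1 : K)) ^ q = -1 := by rw [← S.hfr, map_neg, map_one]
    refine ⟨_, ?_, hne, ?_⟩
    · rcases hs with h | h <;> rw [h]
      · simpa [show chevD4.neg 14 = 9 from rfl] using S.A_mem (Or.inr rfl) hm1
      · simpa [CommSys.prodOver, Facts.sys_x, cB, hm1, show chevD4.neg 18 = 5 from rfl, show chevD4.neg 13 = 10 from rfl,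
          show chevD4.neg 12 = 11 from rfl] using S.B_mem (Or.inr rfl) (-1)
    · refine Subgroup.list_prod_mem _ fun g hg => ?_
      obtain ⟨r, hr, rfl⟩ := List.mem_map.1 hg
      refine CommSys.x_mem_US _ (List.mem_map.2 ⟨r, ?_, rfl⟩) _
      obtain ⟨i, hi, rfl⟩ := List.mem_map.1 hr
      exact (S.T.orbL_iff S.hOs hω (factsD4.simple_lt i i.isLt) (factsD4.simple_ge i i.isLt)).2
        ((factsD4.inRootSub_simple (nodeSet ω) i.isLt).2 (List.mem_map.2 ⟨i, hi, rfl⟩))

theorem coord : ∀ ω ∈ Os, ∀ i ∈ ω, ∃ x ∈ (factsD4.tsys K).US (orbL chevD4 (ω.map Fin.val)), x ∈ S.T.fix ∧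
    ∃ t : ℕ → K, x = (factsD4.sys K).prodOver (orbL chevD4 (ω.map Fin.val)) t ∧ t (chevD4.simple i.val) ≠ 0 := by
  intro ω hω i _
  have hm := List.mem_map_of_mem (f := fun ω => orbL chevD4 (ω.map Fin.val)) hω
  rw [orbLs] at hm
  simp only [List.mem_cons, List.not_mem_nil, or_false] at hm
  refine ⟨_, CommSys.prodOver_mem _ _ fun _ => (1 : K), ?_, fun _ => 1, rfl, one_ne_zero⟩
  rcases hm with h | h <;> rw [h] <;>
    exact S.T.prodOver_mem_fix (okComm' (by simp)) (S.stable (by simp)) _ fun r _ => by simp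

end Setup

end Cfsg.Agent.Lie.D4
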