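import Cfsg.Agent.Lib.Lie.TwistPair

/-!
Orbits of pairwise commuting roots, tori of twisted groups, and auxiliary counts.
-/

set_option autoImplicit false

namespace Cfsg.Agent.Lie

open Cfsg.Lie Matrix
open scoped MatrixGroups

/-- A list of node numbers as nodes. -/
def fnodes (D : ChevalleyDatum) (l : List ℕ) : List (Fin D.rank) :=
  l.filterMap fun i => if h : i < D.rank then some ⟨i, h⟩ else none

/-- A list of node numbers as a map of nodes. -/
def fperm (D : ChevalleyDatum) (l : List ℕ) (i : Fin D.rank) : Fin D.rank :=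
  ⟨l.getD i.val 0 % D.rank, Nat.mod_lt _ (Nat.zero_lt_of_lt i.isLt)⟩

/-- A permutation of nodes from two mutually inverse lists. -/
def nodePerm (D : ChevalleyDatum) (l l' : List ℕ)
    (h : ∀ i, fperm D l' (fperm D l i) = i ∧ fperm D l (fperm D l' i) = i) : Equiv.Perm (Fin D.rank) :=
  ⟨fperm D l, fperm D l', fun i => (h i).1, fun i => (h i).2⟩

/-- Root subgroups of different roots of the list commute. -/
def okComm (D : ChevalleyDatum) (L : List ℕ) : Bool :=
  L.all fun r => decide (r < D.nroots) && L.all fun s =>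
    r == s || (s != D.neg r && (D.commTerms r s).isEmpty)

/-- The subgroups X_{±r}, X_{±s} commute for different r, s of the list. -/
def okComm2 (D : ChevalleyDatum) (L : List ℕ) : Bool :=
  L.all fun r => decide (r < D.nroots) && L.all fun s =>
    r == s || ([r, D.neg r].all fun a => [s, D.neg s].all fun b =>
      decide (a < D.nroots) && decide (b < D.nroots) && b != a && b != D.neg a && (D.commTerms a b).isEmpty)

theorem list_prod_map_mul {α M : Type*} [Monoid M] (f g : α → M) :
    ∀ L : List α, L.Pairwise (fun r s => Commute (g r) (f s)) →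
      (L.map fun r => f r * g r).prod = (L.map f).prod * (L.map g).prod := by
  intro L
  induction L with
  | nil => simp
  | cons a L ih =>
    intro h
    rw [List.pairwise_cons] at h
    have hc : Commute (g a) (L.map f).prod := Commute.list_prod_right _ _ fun x hx => by
      obtain ⟨s, hs, rfl⟩ := List.mem_map.1 hx
      exact h.1 s hs
    simp only [List.map_cons, List.prod_cons, ih h.2]
    rw [show f a * g a * ((L.map f).prod * (L.map g).prod) = f a * (g a * (L.map f).prod) * (L.map g).prod by
      simp only [mul_assoc], hc.eq]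
    simp only [mul_assoc]

theorem card_pow_eq_self {F : Type*} [Field F] [Finite F] {q n : ℕ} (hq : 2 ≤ q)
    (hF : Nat.card F = q ^ n) : Nat.card {t : F // t ^ q = t} = q := by
  classical
  have h : Nat.card (powMonoidHom (q - 1) : Fˣ →* Fˣ).ker = Nat.gcd (Nat.card Fˣ) (q - 1) :=
    IsCyclic.card_powMonoidHom_ker Fˣ (q - 1)
  have hdvd : q - 1 ∣ Nat.card Fˣ := by
    rw [Nat.card_units, hF]
    simpa using Nat.sub_dvd_pow_sub_pow q 1 n
  rw [Nat.gcd_eq_right hdvd] at h
  have key : ∀ x : F, x ^ q = x ^ (q - 1) * x := fun x => by rw [← pow_succ]; congr 1; omega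
  have e : {t : F // t ^ q = t} ≃ Option (powMonoidHom (q - 1) : Fˣ →* Fˣ).ker :=
    { toFun := fun t => if h0 : t.1 = 0 then none else some ⟨Units.mk0 t.1 h0, by
        rw [MonoidHom.mem_ker, powMonoidHom_apply]
        ext
        rw [Units.val_pow_eq_pow_val, Units.val_mk0, Units.val_one]
        have := t.2
        rw [key] at this
        exact mul_right_cancel₀ h0 (this.trans (one_mul _).symm)⟩
      invFun := fun o => o.elim ⟨0, zero_pow (by omega)⟩ fun u => ⟨((u.1 : Fˣ) : F), by
        have h1 := congrArg Units.val (show (u.1 : Fˣ) ^ (q - 1) = 1 from u.2)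
        rw [Units.val_pow_eq_pow_val, Units.val_one] at h1
        rw [key, h1, one_mul]⟩
      left_inv := fun t => by
        by_cases h0 : t.1 = 0
        · simp only [dif_pos h0, Option.elim_none]
          exact Subtype.ext h0.symm
        · simp [dif_neg h0]
      right_inv := fun o => by
        cases o with
        | none => simp
        | some u =>
          exact (dif_neg (Units.ne_zero (u.1 : Fˣ))).trans (congrArg some (Subtype.ext (Units.ext rfl))) }
  rw [Nat.card_congr e, Finite.card_option, h]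
  omega

variable {D : ChevalleyDatum} {F : Type*} [Field F]

namespace Facts

variable (hF : Facts D)

theorem xg_commute {L : List ℕ} (hL : okComm D L = true) {r s : ℕ} (hr : r ∈ L) (hs : s ∈ L)
    (t u : F) : Commute (hF.xg r t) (hF.xg s u) := by
  simp only [okComm, List.all_eq_true, Bool.and_eq_true, decide_eq_true_eq, Bool.or_eq_true, beq_iff_eq,
    bne_iff_ne, List.isEmpty_iff] at hL
  rcases (hL r hr).2 s hs with h | ⟨hne, hempty⟩
  · rw [h]
    show _ * _ = _ * _
    rw [← xg_add, ← xg_add, add_comm]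
  · by_cases hrs : s = r
    · subst hrs
      show _ * _ = _ * _
      rw [← xg_add, ← xg_add, add_comm]
    have h := (hF.sys F).x_comm r s (hL r hr).1 (hL s hs).1 hrs hne t u
    rw [ChevalleyDatum.commWord, hempty, List.map_nil, List.map_nil, List.prod_nil, mul_one] at h
    exact h.symm

theorem prodOver_perm {L L' : List ℕ} (hL : okComm D L = true) (hp : L.Perm L') (t : ℕ → F) :
    (hF.sys F).prodOver L t = (hF.sys F).prodOver L' t := by
  simp only [CommSys.prodOver, sys_x]
  refine List.Perm.prod_eq' (hp.map _) ?_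
  exact List.pairwise_map.2 (List.pairwise_of_forall_mem_list fun r hr s hs => hF.xg_commute hL hr hs _ _)

theorem prodOver_mem_group (L : List ℕ) (t : ℕ → F) : (hF.sys F).prodOver L t ∈ D.group F := by
  simp only [CommSys.prodOver, sys_x]
  refine Subgroup.list_prod_mem _ fun g hg => ?_
  obtain ⟨r, -, rfl⟩ := List.mem_map.1 hg
  exact hF.xg_mem_group r _

theorem ng_eq_xg (r : ℕ) (c : F) :
    hF.ng r c = hF.xg r c * hF.xg (D.neg r) (-c⁻¹) * hF.xg r c := hF.ng_eq r c

theorem xg_commute2 {L : List ℕ} (hL : okComm2 D L = true) {r s : ℕ} (hr : r ∈ L) (hs : s ∈ L)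
    (hne : r ≠ s) {a b : ℕ} (ha : a = r ∨ a = D.neg r) (hb : b = s ∨ b = D.neg s) (t u : F) :
    Commute (hF.xg a t) (hF.xg b u) := by
  simp only [okComm2, List.all_eq_true, Bool.and_eq_true, decide_eq_true_eq, Bool.or_eq_true, beq_iff_eq,
    bne_iff_ne, List.isEmpty_iff, List.mem_cons, List.not_mem_nil, or_false] at hL
  obtain ⟨⟨⟨⟨hal, hbl⟩, h1⟩, h2⟩, hempty⟩ := ((hL r hr).2 s hs).resolve_left hne a ha b hb
  have h := (hF.sys F).x_comm a b hal hbl h1 h2 t u
  rw [ChevalleyDatum.commWord, hempty, List.map_nil, List.map_nil, List.prod_nil, mul_one] at h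
  exact h.symm

theorem ng_commute {L : List ℕ} (hL : okComm2 D L = true) {r s : ℕ} (hr : r ∈ L)
    (hs : s ∈ L) (hne : r ≠ s) (a b : F) : Commute (hF.ng r a) (hF.ng s b) := by
  have key : ∀ x, (x = r ∨ x = D.neg r) → ∀ t, Commute (hF.xg x t) (hF.ng s b) := by
    intro x hx t
    rw [hF.ng_eq]
    exact ((hF.xg_commute2 hL hr hs hne hx (Or.inl rfl) _ _).mul_right
      (hF.xg_commute2 hL hr hs hne hx (Or.inr rfl) _ _)).mul_right
        (hF.xg_commute2 hL hr hs hne hx (Or.inl rfl) _ _)
  rw [hF.ng_eq r a]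
  exact ((key r (Or.inl rfl) _).mul_left (key _ (Or.inr rfl) _)).mul_left (key r (Or.inl rfl) _)

/-- The product of the n_r(c_r) over commuting roots. -/
theorem prod_ng {L : List ℕ} (hnd : L.Nodup) (hL : okComm2 D L = true) (c : ℕ → F) :
    (L.map fun r => hF.ng r (c r)).prod = (hF.sys F).prodOver L c *
      (L.map fun r => hF.xg (D.neg r) (-(c r)⁻¹)).prod * (hF.sys F).prodOver L c := by
  simp only [hF.ng_eq, CommSys.prodOver, sys_x]
  rw [list_prod_map_mul (fun r => hF.xg r (c r) * hF.xg (D.neg r) (-(c r)⁻¹)) (fun r => hF.xg r (c r)),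
    list_prod_map_mul (fun r => hF.xg r (c r)) fun r => hF.xg (D.neg r) (-(c r)⁻¹)]
  · refine List.Pairwise.imp_of_mem ?_ hnd
    intro r s hr hs hne
    exact hF.xg_commute2 hL hr hs hne (Or.inr rfl) (Or.inl rfl) _ _
  · refine List.Pairwise.imp_of_mem ?_ hnd
    intro r s hr hs hne
    exact Commute.mul_right (hF.xg_commute2 hL hr hs hne (Or.inl rfl) (Or.inl rfl) _ _)
      (hF.xg_commute2 hL hr hs hne (Or.inl rfl) (Or.inr rfl) _ _)

/-- The product of the h_r(c_r) over commuting roots. -/
theorem prod_hg {L : List ℕ} (hnd : L.Nodup) (hL : okComm2 D L = true) (c : ℕ → F) :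
    (L.map fun r => hF.hg r (c r)).prod =
      (L.map fun r => hF.ng r (c r)).prod * (L.map fun r => hF.ng r (-1)).prod := by
  simp only [hF.hg_eq]
  refine list_prod_map_mul (fun r => hF.ng r (c r)) (fun r => hF.ng r (-1)) _ ?_
  exact List.Pairwise.imp_of_mem (fun hr hs hne => hF.ng_commute hL hr hs hne _ _) hnd

end Facts

namespace Twist

variable {hF : Facts D} (T : Twist hF F)

/-- The roots of L are permuted by the root map, without signs. -/
def okStable (D : ChevalleyDatum) (R : RMap) (L : List ℕ) : Bool :=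
  (L.map R.img).isPerm L && L.all fun r => decide (r < D.nroots) && R.sign r == 1

theorem sig_list_prod (f : ℕ → GL D.Idx F) : ∀ L : List ℕ, (∀ r ∈ L, f r ∈ D.group F) →
    T.sig (L.map f).prod = (L.map fun r => T.sig (f r)).prod := by
  intro L
  induction L with
  | nil => intro; simpa using T.sig_one
  | cons a L ih =>
    intro h
    have h' := fun r hr => h r (List.mem_cons_of_mem _ hr)
    rw [List.map_cons, List.map_cons, List.prod_cons, List.prod_cons,
      T.sig_mul _ (h a List.mem_cons_self) _ (Subgroup.list_prod_mem _ fun g hg => by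
        obtain ⟨r, hr, rfl⟩ := List.mem_map.1 hg
        exact h' r hr), ih h']

theorem sig_prodOver {L : List ℕ} (hc : okComm D L = true) (hs : okStable D T.R L = true)
    (t t' : ℕ → F) (h : ∀ r ∈ L, t' (T.R.img r) = T.fr (t r) ^ T.R.expo r) :
    T.sig ((hF.sys F).prodOver L t) = (hF.sys F).prodOver L t' := by
  simp only [okStable, Bool.and_eq_true, List.isPerm_iff, List.all_eq_true, decide_eq_true_eq, beq_iff_eq] at hs
  rw [hF.prodOver_perm hc hs.1.symm t']
  simp only [CommSys.prodOver, Facts.sys_x, List.map_map]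
  rw [T.sig_list_prod _ _ fun r _ => hF.xg_mem_group r _]
  congr 1
  refine List.map_congr_left fun r hr => ?_
  obtain ⟨hlt, hsg⟩ := hs.2 r hr
  rw [T.sig_x r hlt, hF.imgX_lt T.R hlt, hsg, Int.cast_one, one_mul, Function.comp_apply, h r hr]

theorem prodOver_mem_fix {L : List ℕ} (hc : okComm D L = true) (hs : okStable D T.R L = true)
    (t : ℕ → F) (h : ∀ r ∈ L, t (T.R.img r) = T.fr (t r) ^ T.R.expo r) :
    (hF.sys F).prodOver L t ∈ T.fix :=
  ⟨hF.prodOver_mem_group L t, T.sig_prodOver hc hs t t h⟩

theorem fix_US {L : List ℕ} (hcl : ClosedList D L) (hc : okComm D L = true)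
    (hs : okStable D T.R L = true) {x : GL D.Idx F} (hx : x ∈ (hF.tsys F).US L) (hf : x ∈ T.fix) :
    ∃ t : ℕ → F, x = (hF.sys F).prodOver L t ∧ ∀ r ∈ L, t (T.R.img r) = T.fr (t r) ^ T.R.expo r := by
  obtain ⟨t, rfl⟩ := CommSys.exists_prodOver (hF.sys F).toCommSys hcl hx
  refine ⟨t, rfl, fun r hr => ?_⟩
  have hbij := hs
  simp only [okStable, Bool.and_eq_true, List.isPerm_iff, List.all_eq_true, decide_eq_true_eq, beq_iff_eq] at hbij
  have hnd : (L.map T.R.img).Nodup := hbij.1.nodup_iff.2 hcl.sorted.nodup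
  classical
  let inv : ℕ → ℕ := fun s => if h : ∃ r ∈ L, T.R.img r = s then h.choose else 0
  have hinv : ∀ r ∈ L, inv (T.R.img r) = r := by
    intro r hr
    have h : ∃ r' ∈ L, T.R.img r' = T.R.img r := ⟨r, hr, rfl⟩
    simp only [inv, dif_pos h]
    exact List.inj_on_of_nodup_map hnd h.choose_spec.1 hr h.choose_spec.2
  have h1 := T.sig_prodOver hc hs t (fun s => T.fr (t (inv s)) ^ T.R.expo (inv s))
    fun r hr => by rw [hinv r hr]
  have hmem : T.R.img r ∈ L := hbij.1.mem_iff.1 (List.mem_map.2 ⟨r, hr, rfl⟩)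
  have h2 := hF.prodOver_inj hcl (t := t) (t' := fun s => T.fr (t (inv s)) ^ T.R.expo (inv s))
    (hf.2.symm.trans h1) (T.R.img r) hmem
  rw [h2, hinv r hr]

/-- The map induced on torus coordinates. -/
def twc (c : Fin D.rank → Fˣ) : Fin D.rank → Fˣ := fun j =>
  Units.map T.fr.toMonoidHom (c (T.σ.symm j)) ^ T.R.expo (D.simple (T.σ.symm j).val)

theorem twc_mul (c d : Fin D.rank → Fˣ) : T.twc (c * d) = T.twc c * T.twc d := by
  funext j
  simp [twc, mul_pow]

theorem sig_torus (c : Fin D.rank → Fˣ) : T.sig (torus D F c) = torus D F (T.twc c) := by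
  classical
  have hmem : ∀ c, torus D F c ∈ D.group F := fun c => hF.torus_mem_group c
  have hs : ∀ (i : Fin D.rank) (u : Fˣ), T.sig (torus D F (Pi.mulSingle i u)) =
      torus D F (T.twc (Pi.mulSingle i u)) := by
    intro i u
    have e : T.twc (Pi.mulSingle i u) = Pi.mulSingle (T.σ i)
        (Units.map T.fr.toMonoidHom u ^ T.R.expo (D.simple i.val)) := by
      funext j
      by_cases hj : j = T.σ i
      · subst hj
        simp [twc]
      · rw [Pi.mulSingle_eq_of_ne hj, twc]
        rw [Pi.mulSingle_eq_of_ne (fun h => hj (by rw [← h, Equiv.apply_symm_apply])), map_one, one_pow]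
    rw [hF.torus_single, e, hF.torus_single, hF.hg_eq, hF.hg_eq,
      T.sig_mul _ (show hF.ng (D.simple i.val) (u : F) ∈ D.group F from hF.wg_mem_group _) _
        (show hF.ng (D.simple i.val) (-1 : F) ∈ D.group F from hF.wg_mem_group _), T.sig_ng (hF.simple_lt i i.isLt) u.ne_zero,
      T.sig_ng (hF.simple_lt i i.isLt) (neg_ne_zero.2 one_ne_zero), (T.node_simple i).1, (T.node_simple i).2,
      Int.cast_one, one_mul, one_mul, map_neg, map_one,
      Facts.expo_neg T.hm T.hok (hF.simple_lt i i.isLt), one_pow]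
    congr 2
  have hall : ∀ S : Finset (Fin D.rank), T.sig (torus D F (∏ i ∈ S, Pi.mulSingle i (c i))) =
      torus D F (T.twc (∏ i ∈ S, Pi.mulSingle i (c i))) := by
    intro S
    induction S using Finset.induction_on with
    | empty =>
      have h1 : T.twc 1 = 1 := by funext j; simp [twc]
      rw [Finset.prod_empty, h1, map_one, T.sig_one]
    | insert a S ha ih =>
      rw [Finset.prod_insert ha, map_mul, T.sig_mul _ (hmem _) _ (hmem _), hs, ih, ← map_mul, ← T.twc_mul]
  have := hall Finset.univ
  rwa [Finset.univ_prod_mulSingle] at this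

end Twist

end Cfsg.Agent.Lie
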