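import Cfsg.Agent.Lib.Lie.TwistCount

/-!
The twisted Weyl group through the orbit of a regular weight, for large cases.
-/

set_option autoImplicit false

namespace Cfsg.Agent.Lie

open Cfsg.Lie Matrix
open scoped MatrixGroups

/-- A word of reflections acting on a weight, with literal columns. -/
noncomputable def actV (cols : List (List ℤ)) (l : List ℕ) (x : List ℤ) : List ℤ :=
  List.rec x (fun i _ ih => reflW (nth [] cols i) i ih) l

/-- All entries are 1. -/
def onesV (D : ChevalleyDatum) : List ℤ := List.replicate D.rank 1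

/-- A code of a weight. -/
def codeV (v : List ℤ) : ℕ := (packZ 128 v + 1099511627776).toNat

/-- The nodes are the orbit of a regular weight under the twisted Weyl group, with lengths and
neighbours; listed by increasing code. -/
noncomputable def okPiVec (D : ChevalleyDatum) (cols : List (List ℤ)) (Os : List (List (Fin D.rank)))
    (i0 : ℕ) (L : List (List ℤ × ℕ × List ℕ)) : Bool :=
  okCols D cols && Facts.okCoroot D &&
  decide (negCount D ((onesV D).map fun a => -a) = D.nroots / 2) &&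
  decide (i0 < L.length) && (nth ([], 0, []) L i0).1 == onesV D &&
  incFrom (fun e => codeV e.1) L 0 &&
  allMem (fun e =>
    e.2.1 == negCount D e.1 && e.1.length == D.rank && e.2.2.length == Os.length &&
    allMem (fun p => decide (p.2 < L.length) &&
      (nth ([], 0, []) L p.2).1 == actV cols (p.1.map Fin.val) e.1) (List.zip Os e.2.2) &&
    (e.1 == onesV D || e.2.2.any fun j => decide ((nth ([], 0, []) L j).2.1 < e.2.1))) L

variable {D : ChevalleyDatum} {F : Type*} [Field F] [Finite F] {hF : Facts D}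

theorem incFrom_nodup {α : Type*} {key : α → ℕ} : ∀ {L : List α} {lo : ℕ},
    incFrom key L lo = true → (L.map key).Nodup
  | [], _, _ => List.nodup_nil
  | a :: L, lo, h => by
    rw [incFrom_cons] at h
    rw [List.map_cons, List.nodup_cons]
    refine ⟨fun hm => ?_, incFrom_nodup h.2⟩
    obtain ⟨b, hb, hbe⟩ := List.mem_map.1 hm
    have := incFrom_le h.2 b hb
    omega

theorem Facts.actV_spec (hF : Facts D) {cols : List (List ℤ)} (hc : okCols D cols = true) :
    ∀ (ω : List (Fin D.rank)) {x : List ℤ}, x.length = D.rank →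
      Facts.toMu D (actV cols (ω.map Fin.val) x) = hF.actMu (hF.refSys.pr ω) (Facts.toMu D x) ∧
        (actV cols (ω.map Fin.val) x).length = D.rank := by
  intro ω
  induction ω with
  | nil =>
    intro x hx
    show Facts.toMu D x = _ ∧ _
    exact ⟨by rw [RefSystem.pr_nil, hF.actMu_one], hx⟩
  | cons i ω ih =>
    intro x hx
    obtain ⟨h1, h2⟩ := ih hx
    have hcol : nth [] cols i.val = wList D (D.simple i.val) := by
      simp only [okCols, beq_iff_eq] at hc
      rw [nth_eq, hc, List.getD_eq_getElem?_getD, List.getElem?_map]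
      simp [i.isLt]
    show Facts.toMu D (reflW (nth [] cols i.val) i.val (actV cols (ω.map Fin.val) x)) = _ ∧
      (reflW (nth [] cols i.val) i.val (actV cols (ω.map Fin.val) x)).length = D.rank
    rw [hcol]
    refine ⟨?_, by simp [reflW, h2, wList]⟩
    have h3 := Facts.reflWt_toMu (D := D) i h2
    simp only [reflWt, actW] at h3
    rw [h3, h1, RefSystem.pr_cons, hF.actMu_mul, ← hF.actMu_wS]
    rfl

theorem Facts.toMu_ones (D : ChevalleyDatum) : Facts.toMu D (onesV D) = fun _ => 1 := by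
  funext k
  simp [Facts.toMu, onesV, List.getElem?_replicate]

theorem Facts.negSet_actMu (hF : Facts D) (hco : Facts.okCoroot D = true)
    (hneg : negCount D ((onesV D).map fun a => -a) = D.nroots / 2) (w : hF.weyl) :
    (hF.negSet (hF.actMu w fun _ => 1)).card = hF.refSys.len w := by
  classical
  have hpos : ∀ y ∈ hF.refSys.P, 0 < Facts.wpair (fun _ : Fin D.rank => (1 : ℤ)) y.val := by
    rw [hF.negCount_eq hco (by simp [onesV])] at hneg
    have hP : hF.refSys.P.card = D.nroots / 2 := by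
      rw [← hF.length_posL, ← List.toFinset_card_of_nodup hF.closedList_posL.sorted.nodup]
      refine Finset.card_bij (fun x _ => x.val) (fun x hx => ?_) (fun a _ b _ h => Fin.ext h) fun r hr => ?_
      · rw [List.mem_toFinset]
        exact Facts.mem_posL.2 ⟨by simpa [Facts.refSys] using hx, x.isLt⟩
      · obtain ⟨h1, h2⟩ := Facts.mem_posL.1 (List.mem_toFinset.1 hr)
        exact ⟨⟨r, h2⟩, by simpa [Facts.refSys] using h1, rfl⟩
    have heq := Finset.eq_of_subset_of_card_le (Finset.filter_subset _ _)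
      (show hF.refSys.P.card ≤ (hF.refSys.P.filter fun x =>
        Facts.wpair (Facts.toMu D ((onesV D).map fun a => -a)) x.val < 0).card by
          rw [hP]; exact (le_of_eq hneg.symm))
    intro y hy
    rw [← heq, Finset.mem_filter] at hy
    have e : Facts.toMu D ((onesV D).map fun a => -a) = fun _ => -1 := by
      funext k
      simp [Facts.toMu, onesV, List.getElem?_replicate]
    rw [e] at hy
    have h := hy.2
    simp only [Facts.wpair, mul_neg, mul_one, Finset.sum_neg_distrib] at h ⊢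
    omega
  rw [← hF.len_inv, RefSystem.len]
  congr 1
  ext x
  simp only [Facts.negSet, RefSystem.mem_inv, Finset.mem_filter, hF.wpair_actMu]
  refine and_congr_right fun _ => ⟨fun h hm => ?_, fun h => ?_⟩
  · have := hpos _ hm
    omega
  · have h1 := hpos _ ((hF.refSys.neg_mem _).2 h)
    change 0 < Facts.wpair (fun _ : Fin D.rank => (1 : ℤ)) (D.neg (w⁻¹ • x : Fin D.nroots).val) at h1
    rw [hF.wpair_neg _ (Fin.isLt _)] at h1
    omega

namespace TwData

variable {T : Twist hF F} {Os : List (List (Fin D.rank))} (X : TwData T Os)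
variable {cols : List (List ℤ)} {i0 : ℕ} {L : List (List ℤ × ℕ × List ℕ)}

include X

omit [Finite F] in
theorem okPiVec_spec (h : okPiVec D cols Os i0 L = true) :
    (∀ a : Fin L.length, ∃ w : hF.weyl, T.PiFix w ∧
      Facts.toMu D (L.get a).1 = hF.actMu w (fun _ => 1) ∧ (L.get a).2.1 = hF.refSys.len w) ∧
    (∀ w : hF.weyl, T.PiFix w → ∃ a : Fin L.length, Facts.toMu D (L.get a).1 = hF.actMu w fun _ => 1) ∧
    (∀ a b : Fin L.length, (L.get a).1 = (L.get b).1 → a = b) ∧
    ∀ a : Fin L.length, (L.get a).1.length = D.rank := by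
  simp only [okPiVec, Bool.and_eq_true, decide_eq_true_eq, beq_iff_eq, allMem_iff, Bool.or_eq_true,
    List.any_eq_true, nth_eq] at h
  obtain ⟨⟨⟨⟨⟨⟨hcols, hco⟩, hneg⟩, hi0⟩, hone⟩, hinc⟩, hall⟩ := h
  rw [List.getD_eq_getElem _ _ hi0] at hone
  have hedge : ∀ a : Fin L.length, ∀ k, (hk : k < Os.length) → ∃ b : Fin L.length,
      (L.get a).2.2[k]? = some b.val ∧
      Facts.toMu D (L.get b).1 = hF.actMu (T.wO Os[k]) (Facts.toMu D (L.get a).1) := by
    intro a k hk
    obtain ⟨⟨⟨⟨-, hlen⟩, hn⟩, hz⟩, -⟩ := hall _ (List.get_mem L a)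
    have hk' : k < (L.get a).2.2.length := hn.symm ▸ hk
    obtain ⟨hb, he⟩ := hz (Os[k], (L.get a).2.2[k]) (by
      rw [← List.getElem_zip (h := by rw [List.length_zip]; omega)]
      exact List.getElem_mem _)
    refine ⟨⟨_, hb⟩, List.getElem?_eq_getElem hk', ?_⟩
    rw [List.getD_eq_getElem _ _ hb] at he
    exact (congrArg (Facts.toMu D) he).trans (hF.actV_spec hcols _ hlen).1
  refine ⟨fun a => ?_, fun w hw => ?_, fun a b hab => ?_, fun a => (hall _ (List.get_mem L a)).1.1.1.2⟩
  · have hlenw : ∀ (a : Fin L.length) (w : hF.weyl), Facts.toMu D (L.get a).1 = hF.actMu w (fun _ => 1) →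
        (L.get a).2.1 = hF.refSys.len w := fun a w he => by
      rw [(hall _ (List.get_mem L a)).1.1.1.1, hF.negCount_eq hco (hall _ (List.get_mem L a)).1.1.1.2, he,
        hF.negSet_actMu hco hneg]
    suffices hsuff : ∀ n, ∀ a : Fin L.length, (L.get a).2.1 = n →
        ∃ w : hF.weyl, T.PiFix w ∧ Facts.toMu D (L.get a).1 = hF.actMu w (fun _ => 1) by
      obtain ⟨w, hw, he⟩ := hsuff _ a rfl
      exact ⟨w, hw, he, hlenw a w he⟩
    intro n
    induction n using Nat.strong_induction_on with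
    | _ n ih =>
      intro a han
      rcases (hall _ (List.get_mem L a)).2 with h1 | ⟨j, hj, hlt⟩
      · exact ⟨1, T.piFix_one, by rw [h1, Facts.toMu_ones, hF.actMu_one]⟩
      · obtain ⟨k, hk, rfl⟩ := List.mem_iff_getElem.1 hj
        have hk' : k < Os.length := (hall _ (List.get_mem L a)).1.1.2 ▸ hk
        obtain ⟨b, hb, hbe⟩ := hedge a k hk'
        rw [List.getElem?_eq_getElem hk, Option.some.injEq] at hb
        rw [hb, List.getD_eq_getElem _ _ b.isLt] at hlt
        obtain ⟨w, hw, he⟩ := ih _ (han ▸ hlt) b rfl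
        refine ⟨T.wO Os[k] * w, T.piFix_mul (T.piFix_wO X.hOs (List.getElem_mem hk')) hw, ?_⟩
        rw [hF.actMu_mul, ← he, hbe, ← hF.actMu_mul, T.wO_sq X.hOs (List.getElem_mem hk'), hF.actMu_one]
  · suffices hsuff : ∀ v : hF.weyl, T.PiFix v →
        ∃ a : Fin L.length, Facts.toMu D (L.get a).1 = hF.actMu v⁻¹ fun _ => 1 by
      obtain ⟨a, ha⟩ := hsuff w⁻¹ (T.piFix_inv hw)
      exact ⟨a, by rw [ha, inv_inv]⟩
    refine T.piFix_induction X.hOs ⟨⟨i0, hi0⟩, ?_⟩ ?_
    · rw [inv_one, hF.actMu_one, ← Facts.toMu_ones]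
      exact congrArg _ hone
    · rintro ω hω v - - - - ⟨a, ha⟩
      obtain ⟨k, hk, rfl⟩ := List.mem_iff_getElem.1 hω
      obtain ⟨b, -, hb⟩ := hedge a k hk
      refine ⟨b, ?_⟩
      rw [hb, ha, ← hF.actMu_mul, _root_.mul_inv_rev, inv_eq_of_mul_eq_one_left (T.wO_sq X.hOs hω)]
  · have hnd := incFrom_nodup hinc
    have e : ∀ a : Fin L.length, (L.map fun e => codeV e.1)[a.val]'(by simp) = codeV (L.get a).1 :=
      fun a => by simp
    exact Fin.ext ((hnd.getElem_inj_iff (hi := by simp) (hj := by simp)).1 (by rw [e, e, hab]))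

theorem exists_piVecEquiv (h : okPiVec D cols Os i0 L = true) :
    ∃ e : Fin L.length ≃ {w : hF.weyl // T.PiFix w}, ∀ a, hF.refSys.len (e a).1 = (L.get a).2.1 := by
  classical
  obtain ⟨h1, h2, h3, h4⟩ := X.okPiVec_spec h
  simp only [okPiVec, Bool.and_eq_true, decide_eq_true_eq] at h
  obtain ⟨⟨⟨⟨⟨⟨-, hco⟩, hneg⟩, -⟩, -⟩, -⟩, -⟩ := h
  have hinj : ∀ v w : hF.weyl, hF.actMu v (fun _ => 1) = hF.actMu w (fun _ => 1) → v = w := by
    intro v w he
    have e : hF.actMu (w⁻¹ * v) (fun _ => 1) = fun _ => 1 := by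
      rw [hF.actMu_mul, he, ← hF.actMu_mul, inv_mul_cancel, hF.actMu_one]
    have hl := hF.negSet_actMu hco hneg (w⁻¹ * v)
    rw [e] at hl
    have h0 := hF.negSet_actMu hco hneg 1
    rw [hF.actMu_one, RefSystem.len_one] at h0
    refine (inv_mul_eq_one.1 ?_).symm
    by_contra hne
    obtain ⟨i, hi⟩ := Twist.exists_descent hne
    have hmem : hF.refSys.α i ∈ hF.refSys.inv (w⁻¹ * v) :=
      (RefSystem.mem_inv _).2 ⟨hF.refSys.α_mem i, hi⟩
    have := Finset.card_pos.2 ⟨_, hmem⟩
    rw [RefSystem.len] at hl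
    omega
  choose f hf hfe hfl using h1
  refine ⟨Equiv.ofBijective (fun a => ⟨f a, hf a⟩) ⟨fun a b hab => ?_, fun w => ?_⟩, fun a => (hfl a).symm⟩
  · have e : f a = f b := congrArg Subtype.val hab
    exact h3 a b (Facts.toMu_inj (h4 a) (h4 b) (by rw [hfe, hfe, e]))
  · obtain ⟨a, ha⟩ := h2 w.1 w.2
    exact ⟨a, Subtype.ext (hinj _ _ ((hfe a).symm.trans ha))⟩

/-- The order of the twisted group from the orbit of a regular weight. -/
theorem card_G1_vec (h : okPiVec D cols Os i0 L = true)
    (hdiv : L.all (fun e => e.2.1 % X.d == 0) = true) :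
    Nat.card ↥X.G1 = Nat.card ↥(D.posUnipotent F ⊓ X.G1) * Nat.card ↥(D.diagonalSubgroup F ⊓ X.G1) *
      polyEval X.q (polyOf (L.map fun e => e.2.1 / X.d)) := by
  classical
  obtain ⟨φ, hφ⟩ := X.exists_piVecEquiv h
  rw [X.card_G1, finsum_eq_sum_of_fintype, ← Equiv.sum_comp φ, polyEval_of, List.map_map]
  congr 1
  rw [← List.sum_ofFn]
  congr 1
  refine List.ext_getElem (by simp) fun i h1 h2 => ?_
  rw [List.getElem_ofFn, List.getElem_map, Function.comp_apply]
  have hi : i < L.length := by simpa using h1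
  have hc := (X.inv_le_card (φ ⟨i, hi⟩).2).2
  simp only [List.all_eq_true, beq_iff_eq] at hdiv
  have hd0 := hdiv _ (List.getElem_mem hi)
  rw [hφ, show (L.get ⟨i, hi⟩).2.1 = L[i].2.1 from rfl] at hc
  have e : X.q ^ L[i].2.1 = (X.q ^ (L[i].2.1 / X.d)) ^ X.d := by
    rw [← pow_mul, Nat.div_mul_cancel (Nat.dvd_of_mod_eq_zero hd0)]
  rw [e] at hc
  exact Nat.pow_left_injective X.hd hc

theorem card_piW_vec (h : okPiVec D cols Os i0 L = true) : Nat.card ↥X.piW = L.length := by
  obtain ⟨φ, -⟩ := X.exists_piVecEquiv h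
  have e : ↥X.piW ≃ {w : hF.weyl // T.PiFix w} := Equiv.refl _
  rw [Nat.card_congr (e.trans φ.symm), Nat.card_fin]

end TwData

end Cfsg.Agent.Lie
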