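import Cfsg.Agent.Lib.Lie.TwistE6Data
import Cfsg.Agent.Lib.Lie.TwistVec
import Cfsg.Agent.Lib.Lie.TwistOrth
import Cfsg.Agent.Lib.Lie.WeylE6

/-! The check of the orbit data of type ²E₆. -/

set_option autoImplicit false
set_option maxRecDepth 100000

namespace Cfsg.Agent.Lie.E6

open Cfsg.Lie

/-- The orbits of nodes. -/
def Os : List (List (Fin chevE6.rank)) := [[1], [3], [0, 5], [2, 4]].map (fnodes chevE6)

theorem okPiVec_E6 : okPiVec chevE6 colsE6 Os 631 vecE6 = true := by decide +kernel

theorem div_E6 : vecE6.all (fun e => e.2.1 % 1 == 0) = true := by decide +kernel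

end Cfsg.Agent.Lie.E6
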