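import Cfsg.Agent.Lib.Lie.TwistFrob
import Cfsg.Agent.Lib.Lie.GraphTables
import Cfsg.Agent.Lib.Lie.TwistE6C
import Cfsg.Agent.Lib.Lie.TwistPair
import Cfsg.Prelude.Def_LieTwisted

/-!
The twisted groups of type ²E₆.
-/

set_option autoImplicit false
set_option maxRecDepth 4000

namespace Cfsg.Agent.Lie.E6

open Cfsg.Lie Matrix Twist
open scoped MatrixGroups

/-- The permutation of nodes. -/
def σ : Equiv.Perm (Fin chevE6.rank) :=
  nodePerm chevE6 [5, 1, 4, 3, 2, 0] [5, 1, 4, 3, 2, 0] (by decide +kernel)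

theorem okTwist_σ : okTwist chevE6 graphE6 σ = true := by decide +kernel

theorem okOrbits_Os : okOrbits chevE6 graphE6 σ Os = true := by decide +kernel

theorem orbLs : Os.map (fun ω => orbL chevE6 (ω.map Fin.val)) = [[46], [39], [36, 56], [37, 42]] := by
  decide +kernel

theorem negLs : Os.map (fun ω => Twist.negL chevE6 ω) = [[25], [32], [35, 15], [34, 29]] := by
  decide +kernel

theorem simplesLs : Os.map (fun ω => simples chevE6 ω) = [[46], [39], [56, 36], [42, 37]] := by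
  decide +kernel

/-- The lists in use. -/
def Ls : List (List ℕ) := [[46], [39], [25], [32], [36, 56], [37, 42], [56, 36], [42, 37], [15, 35],
  [29, 34], [35, 15], [34, 29]]

theorem okComm_all : Ls.all (okComm chevE6) = true := by decide +kernel

theorem okStable_all : Ls.all (okStable chevE6 graphE6) = true := by decide +kernel

theorem expo_all : (List.range 72).all (fun r => graphE6.expo r == 1) = true := by decide +kernel

theorem okComm' {L : List ℕ} (h : L ∈ Ls) : okComm chevE6 L = true :=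
  List.all_eq_true.1 okComm_all L h

/-- Coordinates of the generators of the pairs. -/
def cB {K : Type*} [Field K] (q : ℕ) (t : K) (r : ℕ) : K :=
  if r = 56 ∨ r = 42 ∨ r = 15 ∨ r = 29 then t else t ^ q

variable {K : Type*} [Field K] [Fintype K] {q : ℕ}

/-- The twisting endomorphism. -/
theorem exists_T (hq : IsPrimePow q) (hK : Fintype.card K = q ^ 2) :
    ∃ T : Twist factsE6 K, T.R = graphE6 ∧ T.σ = σ ∧ ∀ t, T.fr t = t ^ q := by
  obtain ⟨fr, hfr⟩ := exists_frob hq (by norm_num) hK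
  obtain ⟨T, h1, h2, h3, -⟩ := factsE6.exists_twist (modField_zero K) okMap_E6
    (stHyp_of_mem (by simp)) okOrder_E6 (RingHom.id K) (fun t => (pow_one t).symm) σ okTwist_σ fr
  exact ⟨T, h1, h2, fun t => by rw [h3, hfr]⟩

variable (K) (q) in
/-- Everything needed about the group. -/
structure Setup where
  hq : 2 ≤ q
  hK : Nat.card K = q ^ 2
  T : Twist factsE6 K
  hR : T.R = graphE6
  hs : T.σ = σ
  hfr : ∀ t, T.fr t = t ^ q

theorem nonempty_setup (hq : IsPrimePow q) (hK : Fintype.card K = q ^ 2) : Nonempty (Setup K q) := by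
  obtain ⟨T, h1, h2, h3⟩ := exists_T hq hK
  exact ⟨⟨hq.two_le, by rw [Nat.card_eq_fintype_card, hK], T, h1, h2, h3⟩⟩

namespace Setup

variable (S : Setup K q)

include S

theorem pow_sq (t : K) : (t ^ q) ^ q = t := by
  rw [← pow_mul, ← pow_two, ← S.hK, Nat.card_eq_fintype_card]
  exact FiniteField.pow_card t

theorem stable {L : List ℕ} (h : L ∈ Ls) : okStable chevE6 S.T.R L = true := by
  rw [S.hR]
  exact List.all_eq_true.1 okStable_all L h

theorem expo_one {r : ℕ} (hr : r < 72) : S.T.R.expo r = 1 := by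
  rw [S.hR]
  exact beq_iff_eq.1 (List.all_eq_true.1 expo_all r (List.mem_range.2 hr))

theorem A_fix {r : ℕ} (hr : r ∈ ([46, 39, 25, 32] : List ℕ)) {t : K} (ht : t ^ q = t) :
    factsE6.xg r t ∈ S.T.fix := by
  have hL : [r] ∈ Ls := by revert r hr; decide
  have hlt : r < 72 := by revert r hr; decide
  have h := S.T.prodOver_mem_fix (L := [r]) (okComm' hL) (S.stable hL) (fun _ => t) (fun s hs => by
      obtain rfl := List.mem_singleton.1 hs
      rw [S.expo_one hlt, pow_one, S.hfr, ht])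
  simpa [CommSys.prodOver, Facts.sys_x] using h

theorem B_fix {a b : ℕ} (h : (a, b) ∈ ([(56, 36), (42, 37), (15, 35), (29, 34)] : List (ℕ × ℕ))) (t : K) :
    (factsE6.sys K).prodOver [a, b] (cB q t) ∈ S.T.fix := by
  simp only [List.mem_cons, List.not_mem_nil, or_false, Prod.mk.injEq] at h
  refine S.T.prodOver_mem_fix (okComm' ?_) (S.stable ?_) _ (fun s hs => ?_)
  · rcases h with ⟨rfl, rfl⟩ | ⟨rfl, rfl⟩ | ⟨rfl, rfl⟩ | ⟨rfl, rfl⟩ <;> simp [Ls]
  · rcases h with ⟨rfl, rfl⟩ | ⟨rfl, rfl⟩ | ⟨rfl, rfl⟩ | ⟨rfl, rfl⟩ <;> simp [Ls]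
  · rw [S.hfr, S.expo_one (by rcases h with ⟨rfl, rfl⟩ | ⟨rfl, rfl⟩ | ⟨rfl, rfl⟩ | ⟨rfl, rfl⟩ <;> simp at hs <;> omega),
      pow_one, S.hR]
    rcases h with ⟨rfl, rfl⟩ | ⟨rfl, rfl⟩ | ⟨rfl, rfl⟩ | ⟨rfl, rfl⟩ <;>
      simp only [List.mem_cons, List.not_mem_nil, or_false] at hs <;>
        rcases hs with rfl | rfl <;> simp [cB, RMap.img, graphE6, S.pow_sq]

omit S in
theorem mem_twisted {w : List (ℕ × K)} (hw : w ∈ e6Words K q) : factsE6.wg w ∈ twistedE6 K q :=
  Subgroup.subset_closure ⟨w, hw, factsE6.coe_wg w⟩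

omit S in
theorem A_mem {r : ℕ} (hr : r ∈ ([46, 39, 25, 32] : List ℕ)) {t : K} (ht : t ^ q = t) :
    factsE6.xg r t ∈ twistedE6 K q := by
  have h := mem_twisted (w := [(r, t)]) (Or.inl ⟨t, ht, r, by
    simp [e6p2, e6m2, e6p4, e6m4] at hr ⊢; omega, rfl⟩)
  simpa [Facts.wg] using h

omit S in
theorem B_mem {a b : ℕ} (h : (a, b) ∈ ([(56, 36), (42, 37), (15, 35), (29, 34)] : List (ℕ × ℕ))) (t : K) :
    (factsE6.sys K).prodOver [a, b] (cB q t) ∈ twistedE6 K q := by
  have hm := mem_twisted (q := q) (w := [(a, t), (b, t ^ q)]) (Or.inr ⟨t, (a, b), by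
    simp [e6p1, e6p6, e6m1, e6m6, e6p3, e6p5, e6m3, e6m5] at h ⊢; omega, rfl⟩)
  simp only [List.mem_cons, List.not_mem_nil, or_false, Prod.mk.injEq] at h
  rcases h with ⟨rfl, rfl⟩ | ⟨rfl, rfl⟩ | ⟨rfl, rfl⟩ | ⟨rfl, rfl⟩ <;>
    simpa [Facts.wg, CommSys.prodOver, Facts.sys_x, cB] using hm

theorem le_fix : twistedE6 K q ≤ S.T.fix := by
  refine (Subgroup.closure_le _).2 ?_
  rintro g ⟨w, hw, hg⟩
  rw [show g = factsE6.wg w from Units.ext (by rw [hg, factsE6.coe_wg])]
  rcases hw with ⟨t, ht, r, hr, rfl⟩ | ⟨t, ⟨a, b⟩, hrs, rfl⟩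
  · simpa [Facts.wg] using S.A_fix (r := r) (by simp [e6p2, e6m2, e6p4, e6m4] at hr ⊢; omega) ht
  · have h : (a, b) ∈ ([(56, 36), (42, 37), (15, 35), (29, 34)] : List (ℕ × ℕ)) := by
      simp [e6p1, e6p6, e6m1, e6m6, e6p3, e6p5, e6m3, e6m5] at hrs ⊢; omega
    have := S.B_fix h t
    simp only [List.mem_cons, List.not_mem_nil, or_false, Prod.mk.injEq] at h
    rcases h with ⟨rfl, rfl⟩ | ⟨rfl, rfl⟩ | ⟨rfl, rfl⟩ | ⟨rfl, rfl⟩ <;>
      simpa [Facts.wg, CommSys.prodOver, Facts.sys_x, cB] using this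

theorem hOs : okOrbits chevE6 S.T.R S.T.σ Os = true := by rw [S.hR, S.hs]; exact okOrbits_Os

theorem closed {ω : List (Fin chevE6.rank)} (hω : ω ∈ Os) :
    ClosedList chevE6 (orbL chevE6 (ω.map Fin.val)) := by
  rw [← S.T.invList_wO S.hOs hω]; exact TorusSys.closed_invList _

theorem fix_A {r : ℕ} (hr : r = 46 ∨ r = 39) {x : GL chevE6.Idx K} (hcl : ClosedList chevE6 [r])
    (hx : x ∈ (factsE6.tsys K).US [r]) (hf : x ∈ S.T.fix) :
    ∃ a : K, a ^ q = a ∧ x = factsE6.xg r a := by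
  have hL : [r] ∈ Ls := by rcases hr with rfl | rfl <;> simp [Ls]
  obtain ⟨t, rfl, ht⟩ := S.T.fix_US hcl (okComm' hL) (S.stable hL) hx hf
  refine ⟨t r, ?_, by simp [CommSys.prodOver, Facts.sys_x]⟩
  have := ht r (by simp)
  rw [S.hfr, S.expo_one (by omega), pow_one, S.hR, show graphE6.img r = r by rcases hr with rfl | rfl <;> rfl] at this
  exact this.symm

theorem fix_B {a b : ℕ} (h : (a = 56 ∧ b = 36) ∨ (a = 42 ∧ b = 37)) {x : GL chevE6.Idx K}
    (hcl : ClosedList chevE6 [b, a]) (hx : x ∈ (factsE6.tsys K).US [b, a]) (hf : x ∈ S.T.fix) :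
    ∃ s : K, x = (factsE6.sys K).prodOver [a, b] (cB q s) := by
  have hL : [b, a] ∈ Ls := by rcases h with ⟨rfl, rfl⟩ | ⟨rfl, rfl⟩ <;> simp [Ls]
  obtain ⟨t, rfl, ht⟩ := S.T.fix_US hcl (okComm' hL) (S.stable hL) hx hf
  have ha := ht a (by simp)
  rw [S.hfr, S.expo_one (by omega), pow_one, S.hR,
    show graphE6.img a = b by rcases h with ⟨rfl, rfl⟩ | ⟨rfl, rfl⟩ <;> rfl] at ha
  refine ⟨t a, ?_⟩
  rw [factsE6.prodOver_perm (L := [b, a]) (L' := [a, b]) (okComm' hL) (List.Perm.swap _ _ _) t]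
  rcases h with ⟨rfl, rfl⟩ | ⟨rfl, rfl⟩ <;> simp [CommSys.prodOver, Facts.sys_x, cB, ha]

/-- The hypotheses of the general theory. -/
def data : TwData S.T Os where
  hOs := S.hOs
  hl := coeff_of_mem (by simp)
  G1 := twistedE6 K q
  le_fix := S.le_fix
  q := q
  d := 1
  hd := one_ne_zero
  orb_le := fun ω hω x hx => by
    have hm := List.mem_map_of_mem (f := fun ω => orbL chevE6 (ω.map Fin.val)) hω
    have hcl := S.closed hω
    rw [orbLs] at hm
    simp only [List.mem_cons, List.not_mem_nil, or_false] at hm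
    obtain ⟨hxL, hxf⟩ := hx
    rcases hm with h | h | h | h <;> rw [h] at hxL hcl
    · obtain ⟨a, ha, rfl⟩ := S.fix_A (Or.inl rfl) hcl hxL hxf
      exact A_mem (by simp) ha
    · obtain ⟨a, ha, rfl⟩ := S.fix_A (Or.inr rfl) hcl hxL hxf
      exact A_mem (by simp) ha
    · obtain ⟨a, rfl⟩ := S.fix_B (Or.inl ⟨rfl, rfl⟩) hcl hxL hxf
      exact B_mem (by simp) a
    · obtain ⟨a, rfl⟩ := S.fix_B (Or.inr ⟨rfl, rfl⟩) hcl hxL hxf
      exact B_mem (by simp) a
  orb_card := fun ω hω => by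
    have hm := List.mem_map_of_mem (f := fun ω => orbL chevE6 (ω.map Fin.val)) hω
    have hcl := S.closed hω
    rw [orbLs] at hm
    have key1 : ∀ r, r = 46 ∨ r = 39 → ClosedList chevE6 [r] →
        Nat.card ↥((factsE6.tsys K).US [r] ⊓ S.T.fix) = q := by
      intro r hr hc
      refine Eq.trans ?_ (card_pow_eq_self (q := q) (F := K) S.hq S.hK)
      refine (Nat.card_eq_of_bijective (fun a : {t : K // t ^ q = t} =>
        (⟨factsE6.xg r a.1, CommSys.x_mem_US _ (by simp) a.1, S.A_fix (by rcases hr with rfl | rfl <;> simp) a.2⟩ :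
          ↥((factsE6.tsys K).US [r] ⊓ S.T.fix))) ⟨fun a b hab => ?_, fun x => ?_⟩).symm
      · have := factsE6.prodOver_inj hc (t := fun _ => a.1) (t' := fun _ => b.1)
          (by simpa [CommSys.prodOver, Facts.sys_x] using congrArg Subtype.val hab) r (by simp)
        exact Subtype.ext this
      · obtain ⟨a, ha, hxa⟩ := S.fix_A hr hc x.2.1 x.2.2
        exact ⟨⟨a, ha⟩, Subtype.ext hxa.symm⟩
    have key2 : ∀ a b, (a = 56 ∧ b = 36) ∨ (a = 42 ∧ b = 37) → ClosedList chevE6 [b, a] →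
        Nat.card ↥((factsE6.tsys K).US [b, a] ⊓ S.T.fix) = q ^ 2 := by
      intro a b hab hc
      have hL : [a, b] ∈ Ls := by rcases hab with ⟨rfl, rfl⟩ | ⟨rfl, rfl⟩ <;> simp [Ls]
      have hperm : ∀ s : K, (factsE6.sys K).prodOver [a, b] (cB q s) =
          (factsE6.sys K).prodOver [b, a] (cB q s) := fun s =>
        factsE6.prodOver_perm (okComm' hL) (List.Perm.swap _ _ _) _
      rw [← S.hK]
      refine (Nat.card_eq_of_bijective (fun s : K =>
        (⟨(factsE6.sys K).prodOver [a, b] (cB q s), by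
          rw [hperm]; exact CommSys.prodOver_mem _ _ _,
          S.B_fix (by rcases hab with ⟨rfl, rfl⟩ | ⟨rfl, rfl⟩ <;> simp) s⟩ :
          ↥((factsE6.tsys K).US [b, a] ⊓ S.T.fix))) ⟨fun s s' hss => ?_, fun x => ?_⟩).symm
      · have h1 := congrArg Subtype.val hss
        simp only [hperm] at h1
        have := factsE6.prodOver_inj hc h1 a (by simp)
        rcases hab with ⟨rfl, rfl⟩ | ⟨rfl, rfl⟩ <;> simpa [cB] using this
      · obtain ⟨s, hxa⟩ := S.fix_B hab hc x.2.1 x.2.2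
        exact ⟨s, Subtype.ext hxa.symm⟩
    simp only [List.mem_cons, List.not_mem_nil, or_false] at hm
    rcases hm with h | h | h | h <;> rw [h] at hcl ⊢ <;> rw [pow_one]
    · rw [key1 46 (Or.inl rfl) hcl, List.length_singleton, pow_one]
    · rw [key1 39 (Or.inr rfl) hcl, List.length_singleton, pow_one]
    · exact key2 56 36 (Or.inl ⟨rfl, rfl⟩) hcl
    · exact key2 42 37 (Or.inr ⟨rfl, rfl⟩) hcl
  neg_exists := fun ω hω => by
    have hn := List.mem_map_of_mem (f := fun ω => Twist.negL chevE6 ω) hω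
    have hs := List.mem_map_of_mem (f := fun ω => simples chevE6 ω) hω
    rw [negLs] at hn
    rw [simplesLs] at hs
    simp only [List.mem_cons, List.not_mem_nil, or_false] at hn hs
    have hcc : ∀ L ∈ ([[46], [39], [56, 36], [42, 37]] : List (List ℕ)), okComm2 chevE6 L = true := by
      decide +kernel
    have hne := S.T.neg_ne_one S.hOs hω (by rcases hs with h | h | h | h <;> rw [h] <;> decide) (hcc _ (by simpa using hs))
    have hm1 : ((-1 : K)) ^ q = -1 := by rw [← S.hfr, map_neg, map_one]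
    refine ⟨_, ?_, hne, ?_⟩
    · rcases hs with h | h | h | h <;> rw [h]
      · simpa [show chevE6.neg 46 = 25 from rfl] using A_mem (r := 25) (by simp) hm1
      · simpa [show chevE6.neg 39 = 32 from rfl] using A_mem (r := 32) (by simp) hm1
      · simpa [CommSys.prodOver, Facts.sys_x, cB, hm1, show chevE6.neg 56 = 15 from rfl,
          show chevE6.neg 36 = 35 from rfl] using B_mem (q := q) (a := 15) (b := 35) (by simp) (-1 : K)
      · simpa [CommSys.prodOver, Facts.sys_x, cB, hm1, show chevE6.neg 42 = 29 from rfl,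
          show chevE6.neg 37 = 34 from rfl] using B_mem (q := q) (a := 29) (b := 34) (by simp) (-1 : K)
    · refine Subgroup.list_prod_mem _ fun g hg => ?_
      obtain ⟨r, hr, rfl⟩ := List.mem_map.1 hg
      refine CommSys.x_mem_US _ (List.mem_map.2 ⟨r, ?_, rfl⟩) _
      obtain ⟨i, hi, rfl⟩ := List.mem_map.1 hr
      exact (S.T.orbL_iff S.hOs hω (factsE6.simple_lt i i.isLt) (factsE6.simple_ge i i.isLt)).2
        ((factsE6.inRootSub_simple (nodeSet ω) i.isLt).2 (List.mem_map.2 ⟨i, hi, rfl⟩))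

theorem coord : ∀ ω ∈ Os, ∀ i ∈ ω, ∃ x ∈ (factsE6.tsys K).US (orbL chevE6 (ω.map Fin.val)), x ∈ S.T.fix ∧
    ∃ t : ℕ → K, x = (factsE6.sys K).prodOver (orbL chevE6 (ω.map Fin.val)) t ∧ t (chevE6.simple i.val) ≠ 0 := by
  intro ω hω i _
  have hm := List.mem_map_of_mem (f := fun ω => orbL chevE6 (ω.map Fin.val)) hω
  rw [orbLs] at hm
  simp only [List.mem_cons, List.not_mem_nil, or_false] at hm
  refine ⟨_, CommSys.prodOver_mem _ _ fun _ => (1 : K), ?_, fun _ => 1, rfl, one_ne_zero⟩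
  rcases hm with h | h | h | h <;> rw [h] <;>
    exact S.T.prodOver_mem_fix (okComm' (by simp [Ls])) (S.stable (by simp [Ls])) _ fun r _ => by simp

end Setup

end Cfsg.Agent.Lie.E6
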