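import Cfsg.Agent.Lib.Lie.RootMap
import Cfsg.Agent.Lib.Lie.BruhatPair

/-!
Twisting endomorphisms of Chevalley groups and the form u n v of their fixed elements.
-/

set_option autoImplicit false

namespace Cfsg.Agent.Lie

open Cfsg.Lie Matrix
open scoped MatrixGroups

/-- Conditions on a root map relative to a permutation of the nodes. -/
def okTwist (D : ChevalleyDatum) (R : RMap) (σ : Fin D.rank → Fin D.rank) : Bool :=
  ((List.finRange D.rank).all fun i =>
    R.img (D.simple i.val) == D.simple (σ i).val && R.sign (D.simple i.val) == 1) &&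
  (List.range D.nroots).all fun r =>
    (decide (r < D.nroots / 2) || decide (D.nroots / 2 ≤ R.img r)) &&
    (List.finRange D.rank).all fun i => R.img (D.reflectRoot i.val r) == D.reflectRoot (σ i).val (R.img r)

/-- A twisting endomorphism of the group. -/
structure Twist {D : ChevalleyDatum} (hF : Facts D) (F : Type*) [Field F] where
  /-- the root map -/
  R : RMap
  /-- the characteristic relevant to the root map -/
  p : ℕ
  hm : ModField F p
  hok : R.okMap D p = true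
  /-- the permutation of nodes -/
  σ : Equiv.Perm (Fin D.rank)
  hσ : okTwist D R σ = true
  /-- the field map -/
  fr : F →+* F
  /-- the endomorphism, extended by junk outside the group -/
  sig : GL D.Idx F → GL D.Idx F
  sig_mul : ∀ a ∈ D.group F, ∀ b ∈ D.group F, sig (a * b) = sig a * sig b
  sig_x : ∀ r, r < D.nroots → ∀ t, sig (hF.xg r t) = hF.imgX R r (fr t)

variable {D : ChevalleyDatum} {F : Type*} [Field F]

theorem Facts.exists_twist (hF : Facts D) {R : RMap} {p : ℕ} (hm : ModField F p)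
    (hok : R.okMap D p = true) (hH : StHyp D) {N q : ℕ} (hord : R.okOrder D p N q = true)
    (fq : F →+* F) (hq : ∀ t, fq t = t ^ q) (σ : Equiv.Perm (Fin D.rank)) (hσ : okTwist D R σ = true)
    (fr : F →+* F) : ∃ T : Twist hF F, T.R = R ∧ T.σ = σ ∧ T.fr = fr ∧ T.p = p := by
  classical
  obtain ⟨α, hα⟩ := hF.rootMap_aut hm hok hH hord fq hq
  refine ⟨⟨R, p, hm, hok, σ, hσ, fr,
    fun g => if h : g ∈ D.group F then gmap fr ((α ⟨g, h⟩ : D.group F) : GL D.Idx F) else 1, ?_, ?_⟩,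
    rfl, rfl, rfl, rfl⟩
  · intro a ha b hb
    rw [dif_pos ha, dif_pos hb, dif_pos (mul_mem ha hb), ← map_mul]
    congr 1
    rw [← Subgroup.coe_mul, ← map_mul]
    rfl
  · intro r hr t
    have h := hF.xg_mem_group (F := F) r t
    rw [dif_pos h]
    have e : ((α ⟨hF.xg r t, h⟩ : D.group F) : GL D.Idx F) =
        hF.xg (R.img r) ((R.sign r : F) * t ^ R.expo r) :=
      hF.eq_xg.1 (hα ⟨hF.xg r t, h⟩ r t hr (hF.coe_xg r t))
    rw [e, hF.gmap_xg, map_mul, map_intCast, map_pow, hF.imgX_lt R hr]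

namespace Facts

variable (hF : Facts D)

include hF in
theorem neg_half_lt {r : ℕ} (hr : r < D.nroots) (h : D.nroots / 2 ≤ r) : D.neg r < D.nroots / 2 := by
  by_contra hc
  exact absurd h (not_le.2 ((hF.neg_ge_iff hr).1 (not_lt.1 hc)))

end Facts

namespace Twist

variable {hF : Facts D} (T : Twist hF F)

include T

theorem root_lt {r : ℕ} (hr : r < D.nroots) : T.R.img r < D.nroots := (Facts.okMap_root T.hok hr).1

theorem root_neg {r : ℕ} (hr : r < D.nroots) : T.R.img (D.neg r) = D.neg (T.R.img r) :=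
  (Facts.okMap_root T.hok hr).2.1

theorem node_simple (i : Fin D.rank) :
    T.R.img (D.simple i.val) = D.simple (T.σ i).val ∧ T.R.sign (D.simple i.val) = 1 := by
  have h := T.hσ
  simp only [okTwist, Bool.and_eq_true, List.all_eq_true, List.mem_finRange, beq_iff_eq, true_implies] at h
  exact h.1 i

theorem root_refl {r : ℕ} (hr : r < D.nroots) (i : Fin D.rank) :
    T.R.img (D.reflectRoot i.val r) = D.reflectRoot (T.σ i).val (T.R.img r) := by
  have h := T.hσ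
  simp only [okTwist, Bool.and_eq_true, List.all_eq_true, List.mem_finRange, beq_iff_eq, true_implies,
    List.mem_range] at h
  exact (h.2 r hr).2 i

theorem root_pos {r : ℕ} (hr : r < D.nroots) : D.nroots / 2 ≤ T.R.img r ↔ D.nroots / 2 ≤ r := by
  have h := T.hσ
  simp only [okTwist, Bool.and_eq_true, List.all_eq_true, List.mem_range, Bool.or_eq_true,
    decide_eq_true_eq] at h
  have key : ∀ s, s < D.nroots → D.nroots / 2 ≤ s → D.nroots / 2 ≤ T.R.img s := fun s hs hs' =>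
    (h.2 s hs).1.resolve_left (not_lt.2 hs')
  refine ⟨fun hi => ?_, key r hr⟩
  by_contra hc
  have h1 := key _ (hF.neg_lt hr) ((hF.neg_ge_iff hr).2 (by omega))
  rw [T.root_neg hr, hF.neg_ge_iff (T.root_lt hr)] at h1
  omega

/-- The root map on roots. -/
def ι (r : Fin D.nroots) : Fin D.nroots := ⟨T.R.img r.val, T.root_lt r.isLt⟩

theorem ι_surjective : Function.Surjective T.ι := fun k => by
  obtain ⟨r, hr, he⟩ := hF.img_surj T.hok k.isLt
  exact ⟨⟨r, hr⟩, Fin.ext he⟩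

theorem ι_mem_P (r : Fin D.nroots) : T.ι r ∈ hF.refSys.P ↔ r ∈ hF.refSys.P := by
  simp [Facts.refSys, ι, T.root_pos r.isLt]

theorem ι_α (i : Fin D.rank) : T.ι (hF.refSys.α i) = hF.refSys.α (T.σ i) :=
  Fin.ext (T.node_simple i).1

theorem sig_one : T.sig 1 = 1 := by
  have h := T.sig_mul 1 (one_mem _) 1 (one_mem _)
  rw [one_mul, left_eq_mul] at h
  exact h

theorem sig_inv {a : GL D.Idx F} (ha : a ∈ D.group F) : T.sig a⁻¹ = (T.sig a)⁻¹ := by
  have h := T.sig_mul a⁻¹ (inv_mem ha) a ha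
  rw [inv_mul_cancel, T.sig_one] at h
  exact eq_inv_of_mul_eq_one_left h.symm

theorem sig_mem {a : GL D.Idx F} (ha : a ∈ D.group F) : T.sig a ∈ D.group F := by
  have key : ∀ x ∈ Subgroup.closure (Set.range fun q : ℕ × F => hF.xg q.1 q.2),
      x ∈ D.group F ∧ T.sig x ∈ D.group F := by
    intro x hx
    induction hx using Subgroup.closure_induction with
    | mem y hy =>
      obtain ⟨⟨r, t⟩, rfl⟩ := hy
      refine ⟨hF.xg_mem_group r t, ?_⟩
      by_cases hr : r < D.nroots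
      · simp only [T.sig_x r hr, hF.imgX_lt T.R hr]
        exact hF.xg_mem_group _ _
      · simp only [hF.xg_out (not_lt.1 hr), T.sig_one]
        exact one_mem _
    | one => exact ⟨one_mem _, by rw [T.sig_one]; exact one_mem _⟩
    | mul a b _ _ ha hb =>
      exact ⟨mul_mem ha.1 hb.1, by rw [T.sig_mul a ha.1 b hb.1]; exact mul_mem ha.2 hb.2⟩
    | inv a _ ha => exact ⟨inv_mem ha.1, by rw [T.sig_inv ha.1]; exact inv_mem ha.2⟩
  rw [hF.group_eq] at ha
  exact (key a ha).2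

/-- The fixed subgroup. -/
def fix : Subgroup (GL D.Idx F) where
  carrier := {g | g ∈ D.group F ∧ T.sig g = g}
  one_mem' := ⟨one_mem _, T.sig_one⟩
  mul_mem' := fun {a b} ha hb => ⟨mul_mem ha.1 hb.1, by rw [T.sig_mul a ha.1 b hb.1, ha.2, hb.2]⟩
  inv_mem' := fun {a} ha => ⟨inv_mem ha.1, by rw [T.sig_inv ha.1, ha.2]⟩

theorem mem_fix {g : GL D.Idx F} : g ∈ T.fix ↔ g ∈ D.group F ∧ T.sig g = g := Iff.rfl

theorem US_le_group (L : List ℕ) : (hF.tsys F).US L ≤ D.group F :=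
  CommSys.US_le _ fun r _ t => hF.xg_mem_group r t

theorem sig_US {L L' : List ℕ} (h : ∀ r ∈ L, r < D.nroots ∧ T.R.img r ∈ L') {u : GL D.Idx F}
    (hu : u ∈ (hF.tsys F).US L) : T.sig u ∈ (hF.tsys F).US L' := by
  suffices key : ∀ x ∈ (hF.tsys F).US L, x ∈ D.group F ∧ T.sig x ∈ (hF.tsys F).US L' from (key u hu).2
  intro x hx
  induction hx using Subgroup.closure_induction with
  | mem y hy =>
    obtain ⟨r, hr, t, rfl⟩ := hy
    refine ⟨hF.xg_mem_group r t, ?_⟩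
    rw [hF.tsys_x, T.sig_x r (h r hr).1, hF.imgX_lt T.R (h r hr).1]
    exact CommSys.x_mem_US _ (h r hr).2 _
  | one => exact ⟨one_mem _, by rw [T.sig_one]; exact one_mem _⟩
  | mul a b _ _ ha hb =>
    exact ⟨mul_mem ha.1 hb.1, by rw [T.sig_mul a ha.1 b hb.1]; exact mul_mem ha.2 hb.2⟩
  | inv a _ ha => exact ⟨inv_mem ha.1, by rw [T.sig_inv ha.1]; exact inv_mem ha.2⟩

theorem sig_U {u : GL D.Idx F} (hu : u ∈ (hF.tsys F).U) : T.sig u ∈ (hF.tsys F).U := by
  refine T.sig_US (fun r hr => ?_) hu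
  obtain ⟨h1, h2⟩ := Facts.mem_posL.1 hr
  exact ⟨h2, Facts.mem_posL.2 ⟨(T.root_pos h2).2 h1, T.root_lt h2⟩⟩

theorem sig_ng {r : ℕ} (hr : r < D.nroots) {t : F} (ht : t ≠ 0) :
    T.sig (hF.ng r t) = hF.ng (T.R.img r) ((T.R.sign r : F) * T.fr t ^ T.R.expo r) := by
  have hmem : ∀ r t, hF.xg r t ∈ D.group F := hF.xg_mem_group (F := F)
  rw [← hF.imgX_n T.hm T.hok hr ((map_ne_zero T.fr).2 ht), hF.ng_eq, nElt,
    T.sig_mul _ (mul_mem (hmem _ _) (hmem _ _)) _ (hmem _ _), T.sig_mul _ (hmem _ _) _ (hmem _ _),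
    T.sig_x r hr, T.sig_x _ (hF.neg_lt hr), map_neg, map_inv₀]

theorem sig_nS (i : Fin D.rank) : T.sig ((hF.tsys F).nS i) = (hF.tsys F).nS (T.σ i) := by
  rw [hF.tsys_nS, hF.tsys_nS, T.sig_ng (hF.simple_lt i i.isLt) one_ne_zero, (T.node_simple i).1,
    (T.node_simple i).2, map_one, one_pow, Int.cast_one, one_mul]

theorem sig_nw (ω : List (Fin D.rank)) :
    T.sig ((hF.tsys F).nw ω) = (hF.tsys F).nw (ω.map T.σ) := by
  induction ω with
  | nil => rw [TorusSys.nw_nil, List.map_nil, TorusSys.nw_nil, T.sig_one]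
  | cons i ω ih =>
    rw [List.map_cons, TorusSys.nw_cons, TorusSys.nw_cons, T.sig_mul _ (hF.nS_mem_group i) _ ?_,
      T.sig_nS, ih]
    exact hF.monomial_le_group (by rw [← hF.tsys_N]; exact (hF.tsys F).nw_mem_N ω)

theorem pr_map_ι (ω : List (Fin D.rank)) (r : Fin D.nroots) :
    hF.refSys.pr (ω.map T.σ) • T.ι r = T.ι (hF.refSys.pr ω • r) := by
  induction ω with
  | nil => simp
  | cons i ω ih =>
    rw [List.map_cons, RefSystem.pr_cons, RefSystem.pr_cons, mul_smul, mul_smul, ih]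
    exact Fin.ext (T.root_refl (Fin.isLt _) i).symm

/-- A Weyl group element commuting with the root map. -/
def PiFix (w : hF.weyl) : Prop := ∀ r, w • T.ι r = T.ι (w • r)

theorem piFix_one : T.PiFix 1 := fun r => by simp

theorem piFix_mul {v w : hF.weyl} (hv : T.PiFix v) (hw : T.PiFix w) : T.PiFix (v * w) := fun r => by
  rw [mul_smul, mul_smul, hw, hv]

theorem piFix_inv {w : hF.weyl} (hw : T.PiFix w) : T.PiFix w⁻¹ := fun r => by
  have h := hw (w⁻¹ • r)
  rw [smul_inv_smul] at h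
  rw [← h, inv_smul_smul]

/-- The conjugate of w by the root map. -/
noncomputable def conjW (w : hF.weyl) : hF.weyl :=
  hF.refSys.pr ((TorusSys.word w).map T.σ)

theorem conjW_ι (w : hF.weyl) (r : Fin D.nroots) : T.conjW w • T.ι r = T.ι (w • r) := by
  rw [conjW, T.pr_map_ι, TorusSys.pr_word]

theorem piFix_iff (w : hF.weyl) : T.PiFix w ↔ T.conjW w = w := by
  constructor
  · intro h
    refine Subtype.ext (Equiv.ext fun x => ?_)
    obtain ⟨r, rfl⟩ := T.ι_surjective x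
    show T.conjW w • T.ι r = w • T.ι r
    rw [T.conjW_ι, h r]
  · intro h r
    rw [← T.conjW_ι, h]

theorem sig_nW (w : hF.weyl) : ∃ a ∈ (hF.tsys F).H,
    T.sig ((hF.tsys F).nW w) = a * (hF.tsys F).nW (T.conjW w) := by
  obtain ⟨a, ha, he⟩ := (hF.tsys F).nw_eq (ω := (TorusSys.word w).map T.σ) (w := T.conjW w) rfl
  exact ⟨a, ha, by rw [TorusSys.nW, T.sig_nw, he]⟩

theorem img_invList (w : hF.weyl) {r : ℕ} (hr : r ∈ TorusSys.invList w) :
    r < D.nroots ∧ T.R.img r ∈ TorusSys.invList (T.conjW w) := by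
  obtain ⟨h, hi⟩ := TorusSys.mem_invList.1 hr
  obtain ⟨h1, h2⟩ := (RefSystem.mem_inv _).1 hi
  refine ⟨h, TorusSys.mem_invList.2 ⟨T.root_lt h, (RefSystem.mem_inv _).2 ⟨?_, ?_⟩⟩⟩
  · exact (T.ι_mem_P ⟨r, h⟩).2 h1
  · show T.conjW w • T.ι ⟨r, h⟩ ∉ hF.refSys.P
    rw [T.conjW_ι, T.ι_mem_P]
    exact h2

theorem sig_hg {r : ℕ} (hr : r < D.nroots) {t : F} (ht : t ≠ 0) :
    T.sig (hF.hg r t) ∈ (hF.tsys F).H := by
  have hmem : ∀ t, hF.ng r t ∈ D.group F := fun t => hF.wg_mem_group _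
  rw [hF.hg_eq, T.sig_mul _ (hmem t) _ (hmem _), T.sig_ng hr ht,
    T.sig_ng hr (neg_ne_zero.2 one_ne_zero), map_neg, map_one]
  have hte : T.fr t ≠ 0 := (map_ne_zero T.fr).2 ht
  rw [← hF.imgX_n T.hm T.hok hr hte, ← hF.imgX_n T.hm T.hok hr (neg_ne_zero.2 one_ne_zero),
    hF.imgX_h T.hm T.hok hr hte, hF.tsys_H, hF.diagonalSubgroup_eq]
  exact ⟨_, rfl⟩

theorem H_le_group : (hF.tsys F).H ≤ D.group F := by
  rw [hF.tsys_H]
  exact le_trans le_sup_right hF.borel_le_group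

theorem sig_H {a : GL D.Idx F} (ha : a ∈ (hF.tsys F).H) : T.sig a ∈ (hF.tsys F).H := by
  suffices key : ∀ x ∈ (hF.tsys F).H, x ∈ D.group F ∧ T.sig x ∈ (hF.tsys F).H from (key a ha).2
  intro x hx
  induction hx using Subgroup.closure_induction with
  | mem y hy =>
    obtain ⟨r, t, hr, ht, rfl⟩ := hy
    refine ⟨T.H_le_group ((hF.tsys F).h_mem hr ht), ?_⟩
    rw [hF.tsys_h]
    exact T.sig_hg hr ht
  | one => exact ⟨one_mem _, by rw [T.sig_one]; exact one_mem _⟩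
  | mul a b _ _ ha hb =>
    exact ⟨mul_mem ha.1 hb.1, by rw [T.sig_mul a ha.1 b hb.1]; exact mul_mem ha.2 hb.2⟩
  | inv a _ ha => exact ⟨inv_mem ha.1, by rw [T.sig_inv ha.1]; exact inv_mem ha.2⟩

theorem nW_mem (w : hF.weyl) : (hF.tsys F).nW w ∈ D.group F :=
  hF.monomial_le_group (by rw [← hF.tsys_N]; exact (hF.tsys F).nW_mem_N w)

/-- A fixed element is u n v with fixed factors. -/
theorem fixed_decomp {g : GL D.Idx F} (hg : g ∈ T.fix) :
    ∃ w, T.PiFix w ∧ ∃ u ∈ (hF.tsys F).U, u ∈ T.fix ∧ ∃ a ∈ (hF.tsys F).H,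
      a * (hF.tsys F).nW w ∈ T.fix ∧ ∃ v ∈ (hF.tsys F).US (TorusSys.invList w), v ∈ T.fix ∧
        g = u * (a * (hF.tsys F).nW w) * v := by
  obtain ⟨hgG, hgs⟩ := hg
  obtain ⟨b, hb, w, v, hv, rfl⟩ := hF.mem_bnu hgG
  obtain ⟨u, hu, a, ha, rfl⟩ := (hF.tsys F).mem_B.1 hb
  have huG := T.US_le_group _ hu
  have haG := T.H_le_group ha
  have hnG := T.nW_mem w
  have hvG := T.US_le_group _ hv
  obtain ⟨c, hc, hce⟩ := T.sig_nW w
  have hsa := T.sig_H ha
  rw [T.sig_mul _ (mul_mem (mul_mem huG haG) hnG) _ hvG, T.sig_mul _ (mul_mem huG haG) _ hnG,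
    T.sig_mul _ huG _ haG, hce] at hgs
  have hsu := T.sig_U hu
  obtain ⟨hw, hbe, hve⟩ := hF.bruhat_unique (w := T.conjW w) (v := w)
    (mul_mem (mul_mem ((hF.tsys F).U_le_B hsu) ((hF.tsys F).H_le_B hsa)) ((hF.tsys F).H_le_B hc)) hb
    (T.sig_US (fun r hr => T.img_invList w hr) hv) hv (by rw [← hgs]; group)
  have hsu1 : T.sig u = u := by
    have h1 : (T.sig u)⁻¹ * u = T.sig a * c * a⁻¹ := by
      rw [inv_mul_eq_iff_eq_mul, ← mul_assoc, ← mul_assoc, hbe, mul_inv_cancel_right]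
    exact inv_mul_eq_one.1 (hF.U_inter_H (mul_mem (inv_mem hsu) hu)
      (h1 ▸ mul_mem (mul_mem hsa hc) (inv_mem ha)))
  refine ⟨w, (T.piFix_iff w).2 hw, u, hu, ⟨huG, hsu1⟩, a, ha, ⟨mul_mem haG hnG, ?_⟩, v, hv,
    ⟨hvG, hve⟩, by group⟩
  rw [hsu1, mul_assoc u, mul_left_cancel_iff] at hbe
  rw [T.sig_mul _ haG _ hnG, hce, hw, ← mul_assoc, hbe]

end Twist

end Cfsg.Agent.Lie
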