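import Cfsg.Agent.Lib.Lie.TwistFrob

/-!
Orbits of type B₂ in characteristic 2.
-/

set_option autoImplicit false

namespace Cfsg.Agent.Lie

open Cfsg.Lie Matrix
open scoped MatrixGroups

/-- a short, b long, c = a + b, d = 2a + b. -/
def okB2 (D : ChevalleyDatum) (a b c d : ℕ) : Bool :=
  [a, b, c, d].all (fun r => decide (r < D.nroots)) &&
  a != b && a != D.neg b &&
  (match D.commTerms b a with
    | [e, f] => e.1 == c && e.2.1.natAbs == 1 && e.2.2.1 == 1 && e.2.2.2 == 1 &&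
        f.1 == d && f.2.1.natAbs == 1 && f.2.2.1 == 1 && f.2.2.2 == 2
    | _ => false) &&
  ([(c, d), (a, d), (b, c), (b, d), (a, c)] : List (ℕ × ℕ)).all fun p =>
    p.2 != p.1 && p.2 != D.neg p.1 && (D.commTerms p.1 p.2).all fun e => e.2.1 % 2 == 0

variable {D : ChevalleyDatum} {F : Type*} [Field F]

namespace Facts

variable (hF : Facts D)

theorem two_cast (h2 : (2 : F) = 0) {z : ℤ} : (z.natAbs = 1 → (z : F) = 1) ∧ (z % 2 = 0 → (z : F) = 0) := by
  have h1 : (-1 : F) = 1 := neg_eq_of_add_eq_zero_left (by rw [one_add_one_eq_two]; exact h2)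
  refine ⟨fun h => ?_, fun h => ?_⟩
  · rcases Int.natAbs_eq z with h' | h' <;> rw [h', h] <;> simp [h1]
  · obtain ⟨k, rfl⟩ := Int.dvd_of_emod_eq_zero h
    push_cast
    rw [h2, zero_mul]

theorem neg_eq_self (h2 : (2 : F) = 0) (x : F) : -x = x :=
  neg_eq_of_add_eq_zero_left (by rw [← two_mul, h2, zero_mul])

theorem xg_commute_even (h2 : (2 : F) = 0) {r s : ℕ} (hr : r < D.nroots) (hs : s < D.nroots) (h1 : s ≠ r)
    (hn : s ≠ D.neg r) (he : ∀ e ∈ D.commTerms r s, e.2.1 % 2 = 0) (t u : F) :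
    Commute (hF.xg r t) (hF.xg s u) := by
  have h := (hF.sys F).x_comm r s hr hs h1 hn t u
  simp only [sys_x] at h
  rw [List.prod_eq_one fun g hg => ?_, mul_one] at h
  · exact h.symm
  · obtain ⟨p, hp, rfl⟩ := List.mem_map.1 hg
    rw [ChevalleyDatum.commWord, List.mem_map] at hp
    obtain ⟨e, hem, rfl⟩ := hp
    simp only [(two_cast (F := F) h2).2 (he e hem), zero_mul]
    exact hF.xg_zero _

/-- x_a x_b x_c x_d -/
noncomputable def w4 (a b c d : ℕ) (A B C E : F) : GL D.Idx F := hF.xg a A * hF.xg b B * hF.xg c C * hF.xg d E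

variable {a b c d : ℕ}

theorem b2_commute (h2 : (2 : F) = 0) (h : okB2 D a b c d = true) :
    (∀ t u : F, Commute (hF.xg c t) (hF.xg d u)) ∧ (∀ t u : F, Commute (hF.xg a t) (hF.xg d u)) ∧
    (∀ t u : F, Commute (hF.xg b t) (hF.xg c u)) ∧ (∀ t u : F, Commute (hF.xg b t) (hF.xg d u)) ∧
    (∀ t u : F, Commute (hF.xg a t) (hF.xg c u)) := by
  simp only [okB2, Bool.and_eq_true, List.all_eq_true, List.mem_cons, List.not_mem_nil, or_false,
    decide_eq_true_eq, bne_iff_ne, beq_iff_eq, forall_eq_or_imp, forall_eq] at h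
  obtain ⟨⟨-, -⟩, ⟨⟨a1, a2⟩, a3⟩, ⟨⟨b1, b2⟩, b3⟩, ⟨⟨c1, c2⟩, c3⟩, ⟨⟨d1, d2⟩, d3⟩, ⟨⟨e1, e2⟩, e3⟩⟩ := id h
  obtain ⟨⟨⟨⟨⟨hla, hlb, hlc, hld⟩, -⟩, -⟩, -⟩, -⟩ := h
  exact ⟨hF.xg_commute_even h2 hlc hld a1 a2 a3, hF.xg_commute_even h2 hla hld b1 b2 b3,
    hF.xg_commute_even h2 hlb hlc c1 c2 c3, hF.xg_commute_even h2 hlb hld d1 d2 d3,
    hF.xg_commute_even h2 hla hlc e1 e2 e3⟩

theorem b2_swap (h2 : (2 : F) = 0) (h : okB2 D a b c d = true) (t u : F) :
    hF.xg b u * hF.xg a t = hF.w4 a b c d t u (t * u) (t * t * u) := by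
  have hcd := (hF.b2_commute h2 h).1
  simp only [okB2, Bool.and_eq_true, List.all_eq_true, List.mem_cons, List.not_mem_nil, or_false,
    decide_eq_true_eq, bne_iff_ne, beq_iff_eq, forall_eq_or_imp, forall_eq] at h
  obtain ⟨⟨⟨⟨⟨hla, hlb, hlc, hld⟩, hne⟩, hne'⟩, hterms⟩, -⟩ := h
  have hc := (hF.sys F).x_comm b a hlb hla hne hne' u t
  simp only [sys_x, ChevalleyDatum.commWord, List.map_map] at hc
  split at hterms
  · next e f heq =>
    simp only [Bool.and_eq_true, beq_iff_eq] at hterms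
    obtain ⟨⟨⟨⟨⟨⟨⟨h1, h2'⟩, h3⟩, h4⟩, h5⟩, h6⟩, h7⟩, h8⟩ := hterms
    rw [heq] at hc
    simp only [List.map_cons, List.map_nil, List.prod_cons, List.prod_nil, mul_one, Function.comp_apply,
      h1, h3, h4, h5, h7, h8, (two_cast (F := F) h2).1 h2', (two_cast (F := F) h2).1 h6, one_mul, pow_one,
      neg_eq_self h2] at hc
    have hzz : ∀ r, ∀ z : F, hF.xg r z * hF.xg r z = 1 := fun r z => by
      rw [← xg_add, ← two_mul, h2, zero_mul]
      exact hF.xg_zero r
    rw [show u * t = t * u by ring, show u * t ^ 2 = t * t * u by ring] at hc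
    rw [w4, hc, show ∀ x y z w : GL D.Idx F, x * (y * z) * y * w = x * (y * (z * y) * w) from
      fun x y z w => by group, ← (hcd _ _).eq,
      show ∀ y z w : GL D.Idx F, y * (y * z) * w = y * y * (z * w) from fun y z w => by group,
      hzz, hzz, mul_one, mul_one]
  · exact absurd hterms Bool.false_ne_true

/-- The shape of an image under the twisting map. -/
theorem b2_reorder (h2 : (2 : F) = 0) (h : okB2 D a b c d = true) (A B C E : F) :
    hF.xg b B * hF.xg a A * hF.xg d E * hF.xg c C = hF.w4 a b c d A B (A * B + C) (A * A * B + E) := by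
  obtain ⟨hcd, -, -, -, -⟩ := hF.b2_commute h2 h
  have hc0 := hcd C E
  have hc1 := hcd C (A * A * B)
  rw [hF.b2_swap h2 h, w4, w4, mul_assoc _ (hF.xg d E), ← hc0.eq]
  rw [show hF.xg a A * hF.xg b B * hF.xg c (A * B) * hF.xg d (A * A * B) * (hF.xg c C * hF.xg d E) =
    hF.xg a A * hF.xg b B * hF.xg c (A * B) * (hF.xg d (A * A * B) * hF.xg c C) * hF.xg d E by group,
    ← hc1.eq]
  simp only [xg_add]
  group

theorem b2_mul (h2 : (2 : F) = 0) (h : okB2 D a b c d = true) (A B C E A' B' C' E' : F) :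
    hF.w4 a b c d A B C E * hF.w4 a b c d A' B' C' E' =
      hF.w4 a b c d (A + A') (B + B') (C + C' + A' * B) (E + E' + A' * A' * B) := by
  obtain ⟨hcd, had, hbc, hbd, hac⟩ := hF.b2_commute h2 h
  have hsw := hF.b2_swap h2 h A' B
  simp only [w4] at hsw ⊢
  calc hF.xg a A * hF.xg b B * hF.xg c C * hF.xg d E * (hF.xg a A' * hF.xg b B' * hF.xg c C' * hF.xg d E')
      = hF.xg a A * hF.xg b B * hF.xg c C * (hF.xg d E * hF.xg a A') * hF.xg b B' * hF.xg c C' * hF.xg d E' := by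
        group
    _ = hF.xg a A * hF.xg b B * (hF.xg c C * hF.xg a A') * (hF.xg d E * hF.xg b B') * hF.xg c C' * hF.xg d E' := by
        rw [← (had A' E).eq]; group
    _ = hF.xg a A * (hF.xg b B * hF.xg a A') * (hF.xg c C * hF.xg b B') * (hF.xg d E * hF.xg c C') * hF.xg d E' := by
        rw [← (hac A' C).eq, ← (hbd B' E).eq]; group
    _ = (hF.xg a A * hF.xg a A') * hF.xg b B * hF.xg c (A' * B) * (hF.xg d (A' * A' * B) * hF.xg b B') *
          (hF.xg c C * hF.xg c C') * (hF.xg d E * hF.xg d E') := by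
        rw [← (hbc B' C).eq, ← (hcd C' E).eq, hsw]; group
    _ = (hF.xg a A * hF.xg a A') * hF.xg b B * (hF.xg c (A' * B) * hF.xg b B') *
          (hF.xg d (A' * A' * B) * (hF.xg c C * hF.xg c C')) * (hF.xg d E * hF.xg d E') := by
        rw [← (hbd B' (A' * A' * B)).eq]; group
    _ = (hF.xg a A * hF.xg a A') * (hF.xg b B * hF.xg b B') * (hF.xg c (A' * B) * (hF.xg c C * hF.xg c C')) *
          (hF.xg d (A' * A' * B) * (hF.xg d E * hF.xg d E')) := by
        rw [← (hbc B' (A' * B)).eq, ← hF.xg_add c C C', ← (hcd (C + C') (A' * A' * B)).eq]; group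
    _ = _ := by
        simp only [← xg_add]
        rw [add_comm (A' * B), add_comm (A' * A' * B)]

end Facts

end Cfsg.Agent.Lie
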