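import Mathlib

/-! The orbit of a regular weight under the twisted Weyl group of type ²E₆, with lengths and neighbours. -/

set_option autoImplicit false

namespace Cfsg.Agent.Lie

/-- Orbit data, part. -/
def vecE6_0 : List (List ℤ × ℕ × List ℕ) := [
  ([-8, 1, 1, 3, 1, -8], 20, [2, 18, 1104, 48]),
  ([-8, 2, 1, 3, 1, -8], 19, [4, 19, 1105, 49]),
  ([-8, -1, 1, 4, 1, -8], 21, [0, 30, 1106, 50]),
  ([-8, 1, 1, 4, 1, -8], 18, [5, 31, 1107, 51]),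
  ([-8, -2, 1, 5, 1, -8], 20, [1, 36, 1108, 52]),
  ([-8, -1, 1, 5, 1, -8], 19, [3, 37, 1109, 53]),
  ([-8, 1, 2, 1, 2, -8], 22, [8, 12, 1110, 96]),
  ([-8, 4, 2, 1, 2, -8], 17, [10, 13, 1111, 97]),
  ([-8, -1, 2, 2, 2, -8], 23, [6, 20, 1112, 98]),
  ([-8, 3, 2, 2, 2, -8], 16, [11, 21, 1113, 99]),
  ([-8, -4, 2, 5, 2, -8], 18, [7, 42, 1114, 100]),
  ([-8, -3, 2, 5, 2, -8], 17, [9, 43, 1115, 101]),
  ([-8, 2, 3, -1, 3, -8], 23, [14, 6, 1116, 144]),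
  ([-8, 5, 3, -1, 3, -8], 18, [16, 7, 1117, 145]),
  ([-8, -2, 3, 1, 3, -8], 24, [12, 22, 1118, 146]),
  ([-8, 3, 3, 1, 3, -8], 15, [17, 23, 1119, 147]),
  ([-8, -5, 3, 4, 3, -8], 19, [13, 44, 1120, 148]),
  ([-8, -3, 3, 4, 3, -8], 16, [15, 45, 1121, 149]),
  ([-8, 4, 4, -3, 4, -8], 21, [24, 0, 1122, 192]),
  ([-8, 5, 4, -3, 4, -8], 20, [26, 1, 1123, 193]),
  ([-8, 1, 4, -2, 4, -8], 24, [22, 8, 1124, 194]),
  ([-8, 5, 4, -2, 4, -8], 17, [28, 9, 1125, 195]),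
  ([-8, -1, 4, -1, 4, -8], 25, [20, 14, 1126, 196]),
  ([-8, 4, 4, -1, 4, -8], 16, [29, 15, 1127, 197]),
  ([-8, -4, 4, 1, 4, -8], 22, [18, 32, 1128, 198]),
  ([-8, 1, 4, 1, 4, -8], 13, [27, 33, 1129, 199]),
  ([-8, -5, 4, 2, 4, -8], 21, [19, 38, 1130, 200]),
  ([-8, -1, 4, 2, 4, -8], 14, [25, 39, 1131, 201]),
  ([-8, -5, 4, 3, 4, -8], 18, [21, 46, 1132, 202]),
  ([-8, -4, 4, 3, 4, -8], 17, [23, 47, 1133, 203]),
  ([-8, 3, 5, -4, 5, -8], 22, [32, 2, 1134, 288]),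
  ([-8, 5, 5, -4, 5, -8], 19, [34, 3, 1135, 289]),
  ([-8, -3, 5, -1, 5, -8], 23, [30, 24, 1136, 290]),
  ([-8, 2, 5, -1, 5, -8], 14, [35, 25, 1137, 291]),
  ([-8, -5, 5, 1, 5, -8], 20, [31, 40, 1138, 292]),
  ([-8, -2, 5, 1, 5, -8], 15, [33, 41, 1139, 293]),
  ([-8, 3, 6, -5, 6, -8], 21, [38, 4, 1140, 384]),
  ([-8, 4, 6, -5, 6, -8], 20, [40, 5, 1141, 385]),
  ([-8, -3, 6, -2, 6, -8], 22, [36, 26, 1142, 386]),
  ([-8, 1, 6, -2, 6, -8], 15, [41, 27, 1143, 387]),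
  ([-8, -4, 6, -1, 6, -8], 21, [37, 34, 1144, 388]),
  ([-8, -1, 6, -1, 6, -8], 16, [39, 35, 1145, 389]),
  ([-8, 1, 7, -5, 7, -8], 19, [44, 10, 1146, 480]),
  ([-8, 2, 7, -5, 7, -8], 18, [46, 11, 1147, 481]),
  ([-8, -1, 7, -4, 7, -8], 20, [42, 16, 1148, 482]),
  ([-8, 1, 7, -4, 7, -8], 17, [47, 17, 1149, 483]),
  ([-8, -2, 7, -3, 7, -8], 19, [43, 28, 1150, 484]),
  ([-8, -1, 7, -3, 7, -8], 18, [45, 29, 1151, 485]),
  ([-7, 1, -1, 5, -1, -7], 22, [50, 72, 1056, 0]),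
  ([-7, 2, -1, 5, -1, -7], 21, [52, 73, 1057, 1]),
  ([-7, -1, -1, 6, -1, -7], 23, [48, 78, 1058, 2]),
  ([-7, 1, -1, 6, -1, -7], 20, [53, 79, 1059, 3]),
  ([-7, -2, -1, 7, -1, -7], 22, [49, 84, 1060, 4]),
  ([-7, -1, -1, 7, -1, -7], 21, [51, 85, 1061, 5]),
  ([-7, 1, 1, 1, 1, -7], 24, [56, 60, 1062, 102]),
  ([-7, 6, 1, 1, 1, -7], 15, [58, 61, 1063, 103]),
  ([-7, -1, 1, 2, 1, -7], 25, [54, 66, 1064, 104]),
  ([-7, 5, 1, 2, 1, -7], 14, [59, 67, 1065, 105]),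
  ([-7, -6, 1, 7, 1, -7], 16, [55, 90, 1066, 106]),
  ([-7, -5, 1, 7, 1, -7], 15, [57, 91, 1067, 107]),
  ([-7, 2, 2, -1, 2, -7], 25, [62, 54, 1068, 150]),
  ([-7, 7, 2, -1, 2, -7], 16, [64, 55, 1069, 151]),
  ([-7, -2, 2, 1, 2, -7], 26, [60, 68, 1070, 152]),
  ([-7, 5, 2, 1, 2, -7], 13, [65, 69, 1071, 153])]

/-- Orbit data, part. -/
def vecE6_1 : List (List ℤ × ℕ × List ℕ) := [
  ([-7, -7, 2, 6, 2, -7], 17, [61, 92, 1072, 154]),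
  ([-7, -5, 2, 6, 2, -7], 14, [63, 93, 1073, 155]),
  ([-7, 1, 3, -2, 3, -7], 26, [68, 56, 1074, 204]),
  ([-7, 7, 3, -2, 3, -7], 15, [70, 57, 1075, 205]),
  ([-7, -1, 3, -1, 3, -7], 27, [66, 62, 1076, 206]),
  ([-7, 6, 3, -1, 3, -7], 14, [71, 63, 1077, 207]),
  ([-7, -7, 3, 5, 3, -7], 16, [67, 94, 1078, 208]),
  ([-7, -6, 3, 5, 3, -7], 15, [69, 95, 1079, 209]),
  ([-7, 6, 4, -5, 4, -7], 23, [74, 48, 1080, 294]),
  ([-7, 7, 4, -5, 4, -7], 22, [76, 49, 1081, 295]),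
  ([-7, -6, 4, 1, 4, -7], 24, [72, 80, 1082, 296]),
  ([-7, 1, 4, 1, 4, -7], 11, [77, 81, 1083, 297]),
  ([-7, -7, 4, 2, 4, -7], 23, [73, 86, 1084, 298]),
  ([-7, -1, 4, 2, 4, -7], 12, [75, 87, 1085, 299]),
  ([-7, 5, 5, -6, 5, -7], 24, [80, 50, 1086, 390]),
  ([-7, 7, 5, -6, 5, -7], 21, [82, 51, 1087, 391]),
  ([-7, -5, 5, -1, 5, -7], 25, [78, 74, 1088, 392]),
  ([-7, 2, 5, -1, 5, -7], 12, [83, 75, 1089, 393]),
  ([-7, -7, 5, 1, 5, -7], 22, [79, 88, 1090, 394]),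
  ([-7, -2, 5, 1, 5, -7], 13, [81, 89, 1091, 395]),
  ([-7, 5, 6, -7, 6, -7], 23, [86, 52, 1092, 486]),
  ([-7, 6, 6, -7, 6, -7], 22, [88, 53, 1093, 487]),
  ([-7, -5, 6, -2, 6, -7], 24, [84, 76, 1094, 488]),
  ([-7, 1, 6, -2, 6, -7], 13, [89, 77, 1095, 489]),
  ([-7, -6, 6, -1, 6, -7], 23, [85, 82, 1096, 490]),
  ([-7, -1, 6, -1, 6, -7], 14, [87, 83, 1097, 491]),
  ([-7, 1, 8, -7, 8, -7], 17, [92, 58, 1098, 576]),
  ([-7, 2, 8, -7, 8, -7], 16, [94, 59, 1099, 577]),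
  ([-7, -1, 8, -6, 8, -7], 18, [90, 64, 1100, 578]),
  ([-7, 1, 8, -6, 8, -7], 15, [95, 65, 1101, 579]),
  ([-7, -2, 8, -5, 8, -7], 17, [91, 70, 1102, 580]),
  ([-7, -1, 8, -5, 8, -7], 16, [93, 71, 1103, 581]),
  ([-6, 1, -2, 5, -2, -6], 24, [98, 114, 1008, 6]),
  ([-6, 4, -2, 5, -2, -6], 19, [100, 115, 1009, 7]),
  ([-6, -1, -2, 6, -2, -6], 25, [96, 126, 1010, 8]),
  ([-6, 3, -2, 6, -2, -6], 18, [101, 127, 1011, 9]),
  ([-6, -4, -2, 9, -2, -6], 20, [97, 132, 1012, 10]),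
  ([-6, -3, -2, 9, -2, -6], 19, [99, 133, 1013, 11]),
  ([-6, 1, -1, 3, -1, -6], 26, [104, 108, 1014, 54]),
  ([-6, 6, -1, 3, -1, -6], 17, [106, 109, 1015, 55]),
  ([-6, -1, -1, 4, -1, -6], 27, [102, 116, 1016, 56]),
  ([-6, 5, -1, 4, -1, -6], 16, [107, 117, 1017, 57]),
  ([-6, -6, -1, 9, -1, -6], 18, [103, 138, 1018, 58]),
  ([-6, -5, -1, 9, -1, -6], 17, [105, 139, 1019, 59]),
  ([-6, 4, 2, -3, 2, -6], 27, [110, 102, 1020, 210]),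
  ([-6, 9, 2, -3, 2, -6], 18, [112, 103, 1021, 211]),
  ([-6, -4, 2, 1, 2, -6], 28, [108, 118, 1022, 212]),
  ([-6, 5, 2, 1, 2, -6], 11, [113, 119, 1023, 213]),
  ([-6, -9, 2, 6, 2, -6], 19, [109, 140, 1024, 214]),
  ([-6, -5, 2, 6, 2, -6], 12, [111, 141, 1025, 215]),
  ([-6, 6, 3, -5, 3, -6], 25, [120, 96, 1026, 300]),
  ([-6, 9, 3, -5, 3, -6], 20, [122, 97, 1027, 301]),
  ([-6, 3, 3, -4, 3, -6], 28, [118, 104, 1028, 302]),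
  ([-6, 9, 3, -4, 3, -6], 17, [124, 105, 1029, 303]),
  ([-6, -3, 3, -1, 3, -6], 29, [116, 110, 1030, 304]),
  ([-6, 6, 3, -1, 3, -6], 12, [125, 111, 1031, 305]),
  ([-6, -6, 3, 1, 3, -6], 26, [114, 128, 1032, 306]),
  ([-6, 3, 3, 1, 3, -6], 9, [123, 129, 1033, 307]),
  ([-6, -9, 3, 4, 3, -6], 21, [115, 134, 1034, 308]),
  ([-6, -3, 3, 4, 3, -6], 10, [121, 135, 1035, 309]),
  ([-6, -9, 3, 5, 3, -6], 18, [117, 142, 1036, 310]),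
  ([-6, -6, 3, 5, 3, -6], 13, [119, 143, 1037, 311]),
  ([-6, 5, 4, -6, 4, -6], 26, [128, 98, 1038, 396]),
  ([-6, 9, 4, -6, 4, -6], 19, [130, 99, 1039, 397])]

/-- Orbit data, part. -/
def vecE6_2 : List (List ℤ × ℕ × List ℕ) := [
  ([-6, -5, 4, -1, 4, -6], 27, [126, 120, 1040, 398]),
  ([-6, 4, 4, -1, 4, -6], 10, [131, 121, 1041, 399]),
  ([-6, -9, 4, 3, 4, -6], 20, [127, 136, 1042, 400]),
  ([-6, -4, 4, 3, 4, -6], 11, [129, 137, 1043, 401]),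
  ([-6, 5, 7, -9, 7, -6], 21, [134, 100, 1044, 582]),
  ([-6, 6, 7, -9, 7, -6], 20, [136, 101, 1045, 583]),
  ([-6, -5, 7, -4, 7, -6], 22, [132, 122, 1046, 584]),
  ([-6, 1, 7, -4, 7, -6], 11, [137, 123, 1047, 585]),
  ([-6, -6, 7, -3, 7, -6], 21, [133, 130, 1048, 586]),
  ([-6, -1, 7, -3, 7, -6], 12, [135, 131, 1049, 587]),
  ([-6, 3, 8, -9, 8, -6], 19, [140, 106, 1050, 672]),
  ([-6, 4, 8, -9, 8, -6], 18, [142, 107, 1051, 673]),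
  ([-6, -3, 8, -6, 8, -6], 20, [138, 112, 1052, 674]),
  ([-6, 1, 8, -6, 8, -6], 13, [143, 113, 1053, 675]),
  ([-6, -4, 8, -5, 8, -6], 19, [139, 124, 1054, 676]),
  ([-6, -1, 8, -5, 8, -6], 14, [141, 125, 1055, 677]),
  ([-5, 2, -3, 5, -3, -5], 25, [146, 162, 960, 12]),
  ([-5, 5, -3, 5, -3, -5], 20, [148, 163, 961, 13]),
  ([-5, -2, -3, 7, -3, -5], 26, [144, 174, 962, 14]),
  ([-5, 3, -3, 7, -3, -5], 17, [149, 175, 963, 15]),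
  ([-5, -5, -3, 10, -3, -5], 21, [145, 180, 964, 16]),
  ([-5, -3, -3, 10, -3, -5], 18, [147, 181, 965, 17]),
  ([-5, 2, -2, 3, -2, -5], 27, [152, 156, 966, 60]),
  ([-5, 7, -2, 3, -2, -5], 18, [154, 157, 967, 61]),
  ([-5, -2, -2, 5, -2, -5], 28, [150, 168, 968, 62]),
  ([-5, 5, -2, 5, -2, -5], 15, [155, 169, 969, 63]),
  ([-5, -7, -2, 10, -2, -5], 19, [151, 186, 970, 64]),
  ([-5, -5, -2, 10, -2, -5], 16, [153, 187, 971, 65]),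
  ([-5, 5, 1, -3, 1, -5], 28, [158, 150, 972, 216]),
  ([-5, 10, 1, -3, 1, -5], 19, [160, 151, 973, 217]),
  ([-5, -5, 1, 2, 1, -5], 29, [156, 170, 974, 218]),
  ([-5, 5, 1, 2, 1, -5], 10, [161, 171, 975, 219]),
  ([-5, -10, 1, 7, 1, -5], 20, [157, 188, 976, 220]),
  ([-5, -5, 1, 7, 1, -5], 11, [159, 189, 977, 221]),
  ([-5, 7, 2, -5, 2, -5], 26, [164, 144, 978, 312]),
  ([-5, 10, 2, -5, 2, -5], 21, [166, 145, 979, 313]),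
  ([-5, -7, 2, 2, 2, -5], 27, [162, 176, 980, 314]),
  ([-5, 3, 2, 2, 2, -5], 8, [167, 177, 981, 315]),
  ([-5, -10, 2, 5, 2, -5], 22, [163, 182, 982, 316]),
  ([-5, -3, 2, 5, 2, -5], 9, [165, 183, 983, 317]),
  ([-5, 3, 3, -5, 3, -5], 29, [170, 152, 984, 402]),
  ([-5, 10, 3, -5, 3, -5], 16, [172, 153, 985, 403]),
  ([-5, -3, 3, -2, 3, -5], 30, [168, 158, 986, 404]),
  ([-5, 7, 3, -2, 3, -5], 11, [173, 159, 987, 405]),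
  ([-5, -10, 3, 5, 3, -5], 17, [169, 190, 988, 406]),
  ([-5, -7, 3, 5, 3, -5], 12, [171, 191, 989, 407]),
  ([-5, 5, 4, -7, 4, -5], 27, [176, 146, 990, 492]),
  ([-5, 10, 4, -7, 4, -5], 18, [178, 147, 991, 493]),
  ([-5, -5, 4, -2, 4, -5], 28, [174, 164, 992, 494]),
  ([-5, 5, 4, -2, 4, -5], 9, [179, 165, 993, 495]),
  ([-5, -10, 4, 3, 4, -5], 19, [175, 184, 994, 496]),
  ([-5, -5, 4, 3, 4, -5], 10, [177, 185, 995, 497]),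
  ([-5, 5, 7, -10, 7, -5], 22, [182, 148, 996, 678]),
  ([-5, 7, 7, -10, 7, -5], 19, [184, 149, 997, 679]),
  ([-5, -5, 7, -5, 7, -5], 23, [180, 166, 998, 680]),
  ([-5, 2, 7, -5, 7, -5], 10, [185, 167, 999, 681]),
  ([-5, -7, 7, -3, 7, -5], 20, [181, 178, 1000, 682]),
  ([-5, -2, 7, -3, 7, -5], 11, [183, 179, 1001, 683]),
  ([-5, 3, 8, -10, 8, -5], 20, [188, 154, 1002, 768]),
  ([-5, 5, 8, -10, 8, -5], 17, [190, 155, 1003, 769]),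
  ([-5, -3, 8, -7, 8, -5], 21, [186, 160, 1004, 770]),
  ([-5, 2, 8, -7, 8, -5], 12, [191, 161, 1005, 771]),
  ([-5, -5, 8, -5, 8, -5], 18, [187, 172, 1006, 772]),
  ([-5, -2, 8, -5, 8, -5], 13, [189, 173, 1007, 773])]

/-- Orbit data, part. -/
def vecE6_3 : List (List ℤ × ℕ × List ℕ) := [
  ([-4, 4, -4, 5, -4, -4], 23, [198, 222, 864, 18]),
  ([-4, 5, -4, 5, -4, -4], 22, [200, 223, 865, 19]),
  ([-4, 1, -4, 6, -4, -4], 26, [196, 234, 866, 20]),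
  ([-4, 5, -4, 6, -4, -4], 19, [202, 235, 867, 21]),
  ([-4, -1, -4, 7, -4, -4], 27, [194, 246, 868, 22]),
  ([-4, 4, -4, 7, -4, -4], 18, [203, 247, 869, 23]),
  ([-4, -4, -4, 9, -4, -4], 24, [192, 258, 870, 24]),
  ([-4, 1, -4, 9, -4, -4], 15, [201, 259, 871, 25]),
  ([-4, -5, -4, 10, -4, -4], 23, [193, 264, 872, 26]),
  ([-4, -1, -4, 10, -4, -4], 16, [199, 265, 873, 27]),
  ([-4, -5, -4, 11, -4, -4], 20, [195, 270, 874, 28]),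
  ([-4, -4, -4, 11, -4, -4], 19, [197, 271, 875, 29]),
  ([-4, 1, -3, 4, -3, -4], 28, [206, 224, 876, 66]),
  ([-4, 7, -3, 4, -3, -4], 17, [208, 225, 877, 67]),
  ([-4, -1, -3, 5, -3, -4], 29, [204, 236, 878, 68]),
  ([-4, 6, -3, 5, -3, -4], 16, [209, 237, 879, 69]),
  ([-4, -7, -3, 11, -3, -4], 18, [205, 276, 880, 70]),
  ([-4, -6, -3, 11, -3, -4], 17, [207, 277, 881, 71]),
  ([-4, 4, -2, 1, -2, -4], 29, [212, 216, 882, 108]),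
  ([-4, 9, -2, 1, -2, -4], 20, [214, 217, 883, 109]),
  ([-4, -4, -2, 5, -2, -4], 30, [210, 248, 884, 110]),
  ([-4, 5, -2, 5, -2, -4], 13, [215, 249, 885, 111]),
  ([-4, -9, -2, 10, -2, -4], 21, [211, 278, 886, 112]),
  ([-4, -5, -2, 10, -2, -4], 14, [213, 279, 887, 113]),
  ([-4, 5, -1, -1, -1, -4], 30, [218, 210, 888, 156]),
  ([-4, 10, -1, -1, -1, -4], 21, [220, 211, 889, 157]),
  ([-4, -5, -1, 4, -1, -4], 31, [216, 250, 890, 158]),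
  ([-4, 5, -1, 4, -1, -4], 12, [221, 251, 891, 159]),
  ([-4, -10, -1, 9, -1, -4], 22, [217, 280, 892, 160]),
  ([-4, -5, -1, 9, -1, -4], 13, [219, 281, 893, 161]),
  ([-4, 9, 1, -5, 1, -4], 24, [228, 192, 894, 318]),
  ([-4, 10, 1, -5, 1, -4], 23, [230, 193, 895, 319]),
  ([-4, 5, 1, -4, 1, -4], 29, [226, 204, 896, 320]),
  ([-4, 11, 1, -4, 1, -4], 18, [232, 205, 897, 321]),
  ([-4, -5, 1, 1, 1, -4], 30, [224, 238, 898, 322]),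
  ([-4, 6, 1, 1, 1, -4], 9, [233, 239, 899, 323]),
  ([-4, -9, 1, 4, 1, -4], 25, [222, 260, 900, 324]),
  ([-4, 1, 1, 4, 1, -4], 6, [231, 261, 901, 325]),
  ([-4, -10, 1, 5, 1, -4], 24, [223, 266, 902, 326]),
  ([-4, -1, 1, 5, 1, -4], 7, [229, 267, 903, 327]),
  ([-4, -11, 1, 7, 1, -4], 19, [225, 282, 904, 328]),
  ([-4, -6, 1, 7, 1, -4], 10, [227, 283, 905, 329]),
  ([-4, 7, 2, -6, 2, -4], 27, [240, 194, 906, 408]),
  ([-4, 11, 2, -6, 2, -4], 20, [242, 195, 907, 409]),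
  ([-4, 4, 2, -5, 2, -4], 30, [238, 206, 908, 410]),
  ([-4, 11, 2, -5, 2, -4], 17, [244, 207, 909, 411]),
  ([-4, -4, 2, -1, 2, -4], 31, [236, 226, 910, 412]),
  ([-4, 7, 2, -1, 2, -4], 10, [245, 227, 911, 413]),
  ([-4, -7, 2, 1, 2, -4], 28, [234, 252, 912, 414]),
  ([-4, 4, 2, 1, 2, -4], 7, [243, 253, 913, 415]),
  ([-4, -11, 2, 5, 2, -4], 21, [235, 272, 914, 416]),
  ([-4, -4, 2, 5, 2, -4], 8, [241, 273, 915, 417]),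
  ([-4, -11, 2, 6, 2, -4], 18, [237, 284, 916, 418]),
  ([-4, -7, 2, 6, 2, -4], 11, [239, 285, 917, 419]),
  ([-4, 6, 3, -7, 3, -4], 28, [252, 196, 918, 498]),
  ([-4, 11, 3, -7, 3, -4], 19, [254, 197, 919, 499]),
  ([-4, 1, 3, -5, 3, -4], 31, [250, 212, 920, 500]),
  ([-4, 10, 3, -5, 3, -4], 14, [256, 213, 921, 501]),
  ([-4, -1, 3, -4, 3, -4], 32, [248, 218, 922, 502]),
  ([-4, 9, 3, -4, 3, -4], 13, [257, 219, 923, 503]),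
  ([-4, -6, 3, -1, 3, -4], 29, [246, 240, 924, 504]),
  ([-4, 5, 3, -1, 3, -4], 8, [255, 241, 925, 505]),
  ([-4, -11, 3, 4, 3, -4], 20, [247, 274, 926, 506]),
  ([-4, -5, 3, 4, 3, -4], 9, [253, 275, 927, 507])]

/-- Orbit data, part. -/
def vecE6_4 : List (List ℤ × ℕ × List ℕ) := [
  ([-4, -10, 3, 5, 3, -4], 15, [249, 286, 928, 508]),
  ([-4, -9, 3, 5, 3, -4], 14, [251, 287, 929, 509]),
  ([-4, 5, 5, -9, 5, -4], 25, [260, 198, 930, 588]),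
  ([-4, 10, 5, -9, 5, -4], 16, [262, 199, 931, 589]),
  ([-4, -5, 5, -4, 5, -4], 26, [258, 228, 932, 590]),
  ([-4, 5, 5, -4, 5, -4], 7, [263, 229, 933, 591]),
  ([-4, -10, 5, 1, 5, -4], 17, [259, 268, 934, 592]),
  ([-4, -5, 5, 1, 5, -4], 8, [261, 269, 935, 593]),
  ([-4, 5, 6, -10, 6, -4], 24, [266, 200, 936, 684]),
  ([-4, 9, 6, -10, 6, -4], 17, [268, 201, 937, 685]),
  ([-4, -5, 6, -5, 6, -4], 25, [264, 230, 938, 686]),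
  ([-4, 4, 6, -5, 6, -4], 8, [269, 231, 939, 687]),
  ([-4, -9, 6, -1, 6, -4], 18, [265, 262, 940, 688]),
  ([-4, -4, 6, -1, 6, -4], 9, [267, 263, 941, 689]),
  ([-4, 6, 7, -11, 7, -4], 21, [272, 202, 942, 774]),
  ([-4, 7, 7, -11, 7, -4], 20, [274, 203, 943, 775]),
  ([-4, -6, 7, -5, 7, -4], 22, [270, 242, 944, 776]),
  ([-4, 1, 7, -5, 7, -4], 9, [275, 243, 945, 777]),
  ([-4, -7, 7, -4, 7, -4], 21, [271, 254, 946, 778]),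
  ([-4, -1, 7, -4, 7, -4], 10, [273, 255, 947, 779]),
  ([-4, 4, 8, -11, 8, -4], 19, [282, 208, 948, 864]),
  ([-4, 5, 8, -11, 8, -4], 18, [284, 209, 949, 865]),
  ([-4, 1, 8, -10, 8, -4], 22, [280, 214, 950, 866]),
  ([-4, 5, 8, -10, 8, -4], 15, [286, 215, 951, 867]),
  ([-4, -1, 8, -9, 8, -4], 23, [278, 220, 952, 868]),
  ([-4, 4, 8, -9, 8, -4], 14, [287, 221, 953, 869]),
  ([-4, -4, 8, -7, 8, -4], 20, [276, 232, 954, 870]),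
  ([-4, 1, 8, -7, 8, -4], 11, [285, 233, 955, 871]),
  ([-4, -5, 8, -6, 8, -4], 19, [277, 244, 956, 872]),
  ([-4, -1, 8, -6, 8, -4], 12, [283, 245, 957, 873]),
  ([-4, -5, 8, -5, 8, -4], 16, [279, 256, 958, 874]),
  ([-4, -4, 8, -5, 8, -4], 15, [281, 257, 959, 875]),
  ([-3, 3, -5, 6, -5, -3], 24, [290, 330, 768, 30]),
  ([-3, 5, -5, 6, -5, -3], 21, [292, 331, 769, 31]),
  ([-3, -3, -5, 9, -5, -3], 25, [288, 342, 770, 32]),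
  ([-3, 2, -5, 9, -5, -3], 16, [293, 343, 771, 33]),
  ([-3, -5, -5, 11, -5, -3], 22, [289, 360, 772, 34]),
  ([-3, -2, -5, 11, -5, -3], 17, [291, 361, 773, 35]),
  ([-3, 6, -4, 3, -4, -3], 25, [296, 318, 774, 72]),
  ([-3, 7, -4, 3, -4, -3], 24, [298, 319, 775, 73]),
  ([-3, -6, -4, 9, -4, -3], 26, [294, 354, 776, 74]),
  ([-3, 1, -4, 9, -4, -3], 13, [299, 355, 777, 75]),
  ([-3, -7, -4, 10, -4, -3], 25, [295, 362, 778, 76]),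
  ([-3, -1, -4, 10, -4, -3], 14, [297, 363, 779, 77]),
  ([-3, 6, -3, 1, -3, -3], 27, [306, 312, 780, 114]),
  ([-3, 9, -3, 1, -3, -3], 22, [308, 313, 781, 115]),
  ([-3, 3, -3, 2, -3, -3], 30, [304, 320, 782, 116]),
  ([-3, 9, -3, 2, -3, -3], 19, [310, 321, 783, 117]),
  ([-3, -3, -3, 5, -3, -3], 31, [302, 336, 784, 118]),
  ([-3, 6, -3, 5, -3, -3], 14, [311, 337, 785, 119]),
  ([-3, -6, -3, 7, -3, -3], 28, [300, 344, 786, 120]),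
  ([-3, 3, -3, 7, -3, -3], 11, [309, 345, 787, 121]),
  ([-3, -9, -3, 10, -3, -3], 23, [301, 372, 788, 122]),
  ([-3, -3, -3, 10, -3, -3], 12, [307, 373, 789, 123]),
  ([-3, -9, -3, 11, -3, -3], 20, [303, 378, 790, 124]),
  ([-3, -6, -3, 11, -3, -3], 15, [305, 379, 791, 125]),
  ([-3, 7, -2, -1, -2, -3], 28, [314, 300, 792, 162]),
  ([-3, 10, -2, -1, -2, -3], 23, [316, 301, 793, 163]),
  ([-3, -7, -2, 6, -2, -3], 29, [312, 346, 794, 164]),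
  ([-3, 3, -2, 6, -2, -3], 10, [317, 347, 795, 165]),
  ([-3, -10, -2, 9, -2, -3], 24, [313, 374, 796, 166]),
  ([-3, -3, -2, 9, -2, -3], 11, [315, 375, 797, 167]),
  ([-3, 9, -1, -3, -1, -3], 26, [324, 294, 798, 222]),
  ([-3, 10, -1, -3, -1, -3], 25, [326, 295, 799, 223])]

/-- Orbit data, part. -/
def vecE6_5 : List (List ℤ × ℕ × List ℕ) := [
  ([-3, 5, -1, -2, -1, -3], 31, [322, 302, 800, 224]),
  ([-3, 11, -1, -2, -1, -3], 20, [328, 303, 801, 225]),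
  ([-3, -5, -1, 3, -1, -3], 32, [320, 338, 802, 226]),
  ([-3, 6, -1, 3, -1, -3], 11, [329, 339, 803, 227]),
  ([-3, -9, -1, 6, -1, -3], 27, [318, 356, 804, 228]),
  ([-3, 1, -1, 6, -1, -3], 8, [327, 357, 805, 229]),
  ([-3, -10, -1, 7, -1, -3], 26, [319, 364, 806, 230]),
  ([-3, -1, -1, 7, -1, -3], 9, [325, 365, 807, 231]),
  ([-3, -11, -1, 9, -1, -3], 21, [321, 380, 808, 232]),
  ([-3, -6, -1, 9, -1, -3], 12, [323, 381, 809, 233]),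
  ([-3, 9, 1, -6, 1, -3], 25, [332, 288, 810, 420]),
  ([-3, 11, 1, -6, 1, -3], 22, [334, 289, 811, 421]),
  ([-3, -9, 1, 3, 1, -3], 26, [330, 348, 812, 422]),
  ([-3, 2, 1, 3, 1, -3], 5, [335, 349, 813, 423]),
  ([-3, -11, 1, 5, 1, -3], 23, [331, 366, 814, 424]),
  ([-3, -2, 1, 5, 1, -3], 6, [333, 367, 815, 425]),
  ([-3, 2, 2, -5, 2, -3], 32, [338, 304, 816, 510]),
  ([-3, 11, 2, -5, 2, -3], 15, [340, 305, 817, 511]),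
  ([-3, -2, 2, -3, 2, -3], 33, [336, 322, 818, 512]),
  ([-3, 9, 2, -3, 2, -3], 12, [341, 323, 819, 513]),
  ([-3, -11, 2, 6, 2, -3], 16, [337, 382, 820, 514]),
  ([-3, -9, 2, 6, 2, -3], 13, [339, 383, 821, 515]),
  ([-3, 6, 4, -9, 4, -3], 26, [348, 290, 822, 594]),
  ([-3, 11, 4, -9, 4, -3], 17, [350, 291, 823, 595]),
  ([-3, 1, 4, -7, 4, -3], 29, [346, 306, 824, 596]),
  ([-3, 10, 4, -7, 4, -3], 12, [352, 307, 825, 597]),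
  ([-3, -1, 4, -6, 4, -3], 30, [344, 314, 826, 598]),
  ([-3, 9, 4, -6, 4, -3], 11, [353, 315, 827, 599]),
  ([-3, -6, 4, -3, 4, -3], 27, [342, 332, 828, 600]),
  ([-3, 5, 4, -3, 4, -3], 6, [351, 333, 829, 601]),
  ([-3, -11, 4, 2, 4, -3], 18, [343, 368, 830, 602]),
  ([-3, -5, 4, 2, 4, -3], 7, [349, 369, 831, 603]),
  ([-3, -10, 4, 3, 4, -3], 13, [345, 376, 832, 604]),
  ([-3, -9, 4, 3, 4, -3], 12, [347, 377, 833, 605]),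
  ([-3, 3, 5, -9, 5, -3], 27, [356, 296, 834, 690]),
  ([-3, 10, 5, -9, 5, -3], 14, [358, 297, 835, 691]),
  ([-3, -3, 5, -6, 5, -3], 28, [354, 324, 836, 692]),
  ([-3, 7, 5, -6, 5, -3], 9, [359, 325, 837, 693]),
  ([-3, -10, 5, 1, 5, -3], 15, [355, 370, 838, 694]),
  ([-3, -7, 5, 1, 5, -3], 10, [357, 371, 839, 695]),
  ([-3, 6, 6, -11, 6, -3], 23, [366, 292, 840, 780]),
  ([-3, 9, 6, -11, 6, -3], 18, [368, 293, 841, 781]),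
  ([-3, 3, 6, -10, 6, -3], 26, [364, 298, 842, 782]),
  ([-3, 9, 6, -10, 6, -3], 15, [370, 299, 843, 783]),
  ([-3, -3, 6, -7, 6, -3], 27, [362, 326, 844, 784]),
  ([-3, 6, 6, -7, 6, -3], 10, [371, 327, 845, 785]),
  ([-3, -6, 6, -5, 6, -3], 24, [360, 334, 846, 786]),
  ([-3, 3, 6, -5, 6, -3], 7, [369, 335, 847, 787]),
  ([-3, -9, 6, -2, 6, -3], 19, [361, 350, 848, 788]),
  ([-3, -3, 6, -2, 6, -3], 8, [367, 351, 849, 789]),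
  ([-3, -9, 6, -1, 6, -3], 16, [363, 358, 850, 790]),
  ([-3, -6, 6, -1, 6, -3], 11, [365, 359, 851, 791]),
  ([-3, 1, 7, -10, 7, -3], 24, [374, 308, 852, 876]),
  ([-3, 7, 7, -10, 7, -3], 13, [376, 309, 853, 877]),
  ([-3, -1, 7, -9, 7, -3], 25, [372, 316, 854, 878]),
  ([-3, 6, 7, -9, 7, -3], 12, [377, 317, 855, 879]),
  ([-3, -7, 7, -3, 7, -3], 14, [373, 352, 856, 880]),
  ([-3, -6, 7, -3, 7, -3], 13, [375, 353, 857, 881]),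
  ([-3, 2, 8, -11, 8, -3], 21, [380, 310, 858, 960]),
  ([-3, 5, 8, -11, 8, -3], 16, [382, 311, 859, 961]),
  ([-3, -2, 8, -9, 8, -3], 22, [378, 328, 860, 962]),
  ([-3, 3, 8, -9, 8, -3], 13, [383, 329, 861, 963]),
  ([-3, -5, 8, -6, 8, -3], 17, [379, 340, 862, 964]),
  ([-3, -3, 8, -6, 8, -3], 14, [381, 341, 863, 965])]

/-- Orbit data, part. -/
def vecE6_6 : List (List ℤ × ℕ × List ℕ) := [
  ([-2, 3, -6, 7, -6, -2], 23, [386, 426, 672, 36]),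
  ([-2, 4, -6, 7, -6, -2], 22, [388, 427, 673, 37]),
  ([-2, -3, -6, 10, -6, -2], 24, [384, 444, 674, 38]),
  ([-2, 1, -6, 10, -6, -2], 17, [389, 445, 675, 39]),
  ([-2, -4, -6, 11, -6, -2], 23, [385, 456, 676, 40]),
  ([-2, -1, -6, 11, -6, -2], 18, [387, 457, 677, 41]),
  ([-2, 5, -5, 4, -5, -2], 26, [392, 420, 678, 78]),
  ([-2, 7, -5, 4, -5, -2], 23, [394, 421, 679, 79]),
  ([-2, -5, -5, 9, -5, -2], 27, [390, 446, 680, 80]),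
  ([-2, 2, -5, 9, -5, -2], 14, [395, 447, 681, 81]),
  ([-2, -7, -5, 11, -5, -2], 24, [391, 462, 682, 82]),
  ([-2, -2, -5, 11, -5, -2], 15, [393, 463, 683, 83]),
  ([-2, 5, -4, 2, -4, -2], 28, [398, 408, 684, 126]),
  ([-2, 9, -4, 2, -4, -2], 21, [400, 409, 685, 127]),
  ([-2, -5, -4, 7, -4, -2], 29, [396, 438, 686, 128]),
  ([-2, 4, -4, 7, -4, -2], 12, [401, 439, 687, 129]),
  ([-2, -9, -4, 11, -4, -2], 22, [397, 468, 688, 130]),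
  ([-2, -4, -4, 11, -4, -2], 13, [399, 469, 689, 131]),
  ([-2, 3, -3, 1, -3, -2], 31, [404, 410, 690, 168]),
  ([-2, 10, -3, 1, -3, -2], 18, [406, 411, 691, 169]),
  ([-2, -3, -3, 4, -3, -2], 32, [402, 428, 692, 170]),
  ([-2, 7, -3, 4, -3, -2], 13, [407, 429, 693, 171]),
  ([-2, -10, -3, 11, -3, -2], 19, [403, 474, 694, 172]),
  ([-2, -7, -3, 11, -3, -2], 14, [405, 475, 695, 173]),
  ([-2, 7, -2, -2, -2, -2], 29, [414, 396, 696, 234]),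
  ([-2, 11, -2, -2, -2, -2], 22, [416, 397, 697, 235]),
  ([-2, 4, -2, -1, -2, -2], 32, [412, 402, 698, 236]),
  ([-2, 11, -2, -1, -2, -2], 19, [418, 403, 699, 237]),
  ([-2, -4, -2, 3, -2, -2], 33, [410, 430, 700, 238]),
  ([-2, 7, -2, 3, -2, -2], 12, [419, 431, 701, 239]),
  ([-2, -7, -2, 5, -2, -2], 30, [408, 440, 702, 240]),
  ([-2, 4, -2, 5, -2, -2], 9, [417, 441, 703, 241]),
  ([-2, -11, -2, 9, -2, -2], 23, [409, 470, 704, 242]),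
  ([-2, -4, -2, 9, -2, -2], 10, [415, 471, 705, 243]),
  ([-2, -11, -2, 10, -2, -2], 20, [411, 476, 706, 244]),
  ([-2, -7, -2, 10, -2, -2], 13, [413, 477, 707, 245]),
  ([-2, 9, -1, -4, -1, -2], 27, [422, 390, 708, 330]),
  ([-2, 11, -1, -4, -1, -2], 24, [424, 391, 709, 331]),
  ([-2, -9, -1, 5, -1, -2], 28, [420, 448, 710, 332]),
  ([-2, 2, -1, 5, -1, -2], 7, [425, 449, 711, 333]),
  ([-2, -11, -1, 7, -1, -2], 25, [421, 464, 712, 334]),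
  ([-2, -2, -1, 7, -1, -2], 8, [423, 465, 713, 335]),
  ([-2, 10, 1, -7, 1, -2], 24, [432, 384, 714, 516]),
  ([-2, 11, 1, -7, 1, -2], 23, [434, 385, 715, 517]),
  ([-2, 1, 1, -4, 1, -2], 33, [430, 404, 716, 518]),
  ([-2, 11, 1, -4, 1, -2], 14, [436, 405, 717, 519]),
  ([-2, -1, 1, -3, 1, -2], 34, [428, 412, 718, 520]),
  ([-2, 10, 1, -3, 1, -2], 13, [437, 413, 719, 521]),
  ([-2, -10, 1, 3, 1, -2], 25, [426, 450, 720, 522]),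
  ([-2, 1, 1, 3, 1, -2], 4, [435, 451, 721, 523]),
  ([-2, -11, 1, 4, 1, -2], 24, [427, 458, 722, 524]),
  ([-2, -1, 1, 4, 1, -2], 5, [433, 459, 723, 525]),
  ([-2, -11, 1, 7, 1, -2], 15, [429, 478, 724, 526]),
  ([-2, -10, 1, 7, 1, -2], 14, [431, 479, 725, 527]),
  ([-2, 2, 3, -7, 3, -2], 30, [440, 398, 726, 606]),
  ([-2, 11, 3, -7, 3, -2], 13, [442, 399, 727, 607]),
  ([-2, -2, 3, -5, 3, -2], 31, [438, 414, 728, 608]),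
  ([-2, 9, 3, -5, 3, -2], 10, [443, 415, 729, 609]),
  ([-2, -11, 3, 4, 3, -2], 14, [439, 472, 730, 610]),
  ([-2, -9, 3, 4, 3, -2], 11, [441, 473, 731, 611]),
  ([-2, 7, 4, -10, 4, -2], 25, [450, 386, 732, 696]),
  ([-2, 11, 4, -10, 4, -2], 18, [452, 387, 733, 697]),
  ([-2, 4, 4, -9, 4, -2], 28, [448, 392, 734, 698]),
  ([-2, 11, 4, -9, 4, -2], 15, [454, 393, 735, 699])]

/-- Orbit data, part. -/
def vecE6_7 : List (List ℤ × ℕ × List ℕ) := [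
  ([-2, -4, 4, -5, 4, -2], 29, [446, 422, 736, 700]),
  ([-2, 7, 4, -5, 4, -2], 8, [455, 423, 737, 701]),
  ([-2, -7, 4, -3, 4, -2], 26, [444, 432, 738, 702]),
  ([-2, 4, 4, -3, 4, -2], 5, [453, 433, 739, 703]),
  ([-2, -11, 4, 1, 4, -2], 19, [445, 460, 740, 704]),
  ([-2, -4, 4, 1, 4, -2], 6, [451, 461, 741, 705]),
  ([-2, -11, 4, 2, 4, -2], 16, [447, 466, 742, 706]),
  ([-2, -7, 4, 2, 4, -2], 9, [449, 467, 743, 707]),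
  ([-2, 7, 5, -11, 5, -2], 24, [458, 388, 744, 792]),
  ([-2, 10, 5, -11, 5, -2], 19, [460, 389, 745, 793]),
  ([-2, -7, 5, -4, 5, -2], 25, [456, 434, 746, 794]),
  ([-2, 3, 5, -4, 5, -2], 6, [461, 435, 747, 795]),
  ([-2, -10, 5, -1, 5, -2], 20, [457, 452, 748, 796]),
  ([-2, -3, 5, -1, 5, -2], 7, [459, 453, 749, 797]),
  ([-2, 4, 6, -11, 6, -2], 25, [464, 394, 750, 882]),
  ([-2, 9, 6, -11, 6, -2], 16, [466, 395, 751, 883]),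
  ([-2, -4, 6, -7, 6, -2], 26, [462, 424, 752, 884]),
  ([-2, 5, 6, -7, 6, -2], 9, [467, 425, 753, 885]),
  ([-2, -9, 6, -2, 6, -2], 17, [463, 454, 754, 886]),
  ([-2, -5, 6, -2, 6, -2], 10, [465, 455, 755, 887]),
  ([-2, 2, 7, -11, 7, -2], 23, [470, 400, 756, 966]),
  ([-2, 7, 7, -11, 7, -2], 14, [472, 401, 757, 967]),
  ([-2, -2, 7, -9, 7, -2], 24, [468, 416, 758, 968]),
  ([-2, 5, 7, -9, 7, -2], 11, [473, 417, 759, 969]),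
  ([-2, -7, 7, -4, 7, -2], 15, [469, 442, 760, 970]),
  ([-2, -5, 7, -4, 7, -2], 12, [471, 443, 761, 971]),
  ([-2, 1, 8, -11, 8, -2], 20, [476, 406, 762, 1008]),
  ([-2, 4, 8, -11, 8, -2], 15, [478, 407, 763, 1009]),
  ([-2, -1, 8, -10, 8, -2], 21, [474, 418, 764, 1010]),
  ([-2, 3, 8, -10, 8, -2], 14, [479, 419, 765, 1011]),
  ([-2, -4, 8, -7, 8, -2], 16, [475, 436, 766, 1012]),
  ([-2, -3, 8, -7, 8, -2], 15, [477, 437, 767, 1013]),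
  ([-1, 1, -7, 9, -7, -1], 21, [482, 528, 576, 42]),
  ([-1, 2, -7, 9, -7, -1], 20, [484, 529, 577, 43]),
  ([-1, -1, -7, 10, -7, -1], 22, [480, 540, 578, 44]),
  ([-1, 1, -7, 10, -7, -1], 19, [485, 541, 579, 45]),
  ([-1, -2, -7, 11, -7, -1], 21, [481, 546, 580, 46]),
  ([-1, -1, -7, 11, -7, -1], 20, [483, 547, 581, 47]),
  ([-1, 5, -6, 5, -6, -1], 25, [488, 516, 582, 84]),
  ([-1, 6, -6, 5, -6, -1], 24, [490, 517, 583, 85]),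
  ([-1, -5, -6, 10, -6, -1], 26, [486, 548, 584, 86]),
  ([-1, 1, -6, 10, -6, -1], 15, [491, 549, 585, 87]),
  ([-1, -6, -6, 11, -6, -1], 25, [487, 558, 586, 88]),
  ([-1, -1, -6, 11, -6, -1], 16, [489, 559, 587, 89]),
  ([-1, 5, -4, 1, -4, -1], 29, [494, 498, 588, 174]),
  ([-1, 10, -4, 1, -4, -1], 20, [496, 499, 589, 175]),
  ([-1, -5, -4, 6, -4, -1], 30, [492, 530, 590, 176]),
  ([-1, 5, -4, 6, -4, -1], 11, [497, 531, 591, 177]),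
  ([-1, -10, -4, 11, -4, -1], 21, [493, 564, 592, 178]),
  ([-1, -5, -4, 11, -4, -1], 12, [495, 565, 593, 179]),
  ([-1, 6, -3, -1, -3, -1], 30, [504, 492, 594, 246]),
  ([-1, 11, -3, -1, -3, -1], 21, [506, 493, 595, 247]),
  ([-1, 1, -3, 1, -3, -1], 33, [502, 510, 596, 248]),
  ([-1, 10, -3, 1, -3, -1], 16, [508, 511, 597, 249]),
  ([-1, -1, -3, 2, -3, -1], 34, [500, 518, 598, 250]),
  ([-1, 9, -3, 2, -3, -1], 15, [509, 519, 599, 251]),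
  ([-1, -6, -3, 5, -3, -1], 31, [498, 532, 600, 252]),
  ([-1, 5, -3, 5, -3, -1], 10, [507, 533, 601, 253]),
  ([-1, -11, -3, 10, -3, -1], 22, [499, 566, 602, 254]),
  ([-1, -5, -3, 10, -3, -1], 11, [505, 567, 603, 255]),
  ([-1, -10, -3, 11, -3, -1], 17, [501, 570, 604, 256]),
  ([-1, -9, -3, 11, -3, -1], 16, [503, 571, 605, 257]),
  ([-1, 2, -2, -1, -2, -1], 34, [512, 500, 606, 336]),
  ([-1, 11, -2, -1, -2, -1], 17, [514, 501, 607, 337])]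

/-- Orbit data, part. -/
def vecE6_8 : List (List ℤ × ℕ × List ℕ) := [
  ([-1, -2, -2, 1, -2, -1], 35, [510, 520, 608, 338]),
  ([-1, 9, -2, 1, -2, -1], 14, [515, 521, 609, 339]),
  ([-1, -11, -2, 10, -2, -1], 18, [511, 572, 610, 340]),
  ([-1, -9, -2, 10, -2, -1], 15, [513, 573, 611, 341]),
  ([-1, 10, -1, -5, -1, -1], 26, [522, 486, 612, 426]),
  ([-1, 11, -1, -5, -1, -1], 25, [524, 487, 613, 427]),
  ([-1, 1, -1, -2, -1, -1], 35, [520, 502, 614, 428]),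
  ([-1, 11, -1, -2, -1, -1], 16, [526, 503, 615, 429]),
  ([-1, -1, -1, -1, -1, -1], 36, [518, 512, 616, 430]),
  ([-1, 10, -1, -1, -1, -1], 15, [527, 513, 617, 431]),
  ([-1, -10, -1, 5, -1, -1], 27, [516, 550, 618, 432]),
  ([-1, 1, -1, 5, -1, -1], 6, [525, 551, 619, 433]),
  ([-1, -11, -1, 6, -1, -1], 26, [517, 560, 620, 434]),
  ([-1, -1, -1, 6, -1, -1], 7, [523, 561, 621, 435]),
  ([-1, -11, -1, 9, -1, -1], 17, [519, 574, 622, 436]),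
  ([-1, -10, -1, 9, -1, -1], 16, [521, 575, 623, 437]),
  ([-1, 10, 2, -9, 2, -1], 22, [534, 480, 624, 612]),
  ([-1, 11, 2, -9, 2, -1], 21, [536, 481, 625, 613]),
  ([-1, 1, 2, -6, 2, -1], 31, [532, 494, 626, 614]),
  ([-1, 11, 2, -6, 2, -1], 12, [538, 495, 627, 615]),
  ([-1, -1, 2, -5, 2, -1], 32, [530, 504, 628, 616]),
  ([-1, 10, 2, -5, 2, -1], 11, [539, 505, 629, 617]),
  ([-1, -10, 2, 1, 2, -1], 23, [528, 542, 630, 618]),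
  ([-1, 1, 2, 1, 2, -1], 2, [537, 543, 631, 619]),
  ([-1, -11, 2, 2, 2, -1], 22, [529, 552, 632, 620]),
  ([-1, -1, 2, 2, 2, -1], 3, [535, 553, 633, 621]),
  ([-1, -11, 2, 5, 2, -1], 13, [531, 568, 634, 622]),
  ([-1, -10, 2, 5, 2, -1], 12, [533, 569, 635, 623]),
  ([-1, 9, 3, -10, 3, -1], 23, [542, 482, 636, 708]),
  ([-1, 11, 3, -10, 3, -1], 20, [544, 483, 637, 709]),
  ([-1, -9, 3, -1, 3, -1], 24, [540, 534, 638, 710]),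
  ([-1, 2, 3, -1, 3, -1], 3, [545, 535, 639, 711]),
  ([-1, -11, 3, 1, 3, -1], 21, [541, 554, 640, 712]),
  ([-1, -2, 3, 1, 3, -1], 4, [543, 555, 641, 713]),
  ([-1, 9, 4, -11, 4, -1], 22, [552, 484, 642, 798]),
  ([-1, 10, 4, -11, 4, -1], 21, [554, 485, 643, 799]),
  ([-1, 5, 4, -10, 4, -1], 27, [550, 488, 644, 800]),
  ([-1, 11, 4, -10, 4, -1], 16, [556, 489, 645, 801]),
  ([-1, -5, 4, -5, 4, -1], 28, [548, 522, 646, 802]),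
  ([-1, 6, 4, -5, 4, -1], 7, [557, 523, 647, 803]),
  ([-1, -9, 4, -2, 4, -1], 23, [546, 536, 648, 804]),
  ([-1, 1, 4, -2, 4, -1], 4, [555, 537, 649, 805]),
  ([-1, -10, 4, -1, 4, -1], 22, [547, 544, 650, 806]),
  ([-1, -1, 4, -1, 4, -1], 5, [553, 545, 651, 807]),
  ([-1, -11, 4, 1, 4, -1], 17, [549, 562, 652, 808]),
  ([-1, -6, 4, 1, 4, -1], 8, [551, 563, 653, 809]),
  ([-1, 5, 5, -11, 5, -1], 26, [560, 490, 654, 888]),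
  ([-1, 10, 5, -11, 5, -1], 17, [562, 491, 655, 889]),
  ([-1, -5, 5, -6, 5, -1], 27, [558, 524, 656, 890]),
  ([-1, 5, 5, -6, 5, -1], 8, [563, 525, 657, 891]),
  ([-1, -10, 5, -1, 5, -1], 18, [559, 556, 658, 892]),
  ([-1, -5, 5, -1, 5, -1], 9, [561, 557, 659, 893]),
  ([-1, 1, 7, -11, 7, -1], 22, [566, 496, 660, 1014]),
  ([-1, 6, 7, -11, 7, -1], 13, [568, 497, 661, 1015]),
  ([-1, -1, 7, -10, 7, -1], 23, [564, 506, 662, 1016]),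
  ([-1, 5, 7, -10, 7, -1], 12, [569, 507, 663, 1017]),
  ([-1, -6, 7, -5, 7, -1], 14, [565, 538, 664, 1018]),
  ([-1, -5, 7, -5, 7, -1], 13, [567, 539, 665, 1019]),
  ([-1, 1, 8, -11, 8, -1], 18, [572, 508, 666, 1056]),
  ([-1, 2, 8, -11, 8, -1], 17, [574, 509, 667, 1057]),
  ([-1, -1, 8, -10, 8, -1], 19, [570, 514, 668, 1058]),
  ([-1, 1, 8, -10, 8, -1], 16, [575, 515, 669, 1059]),
  ([-1, -2, 8, -9, 8, -1], 18, [571, 526, 670, 1060]),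
  ([-1, -1, 8, -9, 8, -1], 17, [573, 527, 671, 1061])]

/-- Orbit data, part. -/
def vecE6_9 : List (List ℤ × ℕ × List ℕ) := [
  ([1, 1, -8, 9, -8, 1], 19, [578, 624, 480, 90]),
  ([1, 2, -8, 9, -8, 1], 18, [580, 625, 481, 91]),
  ([1, -1, -8, 10, -8, 1], 20, [576, 636, 482, 92]),
  ([1, 1, -8, 10, -8, 1], 17, [581, 637, 483, 93]),
  ([1, -2, -8, 11, -8, 1], 19, [577, 642, 484, 94]),
  ([1, -1, -8, 11, -8, 1], 18, [579, 643, 485, 95]),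
  ([1, 5, -7, 5, -7, 1], 23, [584, 612, 486, 132]),
  ([1, 6, -7, 5, -7, 1], 22, [586, 613, 487, 133]),
  ([1, -5, -7, 10, -7, 1], 24, [582, 644, 488, 134]),
  ([1, 1, -7, 10, -7, 1], 13, [587, 645, 489, 135]),
  ([1, -6, -7, 11, -7, 1], 23, [583, 654, 490, 136]),
  ([1, -1, -7, 11, -7, 1], 14, [585, 655, 491, 137]),
  ([1, 5, -5, 1, -5, 1], 27, [590, 594, 492, 258]),
  ([1, 10, -5, 1, -5, 1], 18, [592, 595, 493, 259]),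
  ([1, -5, -5, 6, -5, 1], 28, [588, 626, 494, 260]),
  ([1, 5, -5, 6, -5, 1], 9, [593, 627, 495, 261]),
  ([1, -10, -5, 11, -5, 1], 19, [589, 660, 496, 262]),
  ([1, -5, -5, 11, -5, 1], 10, [591, 661, 497, 263]),
  ([1, 6, -4, -1, -4, 1], 28, [600, 588, 498, 342]),
  ([1, 11, -4, -1, -4, 1], 19, [602, 589, 499, 343]),
  ([1, 1, -4, 1, -4, 1], 31, [598, 606, 500, 344]),
  ([1, 10, -4, 1, -4, 1], 14, [604, 607, 501, 345]),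
  ([1, -1, -4, 2, -4, 1], 32, [596, 614, 502, 346]),
  ([1, 9, -4, 2, -4, 1], 13, [605, 615, 503, 347]),
  ([1, -6, -4, 5, -4, 1], 29, [594, 628, 504, 348]),
  ([1, 5, -4, 5, -4, 1], 8, [603, 629, 505, 349]),
  ([1, -11, -4, 10, -4, 1], 20, [595, 662, 506, 350]),
  ([1, -5, -4, 10, -4, 1], 9, [601, 663, 507, 351]),
  ([1, -10, -4, 11, -4, 1], 15, [597, 666, 508, 352]),
  ([1, -9, -4, 11, -4, 1], 14, [599, 667, 509, 353]),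
  ([1, 2, -3, -1, -3, 1], 32, [608, 596, 510, 438]),
  ([1, 11, -3, -1, -3, 1], 15, [610, 597, 511, 439]),
  ([1, -2, -3, 1, -3, 1], 33, [606, 616, 512, 440]),
  ([1, 9, -3, 1, -3, 1], 12, [611, 617, 513, 441]),
  ([1, -11, -3, 10, -3, 1], 16, [607, 668, 514, 442]),
  ([1, -9, -3, 10, -3, 1], 13, [609, 669, 515, 443]),
  ([1, 10, -2, -5, -2, 1], 24, [618, 582, 516, 528]),
  ([1, 11, -2, -5, -2, 1], 23, [620, 583, 517, 529]),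
  ([1, 1, -2, -2, -2, 1], 33, [616, 598, 518, 530]),
  ([1, 11, -2, -2, -2, 1], 14, [622, 599, 519, 531]),
  ([1, -1, -2, -1, -2, 1], 34, [614, 608, 520, 532]),
  ([1, 10, -2, -1, -2, 1], 13, [623, 609, 521, 533]),
  ([1, -10, -2, 5, -2, 1], 25, [612, 646, 522, 534]),
  ([1, 1, -2, 5, -2, 1], 4, [621, 647, 523, 535]),
  ([1, -11, -2, 6, -2, 1], 24, [613, 656, 524, 536]),
  ([1, -1, -2, 6, -2, 1], 5, [619, 657, 525, 537]),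
  ([1, -11, -2, 9, -2, 1], 15, [615, 670, 526, 538]),
  ([1, -10, -2, 9, -2, 1], 14, [617, 671, 527, 539]),
  ([1, 10, 1, -9, 1, 1], 20, [630, 576, 528, 714]),
  ([1, 11, 1, -9, 1, 1], 19, [632, 577, 529, 715]),
  ([1, 1, 1, -6, 1, 1], 29, [628, 590, 530, 716]),
  ([1, 11, 1, -6, 1, 1], 10, [634, 591, 531, 717]),
  ([1, -1, 1, -5, 1, 1], 30, [626, 600, 532, 718]),
  ([1, 10, 1, -5, 1, 1], 9, [635, 601, 533, 719]),
  ([1, -10, 1, 1, 1, 1], 21, [624, 638, 534, 720]),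
  ([1, 1, 1, 1, 1, 1], 0, [633, 639, 535, 721]),
  ([1, -11, 1, 2, 1, 1], 20, [625, 648, 536, 722]),
  ([1, -1, 1, 2, 1, 1], 1, [631, 649, 537, 723]),
  ([1, -11, 1, 5, 1, 1], 11, [627, 664, 538, 724]),
  ([1, -10, 1, 5, 1, 1], 10, [629, 665, 539, 725]),
  ([1, 9, 2, -10, 2, 1], 21, [638, 578, 540, 810]),
  ([1, 11, 2, -10, 2, 1], 18, [640, 579, 541, 811]),
  ([1, -9, 2, -1, 2, 1], 22, [636, 630, 542, 812]),
  ([1, 2, 2, -1, 2, 1], 1, [641, 631, 543, 813])]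

/-- Orbit data, part. -/
def vecE6_10 : List (List ℤ × ℕ × List ℕ) := [
  ([1, -11, 2, 1, 2, 1], 19, [637, 650, 544, 814]),
  ([1, -2, 2, 1, 2, 1], 2, [639, 651, 545, 815]),
  ([1, 9, 3, -11, 3, 1], 20, [648, 580, 546, 894]),
  ([1, 10, 3, -11, 3, 1], 19, [650, 581, 547, 895]),
  ([1, 5, 3, -10, 3, 1], 25, [646, 584, 548, 896]),
  ([1, 11, 3, -10, 3, 1], 14, [652, 585, 549, 897]),
  ([1, -5, 3, -5, 3, 1], 26, [644, 618, 550, 898]),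
  ([1, 6, 3, -5, 3, 1], 5, [653, 619, 551, 899]),
  ([1, -9, 3, -2, 3, 1], 21, [642, 632, 552, 900]),
  ([1, 1, 3, -2, 3, 1], 2, [651, 633, 553, 901]),
  ([1, -10, 3, -1, 3, 1], 20, [643, 640, 554, 902]),
  ([1, -1, 3, -1, 3, 1], 3, [649, 641, 555, 903]),
  ([1, -11, 3, 1, 3, 1], 15, [645, 658, 556, 904]),
  ([1, -6, 3, 1, 3, 1], 6, [647, 659, 557, 905]),
  ([1, 5, 4, -11, 4, 1], 24, [656, 586, 558, 972]),
  ([1, 10, 4, -11, 4, 1], 15, [658, 587, 559, 973]),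
  ([1, -5, 4, -6, 4, 1], 25, [654, 620, 560, 974]),
  ([1, 5, 4, -6, 4, 1], 6, [659, 621, 561, 975]),
  ([1, -10, 4, -1, 4, 1], 16, [655, 652, 562, 976]),
  ([1, -5, 4, -1, 4, 1], 7, [657, 653, 563, 977]),
  ([1, 1, 6, -11, 6, 1], 20, [662, 592, 564, 1062]),
  ([1, 6, 6, -11, 6, 1], 11, [664, 593, 565, 1063]),
  ([1, -1, 6, -10, 6, 1], 21, [660, 602, 566, 1064]),
  ([1, 5, 6, -10, 6, 1], 10, [665, 603, 567, 1065]),
  ([1, -6, 6, -5, 6, 1], 12, [661, 634, 568, 1066]),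
  ([1, -5, 6, -5, 6, 1], 11, [663, 635, 569, 1067]),
  ([1, 1, 7, -11, 7, 1], 16, [668, 604, 570, 1104]),
  ([1, 2, 7, -11, 7, 1], 15, [670, 605, 571, 1105]),
  ([1, -1, 7, -10, 7, 1], 17, [666, 610, 572, 1106]),
  ([1, 1, 7, -10, 7, 1], 14, [671, 611, 573, 1107]),
  ([1, -2, 7, -9, 7, 1], 16, [667, 622, 574, 1108]),
  ([1, -1, 7, -9, 7, 1], 15, [669, 623, 575, 1109]),
  ([2, 3, -8, 7, -8, 2], 21, [674, 714, 384, 138]),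
  ([2, 4, -8, 7, -8, 2], 20, [676, 715, 385, 139]),
  ([2, -3, -8, 10, -8, 2], 22, [672, 732, 386, 140]),
  ([2, 1, -8, 10, -8, 2], 15, [677, 733, 387, 141]),
  ([2, -4, -8, 11, -8, 2], 21, [673, 744, 388, 142]),
  ([2, -1, -8, 11, -8, 2], 16, [675, 745, 389, 143]),
  ([2, 5, -7, 4, -7, 2], 24, [680, 708, 390, 180]),
  ([2, 7, -7, 4, -7, 2], 21, [682, 709, 391, 181]),
  ([2, -5, -7, 9, -7, 2], 25, [678, 734, 392, 182]),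
  ([2, 2, -7, 9, -7, 2], 12, [683, 735, 393, 183]),
  ([2, -7, -7, 11, -7, 2], 22, [679, 750, 394, 184]),
  ([2, -2, -7, 11, -7, 2], 13, [681, 751, 395, 185]),
  ([2, 5, -6, 2, -6, 2], 26, [686, 696, 396, 264]),
  ([2, 9, -6, 2, -6, 2], 19, [688, 697, 397, 265]),
  ([2, -5, -6, 7, -6, 2], 27, [684, 726, 398, 266]),
  ([2, 4, -6, 7, -6, 2], 10, [689, 727, 399, 267]),
  ([2, -9, -6, 11, -6, 2], 20, [685, 756, 400, 268]),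
  ([2, -4, -6, 11, -6, 2], 11, [687, 757, 401, 269]),
  ([2, 3, -5, 1, -5, 2], 29, [692, 698, 402, 354]),
  ([2, 10, -5, 1, -5, 2], 16, [694, 699, 403, 355]),
  ([2, -3, -5, 4, -5, 2], 30, [690, 716, 404, 356]),
  ([2, 7, -5, 4, -5, 2], 11, [695, 717, 405, 357]),
  ([2, -10, -5, 11, -5, 2], 17, [691, 762, 406, 358]),
  ([2, -7, -5, 11, -5, 2], 12, [693, 763, 407, 359]),
  ([2, 7, -4, -2, -4, 2], 27, [702, 684, 408, 444]),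
  ([2, 11, -4, -2, -4, 2], 20, [704, 685, 409, 445]),
  ([2, 4, -4, -1, -4, 2], 30, [700, 690, 410, 446]),
  ([2, 11, -4, -1, -4, 2], 17, [706, 691, 411, 447]),
  ([2, -4, -4, 3, -4, 2], 31, [698, 718, 412, 448]),
  ([2, 7, -4, 3, -4, 2], 10, [707, 719, 413, 449]),
  ([2, -7, -4, 5, -4, 2], 28, [696, 728, 414, 450]),
  ([2, 4, -4, 5, -4, 2], 7, [705, 729, 415, 451])]

/-- Orbit data, part. -/
def vecE6_11 : List (List ℤ × ℕ × List ℕ) := [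
  ([2, -11, -4, 9, -4, 2], 21, [697, 758, 416, 452]),
  ([2, -4, -4, 9, -4, 2], 8, [703, 759, 417, 453]),
  ([2, -11, -4, 10, -4, 2], 18, [699, 764, 418, 454]),
  ([2, -7, -4, 10, -4, 2], 11, [701, 765, 419, 455]),
  ([2, 9, -3, -4, -3, 2], 25, [710, 678, 420, 540]),
  ([2, 11, -3, -4, -3, 2], 22, [712, 679, 421, 541]),
  ([2, -9, -3, 5, -3, 2], 26, [708, 736, 422, 542]),
  ([2, 2, -3, 5, -3, 2], 5, [713, 737, 423, 543]),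
  ([2, -11, -3, 7, -3, 2], 23, [709, 752, 424, 544]),
  ([2, -2, -3, 7, -3, 2], 6, [711, 753, 425, 545]),
  ([2, 10, -1, -7, -1, 2], 22, [720, 672, 426, 624]),
  ([2, 11, -1, -7, -1, 2], 21, [722, 673, 427, 625]),
  ([2, 1, -1, -4, -1, 2], 31, [718, 692, 428, 626]),
  ([2, 11, -1, -4, -1, 2], 12, [724, 693, 429, 627]),
  ([2, -1, -1, -3, -1, 2], 32, [716, 700, 430, 628]),
  ([2, 10, -1, -3, -1, 2], 11, [725, 701, 431, 629]),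
  ([2, -10, -1, 3, -1, 2], 23, [714, 738, 432, 630]),
  ([2, 1, -1, 3, -1, 2], 2, [723, 739, 433, 631]),
  ([2, -11, -1, 4, -1, 2], 22, [715, 746, 434, 632]),
  ([2, -1, -1, 4, -1, 2], 3, [721, 747, 435, 633]),
  ([2, -11, -1, 7, -1, 2], 13, [717, 766, 436, 634]),
  ([2, -10, -1, 7, -1, 2], 12, [719, 767, 437, 635]),
  ([2, 2, 1, -7, 1, 2], 28, [728, 686, 438, 816]),
  ([2, 11, 1, -7, 1, 2], 11, [730, 687, 439, 817]),
  ([2, -2, 1, -5, 1, 2], 29, [726, 702, 440, 818]),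
  ([2, 9, 1, -5, 1, 2], 8, [731, 703, 441, 819]),
  ([2, -11, 1, 4, 1, 2], 12, [727, 760, 442, 820]),
  ([2, -9, 1, 4, 1, 2], 9, [729, 761, 443, 821]),
  ([2, 7, 2, -10, 2, 2], 23, [738, 674, 444, 906]),
  ([2, 11, 2, -10, 2, 2], 16, [740, 675, 445, 907]),
  ([2, 4, 2, -9, 2, 2], 26, [736, 680, 446, 908]),
  ([2, 11, 2, -9, 2, 2], 13, [742, 681, 447, 909]),
  ([2, -4, 2, -5, 2, 2], 27, [734, 710, 448, 910]),
  ([2, 7, 2, -5, 2, 2], 6, [743, 711, 449, 911]),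
  ([2, -7, 2, -3, 2, 2], 24, [732, 720, 450, 912]),
  ([2, 4, 2, -3, 2, 2], 3, [741, 721, 451, 913]),
  ([2, -11, 2, 1, 2, 2], 17, [733, 748, 452, 914]),
  ([2, -4, 2, 1, 2, 2], 4, [739, 749, 453, 915]),
  ([2, -11, 2, 2, 2, 2], 14, [735, 754, 454, 916]),
  ([2, -7, 2, 2, 2, 2], 7, [737, 755, 455, 917]),
  ([2, 7, 3, -11, 3, 2], 22, [746, 676, 456, 978]),
  ([2, 10, 3, -11, 3, 2], 17, [748, 677, 457, 979]),
  ([2, -7, 3, -4, 3, 2], 23, [744, 722, 458, 980]),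
  ([2, 3, 3, -4, 3, 2], 4, [749, 723, 459, 981]),
  ([2, -10, 3, -1, 3, 2], 18, [745, 740, 460, 982]),
  ([2, -3, 3, -1, 3, 2], 5, [747, 741, 461, 983]),
  ([2, 4, 4, -11, 4, 2], 23, [752, 682, 462, 1020]),
  ([2, 9, 4, -11, 4, 2], 14, [754, 683, 463, 1021]),
  ([2, -4, 4, -7, 4, 2], 24, [750, 712, 464, 1022]),
  ([2, 5, 4, -7, 4, 2], 7, [755, 713, 465, 1023]),
  ([2, -9, 4, -2, 4, 2], 15, [751, 742, 466, 1024]),
  ([2, -5, 4, -2, 4, 2], 8, [753, 743, 467, 1025]),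
  ([2, 2, 5, -11, 5, 2], 21, [758, 688, 468, 1068]),
  ([2, 7, 5, -11, 5, 2], 12, [760, 689, 469, 1069]),
  ([2, -2, 5, -9, 5, 2], 22, [756, 704, 470, 1070]),
  ([2, 5, 5, -9, 5, 2], 9, [761, 705, 471, 1071]),
  ([2, -7, 5, -4, 5, 2], 13, [757, 730, 472, 1072]),
  ([2, -5, 5, -4, 5, 2], 10, [759, 731, 473, 1073]),
  ([2, 1, 6, -11, 6, 2], 18, [764, 694, 474, 1110]),
  ([2, 4, 6, -11, 6, 2], 13, [766, 695, 475, 1111]),
  ([2, -1, 6, -10, 6, 2], 19, [762, 706, 476, 1112]),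
  ([2, 3, 6, -10, 6, 2], 12, [767, 707, 477, 1113]),
  ([2, -4, 6, -7, 6, 2], 14, [763, 724, 478, 1114]),
  ([2, -3, 6, -7, 6, 2], 13, [765, 725, 479, 1115])]

/-- Orbit data, part. -/
def vecE6_12 : List (List ℤ × ℕ × List ℕ) := [
  ([3, 3, -8, 6, -8, 3], 22, [770, 810, 288, 186]),
  ([3, 5, -8, 6, -8, 3], 19, [772, 811, 289, 187]),
  ([3, -3, -8, 9, -8, 3], 23, [768, 822, 290, 188]),
  ([3, 2, -8, 9, -8, 3], 14, [773, 823, 291, 189]),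
  ([3, -5, -8, 11, -8, 3], 20, [769, 840, 292, 190]),
  ([3, -2, -8, 11, -8, 3], 15, [771, 841, 293, 191]),
  ([3, 6, -7, 3, -7, 3], 23, [776, 798, 294, 270]),
  ([3, 7, -7, 3, -7, 3], 22, [778, 799, 295, 271]),
  ([3, -6, -7, 9, -7, 3], 24, [774, 834, 296, 272]),
  ([3, 1, -7, 9, -7, 3], 11, [779, 835, 297, 273]),
  ([3, -7, -7, 10, -7, 3], 23, [775, 842, 298, 274]),
  ([3, -1, -7, 10, -7, 3], 12, [777, 843, 299, 275]),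
  ([3, 6, -6, 1, -6, 3], 25, [786, 792, 300, 360]),
  ([3, 9, -6, 1, -6, 3], 20, [788, 793, 301, 361]),
  ([3, 3, -6, 2, -6, 3], 28, [784, 800, 302, 362]),
  ([3, 9, -6, 2, -6, 3], 17, [790, 801, 303, 363]),
  ([3, -3, -6, 5, -6, 3], 29, [782, 816, 304, 364]),
  ([3, 6, -6, 5, -6, 3], 12, [791, 817, 305, 365]),
  ([3, -6, -6, 7, -6, 3], 26, [780, 824, 306, 366]),
  ([3, 3, -6, 7, -6, 3], 9, [789, 825, 307, 367]),
  ([3, -9, -6, 10, -6, 3], 21, [781, 852, 308, 368]),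
  ([3, -3, -6, 10, -6, 3], 10, [787, 853, 309, 369]),
  ([3, -9, -6, 11, -6, 3], 18, [783, 858, 310, 370]),
  ([3, -6, -6, 11, -6, 3], 13, [785, 859, 311, 371]),
  ([3, 7, -5, -1, -5, 3], 26, [794, 780, 312, 456]),
  ([3, 10, -5, -1, -5, 3], 21, [796, 781, 313, 457]),
  ([3, -7, -5, 6, -5, 3], 27, [792, 826, 314, 458]),
  ([3, 3, -5, 6, -5, 3], 8, [797, 827, 315, 459]),
  ([3, -10, -5, 9, -5, 3], 22, [793, 854, 316, 460]),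
  ([3, -3, -5, 9, -5, 3], 9, [795, 855, 317, 461]),
  ([3, 9, -4, -3, -4, 3], 24, [804, 774, 318, 546]),
  ([3, 10, -4, -3, -4, 3], 23, [806, 775, 319, 547]),
  ([3, 5, -4, -2, -4, 3], 29, [802, 782, 320, 548]),
  ([3, 11, -4, -2, -4, 3], 18, [808, 783, 321, 549]),
  ([3, -5, -4, 3, -4, 3], 30, [800, 818, 322, 550]),
  ([3, 6, -4, 3, -4, 3], 9, [809, 819, 323, 551]),
  ([3, -9, -4, 6, -4, 3], 25, [798, 836, 324, 552]),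
  ([3, 1, -4, 6, -4, 3], 6, [807, 837, 325, 553]),
  ([3, -10, -4, 7, -4, 3], 24, [799, 844, 326, 554]),
  ([3, -1, -4, 7, -4, 3], 7, [805, 845, 327, 555]),
  ([3, -11, -4, 9, -4, 3], 19, [801, 860, 328, 556]),
  ([3, -6, -4, 9, -4, 3], 10, [803, 861, 329, 557]),
  ([3, 9, -2, -6, -2, 3], 23, [812, 768, 330, 636]),
  ([3, 11, -2, -6, -2, 3], 20, [814, 769, 331, 637]),
  ([3, -9, -2, 3, -2, 3], 24, [810, 828, 332, 638]),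
  ([3, 2, -2, 3, -2, 3], 3, [815, 829, 333, 639]),
  ([3, -11, -2, 5, -2, 3], 21, [811, 846, 334, 640]),
  ([3, -2, -2, 5, -2, 3], 4, [813, 847, 335, 641]),
  ([3, 2, -1, -5, -1, 3], 30, [818, 784, 336, 726]),
  ([3, 11, -1, -5, -1, 3], 13, [820, 785, 337, 727]),
  ([3, -2, -1, -3, -1, 3], 31, [816, 802, 338, 728]),
  ([3, 9, -1, -3, -1, 3], 10, [821, 803, 339, 729]),
  ([3, -11, -1, 6, -1, 3], 14, [817, 862, 340, 730]),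
  ([3, -9, -1, 6, -1, 3], 11, [819, 863, 341, 731]),
  ([3, 6, 1, -9, 1, 3], 24, [828, 770, 342, 918]),
  ([3, 11, 1, -9, 1, 3], 15, [830, 771, 343, 919]),
  ([3, 1, 1, -7, 1, 3], 27, [826, 786, 344, 920]),
  ([3, 10, 1, -7, 1, 3], 10, [832, 787, 345, 921]),
  ([3, -1, 1, -6, 1, 3], 28, [824, 794, 346, 922]),
  ([3, 9, 1, -6, 1, 3], 9, [833, 795, 347, 923]),
  ([3, -6, 1, -3, 1, 3], 25, [822, 812, 348, 924]),
  ([3, 5, 1, -3, 1, 3], 4, [831, 813, 349, 925]),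
  ([3, -11, 1, 2, 1, 3], 16, [823, 848, 350, 926]),
  ([3, -5, 1, 2, 1, 3], 5, [829, 849, 351, 927])]

/-- Orbit data, part. -/
def vecE6_13 : List (List ℤ × ℕ × List ℕ) := [
  ([3, -10, 1, 3, 1, 3], 11, [825, 856, 352, 928]),
  ([3, -9, 1, 3, 1, 3], 10, [827, 857, 353, 929]),
  ([3, 3, 2, -9, 2, 3], 25, [836, 776, 354, 984]),
  ([3, 10, 2, -9, 2, 3], 12, [838, 777, 355, 985]),
  ([3, -3, 2, -6, 2, 3], 26, [834, 804, 356, 986]),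
  ([3, 7, 2, -6, 2, 3], 7, [839, 805, 357, 987]),
  ([3, -10, 2, 1, 2, 3], 13, [835, 850, 358, 988]),
  ([3, -7, 2, 1, 2, 3], 8, [837, 851, 359, 989]),
  ([3, 6, 3, -11, 3, 3], 21, [846, 772, 360, 1026]),
  ([3, 9, 3, -11, 3, 3], 16, [848, 773, 361, 1027]),
  ([3, 3, 3, -10, 3, 3], 24, [844, 778, 362, 1028]),
  ([3, 9, 3, -10, 3, 3], 13, [850, 779, 363, 1029]),
  ([3, -3, 3, -7, 3, 3], 25, [842, 806, 364, 1030]),
  ([3, 6, 3, -7, 3, 3], 8, [851, 807, 365, 1031]),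
  ([3, -6, 3, -5, 3, 3], 22, [840, 814, 366, 1032]),
  ([3, 3, 3, -5, 3, 3], 5, [849, 815, 367, 1033]),
  ([3, -9, 3, -2, 3, 3], 17, [841, 830, 368, 1034]),
  ([3, -3, 3, -2, 3, 3], 6, [847, 831, 369, 1035]),
  ([3, -9, 3, -1, 3, 3], 14, [843, 838, 370, 1036]),
  ([3, -6, 3, -1, 3, 3], 9, [845, 839, 371, 1037]),
  ([3, 1, 4, -10, 4, 3], 22, [854, 788, 372, 1074]),
  ([3, 7, 4, -10, 4, 3], 11, [856, 789, 373, 1075]),
  ([3, -1, 4, -9, 4, 3], 23, [852, 796, 374, 1076]),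
  ([3, 6, 4, -9, 4, 3], 10, [857, 797, 375, 1077]),
  ([3, -7, 4, -3, 4, 3], 12, [853, 832, 376, 1078]),
  ([3, -6, 4, -3, 4, 3], 11, [855, 833, 377, 1079]),
  ([3, 2, 5, -11, 5, 3], 19, [860, 790, 378, 1116]),
  ([3, 5, 5, -11, 5, 3], 14, [862, 791, 379, 1117]),
  ([3, -2, 5, -9, 5, 3], 20, [858, 808, 380, 1118]),
  ([3, 3, 5, -9, 5, 3], 11, [863, 809, 381, 1119]),
  ([3, -5, 5, -6, 5, 3], 15, [859, 820, 382, 1120]),
  ([3, -3, 5, -6, 5, 3], 12, [861, 821, 383, 1121]),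
  ([4, 4, -8, 5, -8, 4], 21, [870, 894, 192, 276]),
  ([4, 5, -8, 5, -8, 4], 20, [872, 895, 193, 277]),
  ([4, 1, -8, 6, -8, 4], 24, [868, 906, 194, 278]),
  ([4, 5, -8, 6, -8, 4], 17, [874, 907, 195, 279]),
  ([4, -1, -8, 7, -8, 4], 25, [866, 918, 196, 280]),
  ([4, 4, -8, 7, -8, 4], 16, [875, 919, 197, 281]),
  ([4, -4, -8, 9, -8, 4], 22, [864, 930, 198, 282]),
  ([4, 1, -8, 9, -8, 4], 13, [873, 931, 199, 283]),
  ([4, -5, -8, 10, -8, 4], 21, [865, 936, 200, 284]),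
  ([4, -1, -8, 10, -8, 4], 14, [871, 937, 201, 285]),
  ([4, -5, -8, 11, -8, 4], 18, [867, 942, 202, 286]),
  ([4, -4, -8, 11, -8, 4], 17, [869, 943, 203, 287]),
  ([4, 1, -7, 4, -7, 4], 26, [878, 896, 204, 372]),
  ([4, 7, -7, 4, -7, 4], 15, [880, 897, 205, 373]),
  ([4, -1, -7, 5, -7, 4], 27, [876, 908, 206, 374]),
  ([4, 6, -7, 5, -7, 4], 14, [881, 909, 207, 375]),
  ([4, -7, -7, 11, -7, 4], 16, [877, 948, 208, 376]),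
  ([4, -6, -7, 11, -7, 4], 15, [879, 949, 209, 377]),
  ([4, 4, -6, 1, -6, 4], 27, [884, 888, 210, 462]),
  ([4, 9, -6, 1, -6, 4], 18, [886, 889, 211, 463]),
  ([4, -4, -6, 5, -6, 4], 28, [882, 920, 212, 464]),
  ([4, 5, -6, 5, -6, 4], 11, [887, 921, 213, 465]),
  ([4, -9, -6, 10, -6, 4], 19, [883, 950, 214, 466]),
  ([4, -5, -6, 10, -6, 4], 12, [885, 951, 215, 467]),
  ([4, 5, -5, -1, -5, 4], 28, [890, 882, 216, 558]),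
  ([4, 10, -5, -1, -5, 4], 19, [892, 883, 217, 559]),
  ([4, -5, -5, 4, -5, 4], 29, [888, 922, 218, 560]),
  ([4, 5, -5, 4, -5, 4], 10, [893, 923, 219, 561]),
  ([4, -10, -5, 9, -5, 4], 20, [889, 952, 220, 562]),
  ([4, -5, -5, 9, -5, 4], 11, [891, 953, 221, 563]),
  ([4, 9, -3, -5, -3, 4], 22, [900, 864, 222, 642]),
  ([4, 10, -3, -5, -3, 4], 21, [902, 865, 223, 643])]

/-- Orbit data, part. -/
def vecE6_14 : List (List ℤ × ℕ × List ℕ) := [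
  ([4, 5, -3, -4, -3, 4], 27, [898, 876, 224, 644]),
  ([4, 11, -3, -4, -3, 4], 16, [904, 877, 225, 645]),
  ([4, -5, -3, 1, -3, 4], 28, [896, 910, 226, 646]),
  ([4, 6, -3, 1, -3, 4], 7, [905, 911, 227, 647]),
  ([4, -9, -3, 4, -3, 4], 23, [894, 932, 228, 648]),
  ([4, 1, -3, 4, -3, 4], 4, [903, 933, 229, 649]),
  ([4, -10, -3, 5, -3, 4], 22, [895, 938, 230, 650]),
  ([4, -1, -3, 5, -3, 4], 5, [901, 939, 231, 651]),
  ([4, -11, -3, 7, -3, 4], 17, [897, 954, 232, 652]),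
  ([4, -6, -3, 7, -3, 4], 8, [899, 955, 233, 653]),
  ([4, 7, -2, -6, -2, 4], 25, [912, 866, 234, 732]),
  ([4, 11, -2, -6, -2, 4], 18, [914, 867, 235, 733]),
  ([4, 4, -2, -5, -2, 4], 28, [910, 878, 236, 734]),
  ([4, 11, -2, -5, -2, 4], 15, [916, 879, 237, 735]),
  ([4, -4, -2, -1, -2, 4], 29, [908, 898, 238, 736]),
  ([4, 7, -2, -1, -2, 4], 8, [917, 899, 239, 737]),
  ([4, -7, -2, 1, -2, 4], 26, [906, 924, 240, 738]),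
  ([4, 4, -2, 1, -2, 4], 5, [915, 925, 241, 739]),
  ([4, -11, -2, 5, -2, 4], 19, [907, 944, 242, 740]),
  ([4, -4, -2, 5, -2, 4], 6, [913, 945, 243, 741]),
  ([4, -11, -2, 6, -2, 4], 16, [909, 956, 244, 742]),
  ([4, -7, -2, 6, -2, 4], 9, [911, 957, 245, 743]),
  ([4, 6, -1, -7, -1, 4], 26, [924, 868, 246, 822]),
  ([4, 11, -1, -7, -1, 4], 17, [926, 869, 247, 823]),
  ([4, 1, -1, -5, -1, 4], 29, [922, 884, 248, 824]),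
  ([4, 10, -1, -5, -1, 4], 12, [928, 885, 249, 825]),
  ([4, -1, -1, -4, -1, 4], 30, [920, 890, 250, 826]),
  ([4, 9, -1, -4, -1, 4], 11, [929, 891, 251, 827]),
  ([4, -6, -1, -1, -1, 4], 27, [918, 912, 252, 828]),
  ([4, 5, -1, -1, -1, 4], 6, [927, 913, 253, 829]),
  ([4, -11, -1, 4, -1, 4], 18, [919, 946, 254, 830]),
  ([4, -5, -1, 4, -1, 4], 7, [925, 947, 255, 831]),
  ([4, -10, -1, 5, -1, 4], 13, [921, 958, 256, 832]),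
  ([4, -9, -1, 5, -1, 4], 12, [923, 959, 257, 833]),
  ([4, 5, 1, -9, 1, 4], 23, [932, 870, 258, 990]),
  ([4, 10, 1, -9, 1, 4], 14, [934, 871, 259, 991]),
  ([4, -5, 1, -4, 1, 4], 24, [930, 900, 260, 992]),
  ([4, 5, 1, -4, 1, 4], 5, [935, 901, 261, 993]),
  ([4, -10, 1, 1, 1, 4], 15, [931, 940, 262, 994]),
  ([4, -5, 1, 1, 1, 4], 6, [933, 941, 263, 995]),
  ([4, 5, 2, -10, 2, 4], 22, [938, 872, 264, 1038]),
  ([4, 9, 2, -10, 2, 4], 15, [940, 873, 265, 1039]),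
  ([4, -5, 2, -5, 2, 4], 23, [936, 902, 266, 1040]),
  ([4, 4, 2, -5, 2, 4], 6, [941, 903, 267, 1041]),
  ([4, -9, 2, -1, 2, 4], 16, [937, 934, 268, 1042]),
  ([4, -4, 2, -1, 2, 4], 7, [939, 935, 269, 1043]),
  ([4, 6, 3, -11, 3, 4], 19, [944, 874, 270, 1080]),
  ([4, 7, 3, -11, 3, 4], 18, [946, 875, 271, 1081]),
  ([4, -6, 3, -5, 3, 4], 20, [942, 914, 272, 1082]),
  ([4, 1, 3, -5, 3, 4], 7, [947, 915, 273, 1083]),
  ([4, -7, 3, -4, 3, 4], 19, [943, 926, 274, 1084]),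
  ([4, -1, 3, -4, 3, 4], 8, [945, 927, 275, 1085]),
  ([4, 4, 4, -11, 4, 4], 17, [954, 880, 276, 1122]),
  ([4, 5, 4, -11, 4, 4], 16, [956, 881, 277, 1123]),
  ([4, 1, 4, -10, 4, 4], 20, [952, 886, 278, 1124]),
  ([4, 5, 4, -10, 4, 4], 13, [958, 887, 279, 1125]),
  ([4, -1, 4, -9, 4, 4], 21, [950, 892, 280, 1126]),
  ([4, 4, 4, -9, 4, 4], 12, [959, 893, 281, 1127]),
  ([4, -4, 4, -7, 4, 4], 18, [948, 904, 282, 1128]),
  ([4, 1, 4, -7, 4, 4], 9, [957, 905, 283, 1129]),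
  ([4, -5, 4, -6, 4, 4], 17, [949, 916, 284, 1130]),
  ([4, -1, 4, -6, 4, 4], 10, [955, 917, 285, 1131]),
  ([4, -5, 4, -5, 4, 4], 14, [951, 928, 286, 1132]),
  ([4, -4, 4, -5, 4, 4], 13, [953, 929, 287, 1133])]

/-- Orbit data, part. -/
def vecE6_15 : List (List ℤ × ℕ × List ℕ) := [
  ([5, 2, -8, 5, -8, 5], 23, [962, 978, 144, 378]),
  ([5, 5, -8, 5, -8, 5], 18, [964, 979, 145, 379]),
  ([5, -2, -8, 7, -8, 5], 24, [960, 990, 146, 380]),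
  ([5, 3, -8, 7, -8, 5], 15, [965, 991, 147, 381]),
  ([5, -5, -8, 10, -8, 5], 19, [961, 996, 148, 382]),
  ([5, -3, -8, 10, -8, 5], 16, [963, 997, 149, 383]),
  ([5, 2, -7, 3, -7, 5], 25, [968, 972, 150, 468]),
  ([5, 7, -7, 3, -7, 5], 16, [970, 973, 151, 469]),
  ([5, -2, -7, 5, -7, 5], 26, [966, 984, 152, 470]),
  ([5, 5, -7, 5, -7, 5], 13, [971, 985, 153, 471]),
  ([5, -7, -7, 10, -7, 5], 17, [967, 1002, 154, 472]),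
  ([5, -5, -7, 10, -7, 5], 14, [969, 1003, 155, 473]),
  ([5, 5, -4, -3, -4, 5], 26, [974, 966, 156, 654]),
  ([5, 10, -4, -3, -4, 5], 17, [976, 967, 157, 655]),
  ([5, -5, -4, 2, -4, 5], 27, [972, 986, 158, 656]),
  ([5, 5, -4, 2, -4, 5], 8, [977, 987, 159, 657]),
  ([5, -10, -4, 7, -4, 5], 18, [973, 1004, 160, 658]),
  ([5, -5, -4, 7, -4, 5], 9, [975, 1005, 161, 659]),
  ([5, 7, -3, -5, -3, 5], 24, [980, 960, 162, 744]),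
  ([5, 10, -3, -5, -3, 5], 19, [982, 961, 163, 745]),
  ([5, -7, -3, 2, -3, 5], 25, [978, 992, 164, 746]),
  ([5, 3, -3, 2, -3, 5], 6, [983, 993, 165, 747]),
  ([5, -10, -3, 5, -3, 5], 20, [979, 998, 166, 748]),
  ([5, -3, -3, 5, -3, 5], 7, [981, 999, 167, 749]),
  ([5, 3, -2, -5, -2, 5], 27, [986, 968, 168, 834]),
  ([5, 10, -2, -5, -2, 5], 14, [988, 969, 169, 835]),
  ([5, -3, -2, -2, -2, 5], 28, [984, 974, 170, 836]),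
  ([5, 7, -2, -2, -2, 5], 9, [989, 975, 171, 837]),
  ([5, -10, -2, 5, -2, 5], 15, [985, 1006, 172, 838]),
  ([5, -7, -2, 5, -2, 5], 10, [987, 1007, 173, 839]),
  ([5, 5, -1, -7, -1, 5], 25, [992, 962, 174, 930]),
  ([5, 10, -1, -7, -1, 5], 16, [994, 963, 175, 931]),
  ([5, -5, -1, -2, -1, 5], 26, [990, 980, 176, 932]),
  ([5, 5, -1, -2, -1, 5], 7, [995, 981, 177, 933]),
  ([5, -10, -1, 3, -1, 5], 17, [991, 1000, 178, 934]),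
  ([5, -5, -1, 3, -1, 5], 8, [993, 1001, 179, 935]),
  ([5, 5, 2, -10, 2, 5], 20, [998, 964, 180, 1086]),
  ([5, 7, 2, -10, 2, 5], 17, [1000, 965, 181, 1087]),
  ([5, -5, 2, -5, 2, 5], 21, [996, 982, 182, 1088]),
  ([5, 2, 2, -5, 2, 5], 8, [1001, 983, 183, 1089]),
  ([5, -7, 2, -3, 2, 5], 18, [997, 994, 184, 1090]),
  ([5, -2, 2, -3, 2, 5], 9, [999, 995, 185, 1091]),
  ([5, 3, 3, -10, 3, 5], 18, [1004, 970, 186, 1134]),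
  ([5, 5, 3, -10, 3, 5], 15, [1006, 971, 187, 1135]),
  ([5, -3, 3, -7, 3, 5], 19, [1002, 976, 188, 1136]),
  ([5, 2, 3, -7, 3, 5], 10, [1007, 977, 189, 1137]),
  ([5, -5, 3, -5, 3, 5], 16, [1003, 988, 190, 1138]),
  ([5, -2, 3, -5, 3, 5], 11, [1005, 989, 191, 1139]),
  ([6, 1, -8, 5, -8, 6], 22, [1010, 1026, 96, 474]),
  ([6, 4, -8, 5, -8, 6], 17, [1012, 1027, 97, 475]),
  ([6, -1, -8, 6, -8, 6], 23, [1008, 1038, 98, 476]),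
  ([6, 3, -8, 6, -8, 6], 16, [1013, 1039, 99, 477]),
  ([6, -4, -8, 9, -8, 6], 18, [1009, 1044, 100, 478]),
  ([6, -3, -8, 9, -8, 6], 17, [1011, 1045, 101, 479]),
  ([6, 1, -7, 3, -7, 6], 24, [1016, 1020, 102, 564]),
  ([6, 6, -7, 3, -7, 6], 15, [1018, 1021, 103, 565]),
  ([6, -1, -7, 4, -7, 6], 25, [1014, 1028, 104, 566]),
  ([6, 5, -7, 4, -7, 6], 14, [1019, 1029, 105, 567]),
  ([6, -6, -7, 9, -7, 6], 16, [1015, 1050, 106, 568]),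
  ([6, -5, -7, 9, -7, 6], 15, [1017, 1051, 107, 569]),
  ([6, 4, -4, -3, -4, 6], 25, [1022, 1014, 108, 750]),
  ([6, 9, -4, -3, -4, 6], 16, [1024, 1015, 109, 751]),
  ([6, -4, -4, 1, -4, 6], 26, [1020, 1030, 110, 752]),
  ([6, 5, -4, 1, -4, 6], 9, [1025, 1031, 111, 753])]

/-- Orbit data, part. -/
def vecE6_16 : List (List ℤ × ℕ × List ℕ) := [
  ([6, -9, -4, 6, -4, 6], 17, [1021, 1052, 112, 754]),
  ([6, -5, -4, 6, -4, 6], 10, [1023, 1053, 113, 755]),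
  ([6, 6, -3, -5, -3, 6], 23, [1032, 1008, 114, 840]),
  ([6, 9, -3, -5, -3, 6], 18, [1034, 1009, 115, 841]),
  ([6, 3, -3, -4, -3, 6], 26, [1030, 1016, 116, 842]),
  ([6, 9, -3, -4, -3, 6], 15, [1036, 1017, 117, 843]),
  ([6, -3, -3, -1, -3, 6], 27, [1028, 1022, 118, 844]),
  ([6, 6, -3, -1, -3, 6], 10, [1037, 1023, 119, 845]),
  ([6, -6, -3, 1, -3, 6], 24, [1026, 1040, 120, 846]),
  ([6, 3, -3, 1, -3, 6], 7, [1035, 1041, 121, 847]),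
  ([6, -9, -3, 4, -3, 6], 19, [1027, 1046, 122, 848]),
  ([6, -3, -3, 4, -3, 6], 8, [1033, 1047, 123, 849]),
  ([6, -9, -3, 5, -3, 6], 16, [1029, 1054, 124, 850]),
  ([6, -6, -3, 5, -3, 6], 11, [1031, 1055, 125, 851]),
  ([6, 5, -2, -6, -2, 6], 24, [1040, 1010, 126, 936]),
  ([6, 9, -2, -6, -2, 6], 17, [1042, 1011, 127, 937]),
  ([6, -5, -2, -1, -2, 6], 25, [1038, 1032, 128, 938]),
  ([6, 4, -2, -1, -2, 6], 8, [1043, 1033, 129, 939]),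
  ([6, -9, -2, 3, -2, 6], 18, [1039, 1048, 130, 940]),
  ([6, -4, -2, 3, -2, 6], 9, [1041, 1049, 131, 941]),
  ([6, 5, 1, -9, 1, 6], 19, [1046, 1012, 132, 1092]),
  ([6, 6, 1, -9, 1, 6], 18, [1048, 1013, 133, 1093]),
  ([6, -5, 1, -4, 1, 6], 20, [1044, 1034, 134, 1094]),
  ([6, 1, 1, -4, 1, 6], 9, [1049, 1035, 135, 1095]),
  ([6, -6, 1, -3, 1, 6], 19, [1045, 1042, 136, 1096]),
  ([6, -1, 1, -3, 1, 6], 10, [1047, 1043, 137, 1097]),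
  ([6, 3, 2, -9, 2, 6], 17, [1052, 1018, 138, 1140]),
  ([6, 4, 2, -9, 2, 6], 16, [1054, 1019, 139, 1141]),
  ([6, -3, 2, -6, 2, 6], 18, [1050, 1024, 140, 1142]),
  ([6, 1, 2, -6, 2, 6], 11, [1055, 1025, 141, 1143]),
  ([6, -4, 2, -5, 2, 6], 17, [1051, 1036, 142, 1144]),
  ([6, -1, 2, -5, 2, 6], 12, [1053, 1037, 143, 1145]),
  ([7, 1, -8, 5, -8, 7], 20, [1058, 1080, 48, 570]),
  ([7, 2, -8, 5, -8, 7], 19, [1060, 1081, 49, 571]),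
  ([7, -1, -8, 6, -8, 7], 21, [1056, 1086, 50, 572]),
  ([7, 1, -8, 6, -8, 7], 18, [1061, 1087, 51, 573]),
  ([7, -2, -8, 7, -8, 7], 20, [1057, 1092, 52, 574]),
  ([7, -1, -8, 7, -8, 7], 19, [1059, 1093, 53, 575]),
  ([7, 1, -6, 1, -6, 7], 22, [1064, 1068, 54, 660]),
  ([7, 6, -6, 1, -6, 7], 13, [1066, 1069, 55, 661]),
  ([7, -1, -6, 2, -6, 7], 23, [1062, 1074, 56, 662]),
  ([7, 5, -6, 2, -6, 7], 12, [1067, 1075, 57, 663]),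
  ([7, -6, -6, 7, -6, 7], 14, [1063, 1098, 58, 664]),
  ([7, -5, -6, 7, -6, 7], 13, [1065, 1099, 59, 665]),
  ([7, 2, -5, -1, -5, 7], 23, [1070, 1062, 60, 756]),
  ([7, 7, -5, -1, -5, 7], 14, [1072, 1063, 61, 757]),
  ([7, -2, -5, 1, -5, 7], 24, [1068, 1076, 62, 758]),
  ([7, 5, -5, 1, -5, 7], 11, [1073, 1077, 63, 759]),
  ([7, -7, -5, 6, -5, 7], 15, [1069, 1100, 64, 760]),
  ([7, -5, -5, 6, -5, 7], 12, [1071, 1101, 65, 761]),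
  ([7, 1, -4, -2, -4, 7], 24, [1076, 1064, 66, 852]),
  ([7, 7, -4, -2, -4, 7], 13, [1078, 1065, 67, 853]),
  ([7, -1, -4, -1, -4, 7], 25, [1074, 1070, 68, 854]),
  ([7, 6, -4, -1, -4, 7], 12, [1079, 1071, 69, 855]),
  ([7, -7, -4, 5, -4, 7], 14, [1075, 1102, 70, 856]),
  ([7, -6, -4, 5, -4, 7], 13, [1077, 1103, 71, 857]),
  ([7, 6, -3, -5, -3, 7], 21, [1082, 1056, 72, 942]),
  ([7, 7, -3, -5, -3, 7], 20, [1084, 1057, 73, 943]),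
  ([7, -6, -3, 1, -3, 7], 22, [1080, 1088, 74, 944]),
  ([7, 1, -3, 1, -3, 7], 9, [1085, 1089, 75, 945]),
  ([7, -7, -3, 2, -3, 7], 21, [1081, 1094, 76, 946]),
  ([7, -1, -3, 2, -3, 7], 10, [1083, 1095, 77, 947]),
  ([7, 5, -2, -6, -2, 7], 22, [1088, 1058, 78, 996]),
  ([7, 7, -2, -6, -2, 7], 19, [1090, 1059, 79, 997])]

/-- Orbit data, part. -/
def vecE6_17 : List (List ℤ × ℕ × List ℕ) := [
  ([7, -5, -2, -1, -2, 7], 23, [1086, 1082, 80, 998]),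
  ([7, 2, -2, -1, -2, 7], 10, [1091, 1083, 81, 999]),
  ([7, -7, -2, 1, -2, 7], 20, [1087, 1096, 82, 1000]),
  ([7, -2, -2, 1, -2, 7], 11, [1089, 1097, 83, 1001]),
  ([7, 5, -1, -7, -1, 7], 21, [1094, 1060, 84, 1044]),
  ([7, 6, -1, -7, -1, 7], 20, [1096, 1061, 85, 1045]),
  ([7, -5, -1, -2, -1, 7], 22, [1092, 1084, 86, 1046]),
  ([7, 1, -1, -2, -1, 7], 11, [1097, 1085, 87, 1047]),
  ([7, -6, -1, -1, -1, 7], 21, [1093, 1090, 88, 1048]),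
  ([7, -1, -1, -1, -1, 7], 12, [1095, 1091, 89, 1049]),
  ([7, 1, 1, -7, 1, 7], 15, [1100, 1066, 90, 1146]),
  ([7, 2, 1, -7, 1, 7], 14, [1102, 1067, 91, 1147]),
  ([7, -1, 1, -6, 1, 7], 16, [1098, 1072, 92, 1148]),
  ([7, 1, 1, -6, 1, 7], 13, [1103, 1073, 93, 1149]),
  ([7, -2, 1, -5, 1, 7], 15, [1099, 1078, 94, 1150]),
  ([7, -1, 1, -5, 1, 7], 14, [1101, 1079, 95, 1151]),
  ([8, 1, -7, 3, -7, 8], 18, [1106, 1122, 0, 666]),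
  ([8, 2, -7, 3, -7, 8], 17, [1108, 1123, 1, 667]),
  ([8, -1, -7, 4, -7, 8], 19, [1104, 1134, 2, 668]),
  ([8, 1, -7, 4, -7, 8], 16, [1109, 1135, 3, 669]),
  ([8, -2, -7, 5, -7, 8], 18, [1105, 1140, 4, 670]),
  ([8, -1, -7, 5, -7, 8], 17, [1107, 1141, 5, 671]),
  ([8, 1, -6, 1, -6, 8], 20, [1112, 1116, 6, 762]),
  ([8, 4, -6, 1, -6, 8], 15, [1114, 1117, 7, 763]),
  ([8, -1, -6, 2, -6, 8], 21, [1110, 1124, 8, 764]),
  ([8, 3, -6, 2, -6, 8], 14, [1115, 1125, 9, 765]),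
  ([8, -4, -6, 5, -6, 8], 16, [1111, 1146, 10, 766]),
  ([8, -3, -6, 5, -6, 8], 15, [1113, 1147, 11, 767]),
  ([8, 2, -5, -1, -5, 8], 21, [1118, 1110, 12, 858]),
  ([8, 5, -5, -1, -5, 8], 16, [1120, 1111, 13, 859]),
  ([8, -2, -5, 1, -5, 8], 22, [1116, 1126, 14, 860]),
  ([8, 3, -5, 1, -5, 8], 13, [1121, 1127, 15, 861]),
  ([8, -5, -5, 4, -5, 8], 17, [1117, 1148, 16, 862]),
  ([8, -3, -5, 4, -5, 8], 14, [1119, 1149, 17, 863]),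
  ([8, 4, -4, -3, -4, 8], 19, [1128, 1104, 18, 948]),
  ([8, 5, -4, -3, -4, 8], 18, [1130, 1105, 19, 949]),
  ([8, 1, -4, -2, -4, 8], 22, [1126, 1112, 20, 950]),
  ([8, 5, -4, -2, -4, 8], 15, [1132, 1113, 21, 951]),
  ([8, -1, -4, -1, -4, 8], 23, [1124, 1118, 22, 952]),
  ([8, 4, -4, -1, -4, 8], 14, [1133, 1119, 23, 953]),
  ([8, -4, -4, 1, -4, 8], 20, [1122, 1136, 24, 954]),
  ([8, 1, -4, 1, -4, 8], 11, [1131, 1137, 25, 955]),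
  ([8, -5, -4, 2, -4, 8], 19, [1123, 1142, 26, 956]),
  ([8, -1, -4, 2, -4, 8], 12, [1129, 1143, 27, 957]),
  ([8, -5, -4, 3, -4, 8], 16, [1125, 1150, 28, 958]),
  ([8, -4, -4, 3, -4, 8], 15, [1127, 1151, 29, 959]),
  ([8, 3, -3, -4, -3, 8], 20, [1136, 1106, 30, 1002]),
  ([8, 5, -3, -4, -3, 8], 17, [1138, 1107, 31, 1003]),
  ([8, -3, -3, -1, -3, 8], 21, [1134, 1128, 32, 1004]),
  ([8, 2, -3, -1, -3, 8], 12, [1139, 1129, 33, 1005]),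
  ([8, -5, -3, 1, -3, 8], 18, [1135, 1144, 34, 1006]),
  ([8, -2, -3, 1, -3, 8], 13, [1137, 1145, 35, 1007]),
  ([8, 3, -2, -5, -2, 8], 19, [1142, 1108, 36, 1050]),
  ([8, 4, -2, -5, -2, 8], 18, [1144, 1109, 37, 1051]),
  ([8, -3, -2, -2, -2, 8], 20, [1140, 1130, 38, 1052]),
  ([8, 1, -2, -2, -2, 8], 13, [1145, 1131, 39, 1053]),
  ([8, -4, -2, -1, -2, 8], 19, [1141, 1138, 40, 1054]),
  ([8, -1, -2, -1, -2, 8], 14, [1143, 1139, 41, 1055]),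
  ([8, 1, -1, -5, -1, 8], 17, [1148, 1114, 42, 1098]),
  ([8, 2, -1, -5, -1, 8], 16, [1150, 1115, 43, 1099]),
  ([8, -1, -1, -4, -1, 8], 18, [1146, 1120, 44, 1100]),
  ([8, 1, -1, -4, -1, 8], 15, [1151, 1121, 45, 1101]),
  ([8, -2, -1, -3, -1, 8], 17, [1147, 1132, 46, 1102]),
  ([8, -1, -1, -3, -1, 8], 16, [1149, 1133, 47, 1103])]

/-- Orbit data. -/
def vecE6 : List (List ℤ × ℕ × List ℕ) := vecE6_0 ++ vecE6_1 ++ vecE6_2 ++ vecE6_3 ++ vecE6_4 ++ vecE6_5 ++ vecE6_6 ++ vecE6_7 ++ vecE6_8 ++ vecE6_9 ++ vecE6_10 ++ vecE6_11 ++ vecE6_12 ++ vecE6_13 ++ vecE6_14 ++ vecE6_15 ++ vecE6_16 ++ vecE6_17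

end Cfsg.Agent.Lie
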