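import Cfsg.Agent.Lib.Lie.TwistE6
import Cfsg.Agent.Lib.Lie.TwistTorus

/-!
The torus of the twisted groups of type ²E₆.
-/

set_option autoImplicit false
set_option maxRecDepth 4000

namespace Cfsg.Agent.Lie.E6

open Cfsg.Lie Matrix Twist
open scoped MatrixGroups

instance neZero_rank : NeZero chevE6.rank := ⟨by decide +kernel⟩

theorem cartan_rows : ∀ s : Fin 6, (List.finRange 6).map (fun m => cartanSys chevE6 s m) =
    ([[2, 0, -1, 0, 0, 0], [0, 2, 0, -1, 0, 0], [-1, 0, 2, -1, 0, 0], [0, -1, -1, 2, -1, 0],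
      [0, 0, 0, -1, 2, -1], [0, 0, 0, 0, -1, 2]] : List (List ℤ)).getD s.val [] := by
  decide +kernel

theorem torChar_E6 {K : Type*} [Field K] (c : Fin chevE6.rank → Kˣ) :
    (∀ i : Fin chevE6.rank, torChar chevE6 c (chevE6.simple i.val) = 1) ↔
      c 1 = 1 ∧ c 3 = 1 ∧ c 0 ^ 3 = 1 ∧ c 2 = c 0 ^ 2 ∧ c 4 = c 0 ∧ c 5 = c 0 ^ 2 := by
  have e : ∀ i : Fin 6, torChar chevE6 c (chevE6.simple i.val) =
      ((List.finRange 6).map (fun m => c m ^ cartanSys chevE6 i m)).prod := fun i => by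
    exact ((congrArg List.prod (List.ofFn_eq_map (f := fun m : Fin 6 => c m ^ cartanSys chevE6 i m))).symm.trans
      List.prod_ofFn).symm
  have e' : ∀ i : Fin 6, ((List.finRange 6).map (fun m => c m ^ cartanSys chevE6 i m)) =
      List.zipWith (fun u e => u ^ e) [c 0, c 1, c 2, c 3, c 4, c 5]
        (([[2, 0, -1, 0, 0, 0], [0, 2, 0, -1, 0, 0], [-1, 0, 2, -1, 0, 0], [0, -1, -1, 2, -1, 0],
          [0, 0, 0, -1, 2, -1], [0, 0, 0, 0, -1, 2]] : List (List ℤ)).getD i.val []) :=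
    fun i => by rw [← cartan_rows]; rfl
  have key : (∀ i : Fin 6, torChar chevE6 c (chevE6.simple i.val) = 1) ↔
      ∀ i : Fin 6, (List.zipWith (fun u e => u ^ e) [c 0, c 1, c 2, c 3, c 4, c 5]
        (([[2, 0, -1, 0, 0, 0], [0, 2, 0, -1, 0, 0], [-1, 0, 2, -1, 0, 0], [0, -1, -1, 2, -1, 0],
          [0, 0, 0, -1, 2, -1], [0, 0, 0, 0, -1, 2]] : List (List ℤ)).getD i.val [])).prod = 1 :=
    forall_congr' fun i => by rw [e, e']
  refine key.trans ?_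
  simp only [Fin.forall_fin_succ, Fin.val_zero, Fin.val_succ, IsEmpty.forall_iff, and_true]
  simp [List.zipWith, List.getD]
  constructor
  · rintro ⟨h0, h1, h2, h3, h4, h5⟩
    have r0 : c 2 = c 0 ^ 2 := by
      refine (mul_inv_eq_one.1 ?_).symm
      simpa using h0
    have r5 : c 4 = c 5 ^ 2 := by
      refine inv_mul_eq_one.1 ?_
      simpa using h5
    have r1 : c 3 = c 1 ^ 2 := by
      refine (mul_inv_eq_one.1 ?_).symm
      simpa using h1
    have r2 : c 2 ^ 2 = c 0 * c 3 := by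
      calc c 2 ^ 2 = c 0 * c 3 * ((c 0)⁻¹ * (c 2 ^ 2 * (c 3)⁻¹)) := by simp [mul_comm, mul_left_comm]
        _ = _ := by rw [h2, mul_one]
    have r4 : c 4 ^ 2 = c 3 * c 5 := by
      calc c 4 ^ 2 = c 3 * c 5 * ((c 3)⁻¹ * (c 4 ^ 2 * (c 5)⁻¹)) := by simp [mul_comm, mul_left_comm]
        _ = _ := by rw [h4, mul_one]
    have r3 : c 3 ^ 2 = c 1 * c 2 * c 4 := by
      calc c 3 ^ 2 = c 1 * c 2 * c 4 * ((c 1)⁻¹ * ((c 2)⁻¹ * (c 3 ^ 2 * (c 4)⁻¹))) := by
            simp [mul_comm, mul_left_comm]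
        _ = _ := by rw [h3, mul_one]
    have a0 : c 3 = c 0 ^ 3 := by
      rw [r0, ← pow_mul] at r2
      exact mul_left_cancel (a := c 0) (by rw [← r2, ← pow_succ'])
    have a5 : c 3 = c 5 ^ 3 := by
      rw [r5, ← pow_mul] at r4
      exact mul_right_cancel (b := c 5) (by rw [← r4, ← pow_succ])
    rw [a0, r0, r5, ← pow_mul] at r3
    rw [a0] at r1
    have b1 : c 0 ^ 4 = c 1 * c 5 ^ 2 :=
      mul_right_cancel (b := c 0 ^ 2) (by rw [← pow_add, r3]; ac_rfl)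
    have b2 : c 0 ^ 5 = c 5 ^ 4 := by
      have : (c 0 ^ 4) ^ 2 = (c 1 * c 5 ^ 2) ^ 2 := by rw [b1]
      rw [mul_pow, ← r1, ← pow_mul, ← pow_mul] at this
      exact mul_left_cancel (a := c 0 ^ 3) (by rw [← pow_add, this])
    have b3 : c 5 = c 0 ^ 2 := by
      have : c 5 ^ 4 = c 5 * c 0 ^ 3 := by rw [← a0, a5, ← pow_succ']
      rw [← b2] at this
      exact mul_right_cancel (b := c 0 ^ 3) (by rw [← this, ← pow_add])
    have b4 : c 0 ^ 3 = 1 := by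
      have : c 5 ^ 3 = c 0 ^ 3 := a5.symm.trans a0
      rw [b3, ← pow_mul, show 2 * 3 = 3 + 3 from rfl, pow_add] at this
      exact mul_eq_left.1 this
    have b5 : c 1 = 1 := by
      rw [b3, ← pow_mul, show (2 * 2 : ℕ) = 4 from rfl] at b1
      exact right_eq_mul.1 b1
    refine ⟨b5, a0.trans b4, b4, r0, ?_, b3⟩
    rw [r5, b3, ← pow_mul, show 2 * 2 = 3 + 1 from rfl, pow_add, b4, one_mul, pow_one]
  · rintro ⟨h1, h3, h0, h2, h4, h5⟩
    have h4' : c 0 ^ 4 = c 0 := by rw [show 4 = 3 + 1 from rfl, pow_add, h0, one_mul, pow_one]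
    refine ⟨?_, ?_, ?_, ?_, ?_, ?_⟩
    · rw [h2]; simp
    · rw [h1, h3]; simp
    · rw [h2, h3, ← pow_mul, show 2 * 2 = 4 from rfl, h4']; simp
    · rw [h1, h2, h3, h4]
      rw [one_pow]
      simp [← _root_.mul_inv, ← pow_succ', ← pow_succ, h0]
    · rw [h3, h4, h5]; simp
    · rw [h4, h5, ← pow_mul, show 2 * 2 = 4 from rfl, h4']; simp

variable {K : Type*} [Field K] [Fintype K] {q : ℕ}

namespace Setup

variable (S : Setup K q)

include S

/-- Coordinates of fixed torus elements. -/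
def crd (S : Setup K q) (t u m n : Kˣ) : Fin chevE6.rank → Kˣ := ![t, m, u, n, u ^ q, t ^ q]

omit S in
theorem node_inv : ∀ j : Fin 6, (σ.symm (j : Fin chevE6.rank)).val = [5, 1, 4, 3, 2, 0].getD j.val 0 := by
  decide +kernel

theorem twc_apply (c : Fin chevE6.rank → Kˣ) :
    S.T.twc c = ![c 5 ^ q, c 1 ^ q, c 4 ^ q, c 3 ^ q, c 2 ^ q, c 0 ^ q] := by
  have he : ∀ i : Fin chevE6.rank, S.T.R.expo (chevE6.simple i.val) = 1 := fun i =>
    S.expo_one (factsE6.simple_lt i i.isLt)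
  funext j
  apply Units.ext
  rw [S.T.twc_val, he, pow_one, S.hfr, S.hs]
  have hj : σ.symm j = (⟨[5, 1, 4, 3, 2, 0].getD j.val 0 % chevE6.rank, Nat.mod_lt _ (by decide +kernel)⟩ :
      Fin chevE6.rank) := by
    apply Fin.ext
    rw [node_inv j]
    match j with
    | ⟨0, _⟩ => rfl
    | ⟨1, _⟩ => rfl
    | ⟨2, _⟩ => rfl
    | ⟨3, _⟩ => rfl
    | ⟨4, _⟩ => rfl
    | ⟨5, _⟩ => rfl
  rw [hj]
  match j with
  | ⟨0, _⟩ => rfl
  | ⟨1, _⟩ => rfl
  | ⟨2, _⟩ => rfl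
  | ⟨3, _⟩ => rfl
  | ⟨4, _⟩ => rfl
  | ⟨5, _⟩ => rfl

theorem exists_crd {h : GL chevE6.Idx K} (hd : h ∈ chevE6.diagonalSubgroup K) (hf : h ∈ S.T.fix) :
    ∃ t u m n : Kˣ, m ^ q = m ∧ n ^ q = n ∧ h = torus chevE6 K (S.crd t u m n) := by
  obtain ⟨c, rfl, hc⟩ := S.T.fix_torus hd hf
  rw [torChar_E6] at hc
  obtain ⟨z, hz⟩ : ∃ z, z = S.T.twc c * c⁻¹ := ⟨_, rfl⟩
  rw [← hz] at hc
  obtain ⟨h1, h3, h0, h2, h4, h5⟩ := hc
  have hz' : ∀ i, z i * c i = S.T.twc c i := fun i => by rw [hz]; simp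
  have ht : ∀ i, S.T.twc c i = (![c 5 ^ q, c 1 ^ q, c 4 ^ q, c 3 ^ q, c 2 ^ q, c 0 ^ q] : Fin chevE6.rank → Kˣ) i :=
    fun i => by rw [S.twc_apply]
  set a := z 0 with ha
  have e0 : a * c 0 = c 5 ^ q := (hz' 0).trans (ht 0)
  have e5 : a ^ 2 * c 5 = c 0 ^ q := by rw [← h5]; exact (hz' 5).trans (ht 5)
  have e2 : a ^ 2 * c 2 = c 4 ^ q := by rw [← h2]; exact (hz' 2).trans (ht 2)
  have e4 : a * c 4 = c 2 ^ q := by rw [← h4]; exact (hz' 4).trans (ht 4)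
  have e1 : c 1 ^ q = c 1 := by
    have := (hz' 1).trans (ht 1)
    rw [h1, one_mul] at this
    exact this.symm
  have e3 : c 3 ^ q = c 3 := by
    have := (hz' 3).trans (ht 3)
    rw [h3, one_mul] at this
    exact this.symm
  have hq2 : ∀ x : Kˣ, (x ^ q) ^ q = x := fun x => Units.ext (by
    simp only [Units.val_pow_eq_pow_val]; exact S.pow_sq _)
  have haq : a ^ q = a := by
    have h := congrArg (fun x => x ^ q) e5
    simp only [mul_pow, hq2, ← e0] at h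
    have h' : (a ^ 2) ^ q * a = 1 := by
      rw [← mul_assoc] at h
      exact mul_eq_right.1 h
    have h2' : (a ^ q) ^ 2 = a ^ 2 := by
      calc (a ^ q) ^ 2 = (a ^ 2) ^ q := by rw [← pow_mul, ← pow_mul, mul_comm]
        _ = (a ^ 2) ^ q * a * a ^ 2 := by rw [mul_assoc, ← pow_succ', h0, mul_one]
        _ = _ := by rw [h', one_mul]
    calc a ^ q = (a ^ q) ^ 2 * (a ^ q) ^ 2 := by
          rw [← pow_add, show 2 + 2 = 3 + 1 from rfl, pow_add, ← pow_mul a q 3, mul_comm q 3, pow_mul, h0, one_pow,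
            one_mul, pow_one]
      _ = a ^ 2 * a ^ 2 := by rw [h2']
      _ = a := by rw [← pow_add, show 2 + 2 = 3 + 1 from rfl, pow_add, h0, one_mul, pow_one]
  refine ⟨c 0 * a ^ 2, c 2 * a, c 1, c 3, e1, e3, (factsE6.torus_eq_iff _ _).2 ((torChar_E6 _).2 ?_)⟩
  have g : ∀ i, (c * (S.crd (c 0 * a ^ 2) (c 2 * a) (c 1) (c 3))⁻¹) i =
      c i * ((S.crd (c 0 * a ^ 2) (c 2 * a) (c 1) (c 3)) i)⁻¹ := fun _ => rfl
  have k4 : (S.crd (c 0 * a ^ 2) (c 2 * a) (c 1) (c 3)) 4 = c 4 * a ^ 2 := by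
    show (c 2 * a) ^ q = _
    rw [mul_pow, haq, ← e4, pow_two]; ac_rfl
  have k5 : (S.crd (c 0 * a ^ 2) (c 2 * a) (c 1) (c 3)) 5 = c 5 * a := by
    show (c 0 * a ^ 2) ^ q = _
    rw [mul_pow, ← pow_mul a 2 q, mul_comm 2 q, pow_mul, haq, ← e5,
      show a ^ 2 * c 5 * a ^ 2 = c 5 * (a ^ 2 * a ^ 2) by ac_rfl, ← pow_add,
      show 2 + 2 = 3 + 1 from rfl, pow_add, h0, one_mul, pow_one]
  rw [g, g, g, g, g, g, k4, k5]
  show c 1 * (c 1)⁻¹ = 1 ∧ c 3 * (c 3)⁻¹ = 1 ∧ (c 0 * (c 0 * a ^ 2)⁻¹) ^ 3 = 1 ∧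
    c 2 * (c 2 * a)⁻¹ = (c 0 * (c 0 * a ^ 2)⁻¹) ^ 2 ∧ c 4 * (c 4 * a ^ 2)⁻¹ = c 0 * (c 0 * a ^ 2)⁻¹ ∧
    c 5 * (c 5 * a)⁻¹ = (c 0 * (c 0 * a ^ 2)⁻¹) ^ 2
  have hh : a⁻¹ = ((a ^ 2)⁻¹) ^ 2 := by
    rw [inv_pow, _root_.inv_inj, ← pow_mul, show 2 * 2 = 3 + 1 from rfl, pow_add, h0, one_mul, pow_one]
  refine ⟨mul_inv_cancel _, mul_inv_cancel _, ?_, ?_, ?_, ?_⟩
  · simp only [_root_.mul_inv, mul_inv_cancel_left, inv_pow, ← pow_mul]
    rw [mul_comm 2 3, pow_mul, h0, one_pow, inv_one]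
  · simp only [_root_.mul_inv, mul_inv_cancel_left, hh]
  · simp only [_root_.mul_inv, mul_inv_cancel_left]
  · simp only [_root_.mul_inv, mul_inv_cancel_left, hh]

theorem hg_A_mem {r : ℕ} (hr : r = 46 ∨ r = 39) {m : Kˣ} (hm : m ^ q = m) :
    factsE6.hg r (m : K) ∈ twistedE6 K q := by
  have hm' : (m : K) ^ q = m := by rw [← Units.val_pow_eq_pow_val, hm]
  have h1 : (-1 : K) ^ q = -1 := by rw [← S.hfr, map_neg, map_one]
  have hi : (-(m : K)⁻¹) ^ q = -(m : K)⁻¹ := by rw [← S.hfr, map_neg, map_inv₀, S.hfr, hm']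
  rcases hr with rfl | rfl
  · have h := factsE6.prod_hg_mem (L := [46]) (List.nodup_singleton _) (by decide +kernel)
      (twistedE6 K q) (fun _ => (m : K))
      (by simpa [CommSys.prodOver, Facts.sys_x] using A_mem (r := 46) (by simp) hm')
      (by simpa [show chevE6.neg 46 = 25 from rfl] using A_mem (r := 25) (by simp) hi)
      (by simpa [CommSys.prodOver, Facts.sys_x] using A_mem (r := 46) (by simp) h1)
      (by simpa [show chevE6.neg 46 = 25 from rfl] using A_mem (r := 25) (q := q) (by simp) (t := (1 : K)) (one_pow q))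
    simpa using h
  · have h := factsE6.prod_hg_mem (L := [39]) (List.nodup_singleton _) (by decide +kernel)
      (twistedE6 K q) (fun _ => (m : K))
      (by simpa [CommSys.prodOver, Facts.sys_x] using A_mem (r := 39) (by simp) hm')
      (by simpa [show chevE6.neg 39 = 32 from rfl] using A_mem (r := 32) (by simp) hi)
      (by simpa [CommSys.prodOver, Facts.sys_x] using A_mem (r := 39) (by simp) h1)
      (by simpa [show chevE6.neg 39 = 32 from rfl] using A_mem (r := 32) (q := q) (by simp) (t := (1 : K)) (one_pow q))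
    simpa using h

theorem hg_B_mem {a b a' b' : ℕ}
    (h : (a = 56 ∧ b = 36 ∧ a' = 15 ∧ b' = 35) ∨ (a = 42 ∧ b = 37 ∧ a' = 29 ∧ b' = 34)) (t : Kˣ) :
    factsE6.hg a (t : K) * factsE6.hg b ((t : K) ^ q) ∈ twistedE6 K q := by
  have hi : ∀ x : K, (-x⁻¹) ^ q = -(x ^ q)⁻¹ := fun x => by rw [← S.hfr, map_neg, map_inv₀, S.hfr]
  have h1 : (-1 : K) ^ q = -1 := by rw [← S.hfr, map_neg, map_one]
  rcases h with ⟨rfl, rfl, rfl, rfl⟩ | ⟨rfl, rfl, rfl, rfl⟩
  · have h := factsE6.prod_hg_mem (L := [56, 36]) (by decide) (by decide +kernel) (twistedE6 K q)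
      (cB q (t : K)) (B_mem (by simp) _)
      (by simpa [CommSys.prodOver, Facts.sys_x, cB, hi, show chevE6.neg 56 = 15 from rfl,
        show chevE6.neg 36 = 35 from rfl] using B_mem (q := q) (a := 15) (b := 35) (by simp) (-(t : K)⁻¹))
      (by simpa [CommSys.prodOver, Facts.sys_x, cB, h1] using B_mem (q := q) (a := 56) (b := 36) (by simp) (-1 : K))
      (by simpa [CommSys.prodOver, Facts.sys_x, cB, show chevE6.neg 56 = 15 from rfl,
        show chevE6.neg 36 = 35 from rfl] using B_mem (q := q) (a := 15) (b := 35) (by simp) (1 : K))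
    simpa [cB] using h
  · have h := factsE6.prod_hg_mem (L := [42, 37]) (by decide) (by decide +kernel) (twistedE6 K q)
      (cB q (t : K)) (B_mem (by simp) _)
      (by simpa [CommSys.prodOver, Facts.sys_x, cB, hi, show chevE6.neg 42 = 29 from rfl,
        show chevE6.neg 37 = 34 from rfl] using B_mem (q := q) (a := 29) (b := 34) (by simp) (-(t : K)⁻¹))
      (by simpa [CommSys.prodOver, Facts.sys_x, cB, h1] using B_mem (q := q) (a := 42) (b := 37) (by simp) (-1 : K))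
      (by simpa [CommSys.prodOver, Facts.sys_x, cB, show chevE6.neg 42 = 29 from rfl,
        show chevE6.neg 37 = 34 from rfl] using B_mem (q := q) (a := 29) (b := 34) (by simp) (1 : K))
    simpa [cB] using h

theorem torus_mem {t u m n : Kˣ} (hm : m ^ q = m) (hn : n ^ q = n) :
    torus chevE6 K (S.crd t u m n) ∈ twistedE6 K q := by
  have e : S.crd t u m n = Pi.mulSingle 1 m * (Pi.mulSingle 3 n * ((Pi.mulSingle 0 t * Pi.mulSingle 5 (t ^ q)) *
      (Pi.mulSingle 2 u * Pi.mulSingle 4 (u ^ q)))) := by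
    funext j
    match j with
    | ⟨0, _⟩ => show t = 1 * (1 * ((t * 1) * (1 * 1))); simp
    | ⟨1, _⟩ => show m = m * (1 * ((1 * 1) * (1 * 1))); simp
    | ⟨2, _⟩ => show u = 1 * (1 * ((1 * 1) * (u * 1))); simp
    | ⟨3, _⟩ => show n = 1 * (n * ((1 * 1) * (1 * 1))); simp
    | ⟨4, _⟩ => show u ^ q = 1 * (1 * ((1 * 1) * (1 * u ^ q))); simp
    | ⟨5, _⟩ => show t ^ q = 1 * (1 * ((1 * t ^ q) * (1 * 1))); simp
  rw [e, map_mul, map_mul, map_mul, map_mul, map_mul, factsE6.torus_single, factsE6.torus_single,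
    factsE6.torus_single, factsE6.torus_single, factsE6.torus_single, factsE6.torus_single]
  refine mul_mem (S.hg_A_mem (Or.inl rfl) hm) (mul_mem (S.hg_A_mem (Or.inr rfl) hn) (mul_mem ?_ ?_))
  · have h := S.hg_B_mem (Or.inl ⟨rfl, rfl, rfl, rfl⟩) t
    rw [← Units.val_pow_eq_pow_val] at h
    exact h
  · have h := S.hg_B_mem (Or.inr ⟨rfl, rfl, rfl, rfl⟩) u
    rw [← Units.val_pow_eq_pow_val] at h
    exact h

theorem card_H : Nat.gcd 3 (q + 1) * Nat.card ↥(chevE6.diagonalSubgroup K ⊓ twistedE6 K q) =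
    (q - 1) ^ 4 * (q + 1) ^ 2 := by
  classical
  let M : Subgroup Kˣ := (powMonoidHom (q - 1) : Kˣ →* Kˣ).ker
  have hq := S.hq
  have hMq : ∀ m : M, (m : Kˣ) ^ q = m := fun m => by
    conv_lhs => rw [show q = q - 1 + 1 by omega, pow_succ,
      show (m : Kˣ) ^ (q - 1) = 1 from m.2, one_mul]
  have hqm : ∀ m : Kˣ, m ^ q = m → m ∈ M := fun m hm => by
    show m ^ (q - 1) = 1
    rw [show q = q - 1 + 1 by omega, pow_succ] at hm
    exact mul_eq_right.1 hm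
  have hKu : Nat.card Kˣ = (q - 1) * (q + 1) := by
    obtain ⟨k, rfl⟩ : ∃ k, q = k + 1 := ⟨q - 1, by omega⟩
    rw [Nat.card_units, S.hK, Nat.add_sub_cancel, show (k + 1) ^ 2 = k * (k + 1 + 1) + 1 by ring]
    simp
  let ψ : (Kˣ × Kˣ) × (M × M) →* GL chevE6.Idx K :=
    (torus chevE6 K).comp
      { toFun := fun p => S.crd p.1.1 p.1.2 p.2.1 p.2.2
        map_one' := by
          funext j
          match j with
          | ⟨0, _⟩ => rfl
          | ⟨1, _⟩ => rfl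
          | ⟨2, _⟩ => rfl
          | ⟨3, _⟩ => rfl
          | ⟨4, _⟩ => exact one_pow q
          | ⟨5, _⟩ => exact one_pow q
        map_mul' := fun p p' => by
          funext j
          match j with
          | ⟨0, _⟩ => rfl
          | ⟨1, _⟩ => rfl
          | ⟨2, _⟩ => rfl
          | ⟨3, _⟩ => rfl
          | ⟨4, _⟩ => exact mul_pow p.1.2 p'.1.2 q
          | ⟨5, _⟩ => exact mul_pow p.1.1 p'.1.1 q }
  have hrange : ψ.range = chevE6.diagonalSubgroup K ⊓ twistedE6 K q := by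
    apply le_antisymm
    · rintro _ ⟨p, rfl⟩
      exact ⟨by rw [factsE6.diagonalSubgroup_eq]; exact ⟨_, rfl⟩, S.torus_mem (hMq _) (hMq _)⟩
    · rintro g ⟨hgd, hgG⟩
      obtain ⟨t, u, m, n, hm, hn, rfl⟩ := S.exists_crd hgd (S.le_fix hgG)
      exact ⟨((t, u), (⟨m, hqm m hm⟩, ⟨n, hqm n hn⟩)), rfl⟩
  have hker : Nat.card ψ.ker = Nat.gcd 3 (q + 1) := by
    have h : Nat.card (powMonoidHom (Nat.gcd 3 (q + 1)) : Kˣ →* Kˣ).ker =
        Nat.gcd (Nat.card Kˣ) (Nat.gcd 3 (q + 1)) := IsCyclic.card_powMonoidHom_ker Kˣ _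
    rw [Nat.gcd_eq_right (m := Nat.card Kˣ) (Dvd.dvd.trans (Nat.gcd_dvd_right 3 (q + 1)) ?_)] at h
    swap
    · rw [hKu]; exact Dvd.intro_left _ rfl
    rw [← h]
    have hmem : ∀ p, p ∈ ψ.ker ↔ (p.2.1 : Kˣ) = 1 ∧ (p.2.2 : Kˣ) = 1 ∧ p.1.1 ^ 3 = 1 ∧
        p.1.2 = p.1.1 ^ 2 ∧ p.1.2 ^ q = p.1.1 ∧ p.1.1 ^ q = p.1.1 ^ 2 := by
      intro p
      have h1 : p ∈ ψ.ker ↔ torus chevE6 K (S.crd p.1.1 p.1.2 p.2.1 p.2.2) = torus chevE6 K 1 := by
        rw [MonoidHom.mem_ker, map_one]; exact Iff.rfl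
      rw [h1, factsE6.torus_eq_iff, inv_one, mul_one, torChar_E6]
      exact Iff.rfl
    refine Nat.card_congr
      { toFun := fun p => ⟨p.1.1.1, ?_⟩
        invFun := fun a => ⟨((a.1, a.1 ^ 2), (1, 1)), ?_⟩
        left_inv := fun p => ?_
        right_inv := fun a => rfl }
    · obtain ⟨-, -, h3, -, -, h5⟩ := (hmem _).1 p.2
      show (p.1.1.1 : Kˣ) ^ Nat.gcd 3 (q + 1) = 1
      exact pow_gcd_eq_one.2 ⟨h3, by rw [pow_succ, h5, ← pow_succ, h3]⟩
    · have ha : (a.1 : Kˣ) ^ Nat.gcd 3 (q + 1) = 1 := a.2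
      obtain ⟨h3, hq1⟩ := pow_gcd_eq_one.1 ha
      have h5 : (a.1 : Kˣ) ^ q = a.1 ^ 2 := mul_right_cancel (b := a.1) (by rw [← pow_succ, hq1, ← pow_succ, h3])
      refine (hmem _).2 ⟨rfl, rfl, h3, rfl, ?_, h5⟩
      show (a.1 ^ 2) ^ q = a.1
      rw [← pow_mul, mul_comm, pow_mul, h5, ← pow_mul, show 2 * 2 = 3 + 1 from rfl, pow_add, h3, one_mul, pow_one]
    · obtain ⟨hm, hn, -, h4, -, -⟩ := (hmem _).1 p.2
      exact Subtype.ext (Prod.ext (Prod.ext rfl h4.symm) (Prod.ext (Subtype.ext hm.symm) (Subtype.ext hn.symm)))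
  have hM : Nat.card M = q - 1 := by
    have h : Nat.card M = Nat.gcd (Nat.card Kˣ) (q - 1) := IsCyclic.card_powMonoidHom_ker Kˣ (q - 1)
    rw [h, hKu, Nat.gcd_eq_right (Dvd.intro _ rfl)]
  rw [← hrange, ← hker, mul_comm, Nat.card_congr (QuotientGroup.quotientKerEquivRange ψ).symm.toEquiv,
    ← Subgroup.card_eq_card_quotient_mul_card_subgroup, Nat.card_prod, Nat.card_prod, Nat.card_prod, hKu, hM]
  ring

end Setup

end Cfsg.Agent.Lie.E6
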