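import Cfsg.Agent.Lib.Lie.TwistFrob
import Cfsg.Agent.Lib.Lie.TwistB2
import Cfsg.Agent.Lib.Lie.GraphTables
import Cfsg.Agent.Lib.Lie.NegList
import Cfsg.Agent.Lib.Lie.TwistPair
import Cfsg.Prelude.Def_LieTwisted

/-!
The twisted groups of type ²F₄.
-/

set_option autoImplicit false
set_option maxRecDepth 4000

namespace Cfsg.Agent.Lie.F4

open Cfsg.Lie Matrix Twist
open scoped MatrixGroups

/-- The orbits of nodes, as words. -/
def Os : List (List (Fin chevF4.rank)) := [[0, 3], [1, 2, 1, 2]].map (fnodes chevF4)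

/-- The permutation of nodes. -/
def σ : Equiv.Perm (Fin chevF4.rank) :=
  nodePerm chevF4 [3, 2, 1, 0] [3, 2, 1, 0] (by decide +kernel)

theorem okTwist_σ : okTwist chevF4 graphF4 σ = true := by decide +kernel

theorem okOrbits_Os : okOrbits chevF4 graphF4 σ Os = true := by decide +kernel

theorem orbLs : Os.map (fun ω => orbL chevF4 (ω.map Fin.val)) = [[24, 33], [25, 27, 28, 30]] := by
  decide +kernel

theorem negLs : Os.map (fun ω => Twist.negL chevF4 ω) = [[23, 14], [22, 20, 19, 17]] := by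
  decide +kernel

theorem simplesLs : Os.map (fun ω => simples chevF4 ω) = [[33, 24], [27, 25, 27, 25]] := by
  decide +kernel

theorem orbit_match : ∀ ω ∈ Os,
    (Twist.negL chevF4 ω = [23, 14] → simples chevF4 ω = [33, 24]) ∧
    (orbL chevF4 (ω.map Fin.val) = [25, 27, 28, 30] → simples chevF4 ω = [27, 25, 27, 25]) := by
  decide +kernel

theorem pair_all : ([[24, 33], [33, 24], [14, 23], [23, 14]] : List (List ℕ)).all (fun L =>
    okComm chevF4 L && okStable chevF4 graphF4 L) = true := by decide +kernel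

theorem okB2_pos : okB2 chevF4 27 25 28 30 = true := by decide +kernel

theorem okB2_neg : okB2 chevF4 20 22 19 17 = true := by decide +kernel

theorem negList_pair : NegList chevF4 [19, 17] where
  sorted := by decide +kernel
  mem_neg := by decide +kernel
  closed := by decide +kernel

variable {K : Type*} [Field K] [Fintype K] {m : ℕ}

theorem charP_two (hK : Fintype.card K = 2 ^ (2 * m + 1)) : CharP K 2 := by
  obtain ⟨c, hc⟩ := CharP.exists K
  obtain ⟨n, hc', hcard⟩ := FiniteField.card K c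
  have hdvd : c ∣ 2 ^ (2 * m + 1) := by rw [← hK, hcard]; exact dvd_pow_self c n.pos.ne'
  exact ((Nat.prime_dvd_prime_iff_eq hc' Nat.prime_two).1 (hc'.dvd_of_dvd_pow hdvd)) ▸ hc

variable (K) (m) in
/-- Everything needed about the group. -/
structure Setup where
  hK : Nat.card K = 2 ^ (2 * m + 1)
  h2 : (2 : K) = 0
  T : Twist factsF4 K
  hR : T.R = graphF4
  hs : T.σ = σ
  hfr : ∀ t, T.fr t = t ^ 2 ^ m

theorem nonempty_setup (hK : Fintype.card K = 2 ^ (2 * m + 1)) : Nonempty (Setup K m) := by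
  haveI := charP_two hK
  haveI : Fact (Nat.Prime 2) := ⟨Nat.prime_two⟩
  have h2 : (2 : K) = 0 := CharTwo.two_eq_zero
  have hperf : ∀ a : K, ∃ b, b ^ 2 = a := fun a =>
    ⟨a ^ 2 ^ (2 * m), by rw [← pow_mul, ← pow_succ, ← hK]; exact FiniteField.pow_card a⟩
  obtain ⟨T, h1, h2', h3, -⟩ := factsF4.exists_twist (modField_prime K 2 hperf) okMap_F4
    (stHyp_of_mem (by simp)) okOrder_F4 (frobenius K 2) (fun t => frobenius_def 2 t) σ okTwist_σ
    (iterateFrobenius K 2 m)
  exact ⟨⟨by rw [Nat.card_eq_fintype_card, hK], h2, T, h1, h2', fun t => by rw [h3, iterateFrobenius_def]⟩⟩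

namespace Setup

variable (S : Setup K m)

include S

theorem pow_twist (t : K) : (t ^ 2 ^ m) ^ (2 * 2 ^ m) = t ∧ (t ^ (2 * 2 ^ m)) ^ 2 ^ m = t := by
  have h : t ^ (2 ^ m * (2 * 2 ^ m)) = t := by
    rw [show 2 ^ m * (2 * 2 ^ m) = 2 ^ (2 * m + 1) by rw [show 2 * m + 1 = m + (1 + m) by omega, pow_add, pow_add]; ring,
      ← S.hK, Nat.card_eq_fintype_card]
    exact FiniteField.pow_card t
  exact ⟨by rw [← pow_mul, h], by rw [← pow_mul, mul_comm, h]⟩

theorem sig_xg {r : ℕ} (hr : r < 48) (t : K) :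
    S.T.sig (factsF4.xg r t) =
      factsF4.xg (graphF4.img r) ((graphF4.sign r : K) * (t ^ 2 ^ m) ^ graphF4.expo r) := by
  rw [S.T.sig_x r hr, factsF4.imgX_lt S.T.R hr, S.hR, S.hfr]

theorem pairOk {L : List ℕ} (h : L ∈ ([[24, 33], [33, 24], [14, 23], [23, 14]] : List (List ℕ))) :
    okComm chevF4 L = true ∧ okStable chevF4 S.T.R L = true := by
  have := List.all_eq_true.1 pair_all L h
  rw [Bool.and_eq_true] at this
  exact ⟨this.1, by rw [S.hR]; exact this.2⟩

omit S in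
/-- Coordinates of the generators of the pair. -/
def cP (m : ℕ) (t : K) (r : ℕ) : K := if r = 33 ∨ r = 14 then t ^ 2 ^ m else t

theorem pair_fix {L : List ℕ} (h : L ∈ ([[33, 24], [14, 23]] : List (List ℕ))) (t : K) :
    (factsF4.sys K).prodOver L (cP m t) ∈ S.T.fix := by
  simp only [List.mem_cons, List.not_mem_nil, or_false] at h
  have hk := S.pairOk (L := L) (by rcases h with rfl | rfl <;> simp)
  refine S.T.prodOver_mem_fix hk.1 hk.2 _ (fun s hs => ?_)
  rw [S.hfr, S.hR]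
  rcases h with rfl | rfl <;> simp only [List.mem_cons, List.not_mem_nil, or_false] at hs <;>
    rcases hs with rfl | rfl <;>
      simp [cP, RMap.img, RMap.expo, graphF4] <;> rw [← pow_mul, ← pow_mul] <;>
        exact ((S.pow_twist t).1).symm.trans (by rw [← pow_mul]; congr 1; ring)

/-- Coordinates of a fixed element of type B₂. -/
noncomputable def w4F (S : Setup K m) (a b c d : ℕ) (t u : K) : GL chevF4.Idx K :=
  factsF4.w4 a b c d (t ^ 2 ^ m) t (t ^ (2 ^ m + 1) + u) (u ^ (2 * 2 ^ m))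

theorem b2_fix {a b c d : ℕ} (h : (a = 27 ∧ b = 25 ∧ c = 28 ∧ d = 30) ∨ (a = 20 ∧ b = 22 ∧ c = 19 ∧ d = 17))
    (t u : K) : S.w4F a b c d t u ∈ S.T.fix := by
  have hok : okB2 chevF4 a b c d = true := by
    rcases h with ⟨rfl, rfl, rfl, rfl⟩ | ⟨rfl, rfl, rfl, rfl⟩
    exacts [okB2_pos, okB2_neg]
  have hg : ∀ r t, factsF4.xg r (t : K) ∈ chevF4.group K := fun r t => factsF4.xg_mem_group r t
  refine ⟨mul_mem (mul_mem (mul_mem (hg _ _) (hg _ _)) (hg _ _)) (hg _ _), ?_⟩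
  rw [w4F, Facts.w4, S.T.sig_mul _ (mul_mem (mul_mem (hg _ _) (hg _ _)) (hg _ _)) _ (hg _ _),
    S.T.sig_mul _ (mul_mem (hg _ _) (hg _ _)) _ (hg _ _), S.T.sig_mul _ (hg _ _) _ (hg _ _)]
  have e := factsF4.b2_reorder S.h2 hok (t ^ 2 ^ m) t (u ^ (2 * 2 ^ m * 2 ^ m))
    (t * t ^ (2 * 2 ^ m) + u ^ (2 * 2 ^ m))
  have hu : u ^ (2 * 2 ^ m * 2 ^ m) = u := by rw [pow_mul]; exact (S.pow_twist u).2
  have hfin : factsF4.w4 a b c d (t ^ 2 ^ m) t (t ^ 2 ^ m * t + u ^ (2 * 2 ^ m * 2 ^ m))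
      (t ^ 2 ^ m * t ^ 2 ^ m * t + (t * t ^ (2 * 2 ^ m) + u ^ (2 * 2 ^ m))) =
      factsF4.w4 a b c d (t ^ 2 ^ m) t (t ^ (2 ^ m + 1) + u) (u ^ (2 * 2 ^ m)) := by
    congr 1
    · rw [hu, pow_succ]
    · rw [← add_assoc, show t ^ 2 ^ m * t ^ 2 ^ m * t + t * t ^ (2 * 2 ^ m) = 2 * (t * t ^ (2 * 2 ^ m)) by ring,
        S.h2, zero_mul, zero_add]
  rw [hfin] at e
  refine Eq.trans ?_ e
  have h1 : ((t ^ 2 ^ m) ^ 2 ^ m) ^ 2 = t := by
    rw [← pow_mul (t ^ 2 ^ m), mul_comm]; exact (S.pow_twist t).1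
  have h2' : ((t ^ (2 ^ m + 1) + u) ^ 2 ^ m) ^ 2 = t * t ^ (2 * 2 ^ m) + u ^ (2 * 2 ^ m) := by
    rw [← S.hfr, map_add, S.hfr, S.hfr, add_sq, S.h2, zero_mul, zero_mul, add_zero]
    congr 1
    · calc ((t ^ (2 ^ m + 1)) ^ 2 ^ m) ^ 2 = t ^ (2 ^ m * 2 ^ m * 2) * t ^ (2 * 2 ^ m) := by
            rw [← pow_mul, ← pow_mul, ← pow_add]
            congr 1
            ring
        _ = _ := by rw [pow_mul, pow_mul, h1]
    · rw [← pow_mul, mul_comm]
  have hE : (u ^ (2 * 2 ^ m)) ^ 2 ^ m = u ^ (2 * 2 ^ m * 2 ^ m) := (pow_mul _ _ _).symm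
  rcases h with ⟨rfl, rfl, rfl, rfl⟩ | ⟨rfl, rfl, rfl, rfl⟩ <;>
    simp only [S.sig_xg (show 27 < 48 by norm_num), S.sig_xg (show 25 < 48 by norm_num),
      S.sig_xg (show 28 < 48 by norm_num), S.sig_xg (show 30 < 48 by norm_num),
      S.sig_xg (show 20 < 48 by norm_num), S.sig_xg (show 22 < 48 by norm_num),
      S.sig_xg (show 19 < 48 by norm_num), S.sig_xg (show 17 < 48 by norm_num)] <;>
    simp [RMap.img, RMap.sign, RMap.expo, graphF4, h1, h2', hE]

omit S in
theorem mem_twisted {w : List (ℕ × K)} (hw : w ∈ f4Words K (2 ^ m)) :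
    factsF4.wg w ∈ twistedF4 K (2 ^ m) :=
  Subgroup.subset_closure ⟨w, hw, factsF4.coe_wg w⟩

theorem pair_mem {L : List ℕ} (h : L ∈ ([[33, 24], [14, 23]] : List (List ℕ))) (t : K) :
    (factsF4.sys K).prodOver L (cP m t) ∈ twistedF4 K (2 ^ m) := by
  simp only [List.mem_cons, List.not_mem_nil, or_false] at h
  rcases h with rfl | rfl
  · have h := mem_twisted (m := m) (w := f4PairWord (2 ^ m) f4p1 f4p4 t) (Or.inl ⟨t, Or.inl rfl⟩)
    simpa [f4PairWord, f4p1, f4p4, Facts.wg, CommSys.prodOver, Facts.sys_x, cP] using h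
  · have h := mem_twisted (m := m) (w := f4PairWord (2 ^ m) f4m1 f4m4 t) (Or.inl ⟨t, Or.inr rfl⟩)
    simpa [f4PairWord, f4m1, f4m4, Facts.wg, CommSys.prodOver, Facts.sys_x, cP] using h

theorem b2_mem {a b c d : ℕ} (h : (a = 27 ∧ b = 25 ∧ c = 28 ∧ d = 30) ∨ (a = 20 ∧ b = 22 ∧ c = 19 ∧ d = 17))
    (t u : K) : S.w4F a b c d t u ∈ twistedF4 K (2 ^ m) := by
  rcases h with ⟨rfl, rfl, rfl, rfl⟩ | ⟨rfl, rfl, rfl, rfl⟩
  · have h := mem_twisted (m := m) (w := b2ClassWord (2 ^ m) f4a f4b f4ab f4aab t u) (Or.inr ⟨t, u, Or.inl rfl⟩)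
    simpa [b2ClassWord, f4a, f4b, f4ab, f4aab, Facts.wg, w4F, Facts.w4, mul_assoc] using h
  · have h := mem_twisted (m := m) (w := b2ClassWord (2 ^ m) f4ma f4mb f4mab f4maab t u) (Or.inr ⟨t, u, Or.inr rfl⟩)
    simpa [b2ClassWord, f4ma, f4mb, f4mab, f4maab, Facts.wg, w4F, Facts.w4, mul_assoc] using h

theorem le_fix : twistedF4 K (2 ^ m) ≤ S.T.fix := by
  refine (Subgroup.closure_le _).2 ?_
  rintro g ⟨w, hw, hg⟩
  rw [show g = factsF4.wg w from Units.ext (by rw [hg, factsF4.coe_wg])]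
  rcases hw with ⟨t, rfl | rfl⟩ | ⟨t, u, rfl | rfl⟩
  · simpa [f4PairWord, f4p1, f4p4, Facts.wg, CommSys.prodOver, Facts.sys_x, cP] using
      S.pair_fix (L := [33, 24]) (by simp) t
  · simpa [f4PairWord, f4m1, f4m4, Facts.wg, CommSys.prodOver, Facts.sys_x, cP] using
      S.pair_fix (L := [14, 23]) (by simp) t
  · simpa [b2ClassWord, f4a, f4b, f4ab, f4aab, Facts.wg, w4F, Facts.w4, mul_assoc] using
      S.b2_fix (Or.inl ⟨rfl, rfl, rfl, rfl⟩) t u
  · simpa [b2ClassWord, f4ma, f4mb, f4mab, f4maab, Facts.wg, w4F, Facts.w4, mul_assoc] using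
      S.b2_fix (Or.inr ⟨rfl, rfl, rfl, rfl⟩) t u

theorem hOs : okOrbits chevF4 S.T.R S.T.σ Os = true := by rw [S.hR, S.hs]; exact okOrbits_Os

theorem closed {ω : List (Fin chevF4.rank)} (hω : ω ∈ Os) :
    ClosedList chevF4 (orbL chevF4 (ω.map Fin.val)) := by
  rw [← S.T.invList_wO S.hOs hω]; exact TorusSys.closed_invList _

theorem fix_pair {x : GL chevF4.Idx K} (hcl : ClosedList chevF4 [24, 33])
    (hx : x ∈ (factsF4.tsys K).US [24, 33]) (hf : x ∈ S.T.fix) :
    ∃ s : K, x = (factsF4.sys K).prodOver [33, 24] (cP m s) := by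
  have hk := S.pairOk (L := [24, 33]) (by simp)
  obtain ⟨t, rfl, ht⟩ := S.T.fix_US hcl hk.1 hk.2 hx hf
  have h24 := ht 24 (by simp)
  rw [S.hfr, S.hR, show graphF4.img 24 = 33 from rfl, show graphF4.expo 24 = 1 from rfl, pow_one] at h24
  refine ⟨t 24, ?_⟩
  rw [factsF4.prodOver_perm (L := [24, 33]) (L' := [33, 24]) hk.1 (List.Perm.swap _ _ _) t]
  simp [CommSys.prodOver, Facts.sys_x, cP, h24]

theorem w4F_mem_US (t u : K) : S.w4F 27 25 28 30 t u ∈ (factsF4.tsys K).US [25, 27, 28, 30] := by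
  have h : ∀ r ∈ ([25, 27, 28, 30] : List ℕ), ∀ z : K, factsF4.xg r z ∈ (factsF4.tsys K).US [25, 27, 28, 30] :=
    fun r hr z => CommSys.x_mem_US _ hr z
  exact mul_mem (mul_mem (mul_mem (h _ (by simp) _) (h _ (by simp) _)) (h _ (by simp) _)) (h _ (by simp) _)

theorem w4_eq_prodOver (A B C E : K) :
    factsF4.w4 27 25 28 30 A B C E = (factsF4.sys K).prodOver [25, 27, 28, 30]
      (fun r => if r = 25 then B else if r = 27 then A else if r = 28 then A * B + C else A * A * B + E) := by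
  have h := factsF4.b2_swap S.h2 okB2_pos A B
  obtain ⟨hcd, -, -, -, -⟩ := factsF4.b2_commute S.h2 okB2_pos (F := K)
  simp only [CommSys.prodOver, List.map_cons, List.map_nil, List.prod_cons, List.prod_nil, Facts.sys_x, mul_one,
    if_true, show (27 : ℕ) ≠ 25 by norm_num, if_false, show (28 : ℕ) ≠ 25 by norm_num,
    show (28 : ℕ) ≠ 27 by norm_num, show (30 : ℕ) ≠ 25 by norm_num, show (30 : ℕ) ≠ 27 by norm_num,
    show (30 : ℕ) ≠ 28 by norm_num]
  rw [← mul_assoc, h, Facts.w4, Facts.w4, Facts.xg_add, Facts.xg_add]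
  have hz : ∀ r, ∀ z : K, factsF4.xg r z * factsF4.xg r z = 1 := fun r z => by
    rw [← Facts.xg_add, ← two_mul, S.h2, zero_mul]
    exact factsF4.xg_zero r
  generalize factsF4.xg 27 A * factsF4.xg 25 B = P
  symm
  calc P * factsF4.xg 28 (A * B) * factsF4.xg 30 (A * A * B) *
        (factsF4.xg 28 (A * B) * factsF4.xg 28 C * (factsF4.xg 30 (A * A * B) * factsF4.xg 30 E))
      = P * (factsF4.xg 28 (A * B) * (factsF4.xg 30 (A * A * B) * factsF4.xg 28 (A * B))) *
          (factsF4.xg 28 C * factsF4.xg 30 (A * A * B)) * factsF4.xg 30 E := by group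
    _ = P * (factsF4.xg 28 (A * B) * (factsF4.xg 28 (A * B) * factsF4.xg 30 (A * A * B))) *
          (factsF4.xg 30 (A * A * B) * factsF4.xg 28 C) * factsF4.xg 30 E := by
        rw [(hcd (A * B) (A * A * B)).eq, (hcd C (A * A * B)).eq]
    _ = P * (factsF4.xg 28 (A * B) * factsF4.xg 28 (A * B)) *
          (factsF4.xg 30 (A * A * B) * factsF4.xg 30 (A * A * B)) * (factsF4.xg 28 C * factsF4.xg 30 E) := by
        group
    _ = _ := by rw [hz, hz, mul_one, mul_one, ← mul_assoc]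

theorem sig_w4 (A B C E : K) :
    S.T.sig (factsF4.w4 27 25 28 30 A B C E) =
      factsF4.w4 27 25 28 30 (B ^ 2 ^ m) ((A ^ 2 ^ m) ^ 2) (B ^ 2 ^ m * (A ^ 2 ^ m) ^ 2 + E ^ 2 ^ m)
        (B ^ 2 ^ m * B ^ 2 ^ m * (A ^ 2 ^ m) ^ 2 + (C ^ 2 ^ m) ^ 2) := by
  have hg : ∀ r t, factsF4.xg r (t : K) ∈ chevF4.group K := fun r t => factsF4.xg_mem_group r t
  rw [Facts.w4, S.T.sig_mul _ (mul_mem (mul_mem (hg _ _) (hg _ _)) (hg _ _)) _ (hg _ _),
    S.T.sig_mul _ (mul_mem (hg _ _) (hg _ _)) _ (hg _ _), S.T.sig_mul _ (hg _ _) _ (hg _ _),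
    ← factsF4.b2_reorder S.h2 okB2_pos]
  simp only [S.sig_xg (show 27 < 48 by norm_num), S.sig_xg (show 25 < 48 by norm_num),
    S.sig_xg (show 28 < 48 by norm_num), S.sig_xg (show 30 < 48 by norm_num)]
  simp [RMap.img, RMap.sign, RMap.expo, graphF4]

theorem fix_b2 {x : GL chevF4.Idx K} (hcl : ClosedList chevF4 [25, 27, 28, 30])
    (hx : x ∈ (factsF4.tsys K).US [25, 27, 28, 30]) (hf : x ∈ S.T.fix) :
    ∃ t u : K, x = S.w4F 27 25 28 30 t u := by
  obtain ⟨c, rfl⟩ := CommSys.exists_prodOver (factsF4.sys K).toCommSys hcl hx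
  have hx' : (factsF4.sys K).prodOver [25, 27, 28, 30] c =
      factsF4.w4 27 25 28 30 (c 27) (c 25) (c 27 * c 25 + c 28) (c 27 * c 27 * c 25 + c 30) := by
    rw [S.w4_eq_prodOver]
    simp [CommSys.prodOver, ← add_assoc, ← two_mul, S.h2]
  have hs := hf.2
  rw [hx', S.sig_w4, S.w4_eq_prodOver, S.w4_eq_prodOver] at hs
  have h27 := factsF4.prodOver_inj hcl hs 27 (by simp)
  have h28 := factsF4.prodOver_inj hcl hs 28 (by simp)
  simp only [show (27 : ℕ) ≠ 25 by norm_num, show (28 : ℕ) ≠ 25 by norm_num,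
    show (28 : ℕ) ≠ 27 by norm_num, if_false, if_true] at h27 h28
  have hcancel : ∀ x y : K, x + (x + y) = y := fun x y => by rw [← add_assoc, ← two_mul, S.h2, zero_mul, zero_add]
  rw [hcancel, hcancel] at h28
  refine ⟨c 25, (c 27 * c 27 * c 25 + c 30) ^ 2 ^ m, ?_⟩
  rw [hx', w4F, pow_succ (c 25), (S.pow_twist (c 27 * c 27 * c 25 + c 30)).1, h27, h28]

/-- The hypotheses of the general theory. -/
def data : TwData S.T Os where
  hOs := S.hOs
  hl := coeff_of_mem (by simp)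
  G1 := twistedF4 K (2 ^ m)
  le_fix := S.le_fix
  q := 2 ^ (2 * m + 1)
  d := 2
  hd := two_ne_zero
  orb_le := fun ω hω x hx => by
    have hm := List.mem_map_of_mem (f := fun ω => orbL chevF4 (ω.map Fin.val)) hω
    have hcl := S.closed hω
    rw [orbLs] at hm
    simp only [List.mem_cons, List.not_mem_nil, or_false] at hm
    obtain ⟨hxL, hxf⟩ := hx
    rcases hm with h | h <;> rw [h] at hxL hcl
    · obtain ⟨a, rfl⟩ := S.fix_pair hcl hxL hxf
      exact S.pair_mem (by simp) a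
    · obtain ⟨t, u, rfl⟩ := S.fix_b2 hcl hxL hxf
      exact S.b2_mem (Or.inl ⟨rfl, rfl, rfl, rfl⟩) t u
  orb_card := fun ω hω => by
    have hm := List.mem_map_of_mem (f := fun ω => orbL chevF4 (ω.map Fin.val)) hω
    have hcl := S.closed hω
    rw [orbLs] at hm
    simp only [List.mem_cons, List.not_mem_nil, or_false] at hm
    rcases hm with h | h <;> rw [h] at hcl ⊢
    · rw [show ([24, 33] : List ℕ).length = 2 from rfl, ← S.hK]
      congr 1
      have hperm : ∀ t : K, (factsF4.sys K).prodOver [33, 24] (cP m t) =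
          (factsF4.sys K).prodOver [24, 33] (cP m t) := fun t =>
        factsF4.prodOver_perm (S.pairOk (L := [33, 24]) (by simp)).1 (List.Perm.swap _ _ _) _
      refine (Nat.card_eq_of_bijective (fun t : K =>
        (⟨(factsF4.sys K).prodOver [33, 24] (cP m t), by
          rw [hperm]; exact CommSys.prodOver_mem _ _ _, S.pair_fix (by simp) t⟩ :
          ↥((factsF4.tsys K).US [24, 33] ⊓ S.T.fix))) ⟨fun t t' htt => ?_, fun x => ?_⟩).symm
      · have h1 := congrArg Subtype.val htt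
        simp only [hperm] at h1
        have := factsF4.prodOver_inj hcl h1 24 (by simp)
        simpa [cP] using this
      · obtain ⟨s, hs⟩ := S.fix_pair hcl x.2.1 x.2.2
        exact ⟨s, Subtype.ext hs.symm⟩
    · rw [show ([25, 27, 28, 30] : List ℕ).length = 2 * 2 from rfl, pow_mul, ← S.hK]
      congr 1
      rw [pow_two, ← Nat.card_prod]
      refine (Nat.card_eq_of_bijective (fun p : K × K =>
        (⟨S.w4F 27 25 28 30 p.1 p.2, S.w4F_mem_US p.1 p.2, S.b2_fix (Or.inl ⟨rfl, rfl, rfl, rfl⟩) p.1 p.2⟩ :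
          ↥((factsF4.tsys K).US [25, 27, 28, 30] ⊓ S.T.fix))) ⟨fun p p' hpp => ?_, fun x => ?_⟩).symm
      · have h1 := congrArg Subtype.val hpp
        simp only [w4F, S.w4_eq_prodOver] at h1
        have h25 := factsF4.prodOver_inj hcl h1 25 (by simp)
        have h28 := factsF4.prodOver_inj hcl h1 28 (by simp)
        simp only [show (28 : ℕ) ≠ 25 by norm_num, show (28 : ℕ) ≠ 27 by norm_num, if_false, if_true] at h25 h28
        rw [h25, pow_succ, ← add_assoc, ← add_assoc] at h28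
        exact Prod.ext h25 (add_left_cancel h28)
      · obtain ⟨t, u, hs⟩ := S.fix_b2 hcl x.2.1 x.2.2
        exact ⟨(t, u), Subtype.ext hs.symm⟩
  neg_exists := fun ω hω => by
    have hn := List.mem_map_of_mem (f := fun ω => Twist.negL chevF4 ω) hω
    rw [negLs] at hn
    have hx : ∀ L : List ℕ, ∀ r ∈ L, ∀ z : K, factsF4.xg r z ∈ (factsF4.tsys K).US L := fun L r hr z =>
      CommSys.x_mem_US _ hr z
    simp only [List.mem_cons, List.not_mem_nil, or_false] at hn
    rcases hn with h | h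
    · have hs := List.mem_map_of_mem (f := fun ω => simples chevF4 ω) hω
      rw [simplesLs] at hs
      simp only [List.mem_cons, List.not_mem_nil, or_false] at hs
      rcases hs with h' | h'
      · have hne := S.T.neg_ne_one S.hOs hω (by rw [h']; decide) (by rw [h']; decide +kernel)
        rw [h'] at hne
        have hv : ([33, 24].map fun r => factsF4.xg (chevF4.neg r) (-1 : K)).prod =
            (factsF4.sys K).prodOver [14, 23] (cP m (1 : K)) := by
          simp [CommSys.prodOver, Facts.sys_x, cP, Facts.neg_eq_self S.h2,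
            show chevF4.neg 33 = 14 from rfl, show chevF4.neg 24 = 23 from rfl]
        refine ⟨_, S.pair_mem (L := [14, 23]) (by simp) 1, hv ▸ hne, ?_⟩
        rw [h]
        simpa [CommSys.prodOver, Facts.sys_x] using mul_mem (hx [23, 14] 14 (by simp) (cP m (1 : K) 14))
          (hx [23, 14] 23 (by simp) (cP m (1 : K) 23))
      · exfalso
        rw [(orbit_match ω hω).1 h] at h'
        exact absurd h' (by decide)
    · refine ⟨_, S.b2_mem (Or.inr ⟨rfl, rfl, rfl, rfl⟩) 0 1, ?_, ?_⟩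
      · intro h1
        have e : S.w4F 20 22 19 17 0 1 = (factsF4.sys K).prodOver [19, 17] (fun _ => 1) := by
          simp [w4F, Facts.w4, CommSys.prodOver, Facts.sys_x, factsF4.xg_zero, zero_pow]
        rw [e] at h1
        have h0 : (factsF4.sys K).prodOver [19, 17] (fun _ => (1 : K)) =
            (factsF4.sys K).prodOver [19, 17] (fun _ => (0 : K)) := h1.trans (by
          simp [CommSys.prodOver, Facts.sys_x, factsF4.xg_zero])
        exact one_ne_zero (factsF4.prodOver_inj_neg negList_pair h0 19 (by simp))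
      · rw [h]
        exact mul_mem (mul_mem (mul_mem (hx _ 20 (by simp) _) (hx _ 22 (by simp) _)) (hx _ 19 (by simp) _))
          (hx _ 17 (by simp) _)

theorem coord : ∀ ω ∈ Os, ∀ i ∈ ω, ∃ x ∈ (factsF4.tsys K).US (orbL chevF4 (ω.map Fin.val)), x ∈ S.T.fix ∧
    ∃ t : ℕ → K, x = (factsF4.sys K).prodOver (orbL chevF4 (ω.map Fin.val)) t ∧ t (chevF4.simple i.val) ≠ 0 := by
  intro ω hω i hi
  have hm := List.mem_map_of_mem (f := fun ω => orbL chevF4 (ω.map Fin.val)) hω
  have hs : chevF4.simple i.val ∈ simples chevF4 ω := List.mem_map_of_mem (f := fun i : Fin chevF4.rank => chevF4.simple i.val) hi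
  have hms := List.mem_map_of_mem (f := fun ω => simples chevF4 ω) hω
  rw [orbLs] at hm
  rw [simplesLs] at hms
  simp only [List.mem_cons, List.not_mem_nil, or_false] at hm hms
  rcases hm with h | h <;> rw [h]
  · refine ⟨_, CommSys.prodOver_mem _ _ fun _ => (1 : K), ?_, fun _ => 1, rfl, one_ne_zero⟩
    exact S.T.prodOver_mem_fix (S.pairOk (L := [24, 33]) (by simp)).1 (S.pairOk (L := [24, 33]) (by simp)).2 _
      fun r _ => by simp
  · refine ⟨S.w4F 27 25 28 30 1 1, S.w4F_mem_US 1 1, S.b2_fix (Or.inl ⟨rfl, rfl, rfl, rfl⟩) 1 1, _,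
      by rw [w4F, S.w4_eq_prodOver], ?_⟩
    rcases hms with h' | h' <;> rw [h'] at hs
    · exfalso
      rw [(orbit_match ω hω).2 h] at h'
      exact absurd h' (by decide)
    · simp only [List.mem_cons, List.not_mem_nil, or_false] at hs
      rcases hs with e | e | e | e <;> rw [e] <;> simp

end Setup

end Cfsg.Agent.Lie.F4
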