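import Cfsg.Agent.Lib.Lie.TwistF4
import Cfsg.Agent.Lib.Lie.TwistTorus
import Cfsg.Agent.Lib.Lie.TorusCerts
import Cfsg.Agent.Lib.Lie.WeylF4

/-!
The torus of the twisted groups of type ²F₄.
-/

set_option autoImplicit false
set_option maxRecDepth 4000

namespace Cfsg.Agent.Lie.F4

open Cfsg.Lie Matrix Twist
open scoped MatrixGroups

instance neZero_rank : NeZero chevF4.rank := ⟨by decide +kernel⟩

theorem node_inv : ∀ j : Fin 4, (σ.symm (j : Fin chevF4.rank)).val = [3, 2, 1, 0].getD j.val 0 := by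
  decide +kernel

theorem expo_simple : ∀ j : Fin 4, graphF4.expo (chevF4.simple j.val) = [2, 2, 1, 1].getD j.val 0 := by
  decide +kernel

theorem cartan_at (r : Fin 48) : (List.finRange 4).map (fun m : Fin 4 => chevF4.cartan m.val r.val) =
    wList chevF4 r.val := by
  rw [wList]
  exact List.ext_getElem (by simp; rfl) fun k h1 h2 => by simp

variable {K : Type*} [Field K] [Fintype K] {m : ℕ}

omit [Fintype K] in
theorem torChar_eval (c : Fin chevF4.rank → Kˣ) {r : ℕ} (hr : r < 48) {v : List ℤ} (hv : wList chevF4 r = v) :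
    torChar chevF4 c r = (List.zipWith (fun u e => u ^ e) [c 0, c 1, c 2, c 3] v).prod := by
  have h1 : torChar chevF4 c r = ((List.finRange 4).map (fun m : Fin 4 => c m ^ chevF4.cartan m.val r)).prod :=
    ((congrArg List.prod (List.ofFn_eq_map (f := fun m : Fin 4 => c m ^ chevF4.cartan m.val r))).symm.trans
      List.prod_ofFn).symm
  rw [h1, ← hv, ← cartan_at ⟨r, hr⟩]
  rfl

theorem smul_B2 : ([0, 1, 2, 3].map fun i => (actR chevF4 [1, 2, 1, 2] (chevF4.simple i),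
      wList chevF4 (chevF4.simple i), wList chevF4 (actR chevF4 [1, 2, 1, 2] (chevF4.simple i)))) =
    [(37, [2, -1, 0, 0], [0, 1, 0, -1]), (20, [-1, 2, -1, 0], [1, -2, 1, 0]),
      (22, [0, -2, 2, -1], [0, 2, -2, 1]), (32, [0, 0, -1, 2], [-2, 0, 1, 0])] := by
  decide +kernel

theorem b2_mem_Os : fnodes chevF4 [1, 2, 1, 2] ∈ Os := List.mem_map.2 ⟨[1, 2, 1, 2], by simp, rfl⟩

namespace Setup

variable (S : Setup K m)

include S

/-- Coordinates of fixed torus elements. -/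
def crd (S : Setup K m) (t u : Kˣ) : Fin chevF4.rank → Kˣ := ![t ^ 2 ^ m, u ^ 2 ^ m, u, t]

theorem twc_apply (c : Fin chevF4.rank → Kˣ) :
    S.T.twc c = ![c 3 ^ 2 ^ m, c 2 ^ 2 ^ m, (c 1 ^ 2 ^ m) ^ 2, (c 0 ^ 2 ^ m) ^ 2] := by
  funext j
  apply Units.ext
  have hj : σ.symm j = (⟨[3, 2, 1, 0].getD j.val 0 % chevF4.rank, Nat.mod_lt _ (by decide +kernel)⟩ :
      Fin chevF4.rank) := by
    apply Fin.ext
    rw [node_inv j]
    match j with
    | ⟨0, _⟩ => rfl
    | ⟨1, _⟩ => rfl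
    | ⟨2, _⟩ => rfl
    | ⟨3, _⟩ => rfl
  rw [S.T.twc_val, S.hfr, S.hs, S.hR, hj]
  match j with
  | ⟨0, _⟩ => exact pow_one _
  | ⟨1, _⟩ => exact pow_one _
  | ⟨2, _⟩ => rfl
  | ⟨3, _⟩ => rfl

theorem crd_fixed (t u : Kˣ) : S.T.twc (S.crd t u) = S.crd t u := by
  have hp : ∀ x : Kˣ, ((x ^ 2 ^ m) ^ 2 ^ m) ^ 2 = x := fun x => Units.ext (by
    rw [← pow_mul (x ^ 2 ^ m), mul_comm, Units.val_pow_eq_pow_val, Units.val_pow_eq_pow_val]
    exact (S.pow_twist (x : K)).1)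
  rw [S.twc_apply]
  funext j
  match j with
  | ⟨0, _⟩ => rfl
  | ⟨1, _⟩ => rfl
  | ⟨2, _⟩ => exact hp u
  | ⟨3, _⟩ => exact hp t

theorem exists_crd {h : GL chevF4.Idx K} (hd : h ∈ chevF4.diagonalSubgroup K) (hf : h ∈ S.T.fix) :
    ∃ t u : Kˣ, h = torus chevF4 K (S.crd t u) := by
  obtain ⟨c, rfl, hc⟩ := S.T.fix_torus hd hf
  have e := factsF4.torus_injective (F := K) kerCertF4 ((factsF4.torus_eq_iff (S.T.twc c) c).2 hc)
  refine ⟨c 3, c 2, congrArg _ ?_⟩
  rw [S.twc_apply] at e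
  funext j
  match j with
  | ⟨0, _⟩ => exact (congrFun e 0).symm
  | ⟨1, _⟩ => exact (congrFun e 1).symm
  | ⟨2, _⟩ => rfl
  | ⟨3, _⟩ => rfl

theorem pair_torus_mem (t : Kˣ) : torus chevF4 K (S.crd t 1) ∈ twistedF4 K (2 ^ m) := by
  have hn : ∀ x : K, ([33, 24].map fun r => factsF4.xg (chevF4.neg r) (-(cP m x r)⁻¹)).prod =
      (factsF4.sys K).prodOver [14, 23] (cP m x⁻¹) := fun x => by
    simp [CommSys.prodOver, Facts.sys_x, cP, Facts.neg_eq_self S.h2, inv_pow,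
      show chevF4.neg 33 = 14 from rfl, show chevF4.neg 24 = 23 from rfl]
  have h := factsF4.prod_hg_mem (L := [33, 24]) (by decide) (by decide +kernel) (twistedF4 K (2 ^ m))
    (cP m (t : K)) (S.pair_mem (by simp) _) (by rw [hn]; exact S.pair_mem (by simp) _)
    (by simpa [CommSys.prodOver, Facts.sys_x, cP, Facts.neg_eq_self S.h2] using S.pair_mem (L := [33, 24]) (by simp) (1 : K))
    (by simpa [CommSys.prodOver, Facts.sys_x, cP, Facts.neg_eq_self S.h2, show chevF4.neg 33 = 14 from rfl,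
      show chevF4.neg 24 = 23 from rfl] using S.pair_mem (L := [14, 23]) (by simp) (1 : K))
  have e : S.crd t 1 = Pi.mulSingle 0 (t ^ 2 ^ m) * Pi.mulSingle 3 t := by
    funext j
    match j with
    | ⟨0, _⟩ => show t ^ 2 ^ m = t ^ 2 ^ m * 1; simp
    | ⟨1, _⟩ => show (1 : Kˣ) ^ 2 ^ m = 1 * 1; simp
    | ⟨2, _⟩ => show (1 : Kˣ) = 1 * 1; simp
    | ⟨3, _⟩ => show t = 1 * t; simp
  rw [e, map_mul, factsF4.torus_single, factsF4.torus_single]
  simp [cP] at h
  rw [← Units.val_pow_eq_pow_val] at h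
  exact h

theorem B2_torus_mem (t : Kˣ) :
    torus chevF4 K (S.crd t (t ^ (2 * 2 ^ m + 2))) ∈ twistedF4 K (2 ^ m) := by
  obtain ⟨a, ha, hn⟩ := S.data.exists_nO b2_mem_Os
  have hinv : (S.T.wO (fnodes chevF4 [1, 2, 1, 2]))⁻¹ = S.T.wO (fnodes chevF4 [1, 2, 1, 2]) :=
    inv_eq_of_mul_eq_one_left (S.T.wO_sq S.hOs b2_mem_Os)
  have h := factsF4.torus_conj_nW (F := K) ha (S.T.wO (fnodes chevF4 [1, 2, 1, 2])) (S.crd t 1)
    (S.crd t (t ^ (2 * 2 ^ m + 2))) (fun i => ?_)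
  · rw [← h]
    exact mul_mem (mul_mem hn (S.pair_torus_mem t)) (inv_mem hn)
  rw [hinv, Twist.wO, factsF4.pr_smul_val]
  have key : ∀ i : Fin 4, torChar chevF4 (S.crd t (t ^ (2 * 2 ^ m + 2))) (chevF4.simple i.val) =
      torChar chevF4 (S.crd t 1) (actR chevF4 [1, 2, 1, 2] (chevF4.simple i.val)) := by
    intro i
    have hs := smul_B2
    simp only [List.map_cons, List.map_nil, List.cons.injEq, Prod.mk.injEq, and_true] at hs
    obtain ⟨⟨a0, b0, c0⟩, ⟨a1, b1, c1⟩, ⟨a2, b2, c2⟩, a3, b3, c3⟩ := hs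
    have ht : (t : K) ≠ 0 := t.ne_zero
    have hX : (t : K) ^ 2 ^ m ≠ 0 := pow_ne_zero _ ht
    have hu : ((t : K) ^ (2 * 2 ^ m + 2)) = ((t : K) ^ 2 ^ m) ^ 2 * (t : K) ^ 2 := by
      rw [← pow_mul, ← pow_add, mul_comm]
    have hue : ((t : K) ^ (2 * 2 ^ m + 2)) ^ 2 ^ m = ((t : K) ^ 2 ^ m) ^ 2 * (t : K) := by
      rw [hu, mul_pow, mul_comm]
      congr 1
      · rw [← pow_mul, ← pow_mul, mul_comm]
      · rw [← pow_mul ((t : K) ^ 2 ^ m)]
        exact (S.pow_twist (t : K)).1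
    rw [hu] at hue
    match i with
    | ⟨0, _⟩ =>
      show torChar chevF4 _ (chevF4.simple 0) = torChar chevF4 _ (actR chevF4 [1, 2, 1, 2] (chevF4.simple 0))
      rw [torChar_eval _ (by decide +kernel) b0, torChar_eval _ (by decide +kernel) c0]
      apply Units.ext
      simp [crd, hu, hue]
      field_simp
      try rw [hue]
      try ring
    | ⟨1, _⟩ =>
      show torChar chevF4 _ (chevF4.simple 1) = torChar chevF4 _ (actR chevF4 [1, 2, 1, 2] (chevF4.simple 1))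
      rw [torChar_eval _ (by decide +kernel) b1, torChar_eval _ (by decide +kernel) c1]
      apply Units.ext
      simp [crd, hu, hue]
      field_simp
      try rw [hue]
      try ring
    | ⟨2, _⟩ =>
      show torChar chevF4 _ (chevF4.simple 2) = torChar chevF4 _ (actR chevF4 [1, 2, 1, 2] (chevF4.simple 2))
      rw [torChar_eval _ (by decide +kernel) b2, torChar_eval _ (by decide +kernel) c2]
      apply Units.ext
      simp [crd, hu, hue]
      field_simp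
      try rw [hue]
      try ring
    | ⟨3, _⟩ =>
      show torChar chevF4 _ (chevF4.simple 3) = torChar chevF4 _ (actR chevF4 [1, 2, 1, 2] (chevF4.simple 3))
      rw [torChar_eval _ (by decide +kernel) b3, torChar_eval _ (by decide +kernel) c3]
      apply Units.ext
      simp [crd, hu, hue]
      field_simp
      try rw [hue]
      try ring
  exact key i

theorem coprime_exp : (Nat.card Kˣ).Coprime (2 * 2 ^ m + 2) := by
  have hq : Nat.card Kˣ = 2 * 2 ^ m * 2 ^ m - 1 := by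
    rw [Nat.card_units, S.hK, show 2 * m + 1 = 1 + m + m by omega, pow_add, pow_add, pow_one]
  rw [hq]
  generalize he : 2 ^ m = e
  have he1 : 1 ≤ e := he ▸ Nat.one_le_two_pow
  refine Nat.Coprime.symm ?_
  rw [show 2 * e + 2 = 2 * (e + 1) by ring]
  have h1 : 1 ≤ 2 * e * e := by nlinarith
  refine Nat.Coprime.mul_left ?_ ?_
  · rw [Nat.Prime.coprime_iff_not_dvd Nat.prime_two]
    intro hd
    have : 2 ∣ 2 * e * e := Dvd.intro (e * e) (by ring)
    omega
  · have e1 : (2 * e * e - 1) + 2 * (e + 1) * 1 = 2 * e * (e + 1) + 1 := by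
      zify [h1]; ring
    rw [Nat.coprime_iff_gcd_eq_one]
    apply Nat.eq_one_of_dvd_one
    have hd1 := Nat.gcd_dvd_left (e + 1) (2 * e * e - 1)
    have hd2 := Nat.gcd_dvd_right (e + 1) (2 * e * e - 1)
    have hA : Nat.gcd (e + 1) (2 * e * e - 1) ∣ 2 * e * (e + 1) + 1 := by
      rw [← e1]
      exact dvd_add hd2 ((hd1.mul_left 2).mul_right 1)
    exact (Nat.dvd_add_right (hd1.mul_left (2 * e))).1 hA

theorem torus_mem (t u : Kˣ) : torus chevF4 K (S.crd t u) ∈ twistedF4 K (2 ^ m) := by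
  obtain ⟨s, hs⟩ := (powCoprime S.coprime_exp).surjective u
  have hs' : s ^ (2 * 2 ^ m + 2) = u := hs
  have e : S.crd t u = S.crd (t * s⁻¹) 1 * S.crd s (s ^ (2 * 2 ^ m + 2)) := by
    rw [hs']
    funext j
    match j with
    | ⟨0, _⟩ => show t ^ 2 ^ m = (t * s⁻¹) ^ 2 ^ m * s ^ 2 ^ m; rw [← mul_pow, inv_mul_cancel_right]
    | ⟨1, _⟩ => show u ^ 2 ^ m = 1 ^ 2 ^ m * u ^ 2 ^ m; rw [one_pow, one_mul]
    | ⟨2, _⟩ => show u = 1 * u; rw [one_mul]
    | ⟨3, _⟩ => show t = t * s⁻¹ * s; rw [inv_mul_cancel_right]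
  rw [e, map_mul]
  exact mul_mem (S.pair_torus_mem _) (S.B2_torus_mem _)

theorem card_H : Nat.card ↥(chevF4.diagonalSubgroup K ⊓ twistedF4 K (2 ^ m)) = (2 ^ (2 * m + 1) - 1) ^ 2 := by
  rw [pow_two, ← S.hK, ← Nat.card_units, ← Nat.card_prod]
  refine (Nat.card_eq_of_bijective (fun p : Kˣ × Kˣ =>
    (⟨torus chevF4 K (S.crd p.1 p.2), by rw [factsF4.diagonalSubgroup_eq]; exact ⟨_, rfl⟩, S.torus_mem p.1 p.2⟩ :
      ↥(chevF4.diagonalSubgroup K ⊓ twistedF4 K (2 ^ m)))) ⟨fun p p' h => ?_, fun g => ?_⟩).symm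
  · have e := factsF4.torus_injective (F := K) kerCertF4 (congrArg Subtype.val h)
    exact Prod.ext (congrFun e 3) (congrFun e 2)
  · obtain ⟨t, u, hh⟩ := S.exists_crd g.2.1 (S.le_fix g.2.2)
    exact ⟨(t, u), Subtype.ext hh.symm⟩

end Setup

end Cfsg.Agent.Lie.F4
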