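import Cfsg.Agent.Lib.Lie.TwistG2Rel
import Cfsg.Agent.Lib.Lie.TwistFrob
import Cfsg.Agent.Lib.Lie.GraphTables
import Cfsg.Agent.Lib.Lie.NegList
import Cfsg.Agent.Lib.Lie.TwistPair
import Cfsg.Prelude.Def_LieTwisted

/-!
The twisted groups of type ²G₂.
-/

set_option autoImplicit false
set_option maxRecDepth 4000

namespace Cfsg.Agent.Lie.G2

open Cfsg.Lie Matrix Twist
open scoped MatrixGroups

/-- The single orbit of nodes, as a word. -/
def Os : List (List (Fin chevG2.rank)) := [[0, 1, 0, 1, 0, 1]].map (fnodes chevG2)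

/-- The permutation of nodes. -/
def σ : Equiv.Perm (Fin chevG2.rank) := nodePerm chevG2 [1, 0] [1, 0] (by decide +kernel)

theorem okTwist_σ : okTwist chevG2 graphG2 σ = true := by decide +kernel

theorem okOrbits_Os : okOrbits chevG2 graphG2 σ Os = true := by decide +kernel

theorem orbLs : Os.map (fun ω => orbL chevG2 (ω.map Fin.val)) = [[6, 7, 8, 9, 10, 11]] := by
  decide +kernel

theorem negLs : Os.map (fun ω => Twist.negL chevG2 ω) = [[5, 4, 3, 2, 1, 0]] := by decide +kernel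

theorem simplesLs : Os.map (fun ω => simples chevG2 ω) = [[7, 6, 7, 6, 7, 6]] := by decide +kernel

theorem negList_two : NegList chevG2 [2, 0] where
  sorted := by decide +kernel
  mem_neg := by decide +kernel
  closed := by decide +kernel

/-- The roots a, b, a+b, 2a+b, 3a+b, 3a+2b. -/
def posR : Fin 6 → ℕ := ![7, 6, 8, 9, 10, 11]

/-- Their negatives. -/
def negR : Fin 6 → ℕ := ![4, 5, 3, 2, 1, 0]

/-- The commuting pairs. -/
def cpairs : List (Fin 6 × Fin 6) :=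
  [(0, 3), (0, 4), (0, 5), (1, 2), (1, 3), (1, 5), (2, 3), (2, 4), (2, 5), (3, 4), (3, 5), (4, 5)]

/-- Two roots whose root subgroups commute in characteristic 3. -/
def okPair (a b : ℕ) : Bool :=
  decide (a < 12) && decide (b < 12) && b != a && b != chevG2.neg a &&
    (chevG2.commTerms a b).all fun e => e.2.1 % 3 == 0

theorem okPairs_pos : cpairs.all (fun p => okPair (posR p.1) (posR p.2)) = true := by decide +kernel

theorem okPairs_neg : cpairs.all (fun p => okPair (negR p.1) (negR p.2)) = true := by decide +kernel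

variable {K : Type*} [Field K]

theorem three_cast (h3 : (3 : K) = 0) {z : ℤ} (hz : z % 3 = 0) : (z : K) = 0 := by
  obtain ⟨k, rfl⟩ := Int.dvd_of_emod_eq_zero hz
  push_cast
  rw [h3, zero_mul]

theorem xg_commute_three (h3 : (3 : K) = 0) {a b : ℕ} (h : okPair a b = true) (t u : K) :
    Commute (factsG2.xg a t) (factsG2.xg b u) := by
  simp only [okPair, Bool.and_eq_true, decide_eq_true_eq, bne_iff_ne, List.all_eq_true, beq_iff_eq] at h
  obtain ⟨⟨⟨⟨ha, hb⟩, hne⟩, hne'⟩, he⟩ := h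
  have hc := (factsG2.sys K).x_comm a b ha hb hne hne' t u
  simp only [Facts.sys_x] at hc
  rw [List.prod_eq_one fun g hg => ?_, mul_one] at hc
  · exact hc.symm
  · obtain ⟨p, hp, rfl⟩ := List.mem_map.1 hg
    rw [ChevalleyDatum.commWord, List.mem_map] at hp
    obtain ⟨e, hem, rfl⟩ := hp
    simp only [three_cast h3 (he e hem), zero_mul]
    exact factsG2.xg_zero _

theorem terms_pos : chevG2.commTerms 7 6 = [(8, -1, 1, 1), (9, 1, 2, 1), (10, 1, 3, 1), (11, 1, 3, 2)] ∧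
    chevG2.commTerms 7 8 = [(9, -2, 1, 1), (10, -3, 2, 1), (11, 3, 1, 2)] ∧
    chevG2.commTerms 6 10 = [(11, 1, 1, 1)] := by decide +kernel

theorem terms_neg : chevG2.commTerms 4 5 = [(3, 1, 1, 1), (2, 1, 2, 1), (1, -1, 3, 1), (0, 1, 3, 2)] ∧
    chevG2.commTerms 4 3 = [(2, 2, 1, 1), (1, -3, 2, 1), (0, 3, 1, 2)] ∧
    chevG2.commTerms 5 1 = [(0, -1, 1, 1)] := by decide +kernel

/-- The positive root subgroups. -/
noncomputable def posRel (h3 : (3 : K) = 0) : G2Rel (GL chevG2.Idx K) K where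
  y i t := factsG2.xg (posR i) t
  h3 := h3
  add i s t := factsG2.xg_add _ s t
  comm p hp s t := xg_commute_three h3 (List.all_eq_true.1 okPairs_pos p hp) s t
  ba t u := by
    have h := (factsG2.sys K).x_comm 7 6 (by decide) (by decide) (by decide) (by decide) t u
    simp only [Facts.sys_x, ChevalleyDatum.commWord, terms_pos.1, List.map_cons, List.map_nil,
      List.prod_cons, List.prod_nil, mul_one] at h
    rw [show ((-1 : ℤ) : K) * (-t) ^ 1 * u ^ 1 = t * u by push_cast; ring,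
      show ((1 : ℤ) : K) * (-t) ^ 2 * u ^ 1 = t * t * u by push_cast; ring,
      show ((1 : ℤ) : K) * (-t) ^ 3 * u ^ 1 = -(t * t * t * u) by push_cast; ring,
      show ((1 : ℤ) : K) * (-t) ^ 3 * u ^ 2 = -(t * t * t * u * u) by push_cast; ring] at h
    show factsG2.xg 6 u * factsG2.xg 7 t = factsG2.xg 7 t * factsG2.xg 6 u * factsG2.xg 8 (t * u) *
      factsG2.xg 9 (t * t * u) * factsG2.xg 10 (-(t * t * t * u)) * factsG2.xg 11 (-(t * t * t * u * u))
    rw [h]
    simp only [mul_assoc]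
  ca t u := by
    have h := (factsG2.sys K).x_comm 7 8 (by decide) (by decide) (by decide) (by decide) t u
    simp only [Facts.sys_x, ChevalleyDatum.commWord, terms_pos.2.1, List.map_cons, List.map_nil,
      List.prod_cons, List.prod_nil, mul_one] at h
    show factsG2.xg 8 u * factsG2.xg 7 t = factsG2.xg 7 t * factsG2.xg 8 u * factsG2.xg 9 (-(t * u))
    rw [h]
    congr 1
    rw [three_cast h3 (show (-3 : ℤ) % 3 = 0 by decide), three_cast h3 (show (3 : ℤ) % 3 = 0 by decide)]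
    simp only [zero_mul, factsG2.xg_zero, mul_one]
    congr 1
    push_cast
    linear_combination (t * u) * h3
  eb t u := by
    have h := (factsG2.sys K).x_comm 6 10 (by decide) (by decide) (by decide) (by decide) t u
    simp only [Facts.sys_x, ChevalleyDatum.commWord, terms_pos.2.2, List.map_cons, List.map_nil,
      List.prod_cons, List.prod_nil, mul_one] at h
    show factsG2.xg 10 u * factsG2.xg 6 t = _
    rw [h]
    congr 2
    push_cast; ring

/-- The negative root subgroups. -/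
noncomputable def negRel (h3 : (3 : K) = 0) : G2Rel (GL chevG2.Idx K) K where
  y i t := factsG2.xg (negR i) (-t)
  h3 := h3
  add i s t := by rw [neg_add, factsG2.xg_add]
  comm p hp s t := xg_commute_three h3 (List.all_eq_true.1 okPairs_neg p hp) (-s) (-t)
  ba t u := by
    have h := (factsG2.sys K).x_comm 4 5 (by decide) (by decide) (by decide) (by decide) (-t) (-u)
    simp only [Facts.sys_x, ChevalleyDatum.commWord, terms_neg.1, List.map_cons, List.map_nil,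
      List.prod_cons, List.prod_nil, mul_one] at h
    rw [show ((1 : ℤ) : K) * (- -t) ^ 1 * (-u) ^ 1 = -(t * u) by push_cast; ring,
      show ((1 : ℤ) : K) * (- -t) ^ 2 * (-u) ^ 1 = -(t * t * u) by push_cast; ring,
      show ((-1 : ℤ) : K) * (- -t) ^ 3 * (-u) ^ 1 = - -(t * t * t * u) by push_cast; ring,
      show ((1 : ℤ) : K) * (- -t) ^ 3 * (-u) ^ 2 = - -(t * t * t * u * u) by push_cast; ring] at h
    show factsG2.xg 5 (-u) * factsG2.xg 4 (-t) = factsG2.xg 4 (-t) * factsG2.xg 5 (-u) *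
      factsG2.xg 3 (-(t * u)) * factsG2.xg 2 (-(t * t * u)) * factsG2.xg 1 (- -(t * t * t * u)) *
      factsG2.xg 0 (- -(t * t * t * u * u))
    rw [h]
    simp only [mul_assoc]
  ca t u := by
    have h := (factsG2.sys K).x_comm 4 3 (by decide) (by decide) (by decide) (by decide) (-t) (-u)
    simp only [Facts.sys_x, ChevalleyDatum.commWord, terms_neg.2.1, List.map_cons, List.map_nil,
      List.prod_cons, List.prod_nil, mul_one] at h
    show factsG2.xg 3 (-u) * factsG2.xg 4 (-t) = factsG2.xg 4 (-t) * factsG2.xg 3 (-u) * factsG2.xg 2 (-(-(t * u)))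
    rw [h]
    congr 1
    rw [three_cast h3 (show (-3 : ℤ) % 3 = 0 by decide), three_cast h3 (show (3 : ℤ) % 3 = 0 by decide)]
    simp only [zero_mul, factsG2.xg_zero, mul_one]
    congr 1
    push_cast
    linear_combination -(t * u) * h3
  eb t u := by
    have h := (factsG2.sys K).x_comm 5 1 (by decide) (by decide) (by decide) (by decide) (-t) (-u)
    simp only [Facts.sys_x, ChevalleyDatum.commWord, terms_neg.2.2, List.map_cons, List.map_nil,
      List.prod_cons, List.prod_nil, mul_one] at h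
    show factsG2.xg 1 (-u) * factsG2.xg 5 (-t) = _
    rw [h]
    congr 2
    push_cast; ring

theorem N_pos_eq (h3 : (3 : K) = 0) (A B C D E F : K) :
    (posRel h3).N A B C D E F =
      factsG2.xg 7 A * factsG2.xg 6 B * factsG2.xg 8 C * factsG2.xg 9 D * factsG2.xg 10 E * factsG2.xg 11 F := rfl

theorem prodOver_pos (h3 : (3 : K) = 0) (c : ℕ → K) :
    (factsG2.sys K).prodOver [6, 7, 8, 9, 10, 11] c =
      (posRel h3).N (c 7) (c 6) (c 8 + c 7 * c 6) (c 9 + c 7 * c 7 * c 6) (c 10 - c 7 * c 7 * c 7 * c 6)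
        (c 11 - c 7 * c 7 * c 7 * c 6 * c 6) := by
  have h : (factsG2.sys K).prodOver [6, 7, 8, 9, 10, 11] c =
      (posRel h3).N 0 (c 6) 0 0 0 0 * (posRel h3).N (c 7) 0 (c 8) (c 9) (c 10) (c 11) := by
    simp [CommSys.prodOver, Facts.sys_x, N_pos_eq, factsG2.xg_zero, mul_assoc]
  rw [h, G2Rel.N_mul]
  congr 1 <;> ring

variable [Fintype K] {m : ℕ}

theorem charP_three (hK : Fintype.card K = 3 ^ (2 * m + 1)) : CharP K 3 := by
  obtain ⟨c, hc⟩ := CharP.exists K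
  obtain ⟨n, hc', hcard⟩ := FiniteField.card K c
  have hdvd : c ∣ 3 ^ (2 * m + 1) := by rw [← hK, hcard]; exact dvd_pow_self c n.pos.ne'
  exact ((Nat.prime_dvd_prime_iff_eq hc' Nat.prime_three).1 (hc'.dvd_of_dvd_pow hdvd)) ▸ hc

variable (K) (m) in
/-- Everything needed about the group. -/
structure Setup where
  hK : Nat.card K = 3 ^ (2 * m + 1)
  h3 : (3 : K) = 0
  T : Twist factsG2 K
  hR : T.R = graphG2
  hs : T.σ = σ
  hfr : ∀ t, T.fr t = t ^ 3 ^ m

theorem nonempty_setup (hK : Fintype.card K = 3 ^ (2 * m + 1)) : Nonempty (Setup K m) := by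
  haveI := charP_three hK
  haveI : Fact (Nat.Prime 3) := ⟨Nat.prime_three⟩
  have h3 : (3 : K) = 0 := CharP.cast_eq_zero K 3
  have hperf : ∀ a : K, ∃ b, b ^ 3 = a := fun a =>
    ⟨a ^ 3 ^ (2 * m), by rw [← pow_mul, ← pow_succ, ← hK]; exact FiniteField.pow_card a⟩
  obtain ⟨T, h1, h2', h3', -⟩ := factsG2.exists_twist (modField_prime K 3 hperf) okMap_G2
    (stHyp_of_mem (by simp)) okOrder_G2 (frobenius K 3) (fun t => frobenius_def 3 t) σ okTwist_σ
    (iterateFrobenius K 3 m)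
  exact ⟨⟨by rw [Nat.card_eq_fintype_card, hK], h3, T, h1, h2', fun t => by rw [h3', iterateFrobenius_def]⟩⟩

namespace Setup

variable (S : Setup K m)

include S

theorem pow_full (t : K) : t ^ (3 * 3 ^ m * 3 ^ m) = t := by
  rw [show 3 * 3 ^ m * 3 ^ m = 3 ^ (2 * m + 1) by
    rw [show 2 * m + 1 = 1 + (m + m) by omega, pow_add, pow_add]; ring, ← S.hK, Nat.card_eq_fintype_card]
  exact FiniteField.pow_card t

theorem pow_twist (t : K) : (t ^ 3 ^ m) ^ (3 * 3 ^ m) = t ∧ (t ^ (3 * 3 ^ m)) ^ 3 ^ m = t :=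
  ⟨by rw [← pow_mul, mul_comm, S.pow_full], by rw [← pow_mul, S.pow_full]⟩

theorem add_pow_e (a b : K) : (a + b) ^ (3 * 3 ^ m) = a ^ (3 * 3 ^ m) + b ^ (3 * 3 ^ m) := by
  have : CharP K 3 := charP_three (m := m) (by rw [← Nat.card_eq_fintype_card]; exact S.hK)
  haveI : Fact (Nat.Prime 3) := ⟨Nat.prime_three⟩
  rw [← pow_succ']
  exact add_pow_char_pow a b 3 (m + 1)

theorem sig_xg {r : ℕ} (hr : r < 12) (t : K) :
    S.T.sig (factsG2.xg r t) =
      factsG2.xg (graphG2.img r) ((graphG2.sign r : K) * (t ^ 3 ^ m) ^ graphG2.expo r) := by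
  rw [S.T.sig_x r hr, factsG2.imgX_lt S.T.R hr, S.hR, S.hfr]

theorem posR_mem (i : Fin 6) (t : K) : (posRel S.h3).y i t ∈ chevG2.group K :=
  factsG2.xg_mem_group (posR i) t

theorem negR_mem (i : Fin 6) (t : K) : (negRel S.h3).y i t ∈ chevG2.group K :=
  factsG2.xg_mem_group (negR i) (-t)

theorem sig_pos (A B C D E F : K) :
    S.T.sig ((posRel S.h3).N A B C D E F) =
      (posRel S.h3).N (B ^ 3 ^ m) (A ^ (3 * 3 ^ m)) (B ^ 3 ^ m * A ^ (3 * 3 ^ m) + E ^ 3 ^ m)
        (B ^ 3 ^ m * B ^ 3 ^ m * A ^ (3 * 3 ^ m) + F ^ 3 ^ m)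
        (-(B ^ 3 ^ m * B ^ 3 ^ m * B ^ 3 ^ m * A ^ (3 * 3 ^ m)) + C ^ (3 * 3 ^ m))
        (-(B ^ 3 ^ m * B ^ 3 ^ m * B ^ 3 ^ m * A ^ (3 * 3 ^ m) * A ^ (3 * 3 ^ m)) + D ^ (3 * 3 ^ m)) := by
  refine (posRel S.h3).sig_N (chevG2.group K) S.posR_mem S.T.sig (fun a ha b hb => S.T.sig_mul a ha b hb)
    (fun t => t ^ 3 ^ m) (fun t => t ^ (3 * 3 ^ m)) ?_ ?_ ?_ ?_ ?_ ?_ A B C D E F <;> intro t <;>
    simp [posRel, posR, S.sig_xg, RMap.img, RMap.sign, RMap.expo, graphG2, ← pow_mul, mul_comm]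

theorem sig_neg (A B C D E F : K) :
    S.T.sig ((negRel S.h3).N A B C D E F) =
      (negRel S.h3).N (B ^ 3 ^ m) (A ^ (3 * 3 ^ m)) (B ^ 3 ^ m * A ^ (3 * 3 ^ m) + E ^ 3 ^ m)
        (B ^ 3 ^ m * B ^ 3 ^ m * A ^ (3 * 3 ^ m) + F ^ 3 ^ m)
        (-(B ^ 3 ^ m * B ^ 3 ^ m * B ^ 3 ^ m * A ^ (3 * 3 ^ m)) + C ^ (3 * 3 ^ m))
        (-(B ^ 3 ^ m * B ^ 3 ^ m * B ^ 3 ^ m * A ^ (3 * 3 ^ m) * A ^ (3 * 3 ^ m)) + D ^ (3 * 3 ^ m)) := by
  have ho : Odd (3 ^ m) := (Nat.odd_iff.2 (by decide)).pow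
  have ho' : Odd (3 * 3 ^ m) := (Nat.odd_iff.2 (by decide)).mul ho
  refine (negRel S.h3).sig_N (chevG2.group K) S.negR_mem S.T.sig (fun a ha b hb => S.T.sig_mul a ha b hb)
    (fun t => t ^ 3 ^ m) (fun t => t ^ (3 * 3 ^ m)) ?_ ?_ ?_ ?_ ?_ ?_ A B C D E F <;> intro t <;>
    simp [negRel, negR, S.sig_xg, RMap.img, RMap.sign, RMap.expo, graphG2, ← pow_mul, mul_comm (3 ^ m) 3,
      ho.neg_pow, ho'.neg_pow, (show Odd 3 by decide).neg_pow]

omit S in
/-- The fixed element with parameters t, u, v. -/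
def N3 (R : G2Rel (GL chevG2.Idx K) K) (m : ℕ) (t u v : K) : GL chevG2.Idx K :=
  R.N (t ^ 3 ^ m) t (t ^ (3 ^ m + 1) + u ^ 3 ^ m) (t ^ (2 * 3 ^ m + 1) + v ^ 3 ^ m) u v

theorem N3_arith (t u v : K) :
    (t ^ 3 ^ m) ^ (3 * 3 ^ m) = t ∧
    (t ^ (3 ^ m + 1) + u ^ 3 ^ m) ^ (3 * 3 ^ m) = t ^ (3 * 3 ^ m + 1) + u ∧
    (t ^ (2 * 3 ^ m + 1) + v ^ 3 ^ m) ^ (3 * 3 ^ m) = t ^ (3 * 3 ^ m + 2) + v := by
  refine ⟨(S.pow_twist t).1, ?_, ?_⟩
  · rw [S.add_pow_e, (S.pow_twist u).1, ← pow_mul, show (3 ^ m + 1) * (3 * 3 ^ m) = 3 * 3 ^ m * 3 ^ m + 3 * 3 ^ m by ring,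
      pow_add, S.pow_full, pow_succ']
  · rw [S.add_pow_e, (S.pow_twist v).1, ← pow_mul,
      show (2 * 3 ^ m + 1) * (3 * 3 ^ m) = 3 * 3 ^ m * 3 ^ m * 2 + 3 * 3 ^ m by ring, pow_add, pow_mul, S.pow_full,
      ← pow_add, add_comm 2]

theorem sig_N3 (t u v : K) :
    S.T.sig (N3 (posRel S.h3) m t u v) = N3 (posRel S.h3) m t u v ∧
    S.T.sig (N3 (negRel S.h3) m t u v) = N3 (negRel S.h3) m t u v := by
  obtain ⟨h1, h2, h4⟩ := S.N3_arith t u v
  constructor <;> simp only [N3, sig_pos, sig_neg, h1, h2, h4] <;> congr 1 <;> ring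

theorem pos_fix (t u v : K) : N3 (posRel S.h3) m t u v ∈ S.T.fix := by
  refine ⟨?_, (S.sig_N3 t u v).1⟩
  exact mul_mem (mul_mem (mul_mem (mul_mem (mul_mem (S.posR_mem _ _) (S.posR_mem _ _)) (S.posR_mem _ _))
    (S.posR_mem _ _)) (S.posR_mem _ _)) (S.posR_mem _ _)

theorem neg_fix (t u v : K) : N3 (negRel S.h3) m t u v ∈ S.T.fix := by
  refine ⟨?_, (S.sig_N3 t u v).2⟩
  exact mul_mem (mul_mem (mul_mem (mul_mem (mul_mem (S.negR_mem _ _) (S.negR_mem _ _)) (S.negR_mem _ _))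
    (S.negR_mem _ _)) (S.negR_mem _ _)) (S.negR_mem _ _)

theorem wg_U (t u v : K) : factsG2.wg (reeWordU (3 ^ m) t u v) = N3 (posRel S.h3) m t u v := by
  simp [reeWordU, g2a, g2b, g2ab, g2aab, g2aaab, g2aaabb, Facts.wg, N3, N_pos_eq, mul_assoc]

theorem wg_V (t u v : K) : factsG2.wg (reeWordV (3 ^ m) t u v) = N3 (negRel S.h3) m t u v := by
  simp [reeWordV, ChevalleyDatum.negWord, reeWordU, g2a, g2b, g2ab, g2aab, g2aaab, g2aaabb, Facts.wg, N3,
    G2Rel.N, negRel, negR, mul_assoc, show chevG2.negIdx = #[11, 10, 9, 8, 7, 6, 5, 4, 3, 2, 1, 0] from rfl]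

theorem pos_mem (t u v : K) : N3 (posRel S.h3) m t u v ∈ twistedG2 K (3 ^ m) :=
  Subgroup.subset_closure ⟨_, ⟨t, u, v, Or.inl rfl⟩, by rw [← S.wg_U, factsG2.coe_wg]⟩

theorem neg_mem (t u v : K) : N3 (negRel S.h3) m t u v ∈ twistedG2 K (3 ^ m) :=
  Subgroup.subset_closure ⟨_, ⟨t, u, v, Or.inr rfl⟩, by rw [← S.wg_V, factsG2.coe_wg]⟩

theorem le_fix : twistedG2 K (3 ^ m) ≤ S.T.fix := by
  refine (Subgroup.closure_le _).2 ?_
  rintro g ⟨w, hw, hg⟩
  rw [show g = factsG2.wg w from Units.ext (by rw [hg, factsG2.coe_wg])]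
  obtain ⟨t, u, v, rfl | rfl⟩ := hw
  · rw [S.wg_U]; exact S.pos_fix t u v
  · rw [S.wg_V]; exact S.neg_fix t u v

theorem hOs : okOrbits chevG2 S.T.R S.T.σ Os = true := by rw [S.hR, S.hs]; exact okOrbits_Os

omit S in
theorem closed_pos : ClosedList chevG2 [6, 7, 8, 9, 10, 11] where
  sorted := by decide +kernel
  mem_pos := by decide +kernel
  closed := by decide +kernel

theorem N_inj {A B C D E F A' B' C' D' E' F' : K}
    (h : (posRel S.h3).N A B C D E F = (posRel S.h3).N A' B' C' D' E' F') :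
    A = A' ∧ B = B' ∧ C = C' ∧ D = D' ∧ E = E' ∧ F = F' := by
  have key : ∀ A B C D E F : K, (posRel S.h3).N A B C D E F =
      (factsG2.sys K).prodOver [6, 7, 8, 9, 10, 11] (fun r => if r = 6 then B else if r = 7 then A else
        if r = 8 then C - A * B else if r = 9 then D - A * A * B else if r = 10 then E + A * A * A * B
        else F + A * A * A * B * B) := fun A B C D E F => by
    rw [prodOver_pos S.h3]
    simp
  rw [key, key] at h
  have e := factsG2.prodOver_inj closed_pos h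
  have hB : B = B' := by simpa using e 6 (by simp)
  have hA : A = A' := by simpa using e 7 (by simp)
  subst hA hB
  exact ⟨rfl, rfl, by simpa using e 8 (by simp), by simpa using e 9 (by simp), by simpa using e 10 (by simp),
    by simpa using e 11 (by simp)⟩

theorem N3_inj {t u v t' u' v' : K} (h : N3 (posRel S.h3) m t u v = N3 (posRel S.h3) m t' u' v') :
    t = t' ∧ u = u' ∧ v = v' := by
  obtain ⟨-, h1, -, -, h2, h4⟩ := S.N_inj h
  exact ⟨h1, h2, h4⟩

theorem N3_mem_US (t u v : K) : N3 (posRel S.h3) m t u v ∈ (factsG2.tsys K).US [6, 7, 8, 9, 10, 11] := by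
  have h : ∀ r ∈ ([6, 7, 8, 9, 10, 11] : List ℕ), ∀ z : K, factsG2.xg r z ∈ (factsG2.tsys K).US [6, 7, 8, 9, 10, 11] :=
    fun r hr z => CommSys.x_mem_US _ hr z
  exact mul_mem (mul_mem (mul_mem (mul_mem (mul_mem (h 7 (by simp) _) (h 6 (by simp) _)) (h 8 (by simp) _))
    (h 9 (by simp) _)) (h 10 (by simp) _)) (h 11 (by simp) _)

theorem fix_pos {x : GL chevG2.Idx K} (hx : x ∈ (factsG2.tsys K).US [6, 7, 8, 9, 10, 11]) (hf : x ∈ S.T.fix) :
    ∃ t u v : K, x = N3 (posRel S.h3) m t u v := by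
  obtain ⟨c, rfl⟩ := CommSys.exists_prodOver (factsG2.sys K).toCommSys closed_pos hx
  have hs := hf.2
  rw [prodOver_pos S.h3, S.sig_pos] at hs
  obtain ⟨hA, hB, hC, hD, -, -⟩ := S.N_inj hs
  refine ⟨c 6, c 10 - c 7 * c 7 * c 7 * c 6, c 11 - c 7 * c 7 * c 7 * c 6 * c 6, ?_⟩
  rw [prodOver_pos S.h3, N3]
  rw [hB, ← hA] at hC hD
  congr 1
  · exact hA.symm
  · rw [← hA, ← hC, pow_succ]
  · rw [← hA, ← hD, two_mul, pow_succ, pow_add]

/-- The hypotheses of the general theory. -/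
def data : TwData S.T Os where
  hOs := S.hOs
  hl := coeff_of_mem (by simp)
  G1 := twistedG2 K (3 ^ m)
  le_fix := S.le_fix
  q := 3 ^ (2 * m + 1)
  d := 2
  hd := two_ne_zero
  orb_le := fun ω hω x hx => by
    have hm := List.mem_map_of_mem (f := fun ω => orbL chevG2 (ω.map Fin.val)) hω
    rw [orbLs, List.mem_singleton] at hm
    obtain ⟨hxL, hxf⟩ := hx
    rw [hm] at hxL
    obtain ⟨t, u, v, rfl⟩ := S.fix_pos hxL hxf
    exact S.pos_mem t u v
  orb_card := fun ω hω => by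
    have hm := List.mem_map_of_mem (f := fun ω => orbL chevG2 (ω.map Fin.val)) hω
    rw [orbLs, List.mem_singleton] at hm
    rw [hm, show ([6, 7, 8, 9, 10, 11] : List ℕ).length = 3 * 2 from rfl, pow_mul, ← S.hK]
    congr 1
    rw [show Nat.card K ^ 3 = Nat.card (K × K × K) by rw [Nat.card_prod, Nat.card_prod]; ring]
    refine (Nat.card_eq_of_bijective (fun p : K × K × K =>
      (⟨N3 (posRel S.h3) m p.1 p.2.1 p.2.2, S.N3_mem_US _ _ _, S.pos_fix _ _ _⟩ :
        ↥((factsG2.tsys K).US [6, 7, 8, 9, 10, 11] ⊓ S.T.fix))) ⟨fun p p' hpp => ?_, fun x => ?_⟩).symm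
    · obtain ⟨h1, h2, h4⟩ := S.N3_inj (congrArg Subtype.val hpp)
      exact Prod.ext h1 (Prod.ext h2 h4)
    · obtain ⟨t, u, v, hs⟩ := S.fix_pos x.2.1 x.2.2
      exact ⟨(t, u, v), Subtype.ext hs.symm⟩
  neg_exists := fun ω hω => by
    have hn := List.mem_map_of_mem (f := fun ω => Twist.negL chevG2 ω) hω
    rw [negLs, List.mem_singleton] at hn
    refine ⟨_, S.neg_mem 0 0 1, ?_, ?_⟩
    · intro h1
      have e : N3 (negRel S.h3) m (0 : K) 0 1 = (factsG2.sys K).prodOver [2, 0] (fun _ => -1) := by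
        simp [N3, G2Rel.N, negRel, negR, CommSys.prodOver, Facts.sys_x, factsG2.xg_zero, zero_pow]
      rw [e] at h1
      have h0 : (factsG2.sys K).prodOver [2, 0] (fun _ => (-1 : K)) =
          (factsG2.sys K).prodOver [2, 0] (fun _ => (0 : K)) := h1.trans (by
        simp [CommSys.prodOver, Facts.sys_x, factsG2.xg_zero])
      exact neg_ne_zero.2 one_ne_zero (factsG2.prodOver_inj_neg negList_two h0 2 (by simp))
    · rw [hn]
      have hx : ∀ r ∈ ([5, 4, 3, 2, 1, 0] : List ℕ), ∀ z : K, factsG2.xg r z ∈ (factsG2.tsys K).US [5, 4, 3, 2, 1, 0] :=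
        fun r hr z => CommSys.x_mem_US _ hr z
      exact mul_mem (mul_mem (mul_mem (mul_mem (mul_mem (hx 4 (by simp) _) (hx 5 (by simp) _)) (hx 3 (by simp) _))
        (hx 2 (by simp) _)) (hx 1 (by simp) _)) (hx 0 (by simp) _)

theorem coord : ∀ ω ∈ Os, ∀ i ∈ ω, ∃ x ∈ (factsG2.tsys K).US (orbL chevG2 (ω.map Fin.val)), x ∈ S.T.fix ∧
    ∃ t : ℕ → K, x = (factsG2.sys K).prodOver (orbL chevG2 (ω.map Fin.val)) t ∧ t (chevG2.simple i.val) ≠ 0 := by
  intro ω hω i hi
  have hm := List.mem_map_of_mem (f := fun ω => orbL chevG2 (ω.map Fin.val)) hω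
  have hs : chevG2.simple i.val ∈ simples chevG2 ω := List.mem_map_of_mem (f := fun i : Fin chevG2.rank => chevG2.simple i.val) hi
  have hms := List.mem_map_of_mem (f := fun ω => simples chevG2 ω) hω
  rw [orbLs, List.mem_singleton] at hm
  rw [simplesLs, List.mem_singleton] at hms
  rw [hm]
  obtain ⟨c, hc⟩ := CommSys.exists_prodOver (factsG2.sys K).toCommSys closed_pos (S.N3_mem_US 1 0 0)
  refine ⟨_, S.N3_mem_US 1 0 0, S.pos_fix 1 0 0, c, hc, ?_⟩
  rw [prodOver_pos S.h3, N3] at hc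
  obtain ⟨h7, h6, -⟩ := S.N_inj hc
  rw [hms] at hs
  simp only [List.mem_cons, List.not_mem_nil, or_false] at hs
  rcases hs with e | e | e | e | e | e <;> rw [e] <;> simp [← h7, ← h6]

end Setup

end Cfsg.Agent.Lie.G2
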