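import Cfsg.Agent.Lib.Lie.Group
import Cfsg.Agent.Lib.Lie.XMat

/-!
Evaluation of short words in root elements with integral coefficients over a ring of given characteristic.
-/

set_option autoImplicit false

namespace Cfsg.Agent.Lie

open Cfsg.Lie Matrix
open scoped MatrixGroups

/-- Sum of the coefficients at a position. -/
def coefAt (L : List Tm) (i j : ℕ) : ℤ :=
  ((L.filter fun m => Nat.beq m.row i && Nat.beq m.col j).map Tm.c).sum

/-- Reduced list of entries. -/
def normT (N n : ℕ) (L : List Tm) : List Tm :=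
  ((List.range N).flatMap fun i => (List.range N).map fun j =>
    (⟨i, j, 0, 0, coefAt L i j % (n : ℤ)⟩ : Tm)).filter fun m => decide (m.c ≠ 0)

/-- The terms of x_r(c) − 1 at the point (1, 1). -/
def entAt (D : ChevalleyDatum) (r : ℕ) (c : ℤ) : List Tm :=
  (ent D r).map fun m => ⟨m.row, m.col, 0, 0, m.c * c ^ m.a⟩

/-- Right multiplication by x_r(c), reduced. -/
def stepT (D : ChevalleyDatum) (n : ℕ) (M : List Tm) (p : ℕ × ℤ) : List Tm :=
  normT (D.rank + D.nroots) n (M ++ mulL (D.rank + D.nroots) M (entAt D p.1 p.2))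

/-- The identity. -/
def oneT (N : ℕ) : List Tm := (List.range N).map fun i => ⟨i, i, 0, 0, 1⟩

/-- Whether two words have the same value modulo n. -/
def okWordEq (D : ChevalleyDatum) (n : ℕ) (w w' : List (ℕ × ℤ)) : Bool :=
  decide (D.rank + D.nroots ≤ 512) &&
  (fun A B : List Tm => (List.range (D.rank + D.nroots)).all fun i =>
      (List.range (D.rank + D.nroots)).all fun j => (coefAt A i j - coefAt B i j) % (n : ℤ) == 0)
    (w.foldl (stepT D n) (oneT (D.rank + D.nroots))) (w'.foldl (stepT D n) (oneT (D.rank + D.nroots)))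

variable {D : ChevalleyDatum} {F : Type*} [Field F]

theorem ev_apply_one (L : List Tm) (p q : D.Idx) :
    ev D F 1 1 L p q = (coefAt L (idxEquiv D p) (idxEquiv D q) : F) := by
  induction L with
  | nil => simp [coefAt, ev]
  | cons m L ih =>
    simp only [ev, evL_cons, Matrix.add_apply] at ih ⊢
    rw [ih, tm_ev_apply]
    simp only [coefAt, List.filter_cons, nbeq, one_pow, mul_one]
    by_cases h : (idxEquiv D p : ℕ) = m.row ∧ (idxEquiv D q : ℕ) = m.col
    · simp [h.1, h.2]
    · have h' : ¬ (m.row = (idxEquiv D p : ℕ) ∧ m.col = (idxEquiv D q : ℕ)) := fun e => h ⟨e.1.symm, e.2.symm⟩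
      simp [h, h']

theorem ev_normT {n : ℕ} (hn : (n : F) = 0) (L : List Tm) :
    ev D F 1 1 (normT (D.rank + D.nroots) n L) = ev D F 1 1 L := by
  ext p q
  rw [ev, evL_apply, normT, sum_filter_ne_zero F _ _ (fun m hm => by simp [tm_ev_apply, hm]),
    List.flatMap_def, List.map_flatten, List.map_map, List.sum_flatten, List.map_map, ev_apply_one]
  have hmod : ∀ z : ℤ, ((z % (n : ℤ) : ℤ) : F) = (z : F) := fun z => by
    rw [Int.emod_def, Int.cast_sub, Int.cast_mul, Int.cast_natCast, hn, zero_mul, sub_zero]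
  simp only [Function.comp_def, List.map_map, tm_ev_apply, one_pow, mul_one, hmod]
  have hj : ∀ i : ℕ, ((List.range (D.rank + D.nroots)).map fun j =>
      if (idxEquiv D p : ℕ) = i ∧ (idxEquiv D q : ℕ) = j then (coefAt L i j : F) else 0).sum =
      if (idxEquiv D p : ℕ) = i then (coefAt L i (idxEquiv D q) : F) else 0 := by
    intro i
    by_cases h : (idxEquiv D p : ℕ) = i
    · simp only [h, true_and, if_true]
      rw [sum_range_ite F _ _ (idxEquiv D q).isLt]
    · simp [h]
  simp only [hj]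
  rw [sum_range_ite F _ _ (idxEquiv D p).isLt]

theorem ev_oneT : ev D F 1 1 (oneT (D.rank + D.nroots)) = 1 := by
  ext p q
  rw [ev, evL_apply, oneT, List.map_map]
  simp only [Function.comp_def, tm_ev_apply, one_pow, mul_one, Int.cast_one, Matrix.one_apply]
  by_cases h : p = q
  · subst h
    simp only [and_self, if_true]
    rw [sum_range_ite F (fun _ => (1 : F)) _ (idxEquiv D p).isLt]
  · rw [if_neg h]
    apply sum_eq_zero_of
    intro i _
    rw [if_neg]
    rintro ⟨h1, h2⟩
    exact h ((idxEquiv D).injective (Fin.ext (h1.trans h2.symm)))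

theorem ev_entAt (r : ℕ) (c : ℤ) : 1 + ev D F 1 1 (entAt D r c) = D.x F r (c : F) := by
  rw [x_eq D F r (c : F) 1, ev, ev, entAt, evL_map_eq (t := (1 : F)) (u := 1) (t' := (c : F)) (u' := 1)]
  intro m _
  simp [Tm.ev]

theorem ev_foldl (hN : D.rank + D.nroots ≤ 512) {n : ℕ} (hn : (n : F) = 0) :
    ∀ (w : List (ℕ × ℤ)) (M : List Tm), ev D F 1 1 (w.foldl (stepT D n) M) =
      ev D F 1 1 M * D.wordMat F (w.map fun p => (p.1, (p.2 : F))) := by
  intro w
  induction w with
  | nil => simp [ChevalleyDatum.wordMat]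
  | cons p w ih =>
    intro M
    rw [List.foldl_cons, ih, stepT, ev_normT hn]
    simp only [ev]
    rw [evL_append, evL_mulL _ hN]
    simp only [ChevalleyDatum.wordMat, List.map_cons, List.prod_cons]
    rw [← ev_entAt (D := D) p.1 p.2, ← mul_assoc, mul_add, mul_one]

/-- Soundness. -/
theorem Facts.wg_eq_of_okWordEq (hF : Facts D) {n : ℕ} (hn : (n : F) = 0) {w w' : List (ℕ × ℤ)}
    (h : okWordEq D n w w' = true) :
    hF.wg (w.map fun p => (p.1, (p.2 : F))) = hF.wg (w'.map fun p => (p.1, (p.2 : F))) := by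
  simp only [okWordEq, Bool.and_eq_true, decide_eq_true_eq, List.all_eq_true, List.mem_range, beq_iff_eq] at h
  obtain ⟨hN, h⟩ := h
  refine Units.ext ?_
  have e1 := ev_foldl (F := F) hN hn w (oneT (D.rank + D.nroots))
  have e2 := ev_foldl (F := F) hN hn w' (oneT (D.rank + D.nroots))
  rw [ev_oneT, one_mul] at e1 e2
  rw [hF.coe_wg, hF.coe_wg, ← e1, ← e2]
  ext p q
  rw [ev_apply_one, ev_apply_one]
  have h' := h _ (idxEquiv D p).isLt _ (idxEquiv D q).isLt
  obtain ⟨k, hk⟩ := Int.dvd_of_emod_eq_zero h'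
  refine sub_eq_zero.1 ?_
  rw [← Int.cast_sub, hk]
  push_cast
  rw [hn, zero_mul]

end Cfsg.Agent.Lie
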