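import Cfsg.Agent.Lib.Lie.TwistG2
import Cfsg.Agent.Lib.Lie.TwistTorus
import Cfsg.Agent.Lib.Lie.TorusCerts
import Cfsg.Agent.Lib.Lie.WordEval

/-!
The torus of the twisted groups of type ²G₂.
-/

set_option autoImplicit false
set_option maxRecDepth 4000

namespace Cfsg.Agent.Lie.G2

open Cfsg.Lie Matrix Twist
open scoped MatrixGroups

instance neZero_rank : NeZero chevG2.rank := ⟨by decide +kernel⟩

theorem node_inv : ∀ j : Fin 2, (σ.symm (j : Fin chevG2.rank)).val = [1, 0].getD j.val 0 := by decide +kernel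

theorem co_eight : co chevG2 8 0 = 1 ∧ co chevG2 8 1 = 3 ∧ co chevG2 10 0 = 1 ∧ co chevG2 10 1 = 1 := by
  decide +kernel

theorem okComm2_pair : okComm2 chevG2 [8, 10] = true := by decide +kernel

theorem okWord_minus : okWordEq chevG2 3
    [(9, 1), (11, 1), (2, -1), (0, -1), (7, 1), (6, 1), (8, -1), (9, -1), (10, 1), (11, 1),
     (4, 1), (5, 1), (3, 1), (2, -1), (1, -1), (0, 1)]
    [(8, -1), (3, 1), (8, -1), (8, -1), (3, 1), (8, -1)] = true := by decide +kernel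

variable {K : Type*} [Field K] [Fintype K] {m : ℕ}

namespace Setup

variable (S : Setup K m)

include S

/-- Coordinates of fixed torus elements. -/
def crd (S : Setup K m) (z : Kˣ) : Fin chevG2.rank → Kˣ := ![z ^ 3 ^ m, z]

theorem pow_full_units (z : Kˣ) : z ^ (3 * 3 ^ m * 3 ^ m) = z :=
  Units.ext (by rw [Units.val_pow_eq_pow_val]; exact S.pow_full _)

theorem twc_apply (c : Fin chevG2.rank → Kˣ) :
    S.T.twc c = ![c 1 ^ 3 ^ m, (c 0 ^ 3 ^ m) ^ 3] := by
  funext j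
  apply Units.ext
  have hj : σ.symm j = (⟨[1, 0].getD j.val 0 % chevG2.rank, Nat.mod_lt _ (by decide +kernel)⟩ :
      Fin chevG2.rank) := by
    apply Fin.ext
    rw [node_inv j]
    match j with
    | ⟨0, _⟩ => rfl
    | ⟨1, _⟩ => rfl
  rw [S.T.twc_val, S.hfr, S.hs, S.hR, hj]
  match j with
  | ⟨0, _⟩ => exact pow_one _
  | ⟨1, _⟩ => rfl

theorem exists_crd {h : GL chevG2.Idx K} (hd : h ∈ chevG2.diagonalSubgroup K) (hf : h ∈ S.T.fix) :
    ∃ z : Kˣ, h = torus chevG2 K (S.crd z) := by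
  obtain ⟨c, rfl, hc⟩ := S.T.fix_torus hd hf
  have e := factsG2.torus_injective (F := K) kerCertG2 ((factsG2.torus_eq_iff (S.T.twc c) c).2 hc)
  refine ⟨c 1, congrArg _ ?_⟩
  rw [S.twc_apply] at e
  funext j
  match j with
  | ⟨0, _⟩ => exact (congrFun e 0).symm
  | ⟨1, _⟩ => rfl

theorem crd_mul (z w : Kˣ) : S.crd (z * w) = S.crd z * S.crd w := by
  funext j
  match j with
  | ⟨0, _⟩ => exact mul_pow _ _ _
  | ⟨1, _⟩ => rfl

theorem odd_e : Odd (3 ^ m) := (Nat.odd_iff.2 (by decide)).pow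

theorem pair_torus_mem (u : Kˣ) : torus chevG2 K (S.crd (u ^ (3 * 3 ^ m + 1))) ∈ twistedG2 K (3 ^ m) := by
  let c : ℕ → K := fun r => if r = 8 then (u : K) ^ 3 ^ m else u
  have hp : ∀ x : K, (factsG2.sys K).prodOver [8, 10] (fun r => if r = 8 then x ^ 3 ^ m else x) =
      N3 (posRel S.h3) m 0 x 0 := fun x => by
    simp [N3, N_pos_eq, CommSys.prodOver, Facts.sys_x, factsG2.xg_zero, zero_pow]
  have hn : ∀ x : K, ([8, 10].map fun r => factsG2.xg (chevG2.neg r) (-(if r = 8 then x ^ 3 ^ m else x)⁻¹)).prod =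
      N3 (negRel S.h3) m 0 x⁻¹ 0 := fun x => by
    simp [N3, G2Rel.N, negRel, negR, factsG2.xg_zero, zero_pow, inv_pow,
      show chevG2.neg 8 = 3 from rfl, show chevG2.neg 10 = 1 from rfl]
  have hm1 : (fun _ : ℕ => (-1 : K)) = fun r => if r = 8 then (-1 : K) ^ 3 ^ m else -1 :=
    funext fun r => by rw [(S.odd_e).neg_one_pow, ite_self]
  have h := factsG2.prod_hg_mem (L := [8, 10]) (by decide) okComm2_pair (twistedG2 K (3 ^ m)) c
    (hp u ▸ S.pos_mem _ _ _) (hn u ▸ S.neg_mem _ _ _)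
    (by rw [hm1, hp]; exact S.pos_mem _ _ _)
    (by
      have := hn (-1)
      simp only [(S.odd_e).neg_one_pow, ite_self] at this
      rw [this]; exact S.neg_mem _ _ _)
  have e : S.crd (u ^ (3 * 3 ^ m + 1)) = Facts.hCoord chevG2 8 (u ^ 3 ^ m) * Facts.hCoord chevG2 10 u := by
    obtain ⟨a0, a1, b0, b1⟩ := co_eight
    funext j
    match j with
    | ⟨0, _⟩ =>
      show (u ^ (3 * 3 ^ m + 1)) ^ 3 ^ m = (u ^ 3 ^ m) ^ co chevG2 8 0 * u ^ co chevG2 10 0
      rw [a0, b0, zpow_one, zpow_one, ← pow_mul, add_mul, one_mul, pow_add, S.pow_full_units, mul_comm]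
    | ⟨1, _⟩ =>
      show u ^ (3 * 3 ^ m + 1) = (u ^ 3 ^ m) ^ co chevG2 8 1 * u ^ co chevG2 10 1
      rw [a1, b1, zpow_one, pow_succ, show (3 : ℤ) = ((3 : ℕ) : ℤ) from rfl, zpow_natCast, ← pow_mul,
        mul_comm (3 ^ m)]
  rw [e, map_mul, ← factsG2.hg_eq_torus (show 8 < chevG2.nroots by decide +kernel),
    ← factsG2.hg_eq_torus (show 10 < chevG2.nroots by decide +kernel)]
  simpa [c] using h

theorem minus_one_mem : torus chevG2 K (S.crd (-1)) ∈ twistedG2 K (3 ^ m) := by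
  have e : S.crd (-1) = Facts.hCoord chevG2 8 (-1 : Kˣ) := by
    obtain ⟨a0, a1, -, -⟩ := co_eight
    funext j
    match j with
    | ⟨0, _⟩ =>
      show (-1 : Kˣ) ^ 3 ^ m = (-1 : Kˣ) ^ co chevG2 8 0
      rw [a0, zpow_one, (S.odd_e).neg_one_pow]
    | ⟨1, _⟩ =>
      show (-1 : Kˣ) = (-1 : Kˣ) ^ co chevG2 8 1
      rw [a1, Odd.neg_one_zpow (by decide)]
  have h3 := S.h3
  have hw := factsG2.wg_eq_of_okWordEq (F := K) (n := 3) (by exact_mod_cast S.h3) okWord_minus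
  have hh : factsG2.hg 8 ((-1 : Kˣ) : K) = N3 (posRel S.h3) m 0 0 1 * N3 (negRel S.h3) m 0 0 1 *
      (N3 (posRel S.h3) m 1 1 1 * N3 (negRel S.h3) m (-1) 1 (-1)) := by
    have e2 : (1 : K) + 1 = -1 := by linear_combination h3
    have e3 : -(1 : K) + -1 = 1 := by linear_combination -h3
    have o1 : Odd (2 * 3 ^ m + 1) := odd_two_mul_add_one _
    have o2 : Even (3 ^ m + 1) := (S.odd_e).add_one
    have l : factsG2.hg 8 ((-1 : Kˣ) : K) = factsG2.wg (([(8, -1), (3, 1), (8, -1), (8, -1), (3, 1), (8, -1)] :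
        List (ℕ × ℤ)).map fun p => (p.1, (p.2 : K))) := by
      simp [Facts.hg, ChevalleyDatum.hWord, ChevalleyDatum.nWord, show chevG2.neg 8 = 3 from rfl]
    rw [l, ← hw]
    simp [Facts.wg, N3, G2Rel.N, posRel, posR, negRel, negR, factsG2.xg_zero, zero_pow, (S.odd_e).neg_one_pow,
      o1.neg_one_pow, o2.neg_one_pow, e2, e3, mul_assoc]
  rw [e, ← factsG2.hg_eq_torus (show 8 < chevG2.nroots by decide +kernel), hh]
  exact mul_mem (mul_mem (S.pos_mem _ _ _) (S.neg_mem _ _ _)) (mul_mem (S.pos_mem _ _ _) (S.neg_mem _ _ _))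

theorem card_mod_four : Fintype.card K % 4 = 3 := by
  rw [← Nat.card_eq_fintype_card, S.hK, pow_succ, pow_mul, Nat.mul_mod, Nat.pow_mod]
  norm_num

theorem torus_mem (z : Kˣ) : torus chevG2 K (S.crd z) ∈ twistedG2 K (3 ^ m) := by
  have hsq : ∀ w : Kˣ, torus chevG2 K (S.crd (w ^ 2)) ∈ twistedG2 K (3 ^ m) := by
    intro w
    have h := S.pair_torus_mem (w ^ (3 * 3 ^ m - 1))
    have e : (w ^ (3 * 3 ^ m - 1)) ^ (3 * 3 ^ m + 1) = w ^ 2 := by
      obtain ⟨k, hk⟩ : ∃ k, 3 * 3 ^ m = k + 1 := ⟨3 * 3 ^ m - 1, by have := Nat.one_le_pow m 3 (by norm_num); omega⟩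
      have h1 : (w ^ (3 * 3 ^ m - 1)) ^ (3 * 3 ^ m + 1) * w = (w ^ (3 * 3 ^ m * 3 ^ m)) ^ 3 := by
        rw [← pow_mul, ← pow_mul, ← pow_succ, hk, Nat.add_sub_cancel]
        congr 1
        calc k * (k + 1 + 1) + 1 = (k + 1) * (k + 1) := by ring
          _ = (k + 1) * 3 ^ m * 3 := by rw [← hk]; ring
      rw [S.pow_full_units, pow_succ w 2] at h1
      exact mul_right_cancel h1
    rwa [e] at h
  have hn : ¬ IsSquare (-1 : K) := by
    rw [FiniteField.isSquare_neg_one_iff, S.card_mod_four]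
    simp
  by_cases hz : IsSquare z
  · obtain ⟨w, rfl⟩ := hz
    rw [← pow_two]
    exact hsq w
  · obtain ⟨g, hg⟩ := IsCyclic.exists_generator (α := Kˣ)
    have hno : ¬ IsSquare g := by
      rintro ⟨r, rfl⟩
      obtain ⟨k, hk⟩ := Subgroup.mem_zpowers_iff.1 (hg (-1))
      exact hn ⟨((r ^ k : Kˣ) : K), by rw [← Units.val_mul, ← mul_zpow, hk]; simp⟩
    obtain ⟨a, rfl⟩ := Subgroup.mem_zpowers_iff.1 (hg z)
    obtain ⟨b, hb⟩ := Subgroup.mem_zpowers_iff.1 (hg (-1 : Kˣ))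
    have hodd : ∀ n : ℤ, ¬ IsSquare (g ^ n) → Odd n := fun n h => by
      by_contra he
      rw [Int.not_odd_iff_even] at he
      obtain ⟨k, rfl⟩ := he
      exact h ⟨g ^ k, _root_.zpow_add g k k⟩
    have hb' : Odd b := hodd b (by
      rw [hb]
      rintro ⟨r, hr⟩
      exact hn ⟨(r : K), by rw [← Units.val_mul, ← hr]; simp⟩)
    obtain ⟨k, hk⟩ := (hodd a hz).sub_odd hb'
    have e : g ^ a = -1 * (g ^ k) ^ 2 := by
      rw [← hb, pow_two, ← _root_.zpow_add, ← _root_.zpow_add]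
      congr 1
      omega
    rw [e, S.crd_mul, map_mul]
    exact mul_mem S.minus_one_mem (hsq _)

/-- The fixed torus as an image of the multiplicative group. -/
noncomputable def torHom (S : Setup K m) : Kˣ →* ↥(chevG2.diagonalSubgroup K ⊓ twistedG2 K (3 ^ m)) :=
  MonoidHom.mk' (fun z => ⟨torus chevG2 K (S.crd z),
    by rw [factsG2.diagonalSubgroup_eq]; exact ⟨_, rfl⟩, S.torus_mem z⟩)
    fun z w => Subtype.ext (by simp [S.crd_mul])

theorem torHom_surjective : Function.Surjective S.torHom := fun g => by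
  obtain ⟨z, hz⟩ := S.exists_crd g.2.1 (S.le_fix g.2.2)
  exact ⟨z, Subtype.ext hz.symm⟩

theorem card_H : Nat.card ↥(chevG2.diagonalSubgroup K ⊓ twistedG2 K (3 ^ m)) = 3 ^ (2 * m + 1) - 1 := by
  rw [← S.hK, ← Nat.card_units]
  refine (Nat.card_eq_of_bijective S.torHom ⟨fun z w h => ?_, S.torHom_surjective⟩).symm
  exact congrFun (factsG2.torus_injective (F := K) kerCertG2 (congrArg Subtype.val h)) 1

theorem cyclic_H : IsCyclic ↥(chevG2.diagonalSubgroup K ⊓ twistedG2 K (3 ^ m)) :=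
  isCyclic_of_surjective S.torHom S.torHom_surjective

end Setup

end Cfsg.Agent.Lie.G2
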