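import Cfsg.Agent.Lib.Lie.TwistG2P

/-!
Centralisers in the torus and the action on the cosets of B for ²G₂.
-/

set_option autoImplicit false
set_option maxRecDepth 4000

namespace Cfsg.Agent.Lie.G2

open Cfsg.Lie Matrix Twist
open scoped MatrixGroups

variable {K : Type*} [Field K] [Fintype K] {m : ℕ} (S : Setup K m)

include S

/-- A torus element commuting with a non-trivial unipotent element. -/
theorem Setup.commute_torus {z : Kˣ} {t u v : K}
    (h : torus chevG2 K (S.crd z) * N3 (posRel S.h3) m t u v * (torus chevG2 K (S.crd z))⁻¹ =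
      N3 (posRel S.h3) m t u v)
    (hne : N3 (posRel S.h3) m t u v ≠ 1) : z ^ 2 = 1 := by
  rw [S.torus_conj_N3] at h
  obtain ⟨ht, hu, hv⟩ := S.N3_inj h
  have hz0 : (z : K) ≠ 0 := z.ne_zero
  have hfull : (z : K) ^ (3 * 3 ^ m * 3 ^ m) = z := S.pow_full _
  have hcases : t ≠ 0 ∨ u ≠ 0 ∨ v ≠ 0 := by
    by_contra hc
    simp only [not_or, not_not] at hc
    exact hne (by rw [hc.1, hc.2.1, hc.2.2]; exact S.N3_zero)
  apply Units.ext
  rw [Units.val_pow_eq_pow_val, Units.val_one]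
  generalize he : 3 ^ m = e at *
  rcases hcases with h0 | h0 | h0
  · have h1 : (z : K) ^ 2 = (z : K) ^ (3 * e) := by
      rw [← mul_inv_eq_one₀ (pow_ne_zero _ hz0), ← zpow_ofNat]
      exact (mul_eq_right₀ h0).1 ht
    have h2 : ((z : K) ^ 2) ^ (3 * e) = (z : K) ^ 3 := by
      conv_rhs => rw [← hfull, ← pow_mul]
      rw [h1, ← pow_mul]
      ring_nf
    have h4 : (z : K) ^ 4 = (z : K) ^ 3 := by
      rw [← h2, ← pow_mul, mul_comm, pow_mul, ← h1]; ring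
    have h5 : (z : K) = 1 := mul_left_cancel₀ (pow_ne_zero 3 hz0) (by linear_combination h4)
    simp [h5]
  · have h1 : (z : K) ^ (3 * e) = (z : K) := by
      rw [← mul_inv_eq_one₀ hz0]
      exact (mul_eq_right₀ h0).1 hu
    have h2 : (z : K) ^ 3 = (z : K) := by
      conv_lhs => rw [← hfull, ← pow_mul, show 3 * e * e * 3 = 3 * e * (3 * e) by ring, pow_mul, h1, h1]
    exact mul_left_cancel₀ hz0 (by linear_combination h2)
  · simp [(mul_eq_right₀ h0).1 hv]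

theorem Setup.centralizer_odd {h : GL chevG2.Idx K}
    (hh : h ∈ chevG2.diagonalSubgroup K ⊓ twistedG2 K (3 ^ m)) (h1 : h ≠ 1) (hodd : Odd (orderOf h)) :
    (chevG2.posUnipotent K ⊓ twistedG2 K (3 ^ m)) ⊓ Subgroup.centralizer {h} = ⊥ := by
  rw [Subgroup.eq_bot_iff_forall]
  intro x hx
  obtain ⟨hxU, hxc⟩ := Subgroup.mem_inf.1 hx
  obtain ⟨t, u, v, he⟩ := (S.mem_U_iff x).1 hxU
  obtain rfl : x = N3 (posRel S.h3) m t u v := Units.ext (by rw [he, ← S.wg_U, factsG2.coe_wg])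
  obtain ⟨z, hz⟩ := S.exists_crd hh.1 (S.le_fix hh.2)
  by_contra hne
  have hz2 := S.commute_torus (z := z) (t := t) (u := u) (v := v) (by
    rw [← hz, ← Subgroup.mem_centralizer_singleton_iff.1 hxc, mul_inv_cancel_right]) hne
  have h2 : h ^ 2 = 1 := by
    rw [hz, ← map_pow]
    have : S.crd z ^ 2 = 1 := by
      rw [pow_two, ← S.crd_mul, ← pow_two, hz2]
      funext j
      match j with
      | ⟨0, _⟩ => exact one_pow _
      | ⟨1, _⟩ => rfl
    rw [this, map_one]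
  refine h1 (orderOf_eq_one_iff.1 ?_)
  rcases (Nat.dvd_prime Nat.prime_two).1 (orderOf_dvd_of_pow_eq_one h2) with ho | ho
  · exact ho
  · rw [ho] at hodd; exact absurd hodd (by decide)

theorem Setup.card_odd_H :
    2 * Nat.card {h : ↥(chevG2.diagonalSubgroup K ⊓ twistedG2 K (3 ^ m)) // Odd (orderOf h)} =
      3 ^ (2 * m + 1) - 1 := by
  have hc := S.cyclic_H
  set H := chevG2.diagonalSubgroup K ⊓ twistedG2 K (3 ^ m) with hH
  have hcard : Nat.card ↥H = 3 ^ (2 * m + 1) - 1 := S.card_H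
  obtain ⟨k, hk⟩ : ∃ k, 3 ^ (2 * m + 1) - 1 = 2 * k ∧ Odd k := by
    refine ⟨(3 ^ (2 * m + 1) - 1) / 2, ?_, ?_⟩
    · have : 3 ^ (2 * m + 1) % 4 = 3 := by rw [← S.hK, Nat.card_eq_fintype_card]; exact S.card_mod_four
      generalize 3 ^ (2 * m + 1) = Q at this ⊢
      omega
    · have : 3 ^ (2 * m + 1) % 4 = 3 := by rw [← S.hK, Nat.card_eq_fintype_card]; exact S.card_mod_four
      rw [Nat.odd_iff]; generalize 3 ^ (2 * m + 1) = Q at this ⊢; omega
  obtain ⟨g, hg⟩ := IsCyclic.exists_generator (α := ↥H)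
  have hog : orderOf g = 2 * k := by rw [orderOf_eq_card_of_forall_mem_zpowers hg, hcard, hk.1]
  have e : ∀ h : ↥H, Odd (orderOf h) ↔ h ∈ Subgroup.zpowers (g ^ 2) := by
    intro h
    constructor
    · intro ho
      obtain ⟨c, hc'⟩ := ho
      have h2 : (h ^ (c + 1)) ^ 2 = h := by
        rw [← pow_mul, show (c + 1) * 2 = orderOf h + 1 by omega, pow_succ, pow_orderOf_eq_one, one_mul]
      obtain ⟨j, hj⟩ := Subgroup.mem_zpowers_iff.1 (hg (h ^ (c + 1)))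
      refine Subgroup.mem_zpowers_iff.2 ⟨j, ?_⟩
      rw [← zpow_natCast g 2, ← _root_.zpow_mul, mul_comm, _root_.zpow_mul, hj, zpow_natCast, h2]
    · intro hm'
      have hd : orderOf h ∣ k := by
        refine orderOf_dvd_of_pow_eq_one ?_
        obtain ⟨j, rfl⟩ := Subgroup.mem_zpowers_iff.1 hm'
        rw [← zpow_natCast _ k, ← _root_.zpow_mul, mul_comm, _root_.zpow_mul, zpow_natCast, ← pow_mul,
          ← hog, pow_orderOf_eq_one, _root_.one_zpow]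
      exact hk.2.of_dvd_nat hd
  rw [Nat.card_congr (Equiv.subtypeEquivRight e), Nat.card_zpowers, orderOf_pow, hog,
    Nat.gcd_eq_right (dvd_mul_right 2 k), Nat.mul_div_cancel_left _ (by norm_num), hk.1]

/-- Triple stabilisers in the action on the cosets of B. -/
theorem Setup.three_point :
    let Bs := (chevG2.borelSubgroup K ⊓ twistedG2 K (3 ^ m)).subgroupOf (twistedG2 K (3 ^ m))
    (∀ x y z : ↥(twistedG2 K (3 ^ m)) ⧸ Bs, x ≠ y → x ≠ z → y ≠ z →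
      Nat.card ↥(MulAction.stabilizer ↥(twistedG2 K (3 ^ m)) x ⊓ MulAction.stabilizer ↥(twistedG2 K (3 ^ m)) y ⊓
        MulAction.stabilizer ↥(twistedG2 K (3 ^ m)) z) ≤ 2) ∧
    ∃ x y z : ↥(twistedG2 K (3 ^ m)) ⧸ Bs, x ≠ y ∧ x ≠ z ∧ y ≠ z ∧
      Nat.card ↥(MulAction.stabilizer ↥(twistedG2 K (3 ^ m)) x ⊓ MulAction.stabilizer ↥(twistedG2 K (3 ^ m)) y ⊓
        MulAction.stabilizer ↥(twistedG2 K (3 ^ m)) z) = 2 := by
  classical
  intro Bs
  obtain ⟨ω₀, hω₀⟩ := List.exists_mem_of_ne_nil Os (by decide +kernel)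
  have hone : ∀ ω ∈ Os, ω = ω₀ := fun ω hω => by
    simp only [Os, List.map_cons, List.map_nil, List.mem_singleton] at hω hω₀
    rw [hω, hω₀]
  obtain ⟨hnG, a₀, ha₀, hn⟩ := S.data.nO_spec ⟨ω₀, hω₀⟩
  set n₀ := S.data.nO ⟨ω₀, hω₀⟩ with hn₀
  set B := (factsG2.tsys K).B with hB
  set U := (factsG2.tsys K).U with hU
  set H := (factsG2.tsys K).H with hH
  have hUorb : (factsG2.tsys K).US (orbL chevG2 (ω₀.map Fin.val)) = U := by
    have hm' := List.mem_map_of_mem (f := fun ω => orbL chevG2 (ω.map Fin.val)) hω₀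
    rw [orbLs, List.mem_singleton] at hm'
    rw [hm']; rfl
  have hsq : n₀ * n₀ ∈ H := by
    have := S.data.nO_sq ⟨ω₀, hω₀⟩ ha₀
    rw [← hn₀, ← hn] at this
    exact this
  -- elements of U moved into B by n₀ are trivial
  have key : ∀ x ∈ U, n₀⁻¹ * x * n₀ ∈ B → x = 1 := by
    intro x hx hxB
    have h1 : n₀ * x * n₀⁻¹ ∈ (factsG2.tsys K).US (Twist.negL chevG2 ω₀) := by
      rw [hn]; exact (S.data.neg_orbit_subgroup hω₀ ha₀).1 _ (hUorb ▸ hx)
    have h2 : n₀⁻¹ * x * n₀ ∈ chevG2.negUnipotent K := by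
      refine Twist.negL_le_negUnipotent (hF := factsG2) (ω := ω₀) ?_
      rw [show n₀⁻¹ * x * n₀ = (n₀ * n₀)⁻¹ * (n₀ * x * n₀⁻¹) * (n₀ * n₀)⁻¹⁻¹ by group]
      exact (factsG2.tsys K).H_conj_US (inv_mem hsq) (fun r hr => by
        obtain ⟨s, hs, rfl⟩ := List.mem_map.1 hr
        exact factsG2.neg_lt (S.T.mem_orbL hs).2) h1
    have h3 := factsG2.B_inter_V hxB h2
    rw [mul_eq_one_iff_eq_inv, inv_mul_eq_iff_eq_mul, mul_inv_cancel] at h3
    exact h3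
  have memBs : ∀ g : ↥(twistedG2 K (3 ^ m)), g ∈ Bs ↔ (g : GL chevG2.Idx K) ∈ B := fun g => by
    rw [Subgroup.mem_subgroupOf, Subgroup.mem_inf, hB, factsG2.tsys_B]
    exact ⟨fun h => h.1, fun h => ⟨h, g.2⟩⟩
  have hfix : ∀ g k : ↥(twistedG2 K (3 ^ m)), g ∈ MulAction.stabilizer ↥(twistedG2 K (3 ^ m))
      (k : ↥(twistedG2 K (3 ^ m)) ⧸ Bs) ↔ (k : GL chevG2.Idx K)⁻¹ * g * k ∈ B := fun g k => by
    rw [MulAction.mem_stabilizer_iff, MulAction.Quotient.smul_coe, eq_comm, QuotientGroup.eq, memBs]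
    simp [smul_eq_mul, mul_assoc]
  have hcoset : ∀ x : ↥(twistedG2 K (3 ^ m)) ⧸ Bs, x = ((1 : ↥(twistedG2 K (3 ^ m))) : _ ⧸ Bs) ∨
      ∃ (u : GL chevG2.Idx K) (_ : u ∈ U) (h : u * n₀ ∈ twistedG2 K (3 ^ m)),
        u ∈ twistedG2 K (3 ^ m) ∧ x = ((⟨u * n₀, h⟩ : ↥(twistedG2 K (3 ^ m))) : _ ⧸ Bs) := by
    intro x
    obtain ⟨⟨g, hg⟩, rfl⟩ := QuotientGroup.mk_surjective x
    obtain ⟨w, hw, u, hu, huG, a, ha, hnw, v, hv, hvG, he⟩ := S.data.decomp hg
    have hvB : v ∈ B := S.data.inv_B hv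
    have hcase : w = 1 ∨ w = S.T.wO ω₀ := by
      refine S.T.piFix_induction S.hOs (P := fun w => w = 1 ∨ w = S.T.wO ω₀) (Or.inl rfl) ?_ w hw
      rintro ω hω z - - - - (rfl | rfl)
      · exact Or.inr (by rw [one_mul, hone ω hω])
      · exact Or.inl (by rw [hone ω hω]; exact S.T.wO_sq S.hOs hω₀)
    rcases hcase with rfl | rfl
    · refine Or.inl ((QuotientGroup.eq (s := Bs)).2 ((memBs _).2 ?_))
      simp only [Subgroup.coe_mul, Subgroup.coe_inv, Subgroup.coe_one, mul_one]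
      refine inv_mem ?_
      rw [he]
      exact mul_mem (mul_mem ((factsG2.tsys K).U_le_B hu)
        ((factsG2.tsys K).H_le_B (mul_mem ha (factsG2.tsys K).nW_one))) hvB
    · refine Or.inr ⟨u, hu, mul_mem huG hnG, huG, (QuotientGroup.eq (s := Bs)).2 ((memBs _).2 ?_)⟩
      simp only [Subgroup.coe_mul, Subgroup.coe_inv]
      rw [he, show (u * (a * (factsG2.tsys K).nW (S.T.wO ω₀)) * v)⁻¹ * (u * n₀) =
        v⁻¹ * ((a * (factsG2.tsys K).nW (S.T.wO ω₀))⁻¹ * n₀) by group]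
      refine mul_mem (inv_mem hvB) ((factsG2.tsys K).H_le_B ?_)
      rw [hn, show (a * (factsG2.tsys K).nW (S.T.wO ω₀))⁻¹ * (a₀ * (factsG2.tsys K).nW (S.T.wO ω₀)) =
        ((factsG2.tsys K).nW (S.T.wO ω₀))⁻¹ * (a⁻¹ * a₀) * (factsG2.tsys K).nW (S.T.wO ω₀) by group]
      have := (factsG2.tsys K).H_normal_in_N (inv_mem ((factsG2.tsys K).nW_mem_N (S.T.wO ω₀)))
        (mul_mem (inv_mem ha) ha₀)
      rwa [inv_inv] at this
  let n' : ↥(twistedG2 K (3 ^ m)) := ⟨n₀, hnG⟩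
  let e0 : ↥(twistedG2 K (3 ^ m)) ⧸ Bs := ((1 : ↥(twistedG2 K (3 ^ m))) : _ ⧸ Bs)
  let Stab := fun x y z : ↥(twistedG2 K (3 ^ m)) ⧸ Bs => MulAction.stabilizer ↥(twistedG2 K (3 ^ m)) x ⊓
    MulAction.stabilizer ↥(twistedG2 K (3 ^ m)) y ⊓ MulAction.stabilizer ↥(twistedG2 K (3 ^ m)) z
  -- the description of a normalised triple stabiliser
  have hmain : ∀ (u : GL chevG2.Idx K) (hu : u ∈ U) (h : u * n₀ ∈ twistedG2 K (3 ^ m)),
      ∀ g : ↥(twistedG2 K (3 ^ m)), g ∈ Stab e0 (n' : _ ⧸ Bs) ((⟨u * n₀, h⟩ : ↥(twistedG2 K (3 ^ m))) : _ ⧸ Bs) ↔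
        (g : GL chevG2.Idx K) ∈ H ∧ (g : GL chevG2.Idx K) * u * (g : GL chevG2.Idx K)⁻¹ = u := by
    intro u hu h g
    simp only [Stab, Subgroup.mem_inf, e0, hfix]
    simp only [Subgroup.coe_one, inv_one, one_mul, mul_one, n']
    constructor
    · rintro ⟨⟨h1, h2⟩, h3⟩
      obtain ⟨x, hx, c, hc, hg⟩ := (factsG2.tsys K).mem_B.1 h1
      have hcB : n₀⁻¹ * c * n₀ ∈ B := by
        have := (factsG2.tsys K).H_normal_in_N (inv_mem (S.data.nO_mem_N ⟨ω₀, hω₀⟩)) hc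
        rw [inv_inv] at this
        exact (factsG2.tsys K).H_le_B this
      have hx1 : x = 1 := key x hx (by
        rw [show n₀⁻¹ * x * n₀ = (n₀⁻¹ * (g : GL chevG2.Idx K) * n₀) * (n₀⁻¹ * c * n₀)⁻¹ by rw [hg]; group]
        exact mul_mem h2 (inv_mem hcB))
      rw [hx1, one_mul] at hg
      refine ⟨hg ▸ hc, ?_⟩
      have hw : u⁻¹ * ((g : GL chevG2.Idx K) * u * (g : GL chevG2.Idx K)⁻¹) ∈ U :=
        mul_mem (inv_mem hu) ((factsG2.tsys K).H_conj_US (hg ▸ hc) (fun r hr => (Facts.mem_posL.1 hr).2) hu)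
      have := key _ hw (by
        rw [show n₀⁻¹ * (u⁻¹ * ((g : GL chevG2.Idx K) * u * (g : GL chevG2.Idx K)⁻¹)) * n₀ =
          ((u * n₀)⁻¹ * (g : GL chevG2.Idx K) * (u * n₀)) * (n₀⁻¹ * (g : GL chevG2.Idx K) * n₀)⁻¹ by group]
        exact mul_mem h3 (inv_mem h2))
      exact (inv_mul_eq_one.1 this).symm
    · rintro ⟨hc, hcomm⟩
      have hcB : n₀⁻¹ * (g : GL chevG2.Idx K) * n₀ ∈ B := by
        have := (factsG2.tsys K).H_normal_in_N (inv_mem (S.data.nO_mem_N ⟨ω₀, hω₀⟩)) hc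
        rw [inv_inv] at this
        exact (factsG2.tsys K).H_le_B this
      refine ⟨⟨(factsG2.tsys K).H_le_B hc, hcB⟩, ?_⟩
      rw [mul_inv_eq_iff_eq_mul] at hcomm
      rwa [show (u * n₀)⁻¹ * (g : GL chevG2.Idx K) * (u * n₀) = n₀⁻¹ * (u⁻¹ * ((g : GL chevG2.Idx K) * u)) * n₀ by group,
        hcomm, inv_mul_cancel_left]
  have hne : ∀ (u : GL chevG2.Idx K) (hu : u ∈ U) (h : u * n₀ ∈ twistedG2 K (3 ^ m)),
      ((n' : _ ⧸ Bs) ≠ ((⟨u * n₀, h⟩ : ↥(twistedG2 K (3 ^ m))) : _ ⧸ Bs) → u ≠ 1) ∧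
      (u ≠ 1 → (n' : _ ⧸ Bs) ≠ ((⟨u * n₀, h⟩ : ↥(twistedG2 K (3 ^ m))) : _ ⧸ Bs)) ∧
      e0 ≠ ((⟨u * n₀, h⟩ : ↥(twistedG2 K (3 ^ m))) : _ ⧸ Bs) := by
    intro u hu h
    refine ⟨fun hd hu1 => hd ?_, fun hu1 he => ?_, fun he => ?_⟩
    · subst hu1; congr 1; exact Subtype.ext (one_mul n₀).symm
    · rw [QuotientGroup.eq, memBs] at he
      simp only [Subgroup.coe_mul, Subgroup.coe_inv, n'] at he
      exact hu1 (key u hu (by rwa [mul_assoc]))
    · rw [show e0 = ((1 : ↥(twistedG2 K (3 ^ m))) : _ ⧸ Bs) from rfl, QuotientGroup.eq, memBs] at he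
      simp only [Subgroup.coe_mul, Subgroup.coe_inv, Subgroup.coe_one, inv_one, one_mul] at he
      have hnB : n₀ ∈ B := by
        have := mul_mem (inv_mem ((factsG2.tsys K).U_le_B hu)) he
        rwa [inv_mul_cancel_left] at this
      have hx : N3 (posRel S.h3) m (1 : K) 0 0 ∈ U := S.N3_mem_US 1 0 0
      have := key _ hx (mul_mem (mul_mem (inv_mem hnB) ((factsG2.tsys K).U_le_B hx)) hnB)
      rw [← S.N3_zero] at this
      exact one_ne_zero (S.N3_inj this).1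
  have hmove : ∀ (k : ↥(twistedG2 K (3 ^ m))) x y z, Nat.card ↥(Stab (k • x) (k • y) (k • z)) =
      Nat.card ↥(Stab x y z) := by
    intro k x y z
    simp only [Stab, MulAction.stabilizer_smul_eq_stabilizer_map_conj]
    rw [← Subgroup.map_inf _ _ _ (MulEquiv.injective _), ← Subgroup.map_inf _ _ _ (MulEquiv.injective _)]
    exact Subgroup.card_map_of_injective (MulEquiv.injective _)
  refine ⟨fun x y z hxy hxz hyz => ?_, ?_⟩
  · obtain ⟨k, rfl⟩ := QuotientGroup.mk_surjective x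
    have e1 : (k : _ ⧸ Bs) = k • e0 := by simp [e0]
    obtain ⟨y', rfl⟩ : ∃ y', y = k • y' := ⟨k⁻¹ • y, by simp⟩
    obtain ⟨z', rfl⟩ : ∃ z', z = k • z' := ⟨k⁻¹ • z, by simp⟩
    rw [e1] at hxy hxz ⊢
    show Nat.card ↥(Stab _ _ _) ≤ 2
    rw [hmove]
    rcases hcoset y' with hy | ⟨u, hu, hun, huG, hy⟩
    · exact absurd (by rw [hy]) hxy
    let u' : ↥(twistedG2 K (3 ^ m)) := ⟨u, huG⟩
    obtain ⟨z'', rfl⟩ : ∃ z'', z' = u' • z'' := ⟨u'⁻¹ • z', by simp⟩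
    have hue : u' • e0 = e0 := by
      simp only [e0, MulAction.Quotient.smul_coe, smul_eq_mul, mul_one]
      refine (QuotientGroup.eq.2 ((memBs _).2 ?_)).symm
      simp only [Subgroup.coe_mul, Subgroup.coe_inv, Subgroup.coe_one, inv_one, one_mul, u']
      exact (factsG2.tsys K).U_le_B hu
    have hy' : y' = u' • (n' : _ ⧸ Bs) := by rw [hy]; rfl
    rw [hy'] at hyz ⊢
    rw [← hue] at hxz ⊢
    rw [hmove]
    rcases hcoset z'' with hz | ⟨w, hw, hwn, hwG, hz⟩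
    · exact absurd (by rw [hz]) hxz
    subst hz
    have hw1 : w ≠ 1 := (hne w hw hwn).1 fun he => hyz (by rw [← he])
    obtain ⟨t, c, d, hwe⟩ := S.fix_pos (x := w) hw (S.le_fix hwG)
    have hroots : ∀ g : ↥(Stab e0 (n' : _ ⧸ Bs) ((⟨w * n₀, hwn⟩ : ↥(twistedG2 K (3 ^ m))) : _ ⧸ Bs)),
        ∃ z : Kˣ, z ^ 2 = 1 ∧ (g.1 : GL chevG2.Idx K) = torus chevG2 K (S.crd z) := fun g => by
      obtain ⟨hgH, hgc⟩ := (hmain w hw hwn g.1).1 g.2
      obtain ⟨z, hz⟩ := S.exists_crd (by rw [← factsG2.tsys_H]; exact hgH) (S.le_fix g.1.2)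
      exact ⟨z, S.commute_torus (by rw [← hz, ← hwe]; exact hgc) (hwe ▸ hw1), hz⟩
    choose f hf1 hf2 using hroots
    refine le_trans (Nat.card_le_card_of_injective (fun g => (⟨f g, (mem_rootsOfUnity 2 _).2 (hf1 g)⟩ :
      rootsOfUnity 2 K)) fun g g' he => ?_) ?_
    · have : f g = f g' := congrArg Subtype.val he
      exact Subtype.ext (Subtype.ext (by rw [hf2, hf2, this]))
    · exact card_rootsOfUnity K 2
  · set w := N3 (posRel S.h3) m (0 : K) 1 0 with hw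
    have hwU : w ∈ U := S.N3_mem_US 0 1 0
    have hwn : w * n₀ ∈ twistedG2 K (3 ^ m) := mul_mem (S.pos_mem 0 1 0) hnG
    have hw1 : w ≠ 1 := fun h => by
      rw [hw, ← S.N3_zero] at h
      exact one_ne_zero (S.N3_inj h).2.1
    refine ⟨e0, (n' : _ ⧸ Bs), ((⟨w * n₀, hwn⟩ : ↥(twistedG2 K (3 ^ m))) : _ ⧸ Bs), ?_, (hne w hwU hwn).2.2,
      (hne w hwU hwn).2.1 hw1, ?_⟩
    · intro he
      exact (hne 1 (one_mem _) (by rw [one_mul]; exact hnG)).2.2 (by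
        rw [he]; congr 1; exact Subtype.ext (one_mul n₀).symm)
    show Nat.card ↥(Stab _ _ _) = 2
    have h2 : (2 : K) ≠ 0 := fun h => one_ne_zero (by linear_combination S.h3 - h : (1 : K) = 0)
    have hneq : (-1 : Kˣ) ≠ 1 := fun h => h2 (by
      have := congrArg Units.val h
      rw [Units.val_neg, Units.val_one] at this
      linear_combination -this)
    have hz : ∀ z : Kˣ, z = 1 ∨ z = -1 → torus chevG2 K (S.crd z) * w * (torus chevG2 K (S.crd z))⁻¹ = w := by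
      intro z hz
      rw [hw, S.torus_conj_N3]
      congr 1 <;> rcases hz with rfl | rfl <;>
        simp [((Nat.odd_iff.2 (by decide) : Odd 3).mul S.odd_e).neg_one_pow]
    rw [show 2 = Nat.card ({z : Kˣ // z = 1 ∨ z = -1}) by
      rw [Nat.card_eq_fintype_card, Fintype.card_subtype,
        show (Finset.univ.filter fun z : Kˣ => z = 1 ∨ z = -1) = {1, -1} by ext; simp,
        Finset.card_pair hneq.symm]]
    refine (Nat.card_eq_of_bijective (fun z : {z : Kˣ // z = 1 ∨ z = -1} =>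
      (⟨⟨torus chevG2 K (S.crd z.1), S.torus_mem z.1⟩, (hmain w hwU hwn _).2
        ⟨by rw [hH, factsG2.tsys_H, factsG2.diagonalSubgroup_eq]; exact ⟨_, rfl⟩, hz z.1 z.2⟩⟩ : ↥(Stab _ _ _)))
      ⟨fun p p' h => ?_, fun g => ?_⟩).symm
    · exact Subtype.ext (congrFun (factsG2.torus_injective (F := K) kerCertG2
        (congrArg (fun g => g.1.1) h)) 1)
    · obtain ⟨hgH, hgc⟩ := (hmain w hwU hwn g.1).1 g.2
      obtain ⟨z, hze⟩ := S.exists_crd (by rw [← factsG2.tsys_H]; exact hgH) (S.le_fix g.1.2)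
      have h2 := S.commute_torus (z := z) (t := 0) (u := 1) (v := 0) (by rw [← hze]; exact hgc) hw1
      refine ⟨⟨z, ?_⟩, Subtype.ext (Subtype.ext hze.symm)⟩
      rcases sq_eq_one_iff.1 (show (z : K) ^ 2 = 1 by rw [← Units.val_pow_eq_pow_val, h2, Units.val_one]) with h | h
      · exact Or.inl (Units.ext h)
      · exact Or.inr (Units.ext (by rw [h, Units.val_neg, Units.val_one]))

end Cfsg.Agent.Lie.G2
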