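import Mathlib

/-!
The relations among six one-parameter subgroups of type G₂ in characteristic 3.
-/

set_option autoImplicit false

namespace Cfsg.Agent.Lie

/-- Root subgroups y 0, …, y 5 for a, b, a+b, 2a+b, 3a+b, 3a+2b in characteristic 3. -/
structure G2Rel (Γ : Type*) [Group Γ] (K : Type*) [Field K] where
  /-- the root subgroups -/
  y : Fin 6 → K → Γ
  h3 : (3 : K) = 0
  add : ∀ i s t, y i (s + t) = y i s * y i t
  comm : ∀ p ∈ ([(0, 3), (0, 4), (0, 5), (1, 2), (1, 3), (1, 5), (2, 3), (2, 4), (2, 5), (3, 4), (3, 5),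
    (4, 5)] : List (Fin 6 × Fin 6)), ∀ s t, Commute (y p.1 s) (y p.2 t)
  ba : ∀ t u, y 1 u * y 0 t =
    y 0 t * y 1 u * y 2 (t * u) * y 3 (t * t * u) * y 4 (-(t * t * t * u)) * y 5 (-(t * t * t * u * u))
  ca : ∀ t u, y 2 u * y 0 t = y 0 t * y 2 u * y 3 (-(t * u))
  eb : ∀ t u, y 4 u * y 1 t = y 1 t * y 4 u * y 5 (-(t * u))

namespace G2Rel

variable {Γ : Type*} [Group Γ] {K : Type*} [Field K] (R : G2Rel Γ K)

theorem zero (i : Fin 6) : R.y i 0 = 1 := by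
  have h := R.add i 0 0
  rw [add_zero] at h
  exact left_eq_mul.1 h

/-- The normal form. -/
def N (A B C D E F : K) : Γ := R.y 0 A * R.y 1 B * R.y 2 C * R.y 3 D * R.y 4 E * R.y 5 F

/-- The product rule. -/
theorem N_mul (A B C D E F A' B' C' D' E' F' : K) :
    R.N A B C D E F * R.N A' B' C' D' E' F' =
      R.N (A + A') (B + B') (C + C' + A' * B) (D + D' + A' * A' * B - A' * C) (E + E' - A' * A' * A' * B)
        (F + F' - A' * A' * A' * B * B - B' * (E - A' * A' * A' * B)) := by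
  have h03 := R.comm (0, 3) (by simp)
  have h04 := R.comm (0, 4) (by simp)
  have h05 := R.comm (0, 5) (by simp)
  have h12 := R.comm (1, 2) (by simp)
  have h13 := R.comm (1, 3) (by simp)
  have h15 := R.comm (1, 5) (by simp)
  have h23 := R.comm (2, 3) (by simp)
  have h24 := R.comm (2, 4) (by simp)
  have h25 := R.comm (2, 5) (by simp)
  have h34 := R.comm (3, 4) (by simp)
  have h35 := R.comm (3, 5) (by simp)
  have h45 := R.comm (4, 5) (by simp)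
  set C1 := A' * B + C
  set D1 := A' * A' * B + (-(A' * C) + D)
  set E1 := -(A' * A' * A' * B) + E
  set F1 := -(A' * A' * A' * B * B) + F
  have s1 : R.y 1 B * R.y 2 C * R.y 3 D * R.y 4 E * R.y 5 F * R.y 0 A' =
      R.y 0 A' * R.y 1 B * R.y 2 C1 * R.y 3 D1 * R.y 4 E1 * R.y 5 F1 := by
    calc R.y 1 B * R.y 2 C * R.y 3 D * R.y 4 E * R.y 5 F * R.y 0 A'
        = R.y 1 B * R.y 2 C * R.y 3 D * R.y 4 E * (R.y 0 A' * R.y 5 F) := by
          rw [(h05 A' F).eq]; group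
      _ = R.y 1 B * R.y 2 C * R.y 3 D * (R.y 0 A' * R.y 4 E) * R.y 5 F := by rw [(h04 A' E).eq]; group
      _ = R.y 1 B * R.y 2 C * (R.y 0 A' * R.y 3 D) * R.y 4 E * R.y 5 F := by rw [(h03 A' D).eq]; group
      _ = R.y 1 B * (R.y 2 C * R.y 0 A') * R.y 3 D * R.y 4 E * R.y 5 F := by group
      _ = (R.y 1 B * R.y 0 A') * R.y 2 C * (R.y 3 (-(A' * C)) * R.y 3 D) * R.y 4 E * R.y 5 F := by
          rw [R.ca]; group
      _ = R.y 0 A' * R.y 1 B * R.y 2 (A' * B) * R.y 3 (A' * A' * B) * R.y 4 (-(A' * A' * A' * B)) *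
            (R.y 5 (-(A' * A' * A' * B * B)) * R.y 2 C) * R.y 3 (-(A' * C) + D) * R.y 4 E * R.y 5 F := by
          rw [R.ba, ← R.add]; group
      _ = R.y 0 A' * R.y 1 B * R.y 2 (A' * B) * R.y 3 (A' * A' * B) * (R.y 4 (-(A' * A' * A' * B)) *
            R.y 2 C) * (R.y 5 (-(A' * A' * A' * B * B)) * R.y 3 (-(A' * C) + D)) * R.y 4 E * R.y 5 F := by
          rw [← (h25 C _).eq]; group
      _ = R.y 0 A' * R.y 1 B * R.y 2 (A' * B) * (R.y 3 (A' * A' * B) * R.y 2 C) *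
            (R.y 4 (-(A' * A' * A' * B)) * R.y 3 (-(A' * C) + D)) * (R.y 5 (-(A' * A' * A' * B * B)) * R.y 4 E) *
              R.y 5 F := by
          rw [← (h24 C _).eq, ← (h35 _ (-(A' * A' * A' * B * B))).eq]; group
      _ = R.y 0 A' * R.y 1 B * (R.y 2 (A' * B) * R.y 2 C) * (R.y 3 (A' * A' * B) * R.y 3 (-(A' * C) + D)) *
            (R.y 4 (-(A' * A' * A' * B)) * R.y 4 E) * (R.y 5 (-(A' * A' * A' * B * B)) * R.y 5 F) := by
          rw [← (h23 C _).eq, ← (h34 _ (-(A' * A' * A' * B))).eq, ← (h45 E _).eq]; group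
      _ = _ := by simp only [← R.add, C1, D1, E1, F1]
  have s2 : R.y 2 C1 * R.y 3 D1 * R.y 4 E1 * R.y 5 F1 * R.y 1 B' =
      R.y 1 B' * R.y 2 C1 * R.y 3 D1 * R.y 4 E1 * R.y 5 (-(B' * E1) + F1) := by
    calc R.y 2 C1 * R.y 3 D1 * R.y 4 E1 * R.y 5 F1 * R.y 1 B'
        = R.y 2 C1 * R.y 3 D1 * (R.y 4 E1 * R.y 1 B') * R.y 5 F1 := by
          rw [mul_assoc _ (R.y 5 F1), ← (h15 B' F1).eq]; group
      _ = R.y 2 C1 * (R.y 3 D1 * R.y 1 B') * R.y 4 E1 * (R.y 5 (-(B' * E1)) * R.y 5 F1) := by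
          rw [R.eb]; group
      _ = (R.y 2 C1 * R.y 1 B') * R.y 3 D1 * R.y 4 E1 * R.y 5 (-(B' * E1) + F1) := by
          rw [← (h13 B' D1).eq, ← R.add]; group
      _ = _ := by rw [← (h12 B' C1).eq]
  set F2 := -(B' * E1) + F1
  have s3 : R.y 2 C1 * R.y 3 D1 * R.y 4 E1 * R.y 5 F2 * (R.y 2 C' * R.y 3 D' * R.y 4 E' * R.y 5 F') =
      R.y 2 (C1 + C') * R.y 3 (D1 + D') * R.y 4 (E1 + E') * R.y 5 (F2 + F') := by
    calc R.y 2 C1 * R.y 3 D1 * R.y 4 E1 * R.y 5 F2 * (R.y 2 C' * R.y 3 D' * R.y 4 E' * R.y 5 F')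
        = R.y 2 C1 * R.y 3 D1 * (R.y 4 E1 * R.y 2 C') * (R.y 5 F2 * R.y 3 D') * R.y 4 E' * R.y 5 F' := by
          rw [show R.y 2 C1 * R.y 3 D1 * R.y 4 E1 * R.y 5 F2 * (R.y 2 C' * R.y 3 D' * R.y 4 E' * R.y 5 F') =
            R.y 2 C1 * R.y 3 D1 * R.y 4 E1 * (R.y 5 F2 * R.y 2 C') * R.y 3 D' * R.y 4 E' * R.y 5 F' by group,
            ← (h25 C' F2).eq]; group
      _ = R.y 2 C1 * (R.y 3 D1 * R.y 2 C') * (R.y 4 E1 * R.y 3 D') * (R.y 5 F2 * R.y 4 E') * R.y 5 F' := by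
          rw [← (h24 C' E1).eq, ← (h35 D' F2).eq]; group
      _ = (R.y 2 C1 * R.y 2 C') * (R.y 3 D1 * R.y 3 D') * (R.y 4 E1 * R.y 4 E') * (R.y 5 F2 * R.y 5 F') := by
          rw [← (h23 C' D1).eq, ← (h34 D' E1).eq, ← (h45 E' F2).eq]; group
      _ = _ := by simp only [← R.add]
  simp only [N]
  calc R.y 0 A * R.y 1 B * R.y 2 C * R.y 3 D * R.y 4 E * R.y 5 F *
        (R.y 0 A' * R.y 1 B' * R.y 2 C' * R.y 3 D' * R.y 4 E' * R.y 5 F')
      = R.y 0 A * (R.y 1 B * R.y 2 C * R.y 3 D * R.y 4 E * R.y 5 F * R.y 0 A') *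
          R.y 1 B' * (R.y 2 C' * R.y 3 D' * R.y 4 E' * R.y 5 F') := by group
    _ = (R.y 0 A * R.y 0 A') * R.y 1 B * (R.y 2 C1 * R.y 3 D1 * R.y 4 E1 * R.y 5 F1 * R.y 1 B') *
          (R.y 2 C' * R.y 3 D' * R.y 4 E' * R.y 5 F') := by rw [s1]; group
    _ = (R.y 0 A * R.y 0 A') * (R.y 1 B * R.y 1 B') *
          (R.y 2 C1 * R.y 3 D1 * R.y 4 E1 * R.y 5 F2 * (R.y 2 C' * R.y 3 D' * R.y 4 E' * R.y 5 F')) := by
        rw [s2]; group
    _ = (R.y 0 A * R.y 0 A') * (R.y 1 B * R.y 1 B') *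
          (R.y 2 (C1 + C') * R.y 3 (D1 + D') * R.y 4 (E1 + E') * R.y 5 (F2 + F')) := by rw [s3]
    _ = R.y 0 (A + A') * R.y 1 (B + B') * R.y 2 (C1 + C') * R.y 3 (D1 + D') * R.y 4 (E1 + E') *
          R.y 5 (F2 + F') := by simp only [← R.add]; group
    _ = _ := by
      have e2 : C1 + C' = C + C' + A' * B := by ring
      have e3 : D1 + D' = D + D' + A' * A' * B - A' * C := by ring
      have e4 : E1 + E' = E + E' - A' * A' * A' * B := by ring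
      have e5 : F2 + F' = F + F' - A' * A' * A' * B * B - B' * (E - A' * A' * A' * B) := by
        simp only [F2, E1, F1]; ring
      rw [e2, e3, e4, e5]

/-- A map permuting the six subgroups. -/
theorem sig_N (G : Subgroup Γ) (hG : ∀ i t, R.y i t ∈ G) (sig : Γ → Γ)
    (hmul : ∀ a ∈ G, ∀ b ∈ G, sig (a * b) = sig a * sig b) (f g : K → K)
    (h0 : ∀ t, sig (R.y 0 t) = R.y 1 (g t)) (h1 : ∀ t, sig (R.y 1 t) = R.y 0 (f t))
    (h2 : ∀ t, sig (R.y 2 t) = R.y 4 (g t)) (h3' : ∀ t, sig (R.y 3 t) = R.y 5 (g t))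
    (h4 : ∀ t, sig (R.y 4 t) = R.y 2 (f t)) (h5 : ∀ t, sig (R.y 5 t) = R.y 3 (f t))
    (A B C D E F : K) :
    sig (R.N A B C D E F) = R.N (f B) (g A) (f B * g A + f E) (f B * f B * g A + f F)
      (-(f B * f B * f B * g A) + g C) (-(f B * f B * f B * g A * g A) + g D) := by
  have key : R.N 0 (g A) 0 0 0 0 * R.N (f B) 0 0 0 0 0 * R.N 0 0 (f E) (f F) (g C) (g D) =
      R.N (f B) (g A) (f B * g A + f E) (f B * f B * g A + f F)
        (-(f B * f B * f B * g A) + g C) (-(f B * f B * f B * g A * g A) + g D) := by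
    rw [N_mul, N_mul]
    congr 1 <;> ring
  rw [← key]
  have hm : ∀ a ∈ G, ∀ i t, sig (a * R.y i t) = sig a * sig (R.y i t) := fun a ha i t => hmul a ha _ (hG i t)
  have g1 := mul_mem (hG 0 A) (hG 1 B)
  have g2 := mul_mem g1 (hG 2 C)
  have g3 := mul_mem g2 (hG 3 D)
  have g4 := mul_mem g3 (hG 4 E)
  show sig (R.y 0 A * R.y 1 B * R.y 2 C * R.y 3 D * R.y 4 E * R.y 5 F) = _
  rw [hm _ g4, hm _ g3, hm _ g2, hm _ g1, hm _ (hG 0 A), h0, h1, h2, h3', h4, h5]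
  simp only [N, R.zero, one_mul, mul_one]
  have c24 := R.comm (2, 4) (by simp) (f E) (g C)
  have c25 := R.comm (2, 5) (by simp) (f E) (g D)
  have c34 := R.comm (3, 4) (by simp) (f F) (g C)
  have c35 := R.comm (3, 5) (by simp) (f F) (g D)
  have e : R.y 4 (g C) * R.y 5 (g D) * R.y 2 (f E) * R.y 3 (f F) =
      R.y 2 (f E) * R.y 3 (f F) * R.y 4 (g C) * R.y 5 (g D) := by
    calc _ = R.y 4 (g C) * (R.y 5 (g D) * R.y 2 (f E)) * R.y 3 (f F) := by group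
      _ = (R.y 4 (g C) * R.y 2 (f E)) * (R.y 5 (g D) * R.y 3 (f F)) := by rw [← c25.eq]; group
      _ = R.y 2 (f E) * (R.y 4 (g C) * R.y 3 (f F)) * R.y 5 (g D) := by rw [← c24.eq, ← c35.eq]; group
      _ = _ := by rw [← c34.eq]; group
  calc _ = R.y 1 (g A) * R.y 0 (f B) * (R.y 4 (g C) * R.y 5 (g D) * R.y 2 (f E) * R.y 3 (f F)) := by group
    _ = _ := by rw [e]

end G2Rel

end Cfsg.Agent.Lie
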