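import Cfsg.Agent.Lib.Lie.Twist
import Cfsg.Agent.Lib.Lie.Parabolic

/-!
The subgroup of the Weyl group commuting with a root map, via orbits of nodes.
-/

set_option autoImplicit false

namespace Cfsg.Agent.Lie

open Cfsg.Lie Matrix
open scoped MatrixGroups

/-- A word acting on a root, last letter first. -/
def actR (D : ChevalleyDatum) (l : List ℕ) (r : ℕ) : ℕ := l.foldr D.reflectRoot r

/-- The coroot of r involves only the nodes of l. -/
def inJb (D : ChevalleyDatum) (l : List ℕ) (r : ℕ) : Bool :=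
  (List.range D.rank).all fun i => l.contains i || (D.coroot.getD r #[]).getD i 0 == 0

/-- The positive roots made negative by a word. -/
def orbL (D : ChevalleyDatum) (l : List ℕ) : List ℕ :=
  (Facts.posL D).filter fun r => decide (actR D l r < D.nroots / 2)

/-- Conditions on the word of the longest element of an orbit of nodes. -/
def okOrbit (D : ChevalleyDatum) (R : RMap) (σ : Fin D.rank → Fin D.rank) (ω : List (Fin D.rank)) : Bool :=
  let l := ω.map Fin.val
  !ω.isEmpty &&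
  ((List.range D.nroots).all fun r =>
    actR D l (actR D l r) == r && actR D l (R.img r) == R.img (actR D l r) &&
    (decide (r < D.nroots / 2) || decide (actR D l r < D.nroots / 2) == inJb D l r)) &&
  ω.all fun i => ω.contains (σ i) && ω.all fun j => (List.range D.rank).any fun k => σ^[k] i == j

/-- The orbits cover all nodes and are disjoint. -/
def okOrbits (D : ChevalleyDatum) (R : RMap) (σ : Fin D.rank → Fin D.rank)
    (Os : List (List (Fin D.rank))) : Bool :=
  (Os.all fun ω => okOrbit D R σ ω) &&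
  ((List.finRange D.rank).all fun i => Os.any fun ω => ω.contains i) &&
  Os.all fun ω => Os.all fun ω' => ω == ω' || ω.all fun i => !ω'.contains i

variable {D : ChevalleyDatum} {F : Type*} [Field F] {hF : Facts D}

theorem Facts.pr_smul_val (ω : List (Fin D.rank)) (r : Fin D.nroots) :
    (hF.refSys.pr ω • r : Fin D.nroots).val = actR D (ω.map Fin.val) r.val := by
  induction ω with
  | nil => simp [actR]
  | cons i ω ih =>
    rw [RefSystem.pr_cons, mul_smul]
    show D.reflectRoot i.val (hF.refSys.pr ω • r : Fin D.nroots).val = _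
    rw [ih]
    rfl

/-- The nodes of a word as a set of naturals. -/
def nodeSet (ω : List (Fin D.rank)) : Set ℕ := {n | n ∈ ω.map Fin.val}

theorem inJb_iff (ω : List (Fin D.rank)) {r : ℕ} (hr : r < D.nroots) :
    inJb D (ω.map Fin.val) r = true ↔ D.InRootSub (nodeSet ω) r := by
  simp only [inJb, List.all_eq_true, List.mem_range, Bool.or_eq_true, List.contains_iff_mem, beq_iff_eq]
  exact ⟨fun h => ⟨hr, fun i hi hiJ => (h i hi).resolve_left hiJ⟩,
    fun h i hi => or_iff_not_imp_left.2 fun hc => h.2 i hi hc⟩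

namespace Twist

variable (T : Twist hF F) {Os : List (List (Fin D.rank))} (hOs : okOrbits D T.R T.σ Os = true)

include hOs in
theorem orbit_root {ω : List (Fin D.rank)} (hω : ω ∈ Os) {r : ℕ} (hr : r < D.nroots) :
    actR D (ω.map Fin.val) (actR D (ω.map Fin.val) r) = r ∧
    actR D (ω.map Fin.val) (T.R.img r) = T.R.img (actR D (ω.map Fin.val) r) ∧
    (D.nroots / 2 ≤ r → (actR D (ω.map Fin.val) r < D.nroots / 2 ↔ D.InRootSub (nodeSet ω) r)) := by
  simp only [okOrbits, okOrbit, Bool.and_eq_true, List.all_eq_true, List.mem_range, beq_iff_eq,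
    Bool.or_eq_true, decide_eq_true_eq] at hOs
  obtain ⟨⟨h1, h2⟩, h3⟩ := ((hOs.1.1 ω hω).1.2) r hr
  refine ⟨h1, h2, fun hp => ?_⟩
  rw [← inJb_iff ω hr]
  rcases h3 with h3 | h3
  · omega
  · rw [← h3, decide_eq_true_iff]

include hOs in
theorem orbit_node {ω : List (Fin D.rank)} (hω : ω ∈ Os) {i : Fin D.rank} (hi : i ∈ ω) :
    T.σ i ∈ ω ∧ ∀ j ∈ ω, ∃ k : ℕ, (⇑T.σ)^[k] i = j := by
  simp only [okOrbits, okOrbit, Bool.and_eq_true, List.all_eq_true, List.contains_iff_mem,
    List.any_eq_true, beq_iff_eq] at hOs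
  obtain ⟨h1, h2⟩ := (hOs.1.1 ω hω).2 i hi
  exact ⟨h1, fun j hj => let ⟨k, _, hk⟩ := h2 j hj; ⟨k, hk⟩⟩

include hOs in
theorem exists_orbit (i : Fin D.rank) : ∃ ω ∈ Os, i ∈ ω := by
  simp only [okOrbits, Bool.and_eq_true, List.all_eq_true, List.contains_iff_mem, List.any_eq_true,
    List.mem_finRange, true_implies] at hOs
  exact hOs.1.2 i

include hOs in
theorem orbit_unique {ω ω' : List (Fin D.rank)} (hω : ω ∈ Os) (hω' : ω' ∈ Os) {i : Fin D.rank}
    (hi : i ∈ ω) (hi' : i ∈ ω') : ω = ω' := by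
  simp only [okOrbits, Bool.and_eq_true, List.all_eq_true, Bool.or_eq_true, beq_iff_eq,
    Bool.not_eq_true', List.contains_eq_mem, decide_eq_false_iff_not] at hOs
  exact (hOs.2 ω hω ω' hω').resolve_right fun h => h i hi hi'

/-- The longest element of an orbit. -/
def wO (_ : Twist hF F) (ω : List (Fin D.rank)) : hF.weyl := hF.refSys.pr ω

include hOs in
theorem wO_sq {ω : List (Fin D.rank)} (hω : ω ∈ Os) : T.wO ω * T.wO ω = 1 := by
  refine Subtype.ext (Equiv.ext fun r => ?_)
  show (T.wO ω * T.wO ω) • r = r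
  rw [mul_smul]
  apply Fin.ext
  rw [wO, Facts.pr_smul_val, Facts.pr_smul_val]
  exact (T.orbit_root hOs hω r.isLt).1

include hOs in
theorem piFix_wO {ω : List (Fin D.rank)} (hω : ω ∈ Os) : T.PiFix (T.wO ω) := fun r => by
  apply Fin.ext
  show _ = T.R.img _
  rw [wO, Facts.pr_smul_val, Facts.pr_smul_val]
  exact (T.orbit_root hOs hω r.isLt).2.1

include hOs in
theorem wO_neg {ω : List (Fin D.rank)} (hω : ω ∈ Os) {r : Fin D.nroots} (hr : r ∈ hF.refSys.P) :
    T.wO ω • r ∉ hF.refSys.P ↔ r.val ∈ orbL D (ω.map Fin.val) := by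
  have hr' : D.nroots / 2 ≤ r.val := by simpa [Facts.refSys] using hr
  have h1 : T.wO ω • r ∉ hF.refSys.P ↔ actR D (ω.map Fin.val) r.val < D.nroots / 2 := by
    rw [← Facts.pr_smul_val (hF := hF)]
    simp [Facts.refSys, wO]
  rw [h1, orbL, List.mem_filter]
  simp [Facts.mem_posL, hr', r.isLt]

include T in
theorem mem_orbL {ω : List (Fin D.rank)} {r : ℕ} (h : r ∈ orbL D (ω.map Fin.val)) :
    D.nroots / 2 ≤ r ∧ r < D.nroots := Facts.mem_posL.1 (List.mem_filter.1 h).1

include hOs in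
theorem orbL_iff {ω : List (Fin D.rank)} (hω : ω ∈ Os) {r : ℕ} (hr : r < D.nroots)
    (hr' : D.nroots / 2 ≤ r) : r ∈ orbL D (ω.map Fin.val) ↔ D.InRootSub (nodeSet ω) r := by
  rw [orbL, List.mem_filter, ← (T.orbit_root hOs hω hr).2.2 hr']
  simp [Facts.mem_posL, hr', hr]

include hOs in
theorem invList_wO {ω : List (Fin D.rank)} (hω : ω ∈ Os) :
    TorusSys.invList (T.wO ω) = orbL D (ω.map Fin.val) := by
  refine List.filter_congr fun r hr => ?_
  obtain ⟨h1, h2⟩ := Facts.mem_posL.1 hr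
  refine decide_eq_decide.2 ?_
  constructor
  · rintro ⟨h, hn⟩
    have := (T.wO_neg hOs hω (r := ⟨r, h⟩) (by simp [Facts.refSys, h1])).1 hn
    simpa using (List.mem_filter.1 this).2
  · intro hlt
    refine ⟨h2, (T.wO_neg hOs hω (r := ⟨r, h2⟩) (by simp [Facts.refSys, h1])).2 ?_⟩
    simp [orbL, hlt, Facts.mem_posL, h1, h2]

theorem exists_descent {w : hF.weyl} (hne : w ≠ 1) : ∃ i, w • hF.refSys.α i ∉ hF.refSys.P := by
  obtain ⟨ω, hω, hlen⟩ := hF.refSys.exists_reduced w
  rcases List.eq_nil_or_concat ω with rfl | ⟨q, i, rfl⟩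
  · rw [RefSystem.pr_nil] at hω
    exact absurd hω.symm hne
  refine ⟨i, fun hp => ?_⟩
  rw [List.concat_eq_append] at hω hlen
  rw [RefSystem.pr_append, RefSystem.pr_singleton] at hω
  rw [List.length_append, List.length_singleton] at hlen
  have h1 := hF.refSys.len_mul_s_of_mem hp
  rw [show w * hF.refSys.s i = hF.refSys.pr q by rw [← hω, mul_assoc, hF.refSys.sq, mul_one]] at h1
  have := hF.refSys.len_pr_le q
  omega

include hOs in
theorem orbit_neg {ω : List (Fin D.rank)} (hω : ω ∈ Os) {w : hF.weyl} (hw : T.PiFix w)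
    {i : Fin D.rank} (hi : i ∈ ω) (hneg : w • hF.refSys.α i ∉ hF.refSys.P) :
    ∀ r, (h : r < D.nroots) → r ∈ orbL D (ω.map Fin.val) → w • (⟨r, h⟩ : Fin D.nroots) ∉ hF.refSys.P := by
  have hit : ∀ k : ℕ, w • hF.refSys.α ((⇑T.σ)^[k] i) ∉ hF.refSys.P := by
    intro k
    induction k with
    | zero => simpa using hneg
    | succ k ih =>
      rw [Function.iterate_succ_apply', ← T.ι_α, hw, T.ι_mem_P]
      exact ih
  have hall : ∀ j ∈ ω, w • hF.refSys.α j ∉ hF.refSys.P := fun j hj => by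
    obtain ⟨k, hk⟩ := (T.orbit_node hOs hω hi).2 j hj
    exact hk ▸ hit k
  have hnegpsi : ∀ x : Fin D.nroots, x ∉ hF.refSys.P → hF.psi x.val < 0 := by
    intro x hx
    have h' : D.nroots / 2 ≤ D.neg x.val := by
      simpa [Facts.refSys] using (hF.refSys.neg_mem x).2 hx
    have := hF.psi_pos (hF.neg_lt x.isLt) h'
    rw [hF.psi_neg x.isLt] at this
    omega
  suffices hm : ∀ r, (hr : r < D.nroots) → D.nroots / 2 ≤ r → D.InRootSub (nodeSet ω) r →
      hF.psi (w • (⟨r, hr⟩ : Fin D.nroots) : Fin D.nroots).val < 0 by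
    intro r hr hmem hc
    have h1 := hm r hr (T.mem_orbL hmem).1 ((T.orbL_iff hOs hω hr (T.mem_orbL hmem).1).1 hmem)
    have h2 := hF.psi_pos (Fin.isLt _)
      (show D.nroots / 2 ≤ (w • (⟨r, hr⟩ : Fin D.nroots) : Fin D.nroots).val by simpa [Facts.refSys] using hc)
    omega
  intro r
  induction r using Nat.strong_induction_on with
  | _ r ih =>
    intro hr hr' hJ
    obtain ⟨j, hj, hjJ, hlt⟩ := hF.exists_refl_lt_J (nodeSet ω) hJ hr'
    obtain ⟨j', hj', hjv⟩ := List.mem_map.1 hjJ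
    subst hjv
    have h2 := hnegpsi _ (hall j' hj')
    by_cases hp : r = D.simple j'.val
    · subst hp; exact h2
    · have hq := hF.refl_lt j'.val hj r hr
      have hqp := hF.refl_pos j'.val hj r hr hr' hp
      have h1 := ih _ hlt hq hqp (hF.inRootSub_refl (nodeSet ω) hj hjJ hJ)
      have hA : 0 < -D.cartan j'.val (D.reflectRoot j'.val r) := by
        have := hF.psi_refl hj hq
        rw [hF.refl_refl j'.val hj r hr] at this
        have h3 := hF.psi_lt hlt hr
        have h4 := hF.psi_pos (hF.simple_lt j'.val hj) (hF.simple_ge j'.val hj)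
        nlinarith
      have hcomb : ∀ k, k < D.rank → D.cartan k r = 1 * D.cartan k (D.reflectRoot j'.val r) +
          (-D.cartan j'.val (D.reflectRoot j'.val r)) * D.cartan k (D.simple j'.val) := by
        intro k hk
        have := hF.cartan_refl j'.val hj _ hq k hk
        rw [hF.refl_refl j'.val hj r hr] at this
        rw [this]; ring
      have hlin := TorusSys.weyl_comb w ⟨r, hr⟩ ⟨_, hq⟩ (hF.refSys.α j') 1
        (-D.cartan j'.val (D.reflectRoot j'.val r)) hcomb
      rw [TorusSys.psi_comb (hF := hF) _ _ hlin, one_mul]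
      nlinarith

include hOs in
theorem wO_pos {ω : List (Fin D.rank)} (hω : ω ∈ Os) {x : Fin D.nroots}
    (hx : x ∈ hF.refSys.P) (hxL : x.val ∉ orbL D (ω.map Fin.val)) :
    T.wO ω • x ∈ hF.refSys.P ∧ (T.wO ω • x : Fin D.nroots).val ∉ orbL D (ω.map Fin.val) := by
  have hp : T.wO ω • x ∈ hF.refSys.P := by
    by_contra hc
    exact hxL ((T.wO_neg hOs hω hx).1 hc)
  refine ⟨hp, fun h => ?_⟩
  have h2 := (T.wO_neg hOs hω hp).2 h
  rw [← mul_smul, T.wO_sq hOs hω, one_smul] at h2
  exact h2 hx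

include hOs in
/-- Removing an orbit from the right. -/
theorem split {ω : List (Fin D.rank)} (hω : ω ∈ Os) {w : hF.weyl} (hw : T.PiFix w)
    {i : Fin D.rank} (hi : i ∈ ω) (hneg : w • hF.refSys.α i ∉ hF.refSys.P) :
    T.PiFix (w * T.wO ω) ∧
      hF.refSys.len w = hF.refSys.len (w * T.wO ω) + (orbL D (ω.map Fin.val)).length ∧
      ∀ r, (h : r < D.nroots) → r ∈ orbL D (ω.map Fin.val) →
        (w * T.wO ω) • (⟨r, h⟩ : Fin D.nroots) ∈ hF.refSys.P := by
  classical
  have hneg' := T.orbit_neg hOs hω hw hi hneg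
  set L := orbL D (ω.map Fin.val) with hL
  have hvL : ∀ r, (h : r < D.nroots) → r ∈ L → (w * T.wO ω) • (⟨r, h⟩ : Fin D.nroots) ∈ hF.refSys.P := by
    intro r h hr
    have hx : T.wO ω • (⟨r, h⟩ : Fin D.nroots) ∉ hF.refSys.P :=
      (T.wO_neg hOs hω (by simp [Facts.refSys, (T.mem_orbL hr).1])).2 hr
    set y := hF.refSys.neg (T.wO ω • (⟨r, h⟩ : Fin D.nroots)) with hy
    have hyP : y ∈ hF.refSys.P := (hF.refSys.neg_mem _).2 hx
    have hyL : y.val ∈ L := by
      rw [hL, ← T.wO_neg hOs hω hyP, hy, RefSystem.smul_neg, ← mul_smul, T.wO_sq hOs hω, one_smul,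
        hF.refSys.neg_mem]
      simp [Facts.refSys, (T.mem_orbL hr).1]
    have h3 := hneg' y.val y.isLt hyL
    rw [Fin.eta, hy, RefSystem.smul_neg, hF.refSys.neg_mem, not_not] at h3
    rw [mul_smul]
    exact h3
  refine ⟨T.piFix_mul hw (T.piFix_wO hOs hω), ?_, hvL⟩
  have hLnd : L.Nodup := hF.closedList_posL.sorted.nodup.filter _
  let A : Finset (Fin D.nroots) := Finset.univ.filter fun x => x.val ∈ L
  have hA : A.card = L.length := by
    rw [← List.toFinset_card_of_nodup hLnd, ← Finset.card_map Fin.valEmbedding]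
    congr 1
    ext r
    simp only [Finset.mem_map, A, Finset.mem_filter, Finset.mem_univ, true_and, Fin.valEmbedding_apply,
      List.mem_toFinset]
    exact ⟨fun ⟨a, ha, he⟩ => he ▸ ha, fun h => ⟨⟨r, (T.mem_orbL h).2⟩, h, rfl⟩⟩
  have hset : hF.refSys.inv w = A ∪ (hF.refSys.inv (w * T.wO ω)).image (fun x => T.wO ω • x) := by
    ext x
    simp only [RefSystem.mem_inv, Finset.mem_union, A, Finset.mem_filter, Finset.mem_univ, true_and,
      Finset.mem_image]
    constructor
    · rintro ⟨hx, hxw⟩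
      by_cases hxL : x.val ∈ L
      · exact Or.inl hxL
      · refine Or.inr ⟨T.wO ω • x, ⟨(T.wO_pos hOs hω hx hxL).1, ?_⟩, ?_⟩
        · rwa [mul_smul, ← mul_smul (T.wO ω), T.wO_sq hOs hω, one_smul]
        · rw [← mul_smul, T.wO_sq hOs hω, one_smul]
    · rintro (hxL | ⟨y, ⟨hy, hyv⟩, rfl⟩)
      · exact ⟨by simp [Facts.refSys, (T.mem_orbL hxL).1], hneg' x.val x.isLt hxL⟩
      · have hyL : y.val ∉ L := fun h => hyv (hvL y.val y.isLt h)
        exact ⟨(T.wO_pos hOs hω hy hyL).1, by rwa [← mul_smul]⟩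
  have hdisj : Disjoint A ((hF.refSys.inv (w * T.wO ω)).image (fun x => T.wO ω • x)) := by
    rw [Finset.disjoint_left]
    intro x hxA hx
    obtain ⟨y, hy, rfl⟩ := Finset.mem_image.1 hx
    obtain ⟨hy1, hy2⟩ := (RefSystem.mem_inv _).1 hy
    have hyL : y.val ∉ L := fun h => hy2 (hvL y.val y.isLt h)
    exact (T.wO_pos hOs hω hy1 hyL).2 (by simpa [A] using hxA)
  rw [RefSystem.len, RefSystem.len, hset, Finset.card_union_of_disjoint hdisj, hA,
    Finset.card_image_of_injective _ (MulAction.injective _)]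
  omega

include hOs in
theorem orbL_ne_nil {ω : List (Fin D.rank)} (hω : ω ∈ Os) : orbL D (ω.map Fin.val) ≠ [] := by
  have h := hOs
  simp only [okOrbits, okOrbit, Bool.and_eq_true, List.all_eq_true, Bool.not_eq_true',
    List.isEmpty_eq_false_iff_exists_mem] at h
  obtain ⟨i, hi⟩ := (h.1.1 ω hω).1.1
  intro hnil
  have := (T.orbL_iff hOs hω (hF.simple_lt i.val i.isLt) (hF.simple_ge i.val i.isLt)).2
    ((hF.inRootSub_simple (nodeSet ω) i.isLt).2 (List.mem_map.2 ⟨i, hi, rfl⟩))
  rw [hnil] at this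
  exact List.not_mem_nil this

include hOs in
/-- Induction on the elements commuting with the root map. -/
theorem piFix_induction {P : hF.weyl → Prop} (one : P 1)
    (step : ∀ ω ∈ Os, ∀ v, T.PiFix v → T.PiFix (v * T.wO ω) →
      hF.refSys.len (v * T.wO ω) = hF.refSys.len v + (orbL D (ω.map Fin.val)).length →
      (∀ r, (h : r < D.nroots) → r ∈ orbL D (ω.map Fin.val) → v • (⟨r, h⟩ : Fin D.nroots) ∈ hF.refSys.P) →
      P v → P (v * T.wO ω)) :
    ∀ w, T.PiFix w → P w := by
  intro w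
  induction hn : hF.refSys.len w using Nat.strong_induction_on generalizing w with
  | _ n ih =>
    subst hn
    intro hw
    by_cases hne : w = 1
    · exact hne ▸ one
    obtain ⟨i, hi⟩ := exists_descent hne
    obtain ⟨ω, hω, hiω⟩ := T.exists_orbit hOs i
    obtain ⟨h1, h2, h3⟩ := T.split hOs hω hw hiω hi
    have hpos : 0 < (orbL D (ω.map Fin.val)).length :=
      List.length_pos_of_ne_nil (T.orbL_ne_nil hOs hω)
    have key := step ω hω (w * T.wO ω) h1
      (by rw [mul_assoc, T.wO_sq hOs hω, mul_one]; exact hw)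
      (by rw [mul_assoc, T.wO_sq hOs hω, mul_one]; exact h2) h3 (ih _ (by omega) _ rfl h1)
    rwa [mul_assoc, T.wO_sq hOs hω, mul_one] at key

theorem exists_longest : ∃ w, T.PiFix w ∧ TorusSys.invList w = Facts.posL D := by
  obtain ⟨w, hw⟩ := hF.exists_longest
  have hw' : ∀ x : Fin D.nroots, x ∈ hF.refSys.P → T.conjW w • x ∉ hF.refSys.P := by
    intro x hx
    obtain ⟨r, rfl⟩ := T.ι_surjective x
    rw [T.conjW_ι, T.ι_mem_P]
    exact hw r ((T.ι_mem_P r).1 hx)
  have heq : (T.conjW w)⁻¹ * w = 1 := by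
    refine hF.refSys.eq_one_of_len_eq_zero ?_
    rw [RefSystem.len, Finset.card_eq_zero, Finset.eq_empty_iff_forall_notMem]
    intro x hx
    obtain ⟨h1, h2⟩ := (RefSystem.mem_inv _).1 hx
    have h3 := hw' _ ((hF.refSys.neg_mem _).2 h2)
    rw [RefSystem.smul_neg, ← mul_smul, mul_inv_cancel_left, hF.refSys.neg_mem, not_not] at h3
    exact hw x h1 h3
  refine ⟨w, (T.piFix_iff w).2 (inv_mul_eq_one.1 heq), ?_⟩
  refine List.filter_eq_self.2 fun r hr => ?_
  obtain ⟨h1, h2⟩ := Facts.mem_posL.1 hr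
  exact decide_eq_true ⟨h2, hw ⟨r, h2⟩ (by simp [Facts.refSys, h1])⟩

end Twist

end Cfsg.Agent.Lie
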