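import Mathlib
import Cfsg.Agent.Lib.Small.PSLn.Sylow
import Cfsg.Agent.Lib.Small.PSLn.Graph
import Cfsg.Agent.Lib.Spor.CoverThreeFour
import Cfsg.Agent.S0051

/-!
Central extensions of `PSL(3, 4)` by elementary abelian 2-groups: the preimages of the two
elementary abelian subgroups of order 16 of a Sylow 2-subgroup, and the splitting of their
normalisers.
-/

set_option autoImplicit false
set_option linter.unusedSectionVars false

namespace Cfsg.Agent.Lie.TwoCoverSixteen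

open Matrix Cfsg.Agent.Small

variable {F : Type*} [Field F]

local notation "P3" => Matrix.ProjectiveSpecialLinearGroup (Fin 3) F
local notation "SL2" => Matrix.SpecialLinearGroup (Fin 2) F
local notation "SL3" => Matrix.SpecialLinearGroup (Fin 3) F

/-- An upper unitriangular matrix. -/
def mU (l n m : F) : SL3 := ⟨!![1, l, n; 0, 1, m; 0, 0, 1], by simp [Matrix.det_fin_three]⟩

@[simp] theorem mU_val (l n m : F) : (mU l n m).1 = !![1, l, n; 0, 1, m; 0, 0, 1] := rfl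

theorem mU_mul (l n m l' n' m' : F) :
    mU l n m * mU l' n' m' = mU (l + l') (n + n' + l * m') (m + m') := by
  apply Subtype.ext
  rw [Matrix.SpecialLinearGroup.coe_mul]
  ext i j
  fin_cases i <;> fin_cases j <;> simp [Matrix.mul_apply, Fin.sum_univ_three] <;> ring

theorem mU_zero : (mU 0 0 0 : SL3) = 1 := by
  apply Subtype.ext
  ext i j
  fin_cases i <;> fin_cases j <;> simp

theorem mU_isUT (l n m : F) : PSLn.IsUT (mU l n m).1 := by
  refine ⟨fun i => by fin_cases i <;> simp, fun i j h => ?_⟩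
  fin_cases i <;> fin_cases j <;> simp at h ⊢

/-- Its image in the projective group. -/
def pU (l n m : F) : P3 := PSLn.pr (mU l n m)

theorem pU_mul (l n m l' n' m' : F) :
    pU l n m * pU l' n' m' = pU (l + l') (n + n' + l * m') (m + m') := by
  rw [pU, pU, pU, ← map_mul, mU_mul]

theorem pU_zero : (pU 0 0 0 : P3) = 1 := by rw [pU, mU_zero, map_one]

theorem pU_inj [Fintype F] {l n m l' n' m' : F} (h : pU l n m = pU l' n' m') :
    l = l' ∧ n = n' ∧ m = m' := by
  have e := congrArg Subtype.val (PSLn.pr_injOn_UT (mU_isUT l n m) (mU_isUT l' n' m') h)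
  have e1 := congrFun (congrFun e 0) 1
  have e2 := congrFun (congrFun e 0) 2
  have e3 := congrFun (congrFun e 1) 2
  simp at e1 e2 e3
  exact ⟨e1, e2, e3⟩

theorem pU_inv (l n m : F) : (pU l n m)⁻¹ = pU (-l) (-n + l * m) (-m) := by
  refine inv_eq_of_mul_eq_one_right ?_
  rw [pU_mul, ← pU_zero]
  congr 1 <;> ring

theorem mem_U_iff [Fintype F] (g : P3) : g ∈ PSLn.U 3 F ↔ ∃ l n m, g = pU l n m := by
  constructor
  · rintro ⟨A, hA, rfl⟩
    refine ⟨A.1 0 1, A.1 0 2, A.1 1 2, congrArg PSLn.pr (Subtype.ext ?_)⟩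
    obtain ⟨h1, h2⟩ : PSLn.IsUT A.1 := hA
    ext i j
    fin_cases i <;> fin_cases j <;> simp [h1, h2]
  · rintro ⟨l, n, m, rfl⟩
    exact ⟨_, mU_isUT l n m, rfl⟩

/-- The abelian subgroup of transvections with a common centre. -/
def R (F : Type*) [Field F] : Subgroup (Matrix.ProjectiveSpecialLinearGroup (Fin 3) F) where
  carrier := {g | ∃ l n : F, g = pU l n 0}
  one_mem' := ⟨0, 0, pU_zero.symm⟩
  mul_mem' := by
    rintro _ _ ⟨l, n, rfl⟩ ⟨l', n', rfl⟩
    exact ⟨l + l', n + n', by rw [pU_mul]; simp⟩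
  inv_mem' := by
    rintro _ ⟨l, n, rfl⟩
    exact ⟨-l, -n, by rw [pU_inv]; simp⟩

theorem mem_R {g : P3} : g ∈ R F ↔ ∃ l n : F, g = pU l n 0 := Iff.rfl

/-- The antidiagonal matrix. -/
def antiJ (F : Type*) [Field F] : GL (Fin 3) F :=
  ⟨!![0, 0, 1; 0, 1, 0; 1, 0, 0], !![0, 0, 1; 0, 1, 0; 1, 0, 0],
    by ext i j; fin_cases i <;> fin_cases j <;> simp [Matrix.mul_apply, Fin.sum_univ_three],
    by ext i j; fin_cases i <;> fin_cases j <;> simp [Matrix.mul_apply, Fin.sum_univ_three]⟩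

/-- The graph automorphism fixing the unitriangular group. -/
noncomputable def theta (F : Type*) [Field F] :
    MulAut (Matrix.ProjectiveSpecialLinearGroup (Fin 3) F) := PSLn.gr (antiJ F)

theorem theta_pU (l n m : F) : theta F (pU l n m) = pU (-m) (l * m - n) (-l) := by
  rw [theta, PSLn.gr, MulAut.mul_apply, pU, PSLn.itP_apply, PSLn.conjP_apply]
  refine congrArg PSLn.pr (Subtype.ext ?_)
  rw [PSLn.conjSL_val, PSLn.invTSL_val]
  rw [show (mU l n m)⁻¹ = mU (-l) (-n + l * m) (-m) from inv_eq_of_mul_eq_one_right (by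
    rw [mU_mul, ← mU_zero]; congr 1 <;> ring)]
  ext i j
  fin_cases i <;> fin_cases j <;>
    simp [antiJ, Matrix.mul_apply, Matrix.vecMul, dotProduct, Fin.sum_univ_three,
      Matrix.transpose_apply] <;> ring

/-- The matrix underlying `low`. -/
def mLow (s : SL2) : SL3 := ⟨!![1, 0, 0; 0, s.1 0 0, s.1 0 1; 0, s.1 1 0, s.1 1 1], by
  have h := s.2
  rw [Matrix.det_fin_two] at h
  rw [Matrix.det_fin_three]
  simpa using h⟩

theorem mLow_mul (s t : SL2) : mLow (s * t) = mLow s * mLow t := by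
  apply Subtype.ext
  rw [Matrix.SpecialLinearGroup.coe_mul (mLow s) (mLow t)]
  ext i j
  fin_cases i <;> fin_cases j <;>
    simp [mLow, Matrix.mul_apply, Fin.sum_univ_three, Fin.sum_univ_two]

/-- The homomorphism from the Levi complement. -/
def low : SL2 →* P3 :=
  MonoidHom.mk' (fun s => PSLn.pr (mLow s)) fun s t => by rw [mLow_mul, map_mul]

theorem low_eq (s : SL2) : low s = PSLn.pr (mLow s) := rfl

theorem low_conj (s : SL2) (l n : F) :
    low s * pU (l * s.1 0 0 + n * s.1 1 0) (l * s.1 0 1 + n * s.1 1 1) 0 = pU l n 0 * low s := by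
  rw [low_eq, pU, pU, ← map_mul, ← map_mul]
  refine congrArg PSLn.pr (Subtype.ext ?_)
  rw [Matrix.SpecialLinearGroup.coe_mul, Matrix.SpecialLinearGroup.coe_mul]
  ext i j
  fin_cases i <;> fin_cases j <;> simp [mLow, Matrix.mul_apply, Fin.sum_univ_three]

theorem low_conj_mem (s : SL2) {r : P3} (hr : r ∈ R F) : (low s)⁻¹ * r * low s ∈ R F := by
  obtain ⟨l, n, rfl⟩ := hr
  exact ⟨_, _, by rw [mul_assoc, ← low_conj s l n, inv_mul_cancel_left]⟩

theorem low_mem_normalizer (s : SL2) : low s ∈ Subgroup.normalizer (R F : Set P3) := by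
  rw [Subgroup.mem_normalizer_iff]
  intro r
  constructor
  · intro hr
    have := low_conj_mem s⁻¹ hr
    rwa [map_inv, inv_inv] at this
  · intro hr
    have := low_conj_mem s hr
    simpa [mul_assoc] using this

theorem transitive {l n : F} (h : l ≠ 0 ∨ n ≠ 0) : ∃ g : P3, g * pU (1 : F) 0 0 * g⁻¹ = pU l n 0 := by
  obtain ⟨s, h0, h1⟩ : ∃ s : SL2, s.1 0 0 = l ∧ s.1 0 1 = n := by
    by_cases hl : l = 0
    · subst hl
      have hn : n ≠ 0 := h.resolve_left (fun e => e rfl)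
      exact ⟨⟨!![0, n; -n⁻¹, 0], by simp [Matrix.det_fin_two, hn]⟩, rfl, rfl⟩
    · exact ⟨⟨!![l, n; 0, l⁻¹], by simp [Matrix.det_fin_two, hl]⟩, rfl, rfl⟩
  refine ⟨(low s)⁻¹, ?_⟩
  have e := low_conj s 1 0
  simp only [one_mul, zero_mul, add_zero, h0, h1] at e
  rw [inv_inv, mul_assoc, ← e, inv_mul_cancel_left]

theorem low_R_disjoint [Fintype F] {s : SL2} (h : low s ∈ R F) : s = 1 := by
  obtain ⟨l, n, h⟩ := h
  rw [low_eq, pU, PSLn.pr_eq_iff] at h
  obtain ⟨ε, -, h⟩ := h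
  have e00 := congrFun (congrFun h 0) 0
  have e11 := congrFun (congrFun h 1) 1
  have e12 := congrFun (congrFun h 1) 2
  have e21 := congrFun (congrFun h 2) 1
  have e22 := congrFun (congrFun h 2) 2
  simp [mLow] at e00 e11 e12 e21 e22
  subst e00
  apply Subtype.ext
  ext i j
  fin_cases i <;> fin_cases j <;> simp [e11, e12, e21, e22]

variable [Fintype F]

section Four

variable (hF : Fintype.card F = 4)

include hF

theorem add_self (a : F) : a + a = 0 := by
  have h4 : ((4 : ℕ) : F) = 0 := by rw [← hF]; exact Nat.cast_card_eq_zero F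
  have h2 : (2 : F) = 0 := by
    have : (2 : F) * 2 = 0 := by norm_num at h4 ⊢; exact h4
    exact mul_self_eq_zero.mp this
  linear_combination a * h2

theorem cube_eq_one {a : F} (ha : a ≠ 0) : a ^ 3 = 1 := by
  have := FiniteField.pow_card_sub_one_eq_one a ha
  rwa [hF] at this

theorem exists_omega : ∃ w : F, w ≠ 0 ∧ w ≠ 1 := by
  classical
  obtain ⟨w, -, hw⟩ := Finset.exists_mem_notMem_of_card_lt_card
    (s := ({0, 1} : Finset F)) (t := Finset.univ)
    (lt_of_le_of_lt Finset.card_le_two (by rw [Finset.card_univ, hF]; norm_num))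
  simp only [Finset.mem_insert, Finset.mem_singleton, not_or] at hw
  exact ⟨w, hw.1, hw.2⟩

theorem normalizer_decomp {g : P3} (hg : g ∈ Subgroup.normalizer (R F : Set P3)) :
    ∃ s : SL2, ∃ r ∈ R F, g = low s * r := by
  obtain ⟨A, rfl⟩ := PSLn.pr_surjective g
  obtain ⟨l, n, e⟩ := (Subgroup.mem_normalizer_iff.1 hg (pU (1 : F) 0 0)).1 ⟨1, 0, rfl⟩
  rw [mul_inv_eq_iff_eq_mul, pU, pU, ← map_mul, ← map_mul, PSLn.pr_eq_iff] at e
  obtain ⟨ε, hε, e⟩ := e
  have entry : ∀ i j, (A * mU (1 : F) 0 0).1 i j = (ε • (mU l n 0 * A).1) i j := fun i j => by rw [e]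
  have hdet := A.2
  rw [Matrix.det_fin_three] at hdet
  have a0 := entry 1 0
  have a1 := entry 1 1
  have a2 := entry 1 2
  have b0' := entry 2 0
  have b1' := entry 2 1
  have b2' := entry 2 2
  simp [Matrix.mul_apply, Matrix.vecMul, dotProduct, Fin.sum_univ_three] at a0 a1 a2 b0' b1' b2'
  have p0 : A.1 1 0 = ε * A.1 1 0 := a0
  have p1 : A.1 1 1 + A.1 1 0 = ε * A.1 1 1 := by linear_combination a1
  have p2 : A.1 1 2 = ε * A.1 1 2 := a2
  have q0 : A.1 2 0 = ε * A.1 2 0 := b0'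
  have q1 : A.1 2 1 + A.1 2 0 = ε * A.1 2 1 := by linear_combination b1'
  have q2 : A.1 2 2 = ε * A.1 2 2 := b2'
  have hε1 : ε = 1 := by
    by_contra hne
    have z : ∀ x : F, x = ε * x → x = 0 := fun x hx => by
      have : (1 - ε) * x = 0 := by linear_combination hx
      exact (mul_eq_zero.1 this).resolve_left (sub_ne_zero.2 (Ne.symm hne))
    have a0 := z _ p0
    have a2 := z _ p2
    have b0 := z _ q0
    have b2 := z _ q2
    rw [a0, add_zero] at p1
    rw [b0, add_zero] at q1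
    rw [a0, a2, b0, b2, z _ p1, z _ q1] at hdet
    simp at hdet
  subst hε1
  have h10 : A.1 1 0 = 0 := by linear_combination p1
  have h20 : A.1 2 0 = 0 := by linear_combination q1
  rw [h10, h20] at hdet
  have h00 : A.1 0 0 ≠ 0 := fun h => by rw [h] at hdet; simp at hdet
  have hd : A.1 0 0 * (A.1 1 1 * A.1 2 2 - A.1 1 2 * A.1 2 1) = 1 := by linear_combination hdet
  have hc : ((A.1 0 0)⁻¹) ^ 3 = 1 := cube_eq_one hF (inv_ne_zero h00)
  set c := (A.1 0 0)⁻¹ with hc'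
  have hca : c * A.1 0 0 = 1 := inv_mul_cancel₀ h00
  let s : SL2 := ⟨!![c * A.1 1 1, c * A.1 1 2; c * A.1 2 1, c * A.1 2 2], by
    rw [Matrix.det_fin_two_of]
    calc _ = c * c * (A.1 1 1 * A.1 2 2 - A.1 1 2 * A.1 2 1) * (c * A.1 0 0) := by rw [hca]; ring
      _ = c ^ 3 * (A.1 0 0 * (A.1 1 1 * A.1 2 2 - A.1 1 2 * A.1 2 1)) := by ring
      _ = 1 := by rw [hc, hd, one_mul]⟩
  refine ⟨s, pU (c * A.1 0 1) (c * A.1 0 2) 0, ⟨_, _, rfl⟩, ?_⟩
  rw [low_eq, pU, ← map_mul, eq_comm, PSLn.pr_eq_iff]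
  refine ⟨c, hc, ?_⟩
  rw [Matrix.SpecialLinearGroup.coe_mul]
  ext i j
  fin_cases i <;> fin_cases j <;>
    simp [mLow, s, Matrix.mul_apply, Fin.sum_univ_three, h10, h20, hca]

theorem card_R : Nat.card (R F) = 16 := by
  have e : F × F ≃ R F := Equiv.ofBijective (fun p => ⟨pU p.1 p.2 0, _, _, rfl⟩) ⟨fun p q h => by
    obtain ⟨h1, h2, -⟩ := pU_inj (congrArg Subtype.val h)
    exact Prod.ext h1 h2, fun x => by
    obtain ⟨l, n, h⟩ := x.2
    exact ⟨(l, n), Subtype.ext h.symm⟩⟩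
  rw [← Nat.card_congr e, Nat.card_prod, Nat.card_eq_fintype_card, hF]

theorem theta_pU' (l n m : F) : theta F (pU l n m) = pU m (n + l * m) l := by
  have hneg : ∀ a : F, -a = a := fun a => neg_eq_of_add_eq_zero_left (add_self hF a)
  rw [theta_pU, hneg, hneg, sub_eq_add_neg, hneg, add_comm]

theorem map_theta_U : (PSLn.U 3 F).map (theta F).toMonoidHom = PSLn.U 3 F := by
  refine Subgroup.eq_of_le_of_card_ge ?_ ?_
  · rintro _ ⟨g, hg, rfl⟩
    obtain ⟨l, n, m, rfl⟩ := (mem_U_iff g).1 hg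
    exact (mem_U_iff _).2 ⟨_, _, _, theta_pU' hF l n m⟩
  · exact (Nat.card_congr (Subgroup.equivMapOfInjective _ _ (theta F).injective).toEquiv).le

theorem mem_map_theta_R {g : P3} :
    g ∈ (R F).map (theta F).toMonoidHom ↔ ∃ n m : F, g = pU 0 n m := by
  constructor
  · rintro ⟨_, ⟨l, n, rfl⟩, rfl⟩
    exact ⟨n, l, by show theta F _ = _; rw [theta_pU' hF]; simp⟩
  · rintro ⟨n, m, rfl⟩
    exact ⟨pU m n 0, ⟨m, n, rfl⟩, by show theta F _ = _; rw [theta_pU' hF]; simp⟩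

theorem map_theta_theta_R :
    ((R F).map (theta F).toMonoidHom).map (theta F).toMonoidHom = R F := by
  ext g
  constructor
  · rintro ⟨h, hh, rfl⟩
    obtain ⟨n, m, rfl⟩ := (mem_map_theta_R hF).1 hh
    exact ⟨m, n, by show theta F _ = _; rw [theta_pU' hF]; simp⟩
  · rintro ⟨l, n, rfl⟩
    exact ⟨pU 0 n l, (mem_map_theta_R hF).2 ⟨n, l, rfl⟩,
      by show theta F _ = _; rw [theta_pU' hF]; simp⟩

theorem classify (E : Subgroup P3) (hEU : E ≤ PSLn.U 3 F) (h2 : ∀ g ∈ E, g ^ 2 = 1)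
    (hcard : Nat.card E = 16) : E = R F ∨ E = (R F).map (theta F).toMonoidHom := by
  haveI : Finite P3 := Finite.of_surjective _ PSLn.pr_surjective
  have hcases : ∀ g ∈ E, g ∈ R F ∨ g ∈ (R F).map (theta F).toMonoidHom := by
    intro g hg
    obtain ⟨l, n, m, rfl⟩ := (mem_U_iff g).1 (hEU hg)
    have h := h2 _ hg
    rw [pow_two, pU_mul, ← pU_zero] at h
    have hlm := (pU_inj h).2.1
    rw [add_self hF, zero_add] at hlm
    rcases mul_eq_zero.1 hlm with rfl | rfl
    · exact Or.inr ((mem_map_theta_R hF).2 ⟨n, m, rfl⟩)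
    · exact Or.inl ⟨l, n, rfl⟩
  have hC : Nat.card ((R F).map (theta F).toMonoidHom) = 16 := by
    rw [← Nat.card_congr (Subgroup.equivMapOfInjective _ _ (theta F).injective).toEquiv, card_R hF]
  by_cases hall : ∀ g ∈ E, g ∈ R F
  · exact Or.inl (Subgroup.eq_of_le_of_card_ge hall (by rw [card_R hF, hcard]))
  · push Not at hall
    obtain ⟨a, ha, haR⟩ := hall
    refine Or.inr (Subgroup.eq_of_le_of_card_ge (fun g hg => ?_) (by rw [hC, hcard]))
    rcases hcases g hg with hgR | hgC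
    · rcases hcases (a * g) (E.mul_mem ha hg) with h | h
      · exact absurd (by simpa using (R F).mul_mem h ((R F).inv_mem hgR)) haR
      · simpa using Subgroup.mul_mem _ (Subgroup.inv_mem _ ((hcases a ha).resolve_left haR)) h
    · exact hgC

theorem nonempty_SL2_PSL2 :
    Nonempty (SL2 ≃* Matrix.ProjectiveSpecialLinearGroup (Fin 2) F) := by
  have hbot : Subgroup.center SL2 = ⊥ := by
    rw [eq_bot_iff]
    intro z hz
    obtain ⟨r, hr, hzr⟩ := Matrix.SpecialLinearGroup.mem_center_iff.1 hz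
    rw [Fintype.card_fin] at hr
    have : (r - 1) * (r - 1) = 0 := by
      linear_combination hr - add_self hF r + add_self hF 1
    have hr1 : r = 1 := sub_eq_zero.1 (mul_self_eq_zero.1 this)
    rw [hr1, map_one] at hzr
    exact Subgroup.mem_bot.2 (Subtype.ext hzr.symm)
  exact ⟨((QuotientGroup.quotientMulEquivOfEq hbot).trans QuotientGroup.quotientBot).symm⟩

end Four

section Cover

variable {X : Type*} [Group X] [Finite X] (hF : Fintype.card F = 4)
  (π : X →* Matrix.ProjectiveSpecialLinearGroup (Fin 3) F) (hs : Function.Surjective π) (hc : π.ker ≤ Subgroup.center X)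
  (h2 : ∀ z ∈ π.ker, z * z = 1) (H : Subgroup X) (hker : π.ker ≤ H) (hH : H.map π = R F)

include hker hH in
theorem mem_H {x : X} : x ∈ H ↔ π x ∈ R F := by
  rw [← hH]
  exact ⟨fun h => ⟨x, h, rfl⟩, fun h => by
    rwa [← Subgroup.mem_comap, Subgroup.comap_map_eq_self hker] at h⟩

include hF hs hc h2 hker hH in
/-- The preimage is elementary abelian. -/
theorem elementary : (∀ x ∈ H, ∀ y ∈ H, x * y = y * x) ∧ ∀ x ∈ H, x ^ 2 = 1 := by
  obtain ⟨w, hw0, hw1⟩ := exists_omega hF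
  have hsq : ∀ a ∈ (R F : Set P3), a * a = 1 := by
    rintro _ ⟨l, n, rfl⟩
    rw [pU_mul]
    simp [add_self hF, pU_zero]
  have htr1 : ∀ a ∈ (R F : Set P3), a ≠ 1 → ∃ g : P3, g * pU (1 : F) 0 0 * g⁻¹ = a := by
    rintro _ ⟨l, n, rfl⟩ hne
    refine transitive ?_
    by_contra h
    push Not at h
    exact hne (by rw [h.1, h.2, pU_zero])
  have htr : ∀ a ∈ (R F : Set P3), a ≠ 1 → ∀ b ∈ (R F : Set P3), b ≠ 1 →
      ∃ g : P3, g * a * g⁻¹ = b := by
    intro a ha ha1 b hb hb1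
    obtain ⟨g, hg⟩ := htr1 a ha ha1
    obtain ⟨g', hg'⟩ := htr1 b hb hb1
    refine ⟨g' * g⁻¹, ?_⟩
    rw [← hg, ← hg']
    group
  have hab : ∀ x ∈ H, ∀ y ∈ H, x * y = y * x := by
    intro x hx y hy
    refine Spor.CoverThreeFour.commute_of_transitive π hs hc h2 (R F : Set P3)
      (fun a ha b hb => (R F).mul_mem ha hb) hsq htr ?_ x y
      ((mem_H π H hker hH).1 hx) ((mem_H π H hker hH).1 hy)
    refine ⟨pU 1 0 0, ⟨1, 0, rfl⟩, pU 0 1 0, ⟨0, 1, rfl⟩, pU 0 w 0, ⟨0, w, rfl⟩, ?_, ?_, ?_, ?_,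
      ?_, ?_, ?_⟩
    · exact fun e => one_ne_zero (pU_inj (e.trans pU_zero.symm)).1
    · exact fun e => one_ne_zero (pU_inj (e.trans pU_zero.symm)).2.1
    · exact fun e => hw0 (pU_inj (e.trans pU_zero.symm)).2.1
    · exact fun e => one_ne_zero (pU_inj e).1
    · exact fun e => one_ne_zero (pU_inj e).1
    · exact fun e => hw1 (pU_inj e).2.1.symm
    · rw [pU_mul]
      exact fun e => one_ne_zero ((pU_inj e).1.symm.trans (by simp))
  refine ⟨hab, fun x hx => ?_⟩
  -- all squares outside the kernel agree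
  have hconst : ∀ u ∈ H, ∀ v ∈ H, π u ≠ 1 → π v ≠ 1 → v * v = u * u := by
    intro u hu v hv hu1 hv1
    obtain ⟨g, hg⟩ := htr (π u) ((mem_H π H hker hH).1 hu) hu1 (π v) ((mem_H π H hker hH).1 hv) hv1
    obtain ⟨k, rfl⟩ := hs g
    have hz : (k * u * k⁻¹)⁻¹ * v ∈ π.ker := by
      rw [MonoidHom.mem_ker, map_mul, map_inv, map_mul, map_mul, map_inv, hg, inv_mul_cancel]
    have hzc := Subgroup.mem_center_iff.1 (hc hz)
    set z := (k * u * k⁻¹)⁻¹ * v with hz'
    have hv' : v = k * u * k⁻¹ * z := by rw [hz']; group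
    have huu : u * u ∈ π.ker := by
      rw [MonoidHom.mem_ker, map_mul]
      exact hsq _ ((mem_H π H hker hH).1 hu)
    calc v * v = k * u * k⁻¹ * (z * (k * u * k⁻¹)) * z := by rw [hv']; group
      _ = k * u * k⁻¹ * ((k * u * k⁻¹) * z) * z := by rw [hzc (k * u * k⁻¹)]
      _ = k * (u * u) * k⁻¹ * (z * z) := by group
      _ = u * u := by
        rw [h2 z hz, mul_one, Subgroup.mem_center_iff.1 (hc huu) k, mul_inv_cancel_right]
  obtain ⟨a, haH, ha⟩ : ∃ a ∈ H, π a = pU (1 : F) 0 0 := by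
    obtain ⟨a, ha⟩ := hs (pU (1 : F) 0 0)
    exact ⟨a, (mem_H π H hker hH).2 (ha ▸ ⟨1, 0, rfl⟩), ha⟩
  obtain ⟨b, hbH, hb⟩ : ∃ b ∈ H, π b = pU (0 : F) 1 0 := by
    obtain ⟨b, hb⟩ := hs (pU (0 : F) 1 0)
    exact ⟨b, (mem_H π H hker hH).2 (hb ▸ ⟨0, 1, rfl⟩), hb⟩
  have ha1 : π a ≠ 1 := ha ▸ fun e => one_ne_zero (pU_inj (e.trans pU_zero.symm)).1
  have hb1 : π b ≠ 1 := hb ▸ fun e => one_ne_zero (pU_inj (e.trans pU_zero.symm)).2.1
  have hab1 : π (a * b) ≠ 1 := by
    rw [map_mul, ha, hb, pU_mul]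
    exact fun e => one_ne_zero ((by simp : (1 : F) = 1 + 0).trans (pU_inj (e.trans pU_zero.symm)).1)
  have e := hconst a haH (a * b) (H.mul_mem haH hbH) ha1 hab1
  have eb := hconst a haH b hbH ha1 hb1
  have hone : a * a = 1 := by
    rw [show a * b * (a * b) = a * a * (b * b) by
      rw [mul_assoc, ← mul_assoc b a b, hab b hbH a haH]; group, eb] at e
    exact mul_eq_left.1 e
  rw [pow_two]
  by_cases hx1 : π x = 1
  · exact h2 x hx1
  · rw [hconst a haH x hx ha1 hx1, hone]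

variable (T : Sylow 2 X) (hT : (T : Subgroup X).map π = PSLn.U 3 F)
  (hkT : π.ker ≤ (T : Subgroup X))
  (K : Subgroup X) (hkerK : π.ker ≤ K) (hK : K.map π = (R F).map (theta F).toMonoidHom)

include hF hs hc h2 hker hH hT hkT hkerK hK in
/-- The normaliser splits over the preimage. -/
theorem split (hK2 : ∀ x ∈ K, ∀ y ∈ K, x * y = y * x) :
    ∃ C : Subgroup X, C ≤ Subgroup.normalizer (H : Set X) ∧ C ⊓ H = ⊥ ∧
      H ⊔ C = Subgroup.normalizer (H : Set X) ∧
      Nonempty (↥C ≃* Matrix.ProjectiveSpecialLinearGroup (Fin 2) F) := by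
  classical
  obtain ⟨hab, hsqH⟩ := elementary hF π hs hc h2 H hker hH
  set N := Subgroup.normalizer (H : Set X) with hN
  have hmemT : ∀ x : X, x ∈ (T : Subgroup X) ↔ π x ∈ PSLn.U 3 F := fun x => by
    rw [← hT]
    exact ⟨fun h => ⟨x, h, rfl⟩, fun h => by
      rwa [← Subgroup.mem_comap, Subgroup.comap_map_eq_self hkT] at h⟩
  have hmemK : ∀ x : X, x ∈ K ↔ π x ∈ (R F).map (theta F).toMonoidHom := fun x => by
    rw [← hK]
    exact ⟨fun h => ⟨x, h, rfl⟩, fun h => by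
      rwa [← Subgroup.mem_comap, Subgroup.comap_map_eq_self hkerK] at h⟩
  have hmemN : ∀ x : X, x ∈ N ↔ π x ∈ Subgroup.normalizer (R F : Set P3) := by
    intro x
    rw [hN, Subgroup.mem_normalizer_iff, Subgroup.mem_normalizer_iff]
    constructor
    · intro h y
      obtain ⟨y, rfl⟩ := hs y
      rw [← mem_H π H hker hH, ← map_mul, ← map_inv, ← map_mul, ← mem_H π H hker hH]
      exact h y
    · intro h y
      rw [mem_H π H hker hH, mem_H π H hker hH, map_mul, map_mul, map_inv]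
      exact h _
  have hHT : H ≤ (T : Subgroup X) := fun x hx => by
    rw [hmemT]
    obtain ⟨l, n, e⟩ := (mem_H π H hker hH).1 hx
    exact (mem_U_iff _).2 ⟨_, _, _, e⟩
  have hKT : K ≤ (T : Subgroup X) := fun x hx => by
    rw [hmemT]
    obtain ⟨n, m, e⟩ := (mem_map_theta_R hF).1 ((hmemK x).1 hx)
    exact (mem_U_iff _).2 ⟨_, _, _, e⟩
  have hTN : (T : Subgroup X) ≤ N := fun x hx => by
    rw [hmemN, Subgroup.mem_normalizer_iff]
    have key : ∀ g ∈ PSLn.U 3 F, ∀ r ∈ R F, g * r * g⁻¹ ∈ R F := by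
      intro g hg r hr
      obtain ⟨l, n, m, rfl⟩ := (mem_U_iff g).1 hg
      obtain ⟨a, b, rfl⟩ := hr
      rw [pU_inv, pU_mul, pU_mul]
      exact ⟨_, _, by congr 1; ring⟩
    intro r
    refine ⟨key _ ((hmemT x).1 hx) r, fun h => ?_⟩
    simpa [mul_assoc] using key _ ((PSLn.U 3 F).inv_mem ((hmemT x).1 hx)) _ h
  have hHN : H ≤ N := hHT.trans hTN
  -- a complement of `H` in `T`
  obtain ⟨W, ⟨hWK, hWH⟩, hmax⟩ := Set.exists_max_image
    {W : Subgroup X | W ≤ K ∧ W ⊓ H = ⊥} (fun W : Subgroup X => Nat.card W) (Set.toFinite _)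
    ⟨⊥, bot_le, bot_inf_eq _⟩
  have hKdec : ∀ x ∈ K, ∃ w ∈ W, ∃ h ∈ H, x = w * h := by
    intro x hx
    by_contra hno
    push Not at hno
    have hxx : x * x = 1 := by
      have hKe := elementary hF ((theta F).toMonoidHom.comp π) ((theta F).surjective.comp hs)
        (fun z hz => hc ((MonoidHom.mem_ker (f := π)).2 ((theta F).injective
          ((MonoidHom.mem_ker.1 hz).trans (map_one _).symm))))
        (fun z hz => h2 z ((MonoidHom.mem_ker (f := π)).2 ((theta F).injective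
          ((MonoidHom.mem_ker.1 hz).trans (map_one _).symm))))
        K (fun z hz => hkerK ((MonoidHom.mem_ker (f := π)).2 ((theta F).injective
          ((MonoidHom.mem_ker.1 hz).trans (map_one _).symm))))
        (by rw [← Subgroup.map_map, hK, map_theta_theta_R hF])
      simpa [pow_two] using hKe.2 x hx
    let W' : Subgroup X :=
      { carrier := {y | y ∈ W ∨ ∃ w ∈ W, y = w * x}
        one_mem' := Or.inl W.one_mem
        mul_mem' := by
          rintro a b (ha | ⟨a, ha, rfl⟩) (hb | ⟨b, hb, rfl⟩)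
          · exact Or.inl (W.mul_mem ha hb)
          · exact Or.inr ⟨a * b, W.mul_mem ha hb, (mul_assoc _ _ _).symm⟩
          · exact Or.inr ⟨a * b, W.mul_mem ha hb, by
              rw [mul_assoc, hK2 x hx b (hWK hb), ← mul_assoc]⟩
          · refine Or.inl ?_
            rw [show a * x * (b * x) = a * b * (x * x) by
              rw [mul_assoc, ← mul_assoc x b x, hK2 x hx b (hWK hb)]; group, hxx, mul_one]
            exact W.mul_mem ha hb
        inv_mem' := by
          rintro a (ha | ⟨a, ha, rfl⟩)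
          · exact Or.inl (W.inv_mem ha)
          · refine Or.inr ⟨a⁻¹, W.inv_mem ha, ?_⟩
            rw [_root_.mul_inv_rev, inv_eq_of_mul_eq_one_right hxx, hK2 x hx _ (K.inv_mem (hWK ha))] }
    have hW'K : W' ≤ K := by
      rintro y (hy | ⟨w, hw, rfl⟩)
      exacts [hWK hy, K.mul_mem (hWK hw) hx]
    have hW'H : W' ⊓ H = ⊥ := by
      rw [eq_bot_iff]
      rintro y ⟨hy | ⟨w, hw, rfl⟩, hyH⟩
      · exact hWH.le ⟨hy, hyH⟩
      · exact absurd (by group) (hno w⁻¹ (W.inv_mem hw) (w * x) hyH)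
    have hWW' : W ≤ W' := fun y hy => Or.inl hy
    have heq := Subgroup.eq_of_le_of_card_ge hWW' (hmax W' ⟨hW'K, hW'H⟩)
    have hxW : x ∈ W := heq ▸ (Or.inr ⟨1, W.one_mem, (one_mul x).symm⟩ : x ∈ W')
    exact hno x hxW 1 H.one_mem (mul_one x).symm
  have hTdec : ∀ x ∈ (T : Subgroup X), ∃ h ∈ H, ∃ w ∈ W, x = h * w := by
    intro x hx
    obtain ⟨l, n, m, e⟩ := (mem_U_iff _).1 ((hmemT x).1 hx)
    obtain ⟨h0, hh0⟩ := hs (pU l (n + l * m) 0)
    have hh0H : h0 ∈ H := (mem_H π H hker hH).2 (hh0 ▸ ⟨_, _, rfl⟩)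
    have hk : h0⁻¹ * x ∈ K := by
      rw [hmemK, map_mul, map_inv, hh0, e, pU_inv, pU_mul]
      exact (mem_map_theta_R hF).2 ⟨_, _, by congr 1; ring⟩
    obtain ⟨w, hw, h', hh', e'⟩ := hKdec _ hk
    have hn := (Subgroup.mem_normalizer_iff.1 (hTN (hKT (hWK hw))) h').1 hh'
    refine ⟨h0 * (w * h' * w⁻¹), H.mul_mem hh0H hn, w, hw, ?_⟩
    calc x = h0 * (h0⁻¹ * x) := by group
      _ = _ := by rw [e']; group
  -- the splitting theorem inside the normaliser
  haveI : (H.subgroupOf N).Normal := Subgroup.normal_in_normalizer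
  haveI : IsMulCommutative (H.subgroupOf N) := ⟨⟨fun a b => Subtype.ext (Subtype.ext
    (hab _ (Subgroup.mem_subgroupOf.1 a.2) _ (Subgroup.mem_subgroupOf.1 b.2)))⟩⟩
  have hcop : (Nat.card (H.subgroupOf N)).Coprime ((T : Subgroup X).subgroupOf N).index := by
    obtain ⟨k, hk⟩ := IsPGroup.iff_card.1 (T.isPGroup'.to_le hHT)
    rw [Nat.card_congr (Subgroup.subgroupOfEquivOfLe hHN).toEquiv, hk]
    refine Nat.Coprime.pow_left _ ((Nat.Prime.coprime_iff_not_dvd Nat.prime_two).2 fun hd =>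
      T.not_dvd_index (hd.trans ⟨_, (Subgroup.relIndex_mul_index hTN).symm⟩))
  obtain ⟨C0, hC0⟩ := Cfsg.Agent.S0051.result (H.subgroupOf N) ((T : Subgroup X).subgroupOf N)
    (fun x hx => hHT hx) hcop (W.subgroupOf N) (fun x hx => hKT (hWK hx))
    (by rw [eq_bot_iff]; rintro x ⟨hx, hy⟩; exact Subtype.ext (hWH.le ⟨hx, hy⟩))
    (le_antisymm (sup_le (fun x hx => hHT hx) (fun x hx => hKT (hWK hx))) fun x hx => by
      obtain ⟨h, hh, w, hw, e⟩ := hTdec x hx
      rw [show x = ⟨h, hHN hh⟩ * ⟨w, hTN (hKT (hWK hw))⟩ from Subtype.ext e]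
      exact Subgroup.mul_mem_sup hh hw)
  let C := C0.map N.subtype
  have hCN : C ≤ N := Subgroup.map_subtype_le C0
  have hCH : C ⊓ H = ⊥ := by
    rw [eq_bot_iff]
    rintro _ ⟨⟨c, hc0, rfl⟩, hcH⟩
    have : c ∈ (⊥ : Subgroup N) := hC0.disjoint.le_bot ⟨hcH, hc0⟩
    rw [Subgroup.mem_bot] at this
    simp [this]
  have hdec : ∀ x ∈ N, ∃ h ∈ H, ∃ c ∈ C, x = h * c := by
    intro x hx
    obtain ⟨⟨⟨h, hh⟩, ⟨c, hcc⟩⟩, e⟩ := hC0.2 ⟨x, hx⟩
    exact ⟨h, hh, c, ⟨c, hcc, rfl⟩, (congrArg Subtype.val e).symm⟩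
  refine ⟨C, hCN, hCH, le_antisymm (sup_le hHN hCN) fun x hx => ?_, ?_⟩
  · obtain ⟨h, hh, c, hcC, rfl⟩ := hdec x hx
    exact Subgroup.mul_mem_sup hh hcC
  -- the complement
  have hex : ∀ c : C, ∃ s : SL2, (low s)⁻¹ * π c ∈ R F := fun c => by
    obtain ⟨s, r, hr, e⟩ := normalizer_decomp hF ((hmemN c).1 (hCN c.2))
    exact ⟨s, by rw [e, inv_mul_cancel_left]; exact hr⟩
  choose f hf using hex
  have huniq : ∀ (x : P3) (s t : SL2), (low s)⁻¹ * x ∈ R F → (low t)⁻¹ * x ∈ R F → s = t := by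
    intro x s t hs' ht'
    refine inv_mul_eq_one.1 (low_R_disjoint (s := s⁻¹ * t) ?_)
    have := (R F).mul_mem hs' ((R F).inv_mem ht')
    simpa [mul_assoc] using this
  have hmul : ∀ a b : C, f (a * b) = f a * f b := fun a b => by
    refine huniq _ _ _ (hf _) ?_
    have h1 := low_conj_mem (f b) (hf a)
    have h3 := (R F).mul_mem h1 (hf b)
    simpa [mul_assoc] using h3
  obtain ⟨e⟩ := nonempty_SL2_PSL2 hF
  refine ⟨(MulEquiv.ofBijective (MonoidHom.mk' f hmul) ⟨?_, ?_⟩).trans e⟩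
  · refine (injective_iff_map_eq_one _).2 fun c hc1 => Subtype.ext ?_
    have h1 := hf c
    rw [show f c = 1 from hc1, map_one, inv_one, one_mul] at h1
    exact Subgroup.mem_bot.1 (hCH.le ⟨c.2, (mem_H π H hker hH).2 h1⟩)
  · intro s
    obtain ⟨x, hx⟩ := hs (low s)
    obtain ⟨h, hh, c, hcC, e'⟩ := hdec x ((hmemN x).2 (hx ▸ low_mem_normalizer s))
    refine ⟨⟨c, hcC⟩, huniq _ _ _ (hf _) ?_⟩
    have hr := low_conj_mem s ((R F).inv_mem ((mem_H π H hker hH).1 hh))
    rw [show π c = (π h)⁻¹ * low s by rw [← hx, e', map_mul, inv_mul_cancel_left]]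
    simpa [mul_assoc] using hr

end Cover

end Cfsg.Agent.Lie.TwoCoverSixteen
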