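import Mathlib
import Cfsg.Agent.Lib.Lie.OneDerangementClass
import Cfsg.Agent.Lib.Char.Burnside

/-!
Primitive groups which are not almost simple and have two classes of derangements.
-/

set_option autoImplicit false
open scoped Pointwise
open MulAction

namespace Cfsg.Agent.Lie.OneDer

universe u v

variable {G : Type u} {Ω : Type v} [Group G] [Finite G] [MulAction G Ω] [FaithfulSMul G Ω] [Finite Ω]

/-- Among three derangements two are conjugate. -/
def AtMostTwo (G : Type u) (Ω : Type v) [Group G] [MulAction G Ω] : Prop :=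
  ∀ x y z : G, (∀ ω : Ω, x • ω ≠ ω) → (∀ ω : Ω, y • ω ≠ ω) → (∀ ω : Ω, z • ω ≠ ω) →
    IsConj x y ∨ IsConj x z ∨ IsConj y z

omit [Finite G] [Finite Ω] [FaithfulSMul G Ω] in
theorem atMostTwo_of_card
    (h : Nat.card {c : ConjClasses G // ∃ g : G, ConjClasses.mk g = c ∧ ∀ ω : Ω, g • ω ≠ ω} = 2) :
    AtMostTwo G Ω := by
  intro x y z hx hy hz
  obtain ⟨a, b, -, hab⟩ := Nat.card_eq_two_iff.1 h
  let A : {c : ConjClasses G // ∃ g : G, ConjClasses.mk g = c ∧ ∀ ω : Ω, g • ω ≠ ω} := ⟨_, x, rfl, hx⟩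
  let B : {c : ConjClasses G // ∃ g : G, ConjClasses.mk g = c ∧ ∀ ω : Ω, g • ω ≠ ω} := ⟨_, y, rfl, hy⟩
  let C : {c : ConjClasses G // ∃ g : G, ConjClasses.mk g = c ∧ ∀ ω : Ω, g • ω ≠ ω} := ⟨_, z, rfl, hz⟩
  have hm : ∀ w : {c : ConjClasses G // ∃ g : G, ConjClasses.mk g = c ∧ ∀ ω : Ω, g • ω ≠ ω}, w = a ∨ w = b :=
    fun w => by simpa using (hab.symm ▸ Set.mem_univ w : w ∈ ({a, b} : Set _))
  rcases hm A with hA | hA <;> rcases hm B with hB | hB <;> rcases hm C with hC | hC <;>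
    first
      | exact Or.inl (ConjClasses.mk_eq_mk_iff_isConj.1 (congrArg Subtype.val (hA.trans hB.symm)))
      | exact Or.inr (Or.inl (ConjClasses.mk_eq_mk_iff_isConj.1 (congrArg Subtype.val (hA.trans hC.symm))))
      | exact Or.inr (Or.inr (ConjClasses.mk_eq_mk_iff_isConj.1 (congrArg Subtype.val (hB.trans hC.symm))))

/-- A non-abelian simple group has elements of three prime orders. -/
theorem three_orders {X : Type u} [Group X] [Finite X] [IsSimpleGroup X]
    (hna : ¬ ∀ y z : X, y * z = z * y) :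
    ∃ y₁ y₂ y₃ : X, (orderOf y₁).Prime ∧ (orderOf y₂).Prime ∧ (orderOf y₃).Prime ∧
      orderOf y₁ ≠ orderOf y₂ ∧ orderOf y₁ ≠ orderOf y₃ ∧ orderOf y₂ ≠ orderOf y₃ := by
  classical
  set s := (Nat.card X).primeFactors
  have h3 : 2 < s.card := by
    by_contra hlt
    obtain ⟨p, q, hp, hq, hs⟩ : ∃ p q : ℕ, p.Prime ∧ q.Prime ∧ ∀ r ∈ s, r = p ∨ r = q := by
      interval_cases hc : s.card
      · exact ⟨2, 2, Nat.prime_two, Nat.prime_two, fun r hr => absurd hr (by simp [Finset.card_eq_zero.1 hc])⟩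
      · obtain ⟨p, hp⟩ := Finset.card_eq_one.1 hc
        have := Nat.prime_of_mem_primeFactors (show p ∈ s by simp [hp])
        exact ⟨p, p, this, this, fun r hr => Or.inl (by simpa [hp] using hr)⟩
      · obtain ⟨p, q, -, hpq⟩ := Finset.card_eq_two.1 hc
        exact ⟨p, q, Nat.prime_of_mem_primeFactors (show p ∈ s by simp [hpq]),
          Nat.prime_of_mem_primeFactors (show q ∈ s by simp [hpq]), fun r hr => by simpa [hpq] using hr⟩
    have hsol := Cfsg.Agent.Char.isSolvable_of_two_primes hp hq _ (G := X) rfl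
      (fun r hr hrd => hs r (Nat.mem_primeFactors.2 ⟨hr, hrd, Nat.card_pos.ne'⟩))
    exact hna (IsSimpleGroup.comm_iff_isSolvable.2 hsol)
  obtain ⟨p, hp, q, hq, r, hr, hpq, hpr, hqr⟩ := Finset.two_lt_card.1 h3
  have ex : ∀ p ∈ s, ∃ y : X, orderOf y = p := fun p hp => by
    haveI := Fact.mk (Nat.prime_of_mem_primeFactors hp)
    exact exists_prime_orderOf_dvd_card' p (Nat.dvd_of_mem_primeFactors hp)
  obtain ⟨y₁, h1⟩ := ex p hp
  obtain ⟨y₂, h2⟩ := ex q hq
  obtain ⟨y₃, h3'⟩ := ex r hr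
  refine ⟨y₁, y₂, y₃, ?_⟩
  rw [h1, h2, h3']
  exact ⟨Nat.prime_of_mem_primeFactors hp, Nat.prime_of_mem_primeFactors hq, Nat.prime_of_mem_primeFactors hr, hpq, hpr, hqr⟩

omit [Finite G] [FaithfulSMul G Ω] [Finite Ω] in
theorem orderOf_eq_of_isConj {x y : G} (h : IsConj x y) : orderOf x = orderOf y := by
  obtain ⟨k, rfl⟩ := isConj_iff.1 h
  exact (orderOf_injective (MulAut.conj k).toMonoidHom (MulAut.conj k).injective x).symm

/-- A minimal normal subgroup is abelian. -/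
theorem min_abelian (hn : 2 ≤ Nat.card Ω) (hprim : IsPreprimitive G Ω)
    (hnas : ¬ ∃ T : Subgroup G, T.Normal ∧ IsSimpleGroup T ∧ ¬ IsMulCommutative T ∧ Subgroup.centralizer (T : Set G) = ⊥)
    (htwo : AtMostTwo G Ω) (N : Subgroup G) [hNn : N.Normal] (hNne : N ≠ ⊥)
    (hmin : ∀ K : Subgroup G, K.Normal → K ≤ N → K = ⊥ ∨ K = N) :
    ∀ x ∈ N, ∀ y ∈ N, x * y = y * x := by
  classical
  haveI := hprim.toIsPretransitive
  haveI : Nonempty Ω := (Nat.card_pos_iff.1 (by omega)).1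
  obtain ⟨a⟩ := (inferInstance : Nonempty Ω)
  by_contra hab
  haveI : Nontrivial N := (Subgroup.nontrivial_iff_ne_bot N).2 hNne
  obtain ⟨T₀, hT₀, hT₀ne, hT₀min⟩ := Solv.exists_minimal_normal (G := N)
  -- conjugates of the minimal normal subgroup of `N`
  let T : G → Subgroup G := fun g => (T₀.map N.subtype).map (MulAut.conj g).toMonoidHom
  have hTle : ∀ g, T g ≤ N := by
    rintro g _ ⟨_, ⟨x, -, rfl⟩, rfl⟩
    exact hNn.conj_mem x.1 x.2 g
  have hTnorm : ∀ g n, n ∈ N → ∀ y, y ∈ T g → n * y * n⁻¹ ∈ T g := by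
    rintro g n hn _ ⟨_, ⟨x, hx, rfl⟩, rfl⟩
    have hm : g⁻¹ * n * g ∈ N := by simpa using hNn.conj_mem n hn g⁻¹
    refine ⟨_, ⟨⟨g⁻¹ * n * g, hm⟩ * x * ⟨g⁻¹ * n * g, hm⟩⁻¹, hT₀.conj_mem x hx _, rfl⟩, ?_⟩
    simp [mul_assoc]
  have hTmin : ∀ g (R : Subgroup G), R ≤ T g → (∀ n ∈ N, ∀ y, y ∈ R → n * y * n⁻¹ ∈ R) → R = ⊥ ∨ R = T g := by
    intro g R hR hRn
    let R₀ : Subgroup N := (R.map (MulAut.conj g⁻¹).toMonoidHom).comap N.subtype
    have hmem : ∀ y : N, y ∈ R₀ ↔ g * y.1 * g⁻¹ ∈ R := fun y =>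
      ⟨by rintro ⟨r, hr, e⟩; rw [← show MulAut.conj g⁻¹ r = y.1 from e]; simpa [mul_assoc] using hr,
        fun h => ⟨_, h, by simp [mul_assoc]⟩⟩
    have hR₀ : R₀.Normal := ⟨fun y hy n => by
      rw [hmem] at hy ⊢
      have := hRn (g * n.1 * g⁻¹) (hNn.conj_mem n.1 n.2 g) _ hy
      simpa [mul_assoc] using this⟩
    have hle : R₀ ≤ T₀ := fun y hy => by
      obtain ⟨_, ⟨x, hx, rfl⟩, e⟩ := hR ((hmem y).1 hy)
      have : x = y := Subtype.ext (by simpa using e)
      exact this ▸ hx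
    rcases hT₀min R₀ hR₀ hle with h | h
    · left
      refine (Subgroup.eq_bot_iff_forall _).2 fun r hr => ?_
      obtain ⟨_, ⟨x, hx, rfl⟩, e⟩ := hR hr
      have hx0 : x ∈ R₀ := (hmem x).2 (by simpa [← e] using hr)
      rw [h, Subgroup.mem_bot] at hx0
      rw [← e, hx0]; simp
    · right
      refine le_antisymm hR ?_
      rintro _ ⟨_, ⟨x, hx, rfl⟩, rfl⟩
      have hx0 : x ∈ R₀ := h ▸ hx
      simpa using (hmem x).1 hx0
  have hTne : ∀ g, T g ≠ ⊥ := fun g e => hT₀ne ((Subgroup.map_eq_bot_iff_of_injective _ (Subgroup.subtype_injective _)).1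
    ((Subgroup.map_eq_bot_iff_of_injective _ (MulAut.conj g).injective).1 e))
  have hcomm : ∀ g, T g ≠ T 1 → ∀ y ∈ T g, ∀ z ∈ T 1, y * z = z * y := by
    intro g hg y hy z hz
    rcases hTmin 1 (T g ⊓ T 1) inf_le_right (fun n hn w hw => ⟨hTnorm g n hn w hw.1, hTnorm 1 n hn w hw.2⟩) with h | h
    · have h1 : y * z * y⁻¹ ∈ T 1 := hTnorm 1 y (hTle g hy) z hz
      have h2 : z * y⁻¹ * z⁻¹ ∈ T g := hTnorm g z (hTle 1 hz) _ (inv_mem hy)
      have h3 : y * z * y⁻¹ * z⁻¹ ∈ T g ⊓ T 1 :=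
        Subgroup.mem_inf.2 ⟨by simpa [mul_assoc] using mul_mem hy h2, mul_mem h1 (inv_mem hz)⟩
      rw [h, Subgroup.mem_bot] at h3
      exact mul_inv_eq_iff_eq_mul.1 (mul_inv_eq_one.1 h3)
    · rcases hTmin g (T g ⊓ T 1) inf_le_left (fun n hn w hw => ⟨hTnorm g n hn w hw.1, hTnorm 1 n hn w hw.2⟩) with h' | h'
      · exact absurd (h.symm.trans h') (hTne 1)
      · exact absurd (h'.symm.trans h) hg
  set C := N ⊓ Subgroup.centralizer (T 1 : Set G) with hC
  have hgen : ∀ n ∈ N, ∃ t ∈ T 1, ∃ c ∈ C, n = t * c := by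
    let P : Subgroup G :=
      { carrier := {n | ∃ t ∈ T 1, ∃ c ∈ C, n = t * c}
        one_mem' := ⟨1, one_mem _, 1, one_mem _, (mul_one 1).symm⟩
        mul_mem' := by
          rintro _ _ ⟨t, ht, c, hc, rfl⟩ ⟨t', ht', c', hc', rfl⟩
          refine ⟨t * t', mul_mem ht ht', c * c', mul_mem hc hc', ?_⟩
          have := Subgroup.mem_centralizer_iff.1 hc.2 t' ht'
          calc t * c * (t' * c') = t * (c * t') * c' := by group
            _ = t * (t' * c) * c' := by rw [this]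
            _ = t * t' * (c * c') := by group
        inv_mem' := by
          rintro _ ⟨t, ht, c, hc, rfl⟩
          refine ⟨t⁻¹, inv_mem ht, c⁻¹, inv_mem hc, ?_⟩
          have := Subgroup.mem_centralizer_iff.1 hc.2 t ht
          rw [← mul_inv_rev, mul_inv_rev, ← mul_inv_rev, this, mul_inv_rev] }
    have hTP : ∀ g, T g ≤ P := by
      intro g y hy
      by_cases hg : T g = T 1
      · exact ⟨y, hg ▸ hy, 1, one_mem _, (mul_one y).symm⟩
      · refine ⟨1, one_mem _, y, Subgroup.mem_inf.2 ⟨hTle g hy, ?_⟩, (one_mul y).symm⟩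
        rw [Subgroup.mem_centralizer_iff]
        exact fun z hz => (hcomm g hg y hy z hz).symm
    have hsup : (⨆ g, T g).Normal := by
      constructor
      intro y hy k
      induction hy using Subgroup.iSup_induction' with
      | hp g y hy =>
        refine Subgroup.mem_iSup_of_mem (k * g) ?_
        obtain ⟨x, hx, rfl⟩ := hy
        exact ⟨x, hx, by simp [mul_assoc]⟩
      | h1 => simp
      | hmul y z _ _ hy hz =>
        rw [show k * (y * z) * k⁻¹ = (k * y * k⁻¹) * (k * z * k⁻¹) by group]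
        exact mul_mem hy hz
    rcases hmin _ hsup (iSup_le hTle) with h | h
    · exact absurd (le_bot_iff.1 ((le_iSup T 1).trans h.le)) (hTne 1)
    · intro n hn
      exact (iSup_le hTP : (⨆ g, T g) ≤ P) (h.symm ▸ hn)
  have hconjT : ∀ (g k : G) (y : G), y ∈ T g → k * y * k⁻¹ ∈ T (k * g) := by
    rintro g k _ ⟨x, hx, rfl⟩
    exact ⟨x, hx, by simp [mul_assoc]⟩
  have hTnab : ¬ ∀ y ∈ T 1, ∀ z ∈ T 1, y * z = z * y := by
    intro hT
    refine hab fun x hx y hy => ?_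
    have hcent : ∀ g, ∀ y ∈ T g, ∀ z ∈ T 1, y * z = z * y := fun g y hy z hz => by
      by_cases hg : T g = T 1
      · exact hT y (hg ▸ hy) z hz
      · exact hcomm g hg y hy z hz
    have hall : ∀ g g', ∀ y ∈ T g, ∀ z ∈ T g', y * z = z * y := by
      intro g g' y hy z hz
      have hy' := hconjT g g'⁻¹ y hy
      have hz' := hconjT g' g'⁻¹ z hz
      rw [inv_mul_cancel] at hz'
      have := hcent _ _ hy' _ hz'
      apply (MulAut.conj g'⁻¹).injective
      simp only [map_mul, MulAut.conj_apply]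
      simpa [mul_assoc] using this
    have htop : (⨆ g, T g) = N := by
      refine le_antisymm (iSup_le hTle) fun n hn => ?_
      obtain ⟨t, ht, c, hc, rfl⟩ := hgen n hn
      refine mul_mem (Subgroup.mem_iSup_of_mem 1 ht) ?_
      have hsupn : (⨆ g, T g).Normal := by
        constructor
        intro y hy k
        induction hy using Subgroup.iSup_induction' with
        | hp g y hy => exact Subgroup.mem_iSup_of_mem (k * g) (hconjT g k y hy)
        | h1 => simp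
        | hmul y z _ _ hy hz =>
          rw [show k * (y * z) * k⁻¹ = (k * y * k⁻¹) * (k * z * k⁻¹) by group]
          exact mul_mem hy hz
      rcases hmin _ hsupn (iSup_le hTle) with h | h
      · exact absurd (le_bot_iff.1 ((le_iSup T 1).trans h.le)) (hTne 1)
      · exact h.symm ▸ hc.1
    rw [← htop] at hx hy
    induction hx using Subgroup.iSup_induction' with
    | hp g x hx =>
      induction hy using Subgroup.iSup_induction' with
      | hp g' y hy => exact hall g g' x hx y hy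
      | h1 => simp
      | hmul y z _ _ hy hz => exact Commute.mul_right hy hz
    | h1 => simp
    | hmul u z _ _ hu hz => exact Commute.mul_left hu hz
  have hCn : ∀ c ∈ C, ∀ y ∈ T 1, c * y * c⁻¹ = y := fun c hc y hy => by
    rw [← Subgroup.mem_centralizer_iff.1 hc.2 y hy, mul_inv_cancel_right]
  have hCT : C ⊓ T 1 = ⊥ := by
    have hinv : ∀ n ∈ N, ∀ y, y ∈ C ⊓ T 1 → n * y * n⁻¹ ∈ C ⊓ T 1 := by
      intro n hn y hy
      obtain ⟨t, ht, c, hc, rfl⟩ := hgen n hn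
      refine Subgroup.mem_inf.2 ⟨Subgroup.mem_inf.2 ⟨hTle 1 (hTnorm 1 _ hn y hy.2), ?_⟩, hTnorm 1 _ hn y hy.2⟩
      rw [show t * c * y * (t * c)⁻¹ = t * (c * y * c⁻¹) * t⁻¹ by group, hCn c hc y hy.2,
        Subgroup.mem_centralizer_iff.1 hy.1.2 t ht, mul_inv_cancel_right]
      exact hy.1.2
    rcases hTmin 1 (C ⊓ T 1) inf_le_right hinv with h | h
    · exact h
    · exfalso
      exact hTnab fun y hy z hz => (Subgroup.mem_centralizer_iff.1 ((h.symm ▸ hy : y ∈ C ⊓ T 1).1.2) z hz).symm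
  haveI hTsimple : IsSimpleGroup (T 1) := by
    haveI : Nontrivial (T 1) := (Subgroup.nontrivial_iff_ne_bot _).2 (hTne 1)
    refine ⟨fun R hR => ?_⟩
    have hinv : ∀ n ∈ N, ∀ y, y ∈ R.map (T 1).subtype → n * y * n⁻¹ ∈ R.map (T 1).subtype := by
      rintro n hn _ ⟨y, hy, rfl⟩
      obtain ⟨t, ht, c, hc, rfl⟩ := hgen n hn
      refine ⟨⟨t, ht⟩ * y * ⟨t, ht⟩⁻¹, hR.conj_mem y hy _, ?_⟩
      show t * y.1 * t⁻¹ = t * c * y.1 * (t * c)⁻¹
      rw [show t * c * y.1 * (t * c)⁻¹ = t * (c * y.1 * c⁻¹) * t⁻¹ by group, hCn c hc y.1 y.2]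
    rcases hTmin 1 (R.map (T 1).subtype) (Subgroup.map_subtype_le R) hinv with h | h
    · exact Or.inl ((Subgroup.map_eq_bot_iff_of_injective _ (Subgroup.subtype_injective _)).1 h)
    · refine Or.inr (Subgroup.map_injective (Subgroup.subtype_injective _) (h.trans ?_))
      simp [← MonoidHom.range_eq_map]
  have hTnab' : ¬ ∀ y z : ↥(T 1), y * z = z * y := fun h => hTnab fun y hy z hz =>
    congrArg Subtype.val (h ⟨y, hy⟩ ⟨z, hz⟩)
  obtain ⟨y₁, y₂, y₃, hy₁, hy₂, hy₃, h12, h13, h23⟩ := three_orders hTnab'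
  have hall_false : ¬ ∀ y ∈ T 1, y ≠ 1 → ∀ ω : Ω, y • ω ≠ ω := by
    intro hder
    have hne : ∀ y : T 1, (orderOf y).Prime → (y : G) ≠ 1 := fun y hy e => by
      rw [← Subgroup.orderOf_coe, e, orderOf_one] at hy
      exact Nat.not_prime_one hy
    rcases htwo (y₁ : G) y₂ y₃ (hder _ y₁.2 (hne _ hy₁)) (hder _ y₂.2 (hne _ hy₂)) (hder _ y₃.2 (hne _ hy₃)) with h | h | h
    · exact h12 (by simpa [Subgroup.orderOf_coe] using orderOf_eq_of_isConj h)
    · exact h13 (by simpa [Subgroup.orderOf_coe] using orderOf_eq_of_isConj h)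
    · exact h23 (by simpa [Subgroup.orderOf_coe] using orderOf_eq_of_isConj h)
  by_cases honeT : ∀ g, T g = T 1
  · -- `N` is simple
    haveI hnormal : (T 1).Normal := ⟨fun y hy k => by
      have := hconjT 1 k y hy
      rwa [mul_one, honeT] at this⟩
    refine hnas ⟨T 1, hnormal, hTsimple, fun h => hTnab fun y hy z hz =>
      congrArg Subtype.val (h.is_comm.comm ⟨y, hy⟩ ⟨z, hz⟩), ?_⟩
    by_contra hne
    refine hall_false fun y hy hy1 ω e => hy1 (eq_of_smul_eq_smul (α := Ω) fun (o : Ω) => ?_)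
    obtain ⟨c, hc, rfl⟩ := normal_transitive hprim (Subgroup.centralizer (T 1 : Set G)) hne ω o
    rw [← mul_smul, Subgroup.mem_centralizer_iff.1 hc y hy, mul_smul, e, one_smul]
  push Not at honeT
  obtain ⟨g₁, hg₁⟩ := honeT
  -- the projection of a point stabiliser
  set S := N ⊓ stabilizer G a with hS
  let M : Subgroup (T 1) :=
    { carrier := {t | ∃ c ∈ C, (t : G) * c ∈ S}
      one_mem' := ⟨1, one_mem _, by simp⟩
      mul_mem' := by
        rintro t t' ⟨c, hc, h⟩ ⟨c', hc', h'⟩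
        refine ⟨c * c', mul_mem hc hc', ?_⟩
        have e := Subgroup.mem_centralizer_iff.1 hc.2 t'.1 t'.2
        have : ((t * t' : T 1) : G) * (c * c') = (t.1 * c) * (t'.1 * c') := by
          push_cast
          calc t.1 * t'.1 * (c * c') = t.1 * (t'.1 * c) * c' := by group
            _ = t.1 * (c * t'.1) * c' := by rw [e]
            _ = _ := by group
        rw [this]
        exact mul_mem h h'
      inv_mem' := by
        rintro t ⟨c, hc, h⟩
        refine ⟨c⁻¹, inv_mem hc, ?_⟩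
        have e := Subgroup.mem_centralizer_iff.1 hc.2 t.1 t.2
        push_cast
        rw [← mul_inv_rev, ← e]
        exact inv_mem h }
  by_cases hM : M = ⊤
  · -- every nontrivial element of `T 1` is a derangement
    have hint : ∀ y ∈ T 1, y • a = a → y = 1 := by
      have hn2 : ∀ n ∈ N, ∀ y, y ∈ T 1 ⊓ S → n * y * n⁻¹ ∈ T 1 ⊓ S := by
        intro n hn y hy
        obtain ⟨t, ht, c, hc, rfl⟩ := hgen n hn
        obtain ⟨c', hc', hs⟩ : (⟨t, ht⟩ : T 1) ∈ M := hM ▸ Subgroup.mem_top _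
        refine Subgroup.mem_inf.2 ⟨hTnorm 1 _ hn y hy.1, ?_⟩
        have h2 := mul_mem (mul_mem hs hy.2) (inv_mem hs)
        rw [show t * c' * y * (t * c')⁻¹ = t * (c' * y * c'⁻¹) * t⁻¹ by group, hCn c' hc' y hy.1] at h2
        rw [show t * c * y * (t * c)⁻¹ = t * (c * y * c⁻¹) * t⁻¹ by group, hCn c hc y hy.1]
        exact h2
      intro y hy hya
      rcases hTmin 1 (T 1 ⊓ S) inf_le_left hn2 with h | h
      · have : y ∈ T 1 ⊓ S := ⟨hy, hTle 1 hy, hya⟩
        rw [h, Subgroup.mem_bot] at this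
        exact this
      · exfalso
        refine hTne 1 ((Subgroup.eq_bot_iff_forall _).2 fun z hz => eq_of_smul_eq_smul (α := Ω) fun (o : Ω) => ?_)
        obtain ⟨n, hn', rfl⟩ := normal_transitive hprim N hNne a o
        have hz' : n⁻¹ * z * n⁻¹⁻¹ ∈ T 1 ⊓ S := h.symm ▸ hTnorm 1 _ (inv_mem hn') z hz
        have := mem_stabilizer_iff.1 hz'.2.2
        rw [inv_inv, mul_smul, mul_smul, inv_smul_eq_iff] at this
        rw [this, one_smul]
    have hder : ∀ y ∈ T 1, y ≠ 1 → ∀ ω : Ω, y • ω ≠ ω := by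
      intro y hy hy1 ω e
      obtain ⟨n, hn', rfl⟩ := normal_transitive hprim N hNne a ω
      have := hint _ (hTnorm 1 n⁻¹ (inv_mem hn') y hy) (by rw [inv_inv, mul_smul, mul_smul, e, inv_smul_smul])
      exact hy1 (by have := congrArg (fun u => n * u * n⁻¹) this; simpa [mul_assoc] using this)
    exact hall_false hder
  · obtain ⟨d, hd⟩ := exists_not_conj M hM
    have hd1 : (d : G) ≠ 1 := fun e => hd 1 (by
      rw [show d = 1 from Subtype.ext e]
      simpa using one_mem M)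
    have hder : ∀ c ∈ C, ∀ ω : Ω, ((d : G) * c) • ω ≠ ω := by
      intro c hc ω e
      obtain ⟨n, hn', rfl⟩ := normal_transitive hprim N hNne a ω
      obtain ⟨t, ht, c₁, hc₁, htc⟩ := hgen n⁻¹ (inv_mem hn')
      have hmemS : n⁻¹ * ((d : G) * c) * n ∈ S := Subgroup.mem_inf.2
        ⟨by simpa using hNn.conj_mem _ (mul_mem (hTle 1 d.2) hc.1) n⁻¹,
          by rw [mem_stabilizer_iff, mul_smul, mul_smul, e, inv_smul_smul]⟩
      refine hd ⟨t, ht⟩ ⟨c₁ * c * c₁⁻¹, mul_mem (mul_mem hc₁ hc) (inv_mem hc₁), ?_⟩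
      push_cast
      have hcomm' : ∀ w ∈ C, w * t⁻¹ = t⁻¹ * w := fun w hw =>
        (Subgroup.mem_centralizer_iff.1 hw.2 t⁻¹ (inv_mem ht)).symm
      have e2 : t * d.1 * t⁻¹ * (c₁ * c * c₁⁻¹) = n⁻¹ * ((d : G) * c) * n := by
        rw [show n = (n⁻¹)⁻¹ from (inv_inv n).symm, inv_inv n⁻¹, htc]
        calc t * d.1 * t⁻¹ * (c₁ * c * c₁⁻¹) = t * d.1 * (t⁻¹ * (c₁ * c * c₁⁻¹)) := by group
          _ = t * d.1 * ((c₁ * c * c₁⁻¹) * t⁻¹) := by rw [hcomm' _ (mul_mem (mul_mem hc₁ hc) (inv_mem hc₁))]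
          _ = t * (d.1 * c₁) * c * c₁⁻¹ * t⁻¹ := by group
          _ = t * (c₁ * d.1) * c * c₁⁻¹ * t⁻¹ := by rw [Subgroup.mem_centralizer_iff.1 hc₁.2 d.1 d.2]
          _ = _ := by group
      rw [e2]
      exact hmemS
    have hTC : ∀ g, T g ≠ T 1 → T g ≤ C := fun g hg z hz => Subgroup.mem_inf.2
      ⟨hTle g hz, Subgroup.mem_centralizer_iff.2 fun w hw => (hcomm g hg z hz w hw).symm⟩
    have huniq : ∀ t₁ ∈ T 1, ∀ t₂ ∈ T 1, ∀ c₁ ∈ C, ∀ c₂ ∈ C, t₁ * c₁ = t₂ * c₂ → t₁ = t₂ ∧ c₁ = c₂ := by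
      intro t₁ h₁ t₂ h₂ c₁ k₁ c₂ k₂ e
      have e' : t₂⁻¹ * t₁ = c₂ * c₁⁻¹ := by
        rw [eq_mul_inv_iff_mul_eq, mul_assoc, e, inv_mul_cancel_left]
      have hm1 : c₂ * c₁⁻¹ ∈ C := C.mul_mem k₂ (C.inv_mem k₁)
      have hmem : t₂⁻¹ * t₁ ∈ C ⊓ T 1 := Subgroup.mem_inf.2 ⟨e'.symm ▸ hm1, (T 1).mul_mem ((T 1).inv_mem h₂) h₁⟩
      rw [hCT, Subgroup.mem_bot] at hmem
      refine ⟨(inv_mul_eq_one.1 hmem).symm, ?_⟩
      rw [hmem] at e'
      exact (mul_inv_eq_one.1 e'.symm).symm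
    have hd0 : d.1 ∉ C := fun h => hd1 (by
      have : d.1 ∈ C ⊓ T 1 := ⟨h, d.2⟩
      rw [hCT, Subgroup.mem_bot] at this
      exact this)
    have hdmem : ∀ c ∈ C, c ≠ 1 → ∀ g, d.1 * c ∉ T g := by
      intro c hc hc1 g hg
      by_cases hgT : T g = T 1
      · rw [hgT] at hg
        exact hc1 (huniq _ d.2 _ hg c hc 1 (one_mem _) (by rw [mul_one])).2
      · have hmem : d.1 * c ∈ C := hTC g hgT hg
        exact hd0 (by simpa using mul_mem hmem (inv_mem hc))
    -- conjugacy of the mixed derangements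
    have hmix : ∀ c ∈ C, ∀ c' ∈ C, c ≠ 1 → IsConj (d.1 * c) (d.1 * c') → (∃ g, T g ≠ T 1 ∧ c ∈ T g) →
        orderOf c = orderOf c' ∨ orderOf c = orderOf d.1 := by
      intro c hc c' hc' hc1 hcon hg
      obtain ⟨g, hgT, hcg⟩ := hg
      obtain ⟨k, hk⟩ := isConj_iff.1 hcon
      rw [show k * (d.1 * c) * k⁻¹ = (k * d.1 * k⁻¹) * (k * c * k⁻¹) by group] at hk
      have hkd := hconjT 1 k d.1 d.2
      rw [mul_one] at hkd
      have hkc := hconjT g k c hcg
      by_cases hk1 : T k = T 1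
      · rw [hk1] at hkd
        by_cases hkg : T (k * g) = T 1
        · rw [hkg] at hkc
          have := huniq _ (mul_mem hkd hkc) _ d.2 1 (one_mem _) c' hc' (by rw [mul_one, hk])
          exfalso
          have : T (k * g) = T k := by rw [hkg, hk1]
          refine hgT (le_antisymm ?_ ?_)
          · intro y hy
            have h := hconjT g k y hy
            rw [this] at h
            obtain ⟨x, hx, e⟩ := h
            refine ⟨x, hx, ?_⟩
            simpa [mul_assoc] using congrArg (fun u => k⁻¹ * u * k) e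
          · intro y hy
            have h := hconjT 1 k y hy
            rw [mul_one, ← this] at h
            obtain ⟨x, hx, e⟩ := h
            refine ⟨x, hx, ?_⟩
            simpa [mul_assoc] using congrArg (fun u => k⁻¹ * u * k) e
        · obtain ⟨-, e⟩ := huniq _ hkd _ d.2 _ (hTC _ hkg hkc) c' hc' hk
          exact Or.inl (orderOf_eq_of_isConj (isConj_iff.2 ⟨k, e⟩))
      · have hkdC := hTC k hk1 hkd
        by_cases hkg : T (k * g) = T 1
        · rw [hkg] at hkc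
          have hsw : (k * d.1 * k⁻¹) * (k * c * k⁻¹) = (k * c * k⁻¹) * (k * d.1 * k⁻¹) :=
            (Subgroup.mem_centralizer_iff.1 hkdC.2 _ hkc).symm
          rw [hsw] at hk
          obtain ⟨e, -⟩ := huniq _ hkc _ d.2 _ hkdC c' hc' hk
          exact Or.inr (orderOf_eq_of_isConj (isConj_iff.2 ⟨k, e⟩))
        · exfalso
          have hmem : d.1 * c' ∈ C := hk ▸ mul_mem hkdC (hTC _ hkg hkc)
          exact hd0 (by simpa using mul_mem hmem (inv_mem hc'))
    -- three elements of prime order in a second factor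
    let cz : T 1 → G := fun y => g₁ * y.1 * g₁⁻¹
    have hcz : ∀ y : T 1, cz y ∈ T g₁ := fun y => by simpa using hconjT 1 g₁ y.1 y.2
    have hcord : ∀ y : T 1, orderOf (cz y) = orderOf y := fun y =>
      (orderOf_eq_of_isConj (isConj_iff.2 ⟨g₁, rfl⟩)).symm.trans (Subgroup.orderOf_coe y)
    have hcne : ∀ y : T 1, (orderOf y).Prime → cz y ≠ 1 := fun y hy e => by
      rw [← hcord, e, orderOf_one] at hy
      exact Nat.not_prime_one hy
    have hcC : ∀ y, cz y ∈ C := fun y => hTC g₁ hg₁ (hcz y)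
    have h0 := hder 1 (one_mem _)
    rw [mul_one] at h0
    have hnot : ∀ y : T 1, (orderOf y).Prime → ¬ IsConj d.1 (d.1 * cz y) := by
      intro y hy hcon
      obtain ⟨k, hk⟩ := isConj_iff.1 hcon
      have hkd := hconjT 1 k d.1 d.2
      rw [hk] at hkd
      exact hdmem _ (hcC y) (hcne y hy) _ hkd
    have hconj : ∀ y y' : T 1, (orderOf y).Prime → (orderOf y').Prime →
        orderOf y = orderOf y' ∨ orderOf y = orderOf d.1 := by
      intro y y' hy hy'
      rcases htwo d.1 (d.1 * cz y) (d.1 * cz y') h0 (hder _ (hcC y)) (hder _ (hcC y')) with h | h | h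
      · exact absurd h (hnot y hy)
      · exact absurd h (hnot y' hy')
      · rw [← hcord y, ← hcord y']
        exact hmix _ (hcC y) _ (hcC y') (hcne y hy) h ⟨g₁, hg₁, hcz y⟩
    have a1 := (hconj y₁ y₂ hy₁ hy₂).resolve_left h12
    exact (hconj y₂ y₃ hy₂ hy₃).elim h23 fun e => h12 (a1.trans e.symm)

/-- The affine case. -/
theorem affine_two (hn : 2 ≤ Nat.card Ω) (hprim : IsPreprimitive G Ω) (N : Subgroup G) [hN : N.Normal]
    (hne : N ≠ ⊥) (hab : ∀ x ∈ N, ∀ y ∈ N, x * y = y * x)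
    (htwo : AtMostTwo G Ω) (hnot : ¬ OneClass G Ω) (α : Ω) :
    (∀ ω : Ω, stabilizer N ω = ⊥) ∧
    (((∀ g : G, g ≠ 1 → Nat.card (fixedBy Ω g) ≤ 1) ∧ ¬ 2 ∣ Nat.card Ω ∧
        2 * Nat.card (stabilizer G α) = Nat.card Ω - 1) ∨
    (IsMultiplyPretransitive G Ω 2 ∧ ∃ g : G, g ≠ 1 ∧ 2 ≤ Nat.card (fixedBy Ω g))) := by
  classical
  haveI := hprim.toIsPretransitive
  have hreg : ∀ x ∈ N, ∀ o : Ω, x • o = o → x = 1 := by
    intro x hx o ho
    refine eq_of_smul_eq_smul (α := Ω) fun (o' : Ω) => ?_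
    obtain ⟨z, hz, rfl⟩ := normal_transitive hprim N hne o o'
    rw [← mul_smul, hab x hx z hz, mul_smul, ho, one_smul]
  refine ⟨fun ω => (Subgroup.eq_bot_iff_forall _).2 fun x hx => Subtype.ext (hreg x.1 x.2 ω (mem_stabilizer_iff.1 hx)), ?_⟩
  have hder : ∀ x ∈ N, x ≠ 1 → ∀ ω : Ω, x • ω ≠ ω := fun x hx hx1 ω e => hx1 (hreg x hx ω e)
  by_cases hsame : ∀ x ∈ N, ∀ y ∈ N, x ≠ 1 → y ≠ 1 → IsConj x y
  · have h2 : IsMultiplyPretransitive G Ω 2 := by
      rw [MulAction.is_two_pretransitive_iff]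
      intro a b c d hab' hcd
      obtain ⟨u, hu⟩ := exists_smul_eq G a c
      have hne' : u • b ≠ c := fun e => hab' (by rw [← hu, smul_left_cancel_iff] at e; exact e.symm)
      obtain ⟨x, hx, hxb⟩ := normal_transitive hprim N hne c (u • b)
      obtain ⟨y, hy, hyd⟩ := normal_transitive hprim N hne c d
      have hx1 : x ≠ 1 := fun e => hne' (by rw [← hxb, e, one_smul])
      have hy1 : y ≠ 1 := fun e => hcd (by rw [← hyd, e, one_smul])
      obtain ⟨g, hg⟩ := isConj_iff.1 (hsame x hx y hy hx1 hy1)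
      obtain ⟨n, hn', hnc⟩ := normal_transitive hprim N hne (g • c) c
      have hconj : (n * g) * x * (n * g)⁻¹ = y := by
        have : n * y * n⁻¹ = y := by rw [hab n hn' y hy, mul_inv_cancel_right]
        calc (n * g) * x * (n * g)⁻¹ = n * (g * x * g⁻¹) * n⁻¹ := by group
          _ = y := by rw [hg, this]
      have hc : (n * g) • c = c := by rw [mul_smul, hnc]
      refine ⟨(n * g) * u, by rw [mul_smul, hu, hc], ?_⟩
      rw [mul_smul, ← hxb, ← mul_smul, show n * g * x = y * (n * g) by rw [← hconj]; group, mul_smul, hc, hyd]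
    refine Or.inr ⟨h2, ?_⟩
    by_contra hno
    push Not at hno
    refine hnot (oneClass_of_sharp hn h2 fun g hg1 a b hab' hga hgb => ?_)
    have := hno g hg1
    have h2' : 2 ≤ Nat.card (fixedBy Ω g) := by
      haveI : Nontrivial (fixedBy Ω g) := ⟨⟨a, hga⟩, ⟨b, hgb⟩, fun e => hab' (congrArg Subtype.val e)⟩
      exact Finite.one_lt_card
    omega
  push Not at hsame
  obtain ⟨x, hx, y, hy, hx1, hy1, hxy⟩ := hsame
  have hmemN : ∀ g : G, (∀ ω : Ω, g • ω ≠ ω) → g ∈ N := by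
    intro g hg
    rcases htwo x y g (hder x hx hx1) (hder y hy hy1) hg with h | h | h
    · exact absurd h hxy
    · obtain ⟨k, rfl⟩ := isConj_iff.1 h
      exact hN.conj_mem x hx k
    · obtain ⟨k, rfl⟩ := isConj_iff.1 h
      exact hN.conj_mem y hy k
  have hfpf : ∀ g : G, g ≠ 1 → ∀ a b : Ω, a ≠ b → g • a = a → g • b ≠ b := by
    intro g hg1 a b hab' hga hgb
    obtain ⟨v, hv, hvb⟩ := normal_transitive hprim N hne a b
    have hv1 : v ≠ 1 := fun e => hab' (by rw [← hvb, e, one_smul])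
    have hcomm : g * v = v * g := by
      have hm : g * v * g⁻¹ ∈ N := hN.conj_mem v hv g
      have := hreg _ (mul_mem (inv_mem hv) hm) a (by
        rw [mul_smul, mul_smul, mul_smul, ← hga, inv_smul_smul, hga, hvb, hgb, ← hvb, inv_smul_smul])
      rw [inv_mul_eq_one] at this
      conv_rhs => rw [this]
      group
    let φ : N → N := fun u => ⟨u.1 * (g * u.1 * g⁻¹)⁻¹, mul_mem u.2 (inv_mem (hN.conj_mem u.1 u.2 g))⟩
    have hnsurj : ¬ Function.Surjective φ := by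
      intro hs
      have hinj := Finite.injective_iff_surjective.2 hs
      have : φ ⟨v, hv⟩ = φ 1 := Subtype.ext (by simp [φ, hcomm])
      exact hv1 (congrArg Subtype.val (hinj this))
    obtain ⟨⟨w, hw⟩, hwim⟩ := not_forall.1 hnsurj
    have hder : ∀ ω : Ω, (w * g) • ω ≠ ω := by
      intro ω e
      obtain ⟨z, hz, rfl⟩ := normal_transitive hprim N hne a ω
      have hm : g * z * g⁻¹ ∈ N := hN.conj_mem z hz g
      have h1 : (w * g) • z • a = (w * (g * z * g⁻¹)) • a := by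
        conv_rhs => rw [mul_smul, mul_smul, mul_smul, inv_smul_eq_iff.2 hga.symm]
        rw [mul_smul]
      rw [h1] at e
      have := hreg _ (mul_mem (inv_mem hz) (mul_mem hw hm)) a (by rw [mul_smul, e, inv_smul_smul])
      rw [inv_mul_eq_one] at this
      refine hwim ⟨⟨z, hz⟩, Subtype.ext ?_⟩
      show z * (g * z * g⁻¹)⁻¹ = w
      rw [mul_inv_eq_iff_eq_mul]
      exact this
    have hmem := hmemN _ hder
    have hgN : g ∈ N := by simpa using mul_mem (inv_mem hw) hmem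
    exact hg1 (hreg g hgN a hga)
  refine Or.inl ⟨fun g hg => ?_, ?_⟩
  · rw [Finite.card_le_one_iff_subsingleton]
    refine ⟨fun a b => Subtype.ext ?_⟩
    by_contra hne'
    exact hfpf g hg a.1 b.1 hne' a.2 b.2
  let f : stabilizer G α ⊕ stabilizer G α → {z : N // z ≠ 1} :=
    Sum.elim (fun h => ⟨⟨h.1 * x * h.1⁻¹, hN.conj_mem x hx h.1⟩, fun e => hx1 (conj_eq_one_iff.1 (congrArg Subtype.val e))⟩)
      (fun h => ⟨⟨h.1 * y * h.1⁻¹, hN.conj_mem y hy h.1⟩, fun e => hy1 (conj_eq_one_iff.1 (congrArg Subtype.val e))⟩)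
  have hinj : ∀ z ∈ N, z ≠ 1 → ∀ h h' : stabilizer G α, h.1 * z * h.1⁻¹ = h'.1 * z * h'.1⁻¹ → h = h' := by
    intro z hz hz1 h h' e
    by_contra hne'
    set k := h'.1⁻¹ * h.1 with hk
    have hkz : k * z = z * k := by
      rw [hk]
      calc h'.1⁻¹ * h.1 * z = h'.1⁻¹ * (h.1 * z * h.1⁻¹) * h.1 := by group
        _ = h'.1⁻¹ * (h'.1 * z * h'.1⁻¹) * h.1 := by rw [e]
        _ = z * (h'.1⁻¹ * h.1) := by group
    have hka : k • α = α := mem_stabilizer_iff.1 (mul_mem (inv_mem h'.2) h.2)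
    refine hfpf k (fun e' => hne' (Subtype.ext (inv_mul_eq_one.1 e').symm)) α (z • α) (Ne.symm (hder z hz hz1 α)) hka ?_
    rw [← mul_smul, hkz, mul_smul, hka]
  have hsplit : ∀ z ∈ N, ∀ w ∈ N, ∀ k : G, k * w * k⁻¹ = z → ∃ h : stabilizer G α, h.1 * w * h.1⁻¹ = z := by
    intro z hz w hw k hk
    obtain ⟨n, hn', hnk⟩ := normal_transitive hprim N hne (k • α) α
    refine ⟨⟨n * k, by rw [mem_stabilizer_iff, mul_smul, hnk]⟩, ?_⟩
    show n * k * w * (n * k)⁻¹ = z
    rw [show n * k * w * (n * k)⁻¹ = n * (k * w * k⁻¹) * n⁻¹ by group, hk, hab n hn' z hz, mul_inv_cancel_right]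
  have hbij : Function.Bijective f := by
    refine ⟨?_, ?_⟩
    · rintro (h | h) (h' | h') e <;> have e' := congrArg (fun u => (u : {z : N // z ≠ 1}).1.1) e <;>
        simp only [f, Sum.elim_inl, Sum.elim_inr] at e'
      · rw [hinj x hx hx1 h h' e']
      · exfalso
        refine hxy (isConj_iff.2 ⟨h'.1⁻¹ * h.1, ?_⟩)
        rw [show h'.1⁻¹ * h.1 * x * (h'.1⁻¹ * h.1)⁻¹ = h'.1⁻¹ * (h.1 * x * h.1⁻¹) * h'.1 by group, e']
        group
      · exfalso
        refine hxy (isConj_iff.2 ⟨h.1⁻¹ * h'.1, ?_⟩)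
        rw [show h.1⁻¹ * h'.1 * x * (h.1⁻¹ * h'.1)⁻¹ = h.1⁻¹ * (h'.1 * x * h'.1⁻¹) * h.1 by group, ← e']
        group
      · rw [hinj y hy hy1 h h' e']
    · rintro ⟨⟨z, hz⟩, hz1⟩
      have hz1' : z ≠ 1 := fun e => hz1 (Subtype.ext e)
      rcases htwo x y z (hder x hx hx1) (hder y hy hy1) (hder z hz hz1') with h | h | h
      · exact absurd h hxy
      · obtain ⟨k, hk⟩ := isConj_iff.1 h
        obtain ⟨s, hs⟩ := hsplit z hz x hx k hk
        exact ⟨Sum.inl s, Subtype.ext (Subtype.ext hs)⟩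
      · obtain ⟨k, hk⟩ := isConj_iff.1 h
        obtain ⟨s, hs⟩ := hsplit z hz y hy k hk
        exact ⟨Sum.inr s, Subtype.ext (Subtype.ext hs)⟩
  have hcardN : Nat.card N = Nat.card Ω := by
    refine Nat.card_congr (Equiv.ofBijective (fun z : N => z.1 • α) ⟨fun z z' e => ?_, fun o => ?_⟩)
    · have e' : z.1 • α = z'.1 • α := e
      have := hreg _ (mul_mem (inv_mem z'.2) z.2) α (by rw [mul_smul, e', inv_smul_smul])
      exact Subtype.ext (inv_mul_eq_one.1 this).symm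
    · obtain ⟨z, hz, hzo⟩ := normal_transitive hprim N hne α o
      exact ⟨⟨z, hz⟩, hzo⟩
  have hc := Nat.card_congr (Equiv.ofBijective f hbij)
  have hc2 : Nat.card {z : N // z ≠ 1} = Nat.card N - 1 := by
    haveI := Fintype.ofFinite N
    rw [Nat.card_eq_fintype_card, Nat.card_eq_fintype_card, Fintype.card_subtype_compl, Fintype.card_subtype_eq]
  rw [Nat.card_sum, hc2, hcardN] at hc
  omega

/-- The conclusion. -/
theorem two_classes (hn : 2 ≤ Nat.card Ω) (hprim : IsPreprimitive G Ω)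
    (hnas : ¬ ∃ T : Subgroup G, T.Normal ∧ IsSimpleGroup T ∧ ¬ IsMulCommutative T ∧ Subgroup.centralizer (T : Set G) = ⊥)
    (hcard : Nat.card {c : ConjClasses G // ∃ g : G, ConjClasses.mk g = c ∧ ∀ ω : Ω, g • ω ≠ ω} = 2) (α : Ω) :
    ∃ N : Subgroup G, N.Normal ∧ N ≠ ⊥ ∧ IsMulCommutative N ∧ (∀ ω : Ω, stabilizer N ω = ⊥) ∧
    (((∀ g : G, g ≠ 1 → Nat.card (fixedBy Ω g) ≤ 1) ∧ ¬ 2 ∣ Nat.card Ω ∧
        2 * Nat.card (stabilizer G α) = Nat.card Ω - 1) ∨
    (IsMultiplyPretransitive G Ω 2 ∧ ∃ g : G, g ≠ 1 ∧ 2 ≤ Nat.card (fixedBy Ω g))) := by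
  haveI := hprim.toIsPretransitive
  haveI : Nontrivial Ω := Finite.one_lt_card_iff_nontrivial.1 (by omega)
  haveI : Nontrivial G := by
    obtain ⟨a, b, hab⟩ := exists_pair_ne Ω
    obtain ⟨g, hg⟩ := exists_smul_eq G a b
    exact ⟨g, 1, fun e => hab (by rw [← hg, e, one_smul])⟩
  obtain ⟨N, hNn, hNne, hmin⟩ := Solv.exists_minimal_normal (G := G)
  haveI := hNn
  have htwo := atMostTwo_of_card hcard
  have hab := min_abelian hn hprim hnas htwo N hNne hmin
  have hnot : ¬ OneClass G Ω := fun h => by rw [oneClass_iff.2 h] at hcard; omega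
  exact ⟨N, hNn, hNne, ⟨⟨fun x y => Subtype.ext (hab x.1 x.2 y.1 y.2)⟩⟩, affine_two hn hprim N hNne hab htwo hnot α⟩

end Cfsg.Agent.Lie.OneDer
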