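import Mathlib

/-!
Computations in PSU(3,4): the field with sixteen elements, isotropic points, and certificates.
-/

set_option autoImplicit false
set_option maxRecDepth 1000000

namespace Cfsg.Agent.Lie.U34

/-- The field with four elements. -/
abbrev R4 := QuadraticAlgebra (ZMod 2) 1 1

/-- The field with sixteen elements. -/
abbrev R16 := QuadraticAlgebra R4 ⟨0, 1⟩ 1

/-- Decoding. -/
def dec (n : ℕ) : R16 := ⟨⟨(n : ZMod 2), ((n / 2 : ℕ) : ZMod 2)⟩, ⟨((n / 4 : ℕ) : ZMod 2), ((n / 8 : ℕ) : ZMod 2)⟩⟩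

/-- Multiplication table. -/
def tab : List ℕ := [0, 0, 0, 0, 0, 0, 0, 0, 0, 0, 0, 0, 0, 0, 0, 0, 0, 1, 2, 3, 4, 5, 6, 7, 8, 9, 10, 11, 12, 13, 14, 15, 0, 2, 3, 1, 8, 10, 11, 9, 12, 14, 15, 13, 4, 6, 7, 5, 0, 3, 1, 2, 12, 15, 13, 14, 4, 7, 5, 6, 8, 11, 9, 10, 0, 4, 8, 12, 6, 2, 14, 10, 11, 15, 3, 7, 13, 9, 5, 1, 0, 5, 10, 15, 2, 7, 8, 13, 3, 6, 9, 12, 1, 4, 11, 14, 0, 6, 11, 13, 14, 8, 5, 3, 7, 1, 12, 10, 9, 15, 2, 4, 0, 7, 9, 14, 10, 13, 3, 4, 15, 8, 6, 1, 5, 2, 12, 11, 0, 8, 12, 4, 11, 3, 7, 15, 13, 5, 1, 9, 6, 14, 10, 2, 0, 9, 14, 7, 15, 6, 1, 8, 5, 12, 11, 2, 10, 3, 4, 13, 0, 10, 15, 5, 3, 9, 12, 6, 1, 11, 14, 4, 2, 8, 13, 7, 0, 11, 13, 6, 7, 12, 10, 1, 9, 2, 4, 15, 14, 5, 3, 8, 0, 12, 4, 8, 13, 1, 9, 5, 6, 10, 2, 14, 11, 7, 15, 3, 0, 13, 6, 11, 9, 4, 15, 2, 14, 3, 8, 5, 7, 10, 1, 12, 0, 14, 7, 9, 5, 11, 2, 12, 10, 4, 13, 3, 15, 1, 8, 6, 0, 15,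 5, 10, 1, 14, 4, 11, 2, 13, 7, 8, 3, 12, 6, 9]

/-- Product. -/
def mulN (a b : ℕ) : ℕ := tab.getD (16 * a + b) 0

/-- Fourth power. -/
def p4N (a : ℕ) : ℕ := mulN (mulN a a) (mulN a a)

/-- Vectors. -/
abbrev V3 := ℕ × ℕ × ℕ

/-- All entries below sixteen. -/
def okV (u : V3) : Bool := decide (u.1 < 16) && decide (u.2.1 < 16) && decide (u.2.2 < 16)

/-- The hermitian form. -/
def hN (u v : V3) : ℕ := mulN u.1 (p4N v.1) ^^^ mulN u.2.1 (p4N v.2.1) ^^^ mulN u.2.2 (p4N v.2.2)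

/-- Scalar multiple. -/
def smulN (c : ℕ) (u : V3) : V3 := (mulN c u.1, mulN c u.2.1, mulN c u.2.2)

/-- Isotropic points. -/
def isoL : List V3 := [(1, 0, 1), (1, 0, 8), (1, 0, 10), (1, 0, 13), (1, 0, 14), (1, 1, 0), (1, 2, 3), (1, 2, 4), (1, 2, 5), (1, 2, 9), (1, 2, 11), (1, 3, 2), (1, 3, 6), (1, 3, 7), (1, 3, 12), (1, 3, 15), (1, 4, 2), (1, 4, 6), (1, 4, 7), (1, 4, 12), (1, 4, 15), (1, 5, 2), (1, 5, 6), (1, 5, 7), (1, 5, 12), (1, 5, 15), (1, 6, 3), (1, 6, 4), (1, 6, 5), (1, 6, 9), (1, 6, 11), (1, 7, 3), (1, 7, 4), (1, 7, 5), (1, 7, 9), (1, 7, 11), (1, 8, 0), (1, 9, 2), (1, 9, 6), (1, 9, 7), (1, 9, 12), (1, 9, 15), (1, 10, 0), (1, 11, 2), (1, 11, 6), (1, 11, 7), (1, 11, 12), (1, 11, 15), (1, 12, 3), (1, 12, 4), (1, 12, 5), (1, 12, 9), (1, 12, 11), (1, 13, 0), (1, 14, 0), (1, 15, 3), (1, 15, 4), (1, 15, 5), (1, 15, 9), (1, 15, 11), (0, 1, 1), (0, 1,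 8), (0, 1, 10), (0, 1, 13), (0, 1, 14)]

/-- The j-th one. -/
def rep (j : Fin 65) : V3 := isoL.getD j.val (0, 0, 0)

/-- An invariant function. -/
def fTab : List ℕ := [2, 1, 3, 0, 4, 0, 1, 2, 3, 3, 1, 2, 4, 3, 2, 4, 0, 0, 1, 3, 1, 3, 0, 1, 4, 2, 4, 0, 2, 4, 0, 2, 2, 4, 3, 4, 0, 1, 1, 3, 2, 3, 0, 4, 0, 2, 4, 0, 3, 1, 1, 0, 0, 0, 0, 0, 0, 0, 0, 0, 0, 0, 0, 0, 0]

/-- The permutation of the element of order thirteen. -/
def permL : List ℕ := [4, 15, 59, 17, 28, 56, 26, 6, 55, 31, 48, 14, 25, 10, 53, 58, 47, 44, 43, 46, 45, 30, 11, 50, 62, 40, 63, 29, 21, 32, 20, 13, 37, 42, 35, 7, 38, 9, 39, 24, 27, 3, 8, 36, 19, 60, 1, 49, 52, 23, 0, 34, 12, 18, 64, 41, 2, 61, 33, 54, 16, 22, 57, 5, 51]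

/-- Orbit representative of each point. -/
def orbL : List ℕ := [0, 1, 2, 1, 0, 2, 2, 2, 1, 3, 3, 4, 3, 3, 4, 1, 0, 1, 4, 1, 0, 0, 4, 0, 4, 3, 2, 3, 0, 3, 0, 3, 3, 1, 2, 2, 4, 3, 4, 4, 3, 1, 1, 4, 1, 0, 1, 0, 3, 0, 0, 2, 3, 4, 2, 1, 2, 4, 1, 2, 0, 4, 4, 2, 2]

/-- Distance from the representative. -/
def distL : List ℕ := [0, 0, 0, 8, 1, 11, 8, 7, 5, 0, 3, 0, 6, 2, 1, 1, 8, 9, 3, 11, 5, 3, 12, 11, 8, 7, 9, 9, 2, 10, 4, 1, 11, 3, 5, 6, 5, 12, 6, 7, 8, 7, 4, 4, 10, 6, 12, 9, 4, 10, 12, 4, 5, 2, 2, 6, 12, 10, 2, 1, 7, 11, 9, 10, 3]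

/-- The orbit representatives. -/
def firstL : List ℕ := [0, 1, 2, 9, 11]

/-- Four blocks by polar points. -/
def polL : List V3 := [(1, 0, 0), (1, 0, 2), (1, 0, 3), (1, 0, 4)]

/-- The blocks. -/
def blkL : List (List ℕ) := [[60, 61, 62, 63, 64], [6, 26, 31, 48, 55], [11, 16, 21, 37, 43], [14, 19, 24, 40, 46]]

/-- Matrices as rows. -/
abbrev M3 := List V3

/-- Row i. -/
def row (A : M3) (i : ℕ) : V3 := A.getD i (0, 0, 0)

/-- Dot product. -/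
def dotN (u v : V3) : ℕ := mulN u.1 v.1 ^^^ mulN u.2.1 v.2.1 ^^^ mulN u.2.2 v.2.2

/-- Matrix times vector. -/
def actN (A : M3) (v : V3) : V3 := (dotN (row A 0) v, dotN (row A 1) v, dotN (row A 2) v)

/-- Column. -/
def col (A : M3) (j : ℕ) : V3 :=
  (fun f : V3 → ℕ => (f (row A 0), f (row A 1), f (row A 2)))
    (fun u => if j = 0 then u.1 else if j = 1 then u.2.1 else u.2.2)

/-- Product. -/
def mmN (A B : M3) : M3 :=
  (List.range 3).map fun i => (dotN (row A i) (col B 0), dotN (row A i) (col B 1), dotN (row A i) (col B 2))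

/-- The identity. -/
def oneN : M3 := [(1, 0, 0), (0, 1, 0), (0, 0, 1)]

/-- Power. -/
def powN (A : M3) : ℕ → M3
  | 0 => oneN
  | n + 1 => mmN (powN A n) A

/-- Determinant in characteristic two. -/
def detN (A : M3) : ℕ :=
  (fun a b c : V3 =>
    mulN (mulN a.1 b.2.1) c.2.2 ^^^ mulN (mulN a.1 b.2.2) c.2.1 ^^^ mulN (mulN a.2.1 b.1) c.2.2 ^^^
    mulN (mulN a.2.1 b.2.2) c.1 ^^^ mulN (mulN a.2.2 b.1) c.2.1 ^^^ mulN (mulN a.2.2 b.2.1) c.1)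
    (row A 0) (row A 1) (row A 2)

/-- Unitary of determinant one. -/
def suN (A : M3) : Bool :=
  A.all okV && (detN A == 1) &&
    (List.range 3).all fun i => (List.range 3).all fun j => hN (col A i) (col A j) == (if i = j then 1 else 0)

/-- Order thirteen. -/
def x13 : M3 := [(4, 9, 10), (4, 8, 4), (13, 4, 5)]
/-- Order five. -/
def d5 : M3 := [(8, 0, 0), (0, 8, 0), (0, 0, 14)]
/-- Order two, commuting with it. -/
def t2 : M3 := [(0, 1, 0), (1, 0, 0), (0, 0, 1)]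
/-- Order three, commuting with it. -/
def s3 : M3 := [(4, 2, 0), (2, 5, 0), (0, 0, 1)]
/-- The cyclic permutation matrix. -/
def c3 : M3 := [(0, 1, 0), (0, 0, 1), (1, 0, 0)]

theorem tab_spec : ∀ a b : Fin 16, dec (mulN a b) = dec a * dec b ∧ dec (a.val ^^^ b.val) = dec a + dec b := by
  decide +kernel

theorem tab_lt : ∀ a b : Fin 16, mulN a b < 16 ∧ (a.val ^^^ b.val) < 16 := by decide +kernel

theorem dec_inj : ∀ a b : Fin 16, dec a = dec b → a = b := by decide +kernel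

theorem inv_ex : ∀ a : Fin 16, a.val ≠ 0 → ∃ b : Fin 16, mulN b a = 1 := by decide +kernel

theorem rep_ok : ∀ j : Fin 65, okV (rep j) = true ∧ hN (rep j) (rep j) = 0 ∧ rep j ≠ (0, 0, 0) := by decide +kernel

theorem rep_unique : ∀ i j : Fin 65, ∀ c : Fin 16, smulN c (rep j) = rep i → i = j := by decide +kernel

theorem norm_cover₁ : ∀ b c : Fin 16, hN (1, b, c) (1, b, c) = 0 → (1, b.val, c.val) ∈ isoL := by decide +kernel

theorem norm_cover₂ : ∀ c : Fin 16, hN (0, 1, c) (0, 1, c) = 0 → (0, 1, c.val) ∈ isoL := by decide +kernel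

theorem norm_cover₃ : hN (0, 0, 1) (0, 0, 1) ≠ 0 := by decide +kernel

/-- The sum over the block of a polar point. -/
def blockSum (v : V3) : ℕ :=
  ((List.finRange 65).map fun j => if hN (rep j) v == 0 then fTab.getD j.val 0 else 0).sum % 5

theorem f_block₁ : ∀ b c : Fin 16, hN (1, b, c) (1, b, c) ≠ 0 → blockSum (1, b, c) = 0 := by decide +kernel

theorem f_block₂ : ∀ c : Fin 16, hN (0, 1, c) (0, 1, c) ≠ 0 → blockSum (0, 1, c) = 0 := by decide +kernel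

theorem f_block₃ : blockSum (0, 0, 1) = 0 := by decide +kernel

theorem f_nonconst : fTab.getD 0 0 = 2 ∧ fTab.getD 1 0 = 1 := by decide +kernel

theorem perm_spec : ∀ j : Fin 65, ∃ c : Fin 16, c.val ≠ 0 ∧ permL.getD j.val 0 < 65 ∧
    actN x13 (rep j) = smulN c (isoL.getD (permL.getD j.val 0) (0, 0, 0)) := by decide +kernel

theorem orbit_spec : ∀ j : Fin 65, (fun i => permL.getD i 0)^[distL.getD j.val 0] (firstL.getD (orbL.getD j.val 0) 0) = j.val ∧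
    (fun i => permL.getD i 0)^[13] j.val = j.val ∧ orbL.getD j.val 0 < 5 := by decide +kernel

theorem pol_spec : ∀ m : Fin 4, okV (polL.getD m.val (0, 0, 0)) = true ∧
    hN (polL.getD m.val (0, 0, 0)) (polL.getD m.val (0, 0, 0)) ≠ 0 ∧
    (blkL.getD m.val []).Nodup ∧
    ∀ j : Fin 65, hN (rep j) (polL.getD m.val (0, 0, 0)) = 0 ↔ j.val ∈ blkL.getD m.val [] := by decide +kernel

theorem su_mem : suN x13 = true ∧ suN d5 = true ∧ suN t2 = true ∧ suN s3 = true ∧ suN c3 = true := by decide +kernel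

theorem elt_facts : powN x13 13 = oneN ∧ x13 ≠ oneN ∧ powN d5 5 = oneN ∧ d5 ≠ oneN ∧ powN t2 2 = oneN ∧ t2 ≠ oneN ∧
    powN s3 3 = oneN ∧ s3 ≠ oneN ∧ mmN d5 t2 = mmN t2 d5 ∧ mmN d5 s3 = mmN s3 d5 := by decide +kernel

end Cfsg.Agent.Lie.U34
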