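import Mathlib
import Cfsg.Agent.Lib.Lie.U34Model
import Cfsg.Agent.Lib.Local.FS.SimplePSU3

/-!
Reading the computations for PSU(3,4) in a field with sixteen elements.
-/

set_option autoImplicit false
set_option maxRecDepth 100000

namespace Cfsg.Agent.Lie.U34

open Matrix

instance : Fact (∀ r : ZMod 2, r ^ 2 ≠ 1 + 1 * r) := ⟨by decide⟩

instance : Fact (∀ r : R4, r ^ 2 ≠ (⟨0, 1⟩ : R4) + 1 * r) := ⟨by
  rintro ⟨a, b⟩
  revert a b
  decide +kernel⟩

theorem dec_surj : ∀ x : R16, ∃ n : Fin 16, dec n = x := by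
  rintro ⟨⟨a, b⟩, ⟨c, d⟩⟩
  revert a b c d
  decide +kernel

theorem dec_zero : dec 0 = 0 := by decide +kernel

theorem dec_one : dec 1 = 1 := by decide +kernel

/-- A numbering of the field. -/
structure Code (F : Type*) [Field F] where
  /-- decoding -/
  d : ℕ → F
  zero : d 0 = 0
  one : d 1 = 1
  mul : ∀ a b, a < 16 → b < 16 → d (mulN a b) = d a * d b
  add : ∀ a b, a < 16 → b < 16 → d (a ^^^ b) = d a + d b
  inj : ∀ a b, a < 16 → b < 16 → d a = d b → a = b
  surj : ∀ x : F, ∃ a, a < 16 ∧ d a = x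

variable {F : Type*} [Field F] [Fintype F]

theorem exists_code (hF : Fintype.card F = 16) : Nonempty (Code F) := by
  classical
  haveI : Fintype R16 := Fintype.ofSurjective (fun n : Fin 16 => dec n) dec_surj
  have hc : Fintype.card R16 = 16 := by
    rw [← Fintype.card_fin 16]
    exact (Fintype.card_of_bijective (f := fun n : Fin 16 => dec n) ⟨dec_inj, dec_surj⟩).symm
  let e : R16 ≃+* F := FiniteField.ringEquivOfCardEq (by rw [hc, hF])
  refine ⟨⟨fun n => e (dec n), by rw [dec_zero, map_zero], by rw [dec_one, map_one], ?_, ?_, ?_, ?_⟩⟩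
  · intro a b ha hb
    rw [← map_mul]
    exact congrArg e (tab_spec ⟨a, ha⟩ ⟨b, hb⟩).1
  · intro a b ha hb
    rw [← map_add]
    exact congrArg e (tab_spec ⟨a, ha⟩ ⟨b, hb⟩).2
  · intro a b ha hb h
    exact congrArg Fin.val (dec_inj ⟨a, ha⟩ ⟨b, hb⟩ (e.injective h))
  · intro x
    obtain ⟨n, hn⟩ := dec_surj (e.symm x)
    exact ⟨n, n.isLt, by rw [hn, RingEquiv.apply_symm_apply]⟩

namespace Code

variable (C : Code F)

omit [Fintype F]

theorem mulN_lt {a b : ℕ} (ha : a < 16) (hb : b < 16) : mulN a b < 16 := (tab_lt ⟨a, ha⟩ ⟨b, hb⟩).1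

theorem xor_lt {a b : ℕ} (ha : a < 16) (hb : b < 16) : a ^^^ b < 16 := (tab_lt ⟨a, ha⟩ ⟨b, hb⟩).2

theorem eq_zero_iff {a : ℕ} (ha : a < 16) : C.d a = 0 ↔ a = 0 :=
  ⟨fun h => C.inj a 0 ha (by norm_num) (h.trans C.zero.symm), fun h => h ▸ C.zero⟩

/-- A vector. -/
def dv (u : V3) : Fin 3 → F := ![C.d u.1, C.d u.2.1, C.d u.2.2]

theorem okV_iff {u : V3} : okV u = true ↔ u.1 < 16 ∧ u.2.1 < 16 ∧ u.2.2 < 16 := by
  simp [okV, and_assoc]

theorem p4 {a : ℕ} (ha : a < 16) : C.d (p4N a) = C.d a ^ 4 := by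
  rw [p4N, C.mul _ _ (mulN_lt ha ha) (mulN_lt ha ha), C.mul _ _ ha ha]
  ring

theorem p4_lt {a : ℕ} (ha : a < 16) : p4N a < 16 := mulN_lt (mulN_lt ha ha) (mulN_lt ha ha)

theorem hN_lt {u v : V3} (hu : okV u = true) (hv : okV v = true) : hN u v < 16 := by
  rw [okV_iff] at hu hv
  exact xor_lt (xor_lt (mulN_lt hu.1 (p4_lt hv.1)) (mulN_lt hu.2.1 (p4_lt hv.2.1))) (mulN_lt hu.2.2 (p4_lt hv.2.2))

theorem herm {u v : V3} (hu : okV u = true) (hv : okV v = true) :
    Cfsg.hermForm 3 F 4 (C.dv u) (C.dv v) = C.d (hN u v) := by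
  rw [okV_iff] at hu hv
  rw [hN, C.add _ _ (xor_lt (mulN_lt hu.1 (p4_lt hv.1)) (mulN_lt hu.2.1 (p4_lt hv.2.1))) (mulN_lt hu.2.2 (p4_lt hv.2.2)),
    C.add _ _ (mulN_lt hu.1 (p4_lt hv.1)) (mulN_lt hu.2.1 (p4_lt hv.2.1)), C.mul _ _ hu.1 (p4_lt hv.1),
    C.mul _ _ hu.2.1 (p4_lt hv.2.1), C.mul _ _ hu.2.2 (p4_lt hv.2.2), C.p4 hv.1, C.p4 hv.2.1, C.p4 hv.2.2]
  simp [Cfsg.hermForm, dv, Fin.sum_univ_three]

theorem dv_smul {c : ℕ} (hc : c < 16) {u : V3} (hu : okV u = true) : C.dv (smulN c u) = C.d c • C.dv u := by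
  rw [okV_iff] at hu
  ext i
  fin_cases i <;> simp [dv, smulN, C.mul, hc, hu]

theorem smulN_ok {c : ℕ} (hc : c < 16) {u : V3} (hu : okV u = true) : okV (smulN c u) = true := by
  rw [okV_iff] at hu ⊢
  exact ⟨mulN_lt hc hu.1, mulN_lt hc hu.2.1, mulN_lt hc hu.2.2⟩

theorem dv_inj {u v : V3} (hu : okV u = true) (hv : okV v = true) (h : C.dv u = C.dv v) : u = v := by
  rw [okV_iff] at hu hv
  exact Prod.ext (C.inj _ _ hu.1 hv.1 (congrFun h 0))
    (Prod.ext (C.inj _ _ hu.2.1 hv.2.1 (congrFun h 1)) (C.inj _ _ hu.2.2 hv.2.2 (congrFun h 2)))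

/-- A matrix. -/
def dM (A : M3) : Matrix (Fin 3) (Fin 3) F := Matrix.of fun i => C.dv (row A i.val)

theorem row_ok {A : M3} (hA : A.all okV = true) (i : ℕ) : okV (row A i) = true := by
  rw [row]
  by_cases hi : i < A.length
  · rw [List.getD_eq_getElem _ _ hi]
    exact List.all_eq_true.1 hA _ (List.getElem_mem hi)
  · rw [List.getD_eq_default _ _ (not_lt.1 hi)]
    rfl

theorem col_ok {A : M3} (hA : A.all okV = true) (j : ℕ) : okV (col A j) = true := by
  have h := fun i => okV_iff.1 (row_ok hA i)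
  rw [okV_iff]
  simp only [col]
  refine ⟨?_, ?_, ?_⟩ <;> split_ifs <;> first | exact (h _).1 | exact (h _).2.1 | exact (h _).2.2

theorem dv_col (A : M3) (j : Fin 3) : C.dv (col A j.val) = fun i => C.dM A i j := by
  ext i
  fin_cases i <;> fin_cases j <;> simp [dv, dM, col]

theorem dotN_lt {u v : V3} (hu : okV u = true) (hv : okV v = true) : dotN u v < 16 := by
  rw [okV_iff] at hu hv
  exact xor_lt (xor_lt (mulN_lt hu.1 hv.1) (mulN_lt hu.2.1 hv.2.1)) (mulN_lt hu.2.2 hv.2.2)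

theorem dot {u v : V3} (hu : okV u = true) (hv : okV v = true) : C.d (dotN u v) = C.dv u ⬝ᵥ C.dv v := by
  rw [okV_iff] at hu hv
  rw [dotN, C.add _ _ (xor_lt (mulN_lt hu.1 hv.1) (mulN_lt hu.2.1 hv.2.1)) (mulN_lt hu.2.2 hv.2.2),
    C.add _ _ (mulN_lt hu.1 hv.1) (mulN_lt hu.2.1 hv.2.1), C.mul _ _ hu.1 hv.1, C.mul _ _ hu.2.1 hv.2.1,
    C.mul _ _ hu.2.2 hv.2.2]
  simp [dotProduct, dv, Fin.sum_univ_three]

theorem act {A : M3} (hA : A.all okV = true) {v : V3} (hv : okV v = true) : C.dM A *ᵥ C.dv v = C.dv (actN A v) := by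
  ext i
  have := fun k => C.dot (row_ok hA k) hv
  fin_cases i <;> simp [Matrix.mulVec, dM, actN, dv, this] <;> rfl

theorem mm_ok {A B : M3} (hA : A.all okV = true) (hB : B.all okV = true) : (mmN A B).all okV = true := by
  rw [List.all_eq_true, mmN]
  intro x hx
  obtain ⟨i, -, rfl⟩ := List.mem_map.1 hx
  rw [okV_iff]
  exact ⟨dotN_lt (row_ok hA i) (col_ok hB 0), dotN_lt (row_ok hA i) (col_ok hB 1), dotN_lt (row_ok hA i) (col_ok hB 2)⟩

theorem mm {A B : M3} (hA : A.all okV = true) (hB : B.all okV = true) : C.dM (mmN A B) = C.dM A * C.dM B := by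
  ext i j
  have h : ∀ k l, C.d (dotN (row A k) (col B l)) = C.dv (row A k) ⬝ᵥ C.dv (col B l) :=
    fun k l => C.dot (row_ok hA k) (col_ok hB l)
  have hrow : row (mmN A B) i.val = (dotN (row A i) (col B 0), dotN (row A i) (col B 1), dotN (row A i) (col B 2)) := by
    fin_cases i <;> rfl
  rw [Matrix.mul_apply, ← dotProduct]
  show C.dv (row (mmN A B) i.val) j = _
  rw [hrow, ← C.dv_col B j]
  fin_cases j <;> simp [dv, h] <;> rfl

theorem dM_one : C.dM oneN = 1 := by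
  ext i j
  fin_cases i <;> fin_cases j <;> simp [dM, dv, row, oneN, C.zero, C.one]

theorem pow_ok {A : M3} (hA : A.all okV = true) : ∀ n, (powN A n).all okV = true
  | 0 => rfl
  | n + 1 => mm_ok (pow_ok hA n) hA

theorem pow {A : M3} (hA : A.all okV = true) (n : ℕ) : C.dM (powN A n) = C.dM A ^ n := by
  induction n with
  | zero => rw [powN, C.dM_one, pow_zero]
  | succ n ih => rw [powN, C.mm (pow_ok hA n) hA, ih, pow_succ]

theorem eq_one_of_dM {A : M3} (hA : A.all okV = true) (hl : A.length = 3) (h : C.dM A = 1) : A = oneN := by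
  have hi : ∀ i : Fin 3, row A i.val = row oneN i.val := fun i =>
    C.dv_inj (row_ok hA _) (row_ok rfl _) (congrFun (h.trans C.dM_one.symm) i)
  obtain ⟨a, b, c, rfl⟩ := List.length_eq_three.1 hl
  have h0 := hi 0
  have h1 := hi 1
  have h2 := hi 2
  simp only [row, oneN, Fin.val_zero, Fin.val_one, Fin.val_two, List.getD_cons_zero, List.getD_cons_succ] at h0 h1 h2
  rw [h0, h1, h2]
  rfl

variable [Fintype F]

/-- The element with the given matrix. -/
theorem exists_elt (hF : Fintype.card F = 16) {A : M3} (hA : suN A = true) :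
    ∃ g : ↥(Cfsg.SU 3 F 4), g.1.1 = C.dM A := by
  simp only [suN, Bool.and_eq_true, beq_iff_eq, List.all_eq_true, List.mem_range] at hA
  obtain ⟨⟨hok, hdet⟩, hgram⟩ := hA
  have hok' : A.all okV = true := List.all_eq_true.2 hok
  obtain ⟨p, e, σ, -, -, -, -, hσ⟩ := Cfsg.Agent.Classical.exists_usigma (F := F) (q := 4) (by rw [hF]; norm_num)
  haveI : Fact (Nat.Prime 2) := ⟨Nat.prime_two⟩
  haveI : CharP F 2 := charP_of_card_eq_prime_pow (f := 4) hF
  refine Cfsg.Agent.Local.FS.PSU3Simple.exists_SU_of_gram hσ _ ?_ ?_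
  · have h := fun i => okV_iff.1 (row_ok hok' i)
    have e : C.d (detN A) = (C.dM A).det := by
      have m3 : ∀ a b c, a < 16 → b < 16 → c < 16 → C.d (mulN (mulN a b) c) = C.d a * C.d b * C.d c :=
        fun a b c ha hb hc => by rw [C.mul _ _ (mulN_lt ha hb) hc, C.mul _ _ ha hb]
      simp only [detN]
      repeat rw [C.add]
      any_goals repeat' first | apply xor_lt | apply mulN_lt
      any_goals first | exact (h _).1 | exact (h _).2.1 | exact (h _).2.2
      simp [Matrix.det_fin_three, dM, dv, m3, h, CharTwo.sub_eq_add]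
    rw [← e, hdet, C.one]
  · ext i j
    rw [Matrix.mul_apply]
    have e := C.herm (col_ok hok' i.val) (col_ok hok' j.val)
    rw [C.dv_col, C.dv_col] at e
    simp only [Cfsg.hermForm] at e
    simp only [Matrix.transpose_apply, Matrix.map_apply, hσ.apply_eq]
    rw [e, hgram i.val i.isLt j.val j.isLt, Matrix.one_apply]
    by_cases hij : i = j
    · rw [if_pos (congrArg Fin.val hij), if_pos hij, C.one]
    · rw [if_neg (fun h => hij (Fin.ext h)), if_neg hij, C.zero]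

end Code

end Cfsg.Agent.Lie.U34
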