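import Mathlib
import Cfsg.Agent.Lib.Lie.U34Code
import Cfsg.Agent.Lib.Lie.FibrePower
import Cfsg.Agent.Lib.Lead.SemiSpec

/-!
Arbitrarily large groups with the prime graph of PSU(3,4).
-/

set_option autoImplicit false
set_option maxRecDepth 100000

namespace Cfsg.Agent.Lie.U34

open Matrix
attribute [local instance] _root_.Classical.propDecidable

variable {F : Type*} [Field F] [Fintype F]


omit [Fintype F] in
theorem herm_smul_left (c : F) (u v : Fin 3 → F) :
    Cfsg.hermForm 3 F 4 (c • u) v = c * Cfsg.hermForm 3 F 4 u v := by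
  simp [Cfsg.hermForm, Finset.mul_sum, mul_assoc]

omit [Fintype F] in
theorem herm_smul_right (c : F) (u v : Fin 3 → F) :
    Cfsg.hermForm 3 F 4 u (c • v) = c ^ 4 * Cfsg.hermForm 3 F 4 u v := by
  simp [Cfsg.hermForm, Finset.mul_sum, mul_pow, mul_left_comm]

omit [Fintype F] in
theorem herm_mul (g : ↥(Cfsg.SU 3 F 4)) (u v : Fin 3 → F) :
    Cfsg.hermForm 3 F 4 (g.1.1 *ᵥ u) (g.1.1 *ᵥ v) = Cfsg.hermForm 3 F 4 u v := g.2 u v

omit [Fintype F] in
theorem mulVec_inv (g : ↥(Cfsg.SU 3 F 4)) (v : Fin 3 → F) : g.1.1 *ᵥ ((g⁻¹).1.1 *ᵥ v) = v := by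
  rw [Matrix.mulVec_mulVec]
  have h : (g * g⁻¹).1.1 = (1 : ↥(Cfsg.SU 3 F 4)).1.1 := by rw [mul_inv_cancel]
  exact (congrArg (· *ᵥ v) h).trans (Matrix.one_mulVec v)

variable (C : Code F)

/-- The isotropic points. -/
def pts (j : Fin 65) : Fin 3 → F := C.dv (rep j)

omit [Fintype F] in
/-- Normal form of a nonzero vector. -/
theorem exists_normal (v : Fin 3 → F) (hv : v ≠ 0) : ∃ (c : F) (u : V3), c ≠ 0 ∧ v = c • C.dv u ∧
    ((∃ b e, b < 16 ∧ e < 16 ∧ u = (1, b, e)) ∨ (∃ e, e < 16 ∧ u = (0, 1, e)) ∨ u = (0, 0, 1)) := by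
  by_cases h0 : v 0 = 0
  · by_cases h1 : v 1 = 0
    · have h2 : v 2 ≠ 0 := fun h2 => hv (funext fun i => by fin_cases i <;> assumption)
      refine ⟨v 2, (0, 0, 1), h2, ?_, Or.inr (Or.inr rfl)⟩
      ext i
      fin_cases i <;> simp [Code.dv, C.zero, C.one, h0, h1]
    · obtain ⟨e, he, he'⟩ := C.surj (v 2 / v 1)
      refine ⟨v 1, (0, 1, e), h1, ?_, Or.inr (Or.inl ⟨e, he, rfl⟩)⟩
      ext i
      fin_cases i <;> simp [Code.dv, C.zero, C.one, he', h0, mul_div_cancel₀ _ h1]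
  · obtain ⟨b, hb, hb'⟩ := C.surj (v 1 / v 0)
    obtain ⟨e, he, he'⟩ := C.surj (v 2 / v 0)
    refine ⟨v 0, (1, b, e), h0, ?_, Or.inl ⟨b, e, hb, he, rfl⟩⟩
    ext i
    fin_cases i <;> simp [Code.dv, C.one, hb', he', mul_div_cancel₀ _ h0]

omit [Fintype F] in
theorem exists_pt (v : Fin 3 → F) (hv : v ≠ 0) (hiso : Cfsg.hermForm 3 F 4 v v = 0) :
    ∃ (j : Fin 65) (c : F), c ≠ 0 ∧ v = c • pts C j := by
  obtain ⟨c, u, hc, rfl, hu⟩ := exists_normal C v hv
  have hok : okV u = true := by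
    rcases hu with ⟨b, e, hb, he, rfl⟩ | ⟨e, he, rfl⟩ | rfl <;> rw [Code.okV_iff] <;>
      refine ⟨?_, ?_, ?_⟩ <;> first | assumption | norm_num
  rw [herm_smul_left, herm_smul_right, C.herm hok hok, mul_eq_zero, mul_eq_zero] at hiso
  have h0 : hN u u = 0 := (C.eq_zero_iff (Code.hN_lt hok hok)).1
    ((hiso.resolve_left hc).resolve_left (pow_ne_zero _ hc))
  have hmem : u ∈ isoL := by
    rcases hu with ⟨b, e, hb, he, rfl⟩ | ⟨e, he, rfl⟩ | rfl
    · exact norm_cover₁ ⟨b, hb⟩ ⟨e, he⟩ h0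
    · exact norm_cover₂ ⟨e, he⟩ h0
    · exact absurd h0 norm_cover₃
  obtain ⟨i, hi, hiu⟩ := List.getElem_of_mem hmem
  have hi' : i < 65 := hi
  exact ⟨⟨i, hi'⟩, c, hc, by rw [pts, rep, List.getD_eq_getElem _ _ hi, hiu]⟩

omit [Fintype F] in
theorem pts_ne (j : Fin 65) : pts C j ≠ 0 := by
  intro h
  refine (rep_ok j).2.2 (C.dv_inj (rep_ok j).1 rfl ?_)
  rw [show C.dv (0, 0, 0) = 0 from funext fun i => by fin_cases i <;> simp [Code.dv, C.zero]]
  exact h

omit [Fintype F] in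
theorem pts_iso (j : Fin 65) : Cfsg.hermForm 3 F 4 (pts C j) (pts C j) = 0 := by
  rw [pts, C.herm (rep_ok j).1 (rep_ok j).1, (rep_ok j).2.1, C.zero]

omit [Fintype F] in
theorem pts_unique {i j : Fin 65} {a b : F} (ha : a ≠ 0) (h : a • pts C i = b • pts C j) : i = j := by
  obtain ⟨c, hc, hc'⟩ := C.surj (a⁻¹ * b)
  refine rep_unique i j ⟨c, hc⟩ (C.dv_inj (Code.smulN_ok hc (rep_ok j).1) (rep_ok i).1 ?_)
  show C.dv (smulN c (rep j)) = C.dv (rep i)
  rw [C.dv_smul hc (rep_ok j).1, hc', mul_smul]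
  show a⁻¹ • b • pts C j = pts C i
  rw [← h, inv_smul_smul₀ ha]

omit [Fintype F] in
theorem exists_img (g : ↥(Cfsg.SU 3 F 4)) (j : Fin 65) : ∃ (i : Fin 65) (c : F), c ≠ 0 ∧ g.1.1 *ᵥ pts C j = c • pts C i := by
  refine exists_pt C _ (fun h => pts_ne C j ?_) (by rw [herm_mul, pts_iso])
  have h' := congrArg ((g⁻¹).1.1 *ᵥ ·) h
  simp only [Matrix.mulVec_zero] at h'
  rw [← h']
  have := mulVec_inv g⁻¹ (pts C j)
  rw [inv_inv] at this
  exact this.symm

/-- The image of a point. -/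
noncomputable def img (g : ↥(Cfsg.SU 3 F 4)) (j : Fin 65) : Fin 65 := (exists_img C g j).choose

omit [Fintype F] in
theorem img_spec (g : ↥(Cfsg.SU 3 F 4)) (j : Fin 65) : ∃ c : F, c ≠ 0 ∧ g.1.1 *ᵥ pts C j = c • pts C (img C g j) :=
  (exists_img C g j).choose_spec

omit [Fintype F] in
theorem img_eq {g : ↥(Cfsg.SU 3 F 4)} {j i : Fin 65} {c : F} (h : g.1.1 *ᵥ pts C j = c • pts C i) : img C g j = i := by
  obtain ⟨a, ha, ha'⟩ := img_spec C g j
  exact pts_unique C ha (ha'.symm.trans h)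

/-- The action on the points. -/
@[reducible] noncomputable def ptAction : MulAction ↥(Cfsg.SU 3 F 4) (Fin 65) where
  smul g j := img C g j
  one_smul j := img_eq C (c := 1) (by rw [one_smul]; exact Matrix.one_mulVec _)
  mul_smul g h j := by
    obtain ⟨a, -, ha⟩ := img_spec C h j
    obtain ⟨b, -, hb⟩ := img_spec C g (img C h j)
    refine img_eq C (c := a * b) ?_
    show (g.1.1 * h.1.1) *ᵥ pts C j = _
    rw [← Matrix.mulVec_mulVec, ha, Matrix.mulVec_smul, hb, mul_smul]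
    rfl

/-- Functions summing to zero over every block. -/
noncomputable def blockFns : AddSubgroup (Fin 65 → ZMod 5) where
  carrier := {f | ∀ v : Fin 3 → F, Cfsg.hermForm 3 F 4 v v ≠ 0 →
    (∑ j, if Cfsg.hermForm 3 F 4 (pts C j) v = 0 then f j else 0) = 0}
  zero_mem' v _ := by simp
  add_mem' {f f'} hf hf' v hv := by
    have h := congrArg₂ (· + ·) (hf v hv) (hf' v hv)
    simp only [← Finset.sum_add_distrib, add_zero] at h
    refine Eq.trans (Finset.sum_congr rfl fun j _ => ?_) h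
    split_ifs <;> simp
  neg_mem' {f} hf v hv := by
    have h := congrArg Neg.neg (hf v hv)
    rw [← Finset.sum_neg_distrib, neg_zero] at h
    refine Eq.trans (Finset.sum_congr rfl fun j _ => ?_) h
    split_ifs <;> simp

/-- Differences. -/
def diff : (Fin 65 → ZMod 5) →+ (Fin 65 × Fin 65 → ZMod 5) where
  toFun f p := f p.1 - f p.2
  map_zero' := by ext; simp
  map_add' f f' := by ext; simp; ring

/-- The module. -/
noncomputable def Wmod : AddSubgroup (Fin 65 × Fin 65 → ZMod 5) := (blockFns C).map diff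

omit [Fintype F] in
theorem blockFns_comp (g : ↥(Cfsg.SU 3 F 4)) {f : Fin 65 → ZMod 5} (hf : f ∈ blockFns C) :
    (fun j => f (img C g j)) ∈ blockFns C := by
  classical
  letI := ptAction C
  intro v hv
  have hw := hf (g.1.1 *ᵥ v) (by rwa [herm_mul])
  rw [← Equiv.sum_comp (MulAction.toPerm g)] at hw
  refine Eq.trans (Finset.sum_congr rfl fun j _ => ?_) hw
  obtain ⟨c, hc, hc'⟩ := img_spec C g j
  have e : Cfsg.hermForm 3 F 4 (pts C (img C g j)) (g.1.1 *ᵥ v) = 0 ↔ Cfsg.hermForm 3 F 4 (pts C j) v = 0 := by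
    rw [← herm_mul g (pts C j) v, hc', herm_smul_left, mul_eq_zero, or_iff_right hc]
  exact if_congr e.symm rfl rfl

/-- The action on the module. -/
@[reducible] noncomputable def modAction : DistribMulAction ↥(Cfsg.SU 3 F 4) ↥(Wmod C) where
  smul g w := ⟨fun p => w.1 (img C g⁻¹ p.1, img C g⁻¹ p.2), by
    obtain ⟨f, hf, hfw⟩ := AddSubgroup.mem_map.1 w.2
    exact AddSubgroup.mem_map.2 ⟨_, blockFns_comp C g⁻¹ hf, by rw [← hfw]; rfl⟩⟩
  one_smul w := Subtype.ext (funext fun p => by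
    letI := ptAction C
    show w.1 (((1 : ↥(Cfsg.SU 3 F 4))⁻¹) • p.1, ((1 : ↥(Cfsg.SU 3 F 4))⁻¹) • p.2) = w.1 p
    rw [inv_one, one_smul, one_smul])
  mul_smul g h w := Subtype.ext (funext fun p => by
    letI := ptAction C
    show w.1 ((g * h)⁻¹ • p.1, (g * h)⁻¹ • p.2) = w.1 (h⁻¹ • g⁻¹ • p.1, h⁻¹ • g⁻¹ • p.2)
    rw [_root_.mul_inv_rev, mul_smul, mul_smul])
  smul_zero g := rfl
  smul_add g w w' := rfl

omit [Fintype F] in
theorem Wmod_five (w : ↥(Wmod C)) : 5 • w = 0 := by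
  refine Subtype.ext (funext fun p => ?_)
  show (5 : ℕ) • w.1 p = 0
  rw [nsmul_eq_mul, show ((5 : ℕ) : ZMod 5) = 0 from ZMod.natCast_self 5, zero_mul]

omit [Fintype F] in
theorem Wmod_nontrivial : Nontrivial ↥(Wmod C) := by
  classical
  let f : Fin 65 → ZMod 5 := fun j => (fTab.getD j.val 0 : ℕ)
  have key : ∀ u : V3, okV u = true → blockSum u = 0 → ∀ c : F, c ≠ 0 →
      (∑ j, if Cfsg.hermForm 3 F 4 (pts C j) (c • C.dv u) = 0 then f j else 0) = 0 := by
    intro u hu hs c hc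
    have e : ∀ j, (if Cfsg.hermForm 3 F 4 (pts C j) (c • C.dv u) = 0 then f j else 0) =
        (((if hN (rep j) u == 0 then fTab.getD j.val 0 else 0) : ℕ) : ZMod 5) := by
      intro j
      rw [herm_smul_right, pts, C.herm (rep_ok j).1 hu]
      by_cases h : hN (rep j) u = 0
      · simp [h, C.zero, f]
      · simp [h, C.eq_zero_iff (Code.hN_lt (rep_ok j).1 hu), hc]
    rw [Finset.sum_congr rfl fun j _ => e j, ← Nat.cast_sum, ← ZMod.natCast_mod]
    rw [Fin.sum_univ_def]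
    unfold blockSum at hs
    rw [hs, Nat.cast_zero]
  have hf : f ∈ blockFns C := by
    intro v hv
    have hv0 : v ≠ 0 := fun h => hv (by rw [h]; simp [Cfsg.hermForm])
    obtain ⟨c, u, hc, rfl, hu⟩ := exists_normal C v hv0
    have hok : okV u = true := by
      rcases hu with ⟨b, e, hb, he, rfl⟩ | ⟨e, he, rfl⟩ | rfl <;> rw [Code.okV_iff] <;>
        refine ⟨?_, ?_, ?_⟩ <;> first | assumption | norm_num
    have h0 : hN u u ≠ 0 := fun h => hv (by
      rw [herm_smul_left, herm_smul_right, C.herm hok hok, h, C.zero, mul_zero, mul_zero])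
    refine key u hok ?_ c hc
    rcases hu with ⟨b, e, hb, he, rfl⟩ | ⟨e, he, rfl⟩ | rfl
    · exact f_block₁ ⟨b, hb⟩ ⟨e, he⟩ h0
    · exact f_block₂ ⟨e, he⟩ h0
    · exact f_block₃
  refine ⟨⟨⟨diff f, AddSubgroup.mem_map.2 ⟨f, hf, rfl⟩⟩, 0, fun h => ?_⟩⟩
  have h2 := congrFun (congrArg Subtype.val h) (0, 1)
  simp only [diff, AddMonoidHom.coe_mk, ZeroHom.coe_mk, f, Fin.val_zero, Fin.val_one, f_nonconst.1, f_nonconst.2,
    AddSubgroup.coe_zero, Pi.zero_apply] at h2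
  revert h2
  decide

set_option synthInstance.maxSize 1024 in
theorem solve_const : ∀ c₀ c₁ c₂ c₃ c₄ : ZMod 5, c₀ + 2 * c₂ + 2 * c₄ = 0 → c₁ + 2 * c₂ + 2 * c₃ = 0 →
    2 * c₀ + c₃ + 2 * c₄ = 0 → 2 * c₁ + c₃ + 2 * c₄ = 0 → c₁ = c₀ ∧ c₂ = c₀ ∧ c₃ = c₀ ∧ c₄ = c₀ := by
  decide +kernel

omit [Fintype F] in
theorem fix_x (x : ↥(Cfsg.SU 3 F 4)) (hx : x.1.1 = C.dM x13) (w : ↥(Wmod C)) (hw : (modAction C).smul x w = w) : w = 0 := by
  classical
  letI := ptAction C
  obtain ⟨f, hf, hfw⟩ := AddSubgroup.mem_map.1 w.2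
  have hperm : ∀ j : Fin 65, (img C x j).val = permL.getD j.val 0 := by
    intro j
    obtain ⟨c, hc, hlt, hact⟩ := perm_spec j
    have hxok : x13.all okV = true := by decide +kernel
    have : img C x j = ⟨permL.getD j.val 0, hlt⟩ := by
      refine img_eq C (c := C.d c) ?_
      rw [hx, pts, C.act hxok (rep_ok j).1, hact]
      exact C.dv_smul c.isLt (rep_ok ⟨permL.getD j.val 0, hlt⟩).1
    rw [this]
  have hdiff : ∀ i j : Fin 65, f (img C x i) - f (img C x j) = f i - f j := by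
    intro i j
    have h := congrFun (congrArg Subtype.val hw) (img C x i, img C x j)
    have h' : w.1 (x⁻¹ • x • i, x⁻¹ • x • j) = w.1 (img C x i, img C x j) := h
    rw [inv_smul_smul, inv_smul_smul, ← hfw] at h'
    exact h'.symm
  set k := f (img C x 0) - f 0 with hk
  have hstep : ∀ j, f (img C x j) = f j + k := by
    intro j
    have := hdiff j 0
    rw [hk]
    linear_combination this
  have hiter : ∀ n (j : Fin 65), ((fun i => permL.getD i 0)^[n] j.val) < 65 ∧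
      ∀ i : Fin 65, i.val = (fun i => permL.getD i 0)^[n] j.val → f i = f j + n * k := by
    intro n
    induction n with
    | zero => intro j; exact ⟨j.isLt, fun i hi => by rw [Fin.ext hi]; simp⟩
    | succ n ih =>
      intro j
      rw [Function.iterate_succ_apply']
      obtain ⟨h1, h2⟩ := ih j
      have h3 := hperm ⟨_, h1⟩
      refine ⟨h3 ▸ (img C x ⟨_, h1⟩).isLt, fun i hi => ?_⟩
      have : i = img C x ⟨_, h1⟩ := Fin.ext (hi.trans h3.symm)
      rw [this, hstep, h2 ⟨_, h1⟩ rfl]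
      push_cast
      ring
  have hk0 : k = 0 := by
    haveI : Fact (Nat.Prime 5) := ⟨by norm_num⟩
    have h := (hiter 13 0).2 0 (orbit_spec 0).2.1.symm
    have : (3 : ZMod 5) * k = 0 := by
      rw [show (3 : ZMod 5) = ((13 : ℕ) : ZMod 5) from rfl]
      linear_combination -h
    exact (mul_eq_zero.1 this).resolve_left (ne_of_apply_ne ZMod.val (Nat.succ_ne_zero 2))
  let c : ℕ → ZMod 5 := fun o => if h : firstL.getD o 0 < 65 then f ⟨firstL.getD o 0, h⟩ else 0
  have horb : ∀ j : Fin 65, f j = c (orbL.getD j.val 0) := by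
    intro j
    obtain ⟨h1, -, h3⟩ := orbit_spec j
    have hlt : firstL.getD (orbL.getD j.val 0) 0 < 65 :=
      (by decide +kernel : ∀ o < 5, firstL.getD o 0 < 65) _ h3
    rw [(hiter _ ⟨_, hlt⟩).2 j h1.symm, hk0, mul_zero, add_zero]
    simp only [c, dif_pos hlt]
  have hblk : ∀ m : Fin 4, ((blkL.getD m.val []).map fun i => c (orbL.getD i 0)).sum = 0 := by
    intro m
    obtain ⟨hok, hns, hnd, hmem⟩ := pol_spec m
    set v := polL.getD m.val (0, 0, 0)
    have h := hf (C.dv v) (by rw [C.herm hok hok, Ne, C.eq_zero_iff (Code.hN_lt hok hok)]; exact hns)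
    have hlt : ∀ i ∈ blkL.getD m.val [], i < 65 :=
      (by decide +kernel : ∀ m : Fin 4, ∀ i ∈ blkL.getD m.val [], i < 65) m
    rw [← h, ← List.sum_toFinset _ hnd, ← Finset.sum_filter]
    refine Finset.sum_bij (fun i hi => ⟨i, hlt i (List.mem_toFinset.1 hi)⟩) ?_ ?_ ?_ ?_
    · intro i hi
      rw [Finset.mem_filter, pts, C.herm (rep_ok _).1 hok, C.eq_zero_iff (Code.hN_lt (rep_ok _).1 hok), hmem]
      exact ⟨Finset.mem_univ _, List.mem_toFinset.1 hi⟩
    · intro a ha b hb e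
      exact congrArg Fin.val e
    · intro j hj
      rw [Finset.mem_filter, pts, C.herm (rep_ok j).1 hok, C.eq_zero_iff (Code.hN_lt (rep_ok _).1 hok), hmem] at hj
      exact ⟨j.val, List.mem_toFinset.2 hj.2, rfl⟩
    · intro i hi
      rw [horb]
  have e0 := hblk 0
  have e1 := hblk 1
  have e2 := hblk 2
  have e3 := hblk 3
  simp [blkL, orbL] at e0 e1 e2 e3
  obtain ⟨q1, q2, q3, q4⟩ := solve_const (c 0) (c 1) (c 2) (c 3) (c 4) (by linear_combination e0)
    (by linear_combination e1) (by linear_combination e2) (by linear_combination e3)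
  have hconst : ∀ j, f j = c 0 := by
    intro j
    rw [horb]
    have := (orbit_spec j).2.2
    interval_cases orbL.getD j.val 0 <;> first | rfl | assumption
  refine Subtype.ext (funext fun p => ?_)
  rw [← hfw]
  show f p.1 - f p.2 = 0
  rw [hconst, hconst, sub_self]

omit C in
/-- The large groups. -/
theorem exists_large (hF : Fintype.card F = 16) (N : ℕ) :
    ∃ (H : Type) (_ : Group H) (_ : Finite H), N < Nat.card H ∧
      (∀ p : ℕ, p.Prime → (p ∈ Set.range (orderOf : Cfsg.PSU 3 F 4 → ℕ) ↔ p ∈ Set.range (orderOf : H → ℕ))) ∧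
      (∀ p q : ℕ, p.Prime → q.Prime → p ≠ q →
        (p * q ∈ Set.range (orderOf : Cfsg.PSU 3 F 4 → ℕ) ↔ p * q ∈ Set.range (orderOf : H → ℕ))) := by
  classical
  obtain ⟨C⟩ := exists_code hF
  obtain ⟨σp, σe, σ, -, -, -, -, hσ⟩ := Cfsg.Agent.Classical.exists_usigma (F := F) (q := 4) (by rw [hF]; norm_num)
  have hcard : Nat.card ↥(Cfsg.SU 3 F 4) = 62400 := by
    have := Cfsg.Agent.Local.FS.PSU3Simple.card_SU3 hσ
    norm_num at this
    rw [Nat.card_eq_fintype_card]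
    omega
  obtain ⟨mx, md, mt, ms, mc⟩ := su_mem
  obtain ⟨X, hX⟩ := C.exists_elt hF mx
  obtain ⟨D, hD⟩ := C.exists_elt hF md
  obtain ⟨T, hT⟩ := C.exists_elt hF mt
  obtain ⟨S, hS⟩ := C.exists_elt hF ms
  obtain ⟨P, hP⟩ := C.exists_elt hF mc
  obtain ⟨fx1, fx0, fd1, fd0, ft1, ft0, fs1, fs0, fdt, fds⟩ := elt_facts
  have ord : ∀ (g : ↥(Cfsg.SU 3 F 4)) (A : M3) (r : ℕ) [Fact r.Prime], g.1.1 = C.dM A → A.all okV = true → A.length = 3 →
      powN A r = oneN → A ≠ oneN → orderOf g = r := by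
    intro g A r _ hg hA hl hr hne
    refine orderOf_eq_prime (Subtype.ext (Subtype.ext ?_)) (fun h => hne (C.eq_one_of_dM hA hl ?_))
    · show ((g ^ r).1).1 = (1 : Matrix (Fin 3) (Fin 3) F)
      rw [SubmonoidClass.coe_pow, Matrix.SpecialLinearGroup.coe_pow, hg, ← C.pow hA, hr, C.dM_one]
    · rw [← hg, h]
      rfl
  haveI : Fact (Nat.Prime 13) := ⟨by norm_num⟩
  haveI : Fact (Nat.Prime 5) := ⟨by norm_num⟩
  haveI : Fact (Nat.Prime 3) := ⟨by norm_num⟩
  haveI : Fact (Nat.Prime 2) := ⟨by norm_num⟩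
  have oX : orderOf X = 13 := ord X x13 13 hX (by decide +kernel) rfl fx1 fx0
  have oD : orderOf D = 5 := ord D d5 5 hD (by decide +kernel) rfl fd1 fd0
  have oT : orderOf T = 2 := ord T t2 2 hT (by decide +kernel) rfl ft1 ft0
  have oS : orderOf S = 3 := ord S s3 3 hS (by decide +kernel) rfl fs1 fs0
  have comm : ∀ (g h : ↥(Cfsg.SU 3 F 4)) (A B : M3), g.1.1 = C.dM A → h.1.1 = C.dM B → A.all okV = true → B.all okV = true →
      mmN A B = mmN B A → Commute g h := by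
    intro g h A B hg hh hA hB e
    refine Subtype.ext (Subtype.ext ?_)
    show g.1.1 * h.1.1 = h.1.1 * g.1.1
    rw [hg, hh, ← C.mm hA hB, ← C.mm hB hA, e]
  have h10 : orderOf (T * D) = 2 * 5 := by
    rw [(comm T D t2 d5 hT hD (by decide +kernel) (by decide +kernel) fdt.symm).orderOf_mul_eq_mul_orderOf_of_coprime
      (by rw [oT, oD]; norm_num), oT, oD]
  have h15 : orderOf (S * D) = 3 * 5 := by
    rw [(comm S D s3 d5 hS hD (by decide +kernel) (by decide +kernel) fds.symm).orderOf_mul_eq_mul_orderOf_of_coprime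
      (by rw [oS, oD]; norm_num), oS, oD]
  -- trivial centre
  have hZ : Subgroup.center ↥(Cfsg.SU 3 F 4) = ⊥ := by
    rw [Subgroup.eq_bot_iff_forall]
    intro z hz
    have hd : (z.1.1 : Matrix (Fin 3) (Fin 3) F) * C.dM d5 = C.dM d5 * z.1.1 := by
      rw [← hD]; exact (congrArg (fun g : ↥(Cfsg.SU 3 F 4) => g.1.1) (Subgroup.mem_center_iff.1 hz D)).symm
    have hp : (z.1.1 : Matrix (Fin 3) (Fin 3) F) * C.dM c3 = C.dM c3 * z.1.1 := by
      rw [← hP]; exact (congrArg (fun g : ↥(Cfsg.SU 3 F 4) => g.1.1) (Subgroup.mem_center_iff.1 hz P)).symm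
    set Z : Matrix (Fin 3) (Fin 3) F := z.1.1
    have hne : C.d 8 ≠ C.d 14 := fun h => absurd (C.inj 8 14 (by norm_num) (by norm_num) h) (by norm_num)
    have key : ∀ a, a * C.d 14 = C.d 8 * a → a = 0 := fun a h => by
      by_contra ha
      exact hne (mul_left_cancel₀ ha (by rw [h, mul_comm]))
    have e02 := congrFun (congrFun hd 0) 2
    have e12 := congrFun (congrFun hd 1) 2
    have p00 := congrFun (congrFun hp 0) 0
    have p01 := congrFun (congrFun hp 0) 1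
    have p02 := congrFun (congrFun hp 0) 2
    have p10 := congrFun (congrFun hp 1) 0
    have p11 := congrFun (congrFun hp 1) 1
    have p12 := congrFun (congrFun hp 1) 2
    simp [Matrix.mul_apply, Fin.sum_univ_three, Code.dM, Code.dv, row, d5, c3, C.zero, C.one]
      at e02 e12 p00 p01 p02 p10 p11 p12
    have z02 := key _ e02
    have z12 := key _ e12
    have hscal : Z = Matrix.diagonal fun _ => Z 0 0 := by
      ext i j
      fin_cases i <;> fin_cases j <;>
        simp [Matrix.diagonal] <;> grind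
    have hdet : Z 0 0 ^ 3 = 1 := by
      have := z.1.2
      rw [show (z.1.1 : Matrix (Fin 3) (Fin 3) F) = Z from rfl, hscal, Matrix.det_diagonal, Fin.prod_univ_three] at this
      rw [← this]; ring
    have h5 : Z 0 0 ^ 5 = 1 := by
      have := herm_mul z (Pi.single 0 1) (Pi.single 0 1)
      rw [show (z.1.1 : Matrix (Fin 3) (Fin 3) F) = Z from rfl, hscal] at this
      simp [Cfsg.hermForm, Fin.sum_univ_three, Matrix.mulVec_diagonal, Pi.single_apply] at this
      rw [pow_succ', this]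
    have h1 : Z 0 0 = 1 := by
      have hz0 : (Z 0 0) ^ 6 = 1 := by rw [show 6 = 3 * 2 from rfl, pow_mul, hdet, one_pow]
      rw [pow_succ, h5, one_mul] at hz0
      exact hz0
    refine Subtype.ext (Subtype.ext ?_)
    show Z = 1
    rw [hscal, h1, Matrix.diagonal_one]
  let eL : Cfsg.PSU 3 F 4 ≃* ↥(Cfsg.SU 3 F 4) := (QuotientGroup.quotientMulEquivOfEq hZ).trans QuotientGroup.quotientBot
  have hrange : Set.range (orderOf : Cfsg.PSU 3 F 4 → ℕ) = Set.range (orderOf : ↥(Cfsg.SU 3 F 4) → ℕ) := by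
    ext d
    exact ⟨fun ⟨g, hg⟩ => ⟨eL g, (MulEquiv.orderOf_eq _ g).trans hg⟩,
      fun ⟨g, hg⟩ => ⟨eL.symm g, (MulEquiv.orderOf_eq _ g).trans hg⟩⟩
  rw [hrange]
  letI := modAction C
  haveI : Finite ↥(Wmod C) := inferInstance
  haveI := Wmod_nontrivial C
  have h5 := Wmod_five C
  haveI : Finite (SemiSpec.Semi ↥(Cfsg.SU 3 F 4) ↥(Wmod C)) := SemiSpec.finite_semi ↥(Cfsg.SU 3 F 4) ↥(Wmod C)
  haveI := SemiSpec.base_normal ↥(Cfsg.SU 3 F 4) ↥(Wmod C)
  obtain ⟨H, iG, iF, hN, hH⟩ := exists_large_isospectral (SemiSpec.base ↥(Cfsg.SU 3 F 4) ↥(Wmod C))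
    (SemiSpec.base_ne_bot ↥(Cfsg.SU 3 F 4) ↥(Wmod C)) (by norm_num : Nat.Prime 5) (SemiSpec.base_pow ↥(Cfsg.SU 3 F 4) ↥(Wmod C) h5) N
  have hup : ∀ d, d ∈ Set.range (orderOf : ↥(Cfsg.SU 3 F 4) → ℕ) → d ∈ Set.range (orderOf : SemiSpec.Semi ↥(Cfsg.SU 3 F 4) ↥(Wmod C) → ℕ) := by
    rintro _ ⟨g, rfl⟩; exact ⟨_, SemiSpec.orderOf_el_zero g⟩
  have hdvd : ∀ (g : ↥(Cfsg.SU 3 F 4)) d, d ∣ orderOf g → d ∈ Set.range (orderOf : ↥(Cfsg.SU 3 F 4) → ℕ) := fun g d hd =>
    ⟨g ^ (orderOf g / d), orderOf_pow_orderOf_div (orderOf_pos g).ne' hd⟩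
  have hfix13 : ∀ g : ↥(Cfsg.SU 3 F 4), orderOf g = 13 → ∀ w : ↥(Wmod C), g • w = w → w = 0 := by
    intro g hg w hw
    have syl : ∀ a : ↥(Cfsg.SU 3 F 4), orderOf a = 13 → ∃ S : Sylow 13 ↥(Cfsg.SU 3 F 4), (S : Subgroup ↥(Cfsg.SU 3 F 4)) = Subgroup.zpowers a := by
      intro a ha
      refine ⟨Sylow.ofCard (Subgroup.zpowers a) ?_, rfl⟩
      rw [Nat.card_zpowers, ha, hcard]
      have h2 : (62400 : ℕ).factorization 13 = 1 := by
        rw [show (62400 : ℕ) = 13 ^ 1 * 4800 by norm_num,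
          Nat.factorization_mul (by norm_num) (by norm_num), Finsupp.add_apply, Nat.Prime.factorization_pow (by norm_num),
          Finsupp.single_eq_same, Nat.factorization_eq_zero_of_not_dvd (by norm_num), add_zero]
      rw [h2, pow_one]
    obtain ⟨S₁, hS₁⟩ := syl X oX
    obtain ⟨S₂, hS₂⟩ := syl g hg
    obtain ⟨c, hc⟩ := MulAction.exists_smul_eq ↥(Cfsg.SU 3 F 4) S₂ S₁
    have hmem : c * g * c⁻¹ ∈ Subgroup.zpowers X := by
      rw [← hS₁, ← hc, Sylow.coe_subgroup_smul, Subgroup.mem_pointwise_smul_iff_inv_smul_mem, hS₂]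
      simp [MulAut.conj_apply, mul_assoc]
    have h2 : Subgroup.zpowers (c * g * c⁻¹) = Subgroup.zpowers X := by
      refine Subgroup.eq_of_le_of_card_ge (Subgroup.zpowers_le.2 hmem) ?_
      rw [Nat.card_zpowers, Nat.card_zpowers, oX]
      exact le_of_eq (by rw [← MulAut.conj_apply, MulEquiv.orderOf_eq, hg])
    have hle : Subgroup.zpowers (c * g * c⁻¹) ≤ MulAction.stabilizer ↥(Cfsg.SU 3 F 4) (c • w) := by
      rw [Subgroup.zpowers_le, MulAction.mem_stabilizer_iff, mul_smul, mul_smul, inv_smul_smul, hw]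
    rw [h2] at hle
    have h0 := fix_x C X hX (c • w) (MulAction.mem_stabilizer_iff.1 (hle (Subgroup.mem_zpowers X)))
    rwa [smul_eq_zero_iff_eq] at h0
  refine ⟨H, iG, inferInstance, by rwa [Nat.card_eq_fintype_card], fun p hp => ?_, fun p q hp hq hpq => ?_⟩
  · rw [hH]
    refine ⟨hup p, ?_⟩
    rintro ⟨x, hx⟩
    have h := SemiSpec.orderOf_dvd_mul h5 x
    rw [hx] at h
    rcases hp.dvd_mul.1 h with h | h
    · rw [(Nat.prime_dvd_prime_iff_eq hp (by norm_num : Nat.Prime 5)).1 h]; exact ⟨D, oD⟩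
    · exact hdvd _ _ h
  · rw [hH]
    refine ⟨hup _, ?_⟩
    rintro ⟨x, hx⟩
    have key : ∀ p q : ℕ, p.Prime → q.Prime → p ≠ q → orderOf x = p * q → q ≠ 5 → p * q ∈ Set.range (orderOf : ↥(Cfsg.SU 3 F 4) → ℕ) := by
      intro p q hp hq hpq hx hq5
      have h := SemiSpec.orderOf_dvd_mul h5 x
      have hr := SemiSpec.orderOf_right_dvd x
      rw [hx] at h hr
      have hqr : q ∣ orderOf x.right := by
        rcases hq.dvd_mul.1 ((dvd_mul_left q p).trans h) with h' | h'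
        · exact absurd ((Nat.prime_dvd_prime_iff_eq hq (by norm_num : Nat.Prime 5)).1 h') hq5
        · exact h'
      by_cases hpr : p ∣ orderOf x.right
      · exact hdvd _ _ (((Nat.coprime_primes hp hq).2 hpq).mul_dvd_of_dvd_of_dvd hpr hqr)
      have hp5 : p = 5 := by
        rcases hp.dvd_mul.1 ((dvd_mul_right p q).trans h) with h' | h'
        · exact (Nat.prime_dvd_prime_iff_eq hp (by norm_num : Nat.Prime 5)).1 h'
        · exact absurd h' hpr
      have ho : orderOf x.right = q := by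
        refine Nat.dvd_antisymm ?_ hqr
        exact ((hp.coprime_iff_not_dvd.2 hpr).symm).dvd_of_dvd_mul_left hr
      have hnf : ¬ ∀ w : ↥(Wmod C), x.right • w = w → w = 0 := fun hf => by
        have := SemiSpec.orderOf_eq_of_fpf x hf
        rw [hx, ho] at this
        exact hp.ne_one (Nat.eq_of_mul_eq_mul_right hq.pos (this.trans (one_mul q).symm))
      have hqd : q ∣ 62400 := hcard ▸ ho ▸ orderOf_dvd_natCard x.right
      rw [show (62400 : ℕ) = 2 ^ 6 * 3 * 5 ^ 2 * 13 by norm_num] at hqd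
      have e : ∀ {r k : ℕ}, r.Prime → q ∣ r ^ k → q = r := fun hr h =>
        (Nat.prime_dvd_prime_iff_eq hq hr).1 (hq.dvd_of_dvd_pow h)
      rcases hq.dvd_mul.1 hqd with hqd | hqd
      · rcases hq.dvd_mul.1 hqd with hqd | hqd
        · rcases hq.dvd_mul.1 hqd with hqd | hqd
          · rw [hp5, e Nat.prime_two hqd, mul_comm]; exact ⟨_, h10⟩
          · rw [hp5, (Nat.prime_dvd_prime_iff_eq hq Nat.prime_three).1 hqd, mul_comm]; exact ⟨_, h15⟩
        · exact absurd (e (by norm_num) hqd) hq5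
      · exact absurd (hfix13 _ (ho.trans ((Nat.prime_dvd_prime_iff_eq hq (by norm_num)).1 hqd))) hnf
    by_cases hq5 : q = 5
    · have := key q p hq hp (Ne.symm hpq) (by rw [hx, mul_comm]) (by rintro rfl; exact hpq hq5.symm)
      rwa [mul_comm] at this
    · exact key p q hp hq hpq hx hq5

end Cfsg.Agent.Lie.U34
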