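import Cfsg.Agent.Lib.Lie.Unipotent
import Mathlib.Algebra.CharP.Lemmas

/-!
Exponent of the unipotent subgroup from a bound on a weight functional.
-/

set_option autoImplicit false

namespace Cfsg.Agent.Lie

open Cfsg.Lie Matrix
open scoped MatrixGroups

variable {D : ChevalleyDatum} {F : Type*} [Field F]

/-- The entries shift the weight up by at least k. -/
def RaisesW (w : ℕ → ℤ) (k : ℤ) (M : Matrix D.Idx D.Idx F) : Prop :=
  ∀ p q, M p q ≠ 0 → k ≤ Facts.hgtW (D := D) w p - Facts.hgtW (D := D) w q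

theorem RaisesW.mul {w : ℕ → ℤ} {a b : ℤ} {M N : Matrix D.Idx D.Idx F} (hM : RaisesW w a M)
    (hN : RaisesW w b N) : RaisesW w (a + b) (M * N) := by
  intro p q h
  rw [Matrix.mul_apply] at h
  obtain ⟨r, -, hr⟩ := Finset.exists_ne_zero_of_sum_ne_zero h
  have h1 := hM p r (left_ne_zero_of_mul hr)
  have h2 := hN r q (right_ne_zero_of_mul hr)
  omega

theorem RaisesW.pow {w : ℕ → ℤ} {M : Matrix D.Idx D.Idx F} (hM : RaisesW w 1 M) :
    ∀ n : ℕ, RaisesW w n (M ^ n)
  | 0 => fun p q h => by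
    by_cases hpq : p = q
    · subst hpq; simp
    · simp [hpq] at h
  | n + 1 => by
    rw [pow_succ]
    exact_mod_cast (RaisesW.pow hM n).mul hM

theorem raisesW_U (hF : Facts D) (w : ℕ → ℤ)
    (hpos : ∀ r, r < D.nroots → D.nroots / 2 ≤ r → 1 ≤ psiOf D w r)
    {g : GL D.Idx F} (hg : g ∈ D.posUnipotent F) : RaisesW w 1 ((g : Matrix D.Idx D.Idx F) - 1) := by
  have add : ∀ {M N : Matrix D.Idx D.Idx F}, RaisesW w 1 M → RaisesW w 1 N → RaisesW w 1 (M + N) := by
    intro M N hM hN p q h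
    by_cases hp : M p q = 0
    · exact hN p q (by simpa [hp] using h)
    · exact hM p q hp
  have key : ∀ M N : Matrix D.Idx D.Idx F, RaisesW w 1 (M - 1) → RaisesW w 1 (N - 1) →
      RaisesW w 1 (M * N - 1) := by
    intro M N hM hN
    rw [show M * N - 1 = (M - 1) * (N - 1) + ((M - 1) + (N - 1)) by noncomm_ring]
    refine add (fun p q h => ?_) (add hM hN)
    have := (hM.mul hN) p q h
    omega
  have gen : ∀ r, r < D.nroots → D.nroots / 2 ≤ r → ∀ t : F, RaisesW w 1 (D.x F r t - 1) := by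
    intro r hr hr' t p q h
    obtain ⟨k, hk, he⟩ := hF.x_sub_one_suppW w r hr t p q h
    have : (1 : ℤ) ≤ k := by exact_mod_cast hk
    have := hpos r hr hr'
    rw [he]
    nlinarith
  rw [hF.posUnipotent_eq F] at hg
  suffices h : RaisesW w 1 ((g : Matrix D.Idx D.Idx F) - 1) ∧
      RaisesW w 1 (((g⁻¹ : GL D.Idx F) : Matrix D.Idx D.Idx F) - 1) from h.1
  induction hg using Subgroup.closure_induction with
  | mem x hx =>
    obtain ⟨r, hr, t, rfl⟩ := hx
    obtain ⟨h1, h2⟩ := Facts.mem_posL.1 hr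
    refine ⟨gen r h2 h1 t, ?_⟩
    rw [hF.sys_x, ← hF.xg_neg]
    exact gen r h2 h1 (-t)
  | one => simp [RaisesW]
  | mul a b _ _ ha hb =>
    refine ⟨?_, ?_⟩
    · rw [Units.val_mul]; exact key _ _ ha.1 hb.1
    · rw [_root_.mul_inv_rev, Units.val_mul]; exact key _ _ hb.2 ha.2
  | inv a _ ha => exact ⟨ha.2, by rw [inv_inv]; exact ha.1⟩

theorem pow_prime_pow_eq_one (hF : Facts D) (w : ℕ → ℤ) (p : ℕ) [Fact p.Prime] [CharP F p] (n : ℕ)
    (hpos : ∀ r, r < D.nroots → D.nroots / 2 ≤ r → 1 ≤ psiOf D w r)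
    (hbd : ∀ a b : D.Idx, Facts.hgtW (D := D) w a - Facts.hgtW (D := D) w b < (p ^ n : ℕ))
    {g : GL D.Idx F} (hg : g ∈ D.posUnipotent F) : g ^ p ^ n = 1 := by
  apply Units.ext
  rw [Units.val_pow_eq_pow_val, Units.val_one]
  haveI : Nonempty D.Idx ∨ IsEmpty D.Idx := (isEmpty_or_nonempty _).symm
  rcases this with h | h
  · have h0 := (raisesW_U hF w hpos hg).pow (p ^ n)
    have hz : ((g : Matrix D.Idx D.Idx F) - 1) ^ p ^ n = 0 := by
      ext a b
      by_contra hne
      have := h0 a b hne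
      have := hbd a b
      omega
    rw [sub_pow_char_pow_of_commute _ _ (Commute.one_right _), one_pow, sub_eq_zero] at hz
    exact hz
  · exact Subsingleton.elim _ _

end Cfsg.Agent.Lie
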