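import Cfsg.Agent.Lib.Lie.CoxElement

/-!
The centre of a Weyl group and its generation by a Coxeter element and reflections.
-/

set_option autoImplicit false
set_option maxRecDepth 100000

namespace Cfsg.Agent.Lie

open Cfsg.Lie

/-- The images of the simple weight vectors under a word. -/
def colImg (cols : List (List ℤ)) (ω : List ℕ) : List (List ℤ) :=
  cols.map fun a => ω.foldr (fun i y => reflW (cols.getD i []) i y) a

/-- Each new word is the product of earlier ones. -/
def okDerive (cols : List (List ℤ)) (base : List (List ℕ)) : List (List ℕ × List ℕ) → Bool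
  | [] => (List.range cols.length).all fun i => base.contains [i]
  | (z, ps) :: rest =>
      z.all (fun i => decide (i < cols.length)) && ps.all (fun q => decide (q < base.length)) &&
      colImg cols z == colImg cols (ps.flatMap fun q => base.getD q []) &&
      okDerive cols (base ++ [z]) rest

/-- The only roots negated by a simple reflection are that simple root and its negative. -/
def okNegated (D : ChevalleyDatum) : Bool :=
  (List.range D.rank).all fun i => (List.range D.nroots).all fun x =>
    !(D.reflectRoot i x == D.neg x) || x == D.simple i || x == D.neg (D.simple i)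

/-- A choice of signs that keeps all pairings is constant. -/
def SignRigid (D : ChevalleyDatum) : Prop :=
  ∀ b : Fin D.rank → Bool,
    (∀ i j, b i = true → b j = false → D.pairing (D.simple i.val) (D.neg (D.simple j.val)) =
      D.pairing (D.simple i.val) (D.simple j.val)) → ∀ i j, b i = b j

instance (D : ChevalleyDatum) : Decidable (SignRigid D) := by unfold SignRigid; infer_instance

/-- The given power of the Coxeter word is minus the identity on the simple roots. -/
def okMinusOne (D : ChevalleyDatum) (cols : List (List ℤ)) (r : ℕ) : Bool :=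
  ((List.range D.rank).all fun m => coxIter cols r (cols.getD m []) == wList D (D.neg (D.simple m))) &&
  ((List.range D.rank).any fun m => !(wList D (D.neg (D.simple m)) == cols.getD m []))

/-- A word sends each simple root to minus a simple root, not always its own. -/
def okTwistWord (D : ChevalleyDatum) (cols : List (List ℤ)) (ω : List ℕ) (π : List ℕ) : Bool :=
  ω.all (fun i => decide (i < D.rank)) &&
  ((List.range D.rank).all fun m => decide (π.getD m 0 < D.rank) &&
    (colImg cols ω).getD m [] == wList D (D.neg (D.simple (π.getD m 0)))) &&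
  ((List.range D.rank).any fun m => !(D.simple (π.getD m 0) == D.simple m))

namespace Facts

variable {D : ChevalleyDatum} (hF : Facts D) {cols : List (List ℤ)}

/-- The product along a word of numbers. -/
def prN (ω : List ℕ) : hF.weyl :=
  (ω.map fun i => if h : i < D.rank then hF.wS ⟨i, h⟩ else 1).prod

theorem prN_append (u v : List ℕ) : hF.prN (u ++ v) = hF.prN u * hF.prN v := by simp [prN]

theorem prN_range : hF.prN (List.range D.rank) = hF.refSys.pr (List.finRange D.rank) := by
  rw [prN, RefSystem.pr, ← List.map_coe_finRange_eq_range, List.map_map]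
  congr 1
  exact List.map_congr_left fun i _ => dif_pos i.isLt

theorem cols_eq (hcols : okCols D cols = true) :
    cols = (List.range D.rank).map fun i => wList D (D.simple i) := by
  simpa [okCols] using hcols

theorem colImg_get (hcols : okCols D cols = true) (ω : List ℕ) (hω : ∀ i ∈ ω, i < D.rank) {m : ℕ}
    (hm : m < D.rank) :
    (colImg cols ω).getD m [] =
      wList D (hF.prN ω • (⟨D.simple m, hF.simple_lt m hm⟩ : Fin D.nroots) : Fin D.nroots).val := by
  have hc := cols_eq hcols
  induction ω with
  | nil => simp [colImg, prN, hc, List.getElem?_eq_getElem, hm]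
  | cons i ω ih =>
    have hi : i < D.rank := hω i (by simp)
    have ih' := ih fun k hk => hω k (List.mem_cons_of_mem _ hk)
    rw [show hF.prN (i :: ω) = hF.wS ⟨i, hi⟩ * hF.prN ω by simp [prN, hi], mul_smul, wS_smul,
      hF.wList_refl hi (Fin.isLt _), ← ih']
    simp [colImg, hc, actW, List.getElem?_eq_getElem, hm, hi]

theorem prN_eq_of_colImg (hcols : okCols D cols = true) {u v : List ℕ} (hu : ∀ i ∈ u, i < D.rank)
    (hv : ∀ i ∈ v, i < D.rank) (h : colImg cols u = colImg cols v) : hF.prN u = hF.prN v := by
  rw [← inv_mul_eq_one]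
  refine (hF.eq_one_of_fix_simple _ fun m => ?_)
  rw [mul_smul, inv_smul_eq_iff]
  refine Fin.ext (hF.wList_inj (Fin.isLt _) (Fin.isLt _) ?_)
  show wList D (hF.prN v • (⟨D.simple m.val, hF.simple_lt m m.isLt⟩ : Fin D.nroots) : Fin D.nroots).val =
    wList D (hF.prN u • (⟨D.simple m.val, hF.simple_lt m m.isLt⟩ : Fin D.nroots) : Fin D.nroots).val
  rw [← hF.colImg_get hcols v hv m.isLt, ← hF.colImg_get hcols u hu m.isLt, h]

theorem mem_of_derive (hcols : okCols D cols = true) (K : Subgroup hF.weyl) :
    ∀ (rest : List (List ℕ × List ℕ)) (base : List (List ℕ)),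
      (∀ w ∈ base, hF.prN w ∈ K ∧ ∀ i ∈ w, i < D.rank) → okDerive cols base rest = true → K = ⊤ := by
  have hlen : cols.length = D.rank := by simp [cols_eq hcols]
  intro rest
  induction rest with
  | nil =>
    intro base hb h
    simp only [okDerive, List.all_eq_true, List.mem_range, hlen, List.contains_iff_mem] at h
    rw [eq_top_iff, ← hF.wS_gen, Subgroup.closure_le]
    rintro _ ⟨i, rfl⟩
    have := (hb _ (h i.val i.isLt)).1
    simpa [prN] using this
  | cons zp rest ih =>
    obtain ⟨z, ps⟩ := zp
    intro base hb h
    simp only [okDerive, Bool.and_eq_true, List.all_eq_true, decide_eq_true_eq, beq_iff_eq, hlen] at h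
    obtain ⟨⟨⟨hz, hps⟩, heq⟩, hrest⟩ := h
    refine ih (base ++ [z]) (fun w hw => ?_) hrest
    rcases List.mem_append.1 hw with hw | hw
    · exact hb w hw
    rw [List.mem_singleton.1 hw]
    refine ⟨?_, hz⟩
    have hmem : ∀ q ∈ ps, base.getD q [] ∈ base := fun q hq => by
      rw [List.getD_eq_getElem _ _ (hps q hq)]
      exact List.getElem_mem _
    rw [hF.prN_eq_of_colImg hcols hz (fun i hi => by
      obtain ⟨q, hq, hiq⟩ := List.mem_flatMap.1 hi
      exact (hb _ (hmem q hq)).2 i hiq) heq]
    clear heq hrest hw
    induction ps with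
    | nil => simp [prN, K.one_mem]
    | cons q ps ih' =>
      rw [List.flatMap_cons, prN_append]
      exact K.mul_mem (hb _ (hmem q (by simp))).1
        (ih' (fun r hr => hps r (List.mem_cons_of_mem _ hr)) fun r hr => hmem r (List.mem_cons_of_mem _ hr))

theorem prN_reverse (ω : List ℕ) : hF.prN ω.reverse = (hF.prN ω)⁻¹ := by
  rw [prN, prN, List.prod_inv_reverse, List.map_map, List.map_reverse]
  congr 2
  refine List.map_congr_left fun i _ => ?_
  dsimp only [Function.comp_apply]
  split_ifs with h
  · exact (inv_eq_of_mul_eq_one_right (hF.wS_sq _)).symm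
  · exact inv_one.symm

/-- A central element fixes all simple roots or negates all. -/
theorem central_signs (hneg : okNegated D = true) (hsign : SignRigid D) {w : hF.weyl}
    (hw : ∀ v, v * w = w * v) :
    (∀ m, w • hF.refSys.α m = hF.refSys.α m) ∨
      ∀ m, w • hF.refSys.α m = hF.refSys.neg (hF.refSys.α m) := by
  classical
  simp only [okNegated, List.all_eq_true, List.mem_range, Bool.or_eq_true, Bool.not_eq_true',
    beq_eq_false_iff_ne, beq_iff_eq] at hneg
  have hpm : ∀ m, w • hF.refSys.α m = hF.refSys.α m ∨ w • hF.refSys.α m = hF.refSys.neg (hF.refSys.α m) := by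
    intro m
    have h1 : hF.refSys.s m • w • hF.refSys.α m = hF.refSys.neg (w • hF.refSys.α m) := by
      rw [← mul_smul, hw, mul_smul, hF.refSys.s_α, hF.refSys.smul_neg]
    rcases hneg m.val m.isLt (w • hF.refSys.α m : Fin D.nroots).val (Fin.isLt _) with (h | h) | h
    · exact absurd (congrArg Fin.val h1) h
    · exact Or.inl (Fin.ext h)
    · exact Or.inr (Fin.ext h)
  let b : Fin D.rank → Bool := fun m => decide (w • hF.refSys.α m = hF.refSys.α m)
  have hb : ∀ i j, b i = b j := hsign b fun i j hi hj => by
    simp only [b, decide_eq_true_eq, decide_eq_false_iff_not] at hi hj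
    have := hF.weyl_pairing w (hF.refSys.α i) (hF.refSys.α j)
    rw [hi, (hpm j).resolve_left hj] at this
    exact this
  by_cases h : ∀ m, w • hF.refSys.α m = hF.refSys.α m
  · exact Or.inl h
  · obtain ⟨m₀, hm₀⟩ := not_forall.1 h
    refine Or.inr fun m => (hpm m).resolve_left fun hm => hm₀ ?_
    simpa [b, hm] using hb m₀ m

theorem eq_of_simple {u v : hF.weyl} (h : ∀ m, u • hF.refSys.α m = v • hF.refSys.α m) : u = v :=
  (inv_mul_eq_one.1 (hF.eq_one_of_fix_simple (v⁻¹ * u) fun m => by
    rw [mul_smul, h, inv_smul_smul])).symm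

/-- An element sending every simple root to a positive root is trivial. -/
theorem eq_one_of_pos (v : hF.weyl) (h : ∀ m, v • hF.refSys.α m ∈ hF.refSys.P) : v = 1 := by
  obtain ⟨ω, hω, hlen⟩ := hF.refSys.exists_reduced v
  rcases List.eq_nil_or_concat ω with e | ⟨ω', j, e⟩
  · rw [← hω, e]; rfl
  · have h1 : hF.refSys.len (v * hF.refSys.s j) = hF.refSys.len v + 1 :=
      hF.refSys.len_mul_s_of_mem (h j)
    have h2 : v * hF.refSys.s j = hF.refSys.pr ω' := by
      rw [← hω, e, List.concat_eq_append, RefSystem.pr_append, RefSystem.pr_singleton, mul_assoc,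
        hF.refSys.sq, mul_one]
    have h3 := hF.refSys.len_pr_le ω'
    rw [← h2, h1, ← hlen, e, List.concat_eq_append, List.length_append, List.length_singleton] at h3
    omega

/-- The centre is generated by the power of the Coxeter element that is minus one. -/
theorem center_minus_one (h0 : Facts.okCoroot D = true) (hcols : okCols D cols = true)
    (hneg : okNegated D = true) (hsign : SignRigid D) {r : ℕ} (hok : okMinusOne D cols r = true) :
    Nat.card (Subgroup.center hF.weyl) = 2 ∧
      Subgroup.center hF.weyl ≤ Subgroup.zpowers (hF.refSys.pr (List.finRange D.rank)) := by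
  simp only [okMinusOne, Bool.and_eq_true, List.all_eq_true, List.any_eq_true, List.mem_range,
    beq_iff_eq, Bool.not_eq_true', beq_eq_false_iff_ne] at hok
  have hc := cols_eq hcols
  set c := hF.refSys.pr (List.finRange D.rank) with hcdef
  have hz : ∀ m, (c ^ r) • hF.refSys.α m = hF.refSys.neg (hF.refSys.α m) := fun m => by
    refine Fin.ext (hF.wList_inj (Fin.isLt _) (Fin.isLt _) ?_)
    rw [hcdef, ← pr_coxWord hF r, hF.wList_pr, actWord_coxWord (fun _ => hcols) h0]
    have h1 := hok.1 m.val m.isLt
    simp only [hc, List.getD_eq_getElem?_getD, List.getElem?_map, List.getElem?_range m.isLt,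
      Option.map_some, Option.getD_some] at h1
    rw [hc]
    exact h1
  have hzc : c ^ r ∈ Subgroup.center hF.weyl := by
    rw [Subgroup.mem_center_iff]
    intro v
    induction v using hF.weyl_induction with
    | one => simp
    | step i v ih =>
      have hi : hF.wS i * c ^ r = c ^ r * hF.wS i := by
        have hfix : (hF.wS i * c ^ r) • hF.refSys.α i = hF.refSys.α i := by
          rw [mul_smul, hz, hF.refSys.smul_neg]
          show hF.refSys.neg (hF.refSys.s i • hF.refSys.α i) = _
          rw [hF.refSys.s_α, hF.refSys.neg_neg]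
        have h2 := mul_inv_eq_iff_eq_mul.1 (hF.weyl_conj (hF.wS i * c ^ r) i i hfix)
        rw [← mul_assoc (hF.wS i) (hF.wS i), hF.wS_sq, one_mul] at h2
        calc hF.wS i * c ^ r = hF.wS i * c ^ r * (hF.wS i * hF.wS i) := by rw [hF.wS_sq, mul_one]
          _ = c ^ r * hF.wS i := by rw [← mul_assoc, h2]
      rw [mul_assoc, ih, ← mul_assoc, hi, mul_assoc]
  have hne : c ^ r ≠ 1 := fun e => by
    obtain ⟨m, hm, hmne⟩ := hok.2
    refine hmne ?_
    have := congrArg (fun y : Fin D.nroots => wList D y.val) (hz ⟨m, hm⟩)
    simp only [e, one_smul] at this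
    simp only [hc, List.getD_eq_getElem?_getD, List.getElem?_map, List.getElem?_range hm,
      Option.map_some, Option.getD_some]
    exact this.symm
  have hall : ∀ w ∈ Subgroup.center hF.weyl, w = 1 ∨ w = c ^ r := fun w hw => by
    rcases hF.central_signs hneg hsign (Subgroup.mem_center_iff.1 hw) with h | h
    · exact Or.inl (hF.eq_one_of_fix_simple w h)
    · exact Or.inr (hF.eq_of_simple fun m => by rw [h, hz])
  refine ⟨?_, fun w hw => ?_⟩
  · have : (Subgroup.center hF.weyl : Set hF.weyl) = {1, c ^ r} := Set.ext fun w =>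
      ⟨hall w, fun h => by rcases h with rfl | rfl; exacts [Subgroup.one_mem _, hzc]⟩
    rw [← SetLike.coe_sort_coe, this, Nat.card_coe_set_eq, Set.ncard_pair hne.symm]
  · rcases hall w hw with rfl | rfl
    · exact Subgroup.one_mem _
    · exact Subgroup.pow_mem _ (Subgroup.mem_zpowers c) r

/-- The centre is trivial when the longest element is not minus one. -/
theorem center_eq_bot_word (hcols : okCols D cols = true) (hneg : okNegated D = true) (hsign : SignRigid D)
    {ω π : List ℕ} (hok : okTwistWord D cols ω π = true) : Subgroup.center hF.weyl = ⊥ := by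
  simp only [okTwistWord, Bool.and_eq_true, List.all_eq_true, List.any_eq_true, List.mem_range,
    beq_iff_eq, Bool.not_eq_true', beq_eq_false_iff_ne, decide_eq_true_eq] at hok
  rw [Subgroup.eq_bot_iff_forall]
  intro w hw
  rcases hF.central_signs hneg hsign (Subgroup.mem_center_iff.1 hw) with h | h
  · exact hF.eq_one_of_fix_simple w h
  exfalso
  have hv : ∀ (m : Fin D.rank), (w * hF.prN ω) • hF.refSys.α m =
      hF.refSys.α ⟨π.getD m.val 0, (hok.1.2 m m.isLt).1⟩ := by
    intro m
    have e : hF.prN ω • hF.refSys.α m = hF.refSys.neg (hF.refSys.α ⟨π.getD m.val 0, (hok.1.2 m m.isLt).1⟩) := by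
      refine Fin.ext (hF.wList_inj (Fin.isLt _) (Fin.isLt _) ?_)
      exact (hF.colImg_get hcols ω hok.1.1 m.isLt).symm.trans (hok.1.2 m m.isLt).2
    rw [mul_smul, e, hF.refSys.smul_neg, h, hF.refSys.neg_neg]
  have h1 := hF.eq_one_of_pos _ fun m => by rw [hv]; exact hF.refSys.α_mem _
  obtain ⟨m, hm, hne⟩ := hok.2
  refine hne ?_
  have := hv ⟨m, hm⟩
  rw [h1, one_smul] at this
  exact (congrArg Fin.val this).symm

end Facts

end Cfsg.Agent.Lie
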